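import Mathlib
import Cfsg.Prelude.Def_GeometricClasses
import Cfsg.Agent.Lib.Helper27.ASC.Defs

set_option autoImplicit false

namespace Cfsg.Agent.Lib.Helper27.ASC

open Cfsg Cfsg.Geo
open scoped MatrixGroups Matrix

variable {n : ℕ} {F : Type*} [Field F] [Fintype F]

theorem ascschurn_aux {H N : Subgroup (GL (Fin n) F)} (hN : NormalIn N H) (h : GL (Fin n) F)
    (hh : h ∈ H) (k : Matrix (Fin n) (Fin n) F) (hk : k ∈ centAlg N) :
    (h : Matrix (Fin n) (Fin n) F) * k * ((h⁻¹ : GL (Fin n) F) : Matrix (Fin n) (Fin n) F) ∈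
      centAlg N := by
  rw [Subalgebra.mem_centralizer_iff] at hk ⊢
  rintro _ ⟨x, hx, rfl⟩
  have hx' : h⁻¹ * x * h⁻¹⁻¹ ∈ N := hN.2 h⁻¹ (H.inv_mem hh) x hx
  rw [inv_inv] at hx'
  have h1 := hk _ ⟨_, hx', rfl⟩
  simp only [Units.val_mul] at h1
  have e1 : (h : Matrix (Fin n) (Fin n) F) * ((h⁻¹ : GL (Fin n) F) : Matrix (Fin n) (Fin n) F) = 1 := by
    rw [← Units.val_mul, mul_inv_cancel, Units.val_one]
  have e2 : ((h⁻¹ : GL (Fin n) F) : Matrix (Fin n) (Fin n) F) * (h : Matrix (Fin n) (Fin n) F) = 1 := by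
    rw [← Units.val_mul, inv_mul_cancel, Units.val_one]
  calc (x : Matrix (Fin n) (Fin n) F) * ((h : Matrix (Fin n) (Fin n) F) * k *
        ((h⁻¹ : GL (Fin n) F) : Matrix (Fin n) (Fin n) F))
      = (h : Matrix (Fin n) (Fin n) F) * ((((h⁻¹ : GL (Fin n) F) : Matrix (Fin n) (Fin n) F) *
          (x : Matrix (Fin n) (Fin n) F) * (h : Matrix (Fin n) (Fin n) F)) * k) *
          ((h⁻¹ : GL (Fin n) F) : Matrix (Fin n) (Fin n) F) := by
        simp only [Matrix.mul_assoc]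
        rw [← Matrix.mul_assoc (h : Matrix (Fin n) (Fin n) F)
          ((h⁻¹ : GL (Fin n) F) : Matrix (Fin n) (Fin n) F), e1, Matrix.one_mul]
    _ = (h : Matrix (Fin n) (Fin n) F) * (k * (((h⁻¹ : GL (Fin n) F) : Matrix (Fin n) (Fin n) F) *
          (x : Matrix (Fin n) (Fin n) F) * (h : Matrix (Fin n) (Fin n) F))) *
          ((h⁻¹ : GL (Fin n) F) : Matrix (Fin n) (Fin n) F) := by rw [h1]
    _ = (h : Matrix (Fin n) (Fin n) F) * k * ((h⁻¹ : GL (Fin n) F) : Matrix (Fin n) (Fin n) F) *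
          (x : Matrix (Fin n) (Fin n) F) := by
        simp only [Matrix.mul_assoc]
        rw [e1, Matrix.mul_one]

/-- SCHUR-N -/
theorem normalizes_cent {H N : Subgroup (GL (Fin n) F)} (hN : NormalIn N H) :
    H ≤ subalgebraNormalizer (centAlg N) := by
  intro h hh k
  constructor
  · exact ascschurn_aux hN h hh k
  · intro hk
    have h2 := ascschurn_aux hN h⁻¹ (H.inv_mem hh) _ hk
    rw [inv_inv] at h2
    have e2 : ((h⁻¹ : GL (Fin n) F) : Matrix (Fin n) (Fin n) F) * (h : Matrix (Fin n) (Fin n) F) = 1 := by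
      rw [← Units.val_mul, inv_mul_cancel, Units.val_one]
    have e3 : ((h⁻¹ : GL (Fin n) F) : Matrix (Fin n) (Fin n) F) *
        ((h : Matrix (Fin n) (Fin n) F) * k * ((h⁻¹ : GL (Fin n) F) : Matrix (Fin n) (Fin n) F)) *
        (h : Matrix (Fin n) (Fin n) F) = k := by
      simp only [Matrix.mul_assoc]
      rw [e2, Matrix.mul_one, ← Matrix.mul_assoc, e2, Matrix.one_mul]
    rw [e3] at h2
    exact h2

end Cfsg.Agent.Lib.Helper27.ASC
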