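import Mathlib
import Cfsg.Agent.Lib.Helper13.S5955.Defs2
import Cfsg.Agent.Lib.helper14.SpSLa

set_option autoImplicit false

/-!
# S5955 row X4: every abstract context of dimension `2d` is isometric to one on the standard space.
-/

namespace Cfsg.Agent.Lib.Helper13.S5955

open Polynomial Module

/-- X4 [M] TRANSPORT: every abstract context of dimension `2d` is isometric to one on the
standard space. -/
theorem transport {F : Type*} [Field F] {V' : Type*} [AddCommGroup V'] [Module F V']
    [FiniteDimensional F V'] {r : ℕ} (B' : LinearMap.BilinForm F V') (x' : Module.End F V')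
    (h : SCtx r B' x') (d : ℕ) (hV : finrank F V' = 2 * d) :
    ∃ (y : Module.End F (Fin d ⊕ Fin d → F)) (ψ : (Fin d ⊕ Fin d → F) ≃ₗ[F] V'),
      SCtx r (stdB d F) y ∧ (∀ u v, B' (ψ u) (ψ v) = stdB d F u v) ∧
      (∀ u, ψ (y u) = x' (ψ u)) := by
  classical
  let bas : Basis (Fin (2 * d)) F V' := Module.finBasisOfFinrankEq F V' hV
  let e : V' ≃ₗ[F] (Fin (2 * d) → F) := bas.equivFun
  let f : (Fin (2 * d) → F) → (Fin (2 * d) → F) → F := fun a b => B' (e.symm a) (e.symm b)
  have hskew : ∀ u v, B' u v = - B' v u := by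
    intro u v
    have h1 := h.alt (u + v)
    rw [map_add, map_add, LinearMap.add_apply, LinearMap.add_apply, h.alt u, h.alt v] at h1
    have : B' u v + B' v u = 0 := by
      rw [zero_add, add_zero, add_comm] at h1
      exact h1
    exact eq_neg_of_add_eq_zero_left this
  have hf : Cfsg.Geo.IsSymplecticForm f := by
    refine ⟨⟨?_, ?_, ?_, ?_⟩, ?_, ?_, ?_⟩
    · intro x y v
      show B' (e.symm (x + y)) (e.symm v) = _
      rw [map_add, map_add, LinearMap.add_apply]
    · intro c x v
      show B' (e.symm (c • x)) (e.symm v) = _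
      rw [map_smul, map_smul, LinearMap.smul_apply, smul_eq_mul]
    · intro v x y
      show B' (e.symm v) (e.symm (x + y)) = _
      rw [map_add, map_add]
    · intro c v x
      show B' (e.symm v) (e.symm (c • x)) = _
      rw [map_smul, map_smul, smul_eq_mul]
    · intro v w
      exact hskew _ _
    · intro v
      exact h.alt _
    · intro v hv
      have hne : e.symm v ≠ 0 := by
        intro h0
        apply hv
        have := congrArg e h0
        rwa [LinearEquiv.apply_symm_apply, map_zero] at this
      have hex : ∃ w, B' (e.symm v) w ≠ 0 := by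
        by_contra hcon
        push Not at hcon
        exact hne (h.nd _ hcon)
      obtain ⟨w, hw⟩ := hex
      constructor
      · refine ⟨e w, ?_⟩
        show B' (e.symm (e w)) (e.symm v) ≠ 0
        rw [LinearEquiv.symm_apply_apply, hskew]
        exact neg_ne_zero.mpr hw
      · refine ⟨e w, ?_⟩
        show B' (e.symm v) (e.symm (e w)) ≠ 0
        rw [LinearEquiv.symm_apply_apply]
        exact hw
  obtain ⟨k, φ, hk, hφ⟩ := Cfsg.Agent.Lib.helper14.SpSLa.exists_std f hf
  have hkd : k = d := by omega
  subst hkd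
  let ψ : (Fin k ⊕ Fin k → F) ≃ₗ[F] V' := φ.trans e.symm
  have hψB : ∀ u v, B' (ψ u) (ψ v) = stdB k F u v := by
    intro u v
    rw [stdB_apply, ← hφ]
    rfl
  let y : Module.End F (Fin k ⊕ Fin k → F) :=
    ψ.symm.toLinearMap ∘ₗ x' ∘ₗ ψ.toLinearMap
  have hy : ∀ u, ψ (y u) = x' (ψ u) := by
    intro u
    show ψ (ψ.symm (x' (ψ u))) = _
    rw [LinearEquiv.apply_symm_apply]
  have hpow : ∀ n : ℕ, ∀ u, ψ ((y ^ n) u) = (x' ^ n) (ψ u) := by
    intro n
    induction n with
    | zero => intro u; rw [pow_zero, pow_zero, Module.End.one_apply, Module.End.one_apply]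
    | succ n ih =>
      intro u
      rw [pow_succ', pow_succ', Module.End.mul_apply, Module.End.mul_apply, hy, ih]
  refine ⟨y, ψ, ⟨?_, ?_, ?_, ?_⟩, hψB, hy⟩
  · intro v
    rw [stdB_apply]
    exact Cfsg.Agent.Lib.helper6.sympForm_self k v
  · intro u hu
    by_contra hne
    obtain ⟨w, hw⟩ := Cfsg.Agent.Lib.helper6.sympForm_nondeg k u hne
    apply hw
    have := hu w
    rw [stdB_apply] at this
    exact this
  · intro u v
    rw [← hψB, ← hψB, hy, hy, h.pres]
  · apply LinearMap.ext
    intro u
    apply ψ.injective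
    rw [hpow, h.pow, Module.End.one_apply, Module.End.one_apply]

end Cfsg.Agent.Lib.Helper13.S5955
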