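import Mathlib
import Cfsg.Agent.Lib.Helper13.S5955.Defs2

set_option autoImplicit false

/-!
# S5955 row X1: the standard form is alternating and non-degenerate.
-/

namespace Cfsg.Agent.Lib.Helper13.S5955

open Polynomial Module

/-- X1 [S-M] STDND: the standard form is alternating and non-degenerate. -/
theorem stdB_alt_nd {F : Type*} [Field F] (d : ℕ) :
    (∀ v, stdB d F v v = 0) ∧ (∀ u, (∀ v, stdB d F u v = 0) → u = 0) := by
  constructor
  · intro v
    rw [stdB_apply]
    exact Cfsg.Agent.Lib.helper6.sympForm_self d v
  · intro u hu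
    by_contra hne
    obtain ⟨y, hy⟩ := Cfsg.Agent.Lib.helper6.sympForm_nondeg d u hne
    apply hy
    have := hu y
    rw [stdB_apply] at this
    exact this

end Cfsg.Agent.Lib.Helper13.S5955
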