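import Mathlib

set_option autoImplicit false

namespace Cfsg.Agent.Lib.helper8

open Subgroup

theorem h8_factorization_of_eq (p k m n : ℕ) (hp : p.Prime) (hn : n = p ^ k * m) (hm : ¬ p ∣ m) :
    n.factorization p = k := by
  subst hn
  have hm0 : m ≠ 0 := fun h => hm (h ▸ dvd_zero p)
  rw [Nat.factorization_mul (pow_ne_zero _ hp.ne_zero) hm0]
  simp [hp.factorization_self, Nat.factorization_eq_zero_of_not_dvd hm, hp.factorization_pow]

theorem h8_sylow_card {G : Type*} [Group G] [Finite G] (p k m : ℕ) [hp : Fact p.Prime]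
    (hG : Nat.card G = p ^ k * m) (hm : ¬ p ∣ m) (P : Sylow p G) :
    Nat.card (P : Subgroup G) = p ^ k := by
  rw [P.card_eq_multiplicity, h8_factorization_of_eq p k m _ hp.out hG hm]

theorem h8_sylow_index {G : Type*} [Group G] [Finite G] (p k m : ℕ) [hp : Fact p.Prime]
    (hG : Nat.card G = p ^ k * m) (hm : ¬ p ∣ m) (P : Sylow p G) :
    (P : Subgroup G).index = m := by
  have h1 := (P : Subgroup G).card_mul_index
  rw [h8_sylow_card p k m hG hm P, hG] at h1
  exact Nat.eq_of_mul_eq_mul_left (pow_pos hp.out.pos k) h1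

theorem h8_nsylow_dvd {G : Type*} [Group G] [Finite G] (p k m : ℕ) [hp : Fact p.Prime]
    (hG : Nat.card G = p ^ k * m) (hm : ¬ p ∣ m) :
    Nat.card (Sylow p G) ∣ m := by
  obtain ⟨P⟩ : Nonempty (Sylow p G) := inferInstance
  rw [← h8_sylow_index p k m hG hm P]
  exact P.card_dvd_index

theorem h8_nsylow_mod {G : Type*} [Group G] [Finite G] (p : ℕ) [hp : Fact p.Prime] :
    Nat.card (Sylow p G) % p = 1 := by
  have := card_sylow_modEq_one p G
  rw [Nat.ModEq, Nat.mod_eq_of_lt hp.out.one_lt] at this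
  exact this

theorem h8_normal_of_nsylow_eq_one {G : Type*} [Group G] [Finite G] (p : ℕ) [hp : Fact p.Prime]
    (h : Nat.card (Sylow p G) = 1) (P : Sylow p G) : (P : Subgroup G).Normal := by
  haveI : Subsingleton (Sylow p G) := (Nat.card_eq_one_iff_unique.mp h).1
  exact P.normal_of_subsingleton

theorem h8_card_normalizer_sylow {G : Type*} [Group G] [Finite G] (p : ℕ) [hp : Fact p.Prime]
    (P : Sylow p G) :
    Nat.card (normalizer ((P : Subgroup G) : Set G)) * Nat.card (Sylow p G) = Nat.card G := by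
  rw [P.card_eq_index_normalizer]
  exact (normalizer ((P : Subgroup G) : Set G)).card_mul_index

theorem h8_simple_normal_eq {G : Type*} [Group G] [IsSimpleGroup G] (H : Subgroup G) [H.Normal] :
    H = ⊥ ∨ H = ⊤ := IsSimpleGroup.eq_bot_or_eq_top_of_normal H inferInstance

theorem h8_simple_nsylow_ne_one {G : Type*} [Group G] [Finite G] [IsSimpleGroup G]
    (p k m : ℕ) [hp : Fact p.Prime]
    (hG : Nat.card G = p ^ k * m) (hm : ¬ p ∣ m) (hk : 0 < k) (hm1 : 1 < m) :
    Nat.card (Sylow p G) ≠ 1 := by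
  intro h
  obtain ⟨P⟩ : Nonempty (Sylow p G) := inferInstance
  haveI := h8_normal_of_nsylow_eq_one p h P
  have hc := h8_sylow_card p k m hG hm P
  rcases h8_simple_normal_eq (P : Subgroup G) with h1 | h1
  · rw [h1, Subgroup.card_bot] at hc
    have : 1 < p ^ k := Nat.one_lt_pow hk.ne' hp.out.one_lt
    omega
  · rw [h1, Subgroup.card_top, hG] at hc
    have : 0 < p ^ k := pow_pos hp.out.pos k
    nlinarith

end Cfsg.Agent.Lib.helper8

namespace Cfsg.Agent.Lib.helper8

theorem h8_mem_divisors_filter (n m p : ℕ) (hm : m ≠ 0) (h1 : n ∣ m) (h2 : n % p = 1) :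
    n ∈ (Nat.divisors m).filter (fun d => d % p = 1) := by
  rw [Finset.mem_filter, Nat.mem_divisors]
  exact ⟨⟨h1, hm⟩, h2⟩

theorem h8_nsylow_mem {G : Type*} [Group G] [Finite G] (p k m : ℕ) [hp : Fact p.Prime]
    (hG : Nat.card G = p ^ k * m) (hm : ¬ p ∣ m) :
    Nat.card (Sylow p G) ∈ (Nat.divisors m).filter (fun d => d % p = 1) := by
  have hm0 : m ≠ 0 := fun h => hm (h ▸ dvd_zero p)
  exact h8_mem_divisors_filter _ m p hm0 (h8_nsylow_dvd p k m hG hm) (h8_nsylow_mod p)

end Cfsg.Agent.Lib.helper8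

namespace Cfsg.Agent.Lib.helper8

theorem h8_nsylow_eq_index_normalizer {G : Type*} [Group G] [Finite G] (p : ℕ) [hp : Fact p.Prime]
    (P : Sylow p G) :
    Nat.card (Sylow p G) = (Subgroup.normalizer ((P : Subgroup G) : Set G)).index :=
  P.card_eq_index_normalizer

theorem h8_comm_of_card_prime_sq {G : Type*} [Group G] (p : ℕ) [hp : Fact p.Prime] (H : Subgroup G)
    (hH : Nat.card H = p ^ 2) : ∀ a ∈ H, ∀ b ∈ H, a * b = b * a := by
  intro a ha b hb
  have hc := IsPGroup.isMulCommutative_of_card_eq_prime_sq (p := p) (G := H) hH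
  have := hc.is_comm.comm (⟨a, ha⟩ : H) ⟨b, hb⟩
  exact congrArg Subtype.val this

end Cfsg.Agent.Lib.helper8
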