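import Mathlib
import Cfsg.Agent.Lib.helper8.SylowBasic

set_option autoImplicit false

namespace Cfsg.Agent.Lib.helper8

open Subgroup

theorem h8_relIndex_centralizer_normalizer_dvd {G : Type*} [Group G] [Finite G] (H : Subgroup G) :
    (centralizer (H : Set G)).relIndex (normalizer (H : Set G)) ∣ Nat.card (MulAut H) := by
  have key := card_dvd_of_injective _ (QuotientGroup.kerLift_injective H.normalizerMonoidHom)
  rwa [normalizerMonoidHom_ker, ← index, ← relIndex] at key

theorem h8_relIndex_centralizer_normalizer_dvd_prime {G : Type*} [Group G] [Finite G] (p : ℕ)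
    (hp : p.Prime) (H : Subgroup G) (hH : Nat.card H = p) :
    (centralizer (H : Set G)).relIndex (normalizer (H : Set G)) ∣ p - 1 := by
  haveI := Fact.mk hp
  haveI : IsCyclic H := isCyclic_of_prime_card hH
  have := h8_relIndex_centralizer_normalizer_dvd H
  rwa [IsCyclic.card_mulAut, hH, Nat.totient_prime hp] at this

theorem h8_simple_not_normalizer_le_centralizer {G : Type*} [Group G] [Finite G] [IsSimpleGroup G]
    (p k m : ℕ) [hp : Fact p.Prime] (hG : Nat.card G = p ^ k * m) (hm : ¬ p ∣ m) (hk : 0 < k)
    (hm1 : 1 < m) (P : Sylow p G) :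
    ¬ (normalizer ((P : Subgroup G) : Set G) ≤ centralizer ((P : Subgroup G) : Set G)) := by
  intro h
  have hc := MonoidHom.ker_transferSylow_isComplement' P h
  have hcard := hc.card_mul
  rw [h8_sylow_card p k m hG hm P, hG] at hcard
  have hpk : 1 < p ^ k := Nat.one_lt_pow hk.ne' hp.out.one_lt
  rcases h8_simple_normal_eq (MonoidHom.transferSylow P h).ker with h1 | h1
  · rw [h1, Subgroup.card_bot] at hcard
    nlinarith
  · rw [h1, Subgroup.card_top, hG] at hcard
    nlinarith

theorem h8_card_centralizer_mul_relIndex {G : Type*} [Group G] [Finite G] (H : Subgroup G) :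
    Nat.card (centralizer (H : Set G)) * (centralizer (H : Set G)).relIndex (normalizer (H : Set G))
      = Nat.card (normalizer (H : Set G)) := by
  have h1 := Subgroup.card_mul_index ((centralizer (H : Set G)).subgroupOf (normalizer (H : Set G)))
  rw [← relIndex] at h1
  rw [← h1]
  congr 1
  exact (Nat.card_congr (Subgroup.subgroupOfEquivOfLe (centralizer_le_normalizer _)).toEquiv).symm

theorem h8_normalizer_le_centralizer_of_relIndex {G : Type*} [Group G] [Finite G] (H : Subgroup G)
    (h : (centralizer (H : Set G)).relIndex (normalizer (H : Set G)) = 1) :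
    normalizer (H : Set G) ≤ centralizer (H : Set G) :=
  relIndex_eq_one.mp h

end Cfsg.Agent.Lib.helper8
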