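import Mathlib
import Cfsg.Agent.Lib.helper8.SylowBasic

set_option autoImplicit false

namespace Cfsg.Agent.Lib.helper8

open Subgroup

theorem h8_card_subgroupOf {G : Type*} [Group G] {H K : Subgroup G} (h : H ≤ K) :
    Nat.card (H.subgroupOf K) = Nat.card H :=
  Nat.card_congr (Subgroup.subgroupOfEquivOfLe h).toEquiv

theorem h8_card_mul_relIndex {G : Type*} [Group G] {H K : Subgroup G} (h : H ≤ K) :
    Nat.card H * H.relIndex K = Nat.card K := by
  have h1 := Subgroup.card_mul_index (H.subgroupOf K)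
  rw [h8_card_subgroupOf h] at h1
  exact h1

theorem h8_card_inf_mul_relIndex {G : Type*} [Group G] (H K : Subgroup G) :
    Nat.card (H ⊓ K : Subgroup G) * H.relIndex K = Nat.card K := by
  rw [← Subgroup.inf_relIndex_right]
  exact h8_card_mul_relIndex inf_le_right

theorem h8_sylow_eq_of_le {G : Type*} [Group G] [Finite G] (p : ℕ) [Fact p.Prime] (P R : Sylow p G)
    (h : (P : Subgroup G) ≤ R) : P = R := by
  apply Sylow.ext
  exact (P.3 R.2 h).symm

theorem h8_nsylow_subgroup_ge {G : Type*} [Group G] [Finite G] (p : ℕ) [hp : Fact p.Prime]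
    (P R : Sylow p G) (hPR : P ≠ R) (M : Subgroup G) (hP : (P : Subgroup G) ≤ M)
    (hR : (R : Subgroup G) ≤ M) :
    p + 1 ≤ Nat.card (Sylow p M) ∧ Nat.card (P : Subgroup G) * Nat.card (Sylow p M) ∣ Nat.card M := by
  have h1 : P.subtype hP ≠ R.subtype hR := fun h => hPR (Sylow.subtype_injective h)
  have h2 := h8_nsylow_mod (G := M) p
  have h3 : Nat.card (Sylow p M) ≠ 1 := by
    intro h
    haveI : Subsingleton (Sylow p M) := (Nat.card_eq_one_iff_unique.mp h).1
    exact h1 (Subsingleton.elim _ _)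
  have h4 : Nat.card (Sylow p M) ≠ 0 := Nat.card_pos.ne'
  constructor
  · by_contra hlt
    have hlt' : Nat.card (Sylow p M) < p + 1 := by omega
    have h5 : Nat.card (Sylow p M) ≤ p := by omega
    rcases Nat.lt_or_eq_of_le h5 with h6 | h6
    · rw [Nat.mod_eq_of_lt h6] at h2; exact h3 h2
    · rw [h6, Nat.mod_self] at h2; omega
  · have h5 := (P.subtype hP).card_dvd_index
    have h6 := Subgroup.card_mul_index ((P.subtype hP : Sylow p M) : Subgroup M)
    rw [Sylow.coe_subtype, h8_card_subgroupOf hP] at h6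
    rw [← h6]
    exact Nat.mul_dvd_mul_left _ (by rwa [Sylow.coe_subtype] at h5)

theorem h8_normal_of_normalizer_eq_top {G : Type*} [Group G] (H : Subgroup G)
    (h : normalizer (H : Set G) = ⊤) : H.Normal := normalizer_eq_top_iff.mp h

theorem h8_simple_card_normal {G : Type*} [Group G] [Finite G] [IsSimpleGroup G] (H : Subgroup G)
    [H.Normal] : Nat.card H = 1 ∨ Nat.card H = Nat.card G := by
  rcases h8_simple_normal_eq H with h | h
  · left; rw [h, Subgroup.card_bot]
  · right; rw [h, Subgroup.card_top]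

end Cfsg.Agent.Lib.helper8
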