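import Mathlib

set_option autoImplicit false

namespace Cfsg.Agent.Lib.helper8

def h8pack (B : ℕ) (l : List ℕ) : ℕ := l.foldr (fun a acc => a + B * acc) 0

def h8unpack (B P j : ℕ) : ℕ := (P / B ^ j) % B

theorem h8pack_cons (B a : ℕ) (l : List ℕ) : h8pack B (a :: l) = a + B * h8pack B l := rfl

theorem h8unpack_pack (B : ℕ) (hB : 0 < B) : ∀ (l : List ℕ), (∀ a ∈ l, a < B) → ∀ j : ℕ,
    h8unpack B (h8pack B l) j = l.getD j 0
  | [], _, j => by
    unfold h8unpack h8pack
    simp
  | a :: l, hl, 0 => by
    unfold h8unpack
    rw [h8pack_cons, pow_zero, Nat.div_one, Nat.add_mul_mod_self_left,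
      Nat.mod_eq_of_lt (hl a (List.mem_cons_self))]
    rfl
  | a :: l, hl, j + 1 => by
    have ih := h8unpack_pack B hB l (fun x hx => hl x (List.mem_cons_of_mem a hx)) j
    unfold h8unpack at ih ⊢
    rw [h8pack_cons, pow_succ, mul_comm (B ^ j) B, ← Nat.div_div_eq_div_mul,
      Nat.add_mul_div_left _ _ hB, Nat.div_eq_of_lt (hl a (List.mem_cons_self)), zero_add, ih]
    rfl

def h8encZ (a : ℤ) : ℕ := (a + 3).toNat

def h8packZ (l : List ℤ) : ℕ := h8pack 8 (l.map h8encZ)

def h8unpackZ (P j : ℕ) : ℤ := (h8unpack 8 P j : ℤ) - 3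

def h8smallZ (l : List ℤ) : Bool := l.all fun a => decide (-3 ≤ a) && decide (a ≤ 4)

theorem h8unpackZ_packZ (l : List ℤ) (hl : h8smallZ l = true) (j : ℕ) (hj : j < l.length) :
    h8unpackZ (h8packZ l) j = l.getD j 0 := by
  unfold h8smallZ at hl
  simp only [List.all_eq_true, Bool.and_eq_true, decide_eq_true_eq] at hl
  unfold h8unpackZ h8packZ
  rw [h8unpack_pack 8 (by norm_num)]
  · rw [List.getD_eq_getElem _ _ (by simpa using hj), List.getD_eq_getElem _ _ hj, List.getElem_map]
    have := hl _ (List.getElem_mem hj)
    unfold h8encZ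
    omega
  · intro a ha
    rw [List.mem_map] at ha
    obtain ⟨b, hb, rfl⟩ := ha
    have := hl b hb
    unfold h8encZ
    omega

def h8dens : ℕ → ℕ → List (ℕ × ℕ) → List ℕ
  | 0, _, _ => []
  | c + 1, st, [] => 0 :: h8dens c (st + 1) []
  | c + 1, st, (k, v) :: L =>
    if k = st then v :: h8dens c (st + 1) L else 0 :: h8dens c (st + 1) ((k, v) :: L)

def h8lookupN (L : List (ℕ × ℕ)) (s : ℕ) : ℕ :=
  match L.find? (fun e => e.1 = s) with
  | none => 0
  | some e => e.2

theorem h8dens_length : ∀ (c st : ℕ) (L : List (ℕ × ℕ)), (h8dens c st L).length = c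
  | 0, _, _ => rfl
  | c + 1, st, [] => by
    unfold h8dens
    rw [List.length_cons, h8dens_length c]
  | c + 1, st, (k, v) :: L => by
    unfold h8dens
    split_ifs
    · rw [List.length_cons, h8dens_length c]
    · rw [List.length_cons, h8dens_length c]

theorem h8dens_getD : ∀ (c st : ℕ) (L : List (ℕ × ℕ)), (L.map Prod.fst).Pairwise (· < ·) →
    (∀ e ∈ L, st ≤ e.1) → ∀ j < c, (h8dens c st L).getD j 0 = h8lookupN L (st + j)
  | 0, _, _, _, _, j, hj => by omega
  | c + 1, st, [], _, _, j, _ => by
    unfold h8dens
    rcases j with _ | j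
    · rfl
    · rw [List.getD_cons_succ]
      have := h8dens_getD c (st + 1) [] List.Pairwise.nil (by simp) j (by omega)
      rw [this]
      rfl
  | c + 1, st, (k, v) :: L, hL, hst, j, hj => by
    have hL0 : (k :: L.map Prod.fst).Pairwise (· < ·) := hL
    have hL' := List.pairwise_cons.mp hL0
    unfold h8dens
    by_cases hk : k = st
    · rw [if_pos hk]
      rcases j with _ | j
      · unfold h8lookupN
        simp [hk]
      · rw [List.getD_cons_succ]
        have hge : ∀ e ∈ L, st + 1 ≤ e.1 := by
          intro e he
          have := hL'.1 e.1 (List.mem_map_of_mem he)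
          omega
        have hidx : st + 1 + j = st + (j + 1) := by omega
        rw [h8dens_getD c (st + 1) L hL'.2 hge j (by omega), hidx]
        unfold h8lookupN
        have : ¬ k = st + (j + 1) := by omega
        rw [List.find?_cons_of_neg (by simpa using this)]
    · rw [if_neg hk]
      have hlt : st < k := by
        have := hst (k, v) (List.mem_cons_self)
        simp only at this
        omega
      rcases j with _ | j
      · unfold h8lookupN
        have h1 : ¬ k = st + 0 := by omega
        rw [List.find?_cons_of_neg (by simpa using h1)]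
        have : L.find? (fun e => decide (e.1 = st + 0)) = none := by
          rw [List.find?_eq_none]
          intro e he
          have := hL'.1 e.1 (List.mem_map_of_mem he)
          have : ¬ e.1 = st + 0 := by omega
          simpa using this
        rw [this]
        rfl
      · rw [List.getD_cons_succ]
        have hge : ∀ e ∈ (k, v) :: L, st + 1 ≤ e.1 := by
          intro e he
          rw [List.mem_cons] at he
          rcases he with rfl | he
          · exact hlt
          · have := hL'.1 e.1 (List.mem_map_of_mem he)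
            omega
        have hidx : st + 1 + j = st + (j + 1) := by omega
        rw [h8dens_getD c (st + 1) ((k, v) :: L) hL hge j (by omega), hidx]

end Cfsg.Agent.Lib.helper8
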