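import Mathlib
import Cfsg.Prelude.Def_ChevStructure
import Cfsg.Agent.Lib.helper8.ChevPack

set_option autoImplicit false

namespace Cfsg.Agent.Lib.helper8

open Cfsg.Lie Cfsg.Lie.ChevalleyDatum

theorem h8array_getD (a : Array ℤ) (s : ℕ) : a.getD s 0 = a.toList.getD s 0 := by
  simp [Array.getD_eq_getD_getElem?, List.getD_eq_getElem?_getD]

def h8CArow (D : ChevalleyDatum) (i : ℕ) : Bool :=
  decide ((D.cartanSR.getD i #[]).toList.length = D.nroots) &&
  h8smallZ (D.cartanSR.getD i #[]).toList &&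
  (List.range D.nroots).all fun s =>
    decide (D.negIdx.getD s 0 < D.nroots) &&
    decide (h8unpackZ (h8packZ (D.cartanSR.getD i #[]).toList) (D.negIdx.getD s 0) =
      - h8unpackZ (h8packZ (D.cartanSR.getD i #[]).toList) s) &&
    (D.chain.getD s #[]).toList.all fun e => decide (e.1 < D.nroots) &&
      (e.2.toList.zipIdx).all fun q => decide (q.1.1 < D.nroots) &&
        decide (h8unpackZ (h8packZ (D.cartanSR.getD i #[]).toList) q.1.1 =
          h8unpackZ (h8packZ (D.cartanSR.getD i #[]).toList) e.1 +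
            ((q.2 + 1 : ℕ) : ℤ) * h8unpackZ (h8packZ (D.cartanSR.getD i #[]).toList) s)

def h8CAchk (D : ChevalleyDatum) : Bool := decide (0 < D.rank) && (List.range D.rank).all (h8CArow D)

theorem h8cartan_fast (D : ChevalleyDatum) (i : ℕ)
    (h1 : (D.cartanSR.getD i #[]).toList.length = D.nroots)
    (h2 : h8smallZ (D.cartanSR.getD i #[]).toList = true) (s : ℕ) (hs : s < D.nroots) :
    h8unpackZ (h8packZ (D.cartanSR.getD i #[]).toList) s = D.cartan i s := by
  rw [h8unpackZ_packZ _ h2 s (by omega)]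
  unfold ChevalleyDatum.cartan
  rw [h8array_getD]

theorem h8CAchk_rows (D : ChevalleyDatum) (h : h8CAchk D = true) (i : ℕ) (hi : i < D.rank) :
    (D.cartanSR.getD i #[]).toList.length = D.nroots ∧
      h8smallZ (D.cartanSR.getD i #[]).toList = true := by
  unfold h8CAchk at h
  rw [Bool.and_eq_true, decide_eq_true_eq, List.all_eq_true] at h
  have := h.2 i (List.mem_range.mpr hi)
  unfold h8CArow at this
  simp only [Bool.and_eq_true, decide_eq_true_eq] at this
  exact ⟨this.1.1, this.1.2⟩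

structure H8CA (D : ChevalleyDatum) : Prop where
  neg_lt : ∀ s < D.nroots, D.negIdx.getD s 0 < D.nroots
  neg : ∀ i < D.rank, ∀ s < D.nroots, D.cartan i (D.negIdx.getD s 0) = - D.cartan i s
  add : ∀ i < D.rank, ∀ s < D.nroots, ∀ v u : ℕ, ∀ km ∈ D.chainCoeff s v u,
    D.cartan i u = D.cartan i v + (km.1 : ℤ) * D.cartan i s

theorem h8CAchk_spec (D : ChevalleyDatum) (h : h8CAchk D = true) : H8CA D := by
  unfold h8CAchk at h
  rw [Bool.and_eq_true, decide_eq_true_eq, List.all_eq_true] at h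
  obtain ⟨hrank, h⟩ := h
  have hrow : ∀ i < D.rank, h8CArow D i = true := fun i hi => h i (List.mem_range.mpr hi)
  have key : ∀ i < D.rank, (D.cartanSR.getD i #[]).toList.length = D.nroots ∧
      h8smallZ (D.cartanSR.getD i #[]).toList = true ∧ ∀ s < D.nroots,
      D.negIdx.getD s 0 < D.nroots ∧ D.cartan i (D.negIdx.getD s 0) = - D.cartan i s ∧
      ∀ e ∈ (D.chain.getD s #[]).toList, ∀ q ∈ e.2.toList.zipIdx,
        D.cartan i q.1.1 = D.cartan i e.1 + ((q.2 + 1 : ℕ) : ℤ) * D.cartan i s := by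
    intro i hi
    have := hrow i hi
    unfold h8CArow at this
    simp only [Bool.and_eq_true, decide_eq_true_eq, List.all_eq_true, List.mem_range] at this
    obtain ⟨⟨h1, h2⟩, h3⟩ := this
    refine ⟨h1, h2, ?_⟩
    intro s hs
    obtain ⟨⟨h4, h5⟩, h6⟩ := h3 s hs
    rw [h8cartan_fast D i h1 h2 _ h4, h8cartan_fast D i h1 h2 s hs] at h5
    refine ⟨h4, h5, ?_⟩
    intro e he q hq
    obtain ⟨h7, h8⟩ := h6 e he
    obtain ⟨h9, h10⟩ := h8 q hq
    rw [h8cartan_fast D i h1 h2 _ h9, h8cartan_fast D i h1 h2 _ h7,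
      h8cartan_fast D i h1 h2 s hs] at h10
    exact h10
  refine ⟨?_, ?_, ?_⟩
  · intro s hs
    exact ((key 0 hrank).2.2 s hs).1
  · intro i hi s hs
    exact ((key i hi).2.2 s hs).2.1
  · intro i hi s hs v u km hkm
    unfold ChevalleyDatum.chainCoeff at hkm
    rw [List.mem_flatMap] at hkm
    obtain ⟨e, he, hkm⟩ := hkm
    rw [List.mem_filter] at he
    rw [List.mem_map] at hkm
    obtain ⟨q, hq, rfl⟩ := hkm
    rw [List.mem_filter] at hq
    have hev : e.1 = v := by simpa using he.2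
    have hqu : q.1.1 = u := by simpa using hq.2
    have := ((key i hi).2.2 s hs).2.2 e he.1 q hq.1
    rw [hev, hqu] at this
    exact this

end Cfsg.Agent.Lib.helper8
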