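import Mathlib
import Cfsg.Prelude.Def_ChevStructure

set_option autoImplicit false

namespace Cfsg.Agent.Lib.helper8

open Cfsg.Lie Cfsg.Lie.ChevalleyDatum

variable {F : Type*} [Field F]

def h8dvec (D : ChevalleyDatum) (c : F) (κ : ℕ → ℤ) : D.Idx → F :=
  Sum.elim (fun _ => (1 : F)) (fun v : Fin D.nroots => c ^ (κ v.val))

theorem h8sum_map_mul_right (l : List (ℕ × ℤ)) (f : ℕ × ℤ → F) (d : F) :
    (l.map f).sum * d = (l.map fun x => f x * d).sum := by
  induction l with
  | nil => simp
  | cons a l ih => simp [add_mul, ih]

theorem h8sum_map_mul_left (l : List (ℕ × ℤ)) (f : ℕ × ℤ → F) (d : F) :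
    d * (l.map f).sum = (l.map fun x => d * f x).sum := by
  induction l with
  | nil => simp
  | cons a l ih => simp [mul_add, ih]

theorem h8diag_conj_xMat (D : ChevalleyDatum) (c : F) (hc : c ≠ 0) (κ : ℕ → ℤ) (s : Fin D.nroots)
    (t : F) (ha : κ (D.negIdx.getD s.val 0) = - κ s.val)
    (hb : ∀ v u : Fin D.nroots, ∀ km ∈ D.chainCoeff s.val v.val u.val,
      κ u.val = κ v.val + (km.1 : ℤ) * κ s.val) :
    Matrix.diagonal (h8dvec D c κ) * D.xMat F s t =
      D.xMat F s (c ^ (κ s.val) * t) * Matrix.diagonal (h8dvec D c κ) := by
  ext row col
  rw [Matrix.diagonal_mul, Matrix.mul_diagonal]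
  unfold ChevalleyDatum.xMat
  rw [Matrix.of_apply, Matrix.of_apply]
  generalize hnr : D.negIdx.getD s.val 0 = nr at ha
  rcases col with k | v
  · rcases row with k' | u
    · simp [h8dvec]
    · by_cases hus : u = s
      · subst hus
        simp [h8dvec]
        ring
      · simp [h8dvec, hus]
  · by_cases hvs : v = s
    · subst hvs
      rcases row with k' | u
      · simp [h8dvec]
      · by_cases hus : u = v
        · subst hus
          simp [h8dvec]
        · simp [h8dvec, hus]
    · simp only [hvs, if_false]
      by_cases hvn : v.val = nr
      · simp only [hvn, if_true]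
        have hκv : κ v.val = - κ s.val := by rw [hvn]; exact ha
        rcases row with k' | u
        · simp only [h8dvec, Sum.elim_inl, Sum.elim_inr, one_mul]
          rw [hκv, zpow_neg]
          field_simp
        · by_cases huv : u = v
          · subst huv
            simp [h8dvec]
          · by_cases hus : u = s
            · subst hus
              simp only [huv, if_false, if_true, h8dvec, Sum.elim_inr]
              rw [hκv, zpow_neg]
              field_simp
            · simp [huv, hus]
      · simp only [hvn, if_false]
        rcases row with k' | u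
        · simp
        · simp only [h8dvec, Sum.elim_inr]
          rw [mul_add, add_mul]
          congr 1
          · by_cases huv : u = v
            · subst huv; simp
            · simp [huv]
          · rw [h8sum_map_mul_left, h8sum_map_mul_right]
            congr 1
            apply List.map_congr_left
            intro km hkm
            have := hb v u km hkm
            rw [this, zpow_add₀ hc, mul_comm (km.1 : ℤ) (κ s.val), zpow_mul, zpow_natCast, mul_pow]
            ring

end Cfsg.Agent.Lib.helper8
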