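import Mathlib
import Cfsg.Prelude.Def_ChevStructure

set_option autoImplicit false

namespace Cfsg.Agent.Lib.helper8

open Cfsg.Lie Cfsg.Lie.ChevalleyDatum

variable {F : Type*} [Field F]

def h8E (D : ChevalleyDatum) (F : Type*) [Field F] (c : D.Idx) : D.Idx → F := Pi.single c 1

def h8H (D : ChevalleyDatum) (F : Type*) [Field F] (r : ℕ) : D.Idx → F
  | Sum.inl i => (((D.coroot.getD r #[]).getD i.val 0 : ℤ) : F)
  | Sum.inr _ => 0

theorem h8E_apply (D : ChevalleyDatum) (c j : D.Idx) : h8E D F c j = if j = c then 1 else 0 := by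
  unfold h8E
  rw [Pi.single_apply]

theorem h8H_eq_sum (D : ChevalleyDatum) (r : ℕ) :
    h8H D F r = ∑ i : Fin D.rank,
      ((((D.coroot.getD r #[]).getD i.val 0 : ℤ) : F)) • h8E D F (Sum.inl i) := by
  funext j
  rw [Finset.sum_apply]
  rcases j with i | s
  · rw [Finset.sum_eq_single i]
    · simp [h8H, h8E]
    · intro b _ hb
      have : ¬ (Sum.inl i : D.Idx) = Sum.inl b := fun h => hb (Sum.inl.inj h).symm
      simp [h8E, this]
    · intro h; exact absurd (Finset.mem_univ i) h
  · simp [h8H, h8E]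

theorem h8mulVec_E (D : ChevalleyDatum) (M : Matrix D.Idx D.Idx F) (c : D.Idx) :
    M.mulVec (h8E D F c) = fun row => M row c := by
  unfold h8E
  rw [Matrix.mulVec_single_one]
  rfl

theorem h8x_inl (D : ChevalleyDatum) (r : Fin D.nroots) (t : F) (i : Fin D.rank) :
    (D.xMat F r t).mulVec (h8E D F (Sum.inl i)) = h8E D F (Sum.inl i) -
      ((((D.cartanSR.getD i.val #[]).getD r.val 0 : ℤ) : F) * t) • h8E D F (Sum.inr r) := by
  rw [h8mulVec_E]
  funext row
  unfold ChevalleyDatum.xMat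
  rw [Matrix.of_apply, Pi.sub_apply, Pi.smul_apply, h8E_apply, h8E_apply]
  rcases row with i' | u
  · by_cases h : i' = i
    · simp [h]
    · have : ¬ (Sum.inl i' : D.Idx) = Sum.inl i := fun hh => h (Sum.inl.inj hh)
      simp [h]
  · by_cases h : u = r
    · simp [h]
    · have : ¬ (Sum.inr u : D.Idx) = Sum.inr r := fun hh => h (Sum.inr.inj hh)
      simp [h]

theorem h8x_self (D : ChevalleyDatum) (r : Fin D.nroots) (t : F) :
    (D.xMat F r t).mulVec (h8E D F (Sum.inr r)) = h8E D F (Sum.inr r) := by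
  rw [h8mulVec_E]
  funext row
  unfold ChevalleyDatum.xMat
  rw [Matrix.of_apply, h8E_apply]
  rcases row with i' | u
  · simp
  · by_cases h : u = r
    · simp [h]
    · have : ¬ (Sum.inr u : D.Idx) = Sum.inr r := fun hh => h (Sum.inr.inj hh)
      simp [h]

theorem h8x_neg (D : ChevalleyDatum) (r s : Fin D.nroots) (t : F) (hs : s ≠ r)
    (hn : s.val = D.negIdx.getD r.val 0) :
    (D.xMat F r t).mulVec (h8E D F (Sum.inr s)) =
      h8E D F (Sum.inr s) + t • h8H D F r.val - (t ^ 2) • h8E D F (Sum.inr r) := by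
  rw [h8mulVec_E]
  funext row
  unfold ChevalleyDatum.xMat
  rw [Matrix.of_apply, Pi.sub_apply, Pi.add_apply, Pi.smul_apply, Pi.smul_apply, h8E_apply, h8E_apply]
  simp only [hs, if_false]
  rw [if_pos hn]
  rcases row with i' | u
  · simp [h8H, mul_comm]
  · by_cases h : u = s
    · have : ¬ u = r := fun hh => hs (h ▸ hh)
      simp [h, h8H, hs]
    · by_cases h2 : u = r
      · simp [h2, h8H, Ne.symm hs]
      · simp [h, h2, h8H]

theorem h8x_other (D : ChevalleyDatum) (r s : Fin D.nroots) (t : F) (hs : s ≠ r)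
    (hn : s.val ≠ D.negIdx.getD r.val 0) :
    (D.xMat F r t).mulVec (h8E D F (Sum.inr s)) = fun row =>
      Sum.elim (fun _ => (0 : F)) (fun u : Fin D.nroots => (if u = s then 1 else 0) +
          ((D.chainCoeff r.val s.val u.val).map fun km => ((km.2 : ℤ) : F) * t ^ km.1).sum) row := by
  rw [h8mulVec_E]
  funext row
  unfold ChevalleyDatum.xMat
  rw [Matrix.of_apply]
  simp only [hs, if_false]
  rw [if_neg hn]
  rcases row with i' | u
  · rfl
  · rfl

theorem h8x_fix (D : ChevalleyDatum) (r s : Fin D.nroots) (t : F) (hs : s ≠ r)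
    (hn : s.val ≠ D.negIdx.getD r.val 0)
    (hcc : ∀ u : Fin D.nroots, D.chainCoeff r.val s.val u.val = []) :
    (D.xMat F r t).mulVec (h8E D F (Sum.inr s)) = h8E D F (Sum.inr s) := by
  rw [h8x_other D r s t hs hn]
  funext row
  rw [h8E_apply]
  rcases row with i' | u
  · simp
  · rw [Sum.elim_inr, hcc u]
    by_cases h : u = s
    · simp [h]
    · have : ¬ (Sum.inr u : D.Idx) = Sum.inr s := fun hh => h (Sum.inr.inj hh)
      simp [h]

theorem h8x_single (D : ChevalleyDatum) (r s u0 : Fin D.nroots) (N : ℤ) (t : F) (hs : s ≠ r)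
    (hn : s.val ≠ D.negIdx.getD r.val 0)
    (hcc : ∀ u : Fin D.nroots, D.chainCoeff r.val s.val u.val = if u = u0 then [(1, N)] else []) :
    (D.xMat F r t).mulVec (h8E D F (Sum.inr s)) =
      h8E D F (Sum.inr s) + ((N : F) * t) • h8E D F (Sum.inr u0) := by
  rw [h8x_other D r s t hs hn]
  funext row
  rw [Pi.add_apply, Pi.smul_apply, h8E_apply, h8E_apply]
  rcases row with i' | u
  · simp
  · rw [Sum.elim_inr, hcc u]
    simp only [Sum.inr.injEq]
    by_cases h2 : u = u0
    · subst h2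
      simp
    · simp [h2]

end Cfsg.Agent.Lib.helper8
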