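import Mathlib

set_option autoImplicit false

namespace Cfsg.Agent.Lib.helper8

def h8incr : List ℕ → Bool
  | [] => true
  | [_] => true
  | a :: b :: l => decide (a < b) && h8incr (b :: l)

theorem h8incr_pairwise : ∀ (l : List ℕ), h8incr l = true → l.Pairwise (· < ·)
  | [], _ => List.Pairwise.nil
  | [_], _ => List.pairwise_singleton _ _
  | a :: b :: l, h => by
    unfold h8incr at h
    rw [Bool.and_eq_true, decide_eq_true_eq] at h
    have ih := h8incr_pairwise (b :: l) h.2
    rw [List.pairwise_cons]
    refine ⟨?_, ih⟩
    intro x hx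
    rw [List.mem_cons] at hx
    rcases hx with rfl | hx
    · exact h.1
    · exact lt_trans h.1 ((List.pairwise_cons.mp ih).1 x hx)

def h8disjF : ℕ → List ℕ → List ℕ → Bool
  | 0, _, _ => false
  | _ + 1, [], _ => true
  | _ + 1, _ :: _, [] => true
  | n + 1, a :: l1, b :: l2 =>
    if a < b then h8disjF n l1 (b :: l2) else if b < a then h8disjF n (a :: l1) l2 else false

theorem h8disjF_sound : ∀ (n : ℕ) (l1 l2 : List ℕ), l1.Pairwise (· < ·) → l2.Pairwise (· < ·) →
    h8disjF n l1 l2 = true → ∀ x ∈ l1, x ∉ l2
  | 0, _, _, _, _, h => by simp [h8disjF] at h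
  | _ + 1, [], _, _, _, _ => by intro x hx; simp at hx
  | _ + 1, _ :: _, [], _, _, _ => by intro x _; simp
  | n + 1, a :: l1, b :: l2, h1, h2, h => by
    unfold h8disjF at h
    have h1' := List.pairwise_cons.mp h1
    have h2' := List.pairwise_cons.mp h2
    split_ifs at h with hab hba
    · have ih := h8disjF_sound n l1 (b :: l2) h1'.2 h2 h
      intro x hx
      rw [List.mem_cons] at hx
      rcases hx with rfl | hx
      · intro hx2
        rw [List.mem_cons] at hx2
        rcases hx2 with rfl | hx2
        · exact lt_irrefl _ hab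
        · have := h2'.1 x hx2
          omega
      · exact ih x hx
    · have ih := h8disjF_sound n (a :: l1) l2 h1 h2'.2 h
      intro x hx hx2
      rw [List.mem_cons] at hx2
      rcases hx2 with rfl | hx2
      · rw [List.mem_cons] at hx
        rcases hx with rfl | hx
        · exact lt_irrefl _ hba
        · have := h1'.1 x hx
          omega
      · exact ih x hx hx2

def h8disj (l1 l2 : List ℕ) : Bool := h8disjF (l1.length + l2.length + 1) l1 l2

theorem h8disj_sound (l1 l2 : List ℕ) (h1 : h8incr l1 = true) (h2 : h8incr l2 = true)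
    (h : h8disj l1 l2 = true) : ∀ x ∈ l1, x ∉ l2 :=
  h8disjF_sound _ l1 l2 (h8incr_pairwise l1 h1) (h8incr_pairwise l2 h2) h

variable {α : Type*}

theorem h8find_of_mem (L : List (ℕ × α)) (hL : (L.map Prod.fst).Pairwise (· < ·)) (e : ℕ × α)
    (he : e ∈ L) : L.find? (fun x => x.1 = e.1) = some e := by
  induction L with
  | nil => simp at he
  | cons a L ih =>
    rw [List.map_cons, List.pairwise_cons] at hL
    rw [List.mem_cons] at he
    rcases he with rfl | he
    · simp
    · have hlt : a.1 < e.1 := hL.1 e.1 (List.mem_map_of_mem he)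
      have hne : ¬ a.1 = e.1 := by omega
      rw [List.find?_cons_of_neg (by simpa using hne)]
      exact ih hL.2 he

theorem h8find_none_of_not_mem (L : List (ℕ × α)) (s : ℕ) (hs : s ∉ L.map Prod.fst) :
    L.find? (fun x => x.1 = s) = none := by
  rw [List.find?_eq_none]
  intro x hx
  have : x.1 ≠ s := fun h => hs (h ▸ List.mem_map_of_mem hx)
  simpa using this

theorem h8filter_eq_find (L : List (ℕ × α)) (hL : (L.map Prod.fst).Pairwise (· < ·)) (s : ℕ) :
    L.filter (fun x => x.1 = s) = (L.find? (fun x => x.1 = s)).toList := by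
  induction L with
  | nil => rfl
  | cons a L ih =>
    rw [List.map_cons, List.pairwise_cons] at hL
    by_cases has : a.1 = s
    · rw [List.filter_cons_of_pos (by simpa using has), List.find?_cons_of_pos (by simpa using has)]
      have : L.filter (fun x => decide (x.1 = s)) = [] := by
        rw [List.filter_eq_nil_iff]
        intro x hx
        have := hL.1 x.1 (List.mem_map_of_mem hx)
        have : ¬ x.1 = s := by omega
        simpa using this
      rw [this]
      rfl
    · rw [List.filter_cons_of_neg (by simpa using has), List.find?_cons_of_neg (by simpa using has)]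
      exact ih hL.2

end Cfsg.Agent.Lib.helper8
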