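import Mathlib
import Cfsg.Prelude.Def_ChevStructure
import Cfsg.Agent.Lib.helper8.ChevList

set_option autoImplicit false

namespace Cfsg.Agent.Lib.helper8

open Cfsg.Lie Cfsg.Lie.ChevalleyDatum

theorem h8chainCoeff_eq (D : ChevalleyDatum) (r s u : ℕ)
    (hL : (((D.chain.getD r #[]).toList).map Prod.fst).Pairwise (· < ·)) :
    D.chainCoeff r s u =
      (((D.chainEntry r s).zipIdx).filter (fun q => q.1.1 = u)).map fun q => (q.2 + 1, q.1.2) := by
  unfold ChevalleyDatum.chainCoeff ChevalleyDatum.chainEntry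
  rw [h8filter_eq_find _ hL]
  cases (D.chain.getD r #[]).toList.find? (fun e => e.1 = s) with
  | none => rfl
  | some e => simp

theorem h8chainCoeff_nil (D : ChevalleyDatum) (r s u : ℕ)
    (hL : (((D.chain.getD r #[]).toList).map Prod.fst).Pairwise (· < ·))
    (h : D.chainEntry r s = []) : D.chainCoeff r s u = [] := by
  rw [h8chainCoeff_eq D r s u hL, h]
  rfl

theorem h8chainCoeff_single (D : ChevalleyDatum) (r s u u0 : ℕ) (N : ℤ)
    (hL : (((D.chain.getD r #[]).toList).map Prod.fst).Pairwise (· < ·))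
    (h : D.chainEntry r s = [(u0, N)]) :
    D.chainCoeff r s u = if u = u0 then [(1, N)] else [] := by
  rw [h8chainCoeff_eq D r s u hL, h]
  by_cases hu : u = u0
  · subst hu
    simp
  · have : ¬ u0 = u := fun hh => hu hh.symm
    simp [hu, this]

theorem h8chainEntry_of_mem (D : ChevalleyDatum) (r : ℕ)
    (hL : (((D.chain.getD r #[]).toList).map Prod.fst).Pairwise (· < ·))
    (e : ℕ × Array (ℕ × ℤ)) (he : e ∈ (D.chain.getD r #[]).toList) :
    D.chainEntry r e.1 = e.2.toList := by
  unfold ChevalleyDatum.chainEntry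
  rw [h8find_of_mem _ hL e he]

theorem h8chainEntry_of_not_mem (D : ChevalleyDatum) (r s : ℕ)
    (hs : s ∉ ((D.chain.getD r #[]).toList).map Prod.fst) : D.chainEntry r s = [] := by
  unfold ChevalleyDatum.chainEntry
  rw [h8find_none_of_not_mem _ s hs]

theorem h8chainEntry_cases (D : ChevalleyDatum) (r s : ℕ) :
    D.chainEntry r s = [] ∨ ∃ e ∈ (D.chain.getD r #[]).toList, e.1 = s ∧ D.chainEntry r s = e.2.toList := by
  unfold ChevalleyDatum.chainEntry
  cases h : (D.chain.getD r #[]).toList.find? (fun e => e.1 = s) with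
  | none => left; rfl
  | some e =>
    right
    refine ⟨e, List.mem_of_find?_eq_some h, ?_, rfl⟩
    have := List.find?_some h
    simpa using this

def h8SLentryOK (D : ChevalleyDatum) (r nr : ℕ) (e : ℕ × Array (ℕ × ℤ)) : Bool :=
  decide (e.1 < D.nroots) && decide (e.1 ≠ r) && decide (e.1 ≠ nr) &&
    match e.2.toList with
    | [p] => decide (p.1 < D.nroots) && decide (p.1 ≠ r) && decide (p.1 ≠ nr) &&
        (decide (p.2 = 1) || decide (p.2 = -1))
    | _ => false

def h8SLswap (e : ℕ × Array (ℕ × ℤ)) : ℕ × List (ℕ × ℤ) :=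
  match e.2.toList with
  | [p] => (p.1, [(e.1, p.2)])
  | _ => (0, [])

def h8SLrow (D : ChevalleyDatum) (r : ℕ) : Bool :=
  let L := (D.chain.getD r #[]).toList
  let nr := D.negIdx.getD r 0
  let L' := (D.chain.getD nr #[]).toList
  h8incr (L.map Prod.fst) && h8incr (L'.map Prod.fst) &&
  h8disj (L.map Prod.fst) (L'.map Prod.fst) &&
  L.all (h8SLentryOK D r nr) &&
  (L'.map (fun e => (e.1, e.2.toList)) == L.map h8SLswap)

structure H8SLRow (D : ChevalleyDatum) (r nr : ℕ) : Prop where
  sorted : (((D.chain.getD r #[]).toList).map Prod.fst).Pairwise (· < ·)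
  sorted' : (((D.chain.getD nr #[]).toList).map Prod.fst).Pairwise (· < ·)
  nonempty : ∀ e ∈ (D.chain.getD r #[]).toList, e.2.toList ≠ []
  entry : ∀ s, D.chainEntry r s = [] ∨ ∃ u N, D.chainEntry r s = [(u, N)] ∧ s < D.nroots ∧
    u < D.nroots ∧ s ≠ r ∧ s ≠ nr ∧ u ≠ r ∧ u ≠ nr ∧ (N = 1 ∨ N = -1) ∧ D.chainEntry r u = [] ∧
    D.chainEntry nr u = [(s, N)] ∧ D.chainEntry nr s = []

theorem h8SLrow_spec (D : ChevalleyDatum) (r : ℕ) (h : h8SLrow D r = true) :
    H8SLRow D r (D.negIdx.getD r 0) := by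
  unfold h8SLrow at h
  simp only [Bool.and_eq_true, beq_iff_eq] at h
  obtain ⟨⟨⟨⟨h1, h2⟩, h3⟩, h4⟩, h5⟩ := h
  have hs1 := h8incr_pairwise _ h1
  have hs2 := h8incr_pairwise _ h2
  have hdisj := h8disj_sound _ _ h1 h2 h3
  rw [List.all_eq_true] at h4
  refine ⟨hs1, hs2, ?_, ?_⟩
  · intro e he hnil
    have hok := h4 e he
    unfold h8SLentryOK at hok
    rw [hnil] at hok
    simp at hok
  intro s
  rcases h8chainEntry_cases D r s with h0 | ⟨e, he, hes, hent⟩
  · left; exact h0
  · right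
    have hok := h4 e he
    unfold h8SLentryOK at hok
    have hswap : h8SLswap e ∈ ((D.chain.getD (D.negIdx.getD r 0) #[]).toList).map
        (fun e => (e.1, e.2.toList)) := by
      rw [h5]; exact List.mem_map_of_mem he
    unfold h8SLswap at hswap
    rcases hl : e.2.toList with _ | ⟨p, _ | ⟨p2, tl⟩⟩
    · rw [hl] at hok; simp at hok
    · rw [hl] at hok hswap
      simp only [Bool.and_eq_true, Bool.or_eq_true, decide_eq_true_eq] at hok
      obtain ⟨⟨⟨a1, a2⟩, a3⟩, ⟨⟨b1, b2⟩, b3⟩, b4⟩ := hok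
      rw [List.mem_map] at hswap
      obtain ⟨e', he', he'eq⟩ := hswap
      have e'1 : e'.1 = p.1 := congrArg Prod.fst he'eq
      have e'2 : e'.2.toList = [(e.1, p.2)] := congrArg Prod.snd he'eq
      have hpmem : p.1 ∈ ((D.chain.getD (D.negIdx.getD r 0) #[]).toList).map Prod.fst := by
        rw [← e'1]; exact List.mem_map_of_mem he'
      have hsmem : e.1 ∈ ((D.chain.getD r #[]).toList).map Prod.fst := List.mem_map_of_mem he
      refine ⟨p.1, p.2, ?_, ?_, b1, ?_, ?_, b2, b3, b4, ?_, ?_, ?_⟩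
      · rw [hent, hl]
      · rw [← hes]; exact a1
      · rw [← hes]; exact a2
      · rw [← hes]; exact a3
      · apply h8chainEntry_of_not_mem
        intro hmem
        exact hdisj p.1 hmem hpmem
      · have := h8chainEntry_of_mem D _ hs2 e' he'
        rw [e'1, e'2, hes] at this
        exact this
      · apply h8chainEntry_of_not_mem
        rw [← hes]
        exact hdisj e.1 hsmem
    · rw [hl] at hok; simp at hok

end Cfsg.Agent.Lib.helper8
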