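import Mathlib
import Cfsg.Prelude.Def_ChevStructure
import Cfsg.Agent.Lib.helper8.ChevCol
import Cfsg.Agent.Lib.helper8.ChevSLTable

set_option autoImplicit false

namespace Cfsg.Agent.Lib.helper8

open Cfsg.Lie Cfsg.Lie.ChevalleyDatum

theorem h8list_sum_range {M : Type*} [AddCommMonoid M] (f : ℕ → M) (n : ℕ) :
    ((List.range n).map f).sum = ∑ i : Fin n, f i.val := by
  rw [← Finset.sum_range (fun i => f i)]
  induction n with
  | zero => rfl
  | succ n ih =>
    rw [List.range_succ, List.map_append, List.sum_append, ih, Finset.sum_range_succ]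
    simp

def h8Wrow (D : ChevalleyDatum) (r : ℕ) : Bool :=
  let nr := D.negIdx.getD r 0
  decide (nr < D.nroots) && decide (nr ≠ r) && decide (D.negIdx.getD nr 0 = r) &&
  ((List.range D.rank).all fun i =>
     decide ((D.coroot.getD nr #[]).getD i 0 = - (D.coroot.getD r #[]).getD i 0) &&
     decide ((D.cartanSR.getD i #[]).getD nr 0 = - (D.cartanSR.getD i #[]).getD r 0)) &&
  decide (((List.range D.rank).map fun i =>
    (D.coroot.getD r #[]).getD i 0 * (D.cartanSR.getD i #[]).getD r 0).sum = 2)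

structure H8WRow (D : ChevalleyDatum) (r nr : ℕ) : Prop where
  lt : nr < D.nroots
  ne : nr ≠ r
  negneg : D.negIdx.getD nr 0 = r
  coroot : ∀ i < D.rank, (D.coroot.getD nr #[]).getD i 0 = - (D.coroot.getD r #[]).getD i 0
  cartan : ∀ i < D.rank, (D.cartanSR.getD i #[]).getD nr 0 = - (D.cartanSR.getD i #[]).getD r 0
  two : ∑ i : Fin D.rank, (D.coroot.getD r #[]).getD i.val 0 * (D.cartanSR.getD i.val #[]).getD r 0 = 2

theorem h8Wrow_spec (D : ChevalleyDatum) (r : ℕ) (h : h8Wrow D r = true) :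
    H8WRow D r (D.negIdx.getD r 0) := by
  unfold h8Wrow at h
  simp only [Bool.and_eq_true, decide_eq_true_eq, List.all_eq_true, List.mem_range] at h
  obtain ⟨⟨⟨⟨h1, h2⟩, h3⟩, h4⟩, h5⟩ := h
  refine ⟨h1, h2, h3, fun i hi => (h4 i hi).1, fun i hi => (h4 i hi).2, ?_⟩
  rw [← h5, h8list_sum_range]

def h8SLOK (D : ChevalleyDatum) : Bool :=
  (List.range D.nroots).all fun r => h8Wrow D r && h8SLrow D r

structure H8SL (D : ChevalleyDatum) : Prop where
  w : ∀ r < D.nroots, H8WRow D r (D.negIdx.getD r 0)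
  sl : ∀ r < D.nroots, H8SLRow D r (D.negIdx.getD r 0)

theorem h8SLOK_spec (D : ChevalleyDatum) (h : h8SLOK D = true) : H8SL D := by
  unfold h8SLOK at h
  simp only [List.all_eq_true, List.mem_range, Bool.and_eq_true] at h
  exact ⟨fun r hr => h8Wrow_spec D r (h r hr).1, fun r hr => h8SLrow_spec D r (h r hr).2⟩

variable {F : Type*} [Field F]

def h8Er (D : ChevalleyDatum) (F : Type*) [Field F] (s : ℕ) : D.Idx → F :=
  if h : s < D.nroots then h8E D F (Sum.inr ⟨s, h⟩) else 0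

def h8Eh (D : ChevalleyDatum) (F : Type*) [Field F] (i : ℕ) : D.Idx → F :=
  if h : i < D.rank then h8E D F (Sum.inl ⟨i, h⟩) else 0

theorem h8Er_of_lt (D : ChevalleyDatum) (s : ℕ) (h : s < D.nroots) :
    h8Er D F s = h8E D F (Sum.inr ⟨s, h⟩) := by
  unfold h8Er
  rw [dif_pos h]

theorem h8Eh_of_lt (D : ChevalleyDatum) (i : ℕ) (h : i < D.rank) :
    h8Eh D F i = h8E D F (Sum.inl ⟨i, h⟩) := by
  unfold h8Eh
  rw [dif_pos h]

theorem h8H_eq_sum' (D : ChevalleyDatum) (r : ℕ) :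
    h8H D F r = ∑ i : Fin D.rank,
      ((((D.coroot.getD r #[]).getD i.val 0 : ℤ) : F)) • h8Eh D F i.val := by
  rw [h8H_eq_sum]
  apply Finset.sum_congr rfl
  intro i _
  rw [h8Eh_of_lt D i.val i.2]

theorem h8x_mulVec_Er_self (D : ChevalleyDatum) (r : ℕ) (hr : r < D.nroots) (t : F) :
    (D.x F r t).mulVec (h8Er D F r) = h8Er D F r := by
  unfold ChevalleyDatum.x
  rw [dif_pos hr, h8Er_of_lt D r hr]
  exact h8x_self D ⟨r, hr⟩ t

theorem h8x_mulVec_Eh (D : ChevalleyDatum) (r : ℕ) (hr : r < D.nroots) (t : F) (i : ℕ)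
    (hi : i < D.rank) :
    (D.x F r t).mulVec (h8Eh D F i) = h8Eh D F i -
      ((((D.cartanSR.getD i #[]).getD r 0 : ℤ) : F) * t) • h8Er D F r := by
  unfold ChevalleyDatum.x
  rw [dif_pos hr, h8Er_of_lt D r hr, h8Eh_of_lt D i hi]
  exact h8x_inl D ⟨r, hr⟩ t ⟨i, hi⟩

theorem h8x_mulVec_Er_neg (D : ChevalleyDatum) (hD : H8SL D) (r : ℕ) (hr : r < D.nroots) (t : F) :
    (D.x F r t).mulVec (h8Er D F (D.negIdx.getD r 0)) =
      h8Er D F (D.negIdx.getD r 0) + t • h8H D F r - (t ^ 2) • h8Er D F r := by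
  have hw := hD.w r hr
  unfold ChevalleyDatum.x
  rw [dif_pos hr, h8Er_of_lt D r hr, h8Er_of_lt D _ hw.lt]
  exact h8x_neg D ⟨r, hr⟩ ⟨_, hw.lt⟩ t (fun h => hw.ne (congrArg Fin.val h)) rfl

theorem h8x_mulVec_Er_fix (D : ChevalleyDatum) (hD : H8SL D) (r : ℕ) (hr : r < D.nroots) (t : F)
    (s : ℕ) (hsr : s ≠ r) (hsn : s ≠ D.negIdx.getD r 0) (hent : D.chainEntry r s = []) :
    (D.x F r t).mulVec (h8Er D F s) = h8Er D F s := by
  by_cases hs : s < D.nroots
  · unfold ChevalleyDatum.x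
    rw [dif_pos hr, h8Er_of_lt D s hs]
    apply h8x_fix D ⟨r, hr⟩ ⟨s, hs⟩ t (fun h => hsr (congrArg Fin.val h)) hsn
    intro u
    exact h8chainCoeff_nil D r s u.val (hD.sl r hr).sorted hent
  · unfold h8Er
    rw [dif_neg hs, Matrix.mulVec_zero]

theorem h8x_mulVec_Er_single (D : ChevalleyDatum) (hD : H8SL D) (r : ℕ) (hr : r < D.nroots) (t : F)
    (s u : ℕ) (N : ℤ) (hs : s < D.nroots) (hu : u < D.nroots) (hsr : s ≠ r)
    (hsn : s ≠ D.negIdx.getD r 0) (hent : D.chainEntry r s = [(u, N)]) :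
    (D.x F r t).mulVec (h8Er D F s) = h8Er D F s + ((N : F) * t) • h8Er D F u := by
  unfold ChevalleyDatum.x
  rw [dif_pos hr, h8Er_of_lt D s hs, h8Er_of_lt D u hu]
  apply h8x_single D ⟨r, hr⟩ ⟨s, hs⟩ ⟨u, hu⟩ N t (fun h => hsr (congrArg Fin.val h)) hsn
  intro u'
  rw [h8chainCoeff_single D r s u'.val u N (hD.sl r hr).sorted hent]
  by_cases h : u' = ⟨u, hu⟩
  · have : u'.val = u := congrArg Fin.val h
    rw [if_pos this, if_pos h]
  · have : ¬ u'.val = u := fun hh => h (Fin.ext hh)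
    rw [if_neg this, if_neg h]

theorem h8x_mulVec_H (D : ChevalleyDatum) (hD : H8SL D) (r : ℕ) (hr : r < D.nroots) (t : F) :
    (D.x F r t).mulVec (h8H D F r) = h8H D F r - (2 * t) • h8Er D F r := by
  rw [h8H_eq_sum', Matrix.mulVec_sum]
  have h1 : ∀ i : Fin D.rank, (D.x F r t).mulVec
      (((((D.coroot.getD r #[]).getD i.val 0 : ℤ) : F)) • h8Eh D F i.val) =
      ((((D.coroot.getD r #[]).getD i.val 0 : ℤ) : F)) • h8Eh D F i.val -
      (((((D.coroot.getD r #[]).getD i.val 0 * (D.cartanSR.getD i.val #[]).getD r 0 : ℤ)) : F) * t) •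
        h8Er D F r := by
    intro i
    rw [Matrix.mulVec_smul, h8x_mulVec_Eh D r hr t i.val i.2, smul_sub, smul_smul]
    push_cast
    ring_nf
  rw [Finset.sum_congr rfl (fun i _ => h1 i), Finset.sum_sub_distrib, ← Finset.sum_smul,
    ← Finset.sum_mul, ← Int.cast_sum, (hD.w r hr).two]
  norm_num

theorem h8x_mulVec_H_neg (D : ChevalleyDatum) (hD : H8SL D) (r : ℕ) (hr : r < D.nroots) (t : F) :
    (D.x F (D.negIdx.getD r 0) t).mulVec (h8H D F r) =
      h8H D F r + (2 * t) • h8Er D F (D.negIdx.getD r 0) := by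
  have hw := hD.w r hr
  rw [h8H_eq_sum', Matrix.mulVec_sum]
  have h1 : ∀ i : Fin D.rank, (D.x F (D.negIdx.getD r 0) t).mulVec
      (((((D.coroot.getD r #[]).getD i.val 0 : ℤ) : F)) • h8Eh D F i.val) =
      ((((D.coroot.getD r #[]).getD i.val 0 : ℤ) : F)) • h8Eh D F i.val +
      (((((D.coroot.getD r #[]).getD i.val 0 * (D.cartanSR.getD i.val #[]).getD r 0 : ℤ)) : F) * t) •
        h8Er D F (D.negIdx.getD r 0) := by
    intro i
    rw [Matrix.mulVec_smul, h8x_mulVec_Eh D _ hw.lt t i.val i.2, smul_sub, smul_smul,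
      hw.cartan i.val i.2]
    push_cast
    rw [sub_eq_add_neg, ← neg_smul]
    ring_nf
  rw [Finset.sum_congr rfl (fun i _ => h1 i), Finset.sum_add_distrib, ← Finset.sum_smul,
    ← Finset.sum_mul, ← Int.cast_sum, (hD.w r hr).two]
  norm_num

theorem h8H_neg (D : ChevalleyDatum) (hD : H8SL D) (r : ℕ) (hr : r < D.nroots) :
    h8H D F (D.negIdx.getD r 0) = - h8H D F r := by
  have hw := hD.w r hr
  funext j
  rcases j with i | s
  · show (((D.coroot.getD (D.negIdx.getD r 0) #[]).getD i.val 0 : ℤ) : F) =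
      - (((D.coroot.getD r #[]).getD i.val 0 : ℤ) : F)
    rw [hw.coroot i.val i.2]
    push_cast
    rfl
  · show (0 : F) = - 0
    simp

end Cfsg.Agent.Lib.helper8
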