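import Mathlib
import Cfsg.Prelude.Def_ChevStructure
import Cfsg.Agent.Lib.helper8.ChevSL

set_option autoImplicit false

namespace Cfsg.Agent.Lib.helper8

open Cfsg.Lie Cfsg.Lie.ChevalleyDatum

variable {F : Type*} [Field F]

theorem h8wordMat_nil (D : ChevalleyDatum) : D.wordMat F [] = 1 := by
  unfold ChevalleyDatum.wordMat
  simp

theorem h8wordMat_cons (D : ChevalleyDatum) (p : ℕ × F) (w : List (ℕ × F)) :
    D.wordMat F (p :: w) = D.x F p.1 p.2 * D.wordMat F w := by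
  unfold ChevalleyDatum.wordMat
  simp

theorem h8wordMat_append (D : ChevalleyDatum) (w1 w2 : List (ℕ × F)) :
    D.wordMat F (w1 ++ w2) = D.wordMat F w1 * D.wordMat F w2 := by
  unfold ChevalleyDatum.wordMat
  simp

theorem h8nMat_mulVec (D : ChevalleyDatum) (r : ℕ) (t : F) (v : D.Idx → F) :
    (D.nMat F r t).mulVec v =
      (D.x F r t).mulVec ((D.x F (D.negIdx.getD r 0) (-t⁻¹)).mulVec ((D.x F r t).mulVec v)) := by
  unfold ChevalleyDatum.nMat ChevalleyDatum.nWord ChevalleyDatum.neg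
  rw [h8wordMat_cons, h8wordMat_cons, h8wordMat_cons, h8wordMat_nil, mul_one,
    ← Matrix.mulVec_mulVec, ← Matrix.mulVec_mulVec]

theorem h8hMat_eq (D : ChevalleyDatum) (r : ℕ) (t : F) :
    D.hMat F r t = D.nMat F r t * D.nMat F r (-1) := by
  unfold ChevalleyDatum.hMat ChevalleyDatum.hWord ChevalleyDatum.nMat
  rw [h8wordMat_append]

section
variable (D : ChevalleyDatum) (hD : H8SL D) (r : ℕ) (hr : r < D.nroots) (t : F) (ht : t ≠ 0)
include hD hr ht

theorem h8n_bottom (s u : ℕ) (N : ℤ) (hent : D.chainEntry r s = [(u, N)]) :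
    (D.nMat F r t).mulVec (h8Er D F s) = ((N : F) * t) • h8Er D F u := by
  have hw := hD.w r hr
  have hsl := hD.sl r hr
  rcases hsl.entry s with h0 | ⟨u', N', h1, hs, hu, hsr, hsn, hur, hun, hN, e1, e2, e3⟩
  · rw [h0] at hent; cases hent
  · rw [h1] at hent
    obtain ⟨rfl, rfl⟩ : u' = u ∧ N' = N := by
      have := List.cons.inj hent
      exact ⟨congrArg Prod.fst this.1, congrArg Prod.snd this.1⟩
    have hslN := hD.sl _ hw.lt
    rw [hw.negneg] at hslN
    rw [h8nMat_mulVec]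
    rw [h8x_mulVec_Er_single D hD r hr t s u' N' hs hu hsr hsn h1]
    rw [Matrix.mulVec_add, Matrix.mulVec_smul]
    rw [h8x_mulVec_Er_fix D hD _ hw.lt (-t⁻¹) s hsn (by rw [hw.negneg]; exact hsr) e3]
    rw [h8x_mulVec_Er_single D hD _ hw.lt (-t⁻¹) u' s N' hu hs hun (by rw [hw.negneg]; exact hur) e2]
    rw [Matrix.mulVec_add, Matrix.mulVec_smul, Matrix.mulVec_add, Matrix.mulVec_smul]
    rw [h8x_mulVec_Er_single D hD r hr t s u' N' hs hu hsr hsn h1]
    rw [h8x_mulVec_Er_fix D hD r hr t u' hur hun e1]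
    rcases hN with rfl | rfl
    · match_scalars <;> (push_cast; field_simp) <;> ring
    · match_scalars <;> (push_cast; field_simp) <;> ring

theorem h8n_top (s u : ℕ) (N : ℤ) (hent : D.chainEntry (D.negIdx.getD r 0) s = [(u, N)]) :
    (D.nMat F r t).mulVec (h8Er D F s) = (-((N : F) * t⁻¹)) • h8Er D F u := by
  have hw := hD.w r hr
  have hslN := hD.sl _ hw.lt
  rw [hw.negneg] at hslN
  rcases hslN.entry s with h0 | ⟨u', N', h1, hs, hu, hsn, hsr, hun, hur, hN, e1, e2, e3⟩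
  · rw [h0] at hent; cases hent
  · rw [h1] at hent
    obtain ⟨rfl, rfl⟩ : u' = u ∧ N' = N := by
      have := List.cons.inj hent
      exact ⟨congrArg Prod.fst this.1, congrArg Prod.snd this.1⟩
    rw [h8nMat_mulVec]
    rw [h8x_mulVec_Er_fix D hD r hr t s hsr hsn e3]
    rw [h8x_mulVec_Er_single D hD _ hw.lt (-t⁻¹) s u' N' hs hu hsn (by rw [hw.negneg]; exact hsr) h1]
    rw [Matrix.mulVec_add, Matrix.mulVec_smul]
    rw [h8x_mulVec_Er_fix D hD r hr t s hsr hsn e3]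
    rw [h8x_mulVec_Er_single D hD r hr t u' s N' hu hs hur hun e2]
    rcases hN with rfl | rfl
    · match_scalars <;> (push_cast; field_simp) <;> ring
    · match_scalars <;> (push_cast; field_simp) <;> ring

theorem h8n_inactive (s : ℕ) (hsr : s ≠ r) (hsn : s ≠ D.negIdx.getD r 0)
    (e1 : D.chainEntry r s = []) (e2 : D.chainEntry (D.negIdx.getD r 0) s = []) :
    (D.nMat F r t).mulVec (h8Er D F s) = h8Er D F s := by
  have hw := hD.w r hr
  rw [h8nMat_mulVec]
  rw [h8x_mulVec_Er_fix D hD r hr t s hsr hsn e1]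
  rw [h8x_mulVec_Er_fix D hD _ hw.lt (-t⁻¹) s hsn (by rw [hw.negneg]; exact hsr) e2]
  rw [h8x_mulVec_Er_fix D hD r hr t s hsr hsn e1]

theorem h8x_neg_mulVec_Er (v : F) :
    (D.x F (D.negIdx.getD r 0) v).mulVec (h8Er D F r) =
      h8Er D F r - v • h8H D F r - (v ^ 2) • h8Er D F (D.negIdx.getD r 0) := by
  have hw := hD.w r hr
  have := h8x_mulVec_Er_neg (F := F) D hD _ hw.lt v
  rw [hw.negneg, h8H_neg D hD r hr] at this
  rw [this]
  module

theorem h8n_self :
    (D.nMat F r t).mulVec (h8Er D F r) = (-(t⁻¹ ^ 2)) • h8Er D F (D.negIdx.getD r 0) := by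
  have hw := hD.w r hr
  rw [h8nMat_mulVec]
  rw [h8x_mulVec_Er_self D r hr t]
  rw [h8x_neg_mulVec_Er D hD r hr t ht]
  rw [Matrix.mulVec_sub, Matrix.mulVec_sub, Matrix.mulVec_smul, Matrix.mulVec_smul]
  rw [h8x_mulVec_Er_self D r hr t, h8x_mulVec_H D hD r hr t, h8x_mulVec_Er_neg D hD r hr t]
  match_scalars <;> field_simp <;> ring

theorem h8n_neg :
    (D.nMat F r t).mulVec (h8Er D F (D.negIdx.getD r 0)) = (-(t ^ 2)) • h8Er D F r := by
  have hw := hD.w r hr
  rw [h8nMat_mulVec]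
  rw [h8x_mulVec_Er_neg D hD r hr t]
  rw [Matrix.mulVec_sub, Matrix.mulVec_add, Matrix.mulVec_smul, Matrix.mulVec_smul]
  rw [h8x_mulVec_Er_self D _ hw.lt, h8x_mulVec_H_neg D hD r hr, h8x_neg_mulVec_Er D hD r hr t ht]
  rw [Matrix.mulVec_sub, Matrix.mulVec_add, Matrix.mulVec_smul, Matrix.mulVec_smul]
  rw [Matrix.mulVec_add, Matrix.mulVec_smul, Matrix.mulVec_sub, Matrix.mulVec_sub,
    Matrix.mulVec_smul, Matrix.mulVec_smul]
  rw [h8x_mulVec_Er_self D r hr t, h8x_mulVec_H D hD r hr t, h8x_mulVec_Er_neg D hD r hr t]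
  match_scalars <;> field_simp <;> ring

theorem h8x_neg_mulVec_Eh (v : F) (i : ℕ) (hi : i < D.rank) :
    (D.x F (D.negIdx.getD r 0) v).mulVec (h8Eh D F i) = h8Eh D F i +
      ((((D.cartanSR.getD i #[]).getD r 0 : ℤ) : F) * v) • h8Er D F (D.negIdx.getD r 0) := by
  have hw := hD.w r hr
  rw [h8x_mulVec_Eh D _ hw.lt v i hi, hw.cartan i hi]
  push_cast
  module

theorem h8n_Eh (i : ℕ) (hi : i < D.rank) :
    (D.nMat F r t).mulVec (h8Eh D F i) = h8Eh D F i -
      (((D.cartanSR.getD i #[]).getD r 0 : ℤ) : F) • h8H D F r := by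
  have hw := hD.w r hr
  rw [h8nMat_mulVec]
  rw [h8x_mulVec_Eh D r hr t i hi]
  rw [Matrix.mulVec_sub, Matrix.mulVec_smul]
  rw [h8x_neg_mulVec_Eh D hD r hr t ht _ i hi, h8x_neg_mulVec_Er D hD r hr t ht]
  rw [Matrix.mulVec_sub, Matrix.mulVec_add, Matrix.mulVec_smul, Matrix.mulVec_smul]
  rw [Matrix.mulVec_sub, Matrix.mulVec_sub, Matrix.mulVec_smul, Matrix.mulVec_smul]
  rw [h8x_mulVec_Eh D r hr t i hi, h8x_mulVec_Er_self D r hr t, h8x_mulVec_H D hD r hr t,
    h8x_mulVec_Er_neg D hD r hr t]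
  match_scalars <;> field_simp <;> ring

theorem h8n_H :
    (D.nMat F r t).mulVec (h8H D F r) = - h8H D F r := by
  have hw := hD.w r hr
  rw [h8H_eq_sum' (F := F) D r, Matrix.mulVec_sum]
  have h1 : ∀ i : Fin D.rank, (D.nMat F r t).mulVec
      (((((D.coroot.getD r #[]).getD i.val 0 : ℤ) : F)) • h8Eh D F i.val) =
      ((((D.coroot.getD r #[]).getD i.val 0 : ℤ) : F)) • h8Eh D F i.val -
      ((((D.coroot.getD r #[]).getD i.val 0 * (D.cartanSR.getD i.val #[]).getD r 0 : ℤ)) : F) •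
        h8H D F r := by
    intro i
    rw [Matrix.mulVec_smul, h8n_Eh D hD r hr t ht i.val i.2, smul_sub, smul_smul]
    push_cast
    rfl
  rw [Finset.sum_congr rfl (fun i _ => h1 i), Finset.sum_sub_distrib, ← Finset.sum_smul,
    ← Int.cast_sum, hw.two, ← h8H_eq_sum' (F := F) D r]
  push_cast
  module

end

end Cfsg.Agent.Lib.helper8
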