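import Mathlib
import Cfsg.Prelude.Def_ChevStructure
import Cfsg.Agent.Lib.helper8.ChevSLn

set_option autoImplicit false

namespace Cfsg.Agent.Lib.helper8

open Cfsg.Lie Cfsg.Lie.ChevalleyDatum

variable {F : Type*} [Field F]

def h8hexpR (D : ChevalleyDatum) (r s : ℕ) : ℤ :=
  if s = r then 2 else if s = D.negIdx.getD r 0 then -2
  else match D.chainEntry r s with
    | _ :: _ => -1
    | [] => match D.chainEntry (D.negIdx.getD r 0) s with
      | _ :: _ => 1
      | [] => 0

def h8hexp (D : ChevalleyDatum) (r : ℕ) : D.Idx → ℤ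
  | Sum.inl _ => 0
  | Sum.inr s => h8hexpR D r s.val

theorem h8E_inr (D : ChevalleyDatum) (s : Fin D.nroots) :
    h8E D F (Sum.inr s) = h8Er D F s.val := by
  rw [h8Er_of_lt D s.val s.2]

theorem h8E_inl (D : ChevalleyDatum) (i : Fin D.rank) :
    h8E D F (Sum.inl i) = h8Eh D F i.val := by
  rw [h8Eh_of_lt D i.val i.2]

theorem h8hMat_diag (D : ChevalleyDatum) (hD : H8SL D) (r : ℕ) (hr : r < D.nroots) (t : F)
    (ht : t ≠ 0) : D.hMat F r t = Matrix.diagonal (fun c => t ^ (h8hexp D r c)) := by
  have hw := hD.w r hr
  have hsl := hD.sl r hr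
  have hslN := hD.sl _ hw.lt
  rw [hw.negneg] at hslN
  have h1 : (-1 : F) ≠ 0 := by norm_num
  apply Matrix.ext_of_mulVec_single
  intro c
  rw [Matrix.diagonal_mulVec_single, mul_one, h8hMat_eq, ← Matrix.mulVec_mulVec]
  have hE : (Pi.single c (1 : F) : D.Idx → F) = h8E D F c := rfl
  have hE2 : (Pi.single c (t ^ h8hexp D r c) : D.Idx → F) = (t ^ h8hexp D r c) • h8E D F c := by
    unfold h8E
    rw [← Pi.single_smul, smul_eq_mul, mul_one]
  rw [hE, hE2]
  rcases c with i | s
  · rw [h8E_inl, h8n_Eh D hD r hr (-1) h1 i.val i.2, Matrix.mulVec_sub, Matrix.mulVec_smul,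
      h8n_Eh D hD r hr t ht i.val i.2, h8n_H D hD r hr t ht]
    show _ = t ^ (0 : ℤ) • _
    rw [zpow_zero]
    module
  · rw [h8E_inr]
    show _ = t ^ (h8hexpR D r s.val) • _
    unfold h8hexpR
    by_cases hsr : s.val = r
    · rw [if_pos hsr, hsr, h8n_self D hD r hr (-1) h1, Matrix.mulVec_smul, h8n_neg D hD r hr t ht]
      rw [zpow_ofNat]
      match_scalars
      field_simp
    · rw [if_neg hsr]
      by_cases hsn : s.val = D.negIdx.getD r 0
      · rw [if_pos hsn, hsn, h8n_neg D hD r hr (-1) h1, Matrix.mulVec_smul,
          h8n_self D hD r hr t ht]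
        rw [zpow_neg, zpow_ofNat]
        match_scalars
        field_simp
      · rw [if_neg hsn]
        rcases hsl.entry s.val with h0 | ⟨u, N, e0, hs, hu, _, _, hur, hun, hN, e1, e2, e3⟩
        · rw [h0]
          rcases hslN.entry s.val with h0' | ⟨u, N, e0, hs, hu, _, _, hun, hur, hN, e1, e2, e3⟩
          · rw [h0']
            rw [h8n_inactive D hD r hr (-1) h1 s.val hsr hsn h0 h0',
              h8n_inactive D hD r hr t ht s.val hsr hsn h0 h0']
            simp
          · rw [e0]
            rw [h8n_top D hD r hr (-1) h1 s.val u N e0, Matrix.mulVec_smul,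
              h8n_bottom D hD r hr t ht u s.val N e2]
            show _ = t ^ (1 : ℤ) • _
            rw [zpow_one]
            rcases hN with rfl | rfl
            · match_scalars
              push_cast
              field_simp
            · match_scalars
              push_cast
              field_simp
        · rw [e0]
          rw [h8n_bottom D hD r hr (-1) h1 s.val u N e0, Matrix.mulVec_smul,
            h8n_top D hD r hr t ht u s.val N e2]
          show _ = t ^ (-1 : ℤ) • _
          rw [zpow_neg, zpow_one]
          rcases hN with rfl | rfl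
          · match_scalars
            push_cast
            field_simp
          · match_scalars
            push_cast
            field_simp

end Cfsg.Agent.Lib.helper8
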