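import Mathlib
import Cfsg.Prelude.Def_ChevStructure
import Cfsg.Agent.Lib.helper8.ChevPack
import Cfsg.Agent.Lib.helper8.ChevCA
import Cfsg.Agent.Lib.helper8.ChevSLh
import Cfsg.Agent.Lib.helper8.ChevDiag

set_option autoImplicit false

namespace Cfsg.Agent.Lib.helper8

open Cfsg.Lie Cfsg.Lie.ChevalleyDatum

variable {F : Type*} [Field F]

def h8K (D : ChevalleyDatum) (r v : ℕ) : ℤ :=
  ∑ i : Fin D.rank, (D.coroot.getD r #[]).getD i.val 0 * D.cartan i.val v

theorem h8K_neg (D : ChevalleyDatum) (hCA : H8CA D) (r s : ℕ) (hs : s < D.nroots) :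
    h8K D r (D.negIdx.getD s 0) = - h8K D r s := by
  unfold h8K
  rw [← Finset.sum_neg_distrib]
  apply Finset.sum_congr rfl
  intro i _
  rw [hCA.neg i.val i.2 s hs]
  ring

theorem h8K_add (D : ChevalleyDatum) (hCA : H8CA D) (r s : ℕ) (hs : s < D.nroots) (v u : ℕ)
    (km : ℕ × ℤ) (hkm : km ∈ D.chainCoeff s v u) :
    h8K D r u = h8K D r v + (km.1 : ℤ) * h8K D r s := by
  unfold h8K
  rw [Finset.mul_sum, ← Finset.sum_add_distrib]
  apply Finset.sum_congr rfl
  intro i _
  rw [hCA.add i.val i.2 s hs v u km hkm]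
  ring

theorem h8hMat_conj_x (D : ChevalleyDatum) (hCA : H8CA D) (r s : ℕ) (hs : s < D.nroots) (c : F)
    (hc : c ≠ 0) (t : F)
    (hdiag : D.hMat F r c = Matrix.diagonal (h8dvec D c (h8K D r))) :
    D.hMat F r c * D.x F s t = D.x F s (c ^ (h8K D r s) * t) * D.hMat F r c := by
  rw [hdiag]
  unfold ChevalleyDatum.x
  rw [dif_pos hs, dif_pos hs]
  exact h8diag_conj_xMat D c hc (h8K D r) ⟨s, hs⟩ t (h8K_neg D hCA r s hs)
    (fun v u km hkm => h8K_add D hCA r s hs v.val u.val km hkm)

def h8maskP (D : ChevalleyDatum) (r : ℕ) : ℕ :=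
  h8pack 2 (h8dens D.nroots 0 ((D.chain.getD r #[]).toList.map fun e => (e.1, 1)))

def h8hasKey (D : ChevalleyDatum) (r s : ℕ) : Bool := h8unpack 2 (h8maskP D r) s == 1

theorem h8dens_small (B : ℕ) (hB : 0 < B) : ∀ (c st : ℕ) (L : List (ℕ × ℕ)), (∀ e ∈ L, e.2 < B) →
    ∀ a ∈ h8dens c st L, a < B
  | 0, _, _, _, a, ha => by simp [h8dens] at ha
  | c + 1, st, [], hL, a, ha => by
    unfold h8dens at ha
    rw [List.mem_cons] at ha
    rcases ha with rfl | ha
    · exact hB
    · exact h8dens_small B hB c (st + 1) [] hL a ha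
  | c + 1, st, (k, v) :: L, hL, a, ha => by
    unfold h8dens at ha
    split_ifs at ha
    · rw [List.mem_cons] at ha
      rcases ha with rfl | ha
      · exact hL (k, a) (List.mem_cons_self)
      · exact h8dens_small B hB c (st + 1) L (fun e he => hL e (List.mem_cons_of_mem _ he)) a ha
    · rw [List.mem_cons] at ha
      rcases ha with rfl | ha
      · exact hB
      · exact h8dens_small B hB c (st + 1) ((k, v) :: L) hL a ha

theorem h8lookupN_one (L : List (ℕ × ℕ)) (hL : ∀ e ∈ L, e.2 = 1) (s : ℕ) :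
    h8lookupN L s = 1 ↔ ∃ e ∈ L, e.1 = s := by
  unfold h8lookupN
  cases h : L.find? (fun e => e.1 = s) with
  | none =>
    rw [List.find?_eq_none] at h
    constructor
    · intro h0; cases h0
    · rintro ⟨e, he, hes⟩
      have := h e he
      simp [hes] at this
  | some e =>
    have hmem := List.mem_of_find?_eq_some h
    have hkey := List.find?_some h
    constructor
    · intro _
      exact ⟨e, hmem, by simpa using hkey⟩
    · intro _
      exact hL e hmem

theorem h8hasKey_spec (D : ChevalleyDatum) (r s : ℕ) (hs : s < D.nroots)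
    (hL : (((D.chain.getD r #[]).toList).map Prod.fst).Pairwise (· < ·)) :
    h8hasKey D r s = true ↔ ∃ e ∈ (D.chain.getD r #[]).toList, e.1 = s := by
  unfold h8hasKey h8maskP
  rw [beq_iff_eq, h8unpack_pack 2 (by norm_num)]
  · have hL' : ((((D.chain.getD r #[]).toList.map fun e => (e.1, 1)) : List (ℕ × ℕ)).map
        Prod.fst).Pairwise (· < ·) := by
      rw [List.map_map]
      exact hL
    have := h8dens_getD D.nroots 0 _ hL' (fun e _ => Nat.zero_le _) s hs
    rw [Nat.zero_add] at this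
    rw [this, h8lookupN_one]
    · constructor
      · rintro ⟨e, he, hes⟩
        rw [List.mem_map] at he
        obtain ⟨e0, he0, rfl⟩ := he
        exact ⟨e0, he0, hes⟩
      · rintro ⟨e, he, hes⟩
        exact ⟨(e.1, 1), List.mem_map_of_mem he, hes⟩
    · intro e he
      rw [List.mem_map] at he
      obtain ⟨e0, _, rfl⟩ := he
      rfl
  · apply h8dens_small 2 (by norm_num)
    intro e he
    rw [List.mem_map] at he
    obtain ⟨e0, _, rfl⟩ := he
    norm_num

theorem h8hasKey_SL (D : ChevalleyDatum) (r nr s : ℕ) (hs : s < D.nroots) (hsl : H8SLRow D r nr) :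
    h8hasKey D r s = true ↔ D.chainEntry r s ≠ [] := by
  rw [h8hasKey_spec D r s hs hsl.sorted]
  constructor
  · rintro ⟨e, he, hes⟩
    have h1 := h8chainEntry_of_mem D r hsl.sorted e he
    rw [hes] at h1
    rw [h1]
    exact hsl.nonempty e he
  · intro hne
    rcases h8chainEntry_cases D r s with h0 | ⟨e, he, hes, _⟩
    · exact absurd h0 hne
    · exact ⟨e, he, hes⟩

def h8hexpF (D : ChevalleyDatum) (r v : ℕ) : ℤ :=
  if v = r then 2 else if v = D.negIdx.getD r 0 then -2
  else if h8hasKey D r v then -1 else if h8hasKey D (D.negIdx.getD r 0) v then 1 else 0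

theorem h8hexpF_eq (D : ChevalleyDatum) (hD : H8SL D) (r v : ℕ) (hr : r < D.nroots)
    (hv : v < D.nroots) : h8hexpF D r v = h8hexpR D r v := by
  have hw := hD.w r hr
  have hsl := hD.sl r hr
  have hslN := hD.sl _ hw.lt
  unfold h8hexpF h8hexpR
  by_cases h1 : v = r
  · rw [if_pos h1, if_pos h1]
  · rw [if_neg h1, if_neg h1]
    by_cases h2 : v = D.negIdx.getD r 0
    · rw [if_pos h2, if_pos h2]
    · rw [if_neg h2, if_neg h2]
      have e1 := h8hasKey_SL D r _ v hv hsl
      have e2 := h8hasKey_SL D _ _ v hv hslN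
      rcases h3 : D.chainEntry r v with _ | ⟨p, tl⟩
      · have : ¬ h8hasKey D r v = true := by rw [e1, h3]; simp
        rw [if_neg this]
        rcases h4 : D.chainEntry (D.negIdx.getD r 0) v with _ | ⟨p, tl⟩
        · have : ¬ h8hasKey D (D.negIdx.getD r 0) v = true := by rw [e2, h4]; simp
          rw [if_neg this]
        · have : h8hasKey D (D.negIdx.getD r 0) v = true := by rw [e2, h4]; simp
          rw [if_pos this]
      · have : h8hasKey D r v = true := by rw [e1, h3]; simp
        rw [if_pos this]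

def h8KF (D : ChevalleyDatum) (r v : ℕ) : ℤ :=
  ((List.range D.rank).map fun i => (D.coroot.getD r #[]).getD i 0 *
    h8unpackZ (h8packZ (D.cartanSR.getD i #[]).toList) v).sum

theorem h8KF_eq (D : ChevalleyDatum) (hCA : h8CAchk D = true) (r v : ℕ) (hv : v < D.nroots) :
    h8KF D r v = h8K D r v := by
  unfold h8KF h8K
  rw [h8list_sum_range]
  apply Finset.sum_congr rfl
  intro i _
  obtain ⟨h1, h2⟩ := h8CAchk_rows D hCA i.val i.2
  rw [h8cartan_fast D i.val h1 h2 v hv]

def h8T5chkSL (D : ChevalleyDatum) : Bool :=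
  (List.range D.nroots).all fun r => (List.range D.nroots).all fun v =>
    decide (h8hexpF D r v = h8KF D r v)

theorem h8T5_SL (D : ChevalleyDatum) (hD : H8SL D) (hCA : h8CAchk D = true)
    (hT : h8T5chkSL D = true) (r v : ℕ) (hr : r < D.nroots) (hv : v < D.nroots) :
    h8hexpR D r v = h8K D r v := by
  unfold h8T5chkSL at hT
  simp only [List.all_eq_true, List.mem_range, decide_eq_true_eq] at hT
  rw [← h8hexpF_eq D hD r v hr hv, hT r hr v hv, h8KF_eq D hCA r v hv]

theorem h8hMat_diagK_SL (D : ChevalleyDatum) (hD : H8SL D) (hCA : h8CAchk D = true)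
    (hT : h8T5chkSL D = true) (r : ℕ) (hr : r < D.nroots) (t : F) (ht : t ≠ 0) :
    D.hMat F r t = Matrix.diagonal (h8dvec D t (h8K D r)) := by
  rw [h8hMat_diag D hD r hr t ht]
  congr 1
  funext c
  rcases c with j | v
  · show t ^ (0 : ℤ) = 1
    rw [zpow_zero]
  · show t ^ (h8hexpR D r v.val) = t ^ (h8K D r v.val)
    rw [h8T5_SL D hD hCA hT r v.val hr v.2]

end Cfsg.Agent.Lib.helper8
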