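import Mathlib

set_option autoImplicit false
set_option linter.unusedSectionVars false

namespace Cfsg.Agent.Lib.helper8

open scoped commutatorElement

variable {ι : Type*} [Fintype ι] [DecidableEq ι] {R : Type*} [CommRing R]

def H8Tri (ρ : ι → ℕ) (k : ℕ) (A : Matrix ι ι R) : Prop := ∀ i j, A i j ≠ 0 → ρ j + k ≤ ρ i

namespace H8Tri

variable {ρ : ι → ℕ}

theorem zero (k : ℕ) : H8Tri ρ k (0 : Matrix ι ι R) := fun i j h => absurd rfl h

theorem one : H8Tri ρ 0 (1 : Matrix ι ι R) := by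
  intro i j h
  by_cases hij : i = j
  · subst hij; omega
  · exact absurd (Matrix.one_apply_ne hij) h

theorem mono {k l : ℕ} {A : Matrix ι ι R} (hkl : k ≤ l) (hA : H8Tri ρ l A) : H8Tri ρ k A :=
  fun i j h => by have := hA i j h; omega

theorem add {k : ℕ} {A B : Matrix ι ι R} (hA : H8Tri ρ k A) (hB : H8Tri ρ k B) :
    H8Tri ρ k (A + B) := by
  intro i j h
  by_cases h1 : A i j = 0
  · by_cases h2 : B i j = 0
    · exact absurd (by rw [Matrix.add_apply, h1, h2, add_zero]) h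
    · exact hB i j h2
  · exact hA i j h1

theorem neg {k : ℕ} {A : Matrix ι ι R} (hA : H8Tri ρ k A) : H8Tri ρ k (-A) := by
  intro i j h
  apply hA i j
  intro h0
  apply h
  rw [Matrix.neg_apply, h0, neg_zero]

theorem sub {k : ℕ} {A B : Matrix ι ι R} (hA : H8Tri ρ k A) (hB : H8Tri ρ k B) :
    H8Tri ρ k (A - B) := by
  rw [sub_eq_add_neg]
  exact hA.add hB.neg

theorem mul {k l : ℕ} {A B : Matrix ι ι R} (hA : H8Tri ρ k A) (hB : H8Tri ρ l B) :
    H8Tri ρ (k + l) (A * B) := by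
  intro i j h
  rw [Matrix.mul_apply] at h
  obtain ⟨m, _, hm⟩ := Finset.exists_ne_zero_of_sum_ne_zero h
  have h1 : A i m ≠ 0 := left_ne_zero_of_mul hm
  have h2 : B m j ≠ 0 := right_ne_zero_of_mul hm
  have := hA i m h1
  have := hB m j h2
  omega

theorem pow {k : ℕ} {A : Matrix ι ι R} (hA : H8Tri ρ k A) (n : ℕ) : H8Tri ρ (n * k) (A ^ n) := by
  induction n with
  | zero => rw [pow_zero, Nat.zero_mul]; exact one
  | succ n ih =>
    rw [pow_succ, Nat.succ_mul]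
    exact ih.mul hA

theorem sum {α : Type*} {k : ℕ} (s : Finset α) (f : α → Matrix ι ι R)
    (h : ∀ a ∈ s, H8Tri ρ k (f a)) : H8Tri ρ k (∑ a ∈ s, f a) := by
  classical
  induction s using Finset.induction_on with
  | empty => rw [Finset.sum_empty]; exact zero k
  | insert a s ha ih =>
    rw [Finset.sum_insert ha]
    exact (h a (Finset.mem_insert_self a s)).add
      (ih fun b hb => h b (Finset.mem_insert_of_mem hb))

theorem eq_zero {n : ℕ} {A : Matrix ι ι R} (hρ : ∀ i, ρ i < n) (hA : H8Tri ρ n A) : A = 0 := by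
  ext i j
  by_contra h
  have := hA i j h
  have := hρ i
  simp only [Matrix.zero_apply] at *
  omega

end H8Tri

def H8Unitri (ρ : ι → ℕ) (k : ℕ) (A : Matrix ι ι R) : Prop := H8Tri ρ k (A - 1)

theorem h8unitri_one (ρ : ι → ℕ) (k : ℕ) : H8Unitri ρ k (1 : Matrix ι ι R) := by
  unfold H8Unitri
  rw [sub_self]
  exact H8Tri.zero k

theorem h8unitri_tri {ρ : ι → ℕ} {k : ℕ} {A : Matrix ι ι R} (hA : H8Unitri ρ k A) : H8Tri ρ 0 A := by
  have : A = (A - 1) + 1 := by abel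
  rw [this]
  exact (H8Tri.mono (Nat.zero_le k) hA).add H8Tri.one

theorem h8unitri_mul {ρ : ι → ℕ} {k : ℕ} {A B : Matrix ι ι R} (hA : H8Unitri ρ k A)
    (hB : H8Unitri ρ k B) : H8Unitri ρ k (A * B) := by
  unfold H8Unitri at *
  have : A * B - 1 = (A - 1) * B + (B - 1) := by noncomm_ring
  rw [this]
  have h1 : H8Tri ρ (k + 0) ((A - 1) * B) := hA.mul (h8unitri_tri hB)
  exact (by simpa using h1 : H8Tri ρ k ((A - 1) * B)).add hB

theorem h8unitri_pow_eq_zero {ρ : ι → ℕ} {n : ℕ} {A : Matrix ι ι R} (hρ : ∀ i, ρ i < n)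
    (hA : H8Unitri ρ 1 A) : (A - 1) ^ n = 0 := by
  apply H8Tri.eq_zero hρ
  have := H8Tri.pow hA n
  simpa using this

theorem h8unitri_inv {ρ : ι → ℕ} {n k : ℕ} (hk : 1 ≤ k) (hρ : ∀ i, ρ i < n) {A B : Matrix ι ι R}
    (hA : H8Unitri ρ k A) (hAB : A * B = 1) : H8Unitri ρ k B := by
  have hA1 : H8Unitri ρ 1 A := H8Tri.mono hk hA
  have hpow : (1 - A) ^ n = 0 := by
    have h := h8unitri_pow_eq_zero hρ hA1
    have : (1 - A) = -(A - 1) := by abel
    rw [this, neg_pow, h, mul_zero]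
  have hgeom : A * (∑ i ∈ Finset.range n, (1 - A) ^ i) = 1 := by
    have h := mul_neg_geom_sum (1 - A) n
    rw [hpow, sub_zero] at h
    simpa using h
  have hB : B = ∑ i ∈ Finset.range n, (1 - A) ^ i := by
    have hBA : B * A = 1 := by
      exact mul_eq_one_comm.mp hAB
    calc B = B * (A * ∑ i ∈ Finset.range n, (1 - A) ^ i) := by rw [hgeom, mul_one]
      _ = (B * A) * ∑ i ∈ Finset.range n, (1 - A) ^ i := by rw [mul_assoc]
      _ = _ := by rw [hBA, one_mul]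
  unfold H8Unitri
  rw [hB]
  rcases n with _ | n
  · simp only [Finset.range_zero, Finset.sum_empty]
    have : (0 : Matrix ι ι R) - 1 = 0 := by
      ext i j
      have := hρ i
      omega
    rw [this]
    exact H8Tri.zero k
  · rw [Finset.sum_range_succ', pow_zero, add_sub_cancel_right]
    apply H8Tri.sum
    intro i _
    have h1A : H8Tri ρ k (1 - A) := by
      have : (1 - A) = -(A - 1) := by abel
      rw [this]
      exact H8Tri.neg hA
    have := H8Tri.pow h1A (i + 1)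
    exact H8Tri.mono (by nlinarith) this

def h8UnitriSubgroup (ρ : ι → ℕ) (n : ℕ) (hρ : ∀ i, ρ i < n) (k : ℕ) : Subgroup (GL ι R) where
  carrier := {g | H8Unitri ρ (k + 1) (g : Matrix ι ι R)}
  mul_mem' := by
    intro a b ha hb
    show H8Unitri ρ (k + 1) ((a * b : GL ι R) : Matrix ι ι R)
    rw [Units.val_mul]
    exact h8unitri_mul ha hb
  one_mem' := h8unitri_one ρ (k + 1)
  inv_mem' := by
    intro a ha
    refine h8unitri_inv (Nat.le_add_left 1 k) hρ ha ?_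
    rw [← Units.val_mul, mul_inv_cancel, Units.val_one]

theorem h8_mem_unitriSubgroup (ρ : ι → ℕ) (n : ℕ) (hρ : ∀ i, ρ i < n) (k : ℕ) (g : GL ι R) :
    g ∈ h8UnitriSubgroup ρ n hρ k ↔ H8Unitri ρ (k + 1) (g : Matrix ι ι R) := Iff.rfl

theorem h8unitri_comm {ρ : ι → ℕ} {n : ℕ} (hρ : ∀ i, ρ i < n) {a : ℕ} (ha : 1 ≤ a) (x g : GL ι R)
    (hx : H8Unitri ρ a (x : Matrix ι ι R)) (hg : H8Unitri ρ 1 (g : Matrix ι ι R)) :
    H8Unitri ρ (a + 1) ((⁅x, g⁆ : GL ι R) : Matrix ι ι R) := by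
  have hxi : (x : Matrix ι ι R) * ((x⁻¹ : GL ι R) : Matrix ι ι R) = 1 := by
    rw [← Units.val_mul, mul_inv_cancel, Units.val_one]
  have hgi : (g : Matrix ι ι R) * ((g⁻¹ : GL ι R) : Matrix ι ι R) = 1 := by
    rw [← Units.val_mul, mul_inv_cancel, Units.val_one]
  have hx' : H8Tri ρ 0 ((x⁻¹ : GL ι R) : Matrix ι ι R) := h8unitri_tri (h8unitri_inv ha hρ hx hxi)
  have hg' : H8Tri ρ 0 ((g⁻¹ : GL ι R) : Matrix ι ι R) :=
    h8unitri_tri (h8unitri_inv (le_refl 1) hρ hg hgi)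
  have key : ((⁅x, g⁆ : GL ι R) : Matrix ι ι R) - 1 =
      (((x : Matrix ι ι R) - 1) * ((g : Matrix ι ι R) - 1) -
        ((g : Matrix ι ι R) - 1) * ((x : Matrix ι ι R) - 1)) *
        ((x⁻¹ : GL ι R) : Matrix ι ι R) * ((g⁻¹ : GL ι R) : Matrix ι ι R) := by
    rw [commutatorElement_def, Units.val_mul, Units.val_mul, Units.val_mul]
    have e1 : ((x : Matrix ι ι R) - 1) * ((g : Matrix ι ι R) - 1) -
        ((g : Matrix ι ι R) - 1) * ((x : Matrix ι ι R) - 1) =
        (x : Matrix ι ι R) * (g : Matrix ι ι R) - (g : Matrix ι ι R) * (x : Matrix ι ι R) := by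
      noncomm_ring
    rw [e1, sub_mul, sub_mul]
    have e2 : (g : Matrix ι ι R) * (x : Matrix ι ι R) * ((x⁻¹ : GL ι R) : Matrix ι ι R) *
        ((g⁻¹ : GL ι R) : Matrix ι ι R) = 1 := by
      rw [mul_assoc (g : Matrix ι ι R), hxi, mul_one, hgi]
    rw [e2]
  unfold H8Unitri
  rw [key]
  have h1 : H8Tri ρ (a + 1) (((x : Matrix ι ι R) - 1) * ((g : Matrix ι ι R) - 1) -
        ((g : Matrix ι ι R) - 1) * ((x : Matrix ι ι R) - 1)) := by
    apply H8Tri.sub
    · exact hx.mul hg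
    · have := hg.mul hx
      rwa [Nat.add_comm] at this
  have h2 := (h1.mul hx').mul hg'
  simpa using h2

theorem h8_isNilpotent_of_unitri (ρ : ι → ℕ) (n : ℕ) (hρ : ∀ i, ρ i < n) (U : Subgroup (GL ι R))
    (hU : ∀ g ∈ U, H8Unitri ρ 1 (g : Matrix ι ι R)) : Group.IsNilpotent U := by
  rw [Subgroup.nilpotent_iff_finite_descending_central_series]
  refine ⟨n, fun k => (h8UnitriSubgroup ρ n hρ k).subgroupOf U, ⟨?_, ?_⟩, ?_⟩
  · rw [Subgroup.subgroupOf_eq_top]
    exact fun g hg => hU g hg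
  · intro x k hx g
    rw [Subgroup.mem_subgroupOf] at hx ⊢
    rw [h8_mem_unitriSubgroup] at hx ⊢
    have : ((⁅x, g⁆ : U) : GL ι R) = ⁅(x : GL ι R), (g : GL ι R)⁆ := by
      simp [commutatorElement_def]
    rw [this]
    exact h8unitri_comm hρ (Nat.le_add_left 1 k) x.1 g.1 hx (hU g.1 g.2)
  · rw [eq_bot_iff]
    intro x hx
    rw [Subgroup.mem_subgroupOf, h8_mem_unitriSubgroup] at hx
    rw [Subgroup.mem_bot]
    have h0 : ((x : GL ι R) : Matrix ι ι R) - 1 = 0 :=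
      H8Tri.eq_zero hρ (H8Tri.mono (Nat.le_succ n) hx)
    apply Subtype.ext
    apply Units.ext
    rw [sub_eq_zero] at h0
    simpa using h0

end Cfsg.Agent.Lib.helper8
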