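import Mathlib
import Cfsg.Prelude.Def_ChevStructure
import Cfsg.Agent.Lib.helper8.Unitri

set_option autoImplicit false

namespace Cfsg.Agent.Lib.helper8

open Cfsg.Lie Cfsg.Lie.ChevalleyDatum

variable {F : Type*} [Field F]

theorem h8_chainCoeff_ne_nil (D : ChevalleyDatum) (r s u : ℕ) (h : D.chainCoeff r s u ≠ []) :
    ∃ e ∈ (D.chain.getD r #[]).toList, e.1 = s ∧ ∃ q ∈ e.2.toList, q.1 = u := by
  obtain ⟨x, hx⟩ := List.exists_mem_of_ne_nil _ h
  unfold ChevalleyDatum.chainCoeff at hx
  rw [List.mem_flatMap] at hx
  obtain ⟨e, he, hx⟩ := hx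
  rw [List.mem_filter] at he
  rw [List.mem_map] at hx
  obtain ⟨q, hq, _⟩ := hx
  rw [List.mem_filter] at hq
  refine ⟨e, he.1, by simpa using he.2, q.1, ?_, by simpa using hq.2⟩
  have := List.mem_zipIdx_iff_getElem?.mp hq.1
  exact List.mem_of_getElem? this

def h8rho (D : ChevalleyDatum) : D.Idx → ℕ
  | Sum.inl i => D.nroots / 2 + i.val
  | Sum.inr s => if s.val < D.nroots / 2 then s.val else D.rank + s.val

theorem h8rho_lt (D : ChevalleyDatum) (c : D.Idx) : h8rho D c < D.rank + D.nroots := by
  rcases c with i | s
  · have := i.2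
    show D.nroots / 2 + i.val < _
    omega
  · have := s.2
    show (if s.val < D.nroots / 2 then s.val else D.rank + s.val) < _
    split_ifs <;> omega

theorem h8rho_root_lt (D : ChevalleyDatum) (s u : Fin D.nroots) (h : s.val < u.val) :
    h8rho D (Sum.inr s) < h8rho D (Sum.inr u) := by
  show (if s.val < D.nroots / 2 then s.val else D.rank + s.val) <
    (if u.val < D.nroots / 2 then u.val else D.rank + u.val)
  split_ifs <;> omega

def h8PosOK (D : ChevalleyDatum) : Bool :=
  (List.range D.nroots).all fun r =>
    !(decide (D.IsPosRoot r)) ||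
      (decide (D.nroots / 2 ≤ r) && decide (D.negIdx.getD r 0 < D.nroots / 2) &&
        (D.chain.getD r #[]).toList.all fun e => e.2.toList.all fun q => decide (e.1 < q.1))

theorem h8PosOK_spec {D : ChevalleyDatum} (h : h8PosOK D = true) {r : ℕ} (hr : D.IsPosRoot r) :
    D.nroots / 2 ≤ r ∧ D.negIdx.getD r 0 < D.nroots / 2 ∧
      ∀ e ∈ (D.chain.getD r #[]).toList, ∀ q ∈ e.2.toList, e.1 < q.1 := by
  unfold h8PosOK at h
  rw [List.all_eq_true] at h
  have h1 := h r (List.mem_range.mpr hr.1)
  simp only [hr, decide_true, Bool.not_true, Bool.false_or, Bool.and_eq_true, decide_eq_true_eq,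
    List.all_eq_true] at h1
  exact ⟨h1.1.1, h1.1.2, h1.2⟩

theorem h8_xMat_unitri (D : ChevalleyDatum) (hD : h8PosOK D = true) (r : Fin D.nroots)
    (hr : D.IsPosRoot r.val) (t : F) : H8Unitri (h8rho D) 1 (D.xMat F r t) := by
  obtain ⟨h1, h2, h3⟩ := h8PosOK_spec hD hr
  intro row col hne
  rw [Matrix.sub_apply, Matrix.one_apply] at hne
  unfold ChevalleyDatum.xMat at hne
  rw [Matrix.of_apply] at hne
  generalize D.negIdx.getD r.val 0 = nr at h2 hne
  rcases col with i | s
  · rcases row with i' | u
    · exfalso
      apply hne
      by_cases hii : i' = i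
      · simp [hii]
      · have : ¬ (Sum.inl i' : D.Idx) = Sum.inl i := fun h => hii (Sum.inl.inj h)
        simp [hii]
    · by_cases hur : u = r
      · subst hur
        have := i.2
        show D.nroots / 2 + i.val + 1 ≤ (if u.val < D.nroots / 2 then u.val else D.rank + u.val)
        rw [if_neg (by omega)]
        omega
      · exfalso
        apply hne
        simp [hur]
  · by_cases hsr : s = r
    · exfalso
      apply hne
      subst hsr
      rcases row with i' | u
      · simp
      · by_cases hus : u = s
        · simp [hus]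
        · have : ¬ (Sum.inr u : D.Idx) = Sum.inr s := fun h => hus (Sum.inr.inj h)
          simp [hus]
    · by_cases hsn : s.val = nr
      · have hslt : s.val < D.nroots / 2 := by rw [hsn]; exact h2
        rcases row with i' | u
        · show (if s.val < D.nroots / 2 then s.val else D.rank + s.val) + 1 ≤ D.nroots / 2 + i'.val
          rw [if_pos hslt]
          omega
        · by_cases hus : u = s
          · exfalso
            apply hne
            simp [hsr, hsn, hus]
          · by_cases hur : u = r
            · subst hur
              apply h8rho_root_lt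
              omega
            · exfalso
              apply hne
              have : ¬ (Sum.inr u : D.Idx) = Sum.inr s := fun h => hus (Sum.inr.inj h)
              simp [hsr, hsn, hus, hur]
      · rcases row with i' | u
        · exfalso
          apply hne
          simp [hsr, hsn]
        · simp only [hsr, hsn, if_false] at hne
          by_cases hcc : D.chainCoeff r.val s.val u.val = []
          · exfalso
            apply hne
            rw [hcc]
            by_cases hus : u = s
            · simp [hus]
            · have : ¬ (Sum.inr u : D.Idx) = Sum.inr s := fun h => hus (Sum.inr.inj h)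
              simp [hus]
          · obtain ⟨e, he, hes, q, hq, hqu⟩ := h8_chainCoeff_ne_nil D _ _ _ hcc
            have := h3 e he q hq
            apply h8rho_root_lt
            omega

theorem h8_x_unitri (D : ChevalleyDatum) (hD : h8PosOK D = true) (r : ℕ)
    (hr : D.IsPosRoot r) (t : F) : H8Unitri (h8rho D) 1 (D.x F r t) := by
  unfold ChevalleyDatum.x
  rw [dif_pos hr.1]
  exact h8_xMat_unitri D hD ⟨r, hr.1⟩ hr t

theorem h8_posUnipotent_unitri (D : ChevalleyDatum) (hD : h8PosOK D = true) (g : GL D.Idx F)
    (hg : g ∈ D.posUnipotent F) : H8Unitri (h8rho D) 1 (g : Matrix D.Idx D.Idx F) := by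
  unfold ChevalleyDatum.posUnipotent at hg
  induction hg using Subgroup.closure_induction with
  | mem x hx =>
    obtain ⟨r, t, hr, hx⟩ := hx
    rw [hx]
    exact h8_x_unitri D hD r hr t
  | one => exact h8unitri_one _ _
  | mul x y _ _ hx hy =>
    rw [Units.val_mul]
    exact h8unitri_mul hx hy
  | inv x _ hx =>
    refine h8unitri_inv (le_refl 1) (h8rho_lt D) hx ?_
    rw [← Units.val_mul, mul_inv_cancel, Units.val_one]

end Cfsg.Agent.Lib.helper8
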