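import Mathlib
import Cfsg.Prelude.Def_ChevStructure
import Cfsg.Agent.Lib.helper8.ChevK
import Cfsg.Agent.Lib.helper8.ChevTri

set_option autoImplicit false

namespace Cfsg.Agent.Lib.helper8

open Cfsg.Lie Cfsg.Lie.ChevalleyDatum

structure H8Base.{u} (D : ChevalleyDatum) : Prop where
  add : ∀ (F : Type u) [Field F] (r : ℕ), r < D.nroots → ∀ t₁ t₂ : F,
    D.x F r t₁ * D.x F r t₂ = D.x F r (t₁ + t₂)
  zero : ∀ (F : Type u) [Field F] (r : ℕ), D.x F r 0 = 1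
  ca : H8CA D
  posOK : h8PosOK D = true
  posneg : ∀ r < D.nroots, D.IsPosRoot r ∨ D.IsNegRoot r
  hdiag : ∀ (F : Type u) [Field F] (r : ℕ), r < D.nroots → ∀ t : F, t ≠ 0 →
    D.hMat F r t = Matrix.diagonal (h8dvec D t (h8K D r))

end Cfsg.Agent.Lib.helper8
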