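import Mathlib
import Cfsg.Prelude.Def_ChevStructure
import Cfsg.Agent.Lib.helper8.ChevBase
import Cfsg.Agent.Lib.helper8.ChevSLn

set_option autoImplicit false

namespace Cfsg.Agent.Lib.helper8

open Cfsg.Lie Cfsg.Lie.ChevalleyDatum

universe u

variable {F : Type u} [Field F]

theorem h8x_mul_neg (D : ChevalleyDatum) (hB : H8Base.{u} D) (r : ℕ) (t : F) :
    D.x F r t * D.x F r (-t) = 1 := by
  by_cases hr : r < D.nroots
  · rw [hB.add F r hr, add_neg_cancel, hB.zero]
  · unfold ChevalleyDatum.x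
    rw [dif_neg hr, dif_neg hr, one_mul]

theorem h8x_neg_mul (D : ChevalleyDatum) (hB : H8Base.{u} D) (r : ℕ) (t : F) :
    D.x F r (-t) * D.x F r t = 1 := by
  have := h8x_mul_neg D hB r (-t)
  rwa [neg_neg] at this

def h8xU (D : ChevalleyDatum) (hB : H8Base.{u} D) (r : ℕ) (t : F) : GL D.Idx F :=
  ⟨D.x F r t, D.x F r (-t), h8x_mul_neg D hB r t, h8x_neg_mul D hB r t⟩

theorem h8xU_val (D : ChevalleyDatum) (hB : H8Base.{u} D) (r : ℕ) (t : F) :
    ((h8xU D hB r t : GL D.Idx F) : Matrix D.Idx D.Idx F) = D.x F r t := rfl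

def h8wordU (D : ChevalleyDatum) (hB : H8Base.{u} D) (w : List (ℕ × F)) : GL D.Idx F :=
  (w.map fun p => h8xU D hB p.1 p.2).prod

theorem h8wordU_val (D : ChevalleyDatum) (hB : H8Base.{u} D) (w : List (ℕ × F)) :
    ((h8wordU D hB w : GL D.Idx F) : Matrix D.Idx D.Idx F) = D.wordMat F w := by
  induction w with
  | nil =>
    rw [h8wordMat_nil]
    rfl
  | cons p w ih =>
    rw [h8wordMat_cons, ← ih]
    unfold h8wordU
    rw [List.map_cons, List.prod_cons, Units.val_mul]
    rfl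

theorem h8wordU_mem_group (D : ChevalleyDatum) (hB : H8Base.{u} D) (w : List (ℕ × F)) :
    h8wordU D hB w ∈ D.group F := by
  unfold h8wordU
  apply Subgroup.list_prod_mem
  intro g hg
  rw [List.mem_map] at hg
  obtain ⟨p, _, rfl⟩ := hg
  by_cases hr : p.1 < D.nroots
  · unfold ChevalleyDatum.group
    apply Subgroup.subset_closure
    refine ⟨⟨p.1, hr⟩, p.2, ?_⟩
    rw [h8xU_val]
    unfold ChevalleyDatum.x
    rw [dif_pos hr]
  · have : h8xU D hB p.1 p.2 = 1 := by
      apply Units.ext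
      rw [h8xU_val]
      unfold ChevalleyDatum.x
      rw [dif_neg hr]
      rfl
    rw [this]
    exact Subgroup.one_mem _

def h8nU (D : ChevalleyDatum) (hB : H8Base.{u} D) (r : ℕ) (t : F) : GL D.Idx F :=
  h8wordU D hB (D.nWord r t)

theorem h8nU_val (D : ChevalleyDatum) (hB : H8Base.{u} D) (r : ℕ) (t : F) :
    ((h8nU D hB r t : GL D.Idx F) : Matrix D.Idx D.Idx F) = D.nMat F r t :=
  h8wordU_val D hB _

def h8hU (D : ChevalleyDatum) (hB : H8Base.{u} D) (r : ℕ) (t : F) : GL D.Idx F :=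
  h8wordU D hB (D.hWord r t)

theorem h8hU_val (D : ChevalleyDatum) (hB : H8Base.{u} D) (r : ℕ) (t : F) :
    ((h8hU D hB r t : GL D.Idx F) : Matrix D.Idx D.Idx F) = D.hMat F r t :=
  h8wordU_val D hB _

theorem h8nU_mem_N (D : ChevalleyDatum) (hB : H8Base.{u} D) (r : ℕ) (hr : r < D.nroots) :
    h8nU D hB r (1 : F) ∈ D.monomialSubgroup F := by
  unfold ChevalleyDatum.monomialSubgroup
  apply Subgroup.mem_sup_right
  apply Subgroup.subset_closure
  exact ⟨r, hr, h8nU_val D hB r 1⟩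

theorem h8hU_mem_H (D : ChevalleyDatum) (hB : H8Base.{u} D) (r : ℕ) (hr : r < D.nroots) (t : F)
    (ht : t ≠ 0) : h8hU D hB r t ∈ D.diagonalSubgroup F := by
  unfold ChevalleyDatum.diagonalSubgroup
  apply Subgroup.subset_closure
  exact ⟨r, t, hr, ht, h8hU_val D hB r t⟩

theorem h8_U_le_group (D : ChevalleyDatum) : D.posUnipotent F ≤ D.group F := by
  unfold ChevalleyDatum.posUnipotent ChevalleyDatum.group
  apply Subgroup.closure_mono
  rintro g ⟨r, t, hr, hg⟩
  refine ⟨⟨r, hr.1⟩, t, ?_⟩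
  rw [hg]
  unfold ChevalleyDatum.x
  rw [dif_pos hr.1]

theorem h8_H_le_group (D : ChevalleyDatum) (hB : H8Base.{u} D) :
    D.diagonalSubgroup F ≤ D.group F := by
  unfold ChevalleyDatum.diagonalSubgroup
  rw [Subgroup.closure_le]
  rintro g ⟨r, t, _, _, hg⟩
  have : g = h8hU D hB r t := by
    apply Units.ext
    rw [hg, h8hU_val]
  rw [this]
  exact h8wordU_mem_group D hB _

theorem h8_N_le_group (D : ChevalleyDatum) (hB : H8Base.{u} D) :
    D.monomialSubgroup F ≤ D.group F := by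
  unfold ChevalleyDatum.monomialSubgroup
  apply sup_le (h8_H_le_group D hB)
  rw [Subgroup.closure_le]
  rintro g ⟨r, _, hg⟩
  have : g = h8nU D hB r 1 := by
    apply Units.ext
    rw [hg, h8nU_val]
  rw [this]
  exact h8wordU_mem_group D hB _

theorem h8_B_le_group (D : ChevalleyDatum) (hB : H8Base.{u} D) :
    D.borelSubgroup F ≤ D.group F :=
  sup_le (h8_U_le_group D) (h8_H_le_group D hB)

end Cfsg.Agent.Lib.helper8
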