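import Mathlib
import Cfsg.Prelude.Def_ChevStructure
import Cfsg.Agent.Lib.helper8.ChevBase

set_option autoImplicit false

namespace Cfsg.Agent.Lib.helper8

open Cfsg.Lie Cfsg.Lie.ChevalleyDatum

universe u

variable {F : Type u} [Field F]

theorem h8_mem_normalizer_closure {G : Type*} [Group G] (S : Set G) (g : G)
    (h1 : ∀ s ∈ S, g * s * g⁻¹ ∈ Subgroup.closure S)
    (h2 : ∀ s ∈ S, g⁻¹ * s * g ∈ Subgroup.closure S) :
    g ∈ Subgroup.normalizer (Subgroup.closure S : Set G) := by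
  have key1 : ∀ x ∈ Subgroup.closure S, g * x * g⁻¹ ∈ Subgroup.closure S := by
    intro x hx
    induction hx using Subgroup.closure_induction with
    | mem s hs => exact h1 s hs
    | one => simp
    | mul a b _ _ ha hb =>
      have : g * (a * b) * g⁻¹ = (g * a * g⁻¹) * (g * b * g⁻¹) := by group
      rw [this]
      exact Subgroup.mul_mem _ ha hb
    | inv a _ ha =>
      have : g * a⁻¹ * g⁻¹ = (g * a * g⁻¹)⁻¹ := by group
      rw [this]
      exact Subgroup.inv_mem _ ha
  have key2 : ∀ x ∈ Subgroup.closure S, g⁻¹ * x * g ∈ Subgroup.closure S := by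
    intro x hx
    induction hx using Subgroup.closure_induction with
    | mem s hs => exact h2 s hs
    | one => simp
    | mul a b _ _ ha hb =>
      have : g⁻¹ * (a * b) * g = (g⁻¹ * a * g) * (g⁻¹ * b * g) := by group
      rw [this]
      exact Subgroup.mul_mem _ ha hb
    | inv a _ ha =>
      have : g⁻¹ * a⁻¹ * g = (g⁻¹ * a * g)⁻¹ := by group
      rw [this]
      exact Subgroup.inv_mem _ ha
  rw [Subgroup.mem_normalizer_iff]
  intro x
  constructor
  · intro hx
    exact key1 x hx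
  · intro hx
    have := key2 _ hx
    have e : g⁻¹ * (g * x * g⁻¹) * g = x := by group
    rwa [e] at this

theorem h8_diag_of_mem_H (D : ChevalleyDatum) (hB : H8Base.{u} D) (g : GL D.Idx F)
    (hg : g ∈ D.diagonalSubgroup F) : ∃ d : D.Idx → F, (g : Matrix D.Idx D.Idx F) = Matrix.diagonal d := by
  unfold ChevalleyDatum.diagonalSubgroup at hg
  induction hg using Subgroup.closure_induction with
  | mem x hx =>
    obtain ⟨r, t, hr, ht, hx⟩ := hx
    exact ⟨_, hx.trans (hB.hdiag F r hr t ht)⟩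
  | one => exact ⟨fun _ => 1, by simp⟩
  | mul a b _ _ ha hb =>
    obtain ⟨d1, h1⟩ := ha
    obtain ⟨d2, h2⟩ := hb
    exact ⟨fun i => d1 i * d2 i, by rw [Units.val_mul, h1, h2, Matrix.diagonal_mul_diagonal]⟩
  | inv a _ ha =>
    obtain ⟨d, h⟩ := ha
    refine ⟨Ring.inverse d, ?_⟩
    rw [Matrix.coe_units_inv, h, Matrix.inv_diagonal]

theorem h8_U_inf_H (D : ChevalleyDatum) (hB : H8Base.{u} D) :
    D.posUnipotent F ⊓ D.diagonalSubgroup F = ⊥ := by
  rw [eq_bot_iff]
  intro g hg
  rw [Subgroup.mem_inf] at hg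
  obtain ⟨d, hd⟩ := h8_diag_of_mem_H D hB g hg.2
  have hu := h8_posUnipotent_unitri D hB.posOK g hg.1
  rw [Subgroup.mem_bot]
  apply Units.ext
  rw [Units.val_one]
  ext i j
  by_cases hij : i = j
  · subst hij
    by_contra hne
    have h1 : ((g : Matrix D.Idx D.Idx F) - 1) i i ≠ 0 := by
      rw [Matrix.sub_apply, Matrix.one_apply_eq]
      intro h0
      apply hne
      rw [Matrix.one_apply_eq]
      exact sub_eq_zero.mp h0
    have := hu i i h1
    omega
  · rw [hd, Matrix.diagonal_apply_ne _ hij, Matrix.one_apply_ne hij]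

theorem h8_H_le_normalizer_gen (D : ChevalleyDatum) (hB : H8Base.{u} D) (P : ℕ → Prop)
    (hP : ∀ s, P s → s < D.nroots) :
    D.diagonalSubgroup F ≤ Subgroup.normalizer (Subgroup.closure
      {g : GL D.Idx F | ∃ (s : ℕ) (u : F), P s ∧ (g : Matrix D.Idx D.Idx F) = D.x F s u} :
        Set (GL D.Idx F)) := by
  unfold ChevalleyDatum.diagonalSubgroup
  rw [Subgroup.closure_le]
  rintro g ⟨r, t, hr, ht, hg⟩
  apply h8_mem_normalizer_closure
  · rintro x ⟨s, u, hs, hx⟩
    apply Subgroup.subset_closure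
    refine ⟨s, t ^ (h8K D r s) * u, hs, ?_⟩
    have hconj := h8hMat_conj_x D hB.ca r s (hP s hs) t ht u (hB.hdiag F r hr t ht)
    rw [Units.val_mul, Units.val_mul, hg, hx, hconj, mul_assoc, ← hg, ← Units.val_mul,
      mul_inv_cancel, Units.val_one, mul_one]
  · rintro x ⟨s, u, hs, hx⟩
    apply Subgroup.subset_closure
    have hc : t ^ (h8K D r s) ≠ 0 := zpow_ne_zero _ ht
    refine ⟨s, (t ^ (h8K D r s))⁻¹ * u, hs, ?_⟩
    have hconj := h8hMat_conj_x D hB.ca r s (hP s hs) t ht ((t ^ (h8K D r s))⁻¹ * u)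
      (hB.hdiag F r hr t ht)
    rw [← mul_assoc, mul_inv_cancel₀ hc, one_mul] at hconj
    rw [Units.val_mul, Units.val_mul, hx, mul_assoc, hg, ← hconj, ← hg, ← mul_assoc,
      ← Units.val_mul, inv_mul_cancel, Units.val_one, one_mul]

theorem h8_H_le_normalizer_U (D : ChevalleyDatum) (hB : H8Base.{u} D) :
    D.diagonalSubgroup F ≤ Subgroup.normalizer (D.posUnipotent F : Set (GL D.Idx F)) :=
  h8_H_le_normalizer_gen D hB D.IsPosRoot (fun _ h => h.1)

theorem h8_H_le_normalizer_V (D : ChevalleyDatum) (hB : H8Base.{u} D) :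
    D.diagonalSubgroup F ≤ Subgroup.normalizer (D.negUnipotent F : Set (GL D.Idx F)) :=
  h8_H_le_normalizer_gen D hB D.IsNegRoot (fun _ h => h.1)

end Cfsg.Agent.Lib.helper8
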