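import Mathlib
import Cfsg.Prelude.Def_ChevStructure
import Cfsg.Agent.Lib.helper8.ChevPack
import Cfsg.Agent.Lib.helper8.ChevList
import Cfsg.Agent.Lib.helper8.ChevK

set_option autoImplicit false

namespace Cfsg.Agent.Lib.helper8

open Cfsg.Lie Cfsg.Lie.ChevalleyDatum

def h8encP (p : ℕ × ℤ) : ℕ := p.1 * 8 + h8encZ p.2 + 1

def h8encE (L : List (ℕ × ℤ)) : ℕ := h8pack 4096 (L.map h8encP)

def h8decE : ℕ → ℕ → List (ℕ × ℤ)
  | 0, _ => []
  | f + 1, n => if n = 0 then [] else
      ((n % 4096 - 1) / 8, (((n % 4096 - 1) % 8 : ℕ) : ℤ) - 3) :: h8decE f (n / 4096)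

def h8B : ℕ := 68719476736

def h8P (D : ChevalleyDatum) (r : ℕ) : ℕ :=
  h8pack h8B (h8dens D.nroots 0 ((D.chain.getD r #[]).toList.map fun e => (e.1, h8encE e.2.toList)))

def h8ce (D : ChevalleyDatum) (r s : ℕ) : List (ℕ × ℤ) := h8decE 3 (h8unpack h8B (h8P D r) s)

def h8ceRow (D : ChevalleyDatum) (r : ℕ) : Bool :=
  h8incr ((D.chain.getD r #[]).toList.map Prod.fst) &&
  (D.chain.getD r #[]).toList.all fun e => decide (e.1 < D.nroots) &&
    decide (h8encE e.2.toList < h8B) && decide (h8decE 3 (h8encE e.2.toList) = e.2.toList)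

def h8ceChk (D : ChevalleyDatum) : Bool := (List.range D.nroots).all (h8ceRow D)

theorem h8ceChk_sorted (D : ChevalleyDatum) (h : h8ceChk D = true) (r : ℕ) (hr : r < D.nroots) :
    (((D.chain.getD r #[]).toList).map Prod.fst).Pairwise (· < ·) := by
  unfold h8ceChk at h
  rw [List.all_eq_true] at h
  have h1 := h r (List.mem_range.mpr hr)
  unfold h8ceRow at h1
  rw [Bool.and_eq_true] at h1
  exact h8incr_pairwise _ h1.1

theorem h8ceChk_key_lt (D : ChevalleyDatum) (h : h8ceChk D = true) (r : ℕ) (hr : r < D.nroots)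
    (e : ℕ × Array (ℕ × ℤ)) (he : e ∈ (D.chain.getD r #[]).toList) : e.1 < D.nroots := by
  unfold h8ceChk at h
  rw [List.all_eq_true] at h
  have h1 := h r (List.mem_range.mpr hr)
  unfold h8ceRow at h1
  rw [Bool.and_eq_true, List.all_eq_true] at h1
  have h2 := h1.2 e he
  simp only [Bool.and_eq_true, decide_eq_true_eq] at h2
  exact h2.1.1

theorem h8ce_eq (D : ChevalleyDatum) (h : h8ceChk D = true) (r s : ℕ) (hr : r < D.nroots) :
    h8ce D r s = D.chainEntry r s := by
  have hsorted := h8ceChk_sorted D h r hr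
  unfold h8ceChk at h
  rw [List.all_eq_true] at h
  have h1 := h r (List.mem_range.mpr hr)
  unfold h8ceRow at h1
  rw [Bool.and_eq_true, List.all_eq_true] at h1
  have hent : ∀ e ∈ (D.chain.getD r #[]).toList, e.1 < D.nroots ∧ h8encE e.2.toList < h8B ∧
      h8decE 3 (h8encE e.2.toList) = e.2.toList := by
    intro e he
    have h2 := h1.2 e he
    simp only [Bool.and_eq_true, decide_eq_true_eq] at h2
    exact ⟨h2.1.1, h2.1.2, h2.2⟩
  unfold h8ce h8P
  have hB : 0 < h8B := by unfold h8B; norm_num
  rw [h8unpack_pack h8B hB]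
  · have hL' : ((((D.chain.getD r #[]).toList.map fun e => (e.1, h8encE e.2.toList)) :
        List (ℕ × ℕ)).map Prod.fst).Pairwise (· < ·) := by
      rw [List.map_map]
      exact hsorted
    by_cases hs : s < D.nroots
    · have := h8dens_getD D.nroots 0 _ hL' (fun e _ => Nat.zero_le _) s hs
      rw [Nat.zero_add] at this
      rw [this]
      unfold h8lookupN ChevalleyDatum.chainEntry
      rw [List.find?_map]
      have hcomp : ((fun e : ℕ × ℕ => decide (e.1 = s)) ∘
          fun e : ℕ × Array (ℕ × ℤ) => (e.1, h8encE e.2.toList)) =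
          fun e : ℕ × Array (ℕ × ℤ) => decide (e.1 = s) := by
        funext e
        rfl
      rw [hcomp]
      cases hf : (D.chain.getD r #[]).toList.find? (fun e => decide (e.1 = s)) with
      | none => rfl
      | some e =>
        have hmem := List.mem_of_find?_eq_some hf
        exact (hent e hmem).2.2
    · have hlen : (h8dens D.nroots 0 ((D.chain.getD r #[]).toList.map fun e =>
          (e.1, h8encE e.2.toList))).length ≤ s := by
        rw [h8dens_length]
        omega
      rw [List.getD_eq_default _ _ hlen]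
      rw [h8chainEntry_of_not_mem]
      · rfl
      · intro hmem
        rw [List.mem_map] at hmem
        obtain ⟨e, he, hes⟩ := hmem
        have := (hent e he).1
        omega
  · apply h8dens_small h8B hB
    intro e he
    rw [List.mem_map] at he
    obtain ⟨e0, he0, rfl⟩ := he
    exact (hent e0 he0).2.1

end Cfsg.Agent.Lib.helper8
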