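import Mathlib

set_option autoImplicit false

namespace Cfsg.Agent.Lib.helper8

abbrev H8Mono := ℤ × ℤ × ℤ
abbrev H8Poly := List H8Mono

namespace H8Poly

def const (c : ℤ) : H8Poly := [(c, 0, 0)]
def neg (p : H8Poly) : H8Poly := p.map fun m => (-m.1, m.2.1, m.2.2)
def add (p q : H8Poly) : H8Poly := p ++ q
def monoMul (m : H8Mono) (q : H8Poly) : H8Poly :=
  q.map fun n => (m.1 * n.1, m.2.1 + n.2.1, m.2.2 + n.2.2)
def mul (p q : H8Poly) : H8Poly := p.flatMap fun m => monoMul m q
def pow (p : H8Poly) : ℕ → H8Poly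
  | 0 => const 1
  | n + 1 => mul (pow p n) p

def addMono (m : H8Mono) : H8Poly → H8Poly
  | [] => [m]
  | n :: p => if n.2.1 = m.2.1 ∧ n.2.2 = m.2.2 then (n.1 + m.1, n.2.1, n.2.2) :: p
      else n :: addMono m p

def norm (p : H8Poly) : H8Poly := p.foldr addMono []
def allZero (p : H8Poly) : Bool := p.all fun m => m.1 == 0
def isZero (p : H8Poly) : Bool := allZero (norm p)

variable {F : Type*} [Field F]

def mev (a b : F) (m : H8Mono) : F := (m.1 : F) * a ^ m.2.1 * b ^ m.2.2

def ev (a b : F) (p : H8Poly) : F := (p.map (mev a b)).sum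

theorem ev_nil (a b : F) : ev a b [] = 0 := rfl

theorem ev_cons (a b : F) (m : H8Mono) (p : H8Poly) : ev a b (m :: p) = mev a b m + ev a b p := by
  unfold ev
  rw [List.map_cons, List.sum_cons]

theorem ev_append (a b : F) (p q : H8Poly) : ev a b (p ++ q) = ev a b p + ev a b q := by
  unfold ev
  rw [List.map_append, List.sum_append]

theorem ev_add (a b : F) (p q : H8Poly) : ev a b (add p q) = ev a b p + ev a b q := ev_append a b p q

theorem ev_const (a b : F) (c : ℤ) : ev a b (const c) = (c : F) := by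
  unfold const
  rw [ev_cons, ev_nil, add_zero]
  unfold mev
  simp

theorem ev_neg (a b : F) (p : H8Poly) : ev a b (neg p) = - ev a b p := by
  induction p with
  | nil => simp [neg, ev]
  | cons m p ih =>
    have : neg (m :: p) = (-m.1, m.2.1, m.2.2) :: neg p := rfl
    rw [this, ev_cons, ev_cons, ih]
    unfold mev
    simp only [Int.cast_neg]
    ring

theorem mev_mul (a b : F) (ha : a ≠ 0) (hb : b ≠ 0) (m n : H8Mono) :
    mev a b (m.1 * n.1, m.2.1 + n.2.1, m.2.2 + n.2.2) = mev a b m * mev a b n := by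
  unfold mev
  simp only [Int.cast_mul]
  rw [zpow_add₀ ha, zpow_add₀ hb]
  ring

theorem ev_monoMul (a b : F) (ha : a ≠ 0) (hb : b ≠ 0) (m : H8Mono) (q : H8Poly) :
    ev a b (monoMul m q) = mev a b m * ev a b q := by
  induction q with
  | nil => simp [monoMul, ev]
  | cons n q ih =>
    have : monoMul m (n :: q) = (m.1 * n.1, m.2.1 + n.2.1, m.2.2 + n.2.2) :: monoMul m q := rfl
    rw [this, ev_cons, ev_cons, ih, mev_mul a b ha hb]
    ring

theorem ev_mul (a b : F) (ha : a ≠ 0) (hb : b ≠ 0) (p q : H8Poly) :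
    ev a b (mul p q) = ev a b p * ev a b q := by
  induction p with
  | nil => simp [mul, ev]
  | cons m p ih =>
    have : mul (m :: p) q = monoMul m q ++ mul p q := rfl
    rw [this, ev_append, ev_cons, ih, ev_monoMul a b ha hb]
    ring

theorem ev_pow (a b : F) (ha : a ≠ 0) (hb : b ≠ 0) (p : H8Poly) (n : ℕ) :
    ev a b (pow p n) = (ev a b p) ^ n := by
  induction n with
  | zero => simp [pow, ev_const]
  | succ n ih =>
    have : pow p (n + 1) = mul (pow p n) p := rfl
    rw [this, ev_mul a b ha hb, ih, pow_succ]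

theorem ev_addMono (a b : F) (m : H8Mono) (p : H8Poly) :
    ev a b (addMono m p) = mev a b m + ev a b p := by
  induction p with
  | nil => simp [addMono, ev]
  | cons n p ih =>
    unfold addMono
    split_ifs with h
    · rw [ev_cons, ev_cons]
      unfold mev
      obtain ⟨h1, h2⟩ := h
      simp only [Int.cast_add]
      rw [h1, h2]
      ring
    · rw [ev_cons, ev_cons, ih]
      ring

theorem ev_norm (a b : F) (p : H8Poly) : ev a b (norm p) = ev a b p := by
  induction p with
  | nil => rfl
  | cons m p ih =>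
    have : norm (m :: p) = addMono m (norm p) := rfl
    rw [this, ev_addMono, ih, ev_cons]

theorem ev_of_allZero (a b : F) (p : H8Poly) (h : allZero p = true) : ev a b p = 0 := by
  induction p with
  | nil => rfl
  | cons m p ih =>
    unfold allZero at h
    rw [List.all_cons, Bool.and_eq_true] at h
    rw [ev_cons, ih h.2, add_zero]
    unfold mev
    have : m.1 = 0 := by simpa using h.1
    rw [this]
    simp

theorem ev_of_isZero (a b : F) (p : H8Poly) (h : isZero p = true) : ev a b p = 0 := by
  rw [← ev_norm]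
  exact ev_of_allZero a b _ h

def va : H8Poly := [(1, 1, 0)]
def vb : H8Poly := [(1, 0, 1)]
def vaInv : H8Poly := [(1, -1, 0)]
def vbInv : H8Poly := [(1, 0, -1)]

theorem ev_va (a b : F) : ev a b va = a := by
  unfold va
  rw [ev_cons, ev_nil]
  unfold mev
  simp

theorem ev_vb (a b : F) : ev a b vb = b := by
  unfold vb
  rw [ev_cons, ev_nil]
  unfold mev
  simp

theorem ev_vaInv (a b : F) : ev a b vaInv = a⁻¹ := by
  unfold vaInv
  rw [ev_cons, ev_nil]
  unfold mev
  simp

theorem ev_vbInv (a b : F) : ev a b vbInv = b⁻¹ := by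
  unfold vbInv
  rw [ev_cons, ev_nil]
  unfold mev
  simp

end H8Poly

end Cfsg.Agent.Lib.helper8
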