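import Mathlib
import Cfsg.Prelude.Def_ChevStructure
import Cfsg.Agent.Lib.helper8.ChevPoly

set_option autoImplicit false

namespace Cfsg.Agent.Lib.helper8

open Cfsg.Lie Cfsg.Lie.ChevalleyDatum

abbrev H8SVec := List (ℕ × H8Poly)

def h8code (D : ChevalleyDatum) : D.Idx → ℕ
  | Sum.inl i => i.val
  | Sum.inr s => D.rank + s.val

theorem h8code_injective (D : ChevalleyDatum) : Function.Injective (h8code D) := by
  intro i j h
  rcases i with i | s <;> rcases j with j | u
  · simp only [h8code] at h
    exact congrArg Sum.inl (Fin.ext h)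
  · simp only [h8code] at h
    have := i.2
    omega
  · simp only [h8code] at h
    have := j.2
    omega
  · simp only [h8code] at h
    exact congrArg Sum.inr (Fin.ext (by omega))

variable {F : Type*} [Field F]

def h8bv (D : ChevalleyDatum) (F : Type*) [Field F] (c : ℕ) : D.Idx → F :=
  fun i => if h8code D i = c then 1 else 0

def h8vEval (D : ChevalleyDatum) (a b : F) (v : H8SVec) : D.Idx → F :=
  (v.map fun e => H8Poly.ev a b e.2 • h8bv D F e.1).sum

theorem h8vEval_nil (D : ChevalleyDatum) (a b : F) : h8vEval D a b [] = 0 := rfl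

theorem h8vEval_cons (D : ChevalleyDatum) (a b : F) (e : ℕ × H8Poly) (v : H8SVec) :
    h8vEval D a b (e :: v) = H8Poly.ev a b e.2 • h8bv D F e.1 + h8vEval D a b v := by
  unfold h8vEval
  rw [List.map_cons, List.sum_cons]

theorem h8vEval_append (D : ChevalleyDatum) (a b : F) (v w : H8SVec) :
    h8vEval D a b (v ++ w) = h8vEval D a b v + h8vEval D a b w := by
  unfold h8vEval
  rw [List.map_append, List.sum_append]

theorem h8vEval_apply (D : ChevalleyDatum) (a b : F) (v : H8SVec) (i : D.Idx) :
    h8vEval D a b v i = ((v.filter fun e => e.1 = h8code D i).map fun e => H8Poly.ev a b e.2).sum := by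
  induction v with
  | nil => rfl
  | cons e v ih =>
    rw [h8vEval_cons, Pi.add_apply, ih, List.filter_cons]
    by_cases h : e.1 = h8code D i
    · simp [h, h8bv]
    · have h' : ¬ h8code D i = e.1 := fun hh => h hh.symm
      simp [h, h', h8bv]

def h8scale (p : H8Poly) (v : H8SVec) : H8SVec := v.map fun f => (f.1, H8Poly.mul p f.2)

theorem h8vEval_scale (D : ChevalleyDatum) (a b : F) (ha : a ≠ 0) (hb : b ≠ 0) (p : H8Poly)
    (v : H8SVec) : h8vEval D a b (h8scale p v) = H8Poly.ev a b p • h8vEval D a b v := by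
  induction v with
  | nil => simp [h8scale, h8vEval]
  | cons e v ih =>
    have : h8scale p (e :: v) = (e.1, H8Poly.mul p e.2) :: h8scale p v := rfl
    rw [this, h8vEval_cons, h8vEval_cons, ih, smul_add, smul_smul, H8Poly.ev_mul a b ha hb]

def h8coeffAt (v : H8SVec) (c : ℕ) : H8Poly := (v.filter fun e => e.1 = c).flatMap fun e => e.2

theorem h8ev_coeffAt (D : ChevalleyDatum) (a b : F) (v : H8SVec) (i : D.Idx) :
    H8Poly.ev a b (h8coeffAt v (h8code D i)) = h8vEval D a b v i := by
  rw [h8vEval_apply]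
  unfold h8coeffAt
  induction (v.filter fun e => e.1 = h8code D i) with
  | nil => rfl
  | cons e l ih =>
    rw [List.flatMap_cons, H8Poly.ev_append, ih, List.map_cons, List.sum_cons]

def h8vEq (v w : H8SVec) : Bool :=
  (v ++ w).all fun e => H8Poly.isZero (H8Poly.add (h8coeffAt v e.1) (H8Poly.neg (h8coeffAt w e.1)))

theorem h8coeffAt_eq_nil (v : H8SVec) (c : ℕ) (h : ∀ e ∈ v, e.1 ≠ c) : h8coeffAt v c = [] := by
  unfold h8coeffAt
  have : (v.filter fun e => e.1 = c) = [] := by
    rw [List.filter_eq_nil_iff]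
    intro e he
    simpa using h e he
  rw [this]
  rfl

theorem h8vEq_sound (D : ChevalleyDatum) (a b : F) (v w : H8SVec) (h : h8vEq v w = true) :
    h8vEval D a b v = h8vEval D a b w := by
  funext i
  rw [← h8ev_coeffAt, ← h8ev_coeffAt]
  unfold h8vEq at h
  rw [List.all_eq_true] at h
  by_cases hc : ∃ e ∈ v ++ w, e.1 = h8code D i
  · obtain ⟨e, he, hei⟩ := hc
    have := H8Poly.ev_of_isZero a b _ (h e he)
    rw [H8Poly.ev_add, H8Poly.ev_neg, hei] at this
    exact sub_eq_zero.mp (by rw [sub_eq_add_neg]; exact this)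
  · simp only [not_exists, not_and] at hc
    rw [h8coeffAt_eq_nil v _ (fun e he => hc e (List.mem_append_left _ he)),
      h8coeffAt_eq_nil w _ (fun e he => hc e (List.mem_append_right _ he))]

end Cfsg.Agent.Lib.helper8
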