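import Mathlib
import Cfsg.Prelude.Def_ChevStructure
import Cfsg.Agent.Lib.helper8.ChevPoly
import Cfsg.Agent.Lib.helper8.ChevVec

set_option autoImplicit false

namespace Cfsg.Agent.Lib.helper8

open Cfsg.Lie Cfsg.Lie.ChevalleyDatum

variable {F : Type*} [Field F]

def h8xAct (D : ChevalleyDatum) (r : ℕ) (q : H8Poly) (c : ℕ) : H8SVec :=
  if c < D.rank then
    [(c, H8Poly.const 1),
     (D.rank + r, H8Poly.mul (H8Poly.const (-((D.cartanSR.getD c #[]).getD r 0))) q)]
  else if D.rank + D.nroots ≤ c then [(c, H8Poly.const 1)]
  else if c - D.rank = r then [(c, H8Poly.const 1)]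
  else if c - D.rank = D.negIdx.getD r 0 then
    (c, H8Poly.const 1) :: (D.rank + r, H8Poly.neg (H8Poly.mul q q)) ::
      (List.range D.rank).map
        (fun i => (i, H8Poly.mul (H8Poly.const ((D.coroot.getD r #[]).getD i 0)) q))
  else
    (c, H8Poly.const 1) ::
      (((D.chain.getD r #[]).toList.filter (fun e => e.1 = c - D.rank)).flatMap fun e =>
        (e.2.toList.zipIdx).map fun qq =>
          (D.rank + qq.1.1, H8Poly.mul (H8Poly.const qq.1.2) (H8Poly.pow q (qq.2 + 1))))

theorem h8sum_flatMap {α : Type*} (l : List α) (g : α → List F) :
    (l.flatMap g).sum = (l.map fun x => (g x).sum).sum := by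
  induction l with
  | nil => rfl
  | cons x l ih => rw [List.flatMap_cons, List.sum_append, ih, List.map_cons, List.sum_cons]

theorem h8sum_filter_map {α β : Type*} (L : List α) (g : α → β) (P : β → Bool) (P' : α → Bool)
    (h : β → F) (h' : α → F) (hP : ∀ x, P (g x) = P' x) (hh : ∀ x, h (g x) = h' x) :
    (((L.map g).filter P).map h).sum = ((L.filter P').map h').sum := by
  induction L with
  | nil => rfl
  | cons x L ih =>
    rw [List.map_cons, List.filter_cons, List.filter_cons, hP x]
    by_cases hx : P' x = true
    · rw [if_pos hx, if_pos hx, List.map_cons, List.sum_cons, List.map_cons, List.sum_cons, ih, hh]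
    · rw [if_neg hx, if_neg hx]
      exact ih

theorem h8sum_range_ite (n : ℕ) (i : ℕ) (hi : i < n) (f : ℕ → F) :
    (((List.range n).filter fun j => j = i).map f).sum = f i := by
  have : (List.range n).filter (fun j => decide (j = i)) = [i] := by
    induction n with
    | zero => omega
    | succ n ih =>
      rw [List.range_succ, List.filter_append]
      by_cases h : i < n
      · rw [ih h]
        have : ¬ n = i := by omega
        simp [this]
      · have hin : i = n := by omega
        subst hin
        have : (List.range i).filter (fun j => decide (j = i)) = [] := by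
          rw [List.filter_eq_nil_iff]
          intro j hj
          have := List.mem_range.mp hj
          simp; omega
        rw [this]
        simp
  rw [this]
  simp

theorem h8filter_pos (c : ℕ) (x : ℕ × H8Poly) (l : H8SVec) (h : x.1 = c) :
    (x :: l).filter (fun e => decide (e.1 = c)) = x :: l.filter (fun e => decide (e.1 = c)) :=
  List.filter_cons_of_pos (by simpa using h)

theorem h8filter_neg (c : ℕ) (x : ℕ × H8Poly) (l : H8SVec) (h : ¬ x.1 = c) :
    (x :: l).filter (fun e => decide (e.1 = c)) = l.filter (fun e => decide (e.1 = c)) :=
  List.filter_cons_of_neg (by simpa using h)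

theorem h8filter_nil (c : ℕ) : ([] : H8SVec).filter (fun e => decide (e.1 = c)) = [] := rfl

theorem h8sum_one (a b : F) (x : ℕ × H8Poly) :
    (List.map (fun e : ℕ × H8Poly => H8Poly.ev a b e.2) [x]).sum = H8Poly.ev a b x.2 := by
  simp

theorem h8sum_nil (a b : F) :
    (List.map (fun e : ℕ × H8Poly => H8Poly.ev a b e.2) []).sum = 0 := rfl

theorem h8xAct_sound (D : ChevalleyDatum) (a b : F) (ha : a ≠ 0) (hb : b ≠ 0) (r : Fin D.nroots)
    (q : H8Poly) (i row : D.Idx) :
    h8vEval D a b (h8xAct D r.val q (h8code D i)) row = D.xMat F r (H8Poly.ev a b q) row i := by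
  rw [h8vEval_apply]
  unfold ChevalleyDatum.xMat h8xAct
  rw [Matrix.of_apply]
  generalize D.negIdx.getD r.val 0 = nr
  rcases i with i0 | s
  · have hc : h8code D (Sum.inl i0) = i0.val := rfl
    have hlt : i0.val < D.rank := i0.2
    rw [hc, if_pos hlt]
    rcases row with i' | u
    · have hr : h8code D (Sum.inl i') = i'.val := rfl
      rw [hr]
      have h1 : ¬ (D.rank + r.val = i'.val) := by have := i'.2; omega
      by_cases h2 : i' = i0
      · subst h2
        rw [h8filter_pos i'.val _ _ rfl, h8filter_neg _ _ _ h1, h8filter_nil, h8sum_one, H8Poly.ev_const]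
        simp
      · have h3 : ¬ (i0.val = i'.val) := fun h => h2 (Fin.ext h.symm)
        rw [h8filter_neg _ _ _ h3, h8filter_neg _ _ _ h1, h8filter_nil, h8sum_nil]
        simp [h2]
    · have hr : h8code D (Sum.inr u) = D.rank + u.val := rfl
      rw [hr]
      have h1 : ¬ (i0.val = D.rank + u.val) := by omega
      by_cases h2 : u = r
      · subst h2
        rw [h8filter_neg _ _ _ h1, h8filter_pos (D.rank + u.val) _ _ rfl, h8filter_nil, h8sum_one,
          H8Poly.ev_mul a b ha hb, H8Poly.ev_const]
        simp
      · have h3 : ¬ (D.rank + r.val = D.rank + u.val) := fun h => h2 (Fin.ext (by omega))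
        rw [h8filter_neg _ _ _ h1, h8filter_neg _ _ _ h3, h8filter_nil, h8sum_nil]
        simp [h2]
  · have hc : h8code D (Sum.inr s) = D.rank + s.val := rfl
    have hlt : ¬ (D.rank + s.val < D.rank) := by omega
    have hlt2 : ¬ (D.rank + D.nroots ≤ D.rank + s.val) := by have := s.2; omega
    have hsub : D.rank + s.val - D.rank = s.val := by omega
    rw [hc, if_neg hlt, if_neg hlt2, hsub]
    by_cases hs : s = r
    · have hs' : s.val = r.val := congrArg Fin.val hs
      rw [if_pos hs']
      simp only [hs, if_true]
      rcases row with i' | u
      · have hr : h8code D (Sum.inl i') = i'.val := rfl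
        rw [hr]
        have h1 : ¬ (D.rank + r.val = i'.val) := by have := i'.2; omega
        rw [h8filter_neg _ _ _ h1, h8filter_nil, h8sum_nil]
      · have hr : h8code D (Sum.inr u) = D.rank + u.val := rfl
        rw [hr]
        by_cases h2 : u = r
        · subst h2
          rw [h8filter_pos (D.rank + u.val) _ _ rfl, h8filter_nil, h8sum_one, H8Poly.ev_const]
          simp
        · have h3 : ¬ (D.rank + r.val = D.rank + u.val) := fun h => h2 (Fin.ext (by omega))
          rw [h8filter_neg _ _ _ h3, h8filter_nil, h8sum_nil]
          simp [h2]
    · have hs' : ¬ (s.val = r.val) := fun h => hs (Fin.ext h)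
      rw [if_neg hs']
      simp only [hs, if_false]
      by_cases hn : s.val = nr
      · subst hn
        rw [if_pos rfl]
        simp only [if_true]
        rcases row with i' | u
        · have hr : h8code D (Sum.inl i') = i'.val := rfl
          rw [hr]
          have h1' : ¬ (D.rank + s.val = i'.val) := by have := i'.2; omega
          have h2 : ¬ (D.rank + r.val = i'.val) := by have := i'.2; omega
          rw [h8filter_neg _ _ _ h1', h8filter_neg _ _ _ h2]
          rw [h8sum_filter_map (List.range D.rank)
            (fun i => (i, H8Poly.mul (H8Poly.const ((D.coroot.getD r.val #[]).getD i 0)) q))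
            (fun e => decide (e.1 = i'.val)) (fun j => decide (j = i'.val))
            (fun e => H8Poly.ev a b e.2)
            (fun j => (((D.coroot.getD r.val #[]).getD j 0 : ℤ) : F) * H8Poly.ev a b q)
            (fun x => rfl)
            (fun x => by simp only [H8Poly.ev_mul a b ha hb, H8Poly.ev_const])]
          rw [h8sum_range_ite D.rank i'.val i'.2]
        · have hr : h8code D (Sum.inr u) = D.rank + u.val := rfl
          rw [hr]
          have h3 : (((List.range D.rank).map
              (fun i => (i, H8Poly.mul (H8Poly.const ((D.coroot.getD r.val #[]).getD i 0)) q))).filter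
              (fun e => decide (e.1 = D.rank + u.val))) = [] := by
            rw [List.filter_eq_nil_iff]
            intro e he
            rw [List.mem_map] at he
            obtain ⟨j, hj, rfl⟩ := he
            have := List.mem_range.mp hj
            simp; omega
          by_cases hus : u = s
          · have e1 : D.rank + s.val = D.rank + u.val := by rw [hus]
            have e2 : ¬ (D.rank + r.val = D.rank + u.val) := by
              intro h; apply hs'; rw [← hus]; omega
            rw [h8filter_pos _ _ _ e1, h8filter_neg _ _ _ e2, h3, h8sum_one, H8Poly.ev_const]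
            simp [hus]
          · have e1 : ¬ (D.rank + s.val = D.rank + u.val) := fun h => hus (Fin.ext (by omega))
            by_cases hur : u = r
            · have e2 : D.rank + r.val = D.rank + u.val := by rw [hur]
              rw [h8filter_neg _ _ _ e1, h8filter_pos _ _ _ e2, h3, h8sum_one, H8Poly.ev_neg,
                H8Poly.ev_mul a b ha hb]
              have hrs : ¬ r = s := fun h => hs h.symm
              subst hur
              simp [hrs, pow_two]
            · have e2 : ¬ (D.rank + r.val = D.rank + u.val) := fun h => hur (Fin.ext (by omega))
              rw [h8filter_neg _ _ _ e1, h8filter_neg _ _ _ e2, h3, h8sum_nil]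
              simp [hus, hur]
      · rw [if_neg hn]
        simp only [hn, if_false]
        rcases row with i' | u
        · have hr : h8code D (Sum.inl i') = i'.val := rfl
          rw [hr]
          have h1' : ¬ (D.rank + s.val = i'.val) := by have := i'.2; omega
          rw [h8filter_neg _ _ _ h1']
          have h3 : ((((D.chain.getD r.val #[]).toList.filter (fun e => e.1 = s.val)).flatMap fun e =>
              (e.2.toList.zipIdx).map fun qq =>
                (D.rank + qq.1.1, H8Poly.mul (H8Poly.const qq.1.2) (H8Poly.pow q (qq.2 + 1)))).filter
              (fun e => decide (e.1 = i'.val))) = [] := by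
            rw [List.filter_eq_nil_iff]
            intro e he
            rw [List.mem_flatMap] at he
            obtain ⟨e', _, he2⟩ := he
            rw [List.mem_map] at he2
            obtain ⟨qq, _, rfl⟩ := he2
            have := i'.2
            simp; omega
          rw [h3]
          rfl
        · have hr : h8code D (Sum.inr u) = D.rank + u.val := rfl
          rw [hr]
          have hmain : (((((D.chain.getD r.val #[]).toList.filter (fun e => e.1 = s.val)).flatMap fun e =>
              (e.2.toList.zipIdx).map fun qq =>
                (D.rank + qq.1.1, H8Poly.mul (H8Poly.const qq.1.2) (H8Poly.pow q (qq.2 + 1)))).filter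
              (fun e => decide (e.1 = D.rank + u.val))).map (fun e => H8Poly.ev a b e.2)).sum =
              ((D.chainCoeff r.val s.val u.val).map
                fun km => ((km.2 : ℤ) : F) * (H8Poly.ev a b q) ^ km.1).sum := by
            unfold ChevalleyDatum.chainCoeff
            rw [List.filter_flatMap, List.map_flatMap, List.map_flatMap, h8sum_flatMap, h8sum_flatMap]
            congr 1
            apply List.map_congr_left
            intro e _
            rw [h8sum_filter_map (e.2.toList.zipIdx)
              (fun qq => (D.rank + qq.1.1, H8Poly.mul (H8Poly.const qq.1.2) (H8Poly.pow q (qq.2 + 1))))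
              (fun e => decide (e.1 = D.rank + u.val)) (fun qq => decide (qq.1.1 = u.val))
              (fun e => H8Poly.ev a b e.2)
              (fun qq => ((qq.1.2 : ℤ) : F) * (H8Poly.ev a b q) ^ (qq.2 + 1))
              (fun x => by simp)
              (fun x => by simp only [H8Poly.ev_mul a b ha hb, H8Poly.ev_const,
                H8Poly.ev_pow a b ha hb])]
            rw [List.map_map]
            rfl
          by_cases hus : u = s
          · have e1 : D.rank + s.val = D.rank + u.val := by rw [hus]
            rw [h8filter_pos _ _ _ e1, List.map_cons, List.sum_cons, hmain, H8Poly.ev_const]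
            simp [hus]
          · have e1 : ¬ (D.rank + s.val = D.rank + u.val) := fun h => hus (Fin.ext (by omega))
            rw [h8filter_neg _ _ _ e1, hmain]
            simp [hus]

end Cfsg.Agent.Lib.helper8
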