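import Mathlib
import Cfsg.Prelude.Def_ChevStructure
import Cfsg.Agent.Lib.helper8.ChevAct

set_option autoImplicit false

namespace Cfsg.Agent.Lib.helper8

open Cfsg.Lie Cfsg.Lie.ChevalleyDatum

variable {F : Type*} [Field F]

theorem h8bv_code (D : ChevalleyDatum) (i : D.Idx) : h8bv D F (h8code D i) = Pi.single i 1 := by
  funext j
  unfold h8bv
  by_cases h : j = i
  · subst h; simp
  · have : ¬ h8code D j = h8code D i := fun hh => h (h8code_injective D hh)
    simp [h, this]

theorem h8bv_invalid (D : ChevalleyDatum) (c : ℕ) (hc : D.rank + D.nroots ≤ c) : h8bv D F c = 0 := by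
  funext j
  unfold h8bv
  have : ¬ h8code D j = c := by
    rcases j with i | s
    · have := i.2; show ¬ i.val = c; omega
    · have := s.2; show ¬ D.rank + s.val = c; omega
  simp [this]

theorem h8code_lt (D : ChevalleyDatum) (i : D.Idx) : h8code D i < D.rank + D.nroots := by
  rcases i with i | s
  · have := i.2; show i.val < _; omega
  · have := s.2; show D.rank + s.val < _; omega

theorem h8code_surj (D : ChevalleyDatum) (c : ℕ) (hc : c < D.rank + D.nroots) :
    ∃ i : D.Idx, h8code D i = c := by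
  by_cases h : c < D.rank
  · exact ⟨Sum.inl ⟨c, h⟩, rfl⟩
  · refine ⟨Sum.inr ⟨c - D.rank, by omega⟩, ?_⟩
    show D.rank + (c - D.rank) = c
    omega

theorem h8xAct_vec (D : ChevalleyDatum) (a b : F) (ha : a ≠ 0) (hb : b ≠ 0) (r : Fin D.nroots)
    (q : H8Poly) (c : ℕ) :
    h8vEval D a b (h8xAct D r.val q c) = (D.xMat F r (H8Poly.ev a b q)).mulVec (h8bv D F c) := by
  by_cases hc : c < D.rank + D.nroots
  · obtain ⟨i, rfl⟩ := h8code_surj D c hc
    funext row
    rw [h8xAct_sound D a b ha hb, h8bv_code, Matrix.mulVec_single_one]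
    rfl
  · have hc' : D.rank + D.nroots ≤ c := by omega
    rw [h8bv_invalid D c hc', Matrix.mulVec_zero]
    unfold h8xAct
    rw [if_neg (by omega), if_pos hc', h8vEval_cons, h8vEval_nil, h8bv_invalid D c hc']
    simp

def h8xActN (D : ChevalleyDatum) (r : ℕ) (q : H8Poly) (c : ℕ) : H8SVec :=
  if r < D.nroots then h8xAct D r q c else [(c, H8Poly.const 1)]

theorem h8xActN_vec (D : ChevalleyDatum) (a b : F) (ha : a ≠ 0) (hb : b ≠ 0) (r : ℕ)
    (q : H8Poly) (c : ℕ) :
    h8vEval D a b (h8xActN D r q c) = (D.x F r (H8Poly.ev a b q)).mulVec (h8bv D F c) := by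
  unfold h8xActN ChevalleyDatum.x
  by_cases hr : r < D.nroots
  · rw [if_pos hr, dif_pos hr]
    exact h8xAct_vec D a b ha hb ⟨r, hr⟩ q c
  · rw [if_neg hr, dif_neg hr, Matrix.one_mulVec, h8vEval_cons, h8vEval_nil, H8Poly.ev_const]
    simp

def h8vecAct (D : ChevalleyDatum) (r : ℕ) (q : H8Poly) (v : H8SVec) : H8SVec :=
  v.flatMap fun e => h8scale e.2 (h8xActN D r q e.1)

theorem h8vecAct_sound (D : ChevalleyDatum) (a b : F) (ha : a ≠ 0) (hb : b ≠ 0) (r : ℕ)
    (q : H8Poly) (v : H8SVec) :
    h8vEval D a b (h8vecAct D r q v) = (D.x F r (H8Poly.ev a b q)).mulVec (h8vEval D a b v) := by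
  induction v with
  | nil =>
    show h8vEval D a b [] = _
    rw [h8vEval_nil, Matrix.mulVec_zero]
  | cons e v ih =>
    have : h8vecAct D r q (e :: v) = h8scale e.2 (h8xActN D r q e.1) ++ h8vecAct D r q v := rfl
    rw [this, h8vEval_append, ih, h8vEval_scale D a b ha hb, h8xActN_vec D a b ha hb, h8vEval_cons,
      Matrix.mulVec_add, Matrix.mulVec_smul]

def h8addTerm (c : ℕ) (p : H8Poly) : H8SVec → H8SVec
  | [] => [(c, p)]
  | e :: v => if e.1 = c then (c, H8Poly.add e.2 p) :: v else e :: h8addTerm c p v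

theorem h8vEval_addTerm (D : ChevalleyDatum) (a b : F) (c : ℕ) (p : H8Poly) (v : H8SVec) :
    h8vEval D a b (h8addTerm c p v) = H8Poly.ev a b p • h8bv D F c + h8vEval D a b v := by
  induction v with
  | nil => simp [h8addTerm, h8vEval_cons, h8vEval_nil]
  | cons e v ih =>
    unfold h8addTerm
    split_ifs with h
    · rw [h8vEval_cons, h8vEval_cons, H8Poly.ev_add, add_smul, h]
      abel
    · rw [h8vEval_cons, h8vEval_cons, ih]
      abel

def h8collect (v : H8SVec) : H8SVec := v.foldr (fun e acc => h8addTerm e.1 e.2 acc) []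

theorem h8vEval_collect (D : ChevalleyDatum) (a b : F) (v : H8SVec) :
    h8vEval D a b (h8collect v) = h8vEval D a b v := by
  induction v with
  | nil => rfl
  | cons e v ih =>
    have : h8collect (e :: v) = h8addTerm e.1 e.2 (h8collect v) := rfl
    rw [this, h8vEval_addTerm, ih, h8vEval_cons]

def h8clean (v : H8SVec) : H8SVec :=
  (v.map fun e => (e.1, H8Poly.norm e.2)).filter fun e => !(H8Poly.allZero e.2)

theorem h8vEval_clean (D : ChevalleyDatum) (a b : F) (v : H8SVec) :
    h8vEval D a b (h8clean v) = h8vEval D a b v := by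
  induction v with
  | nil => rfl
  | cons e v ih =>
    unfold h8clean at ih ⊢
    rw [List.map_cons, List.filter_cons]
    by_cases h : H8Poly.allZero (H8Poly.norm e.2) = true
    · have h0 : H8Poly.ev a b e.2 = 0 := by
        rw [← H8Poly.ev_norm]; exact H8Poly.ev_of_allZero a b _ h
      simp only [h, Bool.not_true]
      rw [if_neg (by simp), ih, h8vEval_cons, h0, zero_smul, zero_add]
    · have h' : H8Poly.allZero (H8Poly.norm e.2) = false := by simpa using h
      simp only [h', Bool.not_false]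
      rw [if_pos trivial, h8vEval_cons, ih, h8vEval_cons, H8Poly.ev_norm]

def h8norm (v : H8SVec) : H8SVec := h8clean (h8collect v)

theorem h8vEval_norm (D : ChevalleyDatum) (a b : F) (v : H8SVec) :
    h8vEval D a b (h8norm v) = h8vEval D a b v := by
  unfold h8norm
  rw [h8vEval_clean, h8vEval_collect]

def h8wordAct (D : ChevalleyDatum) (w : List (ℕ × H8Poly)) (v : H8SVec) : H8SVec :=
  w.foldr (fun p acc => h8norm (h8vecAct D p.1 p.2 acc)) v

def h8evWord (a b : F) (w : List (ℕ × H8Poly)) : List (ℕ × F) :=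
  w.map fun p => (p.1, H8Poly.ev a b p.2)

theorem h8wordAct_sound (D : ChevalleyDatum) (a b : F) (ha : a ≠ 0) (hb : b ≠ 0)
    (w : List (ℕ × H8Poly)) (v : H8SVec) :
    h8vEval D a b (h8wordAct D w v) = (D.wordMat F (h8evWord a b w)).mulVec (h8vEval D a b v) := by
  induction w with
  | nil =>
    show h8vEval D a b v = _
    unfold ChevalleyDatum.wordMat h8evWord
    simp
  | cons p w ih =>
    have h1 : h8wordAct D (p :: w) v = h8norm (h8vecAct D p.1 p.2 (h8wordAct D w v)) := rfl
    have h2 : D.wordMat F (h8evWord a b (p :: w)) =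
        D.x F p.1 (H8Poly.ev a b p.2) * D.wordMat F (h8evWord a b w) := by
      unfold ChevalleyDatum.wordMat h8evWord
      simp
    rw [h1, h8vEval_norm, h8vecAct_sound D a b ha hb, ih, h2, Matrix.mulVec_mulVec]

def h8wordEqCol (D : ChevalleyDatum) (w1 w2 : List (ℕ × H8Poly)) (c : ℕ) : Bool :=
  h8vEq (h8wordAct D w1 [(c, H8Poly.const 1)]) (h8wordAct D w2 [(c, H8Poly.const 1)])

def h8wordEq (D : ChevalleyDatum) (w1 w2 : List (ℕ × H8Poly)) : Bool :=
  (List.range (D.rank + D.nroots)).all fun c => h8wordEqCol D w1 w2 c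

theorem h8wordEq_sound (D : ChevalleyDatum) (a b : F) (ha : a ≠ 0) (hb : b ≠ 0)
    (w1 w2 : List (ℕ × H8Poly)) (h : h8wordEq D w1 w2 = true) :
    D.wordMat F (h8evWord a b w1) = D.wordMat F (h8evWord a b w2) := by
  unfold h8wordEq at h
  rw [List.all_eq_true] at h
  apply Matrix.ext_of_mulVec_single
  intro i
  have hi := h (h8code D i) (List.mem_range.mpr (h8code_lt D i))
  unfold h8wordEqCol at hi
  have := h8vEq_sound D a b _ _ hi
  rw [h8wordAct_sound D a b ha hb, h8wordAct_sound D a b ha hb] at this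
  have hv : h8vEval D a b [(h8code D i, H8Poly.const 1)] = Pi.single i (1 : F) := by
    rw [h8vEval_cons, h8vEval_nil, H8Poly.ev_const, h8bv_code]
    simp
  rw [hv] at this
  exact this

end Cfsg.Agent.Lib.helper8
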