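import Mathlib
import Cfsg.Prelude.Def_ChevStructure
import Cfsg.Agent.Lib.helper8.ChevWord

set_option autoImplicit false

namespace Cfsg.Agent.Lib.helper8

open Cfsg.Lie Cfsg.Lie.ChevalleyDatum

variable {F : Type*} [Field F]

def h8addChk (D : ChevalleyDatum) : Bool :=
  (List.range D.nroots).all fun r =>
    h8wordEq D [(r, H8Poly.va), (r, H8Poly.vb)] [(r, H8Poly.add H8Poly.va H8Poly.vb)]

theorem h8x_add_refl (D : ChevalleyDatum) (h : h8addChk D = true) (r : ℕ) (hr : r < D.nroots)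
    (t₁ t₂ : F) (h₁ : t₁ ≠ 0) (h₂ : t₂ ≠ 0) : D.x F r t₁ * D.x F r t₂ = D.x F r (t₁ + t₂) := by
  unfold h8addChk at h
  rw [List.all_eq_true] at h
  have := h8wordEq_sound D t₁ t₂ h₁ h₂ _ _ (h r (List.mem_range.mpr hr))
  unfold h8evWord ChevalleyDatum.wordMat at this
  simpa [H8Poly.ev_va, H8Poly.ev_vb, H8Poly.ev_add] using this

def h8nW (D : ChevalleyDatum) (r : ℕ) (t tinv : H8Poly) : List (ℕ × H8Poly) :=
  [(r, t), (D.negIdx.getD r 0, H8Poly.neg tinv), (r, t)]

def h8hW (D : ChevalleyDatum) (r : ℕ) : List (ℕ × H8Poly) :=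
  h8nW D r H8Poly.va H8Poly.vaInv ++ h8nW D r (H8Poly.const (-1)) (H8Poly.const (-1))

theorem h8evWord_hW (D : ChevalleyDatum) (r : ℕ) (a b : F) :
    h8evWord a b (h8hW D r) = D.hWord r a := by
  unfold h8evWord h8hW h8nW ChevalleyDatum.hWord ChevalleyDatum.nWord ChevalleyDatum.neg
  simp [H8Poly.ev_va, H8Poly.ev_vaInv, H8Poly.ev_neg, H8Poly.ev_const]

def h8diagExp (v : H8SVec) (c : ℕ) : Option ℤ :=
  match v with
  | [(c', [(1, k, 0)])] => if c' = c then some k else none
  | _ => none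

theorem h8diagExp_spec (v : H8SVec) (c : ℕ) (k : ℤ) (h : h8diagExp v c = some k) :
    v = [(c, [(1, k, 0)])] := by
  unfold h8diagExp at h
  split at h
  · split_ifs at h with hc
    subst hc
    cases h
    rfl
  · cases h

def h8hCol (D : ChevalleyDatum) (r c : ℕ) : H8SVec :=
  h8wordAct D (h8hW D r) [(c, H8Poly.const 1)]

def h8hDiagChk (D : ChevalleyDatum) : Bool :=
  (List.range D.nroots).all fun r =>
    (List.range (D.rank + D.nroots)).all fun c => (h8diagExp (h8hCol D r c) c).isSome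

def h8hexpRefl (D : ChevalleyDatum) (r : ℕ) (c : D.Idx) : ℤ :=
  (h8diagExp (h8hCol D r (h8code D c)) (h8code D c)).getD 0

theorem h8hMat_diag_refl (D : ChevalleyDatum) (h : h8hDiagChk D = true) (r : ℕ) (hr : r < D.nroots)
    (t : F) (ht : t ≠ 0) : D.hMat F r t = Matrix.diagonal (fun c => t ^ h8hexpRefl D r c) := by
  unfold h8hDiagChk at h
  simp only [List.all_eq_true, List.mem_range] at h
  apply Matrix.ext_of_mulVec_single
  intro c
  have hc := h r hr (h8code D c) (h8code_lt D c)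
  rw [Option.isSome_iff_exists] at hc
  obtain ⟨k, hk⟩ := hc
  have hk' : h8hexpRefl D r c = k := by
    unfold h8hexpRefl
    rw [hk]
    rfl
  have hcol := h8diagExp_spec _ _ _ hk
  have hs := h8wordAct_sound D t (1 : F) ht one_ne_zero (h8hW D r) [(h8code D c, H8Poly.const 1)]
  have hv : h8vEval D t (1 : F) [(h8code D c, H8Poly.const 1)] = Pi.single c (1 : F) := by
    rw [h8vEval_cons, h8vEval_nil, H8Poly.ev_const, h8bv_code]
    simp
  rw [hv, h8evWord_hW] at hs
  unfold h8hCol at hcol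
  rw [hcol, h8vEval_cons, h8vEval_nil, h8bv_code] at hs
  unfold ChevalleyDatum.hMat
  rw [← hs, Matrix.diagonal_mulVec_single, hk']
  have : H8Poly.ev t (1 : F) [(1, k, 0)] = t ^ k := by
    rw [H8Poly.ev_cons, H8Poly.ev_nil]
    unfold H8Poly.mev
    simp
  rw [this, add_zero, mul_one, ← Pi.single_smul, smul_eq_mul, mul_one]

end Cfsg.Agent.Lib.helper8
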