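import Mathlib
import Cfsg.Prelude.Def_ChevStructure
import Cfsg.Agent.Lib.helper8.ChevRefl
import Cfsg.Agent.Lib.helper8.ChevCol

set_option autoImplicit false

namespace Cfsg.Agent.Lib.helper8

open Cfsg.Lie Cfsg.Lie.ChevalleyDatum

variable {F : Type*} [Field F]

def h8nW1 (D : ChevalleyDatum) (p : ℕ) : List (ℕ × H8Poly) :=
  [(p, H8Poly.const 1), (D.negIdx.getD p 0, H8Poly.const (-1)), (p, H8Poly.const 1)]

theorem h8evWord_nW1 (D : ChevalleyDatum) (p : ℕ) (a b : F) :
    h8evWord a b (h8nW1 D p) = D.nWord p (1 : F) := by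
  unfold h8evWord h8nW1 ChevalleyDatum.nWord ChevalleyDatum.neg
  simp [H8Poly.ev_const]

def h8nChk (D : ChevalleyDatum) (i : ℕ) (eta : List ℤ) : Bool :=
  decide (D.simple i < D.nroots) &&
  ((List.range D.rank).all fun j =>
    h8vEq (h8wordAct D (h8nW1 D (D.simple i)) [(j, H8Poly.const 1)])
      [(j, H8Poly.const 1), (i, H8Poly.const (-(D.cartan j (D.simple i))))]) &&
  ((List.range D.nroots).all fun s => decide (D.reflectRoot i s < D.nroots) &&
    h8vEq (h8wordAct D (h8nW1 D (D.simple i)) [(D.rank + s, H8Poly.const 1)])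
      [(D.rank + D.reflectRoot i s, H8Poly.const (eta.getD s 0))])

def h8etaChk (D : ChevalleyDatum) (i : ℕ) (eta : List ℤ) : Bool :=
  ((List.range D.nroots).all fun s =>
    (decide (eta.getD s 0 = 1) || decide (eta.getD s 0 = -1)) &&
    decide (eta.getD s 0 * eta.getD (D.reflectRoot i s) 0 = (-1) ^ (D.cartan i s).natAbs) &&
    decide (eta.getD s 0 * eta.getD (D.neg s) 0 = 1)) &&
  decide (eta.getD (D.simple i) 0 = -1) && decide (eta.getD (D.neg (D.simple i)) 0 = -1)

theorem h8nMat_col (D : ChevalleyDatum) (p : ℕ) (c : D.Idx) (v : H8SVec)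
    (h : h8vEq (h8wordAct D (h8nW1 D p) [(h8code D c, H8Poly.const 1)]) v = true) :
    (D.nMat F p 1).mulVec (Pi.single c (1 : F)) = h8vEval D (1 : F) (1 : F) v := by
  have hs := h8wordAct_sound D (1 : F) (1 : F) one_ne_zero one_ne_zero (h8nW1 D p)
    [(h8code D c, H8Poly.const 1)]
  have hv : h8vEval D (1 : F) (1 : F) [(h8code D c, H8Poly.const 1)] = Pi.single c (1 : F) := by
    rw [h8vEval_cons, h8vEval_nil, H8Poly.ev_const, h8bv_code]
    simp
  rw [hv, h8evWord_nW1] at hs
  unfold ChevalleyDatum.nMat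
  rw [← hs]
  exact h8vEq_sound D 1 1 _ _ h

theorem h8nMat_of_chk (D : ChevalleyDatum) (i : ℕ) (hi : i < D.rank) (eta : List ℤ)
    (h : h8nChk D i eta = true) :
    D.nMat F (D.simple i) 1 = Matrix.of (fun (row col : D.Idx) =>
        Sum.elim
          (fun j' : Fin D.rank => Sum.elim
            (fun j : Fin D.rank => (if j' = j then (1 : F) else 0) -
              (if (j' : ℕ) = i then ((D.cartan j (D.simple i) : ℤ) : F) else 0))
            (fun _ => (0 : F)) col)
          (fun s' : Fin D.nroots => Sum.elim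
            (fun _ => (0 : F))
            (fun s : Fin D.nroots => if (s' : ℕ) = D.reflectRoot i s then
              (((eta.getD s 0 : ℤ)) : F) else 0) col)
          row) := by
  unfold h8nChk at h
  simp only [Bool.and_eq_true, decide_eq_true_eq, List.all_eq_true, List.mem_range] at h
  obtain ⟨⟨h1, h2⟩, h3⟩ := h
  apply Matrix.ext_of_mulVec_single
  intro c
  conv_rhs => rw [Matrix.mulVec_single_one]
  rcases c with j | s
  · rw [h8nMat_col D (D.simple i) (Sum.inl j) _ (h2 j.val j.2)]
    rw [h8vEval_cons, h8vEval_cons, h8vEval_nil, H8Poly.ev_const, H8Poly.ev_const]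
    have e1 : h8bv D F j.val = Pi.single (Sum.inl j) 1 := h8bv_code D (Sum.inl j)
    have e2 : h8bv D F i = Pi.single (Sum.inl ⟨i, hi⟩) 1 := h8bv_code D (Sum.inl ⟨i, hi⟩)
    rw [e1, e2]
    funext row
    rcases row with j' | s'
    · simp only [Matrix.col_apply, Matrix.of_apply, Sum.elim_inl, Pi.add_apply, Pi.smul_apply,
        Pi.single_apply, Pi.zero_apply, Sum.inl.injEq]
      have : (j' = ⟨i, hi⟩) ↔ (j'.val = i) := by
        constructor
        · intro hh; rw [hh]
        · intro hh; exact Fin.ext hh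
      simp only [this]
      push_cast
      split_ifs <;> simp [sub_eq_add_neg]
    · simp [Matrix.col_apply]
  · obtain ⟨h4, h5⟩ := h3 s.val s.2
    rw [h8nMat_col D (D.simple i) (Sum.inr s) _ h5]
    rw [h8vEval_cons, h8vEval_nil, H8Poly.ev_const]
    have e1 : h8bv D F (D.rank + D.reflectRoot i s.val) =
        Pi.single (Sum.inr ⟨D.reflectRoot i s.val, h4⟩) 1 :=
      h8bv_code D (Sum.inr ⟨D.reflectRoot i s.val, h4⟩)
    rw [e1]
    funext row
    rcases row with j' | s'
    · simp [Matrix.col_apply]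
    · simp only [Matrix.col_apply, Matrix.of_apply, Sum.elim_inr, Pi.add_apply, Pi.smul_apply,
        Pi.single_apply, Pi.zero_apply, Sum.inr.injEq]
      have : (s' = ⟨D.reflectRoot i s.val, h4⟩) ↔ (s'.val = D.reflectRoot i s.val) := by
        constructor
        · intro hh; rw [hh]
        · intro hh; exact Fin.ext hh
      simp only [this]
      split_ifs <;> simp

theorem h8eta_of_chk (D : ChevalleyDatum) (i : ℕ) (eta : List ℤ) (h : h8etaChk D i eta = true) :
    (∀ s < D.nroots, eta.getD s 0 = 1 ∨ eta.getD s 0 = -1) ∧ eta.getD (D.simple i) 0 = -1 ∧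
      eta.getD (D.neg (D.simple i)) 0 = -1 ∧
      (∀ s < D.nroots, eta.getD s 0 * eta.getD (D.reflectRoot i s) 0 = (-1) ^ (D.cartan i s).natAbs ∧
        eta.getD s 0 * eta.getD (D.neg s) 0 = 1) := by
  unfold h8etaChk at h
  simp only [Bool.and_eq_true, Bool.or_eq_true, decide_eq_true_eq, List.all_eq_true,
    List.mem_range] at h
  obtain ⟨⟨h1, h2⟩, h3⟩ := h
  exact ⟨fun s hs => (h1 s hs).1.1, h2, h3, fun s hs => ⟨(h1 s hs).1.2, (h1 s hs).2⟩⟩

end Cfsg.Agent.Lib.helper8
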