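import Mathlib
import Cfsg.Prelude.Def_ChevStructure
import Cfsg.Agent.Lib.helper8.ChevN

set_option autoImplicit false

namespace Cfsg.Agent.Lib.helper8

open Cfsg.Lie Cfsg.Lie.ChevalleyDatum

variable {F : Type*} [Field F]

def h8NM (D : ChevalleyDatum) (F : Type*) [Field F] (i : ℕ) (η : ℕ → ℤ) : Matrix D.Idx D.Idx F :=
  Matrix.of (fun (row col : D.Idx) =>
    Sum.elim
      (fun j' : Fin D.rank => Sum.elim
        (fun j : Fin D.rank => (if j' = j then (1 : F) else 0) -
          (if (j' : ℕ) = i then ((D.cartan j (D.simple i) : ℤ) : F) else 0))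
        (fun _ => (0 : F)) col)
      (fun s' : Fin D.nroots => Sum.elim
        (fun _ => (0 : F))
        (fun s : Fin D.nroots => if (s' : ℕ) = D.reflectRoot i s then
          (((η s : ℤ)) : F) else 0) col)
      row)

theorem h8nMat_eq_NM (D : ChevalleyDatum) (i : ℕ) (hi : i < D.rank) (eta : List ℤ)
    (h : h8nChk D i eta = true) :
    D.nMat F (D.simple i) 1 = h8NM D F i (fun s => eta.getD s 0) :=
  h8nMat_of_chk D i hi eta h

section
variable (D : ChevalleyDatum) (i : ℕ) (hi : i < D.rank) (η : ℕ → ℤ)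
  (hlt : ∀ s < D.nroots, D.reflectRoot i s < D.nroots)
  (hinv : ∀ s < D.nroots, D.reflectRoot i (D.reflectRoot i s) = s)

include hlt hinv in
theorem h8NM_mul_inr (M : Matrix D.Idx D.Idx F) (w : Fin D.nroots) (c : D.Idx) :
    (h8NM D F i η * M) (Sum.inr w) c =
      ((η (D.reflectRoot i w.val) : ℤ) : F) * M (Sum.inr ⟨D.reflectRoot i w.val, hlt w.val w.2⟩) c := by
  rw [Matrix.mul_apply, Fintype.sum_sum_type]
  simp only [h8NM, Matrix.of_apply, Sum.elim_inl, Sum.elim_inr, zero_mul, Finset.sum_const_zero,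
    zero_add]
  rw [Finset.sum_eq_single (⟨D.reflectRoot i w.val, hlt w.val w.2⟩ : Fin D.nroots)]
  · rw [if_pos (hinv w.val w.2).symm]
  · intro u _ hu
    rw [if_neg, zero_mul]
    intro hw
    apply hu
    apply Fin.ext
    show u.val = D.reflectRoot i w.val
    rw [hw, hinv u.val u.2]
  · intro hh
    exact absurd (Finset.mem_univ _) hh

theorem h8NM_mul_inl (M : Matrix D.Idx D.Idx F) (j' : Fin D.rank) (c : D.Idx) :
    (h8NM D F i η * M) (Sum.inl j') c = M (Sum.inl j') c -
      (if (j' : ℕ) = i then ∑ j : Fin D.rank, ((D.cartan j (D.simple i) : ℤ) : F) * M (Sum.inl j) c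
        else 0) := by
  rw [Matrix.mul_apply, Fintype.sum_sum_type]
  simp only [h8NM, Matrix.of_apply, Sum.elim_inl, Sum.elim_inr, zero_mul, Finset.sum_const_zero,
    add_zero]
  simp only [sub_mul, Finset.sum_sub_distrib, ite_mul, one_mul, zero_mul, Finset.sum_ite_eq,
    Finset.mem_univ, if_true]
  by_cases h : (j' : ℕ) = i
  · simp only [h, if_true]
  · simp only [h, if_false, Finset.sum_const_zero]

theorem h8mul_NM_inr (M : Matrix D.Idx D.Idx F) (r : D.Idx) (v : Fin D.nroots) :
    (M * h8NM D F i η) r (Sum.inr v) =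
      M r (Sum.inr ⟨D.reflectRoot i v.val, hlt v.val v.2⟩) * ((η v.val : ℤ) : F) := by
  rw [Matrix.mul_apply, Fintype.sum_sum_type]
  simp only [h8NM, Matrix.of_apply, Sum.elim_inl, Sum.elim_inr, mul_zero, Finset.sum_const_zero,
    zero_add]
  rw [Finset.sum_eq_single (⟨D.reflectRoot i v.val, hlt v.val v.2⟩ : Fin D.nroots)]
  · rw [if_pos rfl]
  · intro u _ hu
    rw [if_neg, mul_zero]
    intro hw
    apply hu
    exact Fin.ext hw
  · intro hh
    exact absurd (Finset.mem_univ _) hh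

include hi in
theorem h8mul_NM_inl (M : Matrix D.Idx D.Idx F) (r : D.Idx) (j : Fin D.rank) :
    (M * h8NM D F i η) r (Sum.inl j) = M r (Sum.inl j) -
      ((D.cartan j (D.simple i) : ℤ) : F) * M r (Sum.inl ⟨i, hi⟩) := by
  rw [Matrix.mul_apply, Fintype.sum_sum_type]
  simp only [h8NM, Matrix.of_apply, Sum.elim_inl, Sum.elim_inr, mul_zero, Finset.sum_const_zero,
    add_zero]
  simp only [mul_sub, Finset.sum_sub_distrib, mul_ite, mul_one, mul_zero]
  rw [Finset.sum_ite_eq' Finset.univ j, if_pos (Finset.mem_univ _)]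
  congr 1
  rw [Finset.sum_eq_single (⟨i, hi⟩ : Fin D.rank)]
  · rw [if_pos rfl, mul_comm]
  · intro b _ hb
    rw [if_neg]
    intro hbi
    exact hb (Fin.ext hbi)
  · intro hh
    exact absurd (Finset.mem_univ _) hh

end

end Cfsg.Agent.Lib.helper8
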