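import Mathlib
import Cfsg.Prelude.Def_ChevStructure
import Cfsg.Agent.Lib.helper8.ChevSLTable

set_option autoImplicit false

namespace Cfsg.Agent.Lib.helper8

open Cfsg.Lie Cfsg.Lie.ChevalleyDatum

variable {F : Type*} [Field F]

theorem h8xMat_inl_inl (D : ChevalleyDatum) (r : Fin D.nroots) (t : F) (a b : Fin D.rank) :
    D.xMat F r t (Sum.inl a) (Sum.inl b) = if a = b then 1 else 0 := by
  unfold ChevalleyDatum.xMat
  rw [Matrix.of_apply]

theorem h8xMat_inr_inl (D : ChevalleyDatum) (r : Fin D.nroots) (t : F) (u : Fin D.nroots)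
    (b : Fin D.rank) :
    D.xMat F r t (Sum.inr u) (Sum.inl b) =
      if u = r then - ((D.cartan b.val r.val : ℤ) : F) * t else 0 := by
  unfold ChevalleyDatum.xMat ChevalleyDatum.cartan
  rw [Matrix.of_apply]

theorem h8xMat_inl_inr (D : ChevalleyDatum) (r : Fin D.nroots) (t : F) (a : Fin D.rank)
    (v : Fin D.nroots) :
    D.xMat F r t (Sum.inl a) (Sum.inr v) =
      if v = r then 0 else if v.val = D.negIdx.getD r.val 0 then
        (((D.coroot.getD r.val #[]).getD a.val 0 : ℤ) : F) * t else 0 := by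
  unfold ChevalleyDatum.xMat
  rw [Matrix.of_apply]

def h8chSum (τ : F) (w : ℕ) : ℕ → List (ℕ × ℤ) → F
  | _, [] => 0
  | n, (u, M) :: L => (if u = w then ((M : ℤ) : F) * τ ^ (n + 1) else 0) + h8chSum τ w (n + 1) L

theorem h8chSum_zipIdx (τ : F) (w : ℕ) : ∀ (L : List (ℕ × ℤ)) (n : ℕ),
    ((((L.zipIdx n).filter (fun q => decide (q.1.1 = w))).map fun q => (q.2 + 1, q.1.2)).map
      fun km : ℕ × ℤ => ((km.2 : ℤ) : F) * τ ^ km.1).sum = h8chSum τ w n L
  | [], n => by simp [h8chSum]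
  | (u, M) :: L, n => by
    rw [List.zipIdx_cons, h8chSum]
    by_cases h : u = w
    · rw [List.filter_cons_of_pos (by simpa using h), List.map_cons, List.map_cons, List.sum_cons,
        h8chSum_zipIdx τ w L (n + 1), if_pos h]
    · rw [List.filter_cons_of_neg (by simpa using h), h8chSum_zipIdx τ w L (n + 1), if_neg h,
        zero_add]

theorem h8chainCoeff_sum (D : ChevalleyDatum) (r s u : ℕ) (τ : F)
    (hL : (((D.chain.getD r #[]).toList).map Prod.fst).Pairwise (· < ·)) :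
    ((D.chainCoeff r s u).map fun km => ((km.2 : ℤ) : F) * τ ^ km.1).sum =
      h8chSum τ u 0 (D.chainEntry r s) := by
  rw [h8chainCoeff_eq D r s u hL]
  exact h8chSum_zipIdx τ u (D.chainEntry r s) 0

theorem h8xMat_inr_inr (D : ChevalleyDatum) (r : Fin D.nroots) (t : F) (u v : Fin D.nroots)
    (hL : (((D.chain.getD r.val #[]).toList).map Prod.fst).Pairwise (· < ·)) :
    D.xMat F r t (Sum.inr u) (Sum.inr v) =
      if v = r then (if u = r then 1 else 0)
      else if v.val = D.negIdx.getD r.val 0 then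
        (if u = v then 1 else if u = r then -(t ^ 2) else 0)
      else (if u = v then 1 else 0) + h8chSum t u.val 0 (D.chainEntry r.val v.val) := by
  rw [← h8chainCoeff_sum D r.val v.val u.val t hL]
  unfold ChevalleyDatum.xMat
  rw [Matrix.of_apply]

def h8mapEnt (σ : ℕ → ℕ) (η : ℕ → ℤ) (es c : ℤ) : ℕ → List (ℕ × ℤ) → List (ℕ × ℤ)
  | _, [] => []
  | n, (u, M) :: L => (σ u, M * es ^ (n + 1) * c * η u) :: h8mapEnt σ η es c (n + 1) L

theorem h8mapEnt_congr (σ σ' : ℕ → ℕ) (η η' : ℕ → ℤ) (es c : ℤ) :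
    ∀ (L : List (ℕ × ℤ)) (n : ℕ), (∀ q ∈ L, σ q.1 = σ' q.1 ∧ η q.1 = η' q.1) →
      h8mapEnt σ η es c n L = h8mapEnt σ' η' es c n L
  | [], _, _ => rfl
  | (u, M) :: L, n, h => by
    unfold h8mapEnt
    have h1 := h (u, M) List.mem_cons_self
    rw [h1.1, h1.2, h8mapEnt_congr σ σ' η η' es c L (n + 1)
      (fun q hq => h q (List.mem_cons_of_mem _ hq))]

theorem h8mapEnt_eq_nil (σ : ℕ → ℕ) (η : ℕ → ℤ) (es c : ℤ) (n : ℕ) (L : List (ℕ × ℤ))
    (h : h8mapEnt σ η es c n L = []) : L = [] := by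
  cases L with
  | nil => rfl
  | cons a L =>
    obtain ⟨u, M⟩ := a
    unfold h8mapEnt at h
    cases h

theorem h8chSum_mapEnt (σ : ℕ → ℕ) (η : ℕ → ℤ) (es c : ℤ) (τ : F) (w : ℕ)
    (hes : es = 1 ∨ es = -1) :
    ∀ (L : List (ℕ × ℤ)) (n : ℕ), (∀ q ∈ L, σ q.1 = σ w → q.1 = w) →
      h8chSum (((es : ℤ) : F) * τ) (σ w) n (h8mapEnt σ η es c n L) =
        ((c : ℤ) : F) * ((η w : ℤ) : F) * h8chSum τ w n L
  | [], _, _ => by simp [h8chSum, h8mapEnt]
  | (u, M) :: L, n, h => by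
    unfold h8mapEnt h8chSum
    rw [h8chSum_mapEnt σ η es c τ w hes L (n + 1) (fun q hq => h q (List.mem_cons_of_mem _ hq))]
    rw [mul_add]
    congr 1
    by_cases huw : u = w
    · subst huw
      rw [if_pos rfl, if_pos rfl]
      have h2 : (((es : ℤ) : F)) ^ (n + 1) * (((es : ℤ) : F)) ^ (n + 1) = 1 := by
        rw [← mul_pow]
        rcases hes with rfl | rfl <;> simp
      push_cast
      rw [mul_pow]
      calc (M : F) * (es : F) ^ (n + 1) * (c : F) * (η u : F) * ((es : F) ^ (n + 1) * τ ^ (n + 1))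
          = ((es : F) ^ (n + 1) * (es : F) ^ (n + 1)) * ((c : F) * (η u : F) * ((M : F) * τ ^ (n + 1))) := by
            ring
        _ = (c : F) * (η u : F) * ((M : F) * τ ^ (n + 1)) := by rw [h2, one_mul]
    · have : ¬ σ u = σ w := fun hh => huw (h (u, M) List.mem_cons_self hh)
      rw [if_neg this, if_neg huw, mul_zero]

end Cfsg.Agent.Lib.helper8
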