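import Mathlib
import Cfsg.Prelude.Def_ChevStructure
import Cfsg.Agent.Lib.helper8.ChevNM
import Cfsg.Agent.Lib.helper8.ChevXEntry
import Cfsg.Agent.Lib.helper8.ChevCE

set_option autoImplicit false

namespace Cfsg.Agent.Lib.helper8

open Cfsg.Lie Cfsg.Lie.ChevalleyDatum

variable {F : Type*} [Field F]

structure H8Refl (D : ChevalleyDatum) (i : ℕ) (η : ℕ → ℤ) : Prop where
  lt : ∀ s < D.nroots, D.reflectRoot i s < D.nroots
  invol : ∀ s < D.nroots, D.reflectRoot i (D.reflectRoot i s) = s
  negc : ∀ s < D.nroots, D.reflectRoot i (D.negIdx.getD s 0) = D.negIdx.getD (D.reflectRoot i s) 0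
  neglt : ∀ s < D.nroots, D.negIdx.getD s 0 < D.nroots
  sorted : ∀ s < D.nroots, (((D.chain.getD s #[]).toList).map Prod.fst).Pairwise (· < ·)
  eta1 : ∀ s < D.nroots, η s = 1 ∨ η s = -1
  etaneg : ∀ s < D.nroots, η s * η (D.negIdx.getD s 0) = 1
  tc1 : ∀ j < D.rank, ∀ s < D.nroots, D.cartan j s =
    D.cartan j (D.reflectRoot i s) - D.cartan j (D.simple i) * D.cartan i (D.reflectRoot i s)
  tc2 : ∀ j < D.rank, ∀ s < D.nroots, (D.coroot.getD (D.reflectRoot i s) #[]).getD j 0 =
    (D.coroot.getD s #[]).getD j 0 - (if j = i then h8K D s (D.simple i) else 0)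
  tc3 : ∀ s < D.nroots, ∀ e ∈ (D.chain.getD s #[]).toList, e.1 < D.nroots ∧
    (∀ q ∈ e.2.toList, q.1 < D.nroots) ∧
    D.chainEntry (D.reflectRoot i s) (D.reflectRoot i e.1) =
      h8mapEnt (D.reflectRoot i) η (η s) (η e.1) 0 e.2.toList

theorem h8refl_inj (D : ChevalleyDatum) (i : ℕ) (η : ℕ → ℤ) (hR : H8Refl D i η) (a b : ℕ)
    (ha : a < D.nroots) (hb : b < D.nroots) (h : D.reflectRoot i a = D.reflectRoot i b) : a = b := by
  rw [← hR.invol a ha, ← hR.invol b hb, h]

theorem h8refl_chainEntry (D : ChevalleyDatum) (i : ℕ) (η : ℕ → ℤ) (hR : H8Refl D i η) (s v : ℕ)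
    (hs : s < D.nroots) (hv : v < D.nroots) :
    D.chainEntry (D.reflectRoot i s) (D.reflectRoot i v) =
      h8mapEnt (D.reflectRoot i) η (η s) (η v) 0 (D.chainEntry s v) := by
  rcases h8chainEntry_cases D s v with h0 | ⟨e, he, hev, hce⟩
  · rw [h0]
    rcases h8chainEntry_cases D (D.reflectRoot i s) (D.reflectRoot i v) with h1 | ⟨e', he', hev', hce'⟩
    · rw [h1]; rfl
    · have h3 := (hR.tc3 _ (hR.lt s hs) e' he').2.2
      rw [hR.invol s hs, hev', hR.invol v hv, h0] at h3
      have := h8mapEnt_eq_nil _ _ _ _ _ _ h3.symm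
      rw [hce', this]
      rfl
  · have h3 := (hR.tc3 s hs e he).2.2
    rw [hev] at h3
    rw [h3, hce]

theorem h8chainEntry_lt (D : ChevalleyDatum) (i : ℕ) (η : ℕ → ℤ) (hR : H8Refl D i η) (s v : ℕ)
    (hs : s < D.nroots) : ∀ q ∈ D.chainEntry s v, q.1 < D.nroots := by
  rcases h8chainEntry_cases D s v with h0 | ⟨e, he, _, hce⟩
  · rw [h0]; intro q hq; cases hq
  · rw [hce]
    exact (hR.tc3 s hs e he).2.1

theorem h8eta_sq (e : ℤ) (h : e = 1 ∨ e = -1) : ((e : ℤ) : F) * ((e : ℤ) : F) = 1 := by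
  rcases h with h1 | h1 <;> rw [h1] <;> simp

theorem h8eta_eq_of_mul (a b : ℤ) (ha : a = 1 ∨ a = -1) (hb : b = 1 ∨ b = -1) (hab : a * b = 1) :
    a = b := by
  rcases ha with h1 | h1 <;> rcases hb with h2 | h2 <;> rw [h1, h2] at hab ⊢ <;> simp at hab

theorem h8n_conj_x (D : ChevalleyDatum) (i : ℕ) (hi : i < D.rank) (η : ℕ → ℤ) (hR : H8Refl D i η)
    (s : ℕ) (hs : s < D.nroots) (t : F) :
    h8NM D F i η * D.x F s t =
      D.x F (D.reflectRoot i s) (((η s : ℤ) : F) * t) * h8NM D F i η := by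
  unfold ChevalleyDatum.x
  rw [dif_pos hs, dif_pos (hR.lt s hs)]
  have hA : ∀ (a b : Fin D.nroots), ((⟨D.reflectRoot i a.val, hR.lt a.val a.2⟩ : Fin D.nroots) =
      ⟨D.reflectRoot i b.val, hR.lt b.val b.2⟩) ↔ a = b := by
    intro a b
    constructor
    · intro h
      exact Fin.ext (h8refl_inj D i η hR a.val b.val a.2 b.2 (Fin.mk.inj h))
    · intro h; rw [h]
  have hB : ∀ (w a : Fin D.nroots), ((⟨D.reflectRoot i w.val, hR.lt w.val w.2⟩ : Fin D.nroots) = a) ↔
      w = ⟨D.reflectRoot i a.val, hR.lt a.val a.2⟩ := by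
    intro w a
    constructor
    · intro h
      apply Fin.ext
      show w.val = D.reflectRoot i a.val
      rw [← h]
      exact (hR.invol w.val w.2).symm
    · intro h
      apply Fin.ext
      show D.reflectRoot i w.val = a.val
      rw [h]
      exact hR.invol a.val a.2
  ext row col
  rcases row with j' | w <;> rcases col with j | v
  · rw [h8NM_mul_inl, h8mul_NM_inl D i hi]
    simp only [h8xMat_inl_inl]
    simp only [mul_ite, mul_one, mul_zero, Finset.sum_ite_eq', Finset.mem_univ, if_true]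
    congr 1
    by_cases h : j'.val = i
    · rw [if_pos h, if_pos (Fin.ext h)]
    · rw [if_neg h, if_neg (fun hh => h (by rw [hh]))]
  · rw [h8NM_mul_inl, h8mul_NM_inr D i η hR.lt]
    simp only [h8xMat_inl_inr]
    by_cases h1 : v = ⟨s, hs⟩
    · rw [if_pos h1, if_pos ((hA v ⟨s, hs⟩).mpr h1)]
      simp [h1]
    · have h1' : ¬ ((⟨D.reflectRoot i v.val, hR.lt v.val v.2⟩ : Fin D.nroots) =
          ⟨D.reflectRoot i s, hR.lt s hs⟩) := fun h => h1 ((hA v ⟨s, hs⟩).mp h)
      simp only [h1, h1', if_false]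
      by_cases h2 : v.val = D.negIdx.getD s 0
      · have h2' : D.reflectRoot i v.val = D.negIdx.getD (D.reflectRoot i s) 0 := by
          rw [h2, hR.negc s hs]
        rw [if_pos h2, if_pos h2']
        simp only [if_pos h2]
        rw [hR.tc2 j'.val j'.2 s hs, h2]
        unfold h8K
        have he : ((η s : ℤ) : F) * ((η (D.negIdx.getD s 0) : ℤ) : F) = 1 := by
          rw [← Int.cast_mul, hR.etaneg s hs, Int.cast_one]
        by_cases hj : j'.val = i
        · rw [if_pos hj, if_pos hj]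
          push_cast
          rw [mul_assoc _ (((η s : ℤ) : F) * t), mul_comm (((η s : ℤ) : F)) t, mul_assoc t, he, mul_one,
            sub_mul, Finset.sum_mul]
          congr 1
          apply Finset.sum_congr rfl
          intro k _
          ring
        · rw [if_neg hj, if_neg hj]
          push_cast
          rw [sub_zero, sub_zero, mul_assoc, mul_comm (((η s : ℤ) : F)) t, mul_assoc t, he, mul_one]
      · have h2' : ¬ D.reflectRoot i v.val = D.negIdx.getD (D.reflectRoot i s) 0 := by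
          rw [← hR.negc s hs]
          intro h
          exact h2 (h8refl_inj D i η hR _ _ v.2 (hR.neglt s hs) h)
        simp only [if_neg h2, if_neg h2', mul_zero, Finset.sum_const_zero, ite_self, sub_zero,
          zero_mul]
  · rw [h8NM_mul_inr D i η hR.lt hR.invol, h8mul_NM_inl D i hi]
    simp only [h8xMat_inr_inl]
    by_cases h1 : w = ⟨D.reflectRoot i s, hR.lt s hs⟩
    · have h1' : (⟨D.reflectRoot i w.val, hR.lt w.val w.2⟩ : Fin D.nroots) = ⟨s, hs⟩ :=
        (hB w ⟨s, hs⟩).mpr h1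
      have h3 : D.reflectRoot i w.val = s := Fin.mk.inj h1'
      rw [if_pos h1', if_pos h1, if_pos h1, h3, hR.tc1 j.val j.2 s hs]
      push_cast
      ring
    · have h1' : ¬ (⟨D.reflectRoot i w.val, hR.lt w.val w.2⟩ : Fin D.nroots) = ⟨s, hs⟩ :=
        fun h => h1 ((hB w ⟨s, hs⟩).mp h)
      rw [if_neg h1', if_neg h1, if_neg h1]
      simp
  · rw [h8NM_mul_inr D i η hR.lt hR.invol, h8mul_NM_inr D i η hR.lt]
    rw [h8xMat_inr_inr D _ _ _ _ (hR.sorted s hs), h8xMat_inr_inr D _ _ _ _ (hR.sorted _ (hR.lt s hs))]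
    have hw' : D.reflectRoot i w.val < D.nroots := hR.lt w.val w.2
    by_cases h1 : v = ⟨s, hs⟩
    · rw [if_pos h1, if_pos ((hA v ⟨s, hs⟩).mpr h1)]
      by_cases h2 : w = ⟨D.reflectRoot i s, hR.lt s hs⟩
      · have h2' : (⟨D.reflectRoot i w.val, hR.lt w.val w.2⟩ : Fin D.nroots) = ⟨s, hs⟩ :=
          (hB w ⟨s, hs⟩).mpr h2
        have h3 : D.reflectRoot i w.val = s := Fin.mk.inj h2'
        rw [if_pos h2', if_pos h2, h3, h1, mul_one, one_mul]
      · have h2' : ¬ (⟨D.reflectRoot i w.val, hR.lt w.val w.2⟩ : Fin D.nroots) = ⟨s, hs⟩ :=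
          fun h => h2 ((hB w ⟨s, hs⟩).mp h)
        rw [if_neg h2', if_neg h2]
        simp
    · have h1' : ¬ ((⟨D.reflectRoot i v.val, hR.lt v.val v.2⟩ : Fin D.nroots) =
          ⟨D.reflectRoot i s, hR.lt s hs⟩) := fun h => h1 ((hA v ⟨s, hs⟩).mp h)
      rw [if_neg h1, if_neg h1']
      by_cases h2 : v.val = D.negIdx.getD s 0
      · have h2' : D.reflectRoot i v.val = D.negIdx.getD (D.reflectRoot i s) 0 := by
          rw [h2, hR.negc s hs]
        rw [if_pos h2, if_pos h2']
        have hev : η v.val = η s := by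
          rw [h2]
          exact (h8eta_eq_of_mul _ _ (hR.eta1 s hs) (hR.eta1 _ (hR.neglt s hs)) (hR.etaneg s hs)).symm
        by_cases h3 : w = ⟨D.reflectRoot i v.val, hR.lt v.val v.2⟩
        · have h3' : (⟨D.reflectRoot i w.val, hR.lt w.val w.2⟩ : Fin D.nroots) = v := (hB w v).mpr h3
          have h4 : D.reflectRoot i w.val = v.val := congrArg Fin.val h3'
          rw [if_pos h3', if_pos h3, h4, mul_one, one_mul]
        · have h3' : ¬ (⟨D.reflectRoot i w.val, hR.lt w.val w.2⟩ : Fin D.nroots) = v :=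
            fun h => h3 ((hB w v).mp h)
          rw [if_neg h3', if_neg h3]
          by_cases h5 : w = ⟨D.reflectRoot i s, hR.lt s hs⟩
          · have h5' : (⟨D.reflectRoot i w.val, hR.lt w.val w.2⟩ : Fin D.nroots) = ⟨s, hs⟩ :=
              (hB w ⟨s, hs⟩).mpr h5
            have h6 : D.reflectRoot i w.val = s := Fin.mk.inj h5'
            have hsq : (((η s : ℤ) : F)) ^ 2 = 1 := by
              rw [pow_two]
              exact h8eta_sq _ (hR.eta1 s hs)
            rw [if_pos h5', if_pos h5, h6, hev, mul_pow, hsq]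
            ring
          · have h5' : ¬ (⟨D.reflectRoot i w.val, hR.lt w.val w.2⟩ : Fin D.nroots) = ⟨s, hs⟩ :=
              fun h => h5 ((hB w ⟨s, hs⟩).mp h)
            rw [if_neg h5', if_neg h5]
            simp
      · have h2' : ¬ D.reflectRoot i v.val = D.negIdx.getD (D.reflectRoot i s) 0 := by
          rw [← hR.negc s hs]
          intro h
          exact h2 (h8refl_inj D i η hR _ _ v.2 (hR.neglt s hs) h)
        rw [if_neg h2, if_neg h2']
        show _ = (_ + h8chSum (((η s : ℤ) : F) * t) w.val 0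
          (D.chainEntry (D.reflectRoot i s) (D.reflectRoot i v.val))) * _
        rw [h8refl_chainEntry D i η hR s v.val hs v.2]
        have hwinv : w.val = D.reflectRoot i (D.reflectRoot i w.val) := (hR.invol w.val w.2).symm
        have hsum := h8chSum_mapEnt (F := F) (D.reflectRoot i) η (η s) (η v.val) t
          (D.reflectRoot i w.val) (hR.eta1 s hs) (D.chainEntry s v.val) 0
          (fun q hq h => h8refl_inj D i η hR _ _ (h8chainEntry_lt D i η hR s v.val hs q hq) hw' h)
        rw [← hwinv] at hsum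
        rw [hsum]
        show ((η (D.reflectRoot i w.val) : ℤ) : F) * (_ + h8chSum t (D.reflectRoot i w.val) 0
          (D.chainEntry s v.val)) = _
        by_cases h3 : w = ⟨D.reflectRoot i v.val, hR.lt v.val v.2⟩
        · have h3' : (⟨D.reflectRoot i w.val, hR.lt w.val w.2⟩ : Fin D.nroots) = v := (hB w v).mpr h3
          have h4 : D.reflectRoot i w.val = v.val := congrArg Fin.val h3'
          rw [if_pos h3', if_pos h3, h4]
          have := h8eta_sq (F := F) _ (hR.eta1 v.val v.2)
          calc ((η v.val : ℤ) : F) * (1 + h8chSum t v.val 0 (D.chainEntry s v.val))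
              = ((η v.val : ℤ) : F) + ((η v.val : ℤ) : F) * h8chSum t v.val 0 (D.chainEntry s v.val) := by
                ring
            _ = ((η v.val : ℤ) : F) + (((η v.val : ℤ) : F) * ((η v.val : ℤ) : F)) * (((η v.val : ℤ) : F) *
                  h8chSum t v.val 0 (D.chainEntry s v.val)) := by rw [this, one_mul]
            _ = _ := by ring
        · have h3' : ¬ (⟨D.reflectRoot i w.val, hR.lt w.val w.2⟩ : Fin D.nroots) = v :=
            fun h => h3 ((hB w v).mp h)
          rw [if_neg h3', if_neg h3, zero_add, zero_add]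
          have := h8eta_sq (F := F) _ (hR.eta1 v.val v.2)
          calc ((η (D.reflectRoot i w.val) : ℤ) : F) * h8chSum t (D.reflectRoot i w.val) 0 (D.chainEntry s v.val)
              = (((η v.val : ℤ) : F) * ((η v.val : ℤ) : F)) * (((η (D.reflectRoot i w.val) : ℤ) : F) *
                  h8chSum t (D.reflectRoot i w.val) 0 (D.chainEntry s v.val)) := by rw [this, one_mul]
            _ = _ := by ring

end Cfsg.Agent.Lib.helper8
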