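import Mathlib
import Cfsg.Prelude.Def_ChevStructure
import Cfsg.Agent.Lib.helper8.ChevReflConj

set_option autoImplicit false

namespace Cfsg.Agent.Lib.helper8

open Cfsg.Lie Cfsg.Lie.ChevalleyDatum

variable {F : Type*} [Field F]

def h8sgP (D : ChevalleyDatum) (i : ℕ) : ℕ :=
  h8pack 256 ((List.range D.nroots).map (D.reflectRoot i))

def h8sg (D : ChevalleyDatum) (i s : ℕ) : ℕ := h8unpack 256 (h8sgP D i) s

def h8et (eta : List ℤ) (s : ℕ) : ℤ := h8unpackZ (h8packZ eta) s

def h8cf (D : ChevalleyDatum) (j s : ℕ) : ℤ :=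
  h8unpackZ (h8packZ (D.cartanSR.getD j #[]).toList) s

def h8reflRow (D : ChevalleyDatum) (i : ℕ) (eta : List ℤ) (s : ℕ) : Bool :=
  decide (h8sg D i (h8sg D i s) = s) &&
  decide (D.negIdx.getD s 0 < D.nroots) &&
  decide (h8sg D i (D.negIdx.getD s 0) = D.negIdx.getD (h8sg D i s) 0) &&
  ((List.range D.rank).all fun j =>
    decide (h8cf D j s = h8cf D j (h8sg D i s) - h8cf D j (D.simple i) * h8cf D i (h8sg D i s)) &&
    decide ((D.coroot.getD (h8sg D i s) #[]).getD j 0 =
      (D.coroot.getD s #[]).getD j 0 - (if j = i then h8KF D s (D.simple i) else 0))) &&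
  ((D.chain.getD s #[]).toList.all fun e =>
    decide (e.1 < D.nroots) && e.2.toList.all (fun q => decide (q.1 < D.nroots)) &&
    decide (h8ce D (h8sg D i s) (h8sg D i e.1) =
      h8mapEnt (h8sg D i) (h8et eta) (h8et eta s) (h8et eta e.1) 0 e.2.toList))

def h8reflChk (D : ChevalleyDatum) (i : ℕ) (eta : List ℤ) : Bool :=
  decide (eta.length = D.nroots) && h8smallZ eta && decide (D.nroots ≤ 256) &&
  decide (D.simple i < D.nroots) &&
  (List.range D.nroots).all (h8reflRow D i eta)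

theorem h8nChk_lt (D : ChevalleyDatum) (i : ℕ) (eta : List ℤ) (h : h8nChk D i eta = true)
    (s : ℕ) (hs : s < D.nroots) : D.reflectRoot i s < D.nroots := by
  unfold h8nChk at h
  simp only [Bool.and_eq_true, decide_eq_true_eq, List.all_eq_true, List.mem_range] at h
  exact (h.2 s hs).1

theorem h8sg_eq (D : ChevalleyDatum) (i : ℕ) (hlt : ∀ s < D.nroots, D.reflectRoot i s < D.nroots)
    (h256 : D.nroots ≤ 256) (s : ℕ) (hs : s < D.nroots) : h8sg D i s = D.reflectRoot i s := by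
  unfold h8sg h8sgP
  rw [h8unpack_pack 256 (by norm_num)]
  · rw [List.getD_eq_getElem _ _ (by simpa using hs)]
    simp
  · intro a ha
    rw [List.mem_map] at ha
    obtain ⟨b, hb, rfl⟩ := ha
    have := hlt b (List.mem_range.mp hb)
    omega

theorem h8reflChk_spec (D : ChevalleyDatum) (i : ℕ) (hi : i < D.rank) (eta : List ℤ)
    (hN : h8nChk D i eta = true) (hE : h8etaChk D i eta = true) (hce : h8ceChk D = true)
    (hCA : h8CAchk D = true) (h : h8reflChk D i eta = true) :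
    H8Refl D i (fun s => eta.getD s 0) := by
  unfold h8reflChk at h
  simp only [Bool.and_eq_true, decide_eq_true_eq, List.all_eq_true, List.mem_range] at h
  obtain ⟨⟨⟨⟨hlen, hsmall⟩, h256⟩, hp⟩, hrow⟩ := h
  have hlt := h8nChk_lt D i eta hN
  have hsg := h8sg_eq D i hlt h256
  have het : ∀ s < D.nroots, h8et eta s = eta.getD s 0 := by
    intro s hs
    unfold h8et
    exact h8unpackZ_packZ eta hsmall s (by omega)
  have hcf : ∀ j < D.rank, ∀ s < D.nroots, h8cf D j s = D.cartan j s := by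
    intro j hj s hs
    obtain ⟨h1, h2⟩ := h8CAchk_rows D hCA j hj
    exact h8cartan_fast D j h1 h2 s hs
  obtain ⟨he1, _, _, he2⟩ := h8eta_of_chk D i eta hE
  have hrow' : ∀ s < D.nroots, h8sg D i (h8sg D i s) = s ∧ D.negIdx.getD s 0 < D.nroots ∧
      h8sg D i (D.negIdx.getD s 0) = D.negIdx.getD (h8sg D i s) 0 ∧
      (∀ j < D.rank,
        h8cf D j s = h8cf D j (h8sg D i s) - h8cf D j (D.simple i) * h8cf D i (h8sg D i s) ∧
        (D.coroot.getD (h8sg D i s) #[]).getD j 0 =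
          (D.coroot.getD s #[]).getD j 0 - (if j = i then h8KF D s (D.simple i) else 0)) ∧
      (∀ e ∈ (D.chain.getD s #[]).toList, e.1 < D.nroots ∧ (∀ q ∈ e.2.toList, q.1 < D.nroots) ∧
        h8ce D (h8sg D i s) (h8sg D i e.1) =
          h8mapEnt (h8sg D i) (h8et eta) (h8et eta s) (h8et eta e.1) 0 e.2.toList) := by
    intro s hs
    have := hrow s hs
    unfold h8reflRow at this
    simp only [Bool.and_eq_true, decide_eq_true_eq, List.all_eq_true, List.mem_range] at this
    obtain ⟨⟨⟨⟨a1, a2⟩, a3⟩, a4⟩, a5⟩ := this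
    exact ⟨a1, a2, a3, a4, fun e he => ⟨(a5 e he).1.1, (a5 e he).1.2, (a5 e he).2⟩⟩
  refine ⟨hlt, ?_, ?_, ?_, ?_, ?_, ?_, ?_, ?_, ?_⟩
  · intro s hs
    have := (hrow' s hs).1
    rwa [hsg s hs, hsg _ (hlt s hs)] at this
  · intro s hs
    obtain ⟨_, b2, b3, _, _⟩ := hrow' s hs
    rwa [hsg _ b2, hsg s hs] at b3
  · intro s hs
    exact (hrow' s hs).2.1
  · intro s hs
    exact h8ceChk_sorted D hce s hs
  · intro s hs
    exact he1 s hs
  · intro s hs
    exact (he2 s hs).2
  · intro j hj s hs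
    have := ((hrow' s hs).2.2.2.1 j hj).1
    rwa [hsg s hs, hcf j hj s hs, hcf j hj _ (hlt s hs), hcf j hj _ hp, hcf i hi _ (hlt s hs)] at this
  · intro j hj s hs
    have := ((hrow' s hs).2.2.2.1 j hj).2
    rwa [hsg s hs, h8KF_eq D hCA s _ hp] at this
  · intro s hs e he
    obtain ⟨c1, c2, c3⟩ := (hrow' s hs).2.2.2.2 e he
    refine ⟨c1, c2, ?_⟩
    rw [hsg s hs, hsg _ c1, h8ce_eq D hce _ _ (hlt s hs), het s hs, het _ c1] at c3
    rw [c3]
    apply h8mapEnt_congr
    intro q hq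
    exact ⟨hsg _ (c2 q hq), het _ (c2 q hq)⟩

theorem h8n_simple_conj (D : ChevalleyDatum) (i : ℕ) (hi : i < D.rank) (eta : List ℤ)
    (hN : h8nChk D i eta = true) (hE : h8etaChk D i eta = true) (hce : h8ceChk D = true)
    (hCA : h8CAchk D = true) (h : h8reflChk D i eta = true) (s : ℕ) (hs : s < D.nroots) (t : F) :
    D.nMat F (D.simple i) 1 * D.x F s t =
      D.x F (D.reflectRoot i s) ((((eta.getD s 0 : ℤ)) : F) * t) * D.nMat F (D.simple i) 1 := by
  rw [h8nMat_eq_NM D i hi eta hN]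
  exact h8n_conj_x D i hi _ (h8reflChk_spec D i hi eta hN hE hce hCA h) s hs t

def h8reflGlob (D : ChevalleyDatum) (i : ℕ) (eta : List ℤ) : Bool :=
  decide (eta.length = D.nroots) && h8smallZ eta && decide (D.nroots ≤ 256) &&
  decide (D.simple i < D.nroots)

theorem h8reflChk_of_rows (D : ChevalleyDatum) (i : ℕ) (eta : List ℤ)
    (hg : h8reflGlob D i eta = true) (hrow : ∀ s < D.nroots, h8reflRow D i eta s = true) :
    h8reflChk D i eta = true := by
  unfold h8reflChk
  unfold h8reflGlob at hg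
  rw [Bool.and_eq_true]
  exact ⟨hg, List.all_eq_true.mpr (fun s hs => hrow s (List.mem_range.mp hs))⟩

theorem h8rows_of_chunk (f : ℕ → Bool) (a len : ℕ) (h : (List.range' a len).all f = true) (s : ℕ)
    (h1 : a ≤ s) (h2 : s < a + len) : f s = true := by
  rw [List.all_eq_true] at h
  exact h s (List.mem_range'_1.mpr ⟨h1, h2⟩)

end Cfsg.Agent.Lib.helper8
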