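import Mathlib
import Cfsg.Prelude.Def_ChevStructure
import Cfsg.Agent.Lib.helper8.ChevReflChk
import Cfsg.Agent.Lib.helper8.ChevUnits

set_option autoImplicit false

namespace Cfsg.Agent.Lib.helper8

open Cfsg.Lie Cfsg.Lie.ChevalleyDatum

universe u

variable {F : Type u} [Field F]

structure H8ReflAll (D : ChevalleyDatum) : Prop where
  ce : h8ceChk D = true
  ca : h8CAchk D = true
  refl : ∀ i < D.rank, ∃ eta : List ℤ,
    h8nChk D i eta = true ∧ h8etaChk D i eta = true ∧ h8reflChk D i eta = true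

theorem h8reflAll_spec (D : ChevalleyDatum) (hA : H8ReflAll D) (i : ℕ) (hi : i < D.rank) :
    ∃ η : ℕ → ℤ, H8Refl D i η := by
  obtain ⟨eta, hN, hE, hR⟩ := hA.refl i hi
  exact ⟨_, h8reflChk_spec D i hi eta hN hE hA.ce hA.ca hR⟩

theorem h8n_simple_conj_all (D : ChevalleyDatum) (hA : H8ReflAll D)
    (i s : ℕ) (hi : i < D.rank) (hs : s < D.nroots) :
    ∃ η : ℤ, (η = 1 ∨ η = -1) ∧ ∀ t : F, D.nMat F (D.simple i) 1 * D.x F s t =
      D.x F (D.reflectRoot i s) ((η : F) * t) * D.nMat F (D.simple i) 1 := by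
  obtain ⟨eta, hN, hE, hR⟩ := hA.refl i hi
  refine ⟨eta.getD s 0, (h8eta_of_chk D i eta hE).1 s hs, fun t => ?_⟩
  exact h8n_simple_conj D i hi eta hN hE hA.ce hA.ca hR s hs t

def h8sW (D : ChevalleyDatum) (w : List ℕ) (s : ℕ) : ℕ :=
  w.foldr (fun i acc => D.reflectRoot i acc) s

theorem h8sW_lt (D : ChevalleyDatum) (hA : H8ReflAll D) (w : List ℕ) (hw : ∀ i ∈ w, i < D.rank)
    (s : ℕ) (hs : s < D.nroots) : h8sW D w s < D.nroots := by
  induction w with
  | nil => exact hs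
  | cons i w ih =>
    obtain ⟨η, hR⟩ := h8reflAll_spec D hA i (hw i List.mem_cons_self)
    exact hR.lt _ (ih (fun j hj => hw j (List.mem_cons_of_mem _ hj)))

theorem h8sW_append (D : ChevalleyDatum) (w1 w2 : List ℕ) (s : ℕ) :
    h8sW D (w1 ++ w2) s = h8sW D w1 (h8sW D w2 s) := by
  unfold h8sW
  rw [List.foldr_append]

theorem h8sW_reverse (D : ChevalleyDatum) (hA : H8ReflAll D) (w : List ℕ)
    (hw : ∀ i ∈ w, i < D.rank) : ∀ (s : ℕ), s < D.nroots → h8sW D w (h8sW D w.reverse s) = s := by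
  induction w with
  | nil => intro s _; rfl
  | cons i w ih =>
    intro s hs
    obtain ⟨η, hR⟩ := h8reflAll_spec D hA i (hw i List.mem_cons_self)
    rw [List.reverse_cons, h8sW_append]
    have h1 : h8sW D [i] s = D.reflectRoot i s := rfl
    rw [h1]
    have h2 : ∀ x, h8sW D (i :: w) x = D.reflectRoot i (h8sW D w x) := fun x => rfl
    rw [h2, ih (fun j hj => hw j (List.mem_cons_of_mem _ hj)) _ (hR.lt s hs), hR.invol s hs]

def h8nWU (D : ChevalleyDatum) (hB : H8Base.{u} D) (w : List ℕ) : GL D.Idx F :=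
  (w.map fun i => h8nU D hB (D.simple i) (1 : F)).prod

theorem h8nWU_mem_N (D : ChevalleyDatum) (hB : H8Base.{u} D) (hA : H8ReflAll D) (w : List ℕ)
    (hw : ∀ i ∈ w, i < D.rank) : (h8nWU D hB w : GL D.Idx F) ∈ D.monomialSubgroup F := by
  unfold h8nWU
  apply Subgroup.list_prod_mem
  intro g hg
  rw [List.mem_map] at hg
  obtain ⟨i, hi, rfl⟩ := hg
  obtain ⟨eta, hN, hE, hR⟩ := hA.refl i (hw i hi)
  have hp : D.simple i < D.nroots := by
    unfold h8reflChk at hR
    simp only [Bool.and_eq_true, decide_eq_true_eq] at hR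
    exact hR.1.2
  exact h8nU_mem_N D hB _ hp

theorem h8nWU_conj (D : ChevalleyDatum) (hB : H8Base.{u} D) (hA : H8ReflAll D) (w : List ℕ)
    (hw : ∀ i ∈ w, i < D.rank) (s : ℕ) (hs : s < D.nroots) :
    ∃ η : ℤ, (η = 1 ∨ η = -1) ∧ ∀ t : F,
      ((h8nWU D hB w : GL D.Idx F) : Matrix D.Idx D.Idx F) * D.x F s t =
        D.x F (h8sW D w s) ((η : F) * t) * ((h8nWU D hB w : GL D.Idx F) : Matrix D.Idx D.Idx F) := by
  induction w with
  | nil =>
    refine ⟨1, Or.inl rfl, fun t => ?_⟩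
    have : (h8nWU D hB [] : GL D.Idx F) = 1 := rfl
    rw [this, Units.val_one, one_mul, mul_one, Int.cast_one, one_mul]
    rfl
  | cons i w ih =>
    have hw' : ∀ j ∈ w, j < D.rank := fun j hj => hw j (List.mem_cons_of_mem _ hj)
    obtain ⟨η1, hη1, h1⟩ := ih hw'
    have hlt := h8sW_lt D hA w hw' s hs
    obtain ⟨η2, hη2, h2⟩ := h8n_simple_conj_all (F := F) D hA i (h8sW D w s)
      (hw i List.mem_cons_self) hlt
    refine ⟨η2 * η1, ?_, fun t => ?_⟩
    · rcases hη1 with rfl | rfl <;> rcases hη2 with rfl | rfl <;> simp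
    · have e : (h8nWU D hB (i :: w) : GL D.Idx F) = h8nU D hB (D.simple i) 1 * h8nWU D hB w := by
        unfold h8nWU
        rw [List.map_cons, List.prod_cons]
      rw [e, Units.val_mul, h8nU_val, mul_assoc, h1 t, ← mul_assoc, h2, mul_assoc]
      have h3 : h8sW D (i :: w) s = D.reflectRoot i (h8sW D w s) := rfl
      rw [h3]
      push_cast
      rw [mul_assoc]

def h8sgW (D : ChevalleyDatum) (w : List ℕ) (s : ℕ) : ℕ :=
  w.foldr (fun i acc => h8sg D i acc) s

theorem h8sgW_eq (D : ChevalleyDatum) (hA : H8ReflAll D) (h256 : D.nroots ≤ 256) (w : List ℕ)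
    (hw : ∀ i ∈ w, i < D.rank) (s : ℕ) (hs : s < D.nroots) : h8sgW D w s = h8sW D w s := by
  induction w with
  | nil => rfl
  | cons i w ih =>
    have hw' : ∀ j ∈ w, j < D.rank := fun j hj => hw j (List.mem_cons_of_mem _ hj)
    have h1 : h8sgW D (i :: w) s = h8sg D i (h8sgW D w s) := rfl
    have h2 : h8sW D (i :: w) s = D.reflectRoot i (h8sW D w s) := rfl
    rw [h1, h2, ih hw']
    obtain ⟨η, hR⟩ := h8reflAll_spec D hA i (hw i List.mem_cons_self)
    exact h8sg_eq D i hR.lt h256 _ (h8sW_lt D hA w hw' s hs)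

def h8w0Chk (D : ChevalleyDatum) (w : List ℕ) : Bool :=
  decide (D.nroots ≤ 256) && w.all (fun i => decide (i < D.rank)) &&
  (List.range D.nroots).all fun s =>
    (!decide (D.IsPosRoot s) || decide (D.IsNegRoot (h8sgW D w s))) &&
    (!decide (D.IsNegRoot s) || decide (D.IsPosRoot (h8sgW D w.reverse s))) &&
    decide (D.negIdx.getD s 0 ≠ s)

theorem h8w0Chk_spec (D : ChevalleyDatum) (hA : H8ReflAll D) (w : List ℕ)
    (h : h8w0Chk D w = true) : (∀ i ∈ w, i < D.rank) ∧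
      (∀ s, D.IsPosRoot s → D.IsNegRoot (h8sW D w s)) ∧
      (∀ s, D.IsNegRoot s → D.IsPosRoot (h8sW D w.reverse s)) ∧
      (∀ s < D.nroots, D.negIdx.getD s 0 ≠ s) := by
  unfold h8w0Chk at h
  simp only [Bool.and_eq_true, Bool.or_eq_true, Bool.not_eq_true', decide_eq_true_eq,
    decide_eq_false_iff_not, List.all_eq_true, List.mem_range] at h
  obtain ⟨⟨h256, hw⟩, hs⟩ := h
  have hwr : ∀ i ∈ w.reverse, i < D.rank := fun i hi => hw i (List.mem_reverse.mp hi)
  refine ⟨hw, ?_, ?_, fun s hs' => (hs s hs').2⟩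
  · intro s hp
    have := (hs s hp.1).1.1
    rcases this with h1 | h1
    · exact absurd hp h1
    · rwa [h8sgW_eq D hA h256 w hw s hp.1] at h1
  · intro s hn
    have := (hs s hn.1).1.2
    rcases this with h1 | h1
    · exact absurd hn h1
    · rwa [h8sgW_eq D hA h256 w.reverse hwr s hn.1] at h1

theorem h8_conj_U_eq_V (D : ChevalleyDatum) (hB : H8Base.{u} D) (hA : H8ReflAll D) (w : List ℕ)
    (h : h8w0Chk D w = true) :
    (D.posUnipotent F).map (MulAut.conj (h8nWU D hB w : GL D.Idx F)).toMonoidHom =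
      D.negUnipotent F := by
  obtain ⟨hw, hpos, hneg, _⟩ := h8w0Chk_spec D hA w h
  unfold ChevalleyDatum.posUnipotent ChevalleyDatum.negUnipotent
  rw [MonoidHom.map_closure]
  apply le_antisymm
  · rw [Subgroup.closure_le]
    rintro g ⟨g0, ⟨s, t, hs, hg0⟩, rfl⟩
    apply Subgroup.subset_closure
    obtain ⟨η, _, hc⟩ := h8nWU_conj (F := F) D hB hA w hw s hs.1
    refine ⟨h8sW D w s, (η : F) * t, hpos s hs, ?_⟩
    show ((h8nWU D hB w * g0 * (h8nWU D hB w)⁻¹ : GL D.Idx F) : Matrix D.Idx D.Idx F) = _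
    rw [Units.val_mul, Units.val_mul, hg0, hc t, mul_assoc, ← Units.val_mul, mul_inv_cancel,
      Units.val_one, mul_one]
  · rw [Subgroup.closure_le]
    rintro g ⟨r, t, hr, hg⟩
    apply Subgroup.subset_closure
    have hwr : ∀ i ∈ w.reverse, i < D.rank := fun i hi => hw i (List.mem_reverse.mp hi)
    have hs := hneg r hr
    obtain ⟨η, hη, hc⟩ := h8nWU_conj (F := F) D hB hA w hw (h8sW D w.reverse r) hs.1
    refine ⟨h8xU D hB (h8sW D w.reverse r) ((η : F) * t), ⟨_, _, hs, rfl⟩, ?_⟩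
    apply Units.ext
    show ((h8nWU D hB w * h8xU D hB (h8sW D w.reverse r) ((η : F) * t) * (h8nWU D hB w)⁻¹ :
      GL D.Idx F) : Matrix D.Idx D.Idx F) = _
    rw [Units.val_mul, Units.val_mul, h8xU_val, hc, mul_assoc, ← Units.val_mul, mul_inv_cancel,
      Units.val_one, mul_one, hg, h8sW_reverse D hA w hw r hr.1, ← mul_assoc]
    have : ((η : ℤ) : F) * ((η : ℤ) : F) = 1 := by
      rcases hη with rfl | rfl <;> simp
    rw [this, one_mul]

end Cfsg.Agent.Lib.helper8
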