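import Mathlib
import Cfsg.Prelude.Def_ChevStructure
import Cfsg.Agent.Lib.helper8.ChevW0
import Cfsg.Agent.Lib.helper8.ChevGroup

set_option autoImplicit false

namespace Cfsg.Agent.Lib.helper8

open Cfsg.Lie Cfsg.Lie.ChevalleyDatum

universe u

variable {F : Type u} [Field F]

theorem h8NM_mul_diag (D : ChevalleyDatum) (i : ℕ) (η : ℕ → ℤ)
    (hlt : ∀ s < D.nroots, D.reflectRoot i s < D.nroots) (d d' : D.Idx → F)
    (hd : ∀ j, d (Sum.inl j) = 1) (hd' : ∀ j, d' (Sum.inl j) = 1)
    (hdd : ∀ v : Fin D.nroots, d' (Sum.inr ⟨D.reflectRoot i v.val, hlt v.val v.2⟩) = d (Sum.inr v)) :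
    h8NM D F i η * Matrix.diagonal d = Matrix.diagonal d' * h8NM D F i η := by
  ext row col
  rw [Matrix.mul_diagonal, Matrix.diagonal_mul]
  unfold h8NM
  rw [Matrix.of_apply]
  rcases row with j' | w <;> rcases col with j | v
  · simp only [Sum.elim_inl, hd, hd', mul_one, one_mul]
  · simp only [Sum.elim_inl, Sum.elim_inr, zero_mul, mul_zero]
  · simp only [Sum.elim_inl, Sum.elim_inr, zero_mul, mul_zero]
  · simp only [Sum.elim_inr]
    by_cases h : w.val = D.reflectRoot i v.val
    · rw [if_pos h]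
      have : w = ⟨D.reflectRoot i v.val, hlt v.val v.2⟩ := Fin.ext h
      rw [this, hdd v, mul_comm]
    · rw [if_neg h, zero_mul, mul_zero]

theorem h8K_refl (D : ChevalleyDatum) (i : ℕ) (hi : i < D.rank) (η : ℕ → ℤ) (hR : H8Refl D i η)
    (s w : ℕ) (hs : s < D.nroots) (hw : w < D.nroots) :
    h8K D (D.reflectRoot i s) w = h8K D s (D.reflectRoot i w) := by
  have h1 : ∀ k : Fin D.rank, D.cartan k.val (D.reflectRoot i w) =
      D.cartan k.val w - D.cartan k.val (D.simple i) * D.cartan i w := by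
    intro k
    have := hR.tc1 k.val k.2 _ (hR.lt w hw)
    rw [hR.invol w hw] at this
    exact this
  have h2 : ∀ k : Fin D.rank, (D.coroot.getD (D.reflectRoot i s) #[]).getD k.val 0 =
      (D.coroot.getD s #[]).getD k.val 0 - (if k.val = i then h8K D s (D.simple i) else 0) :=
    fun k => hR.tc2 k.val k.2 s hs
  have e1 : h8K D (D.reflectRoot i s) w = h8K D s w - h8K D s (D.simple i) * D.cartan i w := by
    conv_lhs => unfold h8K
    simp only [h2, sub_mul, Finset.sum_sub_distrib, ite_mul, zero_mul]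
    congr 1
    rw [Finset.sum_eq_single (⟨i, hi⟩ : Fin D.rank)]
    · simp
    · intro b _ hb
      rw [if_neg]
      intro hbi
      exact hb (Fin.ext hbi)
    · intro hh
      exact absurd (Finset.mem_univ _) hh
  have e2 : h8K D s (D.reflectRoot i w) = h8K D s w - h8K D s (D.simple i) * D.cartan i w := by
    unfold h8K
    simp only [h1, mul_sub, Finset.sum_sub_distrib]
    congr 1
    rw [Finset.sum_mul]
    apply Finset.sum_congr rfl
    intro k _
    ring
  rw [e1, e2]

theorem h8n_conj_h (D : ChevalleyDatum) (hB : H8Base.{u} D) (hA : H8ReflAll D) (i : ℕ)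
    (hi : i < D.rank) (s : ℕ) (hs : s < D.nroots) (t : F) (ht : t ≠ 0) :
    D.nMat F (D.simple i) 1 * D.hMat F s t =
      D.hMat F (D.reflectRoot i s) t * D.nMat F (D.simple i) 1 := by
  obtain ⟨eta, hN, hE, hRc⟩ := hA.refl i hi
  have hR := h8reflChk_spec D i hi eta hN hE hA.ce hA.ca hRc
  rw [h8nMat_eq_NM D i hi eta hN, hB.hdiag F s hs t ht, hB.hdiag F _ (hR.lt s hs) t ht]
  apply h8NM_mul_diag D i _ hR.lt
  · intro j; rfl
  · intro j; rfl
  · intro v
    show t ^ (h8K D (D.reflectRoot i s) (D.reflectRoot i v.val)) = t ^ (h8K D s v.val)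
    rw [h8K_refl D i hi _ hR s _ hs (hR.lt v.val v.2), hR.invol v.val v.2]

theorem h8nU_mem_normalizer_H (D : ChevalleyDatum) (hB : H8Base.{u} D) (hA : H8ReflAll D) (i : ℕ)
    (hi : i < D.rank) :
    h8nU D hB (D.simple i) (1 : F) ∈
      Subgroup.normalizer (D.diagonalSubgroup F : Set (GL D.Idx F)) := by
  obtain ⟨η, hR⟩ := h8reflAll_spec D hA i hi
  unfold ChevalleyDatum.diagonalSubgroup
  apply h8_mem_normalizer_closure
  · rintro x ⟨s, t, hs, ht, hx⟩
    apply Subgroup.subset_closure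
    refine ⟨D.reflectRoot i s, t, hR.lt s hs, ht, ?_⟩
    rw [Units.val_mul, Units.val_mul, h8nU_val, hx, h8n_conj_h D hB hA i hi s hs t ht, mul_assoc,
      ← h8nU_val D hB, ← Units.val_mul, mul_inv_cancel, Units.val_one, mul_one]
  · rintro x ⟨s, t, hs, ht, hx⟩
    apply Subgroup.subset_closure
    refine ⟨D.reflectRoot i s, t, hR.lt s hs, ht, ?_⟩
    have h1 := h8n_conj_h D hB hA i hi _ (hR.lt s hs) t ht
    rw [hR.invol s hs] at h1
    rw [Units.val_mul, Units.val_mul, hx, mul_assoc, h8nU_val, ← h1, ← mul_assoc,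
      ← h8nU_val D hB, ← Units.val_mul, inv_mul_cancel, Units.val_one, one_mul]

end Cfsg.Agent.Lib.helper8
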