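import Mathlib
import Cfsg.Prelude.Def_ChevStructure
import Cfsg.Agent.Lib.helper8.ChevNH2

set_option autoImplicit false

namespace Cfsg.Agent.Lib.helper8

open Cfsg.Lie Cfsg.Lie.ChevalleyDatum

universe u

variable {F : Type u} [Field F]

theorem h8nMat_eq_prod (D : ChevalleyDatum) (r : ℕ) (t : F) :
    D.nMat F r t = D.x F r t * (D.x F (D.negIdx.getD r 0) (-t⁻¹) * D.x F r t) := by
  unfold ChevalleyDatum.nMat ChevalleyDatum.nWord ChevalleyDatum.neg
  rw [h8wordMat_cons, h8wordMat_cons, h8wordMat_cons, h8wordMat_nil, mul_one]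

theorem h8nMat_mul_neg (D : ChevalleyDatum) (hB : H8Base.{u} D) (r : ℕ) (t : F) :
    D.nMat F r t * D.nMat F r (-t) = 1 := by
  rw [h8nMat_eq_prod, h8nMat_eq_prod]
  have e : -(-t)⁻¹ = -(-(t⁻¹)) := by rw [inv_neg]
  rw [e]
  calc D.x F r t * (D.x F (D.negIdx.getD r 0) (-t⁻¹) * D.x F r t) *
        (D.x F r (-t) * (D.x F (D.negIdx.getD r 0) (-(-t⁻¹)) * D.x F r (-t)))
      = D.x F r t * (D.x F (D.negIdx.getD r 0) (-t⁻¹) * ((D.x F r t * D.x F r (-t)) *
          D.x F (D.negIdx.getD r 0) (-(-t⁻¹))) * D.x F r (-t)) := by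
        simp only [mul_assoc]
    _ = 1 := by
        rw [h8x_mul_neg D hB r t, one_mul, h8x_mul_neg D hB _ (-t⁻¹), one_mul, h8x_mul_neg D hB r t]

theorem h8nU_neg (D : ChevalleyDatum) (hB : H8Base.{u} D) (r : ℕ) (t : F) :
    h8nU D hB r (-t) = (h8nU D hB r t)⁻¹ := by
  symm
  apply inv_eq_of_mul_eq_one_right
  apply Units.ext
  rw [Units.val_mul, h8nU_val, h8nU_val, Units.val_one]
  exact h8nMat_mul_neg D hB r t

theorem h8n_conj_n (D : ChevalleyDatum) (hA : H8ReflAll D) (i : ℕ) (hi : i < D.rank)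
    (s : ℕ) (hs : s < D.nroots) :
    ∃ η : ℤ, (η = 1 ∨ η = -1) ∧ D.nMat F (D.simple i) 1 * D.nMat F s 1 =
      D.nMat F (D.reflectRoot i s) ((η : ℤ) : F) * D.nMat F (D.simple i) 1 := by
  obtain ⟨eta, hN, hE, hRc⟩ := hA.refl i hi
  have hR := h8reflChk_spec D i hi eta hN hE hA.ce hA.ca hRc
  have hc := h8n_simple_conj (F := F) D i hi eta hN hE hA.ce hA.ca hRc
  have hns := hR.neglt s hs
  have heq : eta.getD (D.negIdx.getD s 0) 0 = eta.getD s 0 :=
    (h8eta_eq_of_mul _ _ (hR.eta1 s hs) (hR.eta1 _ hns) (hR.etaneg s hs)).symm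
  refine ⟨eta.getD s 0, hR.eta1 s hs, ?_⟩
  rw [h8nMat_eq_prod D s, h8nMat_eq_prod D (D.reflectRoot i s)]
  rw [← mul_assoc, hc s hs, mul_assoc, ← mul_assoc _ (D.x F (D.negIdx.getD s 0) _), hc _ hns,
    mul_assoc, hc s hs, heq, hR.negc s hs]
  have e1 : ((eta.getD s 0 : ℤ) : F) * (-(1 : F)⁻¹) = -(((eta.getD s 0 : ℤ) : F))⁻¹ := by
    rcases hR.eta1 s hs with h | h <;> rw [h] <;> simp
  rw [e1, mul_one]
  simp only [mul_assoc]

theorem h8n_step (D : ChevalleyDatum) (hB : H8Base.{u} D) (hA : H8ReflAll D)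
    (M : Subgroup (GL D.Idx F)) (hM : ∀ j < D.rank, h8nU D hB (D.simple j) (1 : F) ∈ M)
    (i : ℕ) (hi : i < D.rank) (s : ℕ) (hs : s < D.nroots) (h : h8nU D hB s (1 : F) ∈ M) :
    h8nU D hB (D.reflectRoot i s) (1 : F) ∈ M := by
  obtain ⟨η, hη, hc⟩ := h8n_conj_n (F := F) D hA i hi s hs
  have key : h8nU D hB (D.reflectRoot i s) ((η : ℤ) : F) =
      h8nU D hB (D.simple i) 1 * h8nU D hB s 1 * (h8nU D hB (D.simple i) 1)⁻¹ := by
    rw [eq_mul_inv_iff_mul_eq]
    apply Units.ext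
    simp only [Units.val_mul, h8nU_val]
    exact hc.symm
  have hmem : h8nU D hB (D.reflectRoot i s) ((η : ℤ) : F) ∈ M := by
    rw [key]
    exact Subgroup.mul_mem _ (Subgroup.mul_mem _ (hM i hi) h) (Subgroup.inv_mem _ (hM i hi))
  rcases hη with rfl | rfl
  · simpa using hmem
  · have h2 : h8nU D hB (D.reflectRoot i s) (((-1 : ℤ)) : F) =
        (h8nU D hB (D.reflectRoot i s) (1 : F))⁻¹ := by
      rw [← h8nU_neg]
      congr 1
      simp
    rw [h2] at hmem
    exact (Subgroup.inv_mem_iff _).mp hmem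

def h8orbChk (D : ChevalleyDatum) (dep par : List ℕ) : Bool :=
  decide (D.nroots ≤ 256) &&
  (List.range D.nroots).all fun r =>
    (decide (dep.getD r 0 = 0) && (List.range D.rank).any (fun j => decide (D.simple j = r))) ||
    ((List.range D.rank).any fun i => decide (par.getD r 0 = i) &&
      decide (dep.getD (h8sg D i r) 0 < dep.getD r 0))

theorem h8orb_all (D : ChevalleyDatum) (hB : H8Base.{u} D) (hA : H8ReflAll D) (dep par : List ℕ)
    (h : h8orbChk D dep par = true)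
    (M : Subgroup (GL D.Idx F)) (hM : ∀ j < D.rank, h8nU D hB (D.simple j) (1 : F) ∈ M) :
    ∀ r < D.nroots, h8nU D hB r (1 : F) ∈ M := by
  unfold h8orbChk at h
  simp only [Bool.and_eq_true, Bool.or_eq_true, decide_eq_true_eq, List.all_eq_true,
    List.any_eq_true, List.mem_range] at h
  obtain ⟨h256, h⟩ := h
  have key : ∀ n : ℕ, ∀ r < D.nroots, dep.getD r 0 = n → h8nU D hB r (1 : F) ∈ M := by
    intro n
    induction n using Nat.strong_induction_on with
    | _ n ih =>
      intro r hr hn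
      rcases h r hr with ⟨_, j, hj, hjr⟩ | ⟨i, hp, _, hd⟩
      · rw [← hjr]
        exact hM j hj
      · obtain ⟨η, hR⟩ := h8reflAll_spec D hA _ hp
        rw [h8sg_eq D _ hR.lt h256 r hr] at hd
        have h1 := ih _ (hn ▸ hd) _ (hR.lt r hr) rfl
        have h2 := h8n_step D hB hA M hM _ hp _ (hR.lt r hr) h1
        rwa [hR.invol r hr] at h2
  intro r hr
  exact key _ r hr rfl

theorem h8N_eq (D : ChevalleyDatum) (hB : H8Base.{u} D) (hA : H8ReflAll D) (dep par : List ℕ)
    (h : h8orbChk D dep par = true) :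
    D.monomialSubgroup F = D.diagonalSubgroup F ⊔ Subgroup.closure
      {g : GL D.Idx F | ∃ j < D.rank, g = h8nU D hB (D.simple j) (1 : F)} := by
  apply le_antisymm
  · unfold ChevalleyDatum.monomialSubgroup
    apply sup_le le_sup_left
    rw [Subgroup.closure_le]
    rintro g ⟨r, hr, hg⟩
    have : g = h8nU D hB r 1 := by
      apply Units.ext
      rw [hg, h8nU_val]
    rw [this]
    apply h8orb_all D hB hA dep par h _ _ r hr
    intro j hj
    apply Subgroup.mem_sup_right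
    apply Subgroup.subset_closure
    exact ⟨j, hj, rfl⟩
  · apply sup_le
    · unfold ChevalleyDatum.monomialSubgroup
      exact le_sup_left
    · rw [Subgroup.closure_le]
      rintro g ⟨j, hj, rfl⟩
      obtain ⟨eta, hN, hE, hRc⟩ := hA.refl j hj
      have hp : D.simple j < D.nroots := by
        unfold h8reflChk at hRc
        simp only [Bool.and_eq_true, decide_eq_true_eq] at hRc
        exact hRc.1.2
      exact h8nU_mem_N D hB _ hp

theorem h8H_normal_N (D : ChevalleyDatum) (hB : H8Base.{u} D) (hA : H8ReflAll D) (dep par : List ℕ)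
    (h : h8orbChk D dep par = true) :
    ((D.diagonalSubgroup F).subgroupOf (D.monomialSubgroup F)).Normal := by
  have hle : D.diagonalSubgroup F ≤ D.monomialSubgroup F := by
    unfold ChevalleyDatum.monomialSubgroup
    exact le_sup_left
  rw [Subgroup.normal_subgroupOf_iff_le_normalizer hle, h8N_eq D hB hA dep par h]
  apply sup_le Subgroup.le_normalizer
  rw [Subgroup.closure_le]
  rintro g ⟨j, hj, rfl⟩
  exact h8nU_mem_normalizer_H D hB hA j hj

end Cfsg.Agent.Lib.helper8
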