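import Mathlib
import Cfsg.Prelude.Def_ChevStructure
import Cfsg.Agent.Lib.helper8.ChevNgen

set_option autoImplicit false

namespace Cfsg.Agent.Lib.helper8

open Cfsg.Lie Cfsg.Lie.ChevalleyDatum

universe u

variable {F : Type u} [Field F]

def H8CommP.{v} (D : ChevalleyDatum) (r s : ℕ) : Prop :=
  ∀ (F : Type v) [Field F] (t u : F),
    D.x F s u * D.x F r t = D.x F r t * D.x F s u * D.wordMat F (D.commWord F r s t u)

theorem h8mapEnt_getElem? (σ : ℕ → ℕ) (η : ℕ → ℤ) (es c : ℤ) :
    ∀ (L : List (ℕ × ℤ)) (n m : ℕ), (h8mapEnt σ η es c n L)[m]? =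
      (L[m]?).map (fun q => (σ q.1, q.2 * es ^ (n + m + 1) * c * η q.1))
  | [], _, _ => by simp [h8mapEnt]
  | (u, M) :: L, n, 0 => by simp [h8mapEnt]
  | (u, M) :: L, n, m + 1 => by
    unfold h8mapEnt
    rw [List.getElem?_cons_succ, List.getElem?_cons_succ, h8mapEnt_getElem? σ η es c L (n + 1) m]
    have : n + 1 + m + 1 = n + (m + 1) + 1 := by omega
    rw [this]

theorem h8chainRoot_refl (D : ChevalleyDatum) (i : ℕ) (η : ℕ → ℤ) (hR : H8Refl D i η) (a b : ℕ)
    (ha : a < D.nroots) (hb : b < D.nroots) (m : ℕ) :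
    D.chainRoot (D.reflectRoot i a) (D.reflectRoot i b) m =
      (D.chainRoot a b m).map (D.reflectRoot i) := by
  unfold ChevalleyDatum.chainRoot
  rw [h8refl_chainEntry D i η hR a b ha hb, h8mapEnt_getElem?]
  cases (D.chainEntry a b)[m - 1]? <;> rfl

theorem h8chainM_refl (D : ChevalleyDatum) (i : ℕ) (η : ℕ → ℤ) (hR : H8Refl D i η) (a b : ℕ)
    (ha : a < D.nroots) (hb : b < D.nroots) (m : ℕ) (hm : 1 ≤ m) (k : ℕ)
    (hk : D.chainRoot a b m = some k) :
    D.chainM (D.reflectRoot i a) (D.reflectRoot i b) m =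
      D.chainM a b m * η a ^ m * η b * η k := by
  unfold ChevalleyDatum.chainRoot at hk
  unfold ChevalleyDatum.chainM
  rw [h8refl_chainEntry D i η hR a b ha hb, h8mapEnt_getElem?]
  cases h : (D.chainEntry a b)[m - 1]? with
  | none => rw [h] at hk; cases hk
  | some q =>
    rw [h] at hk
    have hq : q.1 = k := by
      have := Option.some.inj hk
      exact this
    simp only [Option.map_some, Option.getD_some]
    have : 0 + (m - 1) + 1 = m := by omega
    rw [this, hq]

theorem h8getD_mem {α : Type} (A : Array (Array α)) (a : ℕ) (e : α)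
    (he : e ∈ (A.getD a #[]).toList) : ∃ row ∈ A.toList, e ∈ row.toList := by
  by_cases ha : a < A.size
  · refine ⟨A[a], ?_, ?_⟩
    · exact Array.getElem_mem_toList ha
    · have : A.getD a #[] = A[a] := by
        simp [Array.getD, ha]
      rwa [this] at he
  · have : A.getD a #[] = #[] := by
      simp [Array.getD, ha]
    rw [this] at he
    simp at he

def h8len2Chk (D : ChevalleyDatum) : Bool :=
  D.chain.toList.all fun row => row.toList.all fun e => decide (e.2.toList.length ≤ 2)

theorem h8len2_spec (D : ChevalleyDatum) (h : h8len2Chk D = true) (a b : ℕ) :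
    (D.chainEntry a b).length ≤ 2 := by
  rcases h8chainEntry_cases D a b with h0 | ⟨e, he, _, hce⟩
  · rw [h0]; simp
  · rw [hce]
    unfold h8len2Chk at h
    simp only [List.all_eq_true, decide_eq_true_eq] at h
    obtain ⟨row, hrow, herow⟩ := h8getD_mem D.chain a e he
    exact h row hrow e herow

theorem h8chainRoot3_none (D : ChevalleyDatum) (h : h8len2Chk D = true) (a b : ℕ) :
    D.chainRoot a b 3 = none := by
  unfold ChevalleyDatum.chainRoot
  have := h8len2_spec D h a b
  rw [List.getElem?_eq_none (by omega)]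
  rfl

def h8commT (σ : ℕ → ℕ) (η : ℕ → ℤ) (er es : ℤ) (c : ℕ × ℤ × ℕ × ℕ) : ℕ × ℤ × ℕ × ℕ :=
  (σ c.1, c.2.1 * η c.1 * er ^ c.2.2.1 * es ^ c.2.2.2, c.2.2.1, c.2.2.2)

theorem h8commTerms_len2 (D : ChevalleyDatum) (h : h8len2Chk D = true) (r s : ℕ) :
    D.commTerms r s =
      ([(D.chainRoot r s 1, D.chainM r s 1, 1, 1), (D.chainRoot r s 2, D.chainM r s 2, 2, 1),
        (D.chainRoot s r 2, D.chainM s r 2, 1, 2)] : List (Option ℕ × ℤ × ℕ × ℕ)).filterMap
        fun c => c.1.map fun k => (k, c.2) := by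
  unfold ChevalleyDatum.commTerms
  simp only [h8chainRoot3_none D h, Option.bind_none]
  simp [List.filterMap_cons]

theorem h8sq_one (e : ℤ) (h : e = 1 ∨ e = -1) : e * e = 1 := by
  rcases h with rfl | rfl <;> norm_num

theorem h8commTerms_refl (D : ChevalleyDatum) (h : h8len2Chk D = true) (i : ℕ) (η : ℕ → ℤ)
    (hR : H8Refl D i η) (r s : ℕ) (hr : r < D.nroots) (hs : s < D.nroots) :
    D.commTerms (D.reflectRoot i r) (D.reflectRoot i s) =
      (D.commTerms r s).map (h8commT (D.reflectRoot i) η (η r) (η s)) := by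
  rw [h8commTerms_len2 D h, h8commTerms_len2 D h]
  rw [h8chainRoot_refl D i η hR r s hr hs 1, h8chainRoot_refl D i η hR r s hr hs 2,
    h8chainRoot_refl D i η hR s r hs hr 2]
  have hr2 := h8sq_one _ (hR.eta1 r hr)
  have hs2 := h8sq_one _ (hR.eta1 s hs)
  have e1 : ∀ k, D.chainRoot r s 1 = some k →
      D.chainM (D.reflectRoot i r) (D.reflectRoot i s) 1 = D.chainM r s 1 * η k * η r ^ 1 * η s ^ 1 := by
    intro k hk
    rw [h8chainM_refl D i η hR r s hr hs 1 le_rfl k hk]
    ring
  have e2 : ∀ k, D.chainRoot r s 2 = some k →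
      D.chainM (D.reflectRoot i r) (D.reflectRoot i s) 2 = D.chainM r s 2 * η k * η r ^ 2 * η s ^ 1 := by
    intro k hk
    rw [h8chainM_refl D i η hR r s hr hs 2 (by norm_num) k hk]
    ring
  have e3 : ∀ k, D.chainRoot s r 2 = some k →
      D.chainM (D.reflectRoot i s) (D.reflectRoot i r) 2 = D.chainM s r 2 * η k * η r ^ 1 * η s ^ 2 := by
    intro k hk
    rw [h8chainM_refl D i η hR s r hs hr 2 (by norm_num) k hk]
    ring
  cases h1 : D.chainRoot r s 1 with
  | none =>
    cases h2 : D.chainRoot r s 2 with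
    | none =>
      cases h3 : D.chainRoot s r 2 with
      | none => simp
      | some k3 => simp [h8commT, e3 k3 h3]
    | some k2 =>
      cases h3 : D.chainRoot s r 2 with
      | none => simp [h8commT, e2 k2 h2]
      | some k3 => simp [h8commT, e2 k2 h2, e3 k3 h3]
  | some k1 =>
    cases h2 : D.chainRoot r s 2 with
    | none =>
      cases h3 : D.chainRoot s r 2 with
      | none => simp [h8commT, e1 k1 h1]
      | some k3 => simp [h8commT, e1 k1 h1, e3 k3 h3]
    | some k2 =>
      cases h3 : D.chainRoot s r 2 with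
      | none => simp [h8commT, e1 k1 h1, e2 k2 h2]
      | some k3 => simp [h8commT, e1 k1 h1, e2 k2 h2, e3 k3 h3]

end Cfsg.Agent.Lib.helper8
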