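import Mathlib
import Cfsg.Prelude.Def_ChevStructure
import Cfsg.Agent.Lib.helper8.ChevComm

set_option autoImplicit false

namespace Cfsg.Agent.Lib.helper8

open Cfsg.Lie Cfsg.Lie.ChevalleyDatum

universe u

variable {F : Type u} [Field F]

theorem h8n_conj_word (D : ChevalleyDatum) (i : ℕ) (hi : i < D.rank) (eta : List ℤ)
    (hN : h8nChk D i eta = true) (hE : h8etaChk D i eta = true) (hce : h8ceChk D = true)
    (hCA : h8CAchk D = true) (hRc : h8reflChk D i eta = true) (w : List (ℕ × F))
    (hw : ∀ p ∈ w, p.1 < D.nroots) :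
    D.nMat F (D.simple i) 1 * D.wordMat F w =
      D.wordMat F (w.map fun p => (D.reflectRoot i p.1, ((eta.getD p.1 0 : ℤ) : F) * p.2)) *
        D.nMat F (D.simple i) 1 := by
  induction w with
  | nil =>
    rw [List.map_nil, h8wordMat_nil, mul_one, one_mul]
  | cons p w ih =>
    rw [List.map_cons, h8wordMat_cons, h8wordMat_cons, ← mul_assoc,
      h8n_simple_conj D i hi eta hN hE hce hCA hRc p.1 (hw p List.mem_cons_self) p.2, mul_assoc,
      ih (fun q hq => hw q (List.mem_cons_of_mem _ hq)), mul_assoc]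

theorem h8chainRoot_lt (D : ChevalleyDatum) (i : ℕ) (η : ℕ → ℤ) (hR : H8Refl D i η) (a b : ℕ)
    (ha : a < D.nroots) (m k : ℕ) (hk : D.chainRoot a b m = some k) : k < D.nroots := by
  unfold ChevalleyDatum.chainRoot at hk
  cases h : (D.chainEntry a b)[m - 1]? with
  | none => rw [h] at hk; cases hk
  | some q =>
    rw [h] at hk
    have hq : q.1 = k := Option.some.inj hk
    rw [← hq]
    exact h8chainEntry_lt D i η hR a b ha q (List.mem_of_getElem? h)

theorem h8commTerms_lt (D : ChevalleyDatum) (h : h8len2Chk D = true) (i : ℕ) (η : ℕ → ℤ)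
    (hR : H8Refl D i η) (r s : ℕ) (hr : r < D.nroots) (hs : s < D.nroots) :
    ∀ c ∈ D.commTerms r s, c.1 < D.nroots := by
  intro c hc
  rw [h8commTerms_len2 D h, List.mem_filterMap] at hc
  obtain ⟨cand, hcand, hmap⟩ := hc
  simp only [List.mem_cons, List.mem_nil_iff, or_false] at hcand
  rcases hcand with rfl | rfl | rfl
  · cases hk : D.chainRoot r s 1 with
    | none => simp [hk] at hmap
    | some k =>
      simp [hk] at hmap
      rw [← hmap]
      exact h8chainRoot_lt D i η hR r s hr 1 k hk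
  · cases hk : D.chainRoot r s 2 with
    | none => simp [hk] at hmap
    | some k =>
      simp [hk] at hmap
      rw [← hmap]
      exact h8chainRoot_lt D i η hR r s hr 2 k hk
  · cases hk : D.chainRoot s r 2 with
    | none => simp [hk] at hmap
    | some k =>
      simp [hk] at hmap
      rw [← hmap]
      exact h8chainRoot_lt D i η hR s r hs 2 k hk

theorem h8comm_transport (D : ChevalleyDatum) (hB : H8Base.{u} D) (hA : H8ReflAll D)
    (hlen : h8len2Chk D = true) (i : ℕ) (hi : i < D.rank) (r s : ℕ) (hr : r < D.nroots)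
    (hs : s < D.nroots) (hP : H8CommP.{u} D r s) :
    H8CommP.{u} D (D.reflectRoot i r) (D.reflectRoot i s) := by
  intro F _ t u
  obtain ⟨eta, hN, hE, hRc⟩ := hA.refl i hi
  have hR := h8reflChk_spec D i hi eta hN hE hA.ce hA.ca hRc
  have hc := h8n_simple_conj (F := F) D i hi eta hN hE hA.ce hA.ca hRc
  have her := h8eta_sq (F := F) _ (hR.eta1 r hr)
  have hes := h8eta_sq (F := F) _ (hR.eta1 s hs)
  have h := hP F (((eta.getD r 0 : ℤ) : F) * t) (((eta.getD s 0 : ℤ) : F) * u)
  have hlt := h8commTerms_lt D hlen i _ hR r s hr hs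
  have hw := h8n_conj_word (F := F) D i hi eta hN hE hA.ce hA.ca hRc
    (D.commWord F r s (((eta.getD r 0 : ℤ) : F) * t) (((eta.getD s 0 : ℤ) : F) * u)) (by
      intro p hp
      unfold ChevalleyDatum.commWord at hp
      rw [List.mem_map] at hp
      obtain ⟨c, hc', rfl⟩ := hp
      exact hlt c hc')
  have hword : (D.commWord F r s (((eta.getD r 0 : ℤ) : F) * t) (((eta.getD s 0 : ℤ) : F) * u)).map
      (fun p => (D.reflectRoot i p.1, ((eta.getD p.1 0 : ℤ) : F) * p.2)) =
      D.commWord F (D.reflectRoot i r) (D.reflectRoot i s) t u := by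
    unfold ChevalleyDatum.commWord
    rw [h8commTerms_refl D hlen i _ hR r s hr hs, List.map_map, List.map_map]
    apply List.map_congr_left
    intro c _
    simp only [Function.comp, h8commT]
    congr 1
    push_cast
    ring
  rw [hword] at hw
  have e_s : ((eta.getD s 0 : ℤ) : F) * (((eta.getD s 0 : ℤ) : F) * u) = u := by
    rw [← mul_assoc, hes, one_mul]
  have e_r : ((eta.getD r 0 : ℤ) : F) * (((eta.getD r 0 : ℤ) : F) * t) = t := by
    rw [← mul_assoc, her, one_mul]
  have hL : D.nMat F (D.simple i) 1 * (D.x F s (((eta.getD s 0 : ℤ) : F) * u) *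
      D.x F r (((eta.getD r 0 : ℤ) : F) * t)) =
      (D.x F (D.reflectRoot i s) u * D.x F (D.reflectRoot i r) t) * D.nMat F (D.simple i) 1 := by
    rw [← mul_assoc, hc s hs, mul_assoc, hc r hr, e_s, e_r, mul_assoc]
  have hRt : D.nMat F (D.simple i) 1 * (D.x F r (((eta.getD r 0 : ℤ) : F) * t) *
      D.x F s (((eta.getD s 0 : ℤ) : F) * u) *
      D.wordMat F (D.commWord F r s (((eta.getD r 0 : ℤ) : F) * t) (((eta.getD s 0 : ℤ) : F) * u))) =
      (D.x F (D.reflectRoot i r) t * D.x F (D.reflectRoot i s) u *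
        D.wordMat F (D.commWord F (D.reflectRoot i r) (D.reflectRoot i s) t u)) *
        D.nMat F (D.simple i) 1 := by
    rw [mul_assoc (D.x F r _), ← mul_assoc (D.nMat F (D.simple i) 1), hc r hr, e_r,
      mul_assoc (D.x F (D.reflectRoot i r) t), ← mul_assoc (D.nMat F (D.simple i) 1), hc s hs, e_s,
      mul_assoc (D.x F (D.reflectRoot i s) u), hw]
    simp only [mul_assoc]
  have key : (D.x F (D.reflectRoot i s) u * D.x F (D.reflectRoot i r) t) * D.nMat F (D.simple i) 1 =
      (D.x F (D.reflectRoot i r) t * D.x F (D.reflectRoot i s) u *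
        D.wordMat F (D.commWord F (D.reflectRoot i r) (D.reflectRoot i s) t u)) *
        D.nMat F (D.simple i) 1 := by
    rw [← hL, ← hRt, h]
  have hinv := h8nMat_mul_neg (F := F) D hB (D.simple i) 1
  have := congrArg (fun M => M * D.nMat F (D.simple i) (-1)) key
  beta_reduce at this
  rwa [mul_assoc, hinv, mul_one, mul_assoc, hinv, mul_one] at this

end Cfsg.Agent.Lib.helper8
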