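import Mathlib
import Cfsg.Prelude.Def_ChevStructure
import Cfsg.Agent.Lib.helper8.ChevComm2
import Cfsg.Agent.Lib.helper8.ChevRefl

set_option autoImplicit false

namespace Cfsg.Agent.Lib.helper8

open Cfsg.Lie Cfsg.Lie.ChevalleyDatum

universe u

variable {F : Type u} [Field F]

def h8commPolyW (D : ChevalleyDatum) (r s : ℕ) : List (ℕ × H8Poly) :=
  (D.commTerms r s).map fun c =>
    (c.1, H8Poly.mul (H8Poly.mul (H8Poly.const c.2.1) (H8Poly.pow (H8Poly.neg H8Poly.va) c.2.2.1))
      (H8Poly.pow H8Poly.vb c.2.2.2))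

def h8commChk (D : ChevalleyDatum) (r s : ℕ) : Bool :=
  h8wordEq D [(s, H8Poly.vb), (r, H8Poly.va)]
    ([(r, H8Poly.va), (s, H8Poly.vb)] ++ h8commPolyW D r s)

theorem h8evWord_commPolyW (D : ChevalleyDatum) (r s : ℕ) (a b : F) (ha : a ≠ 0) (hb : b ≠ 0) :
    h8evWord a b (h8commPolyW D r s) = D.commWord F r s a b := by
  unfold h8evWord h8commPolyW ChevalleyDatum.commWord
  rw [List.map_map]
  apply List.map_congr_left
  intro c _
  simp only [Function.comp]
  rw [H8Poly.ev_mul a b ha hb, H8Poly.ev_mul a b ha hb, H8Poly.ev_pow a b ha hb,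
    H8Poly.ev_pow a b ha hb, H8Poly.ev_neg, H8Poly.ev_va, H8Poly.ev_vb, H8Poly.ev_const]

theorem h8commTerms_pos (D : ChevalleyDatum) (r s : ℕ) :
    ∀ c ∈ D.commTerms r s, 1 ≤ c.2.2.1 ∧ 1 ≤ c.2.2.2 := by
  intro c hc
  unfold ChevalleyDatum.commTerms at hc
  rw [List.mem_filterMap] at hc
  obtain ⟨cand, hcand, hmap⟩ := hc
  cases hk : cand.1 with
  | none => rw [hk] at hmap; cases hmap
  | some k =>
    rw [hk] at hmap
    have hc2 : c.2 = cand.2 := by
      have := Option.some.inj hmap
      rw [← this]
    rw [hc2]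
    simp only [List.mem_cons, List.mem_nil_iff, or_false] at hcand
    rcases hcand with rfl | rfl | rfl | rfl | rfl | rfl | rfl <;> exact ⟨by norm_num, by norm_num⟩

theorem h8wordMat_zero (D : ChevalleyDatum) (hB : H8Base.{u} D) (w : List (ℕ × F))
    (hw : ∀ p ∈ w, p.2 = 0) : D.wordMat F w = 1 := by
  induction w with
  | nil => exact h8wordMat_nil D
  | cons p w ih =>
    rw [h8wordMat_cons, hw p List.mem_cons_self, hB.zero, one_mul,
      ih (fun q hq => hw q (List.mem_cons_of_mem _ hq))]

theorem h8comm_of_chk (D : ChevalleyDatum) (hB : H8Base.{u} D) (r s : ℕ)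
    (h : h8commChk D r s = true) : H8CommP.{u} D r s := by
  intro F _ t u
  by_cases ht : t = 0
  · have hw : D.wordMat F (D.commWord F r s t u) = 1 := by
      apply h8wordMat_zero D hB
      intro p hp
      unfold ChevalleyDatum.commWord at hp
      rw [List.mem_map] at hp
      obtain ⟨c, hc, rfl⟩ := hp
      have := (h8commTerms_pos D r s c hc).1
      simp only
      rw [ht, neg_zero, zero_pow (by omega), mul_zero, zero_mul]
    rw [hw, ht, hB.zero, mul_one, one_mul, mul_one]
  · by_cases hu : u = 0
    · have hw : D.wordMat F (D.commWord F r s t u) = 1 := by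
        apply h8wordMat_zero D hB
        intro p hp
        unfold ChevalleyDatum.commWord at hp
        rw [List.mem_map] at hp
        obtain ⟨c, hc, rfl⟩ := hp
        have := (h8commTerms_pos D r s c hc).2
        simp only
        rw [hu, zero_pow (by omega), mul_zero]
      rw [hw, hu, hB.zero, mul_one, one_mul, mul_one]
    · unfold h8commChk at h
      have := h8wordEq_sound D t u ht hu _ _ h
      unfold h8evWord at this
      rw [List.map_cons, List.map_cons, List.map_nil, List.map_append, List.map_cons, List.map_cons,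
        List.map_nil] at this
      have e := h8evWord_commPolyW (F := F) D r s t u ht hu
      unfold h8evWord at e
      rw [e] at this
      simp only [H8Poly.ev_va, H8Poly.ev_vb] at this
      rw [h8wordMat_cons, h8wordMat_cons, h8wordMat_nil, mul_one, h8wordMat_append, h8wordMat_cons,
        h8wordMat_cons, h8wordMat_nil, mul_one] at this
      exact this

end Cfsg.Agent.Lib.helper8
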