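import Mathlib
import Cfsg.Prelude.Def_ChevStructure
import Cfsg.Agent.Lib.helper8.ChevCommBase

set_option autoImplicit false

namespace Cfsg.Agent.Lib.helper8

open Cfsg.Lie Cfsg.Lie.ChevalleyDatum

universe u

def h8unpS (b P j : ℕ) : ℕ := (P >>> (b * j)) % 2 ^ b

def h8sgS (sgs n i s : ℕ) : ℕ := h8unpS 8 (h8unpS (8 * n) sgs i) s

def h8sgsChk (D : ChevalleyDatum) (sgs : ℕ) : Bool :=
  (List.range D.rank).all fun i => decide (h8unpS (8 * D.nroots) sgs i = h8sgP D i)

theorem h8unpS_eq (b P j : ℕ) : h8unpS b P j = h8unpack (2 ^ b) P j := by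
  unfold h8unpS h8unpack
  rw [Nat.shiftRight_eq_div_pow, pow_mul]

theorem h8sgS_eq (D : ChevalleyDatum) (sgs : ℕ) (h : h8sgsChk D sgs = true) (i : ℕ)
    (hi : i < D.rank) (s : ℕ) : h8sgS sgs D.nroots i s = h8sg D i s := by
  unfold h8sgsChk at h
  simp only [List.all_eq_true, decide_eq_true_eq, List.mem_range] at h
  unfold h8sgS h8sg
  rw [h i hi, h8unpS_eq]
  norm_num

def h8pairRow (D : ChevalleyDatum) (sgs : ℕ) (base : List (ℕ × ℕ)) (depP parP : ℕ) (r : ℕ) : Bool :=
  (List.range D.nroots).all fun s =>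
    decide (s = r) || decide (s = D.negIdx.getD r 0) ||
    (base.any fun p => decide (p.1 = r) && decide (p.2 = s)) ||
    ((List.range D.rank).any fun i => decide (h8unpS 4 (h8unpS (4 * D.nroots) parP r) s = i) &&
      decide (h8unpS 8 (h8unpS (8 * D.nroots) depP (h8sgS sgs D.nroots i r))
          (h8sgS sgs D.nroots i s) <
        h8unpS 8 (h8unpS (8 * D.nroots) depP r) s))

theorem h8pair_all (D : ChevalleyDatum) (hB : H8Base.{u} D) (hA : H8ReflAll D)
    (hlen : h8len2Chk D = true) (h256 : D.nroots ≤ 256) (sgs : ℕ) (hsgs : h8sgsChk D sgs = true)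
    (base : List (ℕ × ℕ)) (depP parP : ℕ)
    (hbase : ∀ p ∈ base, H8CommP.{u} D p.1 p.2)
    (hrow : ∀ r < D.nroots, h8pairRow D sgs base depP parP r = true) :
    ∀ r < D.nroots, ∀ s < D.nroots, s ≠ r → s ≠ D.negIdx.getD r 0 → H8CommP.{u} D r s := by
  have key : ∀ n : ℕ, ∀ r < D.nroots, ∀ s < D.nroots, s ≠ r → s ≠ D.negIdx.getD r 0 →
      h8unpS 8 (h8unpS (8 * D.nroots) depP r) s = n → H8CommP.{u} D r s := by
    intro n
    induction n using Nat.strong_induction_on with
    | _ n ih =>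
      intro r hr s hs hsr hsn hn
      have h := hrow r hr
      unfold h8pairRow at h
      simp only [Bool.or_eq_true, Bool.and_eq_true, decide_eq_true_eq, List.all_eq_true,
        List.any_eq_true, List.mem_range] at h
      rcases h s hs with ((h1 | h1) | ⟨p, hp, hp1, hp2⟩) | ⟨i, hi, _, hd⟩
      · exact absurd h1 hsr
      · exact absurd h1 hsn
      · have := hbase p hp
        rwa [hp1, hp2] at this
      · obtain ⟨η, hR⟩ := h8reflAll_spec D hA i hi
        rw [h8sgS_eq D sgs hsgs i hi, h8sgS_eq D sgs hsgs i hi,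
          h8sg_eq D i hR.lt h256 r hr, h8sg_eq D i hR.lt h256 s hs] at hd
        have h1 : D.reflectRoot i s ≠ D.reflectRoot i r := fun hh =>
          hsr (h8refl_inj D i η hR s r hs hr hh)
        have h2 : D.reflectRoot i s ≠ D.negIdx.getD (D.reflectRoot i r) 0 := by
          rw [← hR.negc r hr]
          intro hh
          exact hsn (h8refl_inj D i η hR s _ hs (hR.neglt r hr) hh)
        have h3 := ih _ (hn ▸ hd) _ (hR.lt r hr) _ (hR.lt s hs) h1 h2 rfl
        have h4 := h8comm_transport D hB hA hlen i hi _ _ (hR.lt r hr) (hR.lt s hs) h3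
        rwa [hR.invol r hr, hR.invol s hs] at h4
  intro r hr s hs hsr hsn
  exact key _ r hr s hs hsr hsn rfl

def h8commAllRow (D : ChevalleyDatum) (r : ℕ) : Bool :=
  (List.range D.nroots).all fun s =>
    decide (s = r) || decide (s = D.negIdx.getD r 0) || h8commChk D r s

theorem h8commAll_spec (D : ChevalleyDatum) (hB : H8Base.{u} D)
    (hrow : ∀ r < D.nroots, h8commAllRow D r = true) :
    ∀ r < D.nroots, ∀ s < D.nroots, s ≠ r → s ≠ D.negIdx.getD r 0 → H8CommP.{u} D r s := by
  intro r hr s hs hsr hsn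
  have h := hrow r hr
  unfold h8commAllRow at h
  simp only [Bool.or_eq_true, decide_eq_true_eq, List.all_eq_true, List.mem_range] at h
  rcases h s hs with (h1 | h1) | h1
  · exact absurd h1 hsr
  · exact absurd h1 hsn
  · exact h8comm_of_chk D hB r s h1

structure H8CommAll.{v} (D : ChevalleyDatum) : Prop where
  all : ∀ r < D.nroots, ∀ s < D.nroots, s ≠ r → s ≠ D.negIdx.getD r 0 → H8CommP.{v} D r s

end Cfsg.Agent.Lib.helper8
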