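import Mathlib
import Cfsg.Prelude.Def_ChevStructure
import Cfsg.Agent.Lib.helper8.ChevCommOrb
import Cfsg.Agent.Lib.helper8.ChevGroup
import Cfsg.Agent.Lib.helper8.ChevUnits

set_option autoImplicit false

namespace Cfsg.Agent.Lib.helper8

open Cfsg.Lie Cfsg.Lie.ChevalleyDatum

universe u

variable {F : Type u} [Field F]

def h8upTermsOK (D : ChevalleyDatum) (p : ℕ) (L : List (ℕ × ℤ × ℕ × ℕ)) : Bool :=
  L.all fun c => decide (D.IsPosRoot c.1) && decide (c.1 ≠ p)

def h8upRow (D : ChevalleyDatum) (i s : ℕ) : Bool :=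
  !(decide (D.IsPosRoot s)) || decide (s = D.simple i) ||
    (decide (s ≠ D.neg (D.simple i)) &&
      h8upTermsOK D (D.simple i) (D.commTerms (D.simple i) s) &&
      h8upTermsOK D (D.simple i) (D.commTerms (D.neg (D.simple i)) s))

def h8upGlob (D : ChevalleyDatum) (i : ℕ) : Bool :=
  decide (D.IsPosRoot (D.simple i)) && decide (D.neg (D.simple i) < D.nroots) &&
    decide (D.neg (D.neg (D.simple i)) = D.simple i)

def h8UpSet (D : ChevalleyDatum) (F : Type u) [Field F] (p : ℕ) : Set (GL D.Idx F) :=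
  {g : GL D.Idx F | ∃ (s : ℕ) (t : F), D.IsPosRoot s ∧ s ≠ p ∧
    (g : Matrix D.Idx D.Idx F) = D.x F s t}

theorem h8xU_inv (D : ChevalleyDatum) (hB : H8Base.{u} D) (r : ℕ) (t : F) :
    (h8xU D hB r t)⁻¹ = h8xU D hB r (-t) := by
  apply Units.ext
  rfl

theorem h8wordU_mem_up (D : ChevalleyDatum) (hB : H8Base.{u} D) (p : ℕ) (w : List (ℕ × F))
    (hw : ∀ q ∈ w, D.IsPosRoot q.1 ∧ q.1 ≠ p) :
    h8wordU D hB w ∈ Subgroup.closure (h8UpSet D F p) := by
  unfold h8wordU
  apply Subgroup.list_prod_mem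
  intro g hg
  rw [List.mem_map] at hg
  obtain ⟨q, hq, rfl⟩ := hg
  apply Subgroup.subset_closure
  exact ⟨q.1, q.2, (hw q hq).1, (hw q hq).2, h8xU_val D hB q.1 q.2⟩

theorem h8up_conj (D : ChevalleyDatum) (hB : H8Base.{u} D) (hC : H8CommAll.{u} D) (p r : ℕ)
    (hr : r < D.nroots)
    (hrs : ∀ s, D.IsPosRoot s → s ≠ p → s ≠ r ∧ s ≠ D.negIdx.getD r 0 ∧
      h8upTermsOK D p (D.commTerms r s) = true) (t : F) (g : GL D.Idx F)
    (hg : g ∈ h8UpSet D F p) :
    (h8xU D hB r t)⁻¹ * g * h8xU D hB r t ∈ Subgroup.closure (h8UpSet D F p) := by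
  obtain ⟨s, u, hs, hsp, hgv⟩ := hg
  obtain ⟨h1, h2, h3⟩ := hrs s hs hsp
  have hg' : g = h8xU D hB s u := Units.ext hgv
  have key : (h8xU D hB r t)⁻¹ * g * h8xU D hB r t =
      h8xU D hB s u * h8wordU D hB (D.commWord F r s t u) := by
    rw [hg', h8xU_inv]
    apply Units.ext
    rw [Units.val_mul, Units.val_mul, Units.val_mul, h8wordU_val, h8xU_val, h8xU_val, h8xU_val,
      mul_assoc, hC.all r hr s hs.1 h1 h2 F t u, ← mul_assoc, ← mul_assoc, h8x_neg_mul D hB, one_mul]
  rw [key]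
  apply Subgroup.mul_mem
  · apply Subgroup.subset_closure
    exact ⟨s, u, hs, hsp, h8xU_val D hB s u⟩
  · apply h8wordU_mem_up
    intro q hq
    unfold ChevalleyDatum.commWord at hq
    rw [List.mem_map] at hq
    obtain ⟨c, hc, rfl⟩ := hq
    unfold h8upTermsOK at h3
    simp only [List.all_eq_true, Bool.and_eq_true, decide_eq_true_eq] at h3
    exact h3 c hc

theorem h8xU_mem_normalizer_up (D : ChevalleyDatum) (hB : H8Base.{u} D) (hC : H8CommAll.{u} D)
    (p r : ℕ) (hr : r < D.nroots)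
    (hrs : ∀ s, D.IsPosRoot s → s ≠ p → s ≠ r ∧ s ≠ D.negIdx.getD r 0 ∧
      h8upTermsOK D p (D.commTerms r s) = true) (t : F) :
    h8xU D hB r t ∈ Subgroup.normalizer (Subgroup.closure (h8UpSet D F p) : Set (GL D.Idx F)) := by
  apply h8_mem_normalizer_closure
  · intro g hg
    have := h8up_conj D hB hC p r hr hrs (-t) g hg
    rwa [← h8xU_inv, inv_inv] at this
  · intro g hg
    exact h8up_conj D hB hC p r hr hrs t g hg

theorem h8rootSubgroup_le_normalizer_up (D : ChevalleyDatum) (hB : H8Base.{u} D)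
    (hC : H8CommAll.{u} D) (p r : ℕ) (hr : r < D.nroots)
    (hrs : ∀ s, D.IsPosRoot s → s ≠ p → s ≠ r ∧ s ≠ D.negIdx.getD r 0 ∧
      h8upTermsOK D p (D.commTerms r s) = true) :
    D.rootSubgroup F r ≤
      Subgroup.normalizer (Subgroup.closure (h8UpSet D F p) : Set (GL D.Idx F)) := by
  unfold ChevalleyDatum.rootSubgroup
  rw [Subgroup.closure_le]
  rintro g ⟨t, hg⟩
  have : g = h8xU D hB r t := Units.ext hg
  rw [this]
  exact h8xU_mem_normalizer_up D hB hC p r hr hrs t

theorem h8up_main (D : ChevalleyDatum) (hB : H8Base.{u} D) (hC : H8CommAll.{u} D) (i : ℕ)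
    (hg : h8upGlob D i = true) (hrow : ∀ s < D.nroots, h8upRow D i s = true) :
    D.rootSubgroup F (D.simple i) ⊔ D.rootSubgroup F (D.neg (D.simple i)) ≤
        Subgroup.normalizer (Subgroup.closure (h8UpSet D F (D.simple i)) : Set (GL D.Idx F)) ∧
      Subgroup.closure (h8UpSet D F (D.simple i)) ⊔ D.rootSubgroup F (D.simple i) =
        D.posUnipotent F := by
  unfold h8upGlob at hg
  simp only [Bool.and_eq_true, decide_eq_true_eq] at hg
  obtain ⟨⟨hp, hnlt⟩, hnn⟩ := hg
  have hrow' : ∀ s, D.IsPosRoot s → s ≠ D.simple i → s ≠ D.neg (D.simple i) ∧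
      h8upTermsOK D (D.simple i) (D.commTerms (D.simple i) s) = true ∧
      h8upTermsOK D (D.simple i) (D.commTerms (D.neg (D.simple i)) s) = true := by
    intro s hs hsp
    have h := hrow s hs.1
    unfold h8upRow at h
    simp only [Bool.or_eq_true, Bool.and_eq_true, Bool.not_eq_true', decide_eq_false_iff_not,
      decide_eq_true_eq] at h
    rcases h with (h | h) | ⟨⟨h1, h2⟩, h3⟩
    · exact absurd hs h
    · exact absurd h hsp
    · exact ⟨h1, h2, h3⟩
  constructor
  · apply sup_le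
    · apply h8rootSubgroup_le_normalizer_up D hB hC _ _ hp.1
      intro s hs hsp
      obtain ⟨h1, h2, _⟩ := hrow' s hs hsp
      exact ⟨hsp, h1, h2⟩
    · apply h8rootSubgroup_le_normalizer_up D hB hC _ _ hnlt
      intro s hs hsp
      obtain ⟨h1, _, h3⟩ := hrow' s hs hsp
      refine ⟨h1, ?_, h3⟩
      have : D.negIdx.getD (D.neg (D.simple i)) 0 = D.simple i := hnn
      rw [this]
      exact hsp
  · apply le_antisymm
    · apply sup_le
      · rw [Subgroup.closure_le]
        rintro g ⟨s, t, hs, _, hgv⟩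
        unfold ChevalleyDatum.posUnipotent
        apply Subgroup.subset_closure
        exact ⟨s, t, hs, hgv⟩
      · unfold ChevalleyDatum.rootSubgroup
        rw [Subgroup.closure_le]
        rintro g ⟨t, hgv⟩
        unfold ChevalleyDatum.posUnipotent
        apply Subgroup.subset_closure
        exact ⟨D.simple i, t, hp, hgv⟩
    · unfold ChevalleyDatum.posUnipotent
      rw [Subgroup.closure_le]
      rintro g ⟨s, t, hs, hgv⟩
      by_cases hsp : s = D.simple i
      · apply Subgroup.mem_sup_right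
        unfold ChevalleyDatum.rootSubgroup
        apply Subgroup.subset_closure
        exact ⟨t, hsp ▸ hgv⟩
      · apply Subgroup.mem_sup_left
        apply Subgroup.subset_closure
        exact ⟨s, t, hs, hsp, hgv⟩

end Cfsg.Agent.Lib.helper8
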