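import Mathlib
import Cfsg.Prelude.Def_ChevStructure
import Cfsg.Agent.Lib.helper8.ChevNgen
import Cfsg.Agent.Lib.helper8.ChevUp

set_option autoImplicit false

namespace Cfsg.Agent.Lib.helper8

open Cfsg.Lie Cfsg.Lie.ChevalleyDatum

universe u

variable {F : Type u} [Field F]

def H8Act (D : ChevalleyDatum) (hB : H8Base.{u} D) (g : GL D.Idx F) (r r' : ℕ) : Prop :=
  ∃ c : F, c ≠ 0 ∧ ∀ t : F, g * h8xU D hB r t * g⁻¹ = h8xU D hB r' (c * t)

def H8Perm (D : ChevalleyDatum) (hB : H8Base.{u} D) (g : GL D.Idx F) : Prop :=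
  ∃ σ τ : ℕ → ℕ, (∀ r < D.nroots, σ r < D.nroots) ∧ (∀ r < D.nroots, τ r < D.nroots) ∧
    (∀ r < D.nroots, τ (σ r) = r) ∧ (∀ r < D.nroots, σ (τ r) = r) ∧
    (∀ r < D.nroots, σ (D.negIdx.getD r 0) = D.negIdx.getD (σ r) 0) ∧
    (∀ r < D.nroots, τ (D.negIdx.getD r 0) = D.negIdx.getD (τ r) 0) ∧
    ∀ r < D.nroots, H8Act D hB g r (σ r)

theorem h8act_mul (D : ChevalleyDatum) (hB : H8Base.{u} D) (g g' : GL D.Idx F) (r r' r'' : ℕ)
    (h' : H8Act D hB g' r r') (h : H8Act D hB g r' r'') : H8Act D hB (g * g') r r'' := by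
  obtain ⟨c', hc', h1⟩ := h'
  obtain ⟨c, hc, h2⟩ := h
  refine ⟨c * c', mul_ne_zero hc hc', fun t => ?_⟩
  have : g * g' * h8xU D hB r t * (g * g')⁻¹ = g * (g' * h8xU D hB r t * g'⁻¹) * g⁻¹ := by group
  rw [this, h1, h2, mul_assoc]

theorem h8act_inv (D : ChevalleyDatum) (hB : H8Base.{u} D) (g : GL D.Idx F) (r r' : ℕ)
    (h : H8Act D hB g r r') : H8Act D hB g⁻¹ r' r := by
  obtain ⟨c, hc, h1⟩ := h
  refine ⟨c⁻¹, inv_ne_zero hc, fun t => ?_⟩
  have h2 := h1 (c⁻¹ * t)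
  rw [← mul_assoc, mul_inv_cancel₀ hc, one_mul] at h2
  rw [← h2]
  group

theorem h8perm_mul (D : ChevalleyDatum) (hB : H8Base.{u} D) (g g' : GL D.Idx F)
    (h : H8Perm D hB g) (h' : H8Perm D hB g') : H8Perm D hB (g * g') := by
  obtain ⟨σ, τ, a1, a2, a3, a4, a5, a6, a7⟩ := h
  obtain ⟨σ', τ', b1, b2, b3, b4, b5, b6, b7⟩ := h'
  refine ⟨σ ∘ σ', τ' ∘ τ, ?_, ?_, ?_, ?_, ?_, ?_, ?_⟩
  · intro r hr; exact a1 _ (b1 r hr)
  · intro r hr; exact b2 _ (a2 r hr)
  · intro r hr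
    simp only [Function.comp]
    rw [a3 _ (b1 r hr), b3 r hr]
  · intro r hr
    simp only [Function.comp]
    rw [b4 _ (a2 r hr), a4 r hr]
  · intro r hr
    simp only [Function.comp]
    rw [b5 r hr, a5 _ (b1 r hr)]
  · intro r hr
    simp only [Function.comp]
    rw [a6 r hr, b6 _ (a2 r hr)]
  · intro r hr
    exact h8act_mul D hB g g' r (σ' r) _ (b7 r hr) (a7 _ (b1 r hr))

theorem h8perm_inv (D : ChevalleyDatum) (hB : H8Base.{u} D) (g : GL D.Idx F)
    (h : H8Perm D hB g) : H8Perm D hB g⁻¹ := by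
  obtain ⟨σ, τ, a1, a2, a3, a4, a5, a6, a7⟩ := h
  refine ⟨τ, σ, a2, a1, a4, a3, a6, a5, ?_⟩
  intro r hr
  have := h8act_inv D hB g (τ r) (σ (τ r)) (a7 _ (a2 r hr))
  rwa [a4 r hr] at this

theorem h8perm_one (D : ChevalleyDatum) (hB : H8Base.{u} D) : H8Perm D hB (1 : GL D.Idx F) := by
  refine ⟨id, id, fun r hr => hr, fun r hr => hr, fun r _ => rfl, fun r _ => rfl,
    fun r _ => rfl, fun r _ => rfl, ?_⟩
  intro r _
  refine ⟨1, one_ne_zero, fun t => ?_⟩
  rw [one_mul, inv_one, mul_one, one_mul]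
  rfl

theorem h8perm_hU (D : ChevalleyDatum) (hB : H8Base.{u} D) (r : ℕ) (hr : r < D.nroots) (c : F)
    (hc : c ≠ 0) : H8Perm D hB (h8hU D hB r c) := by
  refine ⟨id, id, fun r hr => hr, fun r hr => hr, fun r _ => rfl, fun r _ => rfl,
    fun r _ => rfl, fun r _ => rfl, ?_⟩
  intro s hs
  refine ⟨c ^ (h8K D r s), zpow_ne_zero _ hc, fun t => ?_⟩
  rw [mul_inv_eq_iff_eq_mul]
  apply Units.ext
  rw [Units.val_mul, Units.val_mul, h8hU_val, h8xU_val]
  exact h8hMat_conj_x D hB.ca r s hs c hc t (hB.hdiag F r hr c hc)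

theorem h8perm_H (D : ChevalleyDatum) (hB : H8Base.{u} D) (g : GL D.Idx F)
    (hg : g ∈ D.diagonalSubgroup F) : H8Perm D hB g := by
  unfold ChevalleyDatum.diagonalSubgroup at hg
  induction hg using Subgroup.closure_induction with
  | mem x hx =>
    obtain ⟨r, c, hr, hc, hx⟩ := hx
    have : x = h8hU D hB r c := Units.ext (by rw [hx, h8hU_val])
    rw [this]
    exact h8perm_hU D hB r hr c hc
  | one => exact h8perm_one D hB
  | mul a b _ _ ha hb => exact h8perm_mul D hB a b ha hb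
  | inv a _ ha => exact h8perm_inv D hB a ha

theorem h8perm_H_id (D : ChevalleyDatum) (hB : H8Base.{u} D) (g : GL D.Idx F)
    (hg : g ∈ D.diagonalSubgroup F) : ∀ r < D.nroots, H8Act D hB g r r := by
  unfold ChevalleyDatum.diagonalSubgroup at hg
  induction hg using Subgroup.closure_induction with
  | mem x hx =>
    obtain ⟨r, c, hr, hc, hx⟩ := hx
    have : x = h8hU D hB r c := Units.ext (by rw [hx, h8hU_val])
    rw [this]
    intro s hs
    refine ⟨c ^ (h8K D r s), zpow_ne_zero _ hc, fun t => ?_⟩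
    rw [mul_inv_eq_iff_eq_mul]
    apply Units.ext
    rw [Units.val_mul, Units.val_mul, h8hU_val, h8xU_val]
    exact h8hMat_conj_x D hB.ca r s hs c hc t (hB.hdiag F r hr c hc)
  | one =>
    intro r _
    refine ⟨1, one_ne_zero, fun t => ?_⟩
    rw [one_mul, inv_one, mul_one, one_mul]
  | mul a b _ _ ha hb =>
    intro r hr
    exact h8act_mul D hB a b r r r (hb r hr) (ha r hr)
  | inv a _ ha =>
    intro r hr
    exact h8act_inv D hB a r r (ha r hr)

theorem h8act_nU (D : ChevalleyDatum) (hB : H8Base.{u} D) (hA : H8ReflAll D) (i : ℕ)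
    (hi : i < D.rank) (s : ℕ) (hs : s < D.nroots) :
    H8Act D hB (h8nU D hB (D.simple i) (1 : F)) s (D.reflectRoot i s) := by
  obtain ⟨η, hη, h1⟩ := h8n_simple_conj_all (F := F) D hA i s hi hs
  refine ⟨(η : F), ?_, fun t => ?_⟩
  · rcases hη with rfl | rfl <;> simp
  · rw [mul_inv_eq_iff_eq_mul]
    apply Units.ext
    rw [Units.val_mul, Units.val_mul, h8nU_val, h8xU_val, h8xU_val]
    exact h1 t

theorem h8perm_nU (D : ChevalleyDatum) (hB : H8Base.{u} D) (hA : H8ReflAll D) (i : ℕ)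
    (hi : i < D.rank) : H8Perm D hB (h8nU D hB (D.simple i) (1 : F)) := by
  obtain ⟨η, hR⟩ := h8reflAll_spec D hA i hi
  refine ⟨D.reflectRoot i, D.reflectRoot i, hR.lt, hR.lt, hR.invol, hR.invol, hR.negc, hR.negc, ?_⟩
  intro s hs
  exact h8act_nU D hB hA i hi s hs

theorem h8perm_N (D : ChevalleyDatum) (hB : H8Base.{u} D) (hA : H8ReflAll D) (dep par : List ℕ)
    (h : h8orbChk D dep par = true) (g : GL D.Idx F) (hg : g ∈ D.monomialSubgroup F) :
    H8Perm D hB g := by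
  rw [h8N_eq D hB hA dep par h, sup_comm, ← Subgroup.closure_eq (D.diagonalSubgroup F),
    ← Subgroup.closure_union] at hg
  induction hg using Subgroup.closure_induction with
  | mem x hx =>
    rcases hx with ⟨j, hj, rfl⟩ | hx
    · exact h8perm_nU D hB hA j hj
    · exact h8perm_H D hB x hx
  | one => exact h8perm_one D hB
  | mul a b _ _ ha hb => exact h8perm_mul D hB a b ha hb
  | inv a _ ha => exact h8perm_inv D hB a ha

end Cfsg.Agent.Lib.helper8
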