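import Mathlib
import Cfsg.Prelude.Def_ChevStructure
import Cfsg.Agent.Lib.helper8.ChevCommOrb
import Cfsg.Agent.Lib.helper8.ChevUnits
import Cfsg.Agent.Lib.helper8.ChevUp

set_option autoImplicit false

namespace Cfsg.Agent.Lib.helper8

open Cfsg.Lie Cfsg.Lie.ChevalleyDatum

universe u

variable {F : Type u} [Field F]

def h8Lk (D : ChevalleyDatum) (k : ℕ) : List ℕ :=
  (List.range' k (D.nroots - k)).filter fun r => decide (D.IsPosRoot r)

def h8VkSet (D : ChevalleyDatum) (F : Type u) [Field F] (k : ℕ) : Set (GL D.Idx F) :=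
  {g : GL D.Idx F | ∃ (r : ℕ) (t : F), D.IsPosRoot r ∧ k ≤ r ∧
    (g : Matrix D.Idx D.Idx F) = D.x F r t}

def h8ordW (D : ChevalleyDatum) (k : ℕ) (t : ℕ → F) : List (ℕ × F) :=
  (h8Lk D k).map fun r => (r, t r)

theorem h8Lk_pos (D : ChevalleyDatum) (k : ℕ) (hk : D.IsPosRoot k) :
    h8Lk D k = k :: h8Lk D (k + 1) := by
  unfold h8Lk
  have h1 : D.nroots - k = (D.nroots - (k + 1)) + 1 := by have := hk.1; omega
  rw [h1, List.range'_succ, List.filter_cons, if_pos (by simpa using hk)]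

theorem h8Lk_not (D : ChevalleyDatum) (k : ℕ) (hk : ¬ D.IsPosRoot k) :
    h8Lk D k = h8Lk D (k + 1) := by
  unfold h8Lk
  by_cases hlt : k < D.nroots
  · have h1 : D.nroots - k = (D.nroots - (k + 1)) + 1 := by omega
    rw [h1, List.range'_succ, List.filter_cons, if_neg (by simpa using hk)]
  · have h1 : D.nroots - k = 0 := by omega
    have h2 : D.nroots - (k + 1) = 0 := by omega
    rw [h1, h2]
    rfl

theorem h8Lk_mem (D : ChevalleyDatum) (k r : ℕ) : r ∈ h8Lk D k ↔ k ≤ r ∧ D.IsPosRoot r := by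
  unfold h8Lk
  rw [List.mem_filter, List.mem_range'_1, decide_eq_true_eq]
  constructor
  · rintro ⟨⟨h1, _⟩, h2⟩
    exact ⟨h1, h2⟩
  · rintro ⟨h1, h2⟩
    have := h2.1
    exact ⟨⟨h1, by omega⟩, h2⟩

theorem h8Lk_zero (D : ChevalleyDatum) : h8Lk D 0 = D.posRoots := by
  unfold h8Lk ChevalleyDatum.posRoots
  rw [List.range_eq_range', Nat.sub_zero]

theorem h8wordU_cons (D : ChevalleyDatum) (hB : H8Base.{u} D) (p : ℕ × F) (w : List (ℕ × F)) :
    h8wordU D hB (p :: w) = h8xU D hB p.1 p.2 * h8wordU D hB w := by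
  unfold h8wordU
  rw [List.map_cons, List.prod_cons]

theorem h8xU_add (D : ChevalleyDatum) (hB : H8Base.{u} D) (r : ℕ) (hr : r < D.nroots) (a b : F) :
    h8xU D hB r a * h8xU D hB r b = h8xU D hB r (a + b) := by
  apply Units.ext
  rw [Units.val_mul, h8xU_val, h8xU_val, h8xU_val, hB.add F r hr]

structure H8Ord (D : ChevalleyDatum) : Prop where
  comm : ∀ r s, D.IsPosRoot r → D.IsPosRoot s → r < s →
    s ≠ D.negIdx.getD r 0 ∧ ∀ c ∈ D.commTerms r s, D.IsPosRoot c.1 ∧ r < c.1

theorem h8Vk_mono (D : ChevalleyDatum) (k : ℕ) :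
    Subgroup.closure (h8VkSet D F (k + 1)) ≤ Subgroup.closure (h8VkSet D F k) := by
  apply Subgroup.closure_mono
  rintro g ⟨r, t, hr, hkr, hg⟩
  exact ⟨r, t, hr, by omega, hg⟩

theorem h8Vk_step_aux (D : ChevalleyDatum) (hB : H8Base.{u} D) (hC : H8CommAll.{u} D)
    (hO : H8Ord D) (k : ℕ) (hk : D.IsPosRoot k) (l : ℕ) (hl : D.IsPosRoot l) (hkl : k ≤ l)
    (c a : F) (v : GL D.Idx F) (hv : v ∈ Subgroup.closure (h8VkSet D F (k + 1))) :
    ∃ a' : F, ∃ v' ∈ Subgroup.closure (h8VkSet D F (k + 1)),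
      h8xU D hB l c * (h8xU D hB k a * v) = h8xU D hB k a' * v' := by
  rcases Nat.eq_or_lt_of_le hkl with rfl | hlt
  · exact ⟨c + a, v, hv, by rw [← mul_assoc, h8xU_add D hB k hk.1]⟩
  · obtain ⟨hne, hterms⟩ := hO.comm k l hk hl hlt
    refine ⟨a, h8xU D hB l c * h8wordU D hB (D.commWord F k l a c) * v, ?_, ?_⟩
    · apply Subgroup.mul_mem _ _ hv
      apply Subgroup.mul_mem
      · apply Subgroup.subset_closure
        exact ⟨l, c, hl, by omega, h8xU_val D hB l c⟩
      · unfold h8wordU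
        apply Subgroup.list_prod_mem
        intro g hg
        rw [List.mem_map] at hg
        obtain ⟨q, hq, rfl⟩ := hg
        unfold ChevalleyDatum.commWord at hq
        rw [List.mem_map] at hq
        obtain ⟨cc, hcc, rfl⟩ := hq
        apply Subgroup.subset_closure
        exact ⟨cc.1, _, (hterms cc hcc).1, by have := (hterms cc hcc).2; omega, h8xU_val D hB _ _⟩
    · have key : h8xU D hB l c * h8xU D hB k a =
          h8xU D hB k a * h8xU D hB l c * h8wordU D hB (D.commWord F k l a c) := by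
        apply Units.ext
        rw [Units.val_mul, Units.val_mul, Units.val_mul, h8wordU_val, h8xU_val, h8xU_val]
        exact hC.all k hk.1 l hl.1 (by omega) hne F a c
      rw [← mul_assoc, key]
      simp only [mul_assoc]

theorem h8Vk_step (D : ChevalleyDatum) (hB : H8Base.{u} D) (hC : H8CommAll.{u} D)
    (hO : H8Ord D) (k : ℕ) (hk : D.IsPosRoot k) (g : GL D.Idx F)
    (hg : g ∈ Subgroup.closure (h8VkSet D F k)) :
    ∃ a : F, ∃ v ∈ Subgroup.closure (h8VkSet D F (k + 1)), g = h8xU D hB k a * v := by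
  induction hg using Subgroup.closure_induction_left with
  | one =>
    refine ⟨0, 1, Subgroup.one_mem _, ?_⟩
    have : h8xU D hB k (0 : F) = 1 := by
      apply Units.ext
      rw [h8xU_val, hB.zero]
      rfl
    rw [this, one_mul]
  | mul_left x hx y _ ih =>
    obtain ⟨a, v, hv, rfl⟩ := ih
    obtain ⟨l, c, hl, hkl, hxv⟩ := hx
    have hx' : x = h8xU D hB l c := Units.ext hxv
    rw [hx']
    exact h8Vk_step_aux D hB hC hO k hk l hl hkl c a v hv
  | inv_mul_cancel x hx y _ ih =>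
    obtain ⟨a, v, hv, rfl⟩ := ih
    obtain ⟨l, c, hl, hkl, hxv⟩ := hx
    have hx' : x = h8xU D hB l c := Units.ext hxv
    rw [hx', h8xU_inv]
    exact h8Vk_step_aux D hB hC hO k hk l hl hkl (-c) a v hv

theorem h8ord_exists (D : ChevalleyDatum) (hB : H8Base.{u} D) (hC : H8CommAll.{u} D)
    (hO : H8Ord D) : ∀ (m k : ℕ), k + m = D.nroots → ∀ g : GL D.Idx F,
      g ∈ Subgroup.closure (h8VkSet D F k) → ∃ t : ℕ → F, g = h8wordU D hB (h8ordW D k t) := by
  intro m
  induction m with
  | zero =>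
    intro k hk g hg
    have hempty : h8VkSet D F k = ∅ := by
      ext x
      simp only [Set.mem_empty_iff_false, iff_false]
      rintro ⟨r, t, hr, hkr, _⟩
      have := hr.1
      omega
    rw [hempty, Subgroup.closure_empty, Subgroup.mem_bot] at hg
    refine ⟨fun _ => 0, ?_⟩
    have : h8Lk D k = [] := by
      unfold h8Lk
      have : D.nroots - k = 0 := by omega
      rw [this]
      rfl
    unfold h8ordW
    rw [this, hg]
    rfl
  | succ m ih =>
    intro k hk g hg
    by_cases hpos : D.IsPosRoot k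
    · obtain ⟨a, v, hv, rfl⟩ := h8Vk_step D hB hC hO k hpos g hg
      obtain ⟨t', rfl⟩ := ih (k + 1) (by omega) v hv
      refine ⟨Function.update t' k a, ?_⟩
      unfold h8ordW
      rw [h8Lk_pos D k hpos, List.map_cons, h8wordU_cons]
      simp only [Function.update_self]
      congr 2
      apply List.map_congr_left
      intro r hr
      have := ((h8Lk_mem D (k + 1) r).mp hr).1
      rw [Function.update_of_ne (by omega)]
    · have hset : h8VkSet D F k = h8VkSet D F (k + 1) := by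
        ext x
        constructor
        · rintro ⟨r, t, hr, hkr, hx⟩
          refine ⟨r, t, hr, ?_, hx⟩
          rcases Nat.eq_or_lt_of_le hkr with rfl | h
          · exact absurd hr hpos
          · omega
        · rintro ⟨r, t, hr, hkr, hx⟩
          exact ⟨r, t, hr, by omega, hx⟩
      rw [hset] at hg
      obtain ⟨t, rfl⟩ := ih (k + 1) (by omega) g hg
      refine ⟨t, ?_⟩
      unfold h8ordW
      rw [h8Lk_not D k hpos]

theorem h8ordW_mem (D : ChevalleyDatum) (hB : H8Base.{u} D) (k : ℕ) (t : ℕ → F) :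
    h8wordU D hB (h8ordW D k t) ∈ Subgroup.closure (h8VkSet D F k) := by
  unfold h8wordU
  apply Subgroup.list_prod_mem
  intro g hg
  rw [List.mem_map] at hg
  obtain ⟨q, hq, rfl⟩ := hg
  unfold h8ordW at hq
  rw [List.mem_map] at hq
  obtain ⟨r, hr, rfl⟩ := hq
  apply Subgroup.subset_closure
  obtain ⟨h1, h2⟩ := (h8Lk_mem D k r).mp hr
  exact ⟨r, t r, h2, h1, h8xU_val D hB _ _⟩

end Cfsg.Agent.Lib.helper8
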