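import Mathlib
import Cfsg.Prelude.Def_ChevStructure
import Cfsg.Agent.Lib.helper8.ChevOrd
import Cfsg.Agent.Lib.helper8.ChevXEntry
import Cfsg.Agent.Lib.helper8.ChevTri

set_option autoImplicit false

namespace Cfsg.Agent.Lib.helper8

open Cfsg.Lie Cfsg.Lie.ChevalleyDatum

universe u

variable {F : Type u} [Field F]

def h8gcdL (L : List ℤ) : ℕ := L.foldr (fun a g => Int.gcd a g) 0

theorem h8gcdL_zero (τ : F) : ∀ L : List ℤ, (∀ c ∈ L, ((c : ℤ) : F) * τ = 0) →
    ((h8gcdL L : ℕ) : F) * τ = 0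
  | [], _ => by
    unfold h8gcdL
    simp
  | a :: L, h => by
    have ih := h8gcdL_zero τ L (fun c hc => h c (List.mem_cons_of_mem _ hc))
    have ha := h a List.mem_cons_self
    have e : h8gcdL (a :: L) = Int.gcd a (h8gcdL L) := rfl
    rw [e]
    have := Int.gcd_eq_gcd_ab a (h8gcdL L)
    have h2 : ((Int.gcd a (h8gcdL L) : ℕ) : F) =
        ((a : ℤ) : F) * ((Int.gcdA a (h8gcdL L) : ℤ) : F) +
          ((h8gcdL L : ℕ) : F) * ((Int.gcdB a (h8gcdL L) : ℤ) : F) := by
      have h3 := congrArg (fun z : ℤ => (z : F)) this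
      simp only [Int.cast_add, Int.cast_mul, Int.cast_natCast] at h3
      exact h3
    rw [h2, add_mul, mul_right_comm, ha, zero_mul, mul_right_comm, ih, zero_mul, add_zero]

theorem h8chSum_ne_zero (τ : F) (w : ℕ) : ∀ (n : ℕ) (L : List (ℕ × ℤ)),
    h8chSum τ w n L ≠ 0 → ∃ e ∈ L, e.1 = w
  | _, [], h => absurd rfl h
  | n, (u, M) :: L, h => by
    unfold h8chSum at h
    by_cases hu : u = w
    · exact ⟨(u, M), List.mem_cons_self, hu⟩
    · rw [if_neg hu, zero_add] at h
      obtain ⟨e, he, hew⟩ := h8chSum_ne_zero τ w (n + 1) L h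
      exact ⟨e, List.mem_cons_of_mem _ he, hew⟩

def h8Q (D : ChevalleyDatum) (nk : ℕ) (m : Matrix D.Idx D.Idx F) : Prop :=
  ∀ (i : D.Idx) (v : Fin D.nroots), v.val = nk → m i (Sum.inr v) ≠ 0 →
    i = Sum.inr v ∨ D.rank + D.nroots / 2 ≤ h8rho D i

theorem h8Q_one (D : ChevalleyDatum) (nk : ℕ) : h8Q D nk (1 : Matrix D.Idx D.Idx F) := by
  intro i v _ hne
  left
  by_contra hiv
  exact hne (Matrix.one_apply_ne hiv)

theorem h8Q_mul (D : ChevalleyDatum) (nk : ℕ) (x y : Matrix D.Idx D.Idx F)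
    (hx1 : H8Unitri (h8rho D) 1 x) (hxQ : h8Q D nk x) (hy : h8Q D nk y) : h8Q D nk (x * y) := by
  intro i v hv hne
  rw [Matrix.mul_apply] at hne
  obtain ⟨j, _, hj⟩ := Finset.exists_ne_zero_of_sum_ne_zero hne
  have h1 : x i j ≠ 0 := left_ne_zero_of_mul hj
  have h2 : y j (Sum.inr v) ≠ 0 := right_ne_zero_of_mul hj
  rcases hy j v hv h2 with rfl | hρ
  · exact hxQ i v hv h1
  · right
    by_cases hij : i = j
    · rw [hij]; exact hρ
    · have := hx1 i j (by rw [Matrix.sub_apply, Matrix.one_apply_ne hij, sub_zero]; exact h1)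
      omega

structure H8Ord2 (D : ChevalleyDatum) : Prop where
  sorted : ∀ r < D.nroots, (((D.chain.getD r #[]).toList).map Prod.fst).Pairwise (· < ·)
  negneg : ∀ r < D.nroots, D.negIdx.getD r 0 < D.nroots ∧
    D.negIdx.getD (D.negIdx.getD r 0) 0 = r
  chainpos : ∀ k r, D.IsPosRoot k → D.IsPosRoot r → k < r →
    ∀ e ∈ D.chainEntry r (D.negIdx.getD k 0), D.nroots / 2 ≤ e.1
  gcd : ∀ k, D.IsPosRoot k →
    h8gcdL ((List.range D.rank).map fun a => (D.coroot.getD k #[]).getD a 0) = 1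

theorem h8Q_x (D : ChevalleyDatum) (hP : h8PosOK D = true) (hO : H8Ord2 D) (k r : ℕ)
    (hk : D.IsPosRoot k) (hr : D.IsPosRoot r) (hkr : k < r) (c : F) :
    h8Q D (D.negIdx.getD k 0) (D.x F r c) := by
  obtain ⟨hk1, hk2, _⟩ := h8PosOK_spec hP hk
  obtain ⟨hr1, hr2, _⟩ := h8PosOK_spec hP hr
  intro i v hv hne
  unfold ChevalleyDatum.x at hne
  rw [dif_pos hr.1] at hne
  have hvr : v ≠ ⟨r, hr.1⟩ := by
    intro h
    have := congrArg Fin.val h
    simp only at this
    omega
  have hvn : v.val ≠ D.negIdx.getD r 0 := by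
    intro h
    have h1 := (hO.negneg k hk.1).2
    have h2 := (hO.negneg r hr.1).2
    rw [← hv, h, h2] at h1
    omega
  rcases i with a | u
  · rw [h8xMat_inl_inr, if_neg hvr, if_neg hvn] at hne
    exact absurd rfl hne
  · rw [h8xMat_inr_inr D ⟨r, hr.1⟩ c u v (hO.sorted r hr.1), if_neg hvr, if_neg hvn] at hne
    by_cases huv : u = v
    · left; rw [huv]
    · right
      rw [if_neg huv, zero_add] at hne
      obtain ⟨e, he, heu⟩ := h8chSum_ne_zero c u.val 0 _ hne
      have := hO.chainpos k r hk hr hkr e (hv ▸ he)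
      show D.rank + D.nroots / 2 ≤ (if u.val < D.nroots / 2 then u.val else D.rank + u.val)
      rw [if_neg (by omega)]
      omega

theorem h8Q_Vk (D : ChevalleyDatum) (hB : H8Base.{u} D) (hO : H8Ord2 D) (k : ℕ)
    (hk : D.IsPosRoot k) (g : GL D.Idx F) (hg : g ∈ Subgroup.closure (h8VkSet D F (k + 1))) :
    h8Q D (D.negIdx.getD k 0) (g : Matrix D.Idx D.Idx F) := by
  induction hg using Subgroup.closure_induction_left with
  | one => exact h8Q_one D _
  | mul_left x hx y _ ih =>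
    obtain ⟨r, c, hr, hkr, hxv⟩ := hx
    rw [Units.val_mul, hxv]
    exact h8Q_mul D _ _ _ (h8_x_unitri D hB.posOK r hr c)
      (h8Q_x D hB.posOK hO k r hk hr (by omega) c) ih
  | inv_mul_cancel x hx y _ ih =>
    obtain ⟨r, c, hr, hkr, hxv⟩ := hx
    have hx' : x = h8xU D hB r c := Units.ext hxv
    rw [hx', h8xU_inv, Units.val_mul, h8xU_val]
    exact h8Q_mul D _ _ _ (h8_x_unitri D hB.posOK r hr (-c))
      (h8Q_x D hB.posOK hO k r hk hr (by omega) (-c)) ih

theorem h8x_not_mem_Vk (D : ChevalleyDatum) (hB : H8Base.{u} D) (hO : H8Ord2 D) (k : ℕ)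
    (hk : D.IsPosRoot k) (τ : F)
    (h : h8xU D hB k τ ∈ Subgroup.closure (h8VkSet D F (k + 1))) : τ = 0 := by
  have hQ := h8Q_Vk D hB hO k hk _ h
  rw [h8xU_val] at hQ
  obtain ⟨hk1, hk2, _⟩ := h8PosOK_spec hB.posOK hk
  have hnlt := (hO.negneg k hk.1).1
  have hent : ∀ a : Fin D.rank, (((D.coroot.getD k #[]).getD a.val 0 : ℤ) : F) * τ = 0 := by
    intro a
    by_contra hne
    have hval : D.x F k τ (Sum.inl a) (Sum.inr ⟨D.negIdx.getD k 0, hnlt⟩) =
        (((D.coroot.getD k #[]).getD a.val 0 : ℤ) : F) * τ := by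
      unfold ChevalleyDatum.x
      rw [dif_pos hk.1, h8xMat_inl_inr, if_neg, if_pos rfl]
      intro h
      have := congrArg Fin.val h
      simp only at this
      omega
    rcases hQ (Sum.inl a) ⟨D.negIdx.getD k 0, hnlt⟩ rfl (by rw [hval]; exact hne) with h1 | h1
    · cases h1
    · have : h8rho D (Sum.inl a) = D.nroots / 2 + a.val := rfl
      rw [this] at h1
      have := a.2
      omega
  have hz := h8gcdL_zero τ ((List.range D.rank).map fun a => (D.coroot.getD k #[]).getD a 0) (by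
    intro c hc
    rw [List.mem_map] at hc
    obtain ⟨a, ha, rfl⟩ := hc
    exact hent ⟨a, List.mem_range.mp ha⟩)
  rw [hO.gcd k hk, Nat.cast_one, one_mul] at hz
  exact hz

theorem h8ord_unique (D : ChevalleyDatum) (hB : H8Base.{u} D) (hO : H8Ord2 D) :
    ∀ (m k : ℕ), k + m = D.nroots → ∀ t t' : ℕ → F,
      h8wordU D hB (h8ordW D k t) = h8wordU D hB (h8ordW D k t') →
      ∀ r ∈ h8Lk D k, t r = t' r := by
  intro m
  induction m with
  | zero =>
    intro k hk t t' _ r hr
    obtain ⟨h1, h2⟩ := (h8Lk_mem D k r).mp hr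
    have := h2.1
    omega
  | succ m ih =>
    intro k hk t t' heq r hr
    by_cases hpos : D.IsPosRoot k
    · unfold h8ordW at heq
      rw [h8Lk_pos D k hpos, List.map_cons, List.map_cons, h8wordU_cons, h8wordU_cons] at heq
      simp only at heq
      have hP := h8ordW_mem D hB (k + 1) t
      have hP' := h8ordW_mem D hB (k + 1) t'
      unfold h8ordW at hP hP'
      have hmem : h8xU D hB k (t k - t' k) ∈ Subgroup.closure (h8VkSet D F (k + 1)) := by
        have e : h8xU D hB k (t k - t' k) =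
            h8wordU D hB ((h8Lk D (k + 1)).map fun r => (r, t' r)) *
              (h8wordU D hB ((h8Lk D (k + 1)).map fun r => (r, t r)))⁻¹ := by
          rw [eq_mul_inv_iff_mul_eq, sub_eq_add_neg, add_comm, ← h8xU_add D hB k hpos.1,
            ← h8xU_inv, mul_assoc, heq, ← mul_assoc, inv_mul_cancel, one_mul]
        rw [e]
        exact Subgroup.mul_mem _ hP' (Subgroup.inv_mem _ hP)
      have h0 := h8x_not_mem_Vk D hB hO k hpos _ hmem
      have hk0 : t k = t' k := sub_eq_zero.mp h0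
      rw [hk0] at heq
      have heq' := mul_left_cancel heq
      rw [h8Lk_pos D k hpos, List.mem_cons] at hr
      rcases hr with rfl | hr
      · exact hk0
      · exact ih (k + 1) (by omega) t t' heq' r hr
    · unfold h8ordW at heq
      rw [h8Lk_not D k hpos] at heq hr
      exact ih (k + 1) (by omega) t t' heq r hr

end Cfsg.Agent.Lib.helper8
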