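import Mathlib
import Cfsg.Prelude.Def_ChevStructure
import Cfsg.Agent.Lib.helper8.ChevTri

set_option autoImplicit false

namespace Cfsg.Agent.Lib.helper8

open Cfsg.Lie Cfsg.Lie.ChevalleyDatum

variable {F : Type*} [Field F]

def h8rho' (D : ChevalleyDatum) (c : D.Idx) : ℕ := D.rank + D.nroots - h8rho D c

theorem h8rho'_lt (D : ChevalleyDatum) (c : D.Idx) : h8rho' D c < D.rank + D.nroots + 1 := by
  unfold h8rho'
  omega

theorem h8rho'_le_iff (D : ChevalleyDatum) (a b : D.Idx) (k : ℕ) :
    h8rho' D b + k ≤ h8rho' D a ↔ h8rho D a + k ≤ h8rho D b := by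
  unfold h8rho'
  have := h8rho_lt D a
  have := h8rho_lt D b
  omega

def h8NegOK (D : ChevalleyDatum) : Bool :=
  (List.range D.nroots).all fun r =>
    !(decide (D.IsNegRoot r)) ||
      (decide (r < D.nroots / 2) && decide (D.nroots / 2 ≤ D.negIdx.getD r 0) &&
        (D.chain.getD r #[]).toList.all fun e => e.2.toList.all fun q => decide (q.1 < e.1))

theorem h8NegOK_spec {D : ChevalleyDatum} (h : h8NegOK D = true) {r : ℕ} (hr : D.IsNegRoot r) :
    r < D.nroots / 2 ∧ D.nroots / 2 ≤ D.negIdx.getD r 0 ∧
      ∀ e ∈ (D.chain.getD r #[]).toList, ∀ q ∈ e.2.toList, q.1 < e.1 := by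
  unfold h8NegOK at h
  rw [List.all_eq_true] at h
  have h1 := h r (List.mem_range.mpr hr.1)
  simp only [hr, decide_true, Bool.not_true, Bool.false_or, Bool.and_eq_true, decide_eq_true_eq,
    List.all_eq_true] at h1
  exact ⟨h1.1.1, h1.1.2, h1.2⟩

theorem h8_xMat_unitri_neg (D : ChevalleyDatum) (hD : h8NegOK D = true) (r : Fin D.nroots)
    (hr : D.IsNegRoot r.val) (t : F) : H8Unitri (h8rho' D) 1 (D.xMat F r t) := by
  obtain ⟨h1, h2, h3⟩ := h8NegOK_spec hD hr
  intro row col hne
  rw [h8rho'_le_iff]
  rw [Matrix.sub_apply, Matrix.one_apply] at hne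
  unfold ChevalleyDatum.xMat at hne
  rw [Matrix.of_apply] at hne
  generalize D.negIdx.getD r.val 0 = nr at h2 hne
  rcases col with i | s
  · rcases row with i' | u
    · exfalso
      apply hne
      by_cases hii : i' = i
      · simp [hii]
      · have : ¬ (Sum.inl i' : D.Idx) = Sum.inl i := fun h => hii (Sum.inl.inj h)
        simp [hii]
    · by_cases hur : u = r
      · subst hur
        show (if u.val < D.nroots / 2 then u.val else D.rank + u.val) + 1 ≤ D.nroots / 2 + i.val
        rw [if_pos h1]
        omega
      · exfalso
        apply hne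
        simp [hur]
  · by_cases hsr : s = r
    · exfalso
      apply hne
      subst hsr
      rcases row with i' | u
      · simp
      · by_cases hus : u = s
        · simp [hus]
        · have : ¬ (Sum.inr u : D.Idx) = Sum.inr s := fun h => hus (Sum.inr.inj h)
          simp [hus]
    · by_cases hsn : s.val = nr
      · have hsge : ¬ s.val < D.nroots / 2 := by rw [hsn]; omega
        rcases row with i' | u
        · show D.nroots / 2 + i'.val + 1 ≤ (if s.val < D.nroots / 2 then s.val else D.rank + s.val)
          rw [if_neg hsge]
          have := i'.2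
          omega
        · by_cases hus : u = s
          · exfalso
            apply hne
            simp [hsr, hsn, hus]
          · by_cases hur : u = r
            · subst hur
              apply h8rho_root_lt
              omega
            · exfalso
              apply hne
              have : ¬ (Sum.inr u : D.Idx) = Sum.inr s := fun h => hus (Sum.inr.inj h)
              simp [hsr, hsn, hus, hur]
      · rcases row with i' | u
        · exfalso
          apply hne
          simp [hsr, hsn]
        · simp only [hsr, hsn, if_false] at hne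
          by_cases hcc : D.chainCoeff r.val s.val u.val = []
          · exfalso
            apply hne
            rw [hcc]
            by_cases hus : u = s
            · simp [hus]
            · have : ¬ (Sum.inr u : D.Idx) = Sum.inr s := fun h => hus (Sum.inr.inj h)
              simp [hus]
          · obtain ⟨e, he, hes, q, hq, hqu⟩ := h8_chainCoeff_ne_nil D _ _ _ hcc
            have := h3 e he q hq
            apply h8rho_root_lt
            omega

theorem h8_x_unitri_neg (D : ChevalleyDatum) (hD : h8NegOK D = true) (r : ℕ)
    (hr : D.IsNegRoot r) (t : F) : H8Unitri (h8rho' D) 1 (D.x F r t) := by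
  unfold ChevalleyDatum.x
  rw [dif_pos hr.1]
  exact h8_xMat_unitri_neg D hD ⟨r, hr.1⟩ hr t

theorem h8_negUnipotent_unitri (D : ChevalleyDatum) (hD : h8NegOK D = true) (g : GL D.Idx F)
    (hg : g ∈ D.negUnipotent F) : H8Unitri (h8rho' D) 1 (g : Matrix D.Idx D.Idx F) := by
  unfold ChevalleyDatum.negUnipotent at hg
  induction hg using Subgroup.closure_induction with
  | mem x hx =>
    obtain ⟨r, t, hr, hx⟩ := hx
    rw [hx]
    exact h8_x_unitri_neg D hD r hr t
  | one => exact h8unitri_one _ _
  | mul x y _ _ hx hy =>
    rw [Units.val_mul]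
    exact h8unitri_mul hx hy
  | inv x _ hx =>
    refine h8unitri_inv (le_refl 1) (h8rho'_lt D) hx ?_
    rw [← Units.val_mul, mul_inv_cancel, Units.val_one]

end Cfsg.Agent.Lib.helper8
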