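import Mathlib
import Cfsg.Prelude.Def_ChevStructure
import Cfsg.Agent.Lib.helper8.ChevOrd2
import Cfsg.Agent.Lib.helper8.ChevTriNeg
import Cfsg.Agent.Lib.helper8.ChevSLTable

set_option autoImplicit false

namespace Cfsg.Agent.Lib.helper8

open Cfsg.Lie Cfsg.Lie.ChevalleyDatum

universe u

theorem h8pos_of_ge (D : ChevalleyDatum) (hB : H8Base.{u} D) (hN : h8NegOK D = true) (r : ℕ)
    (hr : r < D.nroots) (h : D.nroots / 2 ≤ r) : D.IsPosRoot r := by
  rcases hB.posneg r hr with h1 | h1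
  · exact h1
  · have := (h8NegOK_spec hN h1).1
    omega

theorem h8chainRoot_gt (D : ChevalleyDatum) (hB : H8Base.{u} D) (hN : h8NegOK D = true)
    (hlt : ∀ a b, a < D.nroots → ∀ q ∈ D.chainEntry a b, q.1 < D.nroots)
    (a b m k : ℕ) (ha : D.IsPosRoot a) (hb : D.nroots / 2 ≤ b)
    (h : D.chainRoot a b m = some k) : b < k ∧ D.IsPosRoot k := by
  unfold ChevalleyDatum.chainRoot at h
  cases hq : (D.chainEntry a b)[m - 1]? with
  | none => rw [hq] at h; cases h
  | some q =>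
    rw [hq] at h
    have hqk : q.1 = k := Option.some.inj h
    have hmem : q ∈ D.chainEntry a b := List.mem_of_getElem? hq
    have hklt : k < D.nroots := hqk ▸ hlt a b ha.1 q hmem
    have hbk : b < k := by
      rcases h8chainEntry_cases D a b with h0 | ⟨e, he, heb, hce⟩
      · rw [h0] at hmem; cases hmem
      · rw [hce] at hmem
        have := (h8PosOK_spec hB.posOK ha).2.2 e he q hmem
        omega
    exact ⟨hbk, h8pos_of_ge D hB hN k hklt (by omega)⟩

theorem h8ord_of (D : ChevalleyDatum) (hB : H8Base.{u} D) (hN : h8NegOK D = true)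
    (hlt : ∀ a b, a < D.nroots → ∀ q ∈ D.chainEntry a b, q.1 < D.nroots) : H8Ord D := by
  constructor
  intro r s hr hs hrs
  obtain ⟨hr1, hr2, _⟩ := h8PosOK_spec hB.posOK hr
  obtain ⟨hs1, hs2, _⟩ := h8PosOK_spec hB.posOK hs
  refine ⟨by omega, ?_⟩
  intro c hc
  have A := h8chainRoot_gt D hB hN hlt
  unfold ChevalleyDatum.commTerms at hc
  rw [List.mem_filterMap] at hc
  obtain ⟨cand, hcand, hmap⟩ := hc
  have hc1 : cand.1 = some c.1 := by
    cases hk : cand.1 with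
    | none => rw [hk] at hmap; cases hmap
    | some k =>
      rw [hk] at hmap
      have := Option.some.inj hmap
      rw [← this]
  simp only [List.mem_cons, List.mem_nil_iff, or_false] at hcand
  rcases hcand with rfl | rfl | rfl | rfl | rfl | rfl | rfl
  · obtain ⟨h1, h2⟩ := A r s 1 c.1 hr hs1 hc1
    exact ⟨h2, by omega⟩
  · obtain ⟨h1, h2⟩ := A r s 2 c.1 hr hs1 hc1
    exact ⟨h2, by omega⟩
  · obtain ⟨h1, h2⟩ := A s r 2 c.1 hs hr1 hc1
    exact ⟨h2, by omega⟩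
  · obtain ⟨h1, h2⟩ := A r s 3 c.1 hr hs1 hc1
    exact ⟨h2, by omega⟩
  · obtain ⟨h1, h2⟩ := A s r 3 c.1 hs hr1 hc1
    exact ⟨h2, by omega⟩
  · simp only at hc1
    rw [Option.bind_eq_some_iff] at hc1
    obtain ⟨k, hk1, hk2⟩ := hc1
    obtain ⟨_, h2⟩ := A r s 3 k hr hs1 hk1
    obtain ⟨h3, h4⟩ := A k s 1 c.1 h2 hs1 hk2
    exact ⟨h4, by omega⟩
  · simp only at hc1
    rw [Option.bind_eq_some_iff] at hc1
    obtain ⟨k, hk1, hk2⟩ := hc1
    obtain ⟨_, h2⟩ := A s r 3 k hs hr1 hk1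
    obtain ⟨h3, h4⟩ := A k r 1 c.1 h2 hr1 hk2
    exact ⟨h4, by omega⟩

end Cfsg.Agent.Lib.helper8
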