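import Mathlib
import Cfsg.Prelude.Def_ChevStructure
import Cfsg.Agent.Lib.helper8.ChevBN1
import Cfsg.Agent.Lib.helper8.ChevOrd3

set_option autoImplicit false

namespace Cfsg.Agent.Lib.helper8

open Cfsg.Lie Cfsg.Lie.ChevalleyDatum

universe u

variable {F : Type u} [Field F]

theorem h8wordU_append (D : ChevalleyDatum) (hB : H8Base.{u} D) (w1 w2 : List (ℕ × F)) :
    h8wordU D hB (w1 ++ w2) = h8wordU D hB w1 * h8wordU D hB w2 := by
  unfold h8wordU
  rw [List.map_append, List.prod_append]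

theorem h8nU_eq (D : ChevalleyDatum) (hB : H8Base.{u} D) (r : ℕ) (v : F) :
    h8nU D hB r v =
      h8xU D hB r v * h8xU D hB (D.negIdx.getD r 0) (-v⁻¹) * h8xU D hB r v := by
  unfold h8nU ChevalleyDatum.nWord ChevalleyDatum.neg
  rw [h8wordU_cons, h8wordU_cons, h8wordU_cons]
  have : h8wordU D hB ([] : List (ℕ × F)) = 1 := rfl
  rw [this, mul_one, mul_assoc]

theorem h8nU_eq_hU (D : ChevalleyDatum) (hB : H8Base.{u} D) (r : ℕ) (v : F) :
    h8nU D hB r v = h8hU D hB r v * h8nU D hB r 1 := by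
  have : h8hU D hB r v = h8nU D hB r v * h8nU D hB r (-1) := by
    unfold h8hU ChevalleyDatum.hWord
    rw [h8wordU_append]
    rfl
  rw [this, h8nU_neg, inv_mul_cancel_right]

theorem h8x_neg_eq (D : ChevalleyDatum) (hB : H8Base.{u} D) (r : ℕ) (a : F) (ha : a ≠ 0) :
    h8xU D hB (D.negIdx.getD r 0) a =
      h8xU D hB r a⁻¹ * h8hU D hB r (-a⁻¹) * h8nU D hB r 1 * h8xU D hB r a⁻¹ := by
  have h1 := h8nU_eq D hB r (-a⁻¹)
  rw [h8nU_eq_hU] at h1
  have e : -(-a⁻¹)⁻¹ = a := by rw [inv_neg, inv_inv, neg_neg]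
  rw [e] at h1
  have h2 : h8xU D hB r a⁻¹ = (h8xU D hB r (-a⁻¹))⁻¹ := by rw [h8xU_inv, neg_neg]
  rw [h2, mul_assoc _ (h8hU D hB r (-a⁻¹)), h1]
  group

theorem h8rootSubgroup_mem (D : ChevalleyDatum) (hB : H8Base.{u} D) (r : ℕ) (hr : r < D.nroots)
    (g : GL D.Idx F) (hg : g ∈ D.rootSubgroup F r) : ∃ t : F, g = h8xU D hB r t := by
  unfold ChevalleyDatum.rootSubgroup at hg
  induction hg using Subgroup.closure_induction with
  | mem x hx =>
    obtain ⟨t, hx⟩ := hx
    exact ⟨t, Units.ext hx⟩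
  | one =>
    refine ⟨0, ?_⟩
    apply Units.ext
    rw [h8xU_val, hB.zero]
    rfl
  | mul a b _ _ ha hb =>
    obtain ⟨t1, rfl⟩ := ha
    obtain ⟨t2, rfl⟩ := hb
    exact ⟨t1 + t2, h8xU_add D hB r hr t1 t2⟩
  | inv a _ ha =>
    obtain ⟨t, rfl⟩ := ha
    exact ⟨-t, h8xU_inv D hB r t⟩

def h8spChk (D : ChevalleyDatum) (i : ℕ) : Bool :=
  (List.range D.nroots).all fun s => !(decide (D.IsPosRoot s)) || decide (s = D.simple i) ||
    (decide (D.IsPosRoot (D.reflectRoot i s)) && decide (D.reflectRoot i s ≠ D.simple i))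

theorem h8spChk_spec (D : ChevalleyDatum) (i : ℕ) (h : h8spChk D i = true) (s : ℕ)
    (hs : D.IsPosRoot s) (hsp : s ≠ D.simple i) :
    D.IsPosRoot (D.reflectRoot i s) ∧ D.reflectRoot i s ≠ D.simple i := by
  unfold h8spChk at h
  simp only [List.all_eq_true, List.mem_range, Bool.or_eq_true, Bool.and_eq_true,
    Bool.not_eq_true', decide_eq_false_iff_not, decide_eq_true_eq] at h
  rcases h s hs.1 with (h1 | h1) | h1
  · exact absurd hs h1
  · exact absurd h1 hsp
  · exact h1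

theorem h8nU_normalizes_up (D : ChevalleyDatum) (hB : H8Base.{u} D) (hA : H8ReflAll D) (i : ℕ)
    (hi : i < D.rank) (hsp : h8spChk D i = true) :
    h8nU D hB (D.simple i) (1 : F) ∈
      Subgroup.normalizer (Subgroup.closure (h8UpSet D F (D.simple i)) : Set (GL D.Idx F)) := by
  obtain ⟨η, hR⟩ := h8reflAll_spec D hA i hi
  apply h8_mem_normalizer_closure
  · rintro g ⟨s, t, hs, hsne, hg⟩
    have hg' : g = h8xU D hB s t := Units.ext hg
    obtain ⟨c, _, hc⟩ := h8act_nU (F := F) D hB hA i hi s hs.1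
    rw [hg', hc t]
    obtain ⟨h1, h2⟩ := h8spChk_spec D i hsp s hs hsne
    apply Subgroup.subset_closure
    exact ⟨_, _, h1, h2, h8xU_val D hB _ _⟩
  · rintro g ⟨s, t, hs, hsne, hg⟩
    have hg' : g = h8xU D hB s t := Units.ext hg
    obtain ⟨h1, h2⟩ := h8spChk_spec D i hsp s hs hsne
    have hact := h8act_inv D hB _ _ _ (h8act_nU (F := F) D hB hA i hi _ h1.1)
    rw [hR.invol s hs.1] at hact
    obtain ⟨c, _, hc⟩ := hact
    have := hc t
    rw [inv_inv] at this
    rw [hg', this]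
    apply Subgroup.subset_closure
    exact ⟨_, _, h1, h2, h8xU_val D hB _ _⟩

theorem h8N_le_normalizer_H (D : ChevalleyDatum) (hB : H8Base.{u} D) (hA : H8ReflAll D)
    (dep par : List ℕ) (h : h8orbChk D dep par = true) :
    D.monomialSubgroup F ≤ Subgroup.normalizer (D.diagonalSubgroup F : Set (GL D.Idx F)) := by
  have hle : D.diagonalSubgroup F ≤ D.monomialSubgroup F := by
    unfold ChevalleyDatum.monomialSubgroup
    exact le_sup_left
  exact (Subgroup.normal_subgroupOf_iff_le_normalizer hle).mp (h8H_normal_N D hB hA dep par h)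

theorem h8posOrNeg (D : ChevalleyDatum) (hB : H8Base.{u} D) (hN : h8NegOK D = true)
    (hnlt : ∀ r < D.nroots, D.negIdx.getD r 0 < D.nroots) (r : ℕ) (hr : r < D.nroots) :
    D.IsPosRoot r ∨ D.IsPosRoot (D.negIdx.getD r 0) := by
  rcases hB.posneg r hr with h1 | h1
  · exact Or.inl h1
  · right
    exact h8pos_of_ge D hB hN _ (hnlt r hr) (h8NegOK_spec hN h1).2.1

theorem h8xU_mem_U (D : ChevalleyDatum) (hB : H8Base.{u} D) (r : ℕ) (hr : D.IsPosRoot r) (t : F) :
    h8xU D hB r t ∈ D.posUnipotent F := by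
  unfold ChevalleyDatum.posUnipotent
  apply Subgroup.subset_closure
  exact ⟨r, t, hr, h8xU_val D hB r t⟩

theorem h8U_le_B (D : ChevalleyDatum) : D.posUnipotent F ≤ D.borelSubgroup F := by
  unfold ChevalleyDatum.borelSubgroup
  exact le_sup_left

theorem h8H_le_B (D : ChevalleyDatum) : D.diagonalSubgroup F ≤ D.borelSubgroup F := by
  unfold ChevalleyDatum.borelSubgroup
  exact le_sup_right

end Cfsg.Agent.Lib.helper8
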