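import Mathlib
import Cfsg.Prelude.Def_ChevStructure
import Cfsg.Agent.Lib.helper8.ChevBN2

set_option autoImplicit false

namespace Cfsg.Agent.Lib.helper8

open Cfsg.Lie Cfsg.Lie.ChevalleyDatum

universe u

variable {F : Type u} [Field F]

structure H8BN (D : ChevalleyDatum) : Prop where
  negOK : h8NegOK D = true
  sp : ∀ i < D.rank, h8spChk D i = true
  up : ∀ i < D.rank, h8upGlob D i = true ∧ ∀ s < D.nroots, h8upRow D i s = true
  orb : ∃ dep par : List ℕ, h8orbChk D dep par = true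

theorem h8simple_pos (D : ChevalleyDatum) (hBN : H8BN D) (i : ℕ) (hi : i < D.rank) :
    D.IsPosRoot (D.simple i) := by
  have := (hBN.up i hi).1
  unfold h8upGlob at this
  simp only [Bool.and_eq_true, decide_eq_true_eq] at this
  exact this.1.1

theorem h8xU_zero (D : ChevalleyDatum) (hB : H8Base.{u} D) (r : ℕ) :
    h8xU D hB r (0 : F) = 1 := by
  apply Units.ext
  rw [h8xU_val, hB.zero]
  rfl

theorem h8nU_sq_mem_H (D : ChevalleyDatum) (hB : H8Base.{u} D) (r : ℕ) (hr : r < D.nroots) :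
    h8nU D hB r (1 : F) * h8nU D hB r 1 ∈ D.diagonalSubgroup F := by
  have h1 : h8hU D hB r (-1 : F) = h8nU D hB r (-1) * h8nU D hB r (-1) := by
    unfold h8hU ChevalleyDatum.hWord
    rw [h8wordU_append]
    rfl
  have h2 : h8nU D hB r (1 : F) * h8nU D hB r 1 = (h8hU D hB r (-1 : F))⁻¹ := by
    rw [h1, h8nU_neg, mul_inv_rev, inv_inv]
  rw [h2]
  exact Subgroup.inv_mem _ (h8hU_mem_H D hB r hr (-1) (by norm_num))

theorem h8reflectRoot_simple (D : ChevalleyDatum) (i : ℕ) :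
    D.reflectRoot i (D.simple i) = D.negIdx.getD (D.simple i) 0 := by
  unfold ChevalleyDatum.reflectRoot
  simp only [if_pos]
  rfl

theorem h8bn_core (D : ChevalleyDatum) (hB : H8Base.{u} D) (hA : H8ReflAll D) (hBN : H8BN D)
    (i : ℕ) (hi : i < D.rank) (n : GL D.Idx F) (hn : n ∈ D.monomialSubgroup F) (t : F) :
    (∃ b2 ∈ D.borelSubgroup F,
      h8nU D hB (D.simple i) 1 * h8xU D hB (D.simple i) t * n =
        h8nU D hB (D.simple i) 1 * n * b2) ∨
    (∃ b1 ∈ D.borelSubgroup F, ∃ b2 ∈ D.borelSubgroup F,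
      h8nU D hB (D.simple i) 1 * h8xU D hB (D.simple i) t * n = b1 * n * b2) := by
  obtain ⟨dep, par, horb⟩ := hBN.orb
  obtain ⟨σ, τ, a1, a2, a3, a4, a5, a6, a7⟩ := h8perm_N D hB hA dep par horb n hn
  have hpp := h8simple_pos D hBN i hi
  have hp := hpp.1
  obtain ⟨η, hR⟩ := h8reflAll_spec D hA i hi
  rcases h8posOrNeg D hB hBN.negOK hR.neglt (τ (D.simple i)) (a2 _ hp) with hpos | hneg
  · left
    have hact := h8act_inv D hB n _ _ (a7 _ (a2 _ hp))
    rw [a4 _ hp] at hact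
    obtain ⟨c, _, hc⟩ := hact
    refine ⟨h8xU D hB (τ (D.simple i)) (c * t), h8U_le_B D (h8xU_mem_U D hB _ hpos _), ?_⟩
    rw [← hc t, inv_inv]
    group
  · by_cases ht : t = 0
    · left
      refine ⟨1, Subgroup.one_mem _, ?_⟩
      rw [ht, h8xU_zero, mul_one, mul_one]
    · right
      obtain ⟨c1, hc1, e1⟩ := h8act_nU (F := F) D hB hA i hi (D.simple i) hp
      rw [h8reflectRoot_simple] at e1
      have ha : c1 * t ≠ 0 := mul_ne_zero hc1 ht
      have E1 := e1 t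
      have E2 := h8x_neg_eq D hB (D.simple i) (c1 * t) ha
      have E3 := e1 (c1 * t)⁻¹
      have hss := h8nU_sq_mem_H (F := F) D hB (D.simple i) hp
      have hnp := hR.neglt _ hp
      obtain ⟨c2, _, e5⟩ := h8perm_H_id D hB _ (Subgroup.inv_mem _ hss) _ hnp
      have E5 := e5 (c1 * (c1 * t)⁻¹)
      have hact := h8act_inv D hB n _ _ (a7 _ (a2 _ hnp))
      rw [a4 _ hnp, a6 _ hp] at hact
      obtain ⟨c3, _, e6⟩ := hact
      have E6 := e6 (c2 * (c1 * (c1 * t)⁻¹))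
      refine ⟨h8xU D hB (D.simple i) (c1 * t)⁻¹ * h8hU D hB (D.simple i) (-(c1 * t)⁻¹) *
          (h8nU D hB (D.simple i) 1 * h8nU D hB (D.simple i) 1), ?_,
        h8xU D hB (D.negIdx.getD (τ (D.simple i)) 0) (c3 * (c2 * (c1 * (c1 * t)⁻¹))),
        h8U_le_B D (h8xU_mem_U D hB _ hneg _), ?_⟩
      · apply Subgroup.mul_mem _ (Subgroup.mul_mem _ _ _) (h8H_le_B D hss)
        · exact h8U_le_B D (h8xU_mem_U D hB _ hpp _)
        · exact h8H_le_B D (h8hU_mem_H D hB _ hp _ (neg_ne_zero.mpr (inv_ne_zero ha)))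
      · have hX : h8xU D hB (D.simple i) t = (h8nU D hB (D.simple i) (1 : F))⁻¹ *
            (h8xU D hB (D.simple i) (c1 * t)⁻¹ * h8hU D hB (D.simple i) (-(c1 * t)⁻¹) *
              h8nU D hB (D.simple i) 1 * h8xU D hB (D.simple i) (c1 * t)⁻¹) *
            h8nU D hB (D.simple i) 1 := by
          rw [← E2, ← E1]
          group
        rw [hX, ← E6, ← E5, ← E3]
        group

theorem h8bn_axiom (D : ChevalleyDatum) (hB : H8Base.{u} D) (hA : H8ReflAll D)
    (hC : H8CommAll.{u} D) (hBN : H8BN D)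
    (i : ℕ) (hi : i < D.rank) (n : GL D.Idx F) (hn : n ∈ D.monomialSubgroup F) (b : GL D.Idx F)
    (hb : b ∈ D.borelSubgroup F) :
    (∃ b1 ∈ D.borelSubgroup F, ∃ b2 ∈ D.borelSubgroup F,
      h8nU D hB (D.simple i) 1 * b * n = b1 * (h8nU D hB (D.simple i) 1 * n) * b2) ∨
    (∃ b1 ∈ D.borelSubgroup F, ∃ b2 ∈ D.borelSubgroup F,
      h8nU D hB (D.simple i) 1 * b * n = b1 * n * b2) := by
  obtain ⟨dep, par, horb⟩ := hBN.orb
  obtain ⟨hg, hrow⟩ := hBN.up i hi
  obtain ⟨hnorm, hsup⟩ := h8up_main (F := F) D hB hC i hg hrow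
  have hpp := h8simple_pos D hBN i hi
  have hmemB : b ∈ ((D.posUnipotent F ⊔ D.diagonalSubgroup F : Subgroup (GL D.Idx F)) :
      Set (GL D.Idx F)) := hb
  rw [Subgroup.coe_mul_of_right_le_normalizer_left _ _ (h8_H_le_normalizer_U D hB)] at hmemB
  obtain ⟨u, hu, h, hh, rfl⟩ := hmemB
  have hu' : u ∈ ((Subgroup.closure (h8UpSet D F (D.simple i)) ⊔ D.rootSubgroup F (D.simple i) :
      Subgroup (GL D.Idx F)) : Set (GL D.Idx F)) := by
    rw [hsup]
    exact hu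
  rw [Subgroup.coe_mul_of_right_le_normalizer_left _ _ (le_trans le_sup_left hnorm)] at hu'
  obtain ⟨u', hu'm, x, hx, rfl⟩ := hu'
  obtain ⟨t, rfl⟩ := h8rootSubgroup_mem D hB _ hpp.1 x hx
  have hsn := h8nU_normalizes_up (F := F) D hB hA i hi (hBN.sp i hi)
  have hu'' := (Subgroup.mem_normalizer_iff.mp hsn u').mp hu'm
  have hUpB : Subgroup.closure (h8UpSet D F (D.simple i)) ≤ D.borelSubgroup F := by
    refine le_trans ?_ (h8U_le_B D)
    rw [← hsup]
    exact le_sup_left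
  have hninv : n⁻¹ ∈ Subgroup.normalizer (D.diagonalSubgroup F : Set (GL D.Idx F)) :=
    h8N_le_normalizer_H D hB hA dep par horb (Subgroup.inv_mem _ hn)
  have hh'' := (Subgroup.mem_normalizer_iff.mp hninv h).mp hh
  have key : h8nU D hB (D.simple i) 1 * (u' * h8xU D hB (D.simple i) t * h) * n =
      (h8nU D hB (D.simple i) 1 * u' * (h8nU D hB (D.simple i) 1)⁻¹) *
        (h8nU D hB (D.simple i) 1 * h8xU D hB (D.simple i) t * n) * (n⁻¹ * h * n⁻¹⁻¹) := by
    group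
  rcases h8bn_core D hB hA hBN i hi n hn t with ⟨b2, hb2, e⟩ | ⟨b1, hb1, b2, hb2, e⟩
  · left
    refine ⟨_, hUpB hu'', b2 * (n⁻¹ * h * n⁻¹⁻¹),
      Subgroup.mul_mem _ hb2 (h8H_le_B D hh''), ?_⟩
    show h8nU D hB (D.simple i) 1 * (u' * h8xU D hB (D.simple i) t * h) * n = _
    rw [key, e]
    group
  · right
    refine ⟨(h8nU D hB (D.simple i) 1 * u' * (h8nU D hB (D.simple i) 1)⁻¹) * b1,
      Subgroup.mul_mem _ (hUpB hu'') hb1, b2 * (n⁻¹ * h * n⁻¹⁻¹),
      Subgroup.mul_mem _ hb2 (h8H_le_B D hh''), ?_⟩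
    show h8nU D hB (D.simple i) 1 * (u' * h8xU D hB (D.simple i) t * h) * n = _
    rw [key, e]
    group

theorem h8_union_doubleCoset_subgroup {G : Type*} [Group G] (B : Subgroup G) (s : G)
    (hs2 : s * s ∈ B)
    (hax : ∀ b ∈ B, (s * b * s ∈ B) ∨ (∃ b1 ∈ B, ∃ b2 ∈ B, s * b * s = b1 * s * b2)) :
    ∃ P : Subgroup G, (P : Set G) = (B : Set G) ∪ DoubleCoset.doubleCoset s (B : Set G) B := by
  have hsinv : s⁻¹ = s * (s * s)⁻¹ := by group
  refine ⟨{ carrier := (B : Set G) ∪ DoubleCoset.doubleCoset s (B : Set G) B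
            mul_mem' := ?_, one_mem' := Or.inl B.one_mem, inv_mem' := ?_ }, rfl⟩
  · intro x y hx hy
    rcases hx with hx | hx
    · rcases hy with hy | hy
      · exact Or.inl (B.mul_mem hx hy)
      · right
        rw [DoubleCoset.mem_doubleCoset] at hy ⊢
        obtain ⟨b1, hb1, b2, hb2, rfl⟩ := hy
        exact ⟨x * b1, B.mul_mem hx hb1, b2, hb2, by group⟩
    · rw [DoubleCoset.mem_doubleCoset] at hx
      obtain ⟨b1, hb1, b2, hb2, rfl⟩ := hx
      rcases hy with hy | hy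
      · right
        rw [DoubleCoset.mem_doubleCoset]
        exact ⟨b1, hb1, b2 * y, B.mul_mem hb2 hy, by group⟩
      · rw [DoubleCoset.mem_doubleCoset] at hy
        obtain ⟨b3, hb3, b4, hb4, rfl⟩ := hy
        have e : b1 * s * b2 * (b3 * s * b4) = b1 * (s * (b2 * b3) * s) * b4 := by group
        rw [e]
        rcases hax (b2 * b3) (B.mul_mem hb2 hb3) with h | ⟨c1, hc1, c2, hc2, h⟩
        · exact Or.inl (B.mul_mem (B.mul_mem hb1 h) hb4)
        · right
          rw [DoubleCoset.mem_doubleCoset, h]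
          exact ⟨b1 * c1, B.mul_mem hb1 hc1, c2 * b4, B.mul_mem hc2 hb4, by group⟩
  · intro x hx
    rcases hx with hx | hx
    · exact Or.inl (B.inv_mem hx)
    · right
      rw [DoubleCoset.mem_doubleCoset] at hx ⊢
      obtain ⟨b1, hb1, b2, hb2, rfl⟩ := hx
      refine ⟨b2⁻¹, B.inv_mem hb2, (s * s)⁻¹ * b1⁻¹, B.mul_mem (B.inv_mem hs2) (B.inv_mem hb1), ?_⟩
      group

theorem h8bn_union_subgroup (D : ChevalleyDatum) (hB : H8Base.{u} D) (hA : H8ReflAll D)
    (hC : H8CommAll.{u} D) (hBN : H8BN D) (i : ℕ) (hi : i < D.rank) :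
    ∃ P : Subgroup (GL D.Idx F), (P : Set (GL D.Idx F)) =
      (D.borelSubgroup F : Set (GL D.Idx F)) ∪
        DoubleCoset.doubleCoset (h8nU D hB (D.simple i) (1 : F))
          (D.borelSubgroup F : Set (GL D.Idx F)) (D.borelSubgroup F) := by
  have hpp := h8simple_pos D hBN i hi
  have hss := h8nU_sq_mem_H (F := F) D hB (D.simple i) hpp.1
  apply h8_union_doubleCoset_subgroup _ _ (h8H_le_B D hss)
  intro b hb
  rcases h8bn_axiom D hB hA hC hBN i hi _ (h8nU_mem_N D hB _ hpp.1) b hb with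
    ⟨b1, hb1, b2, hb2, e⟩ | ⟨b1, hb1, b2, hb2, e⟩
  · left
    rw [e]
    exact Subgroup.mul_mem _ (Subgroup.mul_mem _ hb1 (h8H_le_B D hss)) hb2
  · right
    exact ⟨b1, hb1, b2, hb2, e⟩

end Cfsg.Agent.Lib.helper8
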