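import Mathlib
import Cfsg.Prelude.Def_ChevE6
import Cfsg.Agent.Lib.helper8.ChevNgen

set_option autoImplicit false

namespace Cfsg.Agent.Lib.helper8

open Cfsg.Lie

def h8dep_E6 : List ℕ := [11, 10, 9, 8, 7, 8, 7, 6, 6, 5, 4, 5, 4, 3, 2, 1, 7, 6, 5, 5, 4, 3, 4, 3, 2, 1, 4, 3, 2, 1, 3, 2, 1, 2, 1, 1, 0, 0, 1, 0, 1, 2, 0, 1, 2, 3, 0, 1, 2, 3, 2, 3, 4, 4, 5, 6, 0, 1, 2, 3, 4, 3, 4, 5, 5, 6, 7, 6, 7, 8, 9, 10]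

def h8par_E6 : List ℕ := [1, 3, 4, 5, 2, 4, 5, 3, 5, 4, 1, 5, 4, 3, 2, 0, 4, 5, 3, 5, 4, 2, 5, 4, 3, 1, 5, 4, 3, 2, 5, 4, 3, 5, 4, 5, 0, 0, 5, 0, 4, 5, 0, 3, 4, 5, 0, 3, 4, 5, 2, 4, 5, 3, 5, 4, 0, 2, 3, 4, 5, 1, 4, 5, 3, 5, 4, 2, 5, 4, 3, 1]

set_option maxRecDepth 100000 in
theorem h8orbChk_E6 : h8orbChk chevE6 h8dep_E6 h8par_E6 = true := by decide +kernel

end Cfsg.Agent.Lib.helper8
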