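import Mathlib
import Cfsg.Prelude.Def_ChevE8
import Cfsg.Agent.Lib.helper8.ChevNgen

set_option autoImplicit false

namespace Cfsg.Agent.Lib.helper8

open Cfsg.Lie

def h8dep_E8 : List ℕ := [29, 28, 27, 26, 25, 24, 23, 23, 22, 21, 20, 19, 18, 17, 22, 21, 20, 19, 18, 17, 16, 19, 18, 17, 16, 15, 17, 16, 15, 14, 15, 14, 13, 13, 12, 11, 16, 15, 14, 13, 14, 13, 12, 12, 11, 10, 13, 12, 11, 11, 10, 9, 10, 9, 8, 7, 12, 11, 10, 10, 9, 8, 9, 8, 7, 6, 8, 7, 6, 5, 4, 7, 6, 5, 4, 3, 2, 1, 11, 10, 9, 9, 8, 7, 8, 7, 6, 5, 7, 6, 5, 4, 3, 6, 5, 4, 3, 2, 1, 6, 5, 4, 3, 2, 1, 5, 4, 3, 2, 1, 4, 3, 2, 1, 3, 2, 1, 2, 1, 1, 0, 0, 1, 0, 1, 2, 0, 1, 2, 3, 0, 1, 2, 3, 4, 0, 1, 2, 3, 4, 5, 0, 1, 2, 3, 4, 5, 2, 3,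 4, 5, 6, 4, 5, 6, 7, 6, 7, 8, 8, 9, 10, 0, 1, 2, 3, 4, 5, 6, 3, 4, 5, 6, 7, 5, 6, 7, 8, 7, 8, 9, 9, 10, 11, 6, 7, 8, 9, 8, 9, 10, 10, 11, 12, 9, 10, 11, 11, 12, 13, 12, 13, 14, 15, 10, 11, 12, 12, 13, 14, 13, 14, 15, 16, 14, 15, 16, 17, 18, 15, 16, 17, 18, 19, 20, 21, 16, 17, 18, 19, 20, 21, 22, 22, 23, 24, 25, 26, 27, 28]

def h8par_E8 : List ℕ := [7, 6, 5, 4, 3, 2, 1, 2, 3, 4, 5, 6, 7, 0, 1, 3, 4, 5, 6, 7, 2, 4, 5, 6, 7, 3, 5, 6, 7, 4, 6, 7, 5, 7, 6, 1, 5, 6, 7, 4, 6, 7, 5, 7, 6, 3, 6, 7, 5, 7, 6, 4, 7, 6, 5, 2, 6, 7, 5, 7, 6, 4, 7, 6, 5, 3, 7, 6, 5, 4, 1, 7, 6, 5, 4, 3, 2, 0, 6, 7, 5, 7, 6, 4, 7, 6, 5, 3, 7, 6, 5, 4, 2, 7, 6, 5, 4, 3, 1, 7, 6, 5, 4, 3, 2, 7, 6, 5, 4, 3, 7, 6, 5, 4,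 7, 6, 5, 7, 6, 7, 0, 0, 7, 0, 6, 7, 0, 5, 6, 7, 0, 4, 5, 6, 7, 0, 3, 4, 5, 6, 7, 0, 3, 4, 5, 6, 7, 2, 4, 5, 6, 7, 3, 5, 6, 7, 4, 6, 7, 5, 7, 6, 0, 2, 3, 4, 5, 6, 7, 1, 4, 5, 6, 7, 3, 5, 6, 7, 4, 6, 7, 5, 7, 6, 2, 5, 6, 7, 4, 6, 7, 5, 7, 6, 3, 6, 7, 5, 7, 6, 4, 7, 6, 5, 1, 6, 7, 5, 7, 6, 4, 7, 6, 5, 3, 7, 6, 5, 4, 2, 7, 6, 5, 4, 3, 1, 0, 7, 6, 5, 4, 3, 2, 1, 2, 3, 4, 5, 6, 7]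

set_option maxRecDepth 100000 in
theorem h8orbChk_E8 : h8orbChk chevE8 h8dep_E8 h8par_E8 = true := by decide +kernel

end Cfsg.Agent.Lib.helper8
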