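import Mathlib
import Cfsg.Prelude.Def_ChevG2
import Cfsg.Agent.Lib.helper8.ChevNgen

set_option autoImplicit false

namespace Cfsg.Agent.Lib.helper8

open Cfsg.Lie

def h8dep_G2 : List ℕ := [3, 2, 3, 2, 1, 1, 0, 0, 1, 2, 1, 2]

def h8par_G2 : List ℕ := [1, 0, 0, 1, 0, 1, 0, 0, 1, 0, 0, 1]

set_option maxRecDepth 100000 in
theorem h8orbChk_G2 : h8orbChk chevG2 h8dep_G2 h8par_G2 = true := by decide +kernel

end Cfsg.Agent.Lib.helper8
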