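import Mathlib
import Cfsg.Agent.Lib.helper8.ChevTabOrbG2
import Cfsg.Agent.Lib.helper8.ChevTabOrbB2
import Cfsg.Agent.Lib.helper8.ChevTabOrbD4
import Cfsg.Agent.Lib.helper8.ChevTabOrbF4
import Cfsg.Agent.Lib.helper8.ChevTabOrbE6
import Cfsg.Agent.Lib.helper8.ChevTabOrbE7
import Cfsg.Agent.Lib.helper8.ChevTabOrbE8

set_option autoImplicit false

namespace Cfsg.Agent.Lib.helper8

open Cfsg.Lie Cfsg.Lie.ChevalleyDatum

theorem h8orb_chk_all (D : ChevalleyDatum)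
    (hD : D ∈ [chevG2, chevB2, chevD4, chevF4, chevE6, chevE7, chevE8]) :
    ∃ dep par : List ℕ, h8orbChk D dep par = true := by
  simp only [List.mem_cons, List.mem_nil_iff, or_false] at hD
  rcases hD with rfl | rfl | rfl | rfl | rfl | rfl | rfl
  · exact ⟨h8dep_G2, h8par_G2, h8orbChk_G2⟩
  · exact ⟨h8dep_B2, h8par_B2, h8orbChk_B2⟩
  · exact ⟨h8dep_D4, h8par_D4, h8orbChk_D4⟩
  · exact ⟨h8dep_F4, h8par_F4, h8orbChk_F4⟩
  · exact ⟨h8dep_E6, h8par_E6, h8orbChk_E6⟩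
  · exact ⟨h8dep_E7, h8par_E7, h8orbChk_E7⟩
  · exact ⟨h8dep_E8, h8par_E8, h8orbChk_E8⟩

end Cfsg.Agent.Lib.helper8
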