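import Mathlib
import Cfsg.Prelude.Def_ChevB2
import Cfsg.Agent.Lib.helper8.ChevBN2

set_option autoImplicit false

namespace Cfsg.Agent.Lib.helper8

open Cfsg.Lie

set_option maxRecDepth 100000 in
theorem h8spChk_B2_0 : h8spChk chevB2 0 = true := by decide +kernel

set_option maxRecDepth 100000 in
theorem h8spChk_B2_1 : h8spChk chevB2 1 = true := by decide +kernel

theorem h8sp_B2 (i : ℕ) (hi : i < chevB2.rank) : h8spChk chevB2 i = true := by
  have hr : chevB2.rank = 2 := rfl
  rw [hr] at hi
  interval_cases i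
  · exact h8spChk_B2_0
  · exact h8spChk_B2_1

end Cfsg.Agent.Lib.helper8
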