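import Mathlib
import Cfsg.Prelude.Def_ChevD4
import Cfsg.Agent.Lib.helper8.ChevBN2

set_option autoImplicit false

namespace Cfsg.Agent.Lib.helper8

open Cfsg.Lie

set_option maxRecDepth 100000 in
theorem h8spChk_D4_0 : h8spChk chevD4 0 = true := by decide +kernel

set_option maxRecDepth 100000 in
theorem h8spChk_D4_1 : h8spChk chevD4 1 = true := by decide +kernel

set_option maxRecDepth 100000 in
theorem h8spChk_D4_2 : h8spChk chevD4 2 = true := by decide +kernel

set_option maxRecDepth 100000 in
theorem h8spChk_D4_3 : h8spChk chevD4 3 = true := by decide +kernel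

theorem h8sp_D4 (i : ℕ) (hi : i < chevD4.rank) : h8spChk chevD4 i = true := by
  have hr : chevD4.rank = 4 := rfl
  rw [hr] at hi
  interval_cases i
  · exact h8spChk_D4_0
  · exact h8spChk_D4_1
  · exact h8spChk_D4_2
  · exact h8spChk_D4_3

end Cfsg.Agent.Lib.helper8
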