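import Mathlib
import Cfsg.Prelude.Def_ChevE8
import Cfsg.Agent.Lib.helper8.ChevBN2

set_option autoImplicit false

namespace Cfsg.Agent.Lib.helper8

open Cfsg.Lie

set_option maxRecDepth 100000 in
theorem h8spChk_E8_0 : h8spChk chevE8 0 = true := by decide +kernel

set_option maxRecDepth 100000 in
theorem h8spChk_E8_1 : h8spChk chevE8 1 = true := by decide +kernel

set_option maxRecDepth 100000 in
theorem h8spChk_E8_2 : h8spChk chevE8 2 = true := by decide +kernel

set_option maxRecDepth 100000 in
theorem h8spChk_E8_3 : h8spChk chevE8 3 = true := by decide +kernel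

set_option maxRecDepth 100000 in
theorem h8spChk_E8_4 : h8spChk chevE8 4 = true := by decide +kernel

set_option maxRecDepth 100000 in
theorem h8spChk_E8_5 : h8spChk chevE8 5 = true := by decide +kernel

set_option maxRecDepth 100000 in
theorem h8spChk_E8_6 : h8spChk chevE8 6 = true := by decide +kernel

set_option maxRecDepth 100000 in
theorem h8spChk_E8_7 : h8spChk chevE8 7 = true := by decide +kernel

theorem h8sp_E8 (i : ℕ) (hi : i < chevE8.rank) : h8spChk chevE8 i = true := by
  have hr : chevE8.rank = 8 := rfl
  rw [hr] at hi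
  interval_cases i
  · exact h8spChk_E8_0
  · exact h8spChk_E8_1
  · exact h8spChk_E8_2
  · exact h8spChk_E8_3
  · exact h8spChk_E8_4
  · exact h8spChk_E8_5
  · exact h8spChk_E8_6
  · exact h8spChk_E8_7

end Cfsg.Agent.Lib.helper8
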