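import Mathlib
import Cfsg.Prelude.Def_ChevF4
import Cfsg.Agent.Lib.helper8.ChevBN2

set_option autoImplicit false

namespace Cfsg.Agent.Lib.helper8

open Cfsg.Lie

set_option maxRecDepth 100000 in
theorem h8spChk_F4_0 : h8spChk chevF4 0 = true := by decide +kernel

set_option maxRecDepth 100000 in
theorem h8spChk_F4_1 : h8spChk chevF4 1 = true := by decide +kernel

set_option maxRecDepth 100000 in
theorem h8spChk_F4_2 : h8spChk chevF4 2 = true := by decide +kernel

set_option maxRecDepth 100000 in
theorem h8spChk_F4_3 : h8spChk chevF4 3 = true := by decide +kernel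

theorem h8sp_F4 (i : ℕ) (hi : i < chevF4.rank) : h8spChk chevF4 i = true := by
  have hr : chevF4.rank = 4 := rfl
  rw [hr] at hi
  interval_cases i
  · exact h8spChk_F4_0
  · exact h8spChk_F4_1
  · exact h8spChk_F4_2
  · exact h8spChk_F4_3

end Cfsg.Agent.Lib.helper8
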