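import Mathlib
import Cfsg.Prelude.Def_ChevB2
import Cfsg.Agent.Lib.helper8.ChevTabUpB2

set_option autoImplicit false

namespace Cfsg.Agent.Lib.helper8

open Cfsg.Lie

theorem h8up_B2 (i : ℕ) (hi : i < chevB2.rank) :
    h8upGlob chevB2 i = true ∧ ∀ s < chevB2.nroots, h8upRow chevB2 i s = true := by
  have hr : chevB2.rank = 2 := rfl
  rw [hr] at hi
  have hn : chevB2.nroots = 8 := rfl
  rw [hn]
  interval_cases i
  · exact ⟨h8upGlob_B2_0, fun s hs => h8rows_of_chunk _ _ _ h8upRows_B2_0 s (by omega) (by omega)⟩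
  · exact ⟨h8upGlob_B2_1, fun s hs => h8rows_of_chunk _ _ _ h8upRows_B2_1 s (by omega) (by omega)⟩

end Cfsg.Agent.Lib.helper8
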