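import Mathlib
import Cfsg.Prelude.Def_ChevD4
import Cfsg.Agent.Lib.helper8.ChevUp

set_option autoImplicit false

namespace Cfsg.Agent.Lib.helper8

open Cfsg.Lie

set_option maxRecDepth 100000 in
theorem h8upGlob_D4_0 : h8upGlob chevD4 0 = true := by decide +kernel

set_option maxRecDepth 100000 in
theorem h8upRows_D4_0 : (List.range' 0 24).all (h8upRow chevD4 0) = true := by decide +kernel

set_option maxRecDepth 100000 in
theorem h8upGlob_D4_1 : h8upGlob chevD4 1 = true := by decide +kernel

set_option maxRecDepth 100000 in
theorem h8upRows_D4_1 : (List.range' 0 24).all (h8upRow chevD4 1) = true := by decide +kernel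

set_option maxRecDepth 100000 in
theorem h8upGlob_D4_2 : h8upGlob chevD4 2 = true := by decide +kernel

set_option maxRecDepth 100000 in
theorem h8upRows_D4_2 : (List.range' 0 24).all (h8upRow chevD4 2) = true := by decide +kernel

set_option maxRecDepth 100000 in
theorem h8upGlob_D4_3 : h8upGlob chevD4 3 = true := by decide +kernel

set_option maxRecDepth 100000 in
theorem h8upRows_D4_3 : (List.range' 0 24).all (h8upRow chevD4 3) = true := by decide +kernel


end Cfsg.Agent.Lib.helper8
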