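import Mathlib
import Cfsg.Prelude.Def_ChevD4
import Cfsg.Agent.Lib.helper8.ChevTabUpD4

set_option autoImplicit false

namespace Cfsg.Agent.Lib.helper8

open Cfsg.Lie

theorem h8up_D4 (i : ℕ) (hi : i < chevD4.rank) :
    h8upGlob chevD4 i = true ∧ ∀ s < chevD4.nroots, h8upRow chevD4 i s = true := by
  have hr : chevD4.rank = 4 := rfl
  rw [hr] at hi
  have hn : chevD4.nroots = 24 := rfl
  rw [hn]
  interval_cases i
  · exact ⟨h8upGlob_D4_0, fun s hs => h8rows_of_chunk _ _ _ h8upRows_D4_0 s (by omega) (by omega)⟩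
  · exact ⟨h8upGlob_D4_1, fun s hs => h8rows_of_chunk _ _ _ h8upRows_D4_1 s (by omega) (by omega)⟩
  · exact ⟨h8upGlob_D4_2, fun s hs => h8rows_of_chunk _ _ _ h8upRows_D4_2 s (by omega) (by omega)⟩
  · exact ⟨h8upGlob_D4_3, fun s hs => h8rows_of_chunk _ _ _ h8upRows_D4_3 s (by omega) (by omega)⟩

end Cfsg.Agent.Lib.helper8
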