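import Mathlib
import Cfsg.Prelude.Def_ChevE6
import Cfsg.Agent.Lib.helper8.ChevTabUpE6

set_option autoImplicit false

namespace Cfsg.Agent.Lib.helper8

open Cfsg.Lie

theorem h8up_E6 (i : ℕ) (hi : i < chevE6.rank) :
    h8upGlob chevE6 i = true ∧ ∀ s < chevE6.nroots, h8upRow chevE6 i s = true := by
  have hr : chevE6.rank = 6 := rfl
  rw [hr] at hi
  have hn : chevE6.nroots = 72 := rfl
  rw [hn]
  interval_cases i
  · exact ⟨h8upGlob_E6_0, fun s hs => h8rows_of_chunk _ _ _ h8upRows_E6_0 s (by omega) (by omega)⟩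
  · exact ⟨h8upGlob_E6_1, fun s hs => h8rows_of_chunk _ _ _ h8upRows_E6_1 s (by omega) (by omega)⟩
  · exact ⟨h8upGlob_E6_2, fun s hs => h8rows_of_chunk _ _ _ h8upRows_E6_2 s (by omega) (by omega)⟩
  · exact ⟨h8upGlob_E6_3, fun s hs => h8rows_of_chunk _ _ _ h8upRows_E6_3 s (by omega) (by omega)⟩
  · exact ⟨h8upGlob_E6_4, fun s hs => h8rows_of_chunk _ _ _ h8upRows_E6_4 s (by omega) (by omega)⟩
  · exact ⟨h8upGlob_E6_5, fun s hs => h8rows_of_chunk _ _ _ h8upRows_E6_5 s (by omega) (by omega)⟩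

end Cfsg.Agent.Lib.helper8
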