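import Mathlib
import Cfsg.Prelude.Def_ChevE7
import Cfsg.Agent.Lib.helper8.ChevUp

set_option autoImplicit false

namespace Cfsg.Agent.Lib.helper8

open Cfsg.Lie

set_option maxRecDepth 100000 in
theorem h8upGlob_E7_0 : h8upGlob chevE7 0 = true := by decide +kernel

set_option maxRecDepth 100000 in
theorem h8upRows_E7_0 : (List.range' 0 126).all (h8upRow chevE7 0) = true := by decide +kernel

set_option maxRecDepth 100000 in
theorem h8upGlob_E7_1 : h8upGlob chevE7 1 = true := by decide +kernel

set_option maxRecDepth 100000 in
theorem h8upRows_E7_1 : (List.range' 0 126).all (h8upRow chevE7 1) = true := by decide +kernel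

set_option maxRecDepth 100000 in
theorem h8upGlob_E7_2 : h8upGlob chevE7 2 = true := by decide +kernel

set_option maxRecDepth 100000 in
theorem h8upRows_E7_2 : (List.range' 0 126).all (h8upRow chevE7 2) = true := by decide +kernel

set_option maxRecDepth 100000 in
theorem h8upGlob_E7_3 : h8upGlob chevE7 3 = true := by decide +kernel

set_option maxRecDepth 100000 in
theorem h8upRows_E7_3 : (List.range' 0 126).all (h8upRow chevE7 3) = true := by decide +kernel

set_option maxRecDepth 100000 in
theorem h8upGlob_E7_4 : h8upGlob chevE7 4 = true := by decide +kernel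

set_option maxRecDepth 100000 in
theorem h8upRows_E7_4 : (List.range' 0 126).all (h8upRow chevE7 4) = true := by decide +kernel

set_option maxRecDepth 100000 in
theorem h8upGlob_E7_5 : h8upGlob chevE7 5 = true := by decide +kernel

set_option maxRecDepth 100000 in
theorem h8upRows_E7_5 : (List.range' 0 126).all (h8upRow chevE7 5) = true := by decide +kernel

set_option maxRecDepth 100000 in
theorem h8upGlob_E7_6 : h8upGlob chevE7 6 = true := by decide +kernel

set_option maxRecDepth 100000 in
theorem h8upRows_E7_6 : (List.range' 0 126).all (h8upRow chevE7 6) = true := by decide +kernel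


end Cfsg.Agent.Lib.helper8
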