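import Mathlib
import Cfsg.Prelude.Def_ChevE7
import Cfsg.Agent.Lib.helper8.ChevTabUpE7

set_option autoImplicit false

namespace Cfsg.Agent.Lib.helper8

open Cfsg.Lie

theorem h8up_E7 (i : ℕ) (hi : i < chevE7.rank) :
    h8upGlob chevE7 i = true ∧ ∀ s < chevE7.nroots, h8upRow chevE7 i s = true := by
  have hr : chevE7.rank = 7 := rfl
  rw [hr] at hi
  have hn : chevE7.nroots = 126 := rfl
  rw [hn]
  interval_cases i
  · exact ⟨h8upGlob_E7_0, fun s hs => h8rows_of_chunk _ _ _ h8upRows_E7_0 s (by omega) (by omega)⟩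
  · exact ⟨h8upGlob_E7_1, fun s hs => h8rows_of_chunk _ _ _ h8upRows_E7_1 s (by omega) (by omega)⟩
  · exact ⟨h8upGlob_E7_2, fun s hs => h8rows_of_chunk _ _ _ h8upRows_E7_2 s (by omega) (by omega)⟩
  · exact ⟨h8upGlob_E7_3, fun s hs => h8rows_of_chunk _ _ _ h8upRows_E7_3 s (by omega) (by omega)⟩
  · exact ⟨h8upGlob_E7_4, fun s hs => h8rows_of_chunk _ _ _ h8upRows_E7_4 s (by omega) (by omega)⟩
  · exact ⟨h8upGlob_E7_5, fun s hs => h8rows_of_chunk _ _ _ h8upRows_E7_5 s (by omega) (by omega)⟩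
  · exact ⟨h8upGlob_E7_6, fun s hs => h8rows_of_chunk _ _ _ h8upRows_E7_6 s (by omega) (by omega)⟩

end Cfsg.Agent.Lib.helper8
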