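import Mathlib
import Cfsg.Prelude.Def_ChevE8
import Cfsg.Agent.Lib.helper8.ChevUp

set_option autoImplicit false

namespace Cfsg.Agent.Lib.helper8

open Cfsg.Lie

set_option maxRecDepth 100000 in
theorem h8upGlob_E8_4 : h8upGlob chevE8 4 = true := by decide +kernel

set_option maxRecDepth 100000 in
theorem h8upRows_E8_4 : (List.range' 0 240).all (h8upRow chevE8 4) = true := by decide +kernel

set_option maxRecDepth 100000 in
theorem h8upGlob_E8_5 : h8upGlob chevE8 5 = true := by decide +kernel

set_option maxRecDepth 100000 in
theorem h8upRows_E8_5 : (List.range' 0 240).all (h8upRow chevE8 5) = true := by decide +kernel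

set_option maxRecDepth 100000 in
theorem h8upGlob_E8_6 : h8upGlob chevE8 6 = true := by decide +kernel

set_option maxRecDepth 100000 in
theorem h8upRows_E8_6 : (List.range' 0 240).all (h8upRow chevE8 6) = true := by decide +kernel

set_option maxRecDepth 100000 in
theorem h8upGlob_E8_7 : h8upGlob chevE8 7 = true := by decide +kernel

set_option maxRecDepth 100000 in
theorem h8upRows_E8_7 : (List.range' 0 240).all (h8upRow chevE8 7) = true := by decide +kernel


end Cfsg.Agent.Lib.helper8
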