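import Mathlib
import Cfsg.Prelude.Def_ChevE8
import Cfsg.Agent.Lib.helper8.ChevTabUpE8a
import Cfsg.Agent.Lib.helper8.ChevTabUpE8b

set_option autoImplicit false

namespace Cfsg.Agent.Lib.helper8

open Cfsg.Lie

theorem h8up_E8 (i : ℕ) (hi : i < chevE8.rank) :
    h8upGlob chevE8 i = true ∧ ∀ s < chevE8.nroots, h8upRow chevE8 i s = true := by
  have hr : chevE8.rank = 8 := rfl
  rw [hr] at hi
  have hn : chevE8.nroots = 240 := rfl
  rw [hn]
  interval_cases i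
  · exact ⟨h8upGlob_E8_0, fun s hs => h8rows_of_chunk _ _ _ h8upRows_E8_0 s (by omega) (by omega)⟩
  · exact ⟨h8upGlob_E8_1, fun s hs => h8rows_of_chunk _ _ _ h8upRows_E8_1 s (by omega) (by omega)⟩
  · exact ⟨h8upGlob_E8_2, fun s hs => h8rows_of_chunk _ _ _ h8upRows_E8_2 s (by omega) (by omega)⟩
  · exact ⟨h8upGlob_E8_3, fun s hs => h8rows_of_chunk _ _ _ h8upRows_E8_3 s (by omega) (by omega)⟩
  · exact ⟨h8upGlob_E8_4, fun s hs => h8rows_of_chunk _ _ _ h8upRows_E8_4 s (by omega) (by omega)⟩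
  · exact ⟨h8upGlob_E8_5, fun s hs => h8rows_of_chunk _ _ _ h8upRows_E8_5 s (by omega) (by omega)⟩
  · exact ⟨h8upGlob_E8_6, fun s hs => h8rows_of_chunk _ _ _ h8upRows_E8_6 s (by omega) (by omega)⟩
  · exact ⟨h8upGlob_E8_7, fun s hs => h8rows_of_chunk _ _ _ h8upRows_E8_7 s (by omega) (by omega)⟩

end Cfsg.Agent.Lib.helper8
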