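import Mathlib
import Cfsg.Prelude.Def_ChevG2
import Cfsg.Agent.Lib.helper8.ChevUp

set_option autoImplicit false

namespace Cfsg.Agent.Lib.helper8

open Cfsg.Lie

set_option maxRecDepth 100000 in
theorem h8upGlob_G2_0 : h8upGlob chevG2 0 = true := by decide +kernel

set_option maxRecDepth 100000 in
theorem h8upRows_G2_0 : (List.range' 0 12).all (h8upRow chevG2 0) = true := by decide +kernel

set_option maxRecDepth 100000 in
theorem h8upGlob_G2_1 : h8upGlob chevG2 1 = true := by decide +kernel

set_option maxRecDepth 100000 in
theorem h8upRows_G2_1 : (List.range' 0 12).all (h8upRow chevG2 1) = true := by decide +kernel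


end Cfsg.Agent.Lib.helper8
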