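import Mathlib
import Cfsg.Prelude.Def_ChevG2
import Cfsg.Agent.Lib.helper8.ChevTabUpG2

set_option autoImplicit false

namespace Cfsg.Agent.Lib.helper8

open Cfsg.Lie

theorem h8up_G2 (i : ℕ) (hi : i < chevG2.rank) :
    h8upGlob chevG2 i = true ∧ ∀ s < chevG2.nroots, h8upRow chevG2 i s = true := by
  have hr : chevG2.rank = 2 := rfl
  rw [hr] at hi
  have hn : chevG2.nroots = 12 := rfl
  rw [hn]
  interval_cases i
  · exact ⟨h8upGlob_G2_0, fun s hs => h8rows_of_chunk _ _ _ h8upRows_G2_0 s (by omega) (by omega)⟩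
  · exact ⟨h8upGlob_G2_1, fun s hs => h8rows_of_chunk _ _ _ h8upRows_G2_1 s (by omega) (by omega)⟩

end Cfsg.Agent.Lib.helper8
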