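import Mathlib
import Cfsg.Prelude.Def_ChevStructure
import Cfsg.Agent.Lib.helper8.ChevUpDataG2
import Cfsg.Agent.Lib.helper8.ChevUpDataB2
import Cfsg.Agent.Lib.helper8.ChevUpDataD4
import Cfsg.Agent.Lib.helper8.ChevUpDataF4
import Cfsg.Agent.Lib.helper8.ChevUpDataE6
import Cfsg.Agent.Lib.helper8.ChevUpDataE7
import Cfsg.Agent.Lib.helper8.ChevUpDataE8

set_option autoImplicit false

namespace Cfsg.Agent.Lib.helper8

open Cfsg.Lie

theorem h8up_all (D : ChevalleyDatum)
    (hD : D ∈ [chevG2, chevB2, chevD4, chevF4, chevE6, chevE7, chevE8]) (i : ℕ) (hi : i < D.rank) :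
    h8upGlob D i = true ∧ ∀ s < D.nroots, h8upRow D i s = true := by
  simp only [List.mem_cons, List.not_mem_nil, or_false] at hD
  rcases hD with rfl | rfl | rfl | rfl | rfl | rfl | rfl
  · exact h8up_G2 i hi
  · exact h8up_B2 i hi
  · exact h8up_D4 i hi
  · exact h8up_F4 i hi
  · exact h8up_E6 i hi
  · exact h8up_E7 i hi
  · exact h8up_E8 i hi

end Cfsg.Agent.Lib.helper8
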