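import Mathlib
import Cfsg.Prelude.Def_ChevStructure
import Cfsg.Agent.Lib.helper8.ChevTabSpG2
import Cfsg.Agent.Lib.helper8.ChevTabSpB2
import Cfsg.Agent.Lib.helper8.ChevTabSpD4
import Cfsg.Agent.Lib.helper8.ChevTabSpF4
import Cfsg.Agent.Lib.helper8.ChevTabSpE6
import Cfsg.Agent.Lib.helper8.ChevTabSpE7
import Cfsg.Agent.Lib.helper8.ChevTabSpE8
import Cfsg.Agent.Lib.helper8.ChevBN3
import Cfsg.Agent.Lib.helper8.ChevUpAll
import Cfsg.Agent.Lib.helper8.ChevNegAll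
import Cfsg.Agent.Lib.helper8.ChevOrbAll

set_option autoImplicit false

namespace Cfsg.Agent.Lib.helper8

open Cfsg.Lie

theorem h8sp_all (D : ChevalleyDatum)
    (hD : D ∈ [chevG2, chevB2, chevD4, chevF4, chevE6, chevE7, chevE8]) (i : ℕ) (hi : i < D.rank) :
    h8spChk D i = true := by
  simp only [List.mem_cons, List.not_mem_nil, or_false] at hD
  rcases hD with rfl | rfl | rfl | rfl | rfl | rfl | rfl
  · exact h8sp_G2 i hi
  · exact h8sp_B2 i hi
  · exact h8sp_D4 i hi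
  · exact h8sp_F4 i hi
  · exact h8sp_E6 i hi
  · exact h8sp_E7 i hi
  · exact h8sp_E8 i hi

theorem h8bn_all (D : ChevalleyDatum)
    (hD : D ∈ [chevG2, chevB2, chevD4, chevF4, chevE6, chevE7, chevE8]) : H8BN D :=
  ⟨h8NegOK_all D hD, h8sp_all D hD, h8up_all D hD, h8orb_chk_all D hD⟩

end Cfsg.Agent.Lib.helper8
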