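import Mathlib
import Cfsg.Prelude.Def_ChevStructure
import Cfsg.Agent.Lib.helper8.ChevGroup
import Cfsg.Agent.Lib.helper8.ChevTriNeg

set_option autoImplicit false

namespace Cfsg.Agent.Lib.helper8

open Cfsg.Lie Cfsg.Lie.ChevalleyDatum

universe u

variable {F : Type u} [Field F]

theorem h8tri_diagonal {ι : Type*} [Fintype ι] [DecidableEq ι] (ρ : ι → ℕ) (d : ι → F) :
    H8Tri ρ 0 (Matrix.diagonal d) := by
  intro i j h
  by_cases hij : i = j
  · subst hij; omega
  · exact absurd (Matrix.diagonal_apply_ne _ hij) h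

def h8TriSubgroup {ι : Type*} [Fintype ι] [DecidableEq ι] (ρ : ι → ℕ) : Subgroup (GL ι F) where
  carrier := {g | H8Tri ρ 0 (g : Matrix ι ι F) ∧ H8Tri ρ 0 ((g⁻¹ : GL ι F) : Matrix ι ι F)}
  mul_mem' := by
    rintro a b ⟨ha, ha'⟩ ⟨hb, hb'⟩
    refine ⟨?_, ?_⟩
    · rw [Units.val_mul]
      have := ha.mul hb
      simpa using this
    · rw [mul_inv_rev, Units.val_mul]
      have := hb'.mul ha'
      simpa using this
  one_mem' := by
    refine ⟨?_, ?_⟩
    · rw [Units.val_one]; exact H8Tri.one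
    · rw [inv_one, Units.val_one]; exact H8Tri.one
  inv_mem' := by
    rintro a ⟨ha, ha'⟩
    exact ⟨ha', by rwa [inv_inv]⟩

theorem h8_U_le_tri (D : ChevalleyDatum) (hB : H8Base.{u} D) :
    D.posUnipotent F ≤ h8TriSubgroup (h8rho D) := by
  intro g hg
  exact ⟨h8unitri_tri (h8_posUnipotent_unitri D hB.posOK g hg),
    h8unitri_tri (h8_posUnipotent_unitri D hB.posOK g⁻¹ (Subgroup.inv_mem _ hg))⟩

theorem h8_H_le_tri (D : ChevalleyDatum) (hB : H8Base.{u} D) (ρ : D.Idx → ℕ) :
    D.diagonalSubgroup F ≤ h8TriSubgroup ρ := by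
  intro g hg
  obtain ⟨d, hd⟩ := h8_diag_of_mem_H D hB g hg
  obtain ⟨d', hd'⟩ := h8_diag_of_mem_H D hB g⁻¹ (Subgroup.inv_mem _ hg)
  refine ⟨?_, ?_⟩
  · rw [hd]; exact h8tri_diagonal ρ d
  · rw [hd']; exact h8tri_diagonal ρ d'

theorem h8_B_le_tri (D : ChevalleyDatum) (hB : H8Base.{u} D) :
    D.borelSubgroup F ≤ h8TriSubgroup (h8rho D) := by
  unfold ChevalleyDatum.borelSubgroup
  exact sup_le (h8_U_le_tri D hB) (h8_H_le_tri D hB _)

theorem h8_B_inf_V (D : ChevalleyDatum) (hB : H8Base.{u} D) (hN : h8NegOK D = true) :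
    D.borelSubgroup F ⊓ D.negUnipotent F = ⊥ := by
  rw [eq_bot_iff]
  intro g hg
  rw [Subgroup.mem_inf] at hg
  have h1 := (h8_B_le_tri D hB hg.1).1
  have h2 := h8_negUnipotent_unitri D hN g hg.2
  rw [Subgroup.mem_bot]
  apply Units.ext
  rw [Units.val_one]
  ext i j
  by_cases hij : i = j
  · subst hij
    by_contra hne
    have h3 : ((g : Matrix D.Idx D.Idx F) - 1) i i ≠ 0 := by
      rw [Matrix.sub_apply, Matrix.one_apply_eq]
      intro h0
      apply hne
      rw [Matrix.one_apply_eq]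
      exact sub_eq_zero.mp h0
    have := h2 i i h3
    omega
  · rw [Matrix.one_apply_ne hij]
    by_contra hne
    have h3 : ((g : Matrix D.Idx D.Idx F) - 1) i j ≠ 0 := by
      rw [Matrix.sub_apply, Matrix.one_apply_ne hij, sub_zero]
      exact hne
    have h4 := h2 i j h3
    rw [h8rho'_le_iff] at h4
    have h5 := h1 i j hne
    omega

theorem h8_B_inf_VH (D : ChevalleyDatum) (hB : H8Base.{u} D) (hN : h8NegOK D = true) :
    D.borelSubgroup F ⊓ (D.negUnipotent F ⊔ D.diagonalSubgroup F) = D.diagonalSubgroup F := by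
  apply le_antisymm
  · intro g hg
    rw [Subgroup.mem_inf] at hg
    have hmem : g ∈ ((D.negUnipotent F ⊔ D.diagonalSubgroup F : Subgroup (GL D.Idx F)) :
        Set (GL D.Idx F)) := hg.2
    rw [Subgroup.coe_mul_of_right_le_normalizer_left _ _ (h8_H_le_normalizer_V D hB)] at hmem
    obtain ⟨v, hv, h, hh, rfl⟩ := hmem
    have hvB : v ∈ D.borelSubgroup F := by
      have hhB : h ∈ D.borelSubgroup F := by
        unfold ChevalleyDatum.borelSubgroup
        exact Subgroup.mem_sup_right hh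
      have : v = (v * h) * h⁻¹ := by group
      rw [this]
      exact Subgroup.mul_mem _ hg.1 (Subgroup.inv_mem _ hhB)
    have hv1 : v ∈ D.borelSubgroup F ⊓ D.negUnipotent F := Subgroup.mem_inf.mpr ⟨hvB, hv⟩
    rw [h8_B_inf_V D hB hN, Subgroup.mem_bot] at hv1
    rw [hv1]
    show 1 * h ∈ D.diagonalSubgroup F
    rw [one_mul]
    exact hh
  · apply le_inf
    · unfold ChevalleyDatum.borelSubgroup
      exact le_sup_right
    · exact le_sup_right

end Cfsg.Agent.Lib.helper8
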