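import Mathlib
import Cfsg.Prelude.Def_ChevStructure
import Cfsg.Agent.Lib.helper8.ChevTri

set_option autoImplicit false

namespace Cfsg.Agent.Lib.helper8

open Cfsg.Lie Cfsg.Lie.ChevalleyDatum

variable {F : Type*} [Field F]

def h8rho2 (D : ChevalleyDatum) : D.Idx → ℕ
  | Sum.inl _ => D.nroots / 2
  | Sum.inr s => if s.val < D.nroots / 2 then s.val else s.val + 1

theorem h8rho2_lt (D : ChevalleyDatum) (c : D.Idx) : h8rho2 D c < D.nroots + 1 := by
  rcases c with i | s
  · show D.nroots / 2 < _
    omega
  · have := s.2
    show (if s.val < D.nroots / 2 then s.val else s.val + 1) < _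
    split_ifs <;> omega

theorem h8rho2_root_lt (D : ChevalleyDatum) (s u : Fin D.nroots) (h : s.val < u.val) :
    h8rho2 D (Sum.inr s) < h8rho2 D (Sum.inr u) := by
  show (if s.val < D.nroots / 2 then s.val else s.val + 1) <
    (if u.val < D.nroots / 2 then u.val else u.val + 1)
  split_ifs <;> omega

theorem h8_xMat_unitri2 (D : ChevalleyDatum) (hD : h8PosOK D = true) (r : Fin D.nroots)
    (hr : D.IsPosRoot r.val) (t : F) : H8Unitri (h8rho2 D) 1 (D.xMat F r t) := by
  obtain ⟨h1, h2, h3⟩ := h8PosOK_spec hD hr
  intro row col hne
  rw [Matrix.sub_apply, Matrix.one_apply] at hne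
  unfold ChevalleyDatum.xMat at hne
  rw [Matrix.of_apply] at hne
  generalize D.negIdx.getD r.val 0 = nr at h2 hne
  rcases col with i | s
  · rcases row with i' | u
    · exfalso
      apply hne
      by_cases hii : i' = i
      · simp [hii]
      · have : ¬ (Sum.inl i' : D.Idx) = Sum.inl i := fun h => hii (Sum.inl.inj h)
        simp [hii]
    · by_cases hur : u = r
      · subst hur
        show D.nroots / 2 + 1 ≤ (if u.val < D.nroots / 2 then u.val else u.val + 1)
        rw [if_neg (by omega)]
        omega
      · exfalso
        apply hne
        simp [hur]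
  · by_cases hsr : s = r
    · exfalso
      apply hne
      subst hsr
      rcases row with i' | u
      · simp
      · by_cases hus : u = s
        · simp [hus]
        · have : ¬ (Sum.inr u : D.Idx) = Sum.inr s := fun h => hus (Sum.inr.inj h)
          simp [hus]
    · by_cases hsn : s.val = nr
      · have hslt : s.val < D.nroots / 2 := by rw [hsn]; exact h2
        rcases row with i' | u
        · show (if s.val < D.nroots / 2 then s.val else s.val + 1) + 1 ≤ D.nroots / 2
          rw [if_pos hslt]
          omega
        · by_cases hus : u = s
          · exfalso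
            apply hne
            simp [hsr, hsn, hus]
          · by_cases hur : u = r
            · subst hur
              apply h8rho2_root_lt
              omega
            · exfalso
              apply hne
              have : ¬ (Sum.inr u : D.Idx) = Sum.inr s := fun h => hus (Sum.inr.inj h)
              simp [hsr, hsn, hus, hur]
      · rcases row with i' | u
        · exfalso
          apply hne
          simp [hsr, hsn]
        · simp only [hsr, hsn, if_false] at hne
          by_cases hcc : D.chainCoeff r.val s.val u.val = []
          · exfalso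
            apply hne
            rw [hcc]
            by_cases hus : u = s
            · simp [hus]
            · have : ¬ (Sum.inr u : D.Idx) = Sum.inr s := fun h => hus (Sum.inr.inj h)
              simp [hus]
          · obtain ⟨e, he, hes, q, hq, hqu⟩ := h8_chainCoeff_ne_nil D _ _ _ hcc
            have := h3 e he q hq
            apply h8rho2_root_lt
            omega

theorem h8_posUnipotent_unitri2 (D : ChevalleyDatum) (hD : h8PosOK D = true) (g : GL D.Idx F)
    (hg : g ∈ D.posUnipotent F) : H8Unitri (h8rho2 D) 1 (g : Matrix D.Idx D.Idx F) := by
  unfold ChevalleyDatum.posUnipotent at hg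
  induction hg using Subgroup.closure_induction with
  | mem x hx =>
    obtain ⟨r, t, hr, hx⟩ := hx
    rw [hx]
    unfold ChevalleyDatum.x
    rw [dif_pos hr.1]
    exact h8_xMat_unitri2 D hD ⟨r, hr.1⟩ hr t
  | one => exact h8unitri_one _ _
  | mul x y _ _ hx hy =>
    rw [Units.val_mul]
    exact h8unitri_mul hx hy
  | inv x _ hx =>
    refine h8unitri_inv (le_refl 1) (h8rho2_lt D) hx ?_
    rw [← Units.val_mul, mul_inv_cancel, Units.val_one]

end Cfsg.Agent.Lib.helper8
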