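import Mathlib
import Cfsg.Prelude.Def_ChevStructure
import Cfsg.Agent.Lib.helper8.ChevNgen
import Cfsg.Agent.Lib.helper8.ChevTri2

set_option autoImplicit false

namespace Cfsg.Agent.Lib.helper8

open Cfsg.Lie Cfsg.Lie.ChevalleyDatum

universe u

variable {F : Type u} [Field F]

def H8Gmono (D : ChevalleyDatum) (M : Matrix D.Idx D.Idx F) : Prop :=
  (∀ (u : Fin D.nroots) (j : Fin D.rank), M (Sum.inr u) (Sum.inl j) = 0) ∧
  (∀ (j : Fin D.rank) (v : Fin D.nroots), M (Sum.inl j) (Sum.inr v) = 0) ∧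
  (∀ v : Fin D.nroots, ∃ u : Fin D.nroots, ∀ u' : Fin D.nroots, u' ≠ u →
    M (Sum.inr u') (Sum.inr v) = 0)

theorem h8gmono_mul (D : ChevalleyDatum) (M M' : Matrix D.Idx D.Idx F) (h : H8Gmono D M)
    (h' : H8Gmono D M') : H8Gmono D (M * M') := by
  obtain ⟨a1, a2, a3⟩ := h
  obtain ⟨b1, b2, b3⟩ := h'
  refine ⟨?_, ?_, ?_⟩
  · intro u j
    rw [Matrix.mul_apply, Fintype.sum_sum_type]
    simp only [a1, b1, zero_mul, mul_zero, Finset.sum_const_zero, add_zero]
  · intro j v
    rw [Matrix.mul_apply, Fintype.sum_sum_type]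
    simp only [a2, b2, zero_mul, mul_zero, Finset.sum_const_zero, add_zero]
  · intro v
    obtain ⟨u0, hu0⟩ := b3 v
    obtain ⟨u1, hu1⟩ := a3 u0
    refine ⟨u1, fun u' hu' => ?_⟩
    rw [Matrix.mul_apply, Fintype.sum_sum_type]
    simp only [b2, mul_zero, Finset.sum_const_zero, zero_add]
    apply Finset.sum_eq_zero
    intro u'' _
    by_cases h : u'' = u0
    · rw [h, hu1 u' hu', zero_mul]
    · rw [hu0 u'' h, mul_zero]

theorem h8gmono_diag (D : ChevalleyDatum) (d : D.Idx → F) : H8Gmono D (Matrix.diagonal d) := by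
  refine ⟨?_, ?_, ?_⟩
  · intro u j
    exact Matrix.diagonal_apply_ne _ (by simp)
  · intro j v
    exact Matrix.diagonal_apply_ne _ (by simp)
  · intro v
    refine ⟨v, fun u' hu' => ?_⟩
    apply Matrix.diagonal_apply_ne
    intro hh
    exact hu' (Sum.inr.inj hh)

theorem h8gmono_NM (D : ChevalleyDatum) (i : ℕ) (η : ℕ → ℤ)
    (hlt : ∀ s < D.nroots, D.reflectRoot i s < D.nroots) : H8Gmono D (h8NM D F i η) := by
  refine ⟨?_, ?_, ?_⟩
  · intro u j; rfl
  · intro j v; rfl
  · intro v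
    refine ⟨⟨D.reflectRoot i v.val, hlt v.val v.2⟩, fun u' hu' => ?_⟩
    show (if (u' : ℕ) = D.reflectRoot i v then (((η v : ℤ)) : F) else 0) = 0
    rw [if_neg]
    intro hh
    exact hu' (Fin.ext hh)

def h8MonoSubgroup (D : ChevalleyDatum) (F : Type u) [Field F] : Subgroup (GL D.Idx F) where
  carrier := {g | H8Gmono D (g : Matrix D.Idx D.Idx F) ∧ H8Gmono D ((g⁻¹ : GL D.Idx F) : Matrix D.Idx D.Idx F)}
  mul_mem' := by
    rintro a b ⟨ha1, ha2⟩ ⟨hb1, hb2⟩
    refine ⟨?_, ?_⟩
    · rw [Units.val_mul]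
      exact h8gmono_mul D _ _ ha1 hb1
    · rw [mul_inv_rev, Units.val_mul]
      exact h8gmono_mul D _ _ hb2 ha2
  one_mem' := by
    refine ⟨?_, ?_⟩
    · rw [Units.val_one, ← Matrix.diagonal_one]
      exact h8gmono_diag D _
    · rw [inv_one, Units.val_one, ← Matrix.diagonal_one]
      exact h8gmono_diag D _
  inv_mem' := by
    rintro a ⟨ha1, ha2⟩
    refine ⟨ha2, ?_⟩
    rw [inv_inv]
    exact ha1

theorem h8nMat_neg_one (D : ChevalleyDatum) (hB : H8Base.{u} D) (r : ℕ) :
    D.nMat F r (-1) = D.nMat F r 1 * D.hMat F r (-1) := by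
  rw [h8hMat_eq, ← mul_assoc, h8nMat_mul_neg D hB r 1, one_mul]

theorem h8N_le_mono (D : ChevalleyDatum) (hB : H8Base.{u} D) (hA : H8ReflAll D) (dep par : List ℕ)
    (h : h8orbChk D dep par = true) : D.monomialSubgroup F ≤ h8MonoSubgroup D F := by
  rw [h8N_eq D hB hA dep par h]
  apply sup_le
  · intro g hg
    obtain ⟨d, hd⟩ := h8_diag_of_mem_H D hB g hg
    obtain ⟨d', hd'⟩ := h8_diag_of_mem_H D hB g⁻¹ (Subgroup.inv_mem _ hg)
    refine ⟨?_, ?_⟩
    · rw [hd]; exact h8gmono_diag D d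
    · rw [hd']; exact h8gmono_diag D d'
  · rw [Subgroup.closure_le]
    rintro g ⟨j, hj, rfl⟩
    obtain ⟨eta, hN, hE, hRc⟩ := hA.refl j hj
    have hR := h8reflChk_spec D j hj eta hN hE hA.ce hA.ca hRc
    have hp : D.simple j < D.nroots := by
      unfold h8reflChk at hRc
      simp only [Bool.and_eq_true, decide_eq_true_eq] at hRc
      exact hRc.1.2
    have hm : H8Gmono D (D.nMat F (D.simple j) 1) := by
      rw [h8nMat_eq_NM D j hj eta hN]
      exact h8gmono_NM D j _ hR.lt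
    refine ⟨?_, ?_⟩
    · rw [h8nU_val]
      exact hm
    · rw [← h8nU_neg, h8nU_val, h8nMat_neg_one D hB,
        hB.hdiag F _ hp (-1) (neg_ne_zero.mpr one_ne_zero)]
      exact h8gmono_mul D _ _ hm (h8gmono_diag D _)

theorem h8_U_inf_N (D : ChevalleyDatum) (hB : H8Base.{u} D) (hA : H8ReflAll D) (dep par : List ℕ)
    (h : h8orbChk D dep par = true) : D.posUnipotent F ⊓ D.monomialSubgroup F = ⊥ := by
  rw [eq_bot_iff]
  intro g hg
  rw [Subgroup.mem_inf] at hg
  have hu := h8_posUnipotent_unitri2 D hB.posOK g hg.1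
  obtain ⟨⟨m1, m2, m3⟩, _⟩ := h8N_le_mono D hB hA dep par h hg.2
  rw [Subgroup.mem_bot]
  apply Units.ext
  rw [Units.val_one]
  have hdiag : ∀ a : D.Idx, (g : Matrix D.Idx D.Idx F) a a = 1 := by
    intro a
    by_contra hne
    have h1 : ((g : Matrix D.Idx D.Idx F) - 1) a a ≠ 0 := by
      rw [Matrix.sub_apply, Matrix.one_apply_eq]
      intro h0
      exact hne (sub_eq_zero.mp h0)
    have := hu a a h1
    omega
  ext a b
  by_cases hab : a = b
  · rw [hab, hdiag, Matrix.one_apply_eq]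
  · rw [Matrix.one_apply_ne hab]
    rcases a with j' | u <;> rcases b with j | v
    · by_contra hne
      have h1 : ((g : Matrix D.Idx D.Idx F) - 1) (Sum.inl j') (Sum.inl j) ≠ 0 := by
        rw [Matrix.sub_apply, Matrix.one_apply_ne hab, sub_zero]
        exact hne
      have := hu _ _ h1
      change D.nroots / 2 + 1 ≤ D.nroots / 2 at this
      omega
    · exact m2 j' v
    · exact m1 u j
    · obtain ⟨u0, hu0⟩ := m3 v
      have hv : v = u0 := by
        by_contra hne
        have := hu0 v hne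
        rw [hdiag] at this
        exact one_ne_zero this
      apply hu0
      rw [← hv]
      intro hh
      exact hab (by rw [hh])

theorem h8_B_inf_N (D : ChevalleyDatum) (hB : H8Base.{u} D) (hA : H8ReflAll D) (dep par : List ℕ)
    (h : h8orbChk D dep par = true) :
    D.borelSubgroup F ⊓ D.monomialSubgroup F = D.diagonalSubgroup F := by
  have hHN : D.diagonalSubgroup F ≤ D.monomialSubgroup F := by
    unfold ChevalleyDatum.monomialSubgroup
    exact le_sup_left
  apply le_antisymm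
  · intro g hg
    rw [Subgroup.mem_inf] at hg
    have hmem : g ∈ ((D.posUnipotent F ⊔ D.diagonalSubgroup F : Subgroup (GL D.Idx F)) :
        Set (GL D.Idx F)) := hg.1
    rw [Subgroup.coe_mul_of_right_le_normalizer_left _ _ (h8_H_le_normalizer_U D hB)] at hmem
    obtain ⟨u, hu, k, hk, rfl⟩ := hmem
    have huN : u ∈ D.monomialSubgroup F := by
      have : u = (u * k) * k⁻¹ := by group
      rw [this]
      exact Subgroup.mul_mem _ hg.2 (Subgroup.inv_mem _ (hHN hk))
    have hu1 : u ∈ D.posUnipotent F ⊓ D.monomialSubgroup F := Subgroup.mem_inf.mpr ⟨hu, huN⟩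
    rw [h8_U_inf_N D hB hA dep par h, Subgroup.mem_bot] at hu1
    rw [hu1]
    show 1 * k ∈ D.diagonalSubgroup F
    rw [one_mul]
    exact hk
  · apply le_inf
    · unfold ChevalleyDatum.borelSubgroup
      exact le_sup_right
    · exact hHN

end Cfsg.Agent.Lib.helper8
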