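import Mathlib
import Cfsg.Prelude.Def_ChevStructure
import Cfsg.Prelude.Def_LieExceptional
import Cfsg.Agent.Lib.helper8.ChevBN3
import Cfsg.Agent.Lib.helper8.ChevBorel
import Cfsg.Agent.Lib.helper8.ChevMono
import Cfsg.Agent.Lib.helper8.ChevW0

set_option autoImplicit false

namespace Cfsg.Agent.Lib.helper8

open Cfsg.Lie Cfsg.Lie.ChevalleyDatum

universe u

variable {F : Type u} [Field F]

theorem h8x_eq_one (D : ChevalleyDatum)
    (h : ∀ r < D.nroots, D.negIdx.getD r 0 < D.nroots ∧ D.negIdx.getD r 0 ≠ r)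
    (r : ℕ) (hr : r < D.nroots) (t : F) (hx : D.x F r t = 1) : t = 0 := by
  unfold ChevalleyDatum.x at hx
  rw [dif_pos hr] at hx
  obtain ⟨h1, h2⟩ := h r hr
  have := congrFun (congrFun hx (Sum.inr ⟨r, hr⟩)) (Sum.inr ⟨D.negIdx.getD r 0, h1⟩)
  unfold ChevalleyDatum.xMat at this
  rw [Matrix.of_apply, Matrix.one_apply] at this
  have hne : (⟨D.negIdx.getD r 0, h1⟩ : Fin D.nroots) ≠ ⟨r, hr⟩ := by
    intro h; apply h2; exact congrArg Fin.val h
  have hne' : (⟨r, hr⟩ : Fin D.nroots) ≠ ⟨D.negIdx.getD r 0, h1⟩ := fun h => hne h.symm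
  simp only [hne, hne', if_false, if_true, Sum.inr.injEq] at this
  simpa using this

structure H8BN2 (D : ChevalleyDatum) : Prop where
  w0 : ∃ w : List ℕ, h8w0Chk D w = true
  neglt : ∀ r < D.nroots, D.negIdx.getD r 0 < D.nroots

theorem h8group_le_BN (D : ChevalleyDatum) (hB : H8Base.{u} D) (hA : H8ReflAll D)
    (hW : H8BN2 D) : D.group F ≤ D.borelSubgroup F ⊔ D.monomialSubgroup F := by
  obtain ⟨w, hw⟩ := hW.w0
  have hconj := h8_conj_U_eq_V (F := F) D hB hA w hw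
  have hwN := h8nWU_mem_N (F := F) D hB hA w (h8w0Chk_spec D hA w hw).1
  unfold ChevalleyDatum.group
  rw [Subgroup.closure_le]
  rintro g ⟨r, t, hg⟩
  have hg' : g = h8xU D hB r.val t := by
    apply Units.ext
    rw [hg, h8xU_val]
    unfold ChevalleyDatum.x
    rw [dif_pos r.2]
  rcases hB.posneg r.val r.2 with hp | hn
  · apply Subgroup.mem_sup_left
    rw [hg']
    exact h8U_le_B D (h8xU_mem_U D hB _ hp t)
  · have hV : g ∈ D.negUnipotent F := by
      unfold ChevalleyDatum.negUnipotent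
      apply Subgroup.subset_closure
      exact ⟨r.val, t, hn, by rw [hg', h8xU_val]⟩
    rw [← hconj, Subgroup.mem_map] at hV
    obtain ⟨u, hu, rfl⟩ := hV
    show h8nWU D hB w * u * (h8nWU D hB w)⁻¹ ∈ _
    apply Subgroup.mul_mem _ (Subgroup.mul_mem _ _ _) (Subgroup.inv_mem _ _)
    · exact Subgroup.mem_sup_right hwN
    · exact Subgroup.mem_sup_left (h8U_le_B D hu)
    · exact Subgroup.mem_sup_right hwN

theorem h8xneg_not_mem_B (D : ChevalleyDatum) (hB : H8Base.{u} D) (hA : H8ReflAll D)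
    (hBN : H8BN D) (hW : H8BN2 D) (r : ℕ) (hr : D.IsPosRoot r) (c : F) (hc : c ≠ 0) :
    h8xU D hB (D.negIdx.getD r 0) c ∉ D.borelSubgroup F := by
  intro hmem
  obtain ⟨w, hw⟩ := hW.w0
  obtain ⟨_, _, _, hne⟩ := h8w0Chk_spec D hA w hw
  obtain ⟨h1, h2, _⟩ := h8PosOK_spec hB.posOK hr
  have hnlt : D.negIdx.getD r 0 < D.nroots := hW.neglt r hr.1
  have hneg : D.IsNegRoot (D.negIdx.getD r 0) := by
    rcases hB.posneg _ hnlt with hp | hn
    · have := (h8PosOK_spec hB.posOK hp).1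
      omega
    · exact hn
  have hV : h8xU D hB (D.negIdx.getD r 0) c ∈ D.negUnipotent F := by
    unfold ChevalleyDatum.negUnipotent
    apply Subgroup.subset_closure
    exact ⟨_, c, hneg, h8xU_val D hB _ _⟩
  have hbot : h8xU D hB (D.negIdx.getD r 0) c ∈ D.borelSubgroup F ⊓ D.negUnipotent F :=
    Subgroup.mem_inf.mpr ⟨hmem, hV⟩
  rw [h8_B_inf_V D hB hBN.negOK, Subgroup.mem_bot] at hbot
  have hx : D.x F (D.negIdx.getD r 0) c = 1 := by
    rw [← h8xU_val D hB, hbot]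
    rfl
  exact hc (h8x_eq_one D (fun s hs => ⟨hW.neglt s hs, hne s hs⟩) _ hnlt c hx)

end Cfsg.Agent.Lib.helper8
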