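import Mathlib
import Cfsg.Prelude.Def_ChevStructure
import Cfsg.Prelude.Def_LieExceptional
import Cfsg.Agent.Lib.helper8.ChevBN4

set_option autoImplicit false

namespace Cfsg.Agent.Lib.helper8

open Cfsg.Lie Cfsg.Lie.ChevalleyDatum

universe u

variable {F : Type u} [Field F]

theorem h8N_closure_mem (D : ChevalleyDatum) (hB : H8Base.{u} D) (hA : H8ReflAll D)
    (dep par : List ℕ) (horb : h8orbChk D dep par = true) (T : Subgroup ↥(D.group F))
    (hH : ∀ (x : GL D.Idx F) (hx : x ∈ D.group F), x ∈ D.diagonalSubgroup F →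
      (⟨x, hx⟩ : ↥(D.group F)) ∈ T)
    (hn : ∀ j < D.rank, ∀ hx : h8nU D hB (D.simple j) (1 : F) ∈ D.group F,
      (⟨h8nU D hB (D.simple j) (1 : F), hx⟩ : ↥(D.group F)) ∈ T)
    (x : GL D.Idx F) (hxN : x ∈ D.monomialSubgroup F) (hx : x ∈ D.group F) :
    (⟨x, hx⟩ : ↥(D.group F)) ∈ T := by
  have hNG := h8_N_le_group (F := F) D hB
  have hNeq := h8N_eq (F := F) D hB hA dep par horb
  have hcl : Subgroup.closure ({g : GL D.Idx F | ∃ j < D.rank, g = h8nU D hB (D.simple j) (1 : F)} ∪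
      (D.diagonalSubgroup F : Set (GL D.Idx F))) = D.monomialSubgroup F := by
    rw [Subgroup.closure_union, Subgroup.closure_eq, sup_comm, ← hNeq]
  rw [← hcl] at hxN
  revert hx
  induction hxN using Subgroup.closure_induction with
  | mem y hy =>
    intro hx
    rcases hy with ⟨j, hj, rfl⟩ | hy
    · exact hn j hj hx
    · exact hH y hx hy
  | one =>
    intro hx
    exact T.one_mem
  | mul a b ha hb iha ihb =>
    intro hx
    rw [hcl] at ha hb
    have e : (⟨a * b, hx⟩ : ↥(D.group F)) = ⟨a, hNG ha⟩ * ⟨b, hNG hb⟩ := rfl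
    rw [e]
    exact T.mul_mem (iha _) (ihb _)
  | inv a ha iha =>
    intro hx
    rw [hcl] at ha
    have e : (⟨a⁻¹, hx⟩ : ↥(D.group F)) = (⟨a, hNG ha⟩ : ↥(D.group F))⁻¹ := rfl
    rw [e]
    exact T.inv_mem (iha _)

theorem h8bnpair (D : ChevalleyDatum) (hB : H8Base.{u} D) (hA : H8ReflAll D)
    (hC : H8CommAll.{u} D) (hBN : H8BN D) (hW : H8BN2 D) :
    ∃ P : Cfsg.BNPair ↥(D.group F),
      P.B = (D.borelSubgroup F).subgroupOf (D.group F) ∧
      P.N = (D.monomialSubgroup F).subgroupOf (D.group F) ∧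
      P.S = {n : ↥(D.group F) | ∃ i < D.rank,
        ((n : GL D.Idx F) : Matrix D.Idx D.Idx F) = D.nMat F (D.simple i) 1} := by
  obtain ⟨dep, par, horb⟩ := hBN.orb
  have hBG := h8_B_le_group (F := F) D hB
  have hNG := h8_N_le_group (F := F) D hB
  have hHN : D.diagonalSubgroup F ≤ D.monomialSubgroup F := by
    unfold ChevalleyDatum.monomialSubgroup
    exact le_sup_left
  have hBNH := h8_B_inf_N (F := F) D hB hA dep par horb
  have hNnorm := h8N_le_normalizer_H (F := F) D hB hA dep par horb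
  have hSeq : ∀ s : ↥(D.group F), ∀ i, ((s : GL D.Idx F) : Matrix D.Idx D.Idx F) =
      D.nMat F (D.simple i) 1 → (s : GL D.Idx F) = h8nU D hB (D.simple i) 1 := by
    intro s i hs
    apply Units.ext
    rw [hs, h8nU_val]
  refine ⟨{ B := (D.borelSubgroup F).subgroupOf (D.group F)
            N := (D.monomialSubgroup F).subgroupOf (D.group F)
            S := {n : ↥(D.group F) | ∃ i < D.rank,
              ((n : GL D.Idx F) : Matrix D.Idx D.Idx F) = D.nMat F (D.simple i) 1}
            sup_eq_top := ?_, conj_mem := ?_, subset := ?_, sq_mem := ?_, inj := ?_,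
            closure_sup := ?_, mul_mem_union := ?_, conj_ne := ?_ }, rfl, rfl, rfl⟩
  · rw [eq_top_iff, ← Subgroup.subgroupOf_sup hBG hNG]
    intro g _
    rw [Subgroup.mem_subgroupOf]
    exact h8group_le_BN D hB hA hW g.2
  · intro n hn t ht
    rw [Subgroup.mem_subgroupOf] at hn ⊢
    rw [Subgroup.mem_inf, Subgroup.mem_subgroupOf, Subgroup.mem_subgroupOf] at ht
    have htH : (t : GL D.Idx F) ∈ D.diagonalSubgroup F := by
      rw [← hBNH]
      exact Subgroup.mem_inf.mpr ht
    have := (Subgroup.mem_normalizer_iff.mp (hNnorm hn) (t : GL D.Idx F)).mp htH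
    exact h8H_le_B D this
  · rintro s ⟨i, hi, hs⟩
    show s ∈ (D.monomialSubgroup F).subgroupOf (D.group F)
    rw [Subgroup.mem_subgroupOf, hSeq s i hs]
    exact h8nU_mem_N D hB _ (h8simple_pos D hBN i hi).1
  · rintro s ⟨i, hi, hs⟩
    rw [Subgroup.mem_subgroupOf]
    show (s : GL D.Idx F) * (s : GL D.Idx F) ∈ _
    rw [hSeq s i hs]
    exact h8H_le_B D (h8nU_sq_mem_H D hB _ (h8simple_pos D hBN i hi).1)
  · rintro s ⟨i, hi, hs⟩ s' ⟨j, hj, hs'⟩ hmem
    by_cases hp : D.simple i = D.simple j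
    · apply Subtype.ext
      apply Units.ext
      rw [hs, hs', hp]
    · exfalso
      rw [Subgroup.mem_subgroupOf] at hmem
      have hmem' : (s : GL D.Idx F)⁻¹ * (s' : GL D.Idx F) ∈ D.borelSubgroup F := hmem
      rw [hSeq s i hs, hSeq s' j hs'] at hmem'
      have hpi := h8simple_pos D hBN i hi
      have hpj := h8simple_pos D hBN j hj
      have hbH : (h8nU D hB (D.simple i) (1 : F))⁻¹ * h8nU D hB (D.simple j) 1 ∈
          D.diagonalSubgroup F := by
        rw [← hBNH]
        refine Subgroup.mem_inf.mpr ⟨hmem', ?_⟩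
        exact Subgroup.mul_mem _ (Subgroup.inv_mem _ (h8nU_mem_N D hB _ hpi.1))
          (h8nU_mem_N D hB _ hpj.1)
      obtain ⟨hσpos, _⟩ := h8spChk_spec D j (hBN.sp j hj) (D.simple i) hpi hp
      obtain ⟨c, hc, e1⟩ := h8act_nU (F := F) D hB hA j hj (D.simple i) hpi.1
      have hact2 := h8act_mul D hB _ _ _ _ _ (h8perm_H_id D hB _ hbH _ hpi.1)
        (h8act_nU (F := F) D hB hA i hi (D.simple i) hpi.1)
      rw [h8reflectRoot_simple] at hact2
      obtain ⟨c', hc', e2⟩ := hact2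
      have e3 := e2 1
      have e4 : h8nU D hB (D.simple i) (1 : F) *
          ((h8nU D hB (D.simple i) (1 : F))⁻¹ * h8nU D hB (D.simple j) 1) =
          h8nU D hB (D.simple j) 1 := by group
      rw [e4, e1 1] at e3
      apply h8xneg_not_mem_B D hB hA hBN hW (D.simple i) hpi (c' * 1)
        (mul_ne_zero hc' one_ne_zero)
      rw [← e3]
      exact h8U_le_B D (h8xU_mem_U D hB _ hσpos _)
  · apply le_antisymm
    · apply sup_le
      · rw [Subgroup.closure_le]
        rintro s ⟨i, hi, hs⟩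
        show s ∈ (D.monomialSubgroup F).subgroupOf (D.group F)
        rw [Subgroup.mem_subgroupOf, hSeq s i hs]
        exact h8nU_mem_N D hB _ (h8simple_pos D hBN i hi).1
      · exact inf_le_right
    · intro g hg
      rw [Subgroup.mem_subgroupOf] at hg
      have := h8N_closure_mem D hB hA dep par horb
        (Subgroup.closure {n : ↥(D.group F) | ∃ i < D.rank,
          ((n : GL D.Idx F) : Matrix D.Idx D.Idx F) = D.nMat F (D.simple i) 1} ⊔
          ((D.borelSubgroup F).subgroupOf (D.group F) ⊓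
            (D.monomialSubgroup F).subgroupOf (D.group F))) ?_ ?_ (g : GL D.Idx F) hg g.2
      · exact this
      · intro x hx hxH
        apply Subgroup.mem_sup_right
        rw [Subgroup.mem_inf, Subgroup.mem_subgroupOf, Subgroup.mem_subgroupOf]
        exact ⟨h8H_le_B D hxH, hHN hxH⟩
      · intro j hj hx
        apply Subgroup.mem_sup_left
        apply Subgroup.subset_closure
        exact ⟨j, hj, h8nU_val D hB _ _⟩
  · rintro s ⟨i, hi, hs⟩ n hn b hb
    rw [Subgroup.mem_subgroupOf] at hn hb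
    have hsE := hSeq s i hs
    rcases h8bn_axiom D hB hA hC hBN i hi (n : GL D.Idx F) hn (b : GL D.Idx F) hb with
      ⟨b1, hb1, b2, hb2, e⟩ | ⟨b1, hb1, b2, hb2, e⟩
    · left
      rw [DoubleCoset.mem_doubleCoset]
      refine ⟨⟨b1, hBG hb1⟩, Subgroup.mem_subgroupOf.mpr hb1, ⟨b2, hBG hb2⟩,
        Subgroup.mem_subgroupOf.mpr hb2, ?_⟩
      apply Subtype.ext
      show (s : GL D.Idx F) * (b : GL D.Idx F) * (n : GL D.Idx F) =
        b1 * ((s : GL D.Idx F) * (n : GL D.Idx F)) * b2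
      rw [hsE]
      exact e
    · right
      rw [DoubleCoset.mem_doubleCoset]
      refine ⟨⟨b1, hBG hb1⟩, Subgroup.mem_subgroupOf.mpr hb1, ⟨b2, hBG hb2⟩,
        Subgroup.mem_subgroupOf.mpr hb2, ?_⟩
      apply Subtype.ext
      show (s : GL D.Idx F) * (b : GL D.Idx F) * (n : GL D.Idx F) = b1 * (n : GL D.Idx F) * b2
      rw [hsE]
      exact e
  · rintro s ⟨i, hi, hs⟩ heq
    have hpi := h8simple_pos D hBN i hi
    have hsE := hSeq s i hs
    have hxB : (⟨h8xU D hB (D.simple i) (1 : F),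
        hBG (h8U_le_B D (h8xU_mem_U D hB _ hpi 1))⟩ : ↥(D.group F)) ∈
        ((D.borelSubgroup F).subgroupOf (D.group F) : Set ↥(D.group F)) :=
      Subgroup.mem_subgroupOf.mpr (h8U_le_B D (h8xU_mem_U D hB _ hpi 1))
    have himg := Set.mem_image_of_mem (fun b : ↥(D.group F) => s * b * s) hxB
    rw [heq] at himg
    have himg' : (s : GL D.Idx F) * h8xU D hB (D.simple i) (1 : F) * (s : GL D.Idx F) ∈
        D.borelSubgroup F := Subgroup.mem_subgroupOf.mp himg
    rw [hsE] at himg'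
    obtain ⟨c, hc, e1⟩ := h8act_nU (F := F) D hB hA i hi (D.simple i) hpi.1
    rw [h8reflectRoot_simple] at e1
    have hss := h8nU_sq_mem_H (F := F) D hB (D.simple i) hpi.1
    apply h8xneg_not_mem_B D hB hA hBN hW (D.simple i) hpi (c * 1) (mul_ne_zero hc one_ne_zero)
    rw [← e1 1]
    have e2 : h8nU D hB (D.simple i) (1 : F) * h8xU D hB (D.simple i) 1 *
        (h8nU D hB (D.simple i) (1 : F))⁻¹ =
        (h8nU D hB (D.simple i) (1 : F) * h8xU D hB (D.simple i) 1 * h8nU D hB (D.simple i) 1) *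
          (h8nU D hB (D.simple i) (1 : F) * h8nU D hB (D.simple i) 1)⁻¹ := by group
    rw [e2]
    exact Subgroup.mul_mem _ himg' (Subgroup.inv_mem _ (h8H_le_B D hss))

end Cfsg.Agent.Lib.helper8
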