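import Mathlib
import Cfsg.Prelude.Def_ChevStructure
import Cfsg.Agent.Lib.helper8.ChevK
import Cfsg.Agent.Lib.helper8.ChevRefl

set_option autoImplicit false

namespace Cfsg.Agent.Lib.helper8

open Cfsg.Lie Cfsg.Lie.ChevalleyDatum

variable {F : Type*} [Field F]

def h8T5chkRefl (D : ChevalleyDatum) : Bool :=
  (List.range D.nroots).all fun r =>
    (List.range (D.rank + D.nroots)).all fun c =>
      decide (h8diagExp (h8hCol D r c) c =
        some (if c < D.rank then 0 else h8KF D r (c - D.rank)))

theorem h8hMat_diagK_refl (D : ChevalleyDatum) (hCA : h8CAchk D = true)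
    (hT : h8T5chkRefl D = true) (r : ℕ) (hr : r < D.nroots) (t : F) (ht : t ≠ 0) :
    D.hMat F r t = Matrix.diagonal (h8dvec D t (h8K D r)) := by
  unfold h8T5chkRefl at hT
  simp only [List.all_eq_true, List.mem_range, decide_eq_true_eq] at hT
  have hchk : h8hDiagChk D = true := by
    unfold h8hDiagChk
    simp only [List.all_eq_true, List.mem_range]
    intro r' hr' c hc
    rw [hT r' hr' c hc]
    rfl
  rw [h8hMat_diag_refl D hchk r hr t ht]
  congr 1
  funext c
  unfold h8hexpRefl
  rw [hT r hr (h8code D c) (h8code_lt D c)]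
  rcases c with j | v
  · have : h8code D (Sum.inl j) < D.rank := j.2
    rw [if_pos this]
    show t ^ (0 : ℤ) = 1
    rw [zpow_zero]
  · have h3 : ¬ h8code D (Sum.inr v) < D.rank := by
      show ¬ D.rank + v.val < D.rank
      omega
    have h4 : h8code D (Sum.inr v) - D.rank = v.val := by
      show D.rank + v.val - D.rank = v.val
      omega
    rw [if_neg h3, h4]
    show t ^ (h8KF D r v.val) = t ^ (h8K D r v.val)
    rw [h8KF_eq D hCA r v.val v.2]

end Cfsg.Agent.Lib.helper8
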