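import Mathlib
import Cfsg.Prelude.Def_ChevStructure
import Cfsg.Agent.Lib.helper8.ChevSLh

set_option autoImplicit false

namespace Cfsg.Agent.Lib.helper8

open Cfsg.Lie Cfsg.Lie.ChevalleyDatum

variable {F : Type*} [Field F]

theorem h8x_add_SL (D : ChevalleyDatum) (hD : H8SL D) (r : ℕ) (hr : r < D.nroots) (t₁ t₂ : F) :
    D.x F r t₁ * D.x F r t₂ = D.x F r (t₁ + t₂) := by
  have hw := hD.w r hr
  have hsl := hD.sl r hr
  apply Matrix.ext_of_mulVec_single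
  intro c
  rw [← Matrix.mulVec_mulVec]
  have hE : (Pi.single c (1 : F) : D.Idx → F) = h8E D F c := rfl
  rw [hE]
  rcases c with i | s
  · rw [h8E_inl, h8x_mulVec_Eh D r hr t₂ i.val i.2, Matrix.mulVec_sub, Matrix.mulVec_smul,
      h8x_mulVec_Eh D r hr t₁ i.val i.2, h8x_mulVec_Er_self D r hr t₁,
      h8x_mulVec_Eh D r hr (t₁ + t₂) i.val i.2]
    module
  · rw [h8E_inr]
    by_cases hsr : s.val = r
    · rw [hsr, h8x_mulVec_Er_self D r hr t₂, h8x_mulVec_Er_self D r hr t₁,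
        h8x_mulVec_Er_self D r hr (t₁ + t₂)]
    · by_cases hsn : s.val = D.negIdx.getD r 0
      · rw [hsn, h8x_mulVec_Er_neg D hD r hr t₂, Matrix.mulVec_sub, Matrix.mulVec_add,
          Matrix.mulVec_smul, Matrix.mulVec_smul, h8x_mulVec_Er_neg D hD r hr t₁,
          h8x_mulVec_H D hD r hr t₁, h8x_mulVec_Er_self D r hr t₁,
          h8x_mulVec_Er_neg D hD r hr (t₁ + t₂)]
        module
      · rcases hsl.entry s.val with h0 | ⟨u, N, e0, hs, hu, _, _, hur, hun, hN, e1, e2, e3⟩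
        · rw [h8x_mulVec_Er_fix D hD r hr t₂ s.val hsr hsn h0,
            h8x_mulVec_Er_fix D hD r hr t₁ s.val hsr hsn h0,
            h8x_mulVec_Er_fix D hD r hr (t₁ + t₂) s.val hsr hsn h0]
        · rw [h8x_mulVec_Er_single D hD r hr t₂ s.val u N hs hu hsr hsn e0, Matrix.mulVec_add,
            Matrix.mulVec_smul, h8x_mulVec_Er_single D hD r hr t₁ s.val u N hs hu hsr hsn e0,
            h8x_mulVec_Er_fix D hD r hr t₁ u hur hun e1,
            h8x_mulVec_Er_single D hD r hr (t₁ + t₂) s.val u N hs hu hsr hsn e0]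
          module

theorem h8hMat_mul_of_diag (D : ChevalleyDatum) (r : ℕ) (k : D.Idx → ℤ)
    (h : ∀ t : F, t ≠ 0 → D.hMat F r t = Matrix.diagonal (fun c => t ^ k c)) (t₁ t₂ : F)
    (h₁ : t₁ ≠ 0) (h₂ : t₂ ≠ 0) : D.hMat F r t₁ * D.hMat F r t₂ = D.hMat F r (t₁ * t₂) := by
  rw [h t₁ h₁, h t₂ h₂, h (t₁ * t₂) (mul_ne_zero h₁ h₂), Matrix.diagonal_mul_diagonal]
  congr 1
  funext c
  rw [mul_zpow]

end Cfsg.Agent.Lib.helper8
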