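import Mathlib
import Cfsg.Prelude.Def_ChevStructure
import Cfsg.Agent.S1024
import Cfsg.Agent.Lib.helper8.ChevBase
import Cfsg.Agent.Lib.helper8.ChevKRefl
import Cfsg.Agent.Lib.helper8.ChevSLadd

set_option autoImplicit false

namespace Cfsg.Agent.Lib.helper8

open Cfsg.Lie Cfsg.Lie.ChevalleyDatum

variable {F : Type*} [Field F]

theorem h8x_zero (D : ChevalleyDatum) (r : ℕ) : D.x F r 0 = 1 := by
  unfold ChevalleyDatum.x
  split_ifs with h
  · exact Cfsg.Agent.S1024.xMat_zero D ⟨r, h⟩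
  · rfl

theorem h8x_add_refl_all (D : ChevalleyDatum) (h : h8addChk D = true) (r : ℕ)
    (hr : r < D.nroots) (t₁ t₂ : F) : D.x F r t₁ * D.x F r t₂ = D.x F r (t₁ + t₂) := by
  by_cases h₁ : t₁ = 0
  · rw [h₁, h8x_zero, one_mul, zero_add]
  · by_cases h₂ : t₂ = 0
    · rw [h₂, h8x_zero, mul_one, add_zero]
    · exact h8x_add_refl D h r hr t₁ t₂ h₁ h₂

def h8posnegChk (D : ChevalleyDatum) : Bool :=
  (List.range D.nroots).all fun r => decide (D.IsPosRoot r) || decide (D.IsNegRoot r)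

theorem h8posneg_spec (D : ChevalleyDatum) (h : h8posnegChk D = true) :
    ∀ r < D.nroots, D.IsPosRoot r ∨ D.IsNegRoot r := by
  unfold h8posnegChk at h
  simp only [List.all_eq_true, List.mem_range, Bool.or_eq_true, decide_eq_true_eq] at h
  exact h

theorem h8base_of_SL.{u} (D : ChevalleyDatum) (hSL : H8SL D) (hCA : h8CAchk D = true)
    (hT : h8T5chkSL D = true) (hP : h8PosOK D = true) (hPN : h8posnegChk D = true) :
    H8Base.{u} D where
  add := fun F _ r hr t₁ t₂ => h8x_add_SL D hSL r hr t₁ t₂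
  zero := fun F _ r => h8x_zero D r
  ca := h8CAchk_spec D hCA
  posOK := hP
  posneg := h8posneg_spec D hPN
  hdiag := fun F _ r hr t ht => h8hMat_diagK_SL D hSL hCA hT r hr t ht

theorem h8base_of_refl.{u} (D : ChevalleyDatum) (hA : h8addChk D = true) (hCA : h8CAchk D = true)
    (hT : h8T5chkRefl D = true) (hP : h8PosOK D = true) (hPN : h8posnegChk D = true) :
    H8Base.{u} D where
  add := fun F _ r hr t₁ t₂ => h8x_add_refl_all D hA r hr t₁ t₂
  zero := fun F _ r => h8x_zero D r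
  ca := h8CAchk_spec D hCA
  posOK := hP
  posneg := h8posneg_spec D hPN
  hdiag := fun F _ r hr t ht => h8hMat_diagK_refl D hCA hT r hr t ht

end Cfsg.Agent.Lib.helper8
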