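import Mathlib
import Cfsg.Prelude.Def_ChevB2
import Cfsg.Agent.Lib.helper8.ChevBaseLemmas
import Cfsg.Agent.Lib.helper8.ChevTabAddB2
import Cfsg.Agent.Lib.helper8.ChevTabCAB2
import Cfsg.Agent.Lib.helper8.ChevTabT5RB2

set_option autoImplicit false

namespace Cfsg.Agent.Lib.helper8

open Cfsg.Lie

set_option maxRecDepth 100000 in
theorem h8PosOK_B2 : h8PosOK chevB2 = true := by decide +kernel

set_option maxRecDepth 100000 in
theorem h8posnegChk_B2 : h8posnegChk chevB2 = true := by decide +kernel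

theorem h8base_B2.{u} : H8Base.{u} chevB2 :=
  h8base_of_refl _ h8addChk_B2 h8CAchk_B2 h8T5chkRefl_B2 h8PosOK_B2 h8posnegChk_B2

end Cfsg.Agent.Lib.helper8
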