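import Mathlib
import Cfsg.Prelude.Def_ChevE6
import Cfsg.Agent.Lib.helper8.ChevBaseLemmas
import Cfsg.Agent.Lib.helper8.ChevTabSLE6
import Cfsg.Agent.Lib.helper8.ChevTabCAE6
import Cfsg.Agent.Lib.helper8.ChevTabT5SLE6

set_option autoImplicit false

namespace Cfsg.Agent.Lib.helper8

open Cfsg.Lie

set_option maxRecDepth 100000 in
theorem h8PosOK_E6 : h8PosOK chevE6 = true := by decide +kernel

set_option maxRecDepth 100000 in
theorem h8posnegChk_E6 : h8posnegChk chevE6 = true := by decide +kernel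

theorem h8base_E6.{u} : H8Base.{u} chevE6 :=
  h8base_of_SL _ h8SL_E6 h8CAchk_E6 h8T5chkSL_E6 h8PosOK_E6 h8posnegChk_E6

end Cfsg.Agent.Lib.helper8
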