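import Mathlib
import Cfsg.Prelude.Def_ChevE8
import Cfsg.Agent.Lib.helper8.ChevBaseLemmas
import Cfsg.Agent.Lib.helper8.ChevTabSLE8
import Cfsg.Agent.Lib.helper8.ChevTabCAE8
import Cfsg.Agent.Lib.helper8.ChevTabT5SLE8

set_option autoImplicit false

namespace Cfsg.Agent.Lib.helper8

open Cfsg.Lie

set_option maxRecDepth 100000 in
theorem h8PosOK_E8 : h8PosOK chevE8 = true := by decide +kernel

set_option maxRecDepth 100000 in
theorem h8posnegChk_E8 : h8posnegChk chevE8 = true := by decide +kernel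

theorem h8base_E8.{u} : H8Base.{u} chevE8 :=
  h8base_of_SL _ h8SL_E8 h8CAchk_E8 h8T5chkSL_E8 h8PosOK_E8 h8posnegChk_E8

end Cfsg.Agent.Lib.helper8
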