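import Mathlib
import Cfsg.Prelude.Def_ChevF4
import Cfsg.Agent.Lib.helper8.ChevBaseLemmas
import Cfsg.Agent.Lib.helper8.ChevTabAddF4
import Cfsg.Agent.Lib.helper8.ChevTabCAF4
import Cfsg.Agent.Lib.helper8.ChevTabT5RF4

set_option autoImplicit false

namespace Cfsg.Agent.Lib.helper8

open Cfsg.Lie

set_option maxRecDepth 100000 in
theorem h8PosOK_F4 : h8PosOK chevF4 = true := by decide +kernel

set_option maxRecDepth 100000 in
theorem h8posnegChk_F4 : h8posnegChk chevF4 = true := by decide +kernel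

theorem h8base_F4.{u} : H8Base.{u} chevF4 :=
  h8base_of_refl _ h8addChk_F4 h8CAchk_F4 h8T5chkRefl_F4 h8PosOK_F4 h8posnegChk_F4

end Cfsg.Agent.Lib.helper8
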