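import Mathlib
import Cfsg.Agent.Lib.helper8.ChevBaseG2
import Cfsg.Agent.Lib.helper8.ChevBaseB2
import Cfsg.Agent.Lib.helper8.ChevBaseD4
import Cfsg.Agent.Lib.helper8.ChevBaseF4
import Cfsg.Agent.Lib.helper8.ChevBaseE6
import Cfsg.Agent.Lib.helper8.ChevBaseE7
import Cfsg.Agent.Lib.helper8.ChevBaseE8

set_option autoImplicit false

namespace Cfsg.Agent.Lib.helper8

open Cfsg.Lie

theorem h8base_all.{u} (D : ChevalleyDatum)
    (hD : D ∈ [chevG2, chevB2, chevD4, chevF4, chevE6, chevE7, chevE8]) : H8Base.{u} D := by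
  simp only [List.mem_cons, List.mem_nil_iff, or_false] at hD
  rcases hD with rfl | rfl | rfl | rfl | rfl | rfl | rfl
  · exact h8base_G2
  · exact h8base_B2
  · exact h8base_D4
  · exact h8base_F4
  · exact h8base_E6
  · exact h8base_E7
  · exact h8base_E8

end Cfsg.Agent.Lib.helper8
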