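import Mathlib
import Cfsg.Prelude.Def_ChevB2
import Cfsg.Agent.Lib.helper8.ChevCommOrb
import Cfsg.Agent.Lib.helper8.ChevBaseAll

set_option autoImplicit false

namespace Cfsg.Agent.Lib.helper8

open Cfsg.Lie

universe u

set_option maxRecDepth 100000 in
theorem h8cbrute_B2_0 : (List.range' 0 4).all (h8commAllRow chevB2) = true := by decide +kernel

set_option maxRecDepth 100000 in
theorem h8cbrute_B2_1 : (List.range' 4 4).all (h8commAllRow chevB2) = true := by decide +kernel

theorem h8cbrows_B2 : ∀ r < chevB2.nroots, h8commAllRow chevB2 r = true := by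
  intro r hr
  have hn : chevB2.nroots = 8 := rfl
  rw [hn] at hr
  by_cases h0 : r < 4
  · exact h8rows_of_chunk _ _ _ h8cbrute_B2_0 r (by omega) (by omega)
  exact h8rows_of_chunk _ _ _ h8cbrute_B2_1 r (by omega) (by omega)

theorem h8commAll_B2 : H8CommAll.{u} chevB2 := by
  have hD : chevB2 ∈ [chevG2, chevB2, chevD4, chevF4, chevE6, chevE7, chevE8] := by simp
  exact ⟨h8commAll_spec chevB2 (h8base_all.{u} chevB2 hD) h8cbrows_B2⟩

end Cfsg.Agent.Lib.helper8
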