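import Mathlib
import Cfsg.Prelude.Def_ChevD4
import Cfsg.Agent.Lib.helper8.ChevCommOrb

set_option autoImplicit false

namespace Cfsg.Agent.Lib.helper8

open Cfsg.Lie

def h8cbase_D4 : List (ℕ × ℕ) := [(0, 1), (0, 5), (0, 10), (0, 11), (0, 14)]

def h8cdep_D4 : ℕ := 0xc0b0b0a0a0b0a0a090a0a09090c0b0b0a090b0a0a09000b000a0a09090a09090b09090a0a080808090a08090900080a090008090808090a0808090809070708070908070008070a0908000908080a090809080908070807070908000708070907080800070907070808080707070606060800070706060608070706000807070606060505070606050007060605050a0908080a09000909080808090907080800080707070807090708090708080007080708070807060007070606070606090709080708080700080807080707000607070607060606080806060707060707000707060600060605060605050505060807080706070607060006050007060706050605060505060808070706070706060600000507070606050606050505050707060605060605050500000406060505040505040404050706070605060506050005040006050605040504050404070705050606050606000606050500050504050504040404060406050405050400050504050404000304040304030303060405060405050004050405040504030004040303040303050403030504000404030303040402030300030202020302050706060500070606050505040406050504000605050404060405050004060404050505040404030303050004040303050403000403030504030403040302030202040300020302050400030403030405030304030402020302040302000302040003030202030202040202030301010102030102020001000302020101020101000101000003020201000201010000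

def h8cpar_D4 : ℕ := 0x12000213113111200121310303233223323322223222302100010011100110000100010100010013000103033300303100000111000110000001100002300023000003000030000133213011132113320133313122112202222122201222222333111330333313011313111111111111011110111111111220200323203200000232322300000223320030000322333111000111110011100111111101010111101101010111111222333333033230233333333000222000000020002000000300330000000300003000000000000000000000000000000121110211123111231012311322202332222322222203222222022221122212222120212130333331133133333333013101111111111111111111101030000223023003000022300

def h8csg_D4 : ℕ := 0x17151613141210110e0f0d0b0c0a080906070503040102001714131615120f0e11100a0c0b0d07060908050201040300161715141213110d0c09100f08070e0b0a060405030200011711100f0e05161514130d0c0b0a04030201120908070600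

set_option maxRecDepth 100000 in
theorem h8csgChk_D4 : h8sgsChk chevD4 h8csg_D4 = true := by decide +kernel

set_option maxRecDepth 100000 in
theorem h8len2_D4 : h8len2Chk chevD4 = true := by decide +kernel

end Cfsg.Agent.Lib.helper8
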