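import Mathlib
import Cfsg.Prelude.Def_ChevD4
import Cfsg.Agent.Lib.helper8.ChevCertPairD4

set_option autoImplicit false

namespace Cfsg.Agent.Lib.helper8

open Cfsg.Lie

set_option maxRecDepth 100000 in
theorem h8cbaseK_D4_0 : h8commChk chevD4 0 1 = true := by decide +kernel

set_option maxRecDepth 100000 in
theorem h8cbaseK_D4_1 : h8commChk chevD4 0 5 = true := by decide +kernel

set_option maxRecDepth 100000 in
theorem h8cbaseK_D4_2 : h8commChk chevD4 0 10 = true := by decide +kernel

set_option maxRecDepth 100000 in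
theorem h8cbaseK_D4_3 : h8commChk chevD4 0 11 = true := by decide +kernel

set_option maxRecDepth 100000 in
theorem h8cbaseK_D4_4 : h8commChk chevD4 0 14 = true := by decide +kernel

theorem h8cbaseAll_D4 : ∀ p ∈ h8cbase_D4, h8commChk chevD4 p.1 p.2 = true := by
  intro p hp
  unfold h8cbase_D4 at hp
  simp only [List.mem_cons, List.not_mem_nil, or_false] at hp
  rcases hp with rfl | rfl | rfl | rfl | rfl
  · exact h8cbaseK_D4_0
  · exact h8cbaseK_D4_1
  · exact h8cbaseK_D4_2
  · exact h8cbaseK_D4_3
  · exact h8cbaseK_D4_4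

end Cfsg.Agent.Lib.helper8
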