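import Mathlib
import Cfsg.Prelude.Def_ChevD4
import Cfsg.Agent.Lib.helper8.ChevCertPairD4

set_option autoImplicit false

namespace Cfsg.Agent.Lib.helper8

open Cfsg.Lie

set_option maxRecDepth 100000 in
theorem h8crow_D4_0 : (List.range' 0 24).all
    (h8pairRow chevD4 h8csg_D4 h8cbase_D4 h8cdep_D4 h8cpar_D4) = true := by decide +kernel


end Cfsg.Agent.Lib.helper8
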