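import Mathlib
import Cfsg.Prelude.Def_ChevB2
import Cfsg.Agent.Lib.helper8.ChevN

set_option autoImplicit false

namespace Cfsg.Agent.Lib.helper8

open Cfsg.Lie

def h8eta_B2_0 : List ℤ := [-1, -1, -1, -1, -1, -1, -1, -1]

def h8eta_B2_1 : List ℤ := [1, -1, 1, -1, -1, 1, -1, 1]

def h8eta_B2 (i : ℕ) : List ℤ :=
  if i = 0 then h8eta_B2_0
  else if i = 1 then h8eta_B2_1
  else []

set_option maxRecDepth 100000 in
theorem h8nChk_B2 : (List.range chevB2.rank).all (fun i => h8nChk chevB2 i (h8eta_B2 i) && h8etaChk chevB2 i (h8eta_B2 i)) = true := by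
  decide +kernel

theorem h8n_B2 (i : ℕ) (hi : i < chevB2.rank) :
    h8nChk chevB2 i (h8eta_B2 i) = true ∧ h8etaChk chevB2 i (h8eta_B2 i) = true := by
  have h := h8nChk_B2
  rw [List.all_eq_true] at h
  have := h i (List.mem_range.mpr hi)
  rwa [Bool.and_eq_true] at this

end Cfsg.Agent.Lib.helper8
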