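import Mathlib
import Cfsg.Prelude.Def_ChevB2
import Cfsg.Agent.Lib.helper8.ChevTabCEB2
import Cfsg.Agent.Lib.helper8.ChevTabCAB2
import Cfsg.Agent.Lib.helper8.ChevTabReflB2

set_option autoImplicit false

namespace Cfsg.Agent.Lib.helper8

open Cfsg.Lie

theorem h8refl_B2 (i : ℕ) (hi : i < chevB2.rank) : ∃ eta : List ℤ,
    h8nChk chevB2 i eta = true ∧ h8etaChk chevB2 i eta = true ∧ h8reflChk chevB2 i eta = true := by
  have hr : chevB2.rank = 2 := rfl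
  rw [hr] at hi
  interval_cases i
  · exact ⟨h8eta_B2 0, (h8n_B2 0 (by decide)).1, (h8n_B2 0 (by decide)).2, h8reflChk_B2_0⟩
  · exact ⟨h8eta_B2 1, (h8n_B2 1 (by decide)).1, (h8n_B2 1 (by decide)).2, h8reflChk_B2_1⟩

end Cfsg.Agent.Lib.helper8
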