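import Mathlib
import Cfsg.Prelude.Def_ChevD4
import Cfsg.Agent.Lib.helper8.ChevTabCED4
import Cfsg.Agent.Lib.helper8.ChevTabCAD4
import Cfsg.Agent.Lib.helper8.ChevTabReflD4

set_option autoImplicit false

namespace Cfsg.Agent.Lib.helper8

open Cfsg.Lie

theorem h8refl_D4 (i : ℕ) (hi : i < chevD4.rank) : ∃ eta : List ℤ,
    h8nChk chevD4 i eta = true ∧ h8etaChk chevD4 i eta = true ∧ h8reflChk chevD4 i eta = true := by
  have hr : chevD4.rank = 4 := rfl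
  rw [hr] at hi
  interval_cases i
  · exact ⟨h8eta_D4 0, (h8n_D4 0 (by decide)).1, (h8n_D4 0 (by decide)).2, h8reflChk_D4_0⟩
  · exact ⟨h8eta_D4 1, (h8n_D4 1 (by decide)).1, (h8n_D4 1 (by decide)).2, h8reflChk_D4_1⟩
  · exact ⟨h8eta_D4 2, (h8n_D4 2 (by decide)).1, (h8n_D4 2 (by decide)).2, h8reflChk_D4_2⟩
  · exact ⟨h8eta_D4 3, (h8n_D4 3 (by decide)).1, (h8n_D4 3 (by decide)).2, h8reflChk_D4_3⟩

end Cfsg.Agent.Lib.helper8
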