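import Mathlib
import Cfsg.Prelude.Def_ChevE6
import Cfsg.Agent.Lib.helper8.ChevReflChk
import Cfsg.Agent.Lib.helper8.ChevTabNE6

set_option autoImplicit false

namespace Cfsg.Agent.Lib.helper8

open Cfsg.Lie

set_option maxRecDepth 100000 in
theorem h8reflChunk_E6_0_0 : (List.range' 0 60).all (h8reflRow chevE6 0 (h8eta_E6 0)) = true := by
  decide +kernel

set_option maxRecDepth 100000 in
theorem h8reflChunk_E6_0_1 : (List.range' 60 12).all (h8reflRow chevE6 0 (h8eta_E6 0)) = true := by
  decide +kernel

theorem h8reflChk_E6_0 : h8reflChk chevE6 0 (h8eta_E6 0) = true := by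
  apply h8reflChk_of_rows
  · decide +kernel
  · intro s hs
    have hn : chevE6.nroots = 72 := rfl
    rw [hn] at hs
    by_cases h0 : s < 60
    · exact h8rows_of_chunk _ _ _ h8reflChunk_E6_0_0 s (by omega) (by omega)
    exact h8rows_of_chunk _ _ _ h8reflChunk_E6_0_1 s (by omega) (by omega)

set_option maxRecDepth 100000 in
theorem h8reflChunk_E6_1_0 : (List.range' 0 60).all (h8reflRow chevE6 1 (h8eta_E6 1)) = true := by
  decide +kernel

set_option maxRecDepth 100000 in
theorem h8reflChunk_E6_1_1 : (List.range' 60 12).all (h8reflRow chevE6 1 (h8eta_E6 1)) = true := by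
  decide +kernel

theorem h8reflChk_E6_1 : h8reflChk chevE6 1 (h8eta_E6 1) = true := by
  apply h8reflChk_of_rows
  · decide +kernel
  · intro s hs
    have hn : chevE6.nroots = 72 := rfl
    rw [hn] at hs
    by_cases h0 : s < 60
    · exact h8rows_of_chunk _ _ _ h8reflChunk_E6_1_0 s (by omega) (by omega)
    exact h8rows_of_chunk _ _ _ h8reflChunk_E6_1_1 s (by omega) (by omega)

set_option maxRecDepth 100000 in
theorem h8reflChunk_E6_2_0 : (List.range' 0 60).all (h8reflRow chevE6 2 (h8eta_E6 2)) = true := by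
  decide +kernel

set_option maxRecDepth 100000 in
theorem h8reflChunk_E6_2_1 : (List.range' 60 12).all (h8reflRow chevE6 2 (h8eta_E6 2)) = true := by
  decide +kernel

theorem h8reflChk_E6_2 : h8reflChk chevE6 2 (h8eta_E6 2) = true := by
  apply h8reflChk_of_rows
  · decide +kernel
  · intro s hs
    have hn : chevE6.nroots = 72 := rfl
    rw [hn] at hs
    by_cases h0 : s < 60
    · exact h8rows_of_chunk _ _ _ h8reflChunk_E6_2_0 s (by omega) (by omega)
    exact h8rows_of_chunk _ _ _ h8reflChunk_E6_2_1 s (by omega) (by omega)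

set_option maxRecDepth 100000 in
theorem h8reflChunk_E6_3_0 : (List.range' 0 60).all (h8reflRow chevE6 3 (h8eta_E6 3)) = true := by
  decide +kernel

set_option maxRecDepth 100000 in
theorem h8reflChunk_E6_3_1 : (List.range' 60 12).all (h8reflRow chevE6 3 (h8eta_E6 3)) = true := by
  decide +kernel

theorem h8reflChk_E6_3 : h8reflChk chevE6 3 (h8eta_E6 3) = true := by
  apply h8reflChk_of_rows
  · decide +kernel
  · intro s hs
    have hn : chevE6.nroots = 72 := rfl
    rw [hn] at hs
    by_cases h0 : s < 60
    · exact h8rows_of_chunk _ _ _ h8reflChunk_E6_3_0 s (by omega) (by omega)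
    exact h8rows_of_chunk _ _ _ h8reflChunk_E6_3_1 s (by omega) (by omega)

set_option maxRecDepth 100000 in
theorem h8reflChunk_E6_4_0 : (List.range' 0 60).all (h8reflRow chevE6 4 (h8eta_E6 4)) = true := by
  decide +kernel

set_option maxRecDepth 100000 in
theorem h8reflChunk_E6_4_1 : (List.range' 60 12).all (h8reflRow chevE6 4 (h8eta_E6 4)) = true := by
  decide +kernel

theorem h8reflChk_E6_4 : h8reflChk chevE6 4 (h8eta_E6 4) = true := by
  apply h8reflChk_of_rows
  · decide +kernel
  · intro s hs
    have hn : chevE6.nroots = 72 := rfl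
    rw [hn] at hs
    by_cases h0 : s < 60
    · exact h8rows_of_chunk _ _ _ h8reflChunk_E6_4_0 s (by omega) (by omega)
    exact h8rows_of_chunk _ _ _ h8reflChunk_E6_4_1 s (by omega) (by omega)

set_option maxRecDepth 100000 in
theorem h8reflChunk_E6_5_0 : (List.range' 0 60).all (h8reflRow chevE6 5 (h8eta_E6 5)) = true := by
  decide +kernel

set_option maxRecDepth 100000 in
theorem h8reflChunk_E6_5_1 : (List.range' 60 12).all (h8reflRow chevE6 5 (h8eta_E6 5)) = true := by
  decide +kernel

theorem h8reflChk_E6_5 : h8reflChk chevE6 5 (h8eta_E6 5) = true := by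
  apply h8reflChk_of_rows
  · decide +kernel
  · intro s hs
    have hn : chevE6.nroots = 72 := rfl
    rw [hn] at hs
    by_cases h0 : s < 60
    · exact h8rows_of_chunk _ _ _ h8reflChunk_E6_5_0 s (by omega) (by omega)
    exact h8rows_of_chunk _ _ _ h8reflChunk_E6_5_1 s (by omega) (by omega)

end Cfsg.Agent.Lib.helper8
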