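import Mathlib
import Cfsg.Prelude.Def_ChevE6
import Cfsg.Agent.Lib.helper8.ChevTabCEE6
import Cfsg.Agent.Lib.helper8.ChevTabCAE6
import Cfsg.Agent.Lib.helper8.ChevTabReflE6

set_option autoImplicit false

namespace Cfsg.Agent.Lib.helper8

open Cfsg.Lie

theorem h8refl_E6 (i : ℕ) (hi : i < chevE6.rank) : ∃ eta : List ℤ,
    h8nChk chevE6 i eta = true ∧ h8etaChk chevE6 i eta = true ∧ h8reflChk chevE6 i eta = true := by
  have hr : chevE6.rank = 6 := rfl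
  rw [hr] at hi
  interval_cases i
  · exact ⟨h8eta_E6 0, (h8n_E6 0 (by decide)).1, (h8n_E6 0 (by decide)).2, h8reflChk_E6_0⟩
  · exact ⟨h8eta_E6 1, (h8n_E6 1 (by decide)).1, (h8n_E6 1 (by decide)).2, h8reflChk_E6_1⟩
  · exact ⟨h8eta_E6 2, (h8n_E6 2 (by decide)).1, (h8n_E6 2 (by decide)).2, h8reflChk_E6_2⟩
  · exact ⟨h8eta_E6 3, (h8n_E6 3 (by decide)).1, (h8n_E6 3 (by decide)).2, h8reflChk_E6_3⟩
  · exact ⟨h8eta_E6 4, (h8n_E6 4 (by decide)).1, (h8n_E6 4 (by decide)).2, h8reflChk_E6_4⟩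
  · exact ⟨h8eta_E6 5, (h8n_E6 5 (by decide)).1, (h8n_E6 5 (by decide)).2, h8reflChk_E6_5⟩

end Cfsg.Agent.Lib.helper8
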