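import Mathlib
import Cfsg.Prelude.Def_ChevE7
import Cfsg.Agent.Lib.helper8.ChevTabCEE7
import Cfsg.Agent.Lib.helper8.ChevTabCAE7
import Cfsg.Agent.Lib.helper8.ChevTabReflE7a
import Cfsg.Agent.Lib.helper8.ChevTabReflE7b

set_option autoImplicit false

namespace Cfsg.Agent.Lib.helper8

open Cfsg.Lie

theorem h8refl_E7 (i : ℕ) (hi : i < chevE7.rank) : ∃ eta : List ℤ,
    h8nChk chevE7 i eta = true ∧ h8etaChk chevE7 i eta = true ∧ h8reflChk chevE7 i eta = true := by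
  have hr : chevE7.rank = 7 := rfl
  rw [hr] at hi
  interval_cases i
  · exact ⟨h8eta_E7 0, (h8n_E7 0 (by decide)).1, (h8n_E7 0 (by decide)).2, h8reflChk_E7_0⟩
  · exact ⟨h8eta_E7 1, (h8n_E7 1 (by decide)).1, (h8n_E7 1 (by decide)).2, h8reflChk_E7_1⟩
  · exact ⟨h8eta_E7 2, (h8n_E7 2 (by decide)).1, (h8n_E7 2 (by decide)).2, h8reflChk_E7_2⟩
  · exact ⟨h8eta_E7 3, (h8n_E7 3 (by decide)).1, (h8n_E7 3 (by decide)).2, h8reflChk_E7_3⟩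
  · exact ⟨h8eta_E7 4, (h8n_E7 4 (by decide)).1, (h8n_E7 4 (by decide)).2, h8reflChk_E7_4⟩
  · exact ⟨h8eta_E7 5, (h8n_E7 5 (by decide)).1, (h8n_E7 5 (by decide)).2, h8reflChk_E7_5⟩
  · exact ⟨h8eta_E7 6, (h8n_E7 6 (by decide)).1, (h8n_E7 6 (by decide)).2, h8reflChk_E7_6⟩

end Cfsg.Agent.Lib.helper8
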