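import Mathlib
import Cfsg.Prelude.Def_ChevE8
import Cfsg.Agent.Lib.helper8.ChevReflChk
import Cfsg.Agent.Lib.helper8.ChevTabNE8

set_option autoImplicit false

namespace Cfsg.Agent.Lib.helper8

open Cfsg.Lie

set_option maxRecDepth 100000 in
theorem h8reflChunk_E8_1_0 : (List.range' 0 60).all (h8reflRow chevE8 1 (h8eta_E8 1)) = true := by
  decide +kernel

set_option maxRecDepth 100000 in
theorem h8reflChunk_E8_1_1 : (List.range' 60 60).all (h8reflRow chevE8 1 (h8eta_E8 1)) = true := by
  decide +kernel

set_option maxRecDepth 100000 in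
theorem h8reflChunk_E8_1_2 : (List.range' 120 60).all (h8reflRow chevE8 1 (h8eta_E8 1)) = true := by
  decide +kernel

set_option maxRecDepth 100000 in
theorem h8reflChunk_E8_1_3 : (List.range' 180 60).all (h8reflRow chevE8 1 (h8eta_E8 1)) = true := by
  decide +kernel

theorem h8reflChk_E8_1 : h8reflChk chevE8 1 (h8eta_E8 1) = true := by
  apply h8reflChk_of_rows
  · decide +kernel
  · intro s hs
    have hn : chevE8.nroots = 240 := rfl
    rw [hn] at hs
    by_cases h0 : s < 60
    · exact h8rows_of_chunk _ _ _ h8reflChunk_E8_1_0 s (by omega) (by omega)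
    by_cases h1 : s < 120
    · exact h8rows_of_chunk _ _ _ h8reflChunk_E8_1_1 s (by omega) (by omega)
    by_cases h2 : s < 180
    · exact h8rows_of_chunk _ _ _ h8reflChunk_E8_1_2 s (by omega) (by omega)
    exact h8rows_of_chunk _ _ _ h8reflChunk_E8_1_3 s (by omega) (by omega)

end Cfsg.Agent.Lib.helper8
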