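import Mathlib
import Cfsg.Prelude.Def_ChevE8
import Cfsg.Agent.Lib.helper8.ChevTabCEE8
import Cfsg.Agent.Lib.helper8.ChevTabCAE8
import Cfsg.Agent.Lib.helper8.ChevTabReflE8a
import Cfsg.Agent.Lib.helper8.ChevTabReflE8b
import Cfsg.Agent.Lib.helper8.ChevTabReflE8c
import Cfsg.Agent.Lib.helper8.ChevTabReflE8d
import Cfsg.Agent.Lib.helper8.ChevTabReflE8e
import Cfsg.Agent.Lib.helper8.ChevTabReflE8f
import Cfsg.Agent.Lib.helper8.ChevTabReflE8g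
import Cfsg.Agent.Lib.helper8.ChevTabReflE8h

set_option autoImplicit false

namespace Cfsg.Agent.Lib.helper8

open Cfsg.Lie

theorem h8refl_E8 (i : ℕ) (hi : i < chevE8.rank) : ∃ eta : List ℤ,
    h8nChk chevE8 i eta = true ∧ h8etaChk chevE8 i eta = true ∧ h8reflChk chevE8 i eta = true := by
  have hr : chevE8.rank = 8 := rfl
  rw [hr] at hi
  interval_cases i
  · exact ⟨h8eta_E8 0, (h8n_E8 0 (by decide)).1, (h8n_E8 0 (by decide)).2, h8reflChk_E8_0⟩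
  · exact ⟨h8eta_E8 1, (h8n_E8 1 (by decide)).1, (h8n_E8 1 (by decide)).2, h8reflChk_E8_1⟩
  · exact ⟨h8eta_E8 2, (h8n_E8 2 (by decide)).1, (h8n_E8 2 (by decide)).2, h8reflChk_E8_2⟩
  · exact ⟨h8eta_E8 3, (h8n_E8 3 (by decide)).1, (h8n_E8 3 (by decide)).2, h8reflChk_E8_3⟩
  · exact ⟨h8eta_E8 4, (h8n_E8 4 (by decide)).1, (h8n_E8 4 (by decide)).2, h8reflChk_E8_4⟩
  · exact ⟨h8eta_E8 5, (h8n_E8 5 (by decide)).1, (h8n_E8 5 (by decide)).2, h8reflChk_E8_5⟩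
  · exact ⟨h8eta_E8 6, (h8n_E8 6 (by decide)).1, (h8n_E8 6 (by decide)).2, h8reflChk_E8_6⟩
  · exact ⟨h8eta_E8 7, (h8n_E8 7 (by decide)).1, (h8n_E8 7 (by decide)).2, h8reflChk_E8_7⟩

end Cfsg.Agent.Lib.helper8
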