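import Mathlib
import Cfsg.Prelude.Def_ChevF4
import Cfsg.Agent.Lib.helper8.ChevTabCEF4
import Cfsg.Agent.Lib.helper8.ChevTabCAF4
import Cfsg.Agent.Lib.helper8.ChevTabReflF4

set_option autoImplicit false

namespace Cfsg.Agent.Lib.helper8

open Cfsg.Lie

theorem h8refl_F4 (i : ℕ) (hi : i < chevF4.rank) : ∃ eta : List ℤ,
    h8nChk chevF4 i eta = true ∧ h8etaChk chevF4 i eta = true ∧ h8reflChk chevF4 i eta = true := by
  have hr : chevF4.rank = 4 := rfl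
  rw [hr] at hi
  interval_cases i
  · exact ⟨h8eta_F4 0, (h8n_F4 0 (by decide)).1, (h8n_F4 0 (by decide)).2, h8reflChk_F4_0⟩
  · exact ⟨h8eta_F4 1, (h8n_F4 1 (by decide)).1, (h8n_F4 1 (by decide)).2, h8reflChk_F4_1⟩
  · exact ⟨h8eta_F4 2, (h8n_F4 2 (by decide)).1, (h8n_F4 2 (by decide)).2, h8reflChk_F4_2⟩
  · exact ⟨h8eta_F4 3, (h8n_F4 3 (by decide)).1, (h8n_F4 3 (by decide)).2, h8reflChk_F4_3⟩

end Cfsg.Agent.Lib.helper8
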