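import Mathlib
import Cfsg.Prelude.Def_ChevG2
import Cfsg.Agent.Lib.helper8.ChevReflChk
import Cfsg.Agent.Lib.helper8.ChevTabNG2

set_option autoImplicit false

namespace Cfsg.Agent.Lib.helper8

open Cfsg.Lie

set_option maxRecDepth 100000 in
theorem h8reflChunk_G2_0_0 : (List.range' 0 12).all (h8reflRow chevG2 0 (h8eta_G2 0)) = true := by
  decide +kernel

theorem h8reflChk_G2_0 : h8reflChk chevG2 0 (h8eta_G2 0) = true := by
  apply h8reflChk_of_rows
  · decide +kernel
  · intro s hs
    have hn : chevG2.nroots = 12 := rfl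
    rw [hn] at hs
    exact h8rows_of_chunk _ _ _ h8reflChunk_G2_0_0 s (by omega) (by omega)

set_option maxRecDepth 100000 in
theorem h8reflChunk_G2_1_0 : (List.range' 0 12).all (h8reflRow chevG2 1 (h8eta_G2 1)) = true := by
  decide +kernel

theorem h8reflChk_G2_1 : h8reflChk chevG2 1 (h8eta_G2 1) = true := by
  apply h8reflChk_of_rows
  · decide +kernel
  · intro s hs
    have hn : chevG2.nroots = 12 := rfl
    rw [hn] at hs
    exact h8rows_of_chunk _ _ _ h8reflChunk_G2_1_0 s (by omega) (by omega)

end Cfsg.Agent.Lib.helper8
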