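import Mathlib
import Cfsg.Agent.Lib.helper8.ChevW0
import Cfsg.Agent.Lib.helper8.ChevReflDataG2
import Cfsg.Agent.Lib.helper8.ChevReflDataB2
import Cfsg.Agent.Lib.helper8.ChevReflDataD4
import Cfsg.Agent.Lib.helper8.ChevReflDataF4
import Cfsg.Agent.Lib.helper8.ChevReflDataE6
import Cfsg.Agent.Lib.helper8.ChevReflDataE7
import Cfsg.Agent.Lib.helper8.ChevReflDataE8

set_option autoImplicit false

namespace Cfsg.Agent.Lib.helper8

open Cfsg.Lie Cfsg.Lie.ChevalleyDatum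

theorem h8reflAll (D : ChevalleyDatum)
    (hD : D ∈ [chevG2, chevB2, chevD4, chevF4, chevE6, chevE7, chevE8]) : H8ReflAll D := by
  simp only [List.mem_cons, List.mem_nil_iff, or_false] at hD
  rcases hD with rfl | rfl | rfl | rfl | rfl | rfl | rfl
  · exact ⟨h8ceChk_G2, h8CAchk_G2, h8refl_G2⟩
  · exact ⟨h8ceChk_B2, h8CAchk_B2, h8refl_B2⟩
  · exact ⟨h8ceChk_D4, h8CAchk_D4, h8refl_D4⟩
  · exact ⟨h8ceChk_F4, h8CAchk_F4, h8refl_F4⟩
  · exact ⟨h8ceChk_E6, h8CAchk_E6, h8refl_E6⟩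
  · exact ⟨h8ceChk_E7, h8CAchk_E7, h8refl_E7⟩
  · exact ⟨h8ceChk_E8, h8CAchk_E8, h8refl_E8⟩

end Cfsg.Agent.Lib.helper8
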