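import Mathlib
import Cfsg.Prelude.Def_ChevD4
import Cfsg.Agent.Lib.helper8.ChevCertRowsD4
import Cfsg.Agent.Lib.helper8.ChevCertBaseD4
import Cfsg.Agent.Lib.helper8.ChevBaseAll
import Cfsg.Agent.Lib.helper8.ChevReflAll

set_option autoImplicit false

namespace Cfsg.Agent.Lib.helper8

open Cfsg.Lie

universe u

theorem h8crows_D4 : ∀ r < chevD4.nroots,
    h8pairRow chevD4 h8csg_D4 h8cbase_D4 h8cdep_D4 h8cpar_D4 r = true := by
  intro r hr
  have hn : chevD4.nroots = 24 := rfl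
  rw [hn] at hr
  exact h8rows_of_chunk _ _ _ h8crow_D4_0 r (by omega) (by omega)

theorem h8commAll_D4 : H8CommAll.{u} chevD4 := by
  have hD : chevD4 ∈ [chevG2, chevB2, chevD4, chevF4, chevE6, chevE7, chevE8] := by simp
  have hB := h8base_all.{u} chevD4 hD
  refine ⟨h8pair_all chevD4 hB (h8reflAll chevD4 hD) h8len2_D4 (by decide) h8csg_D4 h8csgChk_D4
    h8cbase_D4 h8cdep_D4 h8cpar_D4 ?_ h8crows_D4⟩
  intro p hp
  exact h8comm_of_chk chevD4 hB p.1 p.2 (h8cbaseAll_D4 p hp)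

end Cfsg.Agent.Lib.helper8
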