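import Mathlib
import Cfsg.Prelude.Def_ChevE6
import Cfsg.Agent.Lib.helper8.ChevCertPairE6

set_option autoImplicit false

namespace Cfsg.Agent.Lib.helper8

open Cfsg.Lie

set_option maxRecDepth 100000 in
theorem h8crow_E6_0 : (List.range' 0 36).all
    (h8pairRow chevE6 h8csg_E6 h8cbase_E6 h8cdep_E6 h8cpar_E6) = true := by decide +kernel

set_option maxRecDepth 100000 in
theorem h8crow_E6_1 : (List.range' 36 36).all
    (h8pairRow chevE6 h8csg_E6 h8cbase_E6 h8cdep_E6 h8cpar_E6) = true := by decide +kernel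


end Cfsg.Agent.Lib.helper8
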