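import Mathlib
import Cfsg.Prelude.Def_ChevE6
import Cfsg.Agent.Lib.helper8.ChevCertRowsE6
import Cfsg.Agent.Lib.helper8.ChevCertBaseE6
import Cfsg.Agent.Lib.helper8.ChevBaseAll
import Cfsg.Agent.Lib.helper8.ChevReflAll

set_option autoImplicit false

namespace Cfsg.Agent.Lib.helper8

open Cfsg.Lie

universe u

theorem h8crows_E6 : ∀ r < chevE6.nroots,
    h8pairRow chevE6 h8csg_E6 h8cbase_E6 h8cdep_E6 h8cpar_E6 r = true := by
  intro r hr
  have hn : chevE6.nroots = 72 := rfl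
  rw [hn] at hr
  by_cases h0 : r < 36
  · exact h8rows_of_chunk _ _ _ h8crow_E6_0 r (by omega) (by omega)
  exact h8rows_of_chunk _ _ _ h8crow_E6_1 r (by omega) (by omega)

theorem h8commAll_E6 : H8CommAll.{u} chevE6 := by
  have hD : chevE6 ∈ [chevG2, chevB2, chevD4, chevF4, chevE6, chevE7, chevE8] := by simp
  have hB := h8base_all.{u} chevE6 hD
  refine ⟨h8pair_all chevE6 hB (h8reflAll chevE6 hD) h8len2_E6 (by decide) h8csg_E6 h8csgChk_E6
    h8cbase_E6 h8cdep_E6 h8cpar_E6 ?_ h8crows_E6⟩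
  intro p hp
  exact h8comm_of_chk chevE6 hB p.1 p.2 (h8cbaseAll_E6 p hp)

end Cfsg.Agent.Lib.helper8
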