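import Mathlib
import Cfsg.Prelude.Def_ChevE7
import Cfsg.Agent.Lib.helper8.ChevCertPairE7

set_option autoImplicit false

namespace Cfsg.Agent.Lib.helper8

open Cfsg.Lie

set_option maxRecDepth 100000 in
theorem h8cbaseK_E7_0 : h8commChk chevE7 0 1 = true := by decide +kernel

set_option maxRecDepth 100000 in
theorem h8cbaseK_E7_1 : h8commChk chevE7 0 33 = true := by decide +kernel

set_option maxRecDepth 100000 in
theorem h8cbaseK_E7_2 : h8commChk chevE7 0 93 = true := by decide +kernel

theorem h8cbaseAll_E7 : ∀ p ∈ h8cbase_E7, h8commChk chevE7 p.1 p.2 = true := by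
  intro p hp
  unfold h8cbase_E7 at hp
  simp only [List.mem_cons, List.not_mem_nil, or_false] at hp
  rcases hp with rfl | rfl | rfl
  · exact h8cbaseK_E7_0
  · exact h8cbaseK_E7_1
  · exact h8cbaseK_E7_2

end Cfsg.Agent.Lib.helper8
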