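import Mathlib
import Cfsg.Prelude.Def_ChevE7
import Cfsg.Agent.Lib.helper8.ChevCertPairE7

set_option autoImplicit false

namespace Cfsg.Agent.Lib.helper8

open Cfsg.Lie

set_option maxRecDepth 100000 in
theorem h8crow_E7_0 : (List.range' 0 42).all
    (h8pairRow chevE7 h8csg_E7 h8cbase_E7 h8cdep_E7 h8cpar_E7) = true := by decide +kernel

set_option maxRecDepth 100000 in
theorem h8crow_E7_1 : (List.range' 42 42).all
    (h8pairRow chevE7 h8csg_E7 h8cbase_E7 h8cdep_E7 h8cpar_E7) = true := by decide +kernel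

set_option maxRecDepth 100000 in
theorem h8crow_E7_2 : (List.range' 84 42).all
    (h8pairRow chevE7 h8csg_E7 h8cbase_E7 h8cdep_E7 h8cpar_E7) = true := by decide +kernel


end Cfsg.Agent.Lib.helper8
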