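import Mathlib
import Cfsg.Prelude.Def_ChevE7
import Cfsg.Agent.Lib.helper8.ChevCertRowsE7
import Cfsg.Agent.Lib.helper8.ChevCertBaseE7
import Cfsg.Agent.Lib.helper8.ChevBaseAll
import Cfsg.Agent.Lib.helper8.ChevReflAll

set_option autoImplicit false

namespace Cfsg.Agent.Lib.helper8

open Cfsg.Lie

universe u

theorem h8crows_E7 : ∀ r < chevE7.nroots,
    h8pairRow chevE7 h8csg_E7 h8cbase_E7 h8cdep_E7 h8cpar_E7 r = true := by
  intro r hr
  have hn : chevE7.nroots = 126 := rfl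
  rw [hn] at hr
  by_cases h0 : r < 42
  · exact h8rows_of_chunk _ _ _ h8crow_E7_0 r (by omega) (by omega)
  by_cases h1 : r < 84
  · exact h8rows_of_chunk _ _ _ h8crow_E7_1 r (by omega) (by omega)
  exact h8rows_of_chunk _ _ _ h8crow_E7_2 r (by omega) (by omega)

theorem h8commAll_E7 : H8CommAll.{u} chevE7 := by
  have hD : chevE7 ∈ [chevG2, chevB2, chevD4, chevF4, chevE6, chevE7, chevE8] := by simp
  have hB := h8base_all.{u} chevE7 hD
  refine ⟨h8pair_all chevE7 hB (h8reflAll chevE7 hD) h8len2_E7 (by decide) h8csg_E7 h8csgChk_E7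
    h8cbase_E7 h8cdep_E7 h8cpar_E7 ?_ h8crows_E7⟩
  intro p hp
  exact h8comm_of_chk chevE7 hB p.1 p.2 (h8cbaseAll_E7 p hp)

end Cfsg.Agent.Lib.helper8
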