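import Mathlib
import Cfsg.Prelude.Def_ChevE8
import Cfsg.Agent.Lib.helper8.ChevCertRowsE8a
import Cfsg.Agent.Lib.helper8.ChevCertRowsE8b
import Cfsg.Agent.Lib.helper8.ChevCertRowsE8c
import Cfsg.Agent.Lib.helper8.ChevCertBaseE8
import Cfsg.Agent.Lib.helper8.ChevBaseAll
import Cfsg.Agent.Lib.helper8.ChevReflAll

set_option autoImplicit false

namespace Cfsg.Agent.Lib.helper8

open Cfsg.Lie

universe u

theorem h8crows_E8 : ∀ r < chevE8.nroots,
    h8pairRow chevE8 h8csg_E8 h8cbase_E8 h8cdep_E8 h8cpar_E8 r = true := by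
  intro r hr
  have hn : chevE8.nroots = 240 := rfl
  rw [hn] at hr
  by_cases h0 : r < 20
  · exact h8rows_of_chunk _ _ _ h8crow_E8_0 r (by omega) (by omega)
  by_cases h1 : r < 40
  · exact h8rows_of_chunk _ _ _ h8crow_E8_1 r (by omega) (by omega)
  by_cases h2 : r < 60
  · exact h8rows_of_chunk _ _ _ h8crow_E8_2 r (by omega) (by omega)
  by_cases h3 : r < 80
  · exact h8rows_of_chunk _ _ _ h8crow_E8_3 r (by omega) (by omega)
  by_cases h4 : r < 100
  · exact h8rows_of_chunk _ _ _ h8crow_E8_4 r (by omega) (by omega)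
  by_cases h5 : r < 120
  · exact h8rows_of_chunk _ _ _ h8crow_E8_5 r (by omega) (by omega)
  by_cases h6 : r < 140
  · exact h8rows_of_chunk _ _ _ h8crow_E8_6 r (by omega) (by omega)
  by_cases h7 : r < 160
  · exact h8rows_of_chunk _ _ _ h8crow_E8_7 r (by omega) (by omega)
  by_cases h8 : r < 180
  · exact h8rows_of_chunk _ _ _ h8crow_E8_8 r (by omega) (by omega)
  by_cases h9 : r < 200
  · exact h8rows_of_chunk _ _ _ h8crow_E8_9 r (by omega) (by omega)
  by_cases h10 : r < 220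
  · exact h8rows_of_chunk _ _ _ h8crow_E8_10 r (by omega) (by omega)
  exact h8rows_of_chunk _ _ _ h8crow_E8_11 r (by omega) (by omega)

theorem h8commAll_E8 : H8CommAll.{u} chevE8 := by
  have hD : chevE8 ∈ [chevG2, chevB2, chevD4, chevF4, chevE6, chevE7, chevE8] := by simp
  have hB := h8base_all.{u} chevE8 hD
  refine ⟨h8pair_all chevE8 hB (h8reflAll chevE8 hD) h8len2_E8 (by decide) h8csg_E8 h8csgChk_E8
    h8cbase_E8 h8cdep_E8 h8cpar_E8 ?_ h8crows_E8⟩
  intro p hp
  exact h8comm_of_chk chevE8 hB p.1 p.2 (h8cbaseAll_E8 p hp)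

end Cfsg.Agent.Lib.helper8
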