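import Mathlib
import Cfsg.Prelude.Def_ChevF4
import Cfsg.Agent.Lib.helper8.ChevCertPairF4

set_option autoImplicit false

namespace Cfsg.Agent.Lib.helper8

open Cfsg.Lie

set_option maxRecDepth 100000 in
theorem h8cbaseK_F4_0 : h8commChk chevF4 0 1 = true := by decide +kernel

set_option maxRecDepth 100000 in
theorem h8cbaseK_F4_1 : h8commChk chevF4 0 3 = true := by decide +kernel

set_option maxRecDepth 100000 in
theorem h8cbaseK_F4_2 : h8commChk chevF4 0 6 = true := by decide +kernel

set_option maxRecDepth 100000 in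
theorem h8cbaseK_F4_3 : h8commChk chevF4 0 10 = true := by decide +kernel

set_option maxRecDepth 100000 in
theorem h8cbaseK_F4_4 : h8commChk chevF4 0 24 = true := by decide +kernel

set_option maxRecDepth 100000 in
theorem h8cbaseK_F4_5 : h8commChk chevF4 0 29 = true := by decide +kernel

set_option maxRecDepth 100000 in
theorem h8cbaseK_F4_6 : h8commChk chevF4 3 0 = true := by decide +kernel

set_option maxRecDepth 100000 in
theorem h8cbaseK_F4_7 : h8commChk chevF4 3 7 = true := by decide +kernel

set_option maxRecDepth 100000 in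
theorem h8cbaseK_F4_8 : h8commChk chevF4 3 15 = true := by decide +kernel

set_option maxRecDepth 100000 in
theorem h8cbaseK_F4_9 : h8commChk chevF4 3 18 = true := by decide +kernel

set_option maxRecDepth 100000 in
theorem h8cbaseK_F4_10 : h8commChk chevF4 3 33 = true := by decide +kernel

set_option maxRecDepth 100000 in
theorem h8cbaseK_F4_11 : h8commChk chevF4 3 41 = true := by decide +kernel

theorem h8cbaseAll_F4 : ∀ p ∈ h8cbase_F4, h8commChk chevF4 p.1 p.2 = true := by
  intro p hp
  unfold h8cbase_F4 at hp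
  simp only [List.mem_cons, List.not_mem_nil, or_false] at hp
  rcases hp with rfl | rfl | rfl | rfl | rfl | rfl | rfl | rfl | rfl | rfl | rfl | rfl
  · exact h8cbaseK_F4_0
  · exact h8cbaseK_F4_1
  · exact h8cbaseK_F4_2
  · exact h8cbaseK_F4_3
  · exact h8cbaseK_F4_4
  · exact h8cbaseK_F4_5
  · exact h8cbaseK_F4_6
  · exact h8cbaseK_F4_7
  · exact h8cbaseK_F4_8
  · exact h8cbaseK_F4_9
  · exact h8cbaseK_F4_10
  · exact h8cbaseK_F4_11

end Cfsg.Agent.Lib.helper8
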