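import Mathlib
import Cfsg.Prelude.Def_ChevF4
import Cfsg.Agent.Lib.helper8.ChevCertPairF4

set_option autoImplicit false

namespace Cfsg.Agent.Lib.helper8

open Cfsg.Lie

set_option maxRecDepth 100000 in
theorem h8crow_F4_0 : (List.range' 0 48).all
    (h8pairRow chevF4 h8csg_F4 h8cbase_F4 h8cdep_F4 h8cpar_F4) = true := by decide +kernel


end Cfsg.Agent.Lib.helper8
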