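import Mathlib
import Cfsg.Prelude.Def_ChevF4
import Cfsg.Agent.Lib.helper8.ChevCertRowsF4
import Cfsg.Agent.Lib.helper8.ChevCertBaseF4
import Cfsg.Agent.Lib.helper8.ChevBaseAll
import Cfsg.Agent.Lib.helper8.ChevReflAll

set_option autoImplicit false

namespace Cfsg.Agent.Lib.helper8

open Cfsg.Lie

universe u

theorem h8crows_F4 : ∀ r < chevF4.nroots,
    h8pairRow chevF4 h8csg_F4 h8cbase_F4 h8cdep_F4 h8cpar_F4 r = true := by
  intro r hr
  have hn : chevF4.nroots = 48 := rfl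
  rw [hn] at hr
  exact h8rows_of_chunk _ _ _ h8crow_F4_0 r (by omega) (by omega)

theorem h8commAll_F4 : H8CommAll.{u} chevF4 := by
  have hD : chevF4 ∈ [chevG2, chevB2, chevD4, chevF4, chevE6, chevE7, chevE8] := by simp
  have hB := h8base_all.{u} chevF4 hD
  refine ⟨h8pair_all chevF4 hB (h8reflAll chevF4 hD) h8len2_F4 (by decide) h8csg_F4 h8csgChk_F4
    h8cbase_F4 h8cdep_F4 h8cpar_F4 ?_ h8crows_F4⟩
  intro p hp
  exact h8comm_of_chk chevF4 hB p.1 p.2 (h8cbaseAll_F4 p hp)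

end Cfsg.Agent.Lib.helper8
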