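import Mathlib
import Cfsg.Prelude.Def_ChevG2
import Cfsg.Agent.Lib.helper8.ChevCommOrb
import Cfsg.Agent.Lib.helper8.ChevBaseAll

set_option autoImplicit false

namespace Cfsg.Agent.Lib.helper8

open Cfsg.Lie

universe u

set_option maxRecDepth 100000 in
theorem h8cbrute_G2_0 : (List.range' 0 2).all (h8commAllRow chevG2) = true := by decide +kernel

set_option maxRecDepth 100000 in
theorem h8cbrute_G2_1 : (List.range' 2 2).all (h8commAllRow chevG2) = true := by decide +kernel

set_option maxRecDepth 100000 in
theorem h8cbrute_G2_2 : (List.range' 4 2).all (h8commAllRow chevG2) = true := by decide +kernel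

set_option maxRecDepth 100000 in
theorem h8cbrute_G2_3 : (List.range' 6 2).all (h8commAllRow chevG2) = true := by decide +kernel

set_option maxRecDepth 100000 in
theorem h8cbrute_G2_4 : (List.range' 8 2).all (h8commAllRow chevG2) = true := by decide +kernel

set_option maxRecDepth 100000 in
theorem h8cbrute_G2_5 : (List.range' 10 2).all (h8commAllRow chevG2) = true := by decide +kernel

theorem h8cbrows_G2 : ∀ r < chevG2.nroots, h8commAllRow chevG2 r = true := by
  intro r hr
  have hn : chevG2.nroots = 12 := rfl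
  rw [hn] at hr
  by_cases h0 : r < 2
  · exact h8rows_of_chunk _ _ _ h8cbrute_G2_0 r (by omega) (by omega)
  by_cases h1 : r < 4
  · exact h8rows_of_chunk _ _ _ h8cbrute_G2_1 r (by omega) (by omega)
  by_cases h2 : r < 6
  · exact h8rows_of_chunk _ _ _ h8cbrute_G2_2 r (by omega) (by omega)
  by_cases h3 : r < 8
  · exact h8rows_of_chunk _ _ _ h8cbrute_G2_3 r (by omega) (by omega)
  by_cases h4 : r < 10
  · exact h8rows_of_chunk _ _ _ h8cbrute_G2_4 r (by omega) (by omega)
  exact h8rows_of_chunk _ _ _ h8cbrute_G2_5 r (by omega) (by omega)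

theorem h8commAll_G2 : H8CommAll.{u} chevG2 := by
  have hD : chevG2 ∈ [chevG2, chevB2, chevD4, chevF4, chevE6, chevE7, chevE8] := by simp
  exact ⟨h8commAll_spec chevG2 (h8base_all.{u} chevG2 hD) h8cbrows_G2⟩

end Cfsg.Agent.Lib.helper8
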