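import Mathlib
import Cfsg.Prelude.Def_ChevStructure
import Cfsg.Agent.Lib.helper8.ChevCommDataG2
import Cfsg.Agent.Lib.helper8.ChevCommDataB2
import Cfsg.Agent.Lib.helper8.ChevCommDataD4
import Cfsg.Agent.Lib.helper8.ChevCommDataF4
import Cfsg.Agent.Lib.helper8.ChevCommDataE6
import Cfsg.Agent.Lib.helper8.ChevCommDataE7
import Cfsg.Agent.Lib.helper8.ChevCommDataE8

set_option autoImplicit false

namespace Cfsg.Agent.Lib.helper8

open Cfsg.Lie

universe u

theorem h8commAll (D : ChevalleyDatum)
    (hD : D ∈ [chevG2, chevB2, chevD4, chevF4, chevE6, chevE7, chevE8]) : H8CommAll.{u} D := by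
  simp only [List.mem_cons, List.not_mem_nil, or_false] at hD
  rcases hD with rfl | rfl | rfl | rfl | rfl | rfl | rfl
  · exact h8commAll_G2
  · exact h8commAll_B2
  · exact h8commAll_D4
  · exact h8commAll_F4
  · exact h8commAll_E6
  · exact h8commAll_E7
  · exact h8commAll_E8

end Cfsg.Agent.Lib.helper8
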