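import Mathlib
import Cfsg.Prelude.Def_ChevStructure
import Cfsg.Agent.Lib.helper8.ChevOrd3
import Cfsg.Agent.Lib.helper8.ChevCE
import Cfsg.Agent.Lib.helper8.ChevReflChk

set_option autoImplicit false

namespace Cfsg.Agent.Lib.helper8

open Cfsg.Lie Cfsg.Lie.ChevalleyDatum

universe u

def h8uqRow (D : ChevalleyDatum) (r : ℕ) : Bool :=
  decide (D.negIdx.getD r 0 < D.nroots) && decide (D.negIdx.getD (D.negIdx.getD r 0) 0 = r) &&
  (!(decide (D.IsPosRoot r)) ||
    (decide (h8gcdL ((List.range D.rank).map fun a => (D.coroot.getD r #[]).getD a 0) = 1) &&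
     (List.range' (D.nroots / 2) (r - D.nroots / 2)).all fun k =>
        (h8ce D r (D.negIdx.getD k 0)).all fun e => decide (D.nroots / 2 ≤ e.1)))

theorem h8ord2_of (D : ChevalleyDatum) (hB : H8Base.{u} D) (hce : h8ceChk D = true)
    (hrow : ∀ r < D.nroots, h8uqRow D r = true) : H8Ord2 D := by
  have hrow' : ∀ r < D.nroots, (D.negIdx.getD r 0 < D.nroots ∧
      D.negIdx.getD (D.negIdx.getD r 0) 0 = r) ∧ (D.IsPosRoot r →
      h8gcdL ((List.range D.rank).map fun a => (D.coroot.getD r #[]).getD a 0) = 1 ∧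
      ∀ k, D.nroots / 2 ≤ k → k < r → ∀ e ∈ h8ce D r (D.negIdx.getD k 0), D.nroots / 2 ≤ e.1) := by
    intro r hr
    have h := hrow r hr
    unfold h8uqRow at h
    simp only [Bool.and_eq_true, Bool.or_eq_true, Bool.not_eq_true', decide_eq_false_iff_not,
      decide_eq_true_eq, List.all_eq_true, List.mem_range'_1] at h
    refine ⟨h.1, ?_⟩
    intro hp
    rcases h.2 with h2 | h2
    · exact absurd hp h2
    · refine ⟨h2.1, ?_⟩
      intro k hk1 hk2 e he
      exact h2.2 k ⟨hk1, by omega⟩ e he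
  refine ⟨fun r hr => h8ceChk_sorted D hce r hr, fun r hr => (hrow' r hr).1, ?_, ?_⟩
  · intro k r hk hr hkr e he
    have hk1 := (h8PosOK_spec hB.posOK hk).1
    rw [← h8ce_eq D hce r _ hr.1] at he
    exact ((hrow' r hr.1).2 hr).2 k hk1 hkr e he
  · intro k hk
    exact ((hrow' k hk.1).2 hk).1

end Cfsg.Agent.Lib.helper8
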