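import Mathlib
import Cfsg.Prelude.Def_ChevD4
import Cfsg.Agent.Lib.helper8.ChevOrdChk

set_option autoImplicit false

namespace Cfsg.Agent.Lib.helper8

open Cfsg.Lie

set_option maxRecDepth 100000 in
theorem h8uqChunk_D4_0 : (List.range' 0 24).all (h8uqRow chevD4) = true := by decide +kernel

theorem h8uq_D4 : ∀ r < chevD4.nroots, h8uqRow chevD4 r = true := by
  intro r hr
  have hn : chevD4.nroots = 24 := rfl
  rw [hn] at hr
  exact h8rows_of_chunk _ _ _ h8uqChunk_D4_0 r (by omega) (by omega)

end Cfsg.Agent.Lib.helper8
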