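import Mathlib
import Cfsg.Prelude.Def_ChevE7
import Cfsg.Agent.Lib.helper8.ChevOrdChk

set_option autoImplicit false

namespace Cfsg.Agent.Lib.helper8

open Cfsg.Lie

set_option maxRecDepth 100000 in
theorem h8uqChunk_E7_0 : (List.range' 0 63).all (h8uqRow chevE7) = true := by decide +kernel

set_option maxRecDepth 100000 in
theorem h8uqChunk_E7_1 : (List.range' 63 63).all (h8uqRow chevE7) = true := by decide +kernel

theorem h8uq_E7 : ∀ r < chevE7.nroots, h8uqRow chevE7 r = true := by
  intro r hr
  have hn : chevE7.nroots = 126 := rfl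
  rw [hn] at hr
  by_cases h0 : r < 63
  · exact h8rows_of_chunk _ _ _ h8uqChunk_E7_0 r (by omega) (by omega)
  exact h8rows_of_chunk _ _ _ h8uqChunk_E7_1 r (by omega) (by omega)

end Cfsg.Agent.Lib.helper8
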