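import Mathlib
import Cfsg.Prelude.Def_ChevE8
import Cfsg.Agent.Lib.helper8.ChevOrdChk

set_option autoImplicit false

namespace Cfsg.Agent.Lib.helper8

open Cfsg.Lie

set_option maxRecDepth 100000 in
theorem h8uqChunk_E8_0 : (List.range' 0 40).all (h8uqRow chevE8) = true := by decide +kernel

set_option maxRecDepth 100000 in
theorem h8uqChunk_E8_1 : (List.range' 40 40).all (h8uqRow chevE8) = true := by decide +kernel

set_option maxRecDepth 100000 in
theorem h8uqChunk_E8_2 : (List.range' 80 40).all (h8uqRow chevE8) = true := by decide +kernel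

set_option maxRecDepth 100000 in
theorem h8uqChunk_E8_3 : (List.range' 120 40).all (h8uqRow chevE8) = true := by decide +kernel

set_option maxRecDepth 100000 in
theorem h8uqChunk_E8_4 : (List.range' 160 40).all (h8uqRow chevE8) = true := by decide +kernel

set_option maxRecDepth 100000 in
theorem h8uqChunk_E8_5 : (List.range' 200 40).all (h8uqRow chevE8) = true := by decide +kernel

theorem h8uq_E8 : ∀ r < chevE8.nroots, h8uqRow chevE8 r = true := by
  intro r hr
  have hn : chevE8.nroots = 240 := rfl
  rw [hn] at hr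
  by_cases h0 : r < 40
  · exact h8rows_of_chunk _ _ _ h8uqChunk_E8_0 r (by omega) (by omega)
  by_cases h1 : r < 80
  · exact h8rows_of_chunk _ _ _ h8uqChunk_E8_1 r (by omega) (by omega)
  by_cases h2 : r < 120
  · exact h8rows_of_chunk _ _ _ h8uqChunk_E8_2 r (by omega) (by omega)
  by_cases h3 : r < 160
  · exact h8rows_of_chunk _ _ _ h8uqChunk_E8_3 r (by omega) (by omega)
  by_cases h4 : r < 200
  · exact h8rows_of_chunk _ _ _ h8uqChunk_E8_4 r (by omega) (by omega)
  exact h8rows_of_chunk _ _ _ h8uqChunk_E8_5 r (by omega) (by omega)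

end Cfsg.Agent.Lib.helper8
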