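import Mathlib
import Cfsg.Prelude.Def_ChevStructure
import Cfsg.Agent.Lib.helper8.ChevTabUqG2
import Cfsg.Agent.Lib.helper8.ChevTabUqB2
import Cfsg.Agent.Lib.helper8.ChevTabUqD4
import Cfsg.Agent.Lib.helper8.ChevTabUqF4
import Cfsg.Agent.Lib.helper8.ChevTabUqE6
import Cfsg.Agent.Lib.helper8.ChevTabUqE7
import Cfsg.Agent.Lib.helper8.ChevTabUqE8
import Cfsg.Agent.Lib.helper8.ChevBaseAll
import Cfsg.Agent.Lib.helper8.ChevReflAll
import Cfsg.Agent.Lib.helper8.ChevNegAll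

set_option autoImplicit false

namespace Cfsg.Agent.Lib.helper8

open Cfsg.Lie

universe u

theorem h8uq_all (D : ChevalleyDatum)
    (hD : D ∈ [chevG2, chevB2, chevD4, chevF4, chevE6, chevE7, chevE8]) :
    0 < D.rank ∧ ∀ r < D.nroots, h8uqRow D r = true := by
  simp only [List.mem_cons, List.not_mem_nil, or_false] at hD
  rcases hD with rfl | rfl | rfl | rfl | rfl | rfl | rfl
  · exact ⟨by decide, h8uq_G2⟩
  · exact ⟨by decide, h8uq_B2⟩
  · exact ⟨by decide, h8uq_D4⟩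
  · exact ⟨by decide, h8uq_F4⟩
  · exact ⟨by decide, h8uq_E6⟩
  · exact ⟨by decide, h8uq_E7⟩
  · exact ⟨by decide, h8uq_E8⟩

theorem h8ord_all (D : ChevalleyDatum)
    (hD : D ∈ [chevG2, chevB2, chevD4, chevF4, chevE6, chevE7, chevE8]) :
    H8Ord D ∧ H8Ord2 D := by
  have hB := h8base_all.{0} D hD
  have hA := h8reflAll D hD
  obtain ⟨hrk, hrow⟩ := h8uq_all D hD
  obtain ⟨η, hR⟩ := h8reflAll_spec D hA 0 hrk
  exact ⟨h8ord_of D hB (h8NegOK_all D hD) (fun a b ha => h8chainEntry_lt D 0 η hR a b ha),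
    h8ord2_of D hB hA.ce hrow⟩

end Cfsg.Agent.Lib.helper8
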