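import Mathlib
import Cfsg.Prelude.Def_ChevD4
import Cfsg.Agent.Lib.helper8.ChevW0

set_option autoImplicit false

namespace Cfsg.Agent.Lib.helper8

open Cfsg.Lie

def h8w0_D4 : List ℕ := [0, 1, 0, 2, 1, 0, 3, 1, 0, 2, 1, 3]

set_option maxRecDepth 100000 in
theorem h8w0Chk_D4 : h8w0Chk chevD4 h8w0_D4 = true := by decide +kernel

end Cfsg.Agent.Lib.helper8
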