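import Mathlib
import Cfsg.Agent.Lib.helper8.ChevTabW0G2
import Cfsg.Agent.Lib.helper8.ChevTabW0B2
import Cfsg.Agent.Lib.helper8.ChevTabW0D4
import Cfsg.Agent.Lib.helper8.ChevTabW0F4
import Cfsg.Agent.Lib.helper8.ChevTabW0E6
import Cfsg.Agent.Lib.helper8.ChevTabW0E7
import Cfsg.Agent.Lib.helper8.ChevTabW0E8

set_option autoImplicit false

namespace Cfsg.Agent.Lib.helper8

open Cfsg.Lie Cfsg.Lie.ChevalleyDatum

theorem h8w0_all (D : ChevalleyDatum)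
    (hD : D ∈ [chevG2, chevB2, chevD4, chevF4, chevE6, chevE7, chevE8]) :
    ∃ w : List ℕ, h8w0Chk D w = true := by
  simp only [List.mem_cons, List.mem_nil_iff, or_false] at hD
  rcases hD with rfl | rfl | rfl | rfl | rfl | rfl | rfl
  · exact ⟨h8w0_G2, h8w0Chk_G2⟩
  · exact ⟨h8w0_B2, h8w0Chk_B2⟩
  · exact ⟨h8w0_D4, h8w0Chk_D4⟩
  · exact ⟨h8w0_F4, h8w0Chk_F4⟩
  · exact ⟨h8w0_E6, h8w0Chk_E6⟩
  · exact ⟨h8w0_E7, h8w0Chk_E7⟩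
  · exact ⟨h8w0_E8, h8w0Chk_E8⟩

end Cfsg.Agent.Lib.helper8
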