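import Mathlib
import Cfsg.Prelude.Def_ChevStructure
import Cfsg.Agent.Lib.helper8.ChevBNAll
import Cfsg.Agent.Lib.helper8.ChevBN5
import Cfsg.Agent.Lib.helper8.ChevOrdAll
import Cfsg.Agent.Lib.helper8.ChevW0All
import Cfsg.Agent.Lib.helper8.ChevCommAll

set_option autoImplicit false

namespace Cfsg.Agent.Lib.helper8

open Cfsg.Lie

theorem h8bn2_all (D : ChevalleyDatum)
    (hD : D ∈ [chevG2, chevB2, chevD4, chevF4, chevE6, chevE7, chevE8]) : H8BN2 D := by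
  have hA := h8reflAll D hD
  obtain ⟨hrk, _⟩ := h8uq_all D hD
  obtain ⟨η, hR⟩ := h8reflAll_spec D hA 0 hrk
  exact ⟨h8w0_all D hD, hR.neglt⟩

end Cfsg.Agent.Lib.helper8
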