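import Mathlib
import Cfsg.Prelude.Def_ChevStructure
import Cfsg.Agent.Lib.helper8.ChevBase
import Cfsg.Agent.Lib.helper8.ChevSLn

set_option autoImplicit false

namespace Cfsg.Agent.Lib.helper8

open Cfsg.Lie Cfsg.Lie.ChevalleyDatum

universe u

variable {F : Type u} [Field F]

def h8scChk (D : ChevalleyDatum) : Bool :=
  (List.range D.rank).all fun i => decide (D.simple i < D.nroots) &&
    (List.range D.rank).all fun j =>
      decide ((D.coroot.getD (D.simple i) #[]).getD j 0 = if j = i then 1 else 0)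

theorem h8scChk_spec (D : ChevalleyDatum) (h : h8scChk D = true) (i : ℕ) (hi : i < D.rank) :
    D.simple i < D.nroots ∧ ∀ j < D.rank,
      (D.coroot.getD (D.simple i) #[]).getD j 0 = if j = i then 1 else 0 := by
  unfold h8scChk at h
  rw [List.all_eq_true] at h
  have h1 := h i (List.mem_range.mpr hi)
  rw [Bool.and_eq_true, List.all_eq_true] at h1
  refine ⟨of_decide_eq_true h1.1, fun j hj => ?_⟩
  exact of_decide_eq_true (h1.2 j (List.mem_range.mpr hj))

theorem h8K_simple (D : ChevalleyDatum) (h : h8scChk D = true) (i : ℕ) (hi : i < D.rank) (v : ℕ) :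
    h8K D (D.simple i) v = D.cartan i v := by
  unfold h8K
  have hs := (h8scChk_spec D h i hi).2
  rw [Finset.sum_eq_single (⟨i, hi⟩ : Fin D.rank)]
  · rw [hs i hi]; simp
  · intro j _ hji
    rw [hs j.val j.2]
    have : j.val ≠ i := fun e => hji (Fin.ext e)
    simp [this]
  · intro hh; exact absurd (Finset.mem_univ _) hh

def h8Phi (D : ChevalleyDatum) (n : ℕ) (c : ℕ → F) : D.Idx → F :=
  Sum.elim (fun _ => (1 : F)) (fun v : Fin D.nroots => ∏ i ∈ Finset.range n, c i ^ (D.cartan i v.val))

theorem h8zpow_sum_range (t : F) (ht : t ≠ 0) (e : ℕ → ℤ) (n : ℕ) :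
    t ^ (∑ i ∈ Finset.range n, e i) = ∏ i ∈ Finset.range n, t ^ e i := by
  induction n with
  | zero => simp
  | succ n ih => rw [Finset.sum_range_succ, Finset.prod_range_succ, zpow_add₀ ht, ih]

theorem h8wordMat_flatMap_range (D : ChevalleyDatum) (hB : H8Base.{u} D) (hsc : h8scChk D = true)
    (c : ℕ → F) (hc : ∀ i < D.rank, c i ≠ 0) (n : ℕ) (hn : n ≤ D.rank) :
    D.wordMat F ((List.range n).flatMap fun i => D.hWord (D.simple i) (c i)) =
      Matrix.diagonal (h8Phi D n c) := by
  induction n with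
  | zero =>
    rw [List.range_zero, List.flatMap_nil, h8wordMat_nil]
    rw [← Matrix.diagonal_one]
    congr 1
    funext x
    rcases x with k | v <;> simp [h8Phi]
  | succ n ih =>
    have hn' : n < D.rank := hn
    rw [List.range_succ, List.flatMap_append, h8wordMat_append, ih (Nat.le_of_lt hn')]
    rw [List.flatMap_cons, List.flatMap_nil, List.append_nil]
    have hsp := h8scChk_spec D hsc n hn'
    have hd := hB.hdiag F (D.simple n) hsp.1 (c n) (hc n hn')
    unfold ChevalleyDatum.hMat at hd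
    rw [hd, Matrix.diagonal_mul_diagonal]
    congr 1
    funext x
    rcases x with k | v
    · simp [h8Phi, h8dvec]
    · simp only [h8Phi, h8dvec, Sum.elim_inr]
      rw [Finset.prod_range_succ, h8K_simple D hsc n hn']

theorem h8_H_eq_Phi (D : ChevalleyDatum) (hB : H8Base.{u} D) (g : GL D.Idx F)
    (hg : g ∈ D.diagonalSubgroup F) :
    ∃ c : ℕ → F, (∀ i, c i ≠ 0) ∧ (g : Matrix D.Idx D.Idx F) = Matrix.diagonal (h8Phi D D.rank c) := by
  unfold ChevalleyDatum.diagonalSubgroup at hg
  induction hg using Subgroup.closure_induction with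
  | mem x hx =>
    obtain ⟨r, t, hr, ht, hx⟩ := hx
    refine ⟨fun i => t ^ ((D.coroot.getD r #[]).getD i 0), fun i => zpow_ne_zero _ ht, ?_⟩
    rw [hx, hB.hdiag F r hr t ht]
    congr 1
    funext x
    rcases x with k | v
    · simp [h8Phi, h8dvec]
    · simp only [h8Phi, h8dvec, Sum.elim_inr]
      unfold h8K
      rw [Fin.sum_univ_eq_sum_range (fun i => (D.coroot.getD r #[]).getD i 0 * D.cartan i v.val),
        h8zpow_sum_range t ht]
      apply Finset.prod_congr rfl
      intro i _
      rw [zpow_mul]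
  | one =>
    refine ⟨fun _ => 1, fun _ => one_ne_zero, ?_⟩
    rw [Units.val_one, ← Matrix.diagonal_one]
    congr 1
    funext x
    rcases x with k | v <;> simp [h8Phi]
  | mul a b _ _ ha hb =>
    obtain ⟨c1, hc1, h1⟩ := ha
    obtain ⟨c2, hc2, h2⟩ := hb
    refine ⟨fun i => c1 i * c2 i, fun i => mul_ne_zero (hc1 i) (hc2 i), ?_⟩
    rw [Units.val_mul, h1, h2, Matrix.diagonal_mul_diagonal]
    congr 1
    funext x
    rcases x with k | v
    · simp [h8Phi]
    · simp only [h8Phi, Sum.elim_inr]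
      rw [← Finset.prod_mul_distrib]
      apply Finset.prod_congr rfl
      intro i _
      rw [mul_zpow]
  | inv a _ ha =>
    obtain ⟨c, hc, h⟩ := ha
    refine ⟨fun i => (c i)⁻¹, fun i => inv_ne_zero (hc i), ?_⟩
    rw [Matrix.coe_units_inv, h]
    apply Matrix.inv_eq_right_inv
    rw [Matrix.diagonal_mul_diagonal, ← Matrix.diagonal_one]
    congr 1
    funext x
    rcases x with k | v
    · simp [h8Phi]
    · simp only [h8Phi, Sum.elim_inr]
      rw [← Finset.prod_mul_distrib]
      apply Finset.prod_eq_one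
      intro i _
      rw [inv_zpow, mul_inv_cancel₀ (zpow_ne_zero _ (hc i))]

theorem h8_H_eq_prod (D : ChevalleyDatum) (hB : H8Base.{u} D) (hsc : h8scChk D = true)
    (g : GL D.Idx F) (hg : g ∈ D.diagonalSubgroup F) :
    ∃ c : ℕ → F, (∀ i < D.rank, c i ≠ 0) ∧
      (g : Matrix D.Idx D.Idx F) =
        D.wordMat F ((List.range D.rank).flatMap fun i => D.hWord (D.simple i) (c i)) := by
  obtain ⟨c, hc, h⟩ := h8_H_eq_Phi D hB g hg
  refine ⟨c, fun i _ => hc i, ?_⟩
  rw [h, h8wordMat_flatMap_range D hB hsc c (fun i _ => hc i) D.rank le_rfl]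

end Cfsg.Agent.Lib.helper8
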