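import Mathlib
import Cfsg.Prelude.Def_ChevStructure
import Cfsg.Agent.Lib.helper8.ChevNH2
import Cfsg.Agent.Lib.helper8.ChevHProd
import Cfsg.Agent.Lib.helper8.ChevBorel

set_option autoImplicit false

namespace Cfsg.Agent.Lib.helper8

open Cfsg.Lie Cfsg.Lie.ChevalleyDatum

universe u

variable {F : Type u} [Field F]

theorem h8Phi_succ_diag (D : ChevalleyDatum) (hB : H8Base.{u} D) (hsc : h8scChk D = true)
    (c : ℕ → F) (n : ℕ) (hn : n < D.rank) (hc : c n ≠ 0) :
    Matrix.diagonal (h8Phi D (n + 1) c) =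
      Matrix.diagonal (h8Phi D n c) * D.hMat F (D.simple n) (c n) := by
  have hsp := h8scChk_spec D hsc n hn
  rw [hB.hdiag F (D.simple n) hsp.1 (c n) hc, Matrix.diagonal_mul_diagonal]
  congr 1
  funext x
  rcases x with k | v
  · simp [h8Phi, h8dvec]
  · simp only [h8Phi, h8dvec, Sum.elim_inr]
    rw [Finset.prod_range_succ, h8K_simple D hsc n hn]

theorem h8Phi_conj_x (D : ChevalleyDatum) (hB : H8Base.{u} D) (hsc : h8scChk D = true)
    (c : ℕ → F) (hc : ∀ i, c i ≠ 0) (s : ℕ) (hs : s < D.nroots) (n : ℕ) (hn : n ≤ D.rank) (t : F) :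
    Matrix.diagonal (h8Phi D n c) * D.x F s t =
      D.x F s (h8Phi D n c (Sum.inr ⟨s, hs⟩) * t) * Matrix.diagonal (h8Phi D n c) := by
  induction n generalizing t with
  | zero =>
    have : h8Phi D 0 c = fun _ => (1 : F) := by
      funext x
      rcases x with k | v <;> simp [h8Phi]
    rw [this, Matrix.diagonal_one, one_mul, mul_one, one_mul]
  | succ n ih =>
    have hn' : n < D.rank := hn
    have hsp := h8scChk_spec D hsc n hn'
    rw [h8Phi_succ_diag D hB hsc c n hn' (hc n), mul_assoc,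
      h8hMat_conj_x D hB.ca (D.simple n) s hs (c n) (hc n) t (hB.hdiag F _ hsp.1 (c n) (hc n)),
      ← mul_assoc, ih (Nat.le_of_lt hn'), mul_assoc]
    congr 2
    simp only [h8Phi, Sum.elim_inr]
    rw [Finset.prod_range_succ, h8K_simple D hsc n hn', mul_assoc]

theorem h8x_diag_zero (D : ChevalleyDatum) (hce : h8ceChk D = true) (s : ℕ) (hs : s < D.nroots)
    (hnl : D.negIdx.getD s 0 < D.nroots) (hne : D.negIdx.getD s 0 ≠ s) (a : F)
    (h : D.x F s a = 1) : a = 0 := by
  unfold ChevalleyDatum.x at h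
  rw [dif_pos hs] at h
  have h1 := congrFun (congrFun h (Sum.inr ⟨s, hs⟩)) (Sum.inr ⟨D.negIdx.getD s 0, hnl⟩)
  rw [h8xMat_inr_inr D _ _ _ _ (h8ceChk_sorted D hce s hs)] at h1
  have e1 : ¬ ((⟨D.negIdx.getD s 0, hnl⟩ : Fin D.nroots) = ⟨s, hs⟩) := fun hh => hne (Fin.mk.inj hh)
  have e2 : ¬ ((⟨s, hs⟩ : Fin D.nroots) = ⟨D.negIdx.getD s 0, hnl⟩) := fun hh => hne (Fin.mk.inj hh).symm
  rw [if_neg e1, if_pos rfl, if_neg e2, if_pos rfl, Matrix.one_apply_ne (by
    intro hh
    exact e2 (Sum.inr.inj hh))] at h1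
  have : a ^ 2 = 0 := by
    rw [← neg_eq_zero]
    exact h1
  exact pow_eq_zero_iff (by norm_num) |>.mp this

theorem h8map_conj_normalizer {G : Type*} [Group G] (H : Subgroup G) (n : G)
    (hn : n ∈ Subgroup.normalizer (H : Set G)) :
    H.map (MulAut.conj n).toMonoidHom = H := by
  ext x
  rw [Subgroup.mem_map]
  constructor
  · rintro ⟨h, hh, rfl⟩
    exact (Subgroup.mem_normalizer_iff.mp hn h).mp hh
  · intro hx
    have hn' := Subgroup.inv_mem _ hn
    refine ⟨n⁻¹ * x * n, ?_, ?_⟩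
    · have := (Subgroup.mem_normalizer_iff.mp hn' x).mp hx
      rwa [inv_inv] at this
    · show n * (n⁻¹ * x * n) * n⁻¹ = x
      group

theorem h8nWU_mem_normalizer_H (D : ChevalleyDatum) (hB : H8Base.{u} D) (hA : H8ReflAll D)
    (w : List ℕ) (hw : ∀ i ∈ w, i < D.rank) :
    (h8nWU D hB w : GL D.Idx F) ∈ Subgroup.normalizer (D.diagonalSubgroup F : Set (GL D.Idx F)) := by
  unfold h8nWU
  apply Subgroup.list_prod_mem
  intro g hg
  rw [List.mem_map] at hg
  obtain ⟨i, hi, rfl⟩ := hg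
  exact h8nU_mem_normalizer_H D hB hA i (hw i hi)

theorem h8core_le_H (D : ChevalleyDatum) (hB : H8Base.{u} D) (hA : H8ReflAll D) (hNeg : h8NegOK D = true)
    (w : List ℕ) (hw0 : h8w0Chk D w = true) (k : GL D.Idx F)
    (hk : ∀ g ∈ D.group F, g * k * g⁻¹ ∈ D.borelSubgroup F) (hNG : D.monomialSubgroup F ≤ D.group F) :
    k ∈ D.diagonalSubgroup F := by
  obtain ⟨hw, _, _, _⟩ := h8w0Chk_spec D hA w hw0
  have hn0N := h8nWU_mem_N (F := F) D hB hA w hw
  have hn0G : (h8nWU D hB w : GL D.Idx F) ∈ D.group F := hNG hn0N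
  have h1 : k ∈ D.borelSubgroup F := by
    have := hk 1 (Subgroup.one_mem _)
    simpa using this
  have h2 : (h8nWU D hB w)⁻¹ * k * ((h8nWU D hB w)⁻¹)⁻¹ ∈ D.borelSubgroup F :=
    hk _ (Subgroup.inv_mem _ hn0G)
  have h3 : k ∈ (D.borelSubgroup F).map (MulAut.conj (h8nWU D hB w : GL D.Idx F)).toMonoidHom := by
    rw [Subgroup.mem_map]
    refine ⟨_, h2, ?_⟩
    show h8nWU D hB w * ((h8nWU D hB w)⁻¹ * k * ((h8nWU D hB w)⁻¹)⁻¹) * (h8nWU D hB w)⁻¹ = k
    group
  have h4 : (D.borelSubgroup F).map (MulAut.conj (h8nWU D hB w : GL D.Idx F)).toMonoidHom =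
      D.negUnipotent F ⊔ D.diagonalSubgroup F := by
    unfold ChevalleyDatum.borelSubgroup
    rw [Subgroup.map_sup, h8_conj_U_eq_V D hB hA w hw0,
      h8map_conj_normalizer _ _ (h8nWU_mem_normalizer_H D hB hA w hw)]
  rw [h4] at h3
  have h5 : k ∈ D.borelSubgroup F ⊓ (D.negUnipotent F ⊔ D.diagonalSubgroup F) :=
    Subgroup.mem_inf.mpr ⟨h1, h3⟩
  rwa [h8_B_inf_VH D hB hNeg] at h5

theorem h8core_trivial (D : ChevalleyDatum) (hB : H8Base.{u} D) (hA : H8ReflAll D)
    (hNeg : h8NegOK D = true) (hsc : h8scChk D = true)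
    (w : List ℕ) (hw0 : h8w0Chk D w = true) (hNG : D.monomialSubgroup F ≤ D.group F)
    (k : GL D.Idx F) (hkG : k ∈ D.group F)
    (hk : ∀ g ∈ D.group F, g * k * g⁻¹ ∈ D.borelSubgroup F) : k = 1 := by
  obtain ⟨_, _, _, hnene⟩ := h8w0Chk_spec D hA w hw0
  have hconjH : ∀ g ∈ D.group F, g * k * g⁻¹ ∈ D.diagonalSubgroup F := by
    intro g hg
    apply h8core_le_H D hB hA hNeg w hw0 _ _ hNG
    intro g' hg'
    have : g' * (g * k * g⁻¹) * g'⁻¹ = (g' * g) * k * (g' * g)⁻¹ := by group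
    rw [this]
    exact hk _ (Subgroup.mul_mem _ hg' hg)
  have hkH : k ∈ D.diagonalSubgroup F := by
    have := hconjH 1 (Subgroup.one_mem _)
    simpa using this
  obtain ⟨c, hc, hkd⟩ := h8_H_eq_Phi D hB k hkH
  have hPhi : ∀ s (hs : s < D.nroots), h8Phi D D.rank c (Sum.inr ⟨s, hs⟩) = 1 := by
    intro s hs
    have hxG : (h8xU D hB s (1 : F)) ∈ D.group F := by
      have : h8xU D hB s (1 : F) = h8wordU D hB [(s, 1)] := by
        unfold h8wordU
        simp
      rw [this]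
      exact h8wordU_mem_group D hB _
    have hk' := hconjH _ (Subgroup.inv_mem _ hxG)
    rw [inv_inv] at hk'
    set a : F := h8Phi D D.rank c (Sum.inr ⟨s, hs⟩) - 1 with ha
    have hxa : h8xU D hB s a = (h8xU D hB s 1)⁻¹ * k * h8xU D hB s 1 * k⁻¹ := by
      rw [eq_mul_inv_iff_mul_eq]
      apply Units.ext
      have e1 : ((h8xU D hB s 1)⁻¹ : GL D.Idx F) = h8xU D hB s (-1) := by
        rw [inv_eq_iff_eq_inv]
        symm
        apply inv_eq_of_mul_eq_one_left
        apply Units.ext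
        rw [Units.val_mul, h8xU_val, h8xU_val, Units.val_one]
        exact h8x_mul_neg D hB s 1
      rw [e1]
      simp only [Units.val_mul, h8xU_val]
      rw [hkd, mul_assoc (D.x F s (-1)), h8Phi_conj_x D hB hsc c hc s hs D.rank le_rfl 1, ← mul_assoc,
        hB.add F s hs]
      congr 2
      rw [ha]
      ring
    have hmemH : h8xU D hB s a ∈ D.diagonalSubgroup F := by
      rw [hxa]
      exact Subgroup.mul_mem _ hk' (Subgroup.inv_mem _ hkH)
    have hone : h8xU D hB s a = 1 := by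
      rcases hB.posneg s hs with hp | hn
      · have hm : h8xU D hB s a ∈ D.posUnipotent F ⊓ D.diagonalSubgroup F := by
          refine Subgroup.mem_inf.mpr ⟨?_, hmemH⟩
          unfold ChevalleyDatum.posUnipotent
          exact Subgroup.subset_closure ⟨s, a, hp, rfl⟩
        rw [h8_U_inf_H D hB] at hm
        exact Subgroup.mem_bot.mp hm
      · have hm : h8xU D hB s a ∈ D.borelSubgroup F ⊓ D.negUnipotent F := by
          refine Subgroup.mem_inf.mpr ⟨?_, ?_⟩
          · unfold ChevalleyDatum.borelSubgroup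
            exact Subgroup.mem_sup_right hmemH
          · unfold ChevalleyDatum.negUnipotent
            exact Subgroup.subset_closure ⟨s, a, hn, rfl⟩
        rw [h8_B_inf_V D hB hNeg] at hm
        exact Subgroup.mem_bot.mp hm
    have ha0 : a = 0 := by
      apply h8x_diag_zero D hA.ce s hs (hB.ca.neg_lt s hs) (hnene s hs) a
      have := congrArg Units.val hone
      rwa [h8xU_val, Units.val_one] at this
    rw [ha] at ha0
    exact sub_eq_zero.mp ha0
  apply Units.ext
  rw [hkd, Units.val_one, ← Matrix.diagonal_one]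
  congr 1
  funext x
  rcases x with j | v
  · simp [h8Phi]
  · exact hPhi v.val v.2

end Cfsg.Agent.Lib.helper8
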