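import Mathlib
import Cfsg.Prelude.Def_ChevStructure
import Cfsg.Agent.Lib.helper8.ChevBN4

set_option autoImplicit false

namespace Cfsg.Agent.Lib.helper8

open Cfsg.Lie Cfsg.Lie.ChevalleyDatum

universe u

variable {F : Type u} [Field F]

def H8ActN (D : ChevalleyDatum) (hB : H8Base.{u} D) (g : GL D.Idx F) (r r' : ℕ) : Prop :=
  ∃ c : F, c ≠ 0 ∧ (∀ t : F, g * h8xU D hB r t * g⁻¹ = h8xU D hB r' (c * t)) ∧
    (∀ t : F, g * h8xU D hB (D.negIdx.getD r 0) t * g⁻¹ =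
      h8xU D hB (D.negIdx.getD r' 0) (c⁻¹ * t))

theorem h8actN_act (D : ChevalleyDatum) (hB : H8Base.{u} D) (g : GL D.Idx F) (r r' : ℕ)
    (h : H8ActN D hB g r r') : H8Act D hB g r r' := by
  obtain ⟨c, hc, h1, _⟩ := h
  exact ⟨c, hc, h1⟩

theorem h8actN_actneg (D : ChevalleyDatum) (hB : H8Base.{u} D) (g : GL D.Idx F) (r r' : ℕ)
    (h : H8ActN D hB g r r') :
    H8Act D hB g (D.negIdx.getD r 0) (D.negIdx.getD r' 0) := by
  obtain ⟨c, hc, _, h2⟩ := h
  exact ⟨c⁻¹, inv_ne_zero hc, h2⟩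

theorem h8actN_mul (D : ChevalleyDatum) (hB : H8Base.{u} D) (g g' : GL D.Idx F) (r r' r'' : ℕ)
    (h' : H8ActN D hB g' r r') (h : H8ActN D hB g r' r'') : H8ActN D hB (g * g') r r'' := by
  obtain ⟨c', hc', h1, h1'⟩ := h'
  obtain ⟨c, hc, h2, h2'⟩ := h
  refine ⟨c * c', mul_ne_zero hc hc', fun t => ?_, fun t => ?_⟩
  · have : g * g' * h8xU D hB r t * (g * g')⁻¹ = g * (g' * h8xU D hB r t * g'⁻¹) * g⁻¹ := by
      group
    rw [this, h1, h2, mul_assoc]
  · have : g * g' * h8xU D hB (D.negIdx.getD r 0) t * (g * g')⁻¹ =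
        g * (g' * h8xU D hB (D.negIdx.getD r 0) t * g'⁻¹) * g⁻¹ := by group
    rw [this, h1', h2', mul_inv, mul_assoc]

theorem h8actN_inv (D : ChevalleyDatum) (hB : H8Base.{u} D) (g : GL D.Idx F) (r r' : ℕ)
    (h : H8ActN D hB g r r') : H8ActN D hB g⁻¹ r' r := by
  obtain ⟨c, hc, h1, h1'⟩ := h
  refine ⟨c⁻¹, inv_ne_zero hc, fun t => ?_, fun t => ?_⟩
  · have h2 := h1 (c⁻¹ * t)
    rw [← mul_assoc, mul_inv_cancel₀ hc, one_mul] at h2
    rw [← h2]
    group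
  · have h2 := h1' (c⁻¹⁻¹ * t)
    rw [← mul_assoc, mul_inv_cancel₀ (inv_ne_zero hc), one_mul] at h2
    rw [← h2]
    group

theorem h8actN_one (D : ChevalleyDatum) (hB : H8Base.{u} D) (r : ℕ) :
    H8ActN D hB (1 : GL D.Idx F) r r := by
  refine ⟨1, one_ne_zero, fun t => ?_, fun t => ?_⟩
  · rw [one_mul, inv_one, mul_one, one_mul]
  · rw [one_mul, inv_one, mul_one, inv_one, one_mul]

theorem h8actN_hU (D : ChevalleyDatum) (hB : H8Base.{u} D) (s : ℕ) (hs : s < D.nroots) (c : F)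
    (hc : c ≠ 0) (r : ℕ) (hr : r < D.nroots) (hnr : D.negIdx.getD r 0 < D.nroots) :
    H8ActN D hB (h8hU D hB s c) r r := by
  refine ⟨c ^ (h8K D s r), zpow_ne_zero _ hc, fun t => ?_, fun t => ?_⟩
  · rw [mul_inv_eq_iff_eq_mul]
    apply Units.ext
    rw [Units.val_mul, Units.val_mul, h8hU_val, h8xU_val]
    exact h8hMat_conj_x D hB.ca s r hr c hc t (hB.hdiag F s hs c hc)
  · rw [mul_inv_eq_iff_eq_mul]
    apply Units.ext
    rw [Units.val_mul, Units.val_mul, h8hU_val, h8xU_val]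
    have := h8hMat_conj_x D hB.ca s _ hnr c hc t (hB.hdiag F s hs c hc)
    rw [h8K_neg D hB.ca s r hr, zpow_neg] at this
    exact this

theorem h8actN_T (D : ChevalleyDatum) (hB : H8Base.{u} D)
    (hnlt : ∀ r < D.nroots, D.negIdx.getD r 0 < D.nroots) (g : GL D.Idx F)
    (hg : g ∈ D.diagonalSubgroup F) : ∀ r < D.nroots, H8ActN D hB g r r := by
  unfold ChevalleyDatum.diagonalSubgroup at hg
  induction hg using Subgroup.closure_induction with
  | mem x hx =>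
    obtain ⟨s, c, hs, hc, hx⟩ := hx
    have : x = h8hU D hB s c := Units.ext (by rw [hx, h8hU_val])
    rw [this]
    intro r hr
    exact h8actN_hU D hB s hs c hc r hr (hnlt r hr)
  | one => intro r _; exact h8actN_one D hB r
  | mul a b _ _ ha hb =>
    intro r hr
    exact h8actN_mul D hB a b r r r (hb r hr) (ha r hr)
  | inv a _ ha =>
    intro r hr
    exact h8actN_inv D hB a r r (ha r hr)

theorem h8actN_nU (D : ChevalleyDatum) (hB : H8Base.{u} D) (hA : H8ReflAll D) (i : ℕ)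
    (hi : i < D.rank) (s : ℕ) (hs : s < D.nroots) :
    H8ActN D hB (h8nU D hB (D.simple i) (1 : F)) s (D.reflectRoot i s) := by
  obtain ⟨eta, hN, hE, hRc⟩ := hA.refl i hi
  have hR := h8reflChk_spec D i hi eta hN hE hA.ce hA.ca hRc
  have hc := h8n_simple_conj (F := F) D i hi eta hN hE hA.ce hA.ca hRc
  have hns := hR.neglt s hs
  have heq : eta.getD (D.negIdx.getD s 0) 0 = eta.getD s 0 :=
    (h8eta_eq_of_mul _ _ (hR.eta1 s hs) (hR.eta1 _ hns) (hR.etaneg s hs)).symm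
  have hinv : (((eta.getD s 0 : ℤ)) : F)⁻¹ = ((eta.getD s 0 : ℤ) : F) := by
    rcases hR.eta1 s hs with h | h <;> rw [h] <;> simp
  refine ⟨((eta.getD s 0 : ℤ) : F), ?_, fun t => ?_, fun t => ?_⟩
  · rcases hR.eta1 s hs with h | h <;> rw [h] <;> simp
  · rw [mul_inv_eq_iff_eq_mul]
    apply Units.ext
    rw [Units.val_mul, Units.val_mul, h8nU_val, h8xU_val, h8xU_val]
    exact hc s hs t
  · rw [mul_inv_eq_iff_eq_mul]
    apply Units.ext
    rw [Units.val_mul, Units.val_mul, h8nU_val, h8xU_val, h8xU_val, hinv, ← hR.negc s hs, ← heq]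
    exact hc _ hns t

theorem h8nWU_cons (D : ChevalleyDatum) (hB : H8Base.{u} D) (i : ℕ) (w : List ℕ) :
    (h8nWU D hB (i :: w) : GL D.Idx F) = h8nU D hB (D.simple i) 1 * h8nWU D hB w := by
  unfold h8nWU
  rw [List.map_cons, List.prod_cons]

theorem h8nWU_append (D : ChevalleyDatum) (hB : H8Base.{u} D) (w1 w2 : List ℕ) :
    (h8nWU D hB (w1 ++ w2) : GL D.Idx F) = h8nWU D hB w1 * h8nWU D hB w2 := by
  unfold h8nWU
  rw [List.map_append, List.prod_append]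

theorem h8actN_word (D : ChevalleyDatum) (hB : H8Base.{u} D) (hA : H8ReflAll D) (w : List ℕ)
    (hw : ∀ i ∈ w, i < D.rank) (s : ℕ) (hs : s < D.nroots) :
    H8ActN D hB (h8nWU D hB w : GL D.Idx F) s (h8sW D w s) := by
  induction w with
  | nil => exact h8actN_one D hB s
  | cons i w ih =>
    have hw' : ∀ j ∈ w, j < D.rank := fun j hj => hw j (List.mem_cons_of_mem _ hj)
    rw [h8nWU_cons]
    exact h8actN_mul D hB _ _ _ _ _ (ih hw')
      (h8actN_nU D hB hA i (hw i List.mem_cons_self) _ (h8sW_lt D hA w hw' s hs))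

theorem h8actN_word_inv (D : ChevalleyDatum) (hB : H8Base.{u} D) (hA : H8ReflAll D) (w : List ℕ)
    (hw : ∀ i ∈ w, i < D.rank) (s : ℕ) (hs : s < D.nroots) :
    H8ActN D hB (h8nWU D hB w : GL D.Idx F)⁻¹ s (h8sW D w.reverse s) := by
  have hwr : ∀ i ∈ w.reverse, i < D.rank := fun i hi => hw i (List.mem_reverse.mp hi)
  have h1 := h8actN_inv D hB _ _ _
    (h8actN_word (F := F) D hB hA w hw _ (h8sW_lt D hA w.reverse hwr s hs))
  have h2 := h8sW_reverse D hA w hw s hs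
  rwa [h2] at h1

theorem h8conj_nU (D : ChevalleyDatum) (hB : H8Base.{u} D) (g : GL D.Idx F) (r r' : ℕ)
    (h : H8ActN D hB g r r') : ∃ c : F, c ≠ 0 ∧
    g * h8nU D hB r 1 * g⁻¹ = h8hU D hB r' c * h8nU D hB r' 1 := by
  obtain ⟨c, hc, h1, h2⟩ := h
  refine ⟨c, hc, ?_⟩
  rw [← h8nU_eq_hU, h8nU_eq, h8nU_eq]
  have e : g * (h8xU D hB r 1 * h8xU D hB (D.negIdx.getD r 0) (-(1 : F)⁻¹) * h8xU D hB r 1) * g⁻¹ =
      (g * h8xU D hB r 1 * g⁻¹) * (g * h8xU D hB (D.negIdx.getD r 0) (-(1 : F)⁻¹) * g⁻¹) *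
        (g * h8xU D hB r 1 * g⁻¹) := by group
  rw [e, h1, h2, mul_one]
  congr 2
  rw [inv_one, mul_neg, mul_one]

end Cfsg.Agent.Lib.helper8
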