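import Mathlib
import Cfsg.Prelude.Def_ChevStructure
import Cfsg.Agent.Lib.helper8.ChevTits1
import Cfsg.Agent.Lib.helper8.ChevOrd2

set_option autoImplicit false

namespace Cfsg.Agent.Lib.helper8

open Cfsg.Lie Cfsg.Lie.ChevalleyDatum

universe u

variable {F : Type u} [Field F]

theorem h8N_word (D : ChevalleyDatum) (hB : H8Base.{u} D) (hA : H8ReflAll D) (hBN : H8BN D)
    (n : GL D.Idx F) (hn : n ∈ D.monomialSubgroup F) :
    ∃ t ∈ D.diagonalSubgroup F, ∃ w : List ℕ, (∀ i ∈ w, i < D.rank) ∧ n = t * h8nWU D hB w := by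
  obtain ⟨dep, par, horb⟩ := hBN.orb
  have hNeq := h8N_eq (F := F) D hB hA dep par horb
  have hnorm := h8N_le_normalizer_H (F := F) D hB hA dep par horb
  have hcl : Subgroup.closure ({g : GL D.Idx F | ∃ j < D.rank, g = h8nU D hB (D.simple j) (1 : F)} ∪
      (D.diagonalSubgroup F : Set (GL D.Idx F))) = D.monomialSubgroup F := by
    rw [Subgroup.closure_union, Subgroup.closure_eq, sup_comm, ← hNeq]
  have hstep : ∀ (j : ℕ), j < D.rank → ∀ (t : GL D.Idx F), t ∈ D.diagonalSubgroup F →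
      ∀ w : List ℕ, (∀ i ∈ w, i < D.rank) →
      ∃ t' ∈ D.diagonalSubgroup F, ∃ w' : List ℕ, (∀ i ∈ w', i < D.rank) ∧
        h8nU D hB (D.simple j) (1 : F) * (t * h8nWU D hB w) = t' * h8nWU D hB w' := by
    intro j hj t ht w hw
    have hsj : h8nU D hB (D.simple j) (1 : F) ∈ D.monomialSubgroup F :=
      h8nU_mem_N D hB _ (h8simple_pos D hBN j hj).1
    refine ⟨_, (Subgroup.mem_normalizer_iff.mp (hnorm hsj) t).mp ht, j :: w, ?_, ?_⟩
    · intro i hi
      rcases List.mem_cons.mp hi with rfl | hi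
      · exact hj
      · exact hw i hi
    · rw [h8nWU_cons]
      group
  rw [← hcl] at hn
  induction hn using Subgroup.closure_induction_left with
  | one =>
    refine ⟨1, Subgroup.one_mem _, [], ?_, ?_⟩
    · intro i hi
      cases hi
    · rw [one_mul]
      rfl
  | mul_left x hx y _ ih =>
    obtain ⟨t, ht, w, hw, rfl⟩ := ih
    rcases hx with ⟨j, hj, rfl⟩ | hx
    · exact hstep j hj t ht w hw
    · exact ⟨x * t, Subgroup.mul_mem _ hx ht, w, hw, by rw [mul_assoc]⟩
  | inv_mul_cancel x hx y _ ih =>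
    obtain ⟨t, ht, w, hw, rfl⟩ := ih
    rcases hx with ⟨j, hj, rfl⟩ | hx
    · obtain ⟨t', ht', w', hw', e⟩ := hstep j hj t ht w hw
      have hss := h8nU_sq_mem_H (F := F) D hB (D.simple j) (h8simple_pos D hBN j hj).1
      refine ⟨(h8nU D hB (D.simple j) (1 : F) * h8nU D hB (D.simple j) 1)⁻¹ * t',
        Subgroup.mul_mem _ (Subgroup.inv_mem _ hss) ht', w', hw', ?_⟩
      rw [mul_assoc, ← e]
      group
    · exact ⟨x⁻¹ * t, Subgroup.mul_mem _ (Subgroup.inv_mem _ hx) ht, w, hw, by rw [mul_assoc]⟩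

theorem h8sW_neg (D : ChevalleyDatum) (hA : H8ReflAll D) (w : List ℕ)
    (hw : ∀ i ∈ w, i < D.rank) (s : ℕ) (hs : s < D.nroots) :
    h8sW D w (D.negIdx.getD s 0) = D.negIdx.getD (h8sW D w s) 0 := by
  induction w with
  | nil => rfl
  | cons i w ih =>
    have hw' : ∀ j ∈ w, j < D.rank := fun j hj => hw j (List.mem_cons_of_mem _ hj)
    obtain ⟨η, hR⟩ := h8reflAll_spec D hA i (hw i List.mem_cons_self)
    have h1 : ∀ x, h8sW D (i :: w) x = D.reflectRoot i (h8sW D w x) := fun x => rfl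
    rw [h1, h1, ih hw', hR.negc _ (h8sW_lt D hA w hw' s hs)]

theorem h8neg_of_pos (D : ChevalleyDatum) (hB : H8Base.{u} D) (hO2 : H8Ord2 D) (r : ℕ)
    (hr : D.IsPosRoot r) : D.IsNegRoot (D.negIdx.getD r 0) := by
  obtain ⟨h1, h2, _⟩ := h8PosOK_spec hB.posOK hr
  rcases hB.posneg _ (hO2.negneg r hr.1).1 with hp | hn
  · have := (h8PosOK_spec hB.posOK hp).1
    omega
  · exact hn

theorem h8pos_of_neg (D : ChevalleyDatum) (hB : H8Base.{u} D) (hBN : H8BN D) (hO2 : H8Ord2 D)
    (r : ℕ) (hr : D.IsNegRoot r) : D.IsPosRoot (D.negIdx.getD r 0) :=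
  h8pos_of_ge D hB hBN.negOK _ (hO2.negneg r hr.1).1 (h8NegOK_spec hBN.negOK hr).2.1

theorem h8refl_neg_of_neg (D : ChevalleyDatum) (hB : H8Base.{u} D) (hA : H8ReflAll D)
    (hBN : H8BN D) (hO2 : H8Ord2 D) (j : ℕ) (hj : j < D.rank) (a : ℕ) (ha : D.IsNegRoot a)
    (hne : a ≠ D.negIdx.getD (D.simple j) 0) : D.IsNegRoot (D.reflectRoot j a) := by
  obtain ⟨η, hR⟩ := h8reflAll_spec D hA j hj
  have hb := h8pos_of_neg D hB hBN hO2 a ha
  have hbne : D.negIdx.getD a 0 ≠ D.simple j := by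
    intro h
    apply hne
    rw [← h, (hO2.negneg a ha.1).2]
  obtain ⟨h1, _⟩ := h8spChk_spec D j (hBN.sp j hj) _ hb hbne
  have h2 := h8neg_of_pos D hB hO2 _ h1
  rw [← hR.negc _ hb.1, (hO2.negneg a ha.1).2] at h2
  exact h2

theorem h8exch_split (D : ChevalleyDatum) (hB : H8Base.{u} D) (hA : H8ReflAll D) (hBN : H8BN D)
    (hO2 : H8Ord2 D) : ∀ (v : List ℕ), (∀ i ∈ v, i < D.rank) → ∀ a : ℕ, D.IsNegRoot a →
      D.IsPosRoot (h8sW D v.reverse a) →
      ∃ (v1 : List ℕ) (j : ℕ) (v2 : List ℕ), v = v1 ++ j :: v2 ∧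
        h8sW D v1.reverse a = D.negIdx.getD (D.simple j) 0 := by
  intro v
  induction v with
  | nil =>
    intro _ a ha hp
    exfalso
    have h1 := (h8NegOK_spec hBN.negOK ha).1
    have h2 := (h8PosOK_spec hB.posOK hp).1
    have : h8sW D ([] : List ℕ).reverse a = a := rfl
    rw [this] at h2
    omega
  | cons j v ih =>
    intro hv a ha hp
    have hv' : ∀ i ∈ v, i < D.rank := fun i hi => hv i (List.mem_cons_of_mem _ hi)
    by_cases hne : a = D.negIdx.getD (D.simple j) 0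
    · exact ⟨[], j, v, rfl, hne⟩
    · rw [List.reverse_cons, h8sW_append] at hp
      have h1 : h8sW D [j] a = D.reflectRoot j a := rfl
      rw [h1] at hp
      have hneg := h8refl_neg_of_neg D hB hA hBN hO2 j (hv j List.mem_cons_self) a ha hne
      obtain ⟨v1, j', v2, hsplit, hval⟩ := ih hv' _ hneg hp
      refine ⟨j :: v1, j', v2, by rw [hsplit]; rfl, ?_⟩
      rw [List.reverse_cons, h8sW_append]
      exact hval

theorem h8deletion (D : ChevalleyDatum) (hB : H8Base.{u} D) (hA : H8ReflAll D) (hBN : H8BN D)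
    (hO2 : H8Ord2 D) (i : ℕ) (hi : i < D.rank) (v1 : List ℕ) (j : ℕ) (v2 : List ℕ)
    (hv1 : ∀ k ∈ v1, k < D.rank) (hj : j < D.rank)
    (hval : h8sW D v1.reverse (D.negIdx.getD (D.simple i) 0) = D.negIdx.getD (D.simple j) 0) :
    ∃ t ∈ D.diagonalSubgroup F,
      (h8nWU D hB (i :: (v1 ++ j :: v2)) : GL D.Idx F) = t * h8nWU D hB (v1 ++ v2) := by
  obtain ⟨dep, par, horb⟩ := hBN.orb
  have hnorm := h8N_le_normalizer_H (F := F) D hB hA dep par horb
  have hpi := h8simple_pos D hBN i hi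
  have hpj := h8simple_pos D hBN j hj
  have hv1r : ∀ k ∈ v1.reverse, k < D.rank := fun k hk => hv1 k (List.mem_reverse.mp hk)
  have hval' : h8sW D v1.reverse (D.simple i) = D.simple j := by
    rw [h8sW_neg D hA v1.reverse hv1r _ hpi.1] at hval
    have hlt := h8sW_lt D hA v1.reverse hv1r _ hpi.1
    rw [← (hO2.negneg _ hlt).2, hval, (hO2.negneg _ hpj.1).2]
  have hact := h8actN_word_inv (F := F) D hB hA v1 hv1 _ hpi.1
  rw [hval'] at hact
  obtain ⟨c, hc, e⟩ := h8conj_nU D hB _ _ _ hact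
  rw [inv_inv] at e
  have hss := h8nU_sq_mem_H (F := F) D hB (D.simple j) hpj.1
  have ht1 : h8hU D hB (D.simple j) c * (h8nU D hB (D.simple j) (1 : F) * h8nU D hB (D.simple j) 1) ∈
      D.diagonalSubgroup F := Subgroup.mul_mem _ (h8hU_mem_H D hB _ hpj.1 c hc) hss
  have hv1N := h8nWU_mem_N (F := F) D hB hA v1 hv1
  refine ⟨_, (Subgroup.mem_normalizer_iff.mp (hnorm hv1N) _).mp ht1, ?_⟩
  rw [h8nWU_cons, h8nWU_append, h8nWU_cons, h8nWU_append]
  have e2 : h8nU D hB (D.simple i) (1 : F) * h8nWU D hB v1 =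
      h8nWU D hB v1 * (h8hU D hB (D.simple j) c * h8nU D hB (D.simple j) 1) := by
    rw [← e]
    group
  rw [← mul_assoc, e2]
  group

theorem h8word_T (D : ChevalleyDatum) (hB : H8Base.{u} D) (hA : H8ReflAll D) (hBN : H8BN D)
    (hW : H8BN2 D) (hO2 : H8Ord2 D) : ∀ (k : ℕ) (w : List ℕ), w.length = k →
      (∀ i ∈ w, i < D.rank) →
      (∀ i < D.rank, D.IsPosRoot (h8sW D w.reverse (D.simple i))) →
      (h8nWU D hB w : GL D.Idx F) ∈ D.diagonalSubgroup F := by
  intro k
  induction k using Nat.strong_induction_on with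
  | _ k ih =>
    intro w hlen hw hpos
    cases w with
    | nil => exact Subgroup.one_mem _
    | cons i v =>
      have hi := hw i List.mem_cons_self
      have hv : ∀ k ∈ v, k < D.rank := fun k hk => hw k (List.mem_cons_of_mem _ hk)
      have hpi := h8simple_pos D hBN i hi
      have h1 := hpos i hi
      rw [List.reverse_cons, h8sW_append] at h1
      have h2 : h8sW D [i] (D.simple i) = D.negIdx.getD (D.simple i) 0 :=
        h8reflectRoot_simple D i
      rw [h2] at h1
      obtain ⟨v1, j, v2, hsplit, hval⟩ := h8exch_split D hB hA hBN hO2 v hv _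
        (h8neg_of_pos D hB hO2 _ hpi) h1
      have hv1 : ∀ k ∈ v1, k < D.rank := fun k hk => hv k (by rw [hsplit]; simp [hk])
      have hv2 : ∀ k ∈ v2, k < D.rank := fun k hk => hv k (by rw [hsplit]; simp [hk])
      have hj : j < D.rank := hv j (by rw [hsplit]; simp)
      obtain ⟨t, ht, e⟩ := h8deletion (F := F) D hB hA hBN hO2 i hi v1 j v2 hv1 hj hval
      rw [← hsplit] at e
      have hw' : ∀ k ∈ v1 ++ v2, k < D.rank := by
        intro k hk
        rcases List.mem_append.mp hk with h | h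
        · exact hv1 k h
        · exact hv2 k h
      have hlen' : (v1 ++ v2).length < k := by
        rw [← hlen, List.length_cons, hsplit, List.length_append, List.length_append,
          List.length_cons]
        omega
      have hpos' : ∀ i' < D.rank, D.IsPosRoot (h8sW D (v1 ++ v2).reverse (D.simple i')) := by
        intro i' hi'
        have hpi' := h8simple_pos D hBN i' hi'
        have hwr : ∀ k ∈ (v1 ++ v2).reverse, k < D.rank :=
          fun k hk => hw' k (List.mem_reverse.mp hk)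
        have hlt := h8sW_lt D hA _ hwr _ hpi'.1
        rcases hB.posneg _ hlt with hp | hn
        · exact hp
        · exfalso
          have a1 := h8actN_act D hB _ _ _ (h8actN_word_inv (F := F) D hB hA (i :: v) hw _ hpi'.1)
          have a2 := h8actN_act D hB _ _ _
            (h8actN_word_inv (F := F) D hB hA (v1 ++ v2) hw' _ hpi'.1)
          have a3 := h8perm_H_id D hB _ (Subgroup.inv_mem _ ht) _ hpi'.1
          have a4 := h8act_mul D hB _ _ _ _ _ a3 a2
          have e' : (h8nWU D hB (v1 ++ v2) : GL D.Idx F)⁻¹ * t⁻¹ =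
              (h8nWU D hB (i :: v) : GL D.Idx F)⁻¹ := by
            rw [e]
            group
          rw [e'] at a4
          obtain ⟨c1, hc1, f1⟩ := a1
          obtain ⟨c4, hc4, f4⟩ := a4
          have := (f1 1).symm.trans (f4 1)
          have hmem : h8xU D hB (h8sW D (v1 ++ v2).reverse (D.simple i')) (c4 * 1) ∈
              D.borelSubgroup F := by
            rw [← this]
            exact h8U_le_B D (h8xU_mem_U D hB _ (hpos i' hi') _)
          have hpp := h8pos_of_neg D hB hBN hO2 _ hn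
          have hnn := (hO2.negneg _ hlt).2
          rw [← hnn] at hmem
          exact h8xneg_not_mem_B D hB hA hBN hW _ hpp _ (mul_ne_zero hc4 one_ne_zero) hmem
      have := ih _ hlen' (v1 ++ v2) rfl hw' hpos'
      rw [e]
      exact Subgroup.mul_mem _ ht this

theorem h8N_not_T (D : ChevalleyDatum) (hB : H8Base.{u} D) (hA : H8ReflAll D) (hBN : H8BN D)
    (hW : H8BN2 D) (hO2 : H8Ord2 D) (n : GL D.Idx F) (hn : n ∈ D.monomialSubgroup F)
    (hnT : n ∉ D.diagonalSubgroup F) :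
    ∃ i < D.rank, ∃ r', D.IsPosRoot r' ∧
      H8Act D hB n⁻¹ (D.negIdx.getD (D.simple i) 0) r' := by
  obtain ⟨t, ht, w, hw, rfl⟩ := h8N_word D hB hA hBN n hn
  have hwT : (h8nWU D hB w : GL D.Idx F) ∉ D.diagonalSubgroup F := by
    intro h
    exact hnT (Subgroup.mul_mem _ ht h)
  have hex : ∃ i < D.rank, ¬ D.IsPosRoot (h8sW D w.reverse (D.simple i)) := by
    by_contra hcon
    have hcon' : ∀ i < D.rank, D.IsPosRoot (h8sW D w.reverse (D.simple i)) := by
      intro i hi
      by_contra h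
      exact hcon ⟨i, hi, h⟩
    exact hwT (h8word_T D hB hA hBN hW hO2 _ w rfl hw hcon')
  obtain ⟨i, hi, hnp⟩ := hex
  have hpi := h8simple_pos D hBN i hi
  have hwr : ∀ k ∈ w.reverse, k < D.rank := fun k hk => hw k (List.mem_reverse.mp hk)
  have hlt := h8sW_lt D hA _ hwr _ hpi.1
  have hneg : D.IsNegRoot (h8sW D w.reverse (D.simple i)) := by
    rcases hB.posneg _ hlt with hp | hn
    · exact absurd hp hnp
    · exact hn
  refine ⟨i, hi, D.negIdx.getD (h8sW D w.reverse (D.simple i)) 0,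
    h8pos_of_neg D hB hBN hO2 _ hneg, ?_⟩
  have hnp' := (hO2.negneg _ hpi.1).1
  have a2 := h8actN_act D hB _ _ _ (h8actN_word_inv (F := F) D hB hA w hw _ hnp')
  rw [h8sW_neg D hA _ hwr _ hpi.1] at a2
  have a3 := h8perm_H_id D hB _ (Subgroup.inv_mem _ ht) _ hnp'
  have a4 := h8act_mul D hB _ _ _ _ _ a3 a2
  have e' : (h8nWU D hB w : GL D.Idx F)⁻¹ * t⁻¹ = (t * h8nWU D hB w)⁻¹ := by group
  rw [e'] at a4
  exact a4

end Cfsg.Agent.Lib.helper8
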