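import Mathlib
import Cfsg.Prelude.Def_ChevStructure
import Cfsg.Agent.Lib.helper8.ChevTits2

set_option autoImplicit false

namespace Cfsg.Agent.Lib.helper8

open Cfsg.Lie Cfsg.Lie.ChevalleyDatum

universe u

variable {F : Type u} [Field F]

theorem h8bn_reduce (D : ChevalleyDatum) (hB : H8Base.{u} D) (hA : H8ReflAll D)
    (hC : H8CommAll.{u} D) (hBN : H8BN D)
    (i : ℕ) (hi : i < D.rank) (n : GL D.Idx F) (hn : n ∈ D.monomialSubgroup F) (b : GL D.Idx F)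
    (hb : b ∈ D.borelSubgroup F) :
    ∃ b1 ∈ D.borelSubgroup F, ∃ t : F, ∃ b2 ∈ D.borelSubgroup F,
      h8nU D hB (D.simple i) 1 * b * n =
        b1 * (h8nU D hB (D.simple i) 1 * h8xU D hB (D.simple i) t * n) * b2 := by
  obtain ⟨dep, par, horb⟩ := hBN.orb
  obtain ⟨hg, hrow⟩ := hBN.up i hi
  obtain ⟨hnorm, hsup⟩ := h8up_main (F := F) D hB hC i hg hrow
  have hpp := h8simple_pos D hBN i hi
  have hmemB : b ∈ ((D.posUnipotent F ⊔ D.diagonalSubgroup F : Subgroup (GL D.Idx F)) :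
      Set (GL D.Idx F)) := hb
  rw [Subgroup.coe_mul_of_right_le_normalizer_left _ _ (h8_H_le_normalizer_U D hB)] at hmemB
  obtain ⟨u, hu, h, hh, rfl⟩ := hmemB
  have hu' : u ∈ ((Subgroup.closure (h8UpSet D F (D.simple i)) ⊔ D.rootSubgroup F (D.simple i) :
      Subgroup (GL D.Idx F)) : Set (GL D.Idx F)) := by
    rw [hsup]
    exact hu
  rw [Subgroup.coe_mul_of_right_le_normalizer_left _ _ (le_trans le_sup_left hnorm)] at hu'
  obtain ⟨u', hu'm, x, hx, rfl⟩ := hu'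
  obtain ⟨t, rfl⟩ := h8rootSubgroup_mem D hB _ hpp.1 x hx
  have hsn := h8nU_normalizes_up (F := F) D hB hA i hi (hBN.sp i hi)
  have hu'' := (Subgroup.mem_normalizer_iff.mp hsn u').mp hu'm
  have hUpB : Subgroup.closure (h8UpSet D F (D.simple i)) ≤ D.borelSubgroup F := by
    refine le_trans ?_ (h8U_le_B D)
    rw [← hsup]
    exact le_sup_left
  have hninv : n⁻¹ ∈ Subgroup.normalizer (D.diagonalSubgroup F : Set (GL D.Idx F)) :=
    h8N_le_normalizer_H D hB hA dep par horb (Subgroup.inv_mem _ hn)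
  have hh'' := (Subgroup.mem_normalizer_iff.mp hninv h).mp hh
  refine ⟨_, hUpB hu'', t, _, h8H_le_B D hh'', ?_⟩
  show h8nU D hB (D.simple i) 1 * (u' * h8xU D hB (D.simple i) t * h) * n = _
  group

theorem h8bn_caseA (D : ChevalleyDatum) (hB : H8Base.{u} D) (hA : H8ReflAll D)
    (hC : H8CommAll.{u} D) (hBN : H8BN D)
    (i : ℕ) (hi : i < D.rank) (n : GL D.Idx F) (hn : n ∈ D.monomialSubgroup F) (b : GL D.Idx F)
    (hb : b ∈ D.borelSubgroup F) (r' : ℕ) (hr' : D.IsPosRoot r')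
    (hact : H8Act D hB n⁻¹ (D.simple i) r') :
    ∃ b1 ∈ D.borelSubgroup F, ∃ b2 ∈ D.borelSubgroup F,
      h8nU D hB (D.simple i) 1 * b * n = b1 * (h8nU D hB (D.simple i) 1 * n) * b2 := by
  obtain ⟨b1, hb1, t, b2, hb2, e⟩ := h8bn_reduce D hB hA hC hBN i hi n hn b hb
  obtain ⟨c, _, hc⟩ := hact
  refine ⟨b1, hb1, h8xU D hB r' (c * t) * b2,
    Subgroup.mul_mem _ (h8U_le_B D (h8xU_mem_U D hB _ hr' _)) hb2, ?_⟩
  rw [e, ← hc t, inv_inv]
  group

theorem h8bruhat (D : ChevalleyDatum) (hB : H8Base.{u} D) (hA : H8ReflAll D)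
    (hC : H8CommAll.{u} D) (hBN : H8BN D) (hW : H8BN2 D) (g : GL D.Idx F) (hg : g ∈ D.group F) :
    ∃ b ∈ D.borelSubgroup F, ∃ n ∈ D.monomialSubgroup F, ∃ b' ∈ D.borelSubgroup F,
      g = b * n * b' := by
  obtain ⟨dep, par, horb⟩ := hBN.orb
  have hNeq := h8N_eq (F := F) D hB hA dep par horb
  have hle : D.group F ≤ Subgroup.closure
      ((D.borelSubgroup F : Set (GL D.Idx F)) ∪
        {g : GL D.Idx F | ∃ j < D.rank, g = h8nU D hB (D.simple j) (1 : F)}) := by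
    refine le_trans (h8group_le_BN D hB hA hW) ?_
    rw [Subgroup.closure_union, Subgroup.closure_eq]
    apply sup_le le_sup_left
    rw [hNeq]
    exact sup_le (le_trans (h8H_le_B D) le_sup_left) le_sup_right
  have hstep : ∀ j < D.rank, ∀ (b : GL D.Idx F), b ∈ D.borelSubgroup F →
      ∀ n ∈ D.monomialSubgroup F, ∀ b' ∈ D.borelSubgroup F,
      ∃ c ∈ D.borelSubgroup F, ∃ m ∈ D.monomialSubgroup F, ∃ c' ∈ D.borelSubgroup F,
        h8nU D hB (D.simple j) (1 : F) * (b * n * b') = c * m * c' := by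
    intro j hj b hb n hn b' hb'
    have hsj : h8nU D hB (D.simple j) (1 : F) ∈ D.monomialSubgroup F :=
      h8nU_mem_N D hB _ (h8simple_pos D hBN j hj).1
    rcases h8bn_axiom D hB hA hC hBN j hj n hn b hb with
      ⟨b1, hb1, b2, hb2, e⟩ | ⟨b1, hb1, b2, hb2, e⟩
    · refine ⟨b1, hb1, _, Subgroup.mul_mem _ hsj hn, b2 * b', Subgroup.mul_mem _ hb2 hb', ?_⟩
      rw [← mul_assoc, ← mul_assoc, e]
      group
    · refine ⟨b1, hb1, n, hn, b2 * b', Subgroup.mul_mem _ hb2 hb', ?_⟩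
      rw [← mul_assoc, ← mul_assoc, e]
      group
  have hg' := hle hg
  clear hg
  induction hg' using Subgroup.closure_induction_left with
  | one => exact ⟨1, Subgroup.one_mem _, 1, Subgroup.one_mem _, 1, Subgroup.one_mem _, by group⟩
  | mul_left x hx y _ ih =>
    obtain ⟨b, hb, n, hn, b', hb', rfl⟩ := ih
    rcases hx with hx | ⟨j, hj, rfl⟩
    · exact ⟨x * b, Subgroup.mul_mem _ hx hb, n, hn, b', hb', by group⟩
    · exact hstep j hj b hb n hn b' hb'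
  | inv_mul_cancel x hx y _ ih =>
    obtain ⟨b, hb, n, hn, b', hb', rfl⟩ := ih
    rcases hx with hx | ⟨j, hj, rfl⟩
    · exact ⟨x⁻¹ * b, Subgroup.mul_mem _ (Subgroup.inv_mem _ hx) hb, n, hn, b', hb', by group⟩
    · obtain ⟨c, hc, m, hm, c', hc', e⟩ := hstep j hj b hb n hn b' hb'
      have hss := h8nU_sq_mem_H (F := F) D hB (D.simple j) (h8simple_pos D hBN j hj).1
      refine ⟨(h8nU D hB (D.simple j) (1 : F) * h8nU D hB (D.simple j) 1)⁻¹ * c,
        Subgroup.mul_mem _ (Subgroup.inv_mem _ (h8H_le_B D hss)) hc, m, hm, c', hc', ?_⟩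
      have e5 : (h8nU D hB (D.simple j) (1 : F) * h8nU D hB (D.simple j) 1)⁻¹ * c * m * c' =
          (h8nU D hB (D.simple j) (1 : F) * h8nU D hB (D.simple j) 1)⁻¹ * (c * m * c') := by group
      rw [e5, ← e]
      group

theorem h8simple_mem_of_neg (D : ChevalleyDatum) (hB : H8Base.{u} D) (hBN : H8BN D)
    (P : Subgroup (GL D.Idx F)) (hBP : D.borelSubgroup F ≤ P) (n : GL D.Idx F) (hn : n ∈ P)
    (i : ℕ) (hi : i < D.rank) (r' : ℕ) (hr' : D.IsPosRoot r')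
    (hact : H8Act D hB n⁻¹ (D.negIdx.getD (D.simple i) 0) r') :
    h8nU D hB (D.simple i) (1 : F) ∈ P := by
  obtain ⟨c, _, hc⟩ := hact
  have hpi := h8simple_pos D hBN i hi
  have hneg : ∀ t : F, h8xU D hB (D.negIdx.getD (D.simple i) 0) t ∈ P := by
    intro t
    have e : h8xU D hB (D.negIdx.getD (D.simple i) 0) t =
        n * (n⁻¹ * h8xU D hB (D.negIdx.getD (D.simple i) 0) t * n⁻¹⁻¹) * n⁻¹ := by group
    rw [e, hc t]
    exact Subgroup.mul_mem _ (Subgroup.mul_mem _ hn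
      (hBP (h8U_le_B D (h8xU_mem_U D hB _ hr' _)))) (Subgroup.inv_mem _ hn)
  have hposx : ∀ t : F, h8xU D hB (D.simple i) t ∈ P :=
    fun t => hBP (h8U_le_B D (h8xU_mem_U D hB _ hpi _))
  rw [h8nU_eq]
  exact Subgroup.mul_mem _ (Subgroup.mul_mem _ (hposx _) (hneg _)) (hposx _)

theorem h8tits_adj (D : ChevalleyDatum) (hB : H8Base.{u} D) (hA : H8ReflAll D)
    (hC : H8CommAll.{u} D) (hBN : H8BN D)
    (K P : Subgroup (GL D.Idx F)) (hBP : D.borelSubgroup F ≤ P) (hKP : K ≤ P)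
    (hKnorm : ∀ g ∈ D.group F, ∀ k ∈ K, g * k * g⁻¹ ∈ K)
    (hPKB : ∀ x ∈ P, ∃ k ∈ K, ∃ b ∈ D.borelSubgroup F, x = k * b)
    (i j : ℕ) (hi : i < D.rank) (hj : j < D.rank)
    (hadj : D.reflectRoot i (D.simple j) ≠ D.simple j)
    (hsi : h8nU D hB (D.simple i) (1 : F) ∈ P) : h8nU D hB (D.simple j) (1 : F) ∈ P := by
  by_cases hpij : D.simple j = D.simple i
  · rw [hpij]
    exact hsi
  have hpi := h8simple_pos D hBN i hi
  have hpj := h8simple_pos D hBN j hj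
  obtain ⟨ηi, hRi⟩ := h8reflAll_spec D hA i hi
  obtain ⟨ηj, hRj⟩ := h8reflAll_spec D hA j hj
  obtain ⟨ha_pos, _⟩ := h8spChk_spec D i (hBN.sp i hi) _ hpj hpij
  obtain ⟨hb_pos, _⟩ := h8spChk_spec D j (hBN.sp j hj) _ ha_pos hadj
  have hsiN : h8nU D hB (D.simple i) (1 : F) ∈ D.monomialSubgroup F := h8nU_mem_N D hB _ hpi.1
  have hsjN : h8nU D hB (D.simple j) (1 : F) ∈ D.monomialSubgroup F := h8nU_mem_N D hB _ hpj.1
  have hsjG : h8nU D hB (D.simple j) (1 : F) ∈ D.group F := h8_N_le_group D hB hsjN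
  obtain ⟨k, hk, b, hb, e⟩ := hPKB _ hsi
  have hm : h8nU D hB (D.simple j) (1 : F) * k * (h8nU D hB (D.simple j) (1 : F))⁻¹ ∈ K :=
    hKnorm _ hsjG k hk
  have hn0 : (h8nU D hB (D.simple i) (1 : F))⁻¹ * (h8nU D hB (D.simple j) (1 : F))⁻¹ ∈
      D.monomialSubgroup F :=
    Subgroup.mul_mem _ (Subgroup.inv_mem _ hsiN) (Subgroup.inv_mem _ hsjN)
  have act1 : H8Act D hB ((h8nU D hB (D.simple i) (1 : F))⁻¹ *
      (h8nU D hB (D.simple j) (1 : F))⁻¹)⁻¹ (D.simple j)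
      (D.reflectRoot j (D.reflectRoot i (D.simple j))) := by
    have e1 : ((h8nU D hB (D.simple i) (1 : F))⁻¹ * (h8nU D hB (D.simple j) (1 : F))⁻¹)⁻¹ =
        h8nU D hB (D.simple j) 1 * h8nU D hB (D.simple i) 1 := by group
    rw [e1]
    exact h8act_mul D hB _ _ _ _ _ (h8act_nU D hB hA i hi _ hpj.1)
      (h8act_nU D hB hA j hj _ ha_pos.1)
  obtain ⟨b1, hb1, b2, hb2, e2⟩ := h8bn_caseA D hB hA hC hBN j hj _ hn0 b hb _ hb_pos act1
  have hminv : h8nU D hB (D.simple j) (1 : F) * b *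
      ((h8nU D hB (D.simple i) (1 : F))⁻¹ * (h8nU D hB (D.simple j) (1 : F))⁻¹) =
      (h8nU D hB (D.simple j) (1 : F) * k * (h8nU D hB (D.simple j) (1 : F))⁻¹)⁻¹ := by
    have : k = h8nU D hB (D.simple i) (1 : F) * b⁻¹ := by rw [e]; group
    rw [this]
    group
  have hn1 : h8nU D hB (D.simple j) (1 : F) *
      ((h8nU D hB (D.simple i) (1 : F))⁻¹ * (h8nU D hB (D.simple j) (1 : F))⁻¹) ∈ P := by
    have e3 : h8nU D hB (D.simple j) (1 : F) *
        ((h8nU D hB (D.simple i) (1 : F))⁻¹ * (h8nU D hB (D.simple j) (1 : F))⁻¹) =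
        b1⁻¹ * (h8nU D hB (D.simple j) (1 : F) * b *
          ((h8nU D hB (D.simple i) (1 : F))⁻¹ * (h8nU D hB (D.simple j) (1 : F))⁻¹)) * b2⁻¹ := by
      rw [e2]
      group
    rw [e3, hminv]
    exact Subgroup.mul_mem _ (Subgroup.mul_mem _ (Subgroup.inv_mem _ (hBP hb1))
      (Subgroup.inv_mem _ (hKP hm))) (Subgroup.inv_mem _ (hBP hb2))
  apply h8simple_mem_of_neg D hB hBN P hBP _ hn1 j hj _ hb_pos
  have e4 : (h8nU D hB (D.simple j) (1 : F) *
      ((h8nU D hB (D.simple i) (1 : F))⁻¹ * (h8nU D hB (D.simple j) (1 : F))⁻¹))⁻¹ =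
      h8nU D hB (D.simple j) 1 * h8nU D hB (D.simple i) 1 *
        (h8nU D hB (D.simple j) (1 : F))⁻¹ := by group
  rw [e4]
  have a0 := h8act_inv D hB _ _ _ (h8act_nU (F := F) D hB hA j hj _ hpj.1)
  rw [h8reflectRoot_simple] at a0
  exact h8act_mul D hB _ _ _ _ _ a0
    (h8act_mul D hB _ _ _ _ _ (h8act_nU D hB hA i hi _ hpj.1) (h8act_nU D hB hA j hj _ ha_pos.1))

end Cfsg.Agent.Lib.helper8
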