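import Mathlib
import Cfsg.Prelude.Def_ChevStructure
import Cfsg.Agent.Lib.helper8.ChevTits3
import Cfsg.Agent.Lib.helper8.ChevMono
import Cfsg.Agent.Lib.helper8.ChevCore

set_option autoImplicit false

namespace Cfsg.Agent.Lib.helper8

open Cfsg.Lie Cfsg.Lie.ChevalleyDatum

universe u

variable {F : Type u} [Field F]

theorem h8nU_inv_eq (D : ChevalleyDatum) (hB : H8Base.{u} D) (r : ℕ) (hr : r < D.nroots) :
    ∃ h ∈ D.diagonalSubgroup F, (h8nU D hB r (1 : F))⁻¹ = h8nU D hB r 1 * h := by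
  refine ⟨(h8nU D hB r (1 : F) * h8nU D hB r 1)⁻¹,
    Subgroup.inv_mem _ (h8nU_sq_mem_H D hB r hr), ?_⟩
  group

theorem h8cell_aux (D : ChevalleyDatum) (hB : H8Base.{u} D) (hA : H8ReflAll D)
    (hC : H8CommAll.{u} D) (hBN : H8BN D) :
    ∀ (k : ℕ) (w : List ℕ), w.length = k → (∀ i ∈ w, i < D.rank) →
      ∀ n' : GL D.Idx F, n' ∈ D.monomialSubgroup F →
      (∀ (v : List ℕ) (t : GL D.Idx F), (∀ i ∈ v, i < D.rank) → t ∈ D.diagonalSubgroup F →
        n' = t * h8nWU D hB v → k ≤ v.length) →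
      (∃ b1 ∈ D.borelSubgroup F, ∃ b2 ∈ D.borelSubgroup F, h8nWU D hB w = b1 * n' * b2) →
      (h8nWU D hB w)⁻¹ * n' ∈ D.diagonalSubgroup F := by
  obtain ⟨dep, par, horb⟩ := hBN.orb
  have hBNH := h8_B_inf_N (F := F) D hB hA dep par horb
  intro k
  induction k with
  | zero =>
    intro w hlen hw n' hn' _ hcell
    have hw0 : w = [] := List.length_eq_zero_iff.mp hlen
    subst hw0
    obtain ⟨b1, hb1, b2, hb2, e⟩ := hcell
    have e1 : (h8nWU D hB [] : GL D.Idx F) = 1 := rfl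
    rw [e1] at e
    rw [e1, inv_one, one_mul, ← hBNH, Subgroup.mem_inf]
    refine ⟨?_, hn'⟩
    have : n' = b1⁻¹ * b2⁻¹ := by
      have : b1⁻¹ * 1 * b2⁻¹ = n' := by rw [e]; group
      rw [← this]; group
    rw [this]
    exact Subgroup.mul_mem _ (Subgroup.inv_mem _ hb1) (Subgroup.inv_mem _ hb2)
  | succ k ih =>
    intro w hlen hw n' hn' hmin hcell
    cases w with
    | nil => simp at hlen
    | cons i w'' =>
      have hi : i < D.rank := hw i List.mem_cons_self
      have hw'' : ∀ j ∈ w'', j < D.rank := fun j hj => hw j (List.mem_cons_of_mem _ hj)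
      have hlen'' : w''.length = k := by simpa using hlen
      have hpi := h8simple_pos D hBN i hi
      have hmnorm := h8nWU_mem_normalizer_H (F := F) D hB hA w'' hw''
      have hninorm := h8nU_mem_normalizer_H (F := F) D hB hA i hi
      have hsq : h8nU D hB (D.simple i) (1 : F) * h8nU D hB (D.simple i) 1 ∈
          D.diagonalSubgroup F := h8nU_sq_mem_H D hB _ hpi.1
      have hniN : h8nU D hB (D.simple i) (1 : F) ∈ D.monomialSubgroup F :=
        h8nU_mem_N D hB _ hpi.1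
      have hcons : ∀ v : List ℕ, (h8nWU D hB (i :: v) : GL D.Idx F) =
          h8nU D hB (D.simple i) 1 * h8nWU D hB v := fun v => h8nWU_cons D hB i v
      obtain ⟨b1, hb1, b2, hb2, e⟩ := hcell
      rw [h8nWU_cons] at e ⊢
      have hax := h8bn_axiom D hB hA hC hBN i hi n' hn'
      have ih' := ih w'' hlen'' hw''
      obtain ⟨ni, hni⟩ : ∃ x : GL D.Idx F, x = h8nU D hB (D.simple i) 1 := ⟨_, rfl⟩
      obtain ⟨m, hm⟩ : ∃ x : GL D.Idx F, x = h8nWU D hB w'' := ⟨_, rfl⟩
      rw [← hni] at hninorm hsq hniN hcons e hax ⊢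
      rw [← hm] at hmnorm e ih' ⊢
      have e' : m = ni * ((ni * ni)⁻¹ * b1) * n' * b2 := by
        have : m = ni⁻¹ * (ni * m) := by group
        rw [this, e]; group
      have hbb : (ni * ni)⁻¹ * b1 ∈ D.borelSubgroup F :=
        Subgroup.mul_mem _ (h8H_le_B D (Subgroup.inv_mem _ hsq)) hb1
      rcases hax _ hbb with
        ⟨c1, hc1, c2, hc2, e2⟩ | ⟨c1, hc1, c2, hc2, e2⟩
      · have hcell' : ∃ b1 ∈ D.borelSubgroup F, ∃ b2 ∈ D.borelSubgroup F,
            m = b1 * (ni * n') * b2 := by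
          refine ⟨c1, hc1, c2 * b2, Subgroup.mul_mem _ hc2 hb2, ?_⟩
          rw [e', e2]; group
        have hmin' : ∀ (v : List ℕ) (t : GL D.Idx F), (∀ j ∈ v, j < D.rank) →
            t ∈ D.diagonalSubgroup F → ni * n' = t * h8nWU D hB v → k ≤ v.length := by
          intro v t hv ht ev
          have hconj : ni * ((ni * ni)⁻¹ * t) * ni⁻¹ ∈ D.diagonalSubgroup F :=
            (Subgroup.mem_normalizer_iff.mp hninorm _).mp
              (Subgroup.mul_mem _ (Subgroup.inv_mem _ hsq) ht)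
          have := hmin (i :: v) (ni * ((ni * ni)⁻¹ * t) * ni⁻¹)
            (by intro j hj
                rcases List.mem_cons.mp hj with rfl | hj
                · exact hi
                · exact hv j hj) hconj
            (by rw [hcons]
                have : n' = ni⁻¹ * (ni * n') := by group
                rw [this, ev]; group)
          simp only [List.length_cons] at this
          omega
        have hres := ih' (ni * n') (Subgroup.mul_mem _ hniN hn') hmin' hcell'
        have : (ni * m)⁻¹ * n' = (m⁻¹ * (ni * ni)⁻¹ * m⁻¹⁻¹) * (m⁻¹ * (ni * n')) := by group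
        rw [this]
        refine Subgroup.mul_mem _ ?_ hres
        exact (Subgroup.mem_normalizer_iff.mp (Subgroup.inv_mem _ hmnorm) _).mp
          (Subgroup.inv_mem _ hsq)
      · exfalso
        have hcell' : ∃ b1 ∈ D.borelSubgroup F, ∃ b2 ∈ D.borelSubgroup F,
            m = b1 * n' * b2 := by
          refine ⟨c1, hc1, c2 * b2, Subgroup.mul_mem _ hc2 hb2, ?_⟩
          rw [e', e2]; group
        have hmin' : ∀ (v : List ℕ) (t : GL D.Idx F), (∀ j ∈ v, j < D.rank) →
            t ∈ D.diagonalSubgroup F → n' = t * h8nWU D hB v → k ≤ v.length := by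
          intro v t hv ht ev
          have := hmin v t hv ht ev
          omega
        have hres := ih' n' hn' hmin' hcell'
        have hconj : m * (m⁻¹ * n') * m⁻¹ ∈ D.diagonalSubgroup F :=
          (Subgroup.mem_normalizer_iff.mp hmnorm _).mp hres
        have := hmin w'' (m * (m⁻¹ * n') * m⁻¹) hw'' hconj (by rw [← hm]; group)
        omega

theorem h8cell_le (D : ChevalleyDatum) (hB : H8Base.{u} D) (hA : H8ReflAll D)
    (hC : H8CommAll.{u} D) (hBN : H8BN D) (w : List ℕ) (hw : ∀ i ∈ w, i < D.rank)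
    (t : GL D.Idx F) (ht : t ∈ D.diagonalSubgroup F)
    (n' : GL D.Idx F) (hn' : n' ∈ D.monomialSubgroup F)
    (hmin : ∀ (v : List ℕ) (t' : GL D.Idx F), (∀ i ∈ v, i < D.rank) → t' ∈ D.diagonalSubgroup F →
        n' = t' * h8nWU D hB v → w.length ≤ v.length)
    (hcell : ∃ b1 ∈ D.borelSubgroup F, ∃ b2 ∈ D.borelSubgroup F,
      t * h8nWU D hB w = b1 * n' * b2) :
    (t * h8nWU D hB w)⁻¹ * n' ∈ D.diagonalSubgroup F := by
  obtain ⟨b1, hb1, b2, hb2, e⟩ := hcell
  have hmnorm := h8nWU_mem_normalizer_H (F := F) D hB hA w hw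
  have hres := h8cell_aux D hB hA hC hBN w.length w rfl hw n' hn' hmin
    ⟨t⁻¹ * b1, Subgroup.mul_mem _ (h8H_le_B D (Subgroup.inv_mem _ ht)) hb1, b2, hb2, by
      have : (h8nWU D hB w : GL D.Idx F) = t⁻¹ * (t * h8nWU D hB w) := by group
      rw [this, e]; group⟩
  have : (t * h8nWU D hB w)⁻¹ * n' =
      ((h8nWU D hB w)⁻¹ * t⁻¹ * (h8nWU D hB w)⁻¹⁻¹) * ((h8nWU D hB w)⁻¹ * n') := by group
  rw [this]
  refine Subgroup.mul_mem _ ?_ hres
  exact (Subgroup.mem_normalizer_iff.mp (Subgroup.inv_mem _ hmnorm) _).mp (Subgroup.inv_mem _ ht)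

theorem h8cell_disjoint (D : ChevalleyDatum) (hB : H8Base.{u} D) (hA : H8ReflAll D)
    (hC : H8CommAll.{u} D) (hBN : H8BN D)
    (n n' : GL D.Idx F) (hn : n ∈ D.monomialSubgroup F) (hn' : n' ∈ D.monomialSubgroup F)
    (hcell : ∃ b1 ∈ D.borelSubgroup F, ∃ b2 ∈ D.borelSubgroup F, n = b1 * n' * b2) :
    n⁻¹ * n' ∈ D.diagonalSubgroup F := by
  classical
  have hex : ∀ x : GL D.Idx F, x ∈ D.monomialSubgroup F →
      ∃ k : ℕ, ∃ (v : List ℕ) (t : GL D.Idx F), (∀ i ∈ v, i < D.rank) ∧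
        t ∈ D.diagonalSubgroup F ∧ x = t * h8nWU D hB v ∧ v.length = k := by
    intro x hx
    obtain ⟨t, ht, v, hv, e⟩ := h8N_word D hB hA hBN x hx
    exact ⟨v.length, v, t, hv, ht, e, rfl⟩
  have key : ∀ x y : GL D.Idx F, ∀ (hx : x ∈ D.monomialSubgroup F)
      (hy : y ∈ D.monomialSubgroup F), Nat.find (hex x hx) ≤ Nat.find (hex y hy) →
      (∃ b1 ∈ D.borelSubgroup F, ∃ b2 ∈ D.borelSubgroup F, x = b1 * y * b2) →
      x⁻¹ * y ∈ D.diagonalSubgroup F := by
    intro x y hx hy hle hc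
    obtain ⟨w, t, hw, ht, e, hlen⟩ := Nat.find_spec (hex x hx)
    have hmin : ∀ (v : List ℕ) (t' : GL D.Idx F), (∀ i ∈ v, i < D.rank) →
        t' ∈ D.diagonalSubgroup F → y = t' * h8nWU D hB v → w.length ≤ v.length := by
      intro v t' hv ht' ev
      have := Nat.find_min' (hex y hy) ⟨v, t', hv, ht', ev, rfl⟩
      omega
    rw [e] at hc ⊢
    exact h8cell_le D hB hA hC hBN w hw t ht y hy hmin hc
  rcases le_total (Nat.find (hex n hn)) (Nat.find (hex n' hn')) with hle | hle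
  · exact key n n' hn hn' hle hcell
  · obtain ⟨b1, hb1, b2, hb2, e⟩ := hcell
    have := key n' n hn' hn hle ⟨b1⁻¹, Subgroup.inv_mem _ hb1, b2⁻¹, Subgroup.inv_mem _ hb2, by
      rw [e]; group⟩
    have h2 : n⁻¹ * n' = (n'⁻¹ * n)⁻¹ := by group
    rw [h2]
    exact Subgroup.inv_mem _ this

end Cfsg.Agent.Lib.helper8
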