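import Mathlib
import Cfsg.Prelude.Def_ChevStructure
import Cfsg.Agent.Lib.helper8.ChevOrd2

set_option autoImplicit false

namespace Cfsg.Agent.Lib.helper8

open Cfsg.Lie Cfsg.Lie.ChevalleyDatum

universe u

variable {F : Type u} [Field F]

theorem h8Vk_zero (D : ChevalleyDatum) :
    Subgroup.closure (h8VkSet D F 0) = D.posUnipotent F := by
  unfold ChevalleyDatum.posUnipotent
  congr 1
  ext g
  constructor
  · rintro ⟨r, t, hr, _, hg⟩
    exact ⟨r, t, hr, hg⟩
  · rintro ⟨r, t, hr, hg⟩
    exact ⟨r, t, hr, Nat.zero_le _, hg⟩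

theorem h8ordW_congr (D : ChevalleyDatum) (k : ℕ) (t t' : ℕ → F)
    (h : ∀ r ∈ h8Lk D k, t r = t' r) : h8ordW D k t = h8ordW D k t' := by
  unfold h8ordW
  apply List.map_congr_left
  intro r hr
  rw [h r hr]

theorem h8ordW_zero (D : ChevalleyDatum) (t : ℕ → F) :
    h8ordW D 0 t = D.posRoots.map fun r => (r, t r) := by
  unfold h8ordW
  rw [h8Lk_zero]

theorem h8ord_main (D : ChevalleyDatum) (hB : H8Base.{u} D) (hC : H8CommAll.{u} D)
    (hO : H8Ord D) (hO2 : H8Ord2 D) :
    (∀ g : GL D.Idx F, g ∈ D.posUnipotent F →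
      ∃! t : ℕ → F, (∀ r, ¬ D.IsPosRoot r → t r = 0) ∧
        (g : Matrix D.Idx D.Idx F) = D.wordMat F (D.posRoots.map fun r => (r, t r))) ∧
    (∀ t : ℕ → F, ∃ g : GL D.Idx F, g ∈ D.posUnipotent F ∧
      (g : Matrix D.Idx D.Idx F) = D.wordMat F (D.posRoots.map fun r => (r, t r))) := by
  constructor
  · intro g hg
    rw [← h8Vk_zero] at hg
    obtain ⟨t0, ht0⟩ := h8ord_exists D hB hC hO D.nroots 0 (by omega) g hg
    have hcongr : h8ordW D 0 (fun r => if D.IsPosRoot r then t0 r else 0) = h8ordW D 0 t0 := by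
      apply h8ordW_congr
      intro r hr
      rw [if_pos ((h8Lk_mem D 0 r).mp hr).2]
    refine ⟨fun r => if D.IsPosRoot r then t0 r else 0, ⟨?_, ?_⟩, ?_⟩
    · intro r hr
      simp only [if_neg hr]
    · rw [← h8ordW_zero, hcongr, ht0, h8wordU_val]
    · rintro t' ⟨h1, h2⟩
      have heq : h8wordU D hB (h8ordW D 0 t') = h8wordU D hB (h8ordW D 0 t0) := by
        apply Units.ext
        rw [h8wordU_val, h8ordW_zero, ← h2, ht0]
      have hun := h8ord_unique D hB hO2 D.nroots 0 (by omega) t' t0 heq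
      funext r
      by_cases hr : D.IsPosRoot r
      · simp only [if_pos hr]
        exact hun r ((h8Lk_mem D 0 r).mpr ⟨Nat.zero_le _, hr⟩)
      · simp only [if_neg hr]
        exact h1 r hr
  · intro t
    refine ⟨h8wordU D hB (h8ordW D 0 t), ?_, ?_⟩
    · rw [← h8Vk_zero]
      exact h8ordW_mem D hB 0 t
    · rw [h8wordU_val, h8ordW_zero]

theorem h8card_U [Fintype F] (D : ChevalleyDatum) (hB : H8Base.{u} D) (hC : H8CommAll.{u} D)
    (hO : H8Ord D) (hO2 : H8Ord2 D) (hlen : D.posRoots.length = D.nroots / 2) :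
    Nat.card (D.posUnipotent F) = Fintype.card F ^ (D.nroots / 2) := by
  classical
  have hmemU : ∀ t : ℕ → F, h8wordU D hB (h8ordW D 0 t) ∈ D.posUnipotent F := by
    intro t
    rw [← h8Vk_zero]
    exact h8ordW_mem D hB 0 t
  have hbij : Function.Bijective (fun f : (↥D.posRoots.toFinset → F) =>
      (⟨h8wordU D hB (h8ordW D 0 (fun r => if h : r ∈ D.posRoots.toFinset then f ⟨r, h⟩ else 0)),
        hmemU _⟩ : D.posUnipotent F)) := by
    constructor
    · intro f f' hff
      have heq := congrArg Subtype.val hff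
      simp only at heq
      have hun := h8ord_unique D hB hO2 D.nroots 0 (by omega) _ _ heq
      funext ⟨r, hr⟩
      have hr' : r ∈ h8Lk D 0 := by
        rw [h8Lk_zero]
        exact List.mem_toFinset.mp hr
      have := hun r hr'
      simp only [dif_pos hr] at this
      exact this
    · rintro ⟨g, hg⟩
      rw [← h8Vk_zero] at hg
      obtain ⟨t0, ht0⟩ := h8ord_exists D hB hC hO D.nroots 0 (by omega) g hg
      refine ⟨fun x => t0 x.val, ?_⟩
      apply Subtype.ext
      simp only
      rw [ht0]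
      congr 1
      apply h8ordW_congr
      intro r hr
      rw [h8Lk_zero] at hr
      rw [dif_pos (List.mem_toFinset.mpr hr)]
  rw [← Nat.card_congr (Equiv.ofBijective _ hbij), Nat.card_eq_fintype_card, Fintype.card_fun,
    Fintype.card_coe, List.toFinset_card_of_nodup, hlen]
  unfold ChevalleyDatum.posRoots
  exact List.Nodup.filter _ List.nodup_range

end Cfsg.Agent.Lib.helper8
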