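import Mathlib
import Cfsg.Prelude.Def_ChevStructure
import Cfsg.Agent.Lib.helper8.ChevOrd4
import Cfsg.Agent.Lib.helper8.ChevBN2

set_option autoImplicit false

namespace Cfsg.Agent.Lib.helper8

open Cfsg.Lie Cfsg.Lie.ChevalleyDatum

universe u

variable {F : Type u} [Field F]

def h8ordP (D : ChevalleyDatum) (P : ℕ → Bool) (k : ℕ) (t : ℕ → F) : List (ℕ × F) :=
  ((h8Lk D k).filter P).map fun r => (r, t r)

def h8ordQ (D : ChevalleyDatum) (P : ℕ → Bool) (k : ℕ) (t : ℕ → F) : List (ℕ × F) :=
  (((h8Lk D k).filter fun r => !P r).reverse).map fun r => (r, t r)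

theorem h8ordP_congr (D : ChevalleyDatum) (P : ℕ → Bool) (k : ℕ) (t t' : ℕ → F)
    (h : ∀ r ∈ h8Lk D k, t r = t' r) : h8ordP D P k t = h8ordP D P k t' := by
  unfold h8ordP
  apply List.map_congr_left
  intro r hr
  rw [h r (List.mem_filter.mp hr).1]

theorem h8ordQ_congr (D : ChevalleyDatum) (P : ℕ → Bool) (k : ℕ) (t t' : ℕ → F)
    (h : ∀ r ∈ h8Lk D k, t r = t' r) : h8ordQ D P k t = h8ordQ D P k t' := by
  unfold h8ordQ
  apply List.map_congr_left
  intro r hr
  rw [h r (List.mem_filter.mp (List.mem_reverse.mp hr)).1]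

theorem h8Vk_step_right (D : ChevalleyDatum) (hB : H8Base.{u} D) (hC : H8CommAll.{u} D)
    (hO : H8Ord D) (k : ℕ) (hk : D.IsPosRoot k) (g : GL D.Idx F)
    (hg : g ∈ Subgroup.closure (h8VkSet D F k)) :
    ∃ a : F, ∃ v ∈ Subgroup.closure (h8VkSet D F (k + 1)), g = v * h8xU D hB k a := by
  obtain ⟨a, v, hv, e⟩ := h8Vk_step D hB hC hO k hk g⁻¹ (Subgroup.inv_mem _ hg)
  refine ⟨-a, v⁻¹, Subgroup.inv_mem _ hv, ?_⟩
  rw [← h8xU_inv, ← mul_inv_rev, ← e, inv_inv]

theorem h8split_exists (D : ChevalleyDatum) (hB : H8Base.{u} D) (hC : H8CommAll.{u} D)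
    (hO : H8Ord D) (P : ℕ → Bool) : ∀ (m k : ℕ), k + m = D.nroots → ∀ g : GL D.Idx F,
      g ∈ Subgroup.closure (h8VkSet D F k) → ∃ t : ℕ → F,
        g = h8wordU D hB (h8ordP D P k t) * h8wordU D hB (h8ordQ D P k t) := by
  intro m
  induction m with
  | zero =>
    intro k hk g hg
    have hempty : h8VkSet D F k = ∅ := by
      ext x
      simp only [Set.mem_empty_iff_false, iff_false]
      rintro ⟨r, t, hr, hkr, _⟩
      have := hr.1
      omega
    rw [hempty, Subgroup.closure_empty, Subgroup.mem_bot] at hg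
    refine ⟨fun _ => 0, ?_⟩
    have : h8Lk D k = [] := by
      unfold h8Lk
      have : D.nroots - k = 0 := by omega
      rw [this]
      rfl
    unfold h8ordP h8ordQ
    rw [this, hg]
    simp only [List.filter_nil, List.reverse_nil, List.map_nil]
    have : (h8wordU D hB [] : GL D.Idx F) = 1 := rfl
    rw [this, one_mul]
  | succ m ih =>
    intro k hk g hg
    by_cases hpos : D.IsPosRoot k
    · have hnotmem : ∀ r ∈ h8Lk D (k + 1), r ≠ k := by
        intro r hr
        have := ((h8Lk_mem D (k + 1) r).mp hr).1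
        omega
      cases hP : P k with
      | true =>
        obtain ⟨a, v, hv, rfl⟩ := h8Vk_step D hB hC hO k hpos g hg
        obtain ⟨t', rfl⟩ := ih (k + 1) (by omega) v hv
        refine ⟨Function.update t' k a, ?_⟩
        have e1 : h8ordP D P k (Function.update t' k a) = (k, a) :: h8ordP D P (k + 1) t' := by
          unfold h8ordP
          rw [h8Lk_pos D k hpos, List.filter_cons, if_pos hP, List.map_cons]
          simp only [Function.update_self]
          congr 1
          apply List.map_congr_left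
          intro r hr
          rw [Function.update_of_ne (hnotmem r (List.mem_filter.mp hr).1)]
        have e2 : h8ordQ D P k (Function.update t' k a) = h8ordQ D P (k + 1) t' := by
          unfold h8ordQ
          rw [h8Lk_pos D k hpos, List.filter_cons, if_neg (by simp [hP])]
          apply List.map_congr_left
          intro r hr
          rw [Function.update_of_ne
            (hnotmem r (List.mem_filter.mp (List.mem_reverse.mp hr)).1)]
        rw [e1, e2, h8wordU_cons, mul_assoc]
      | false =>
        obtain ⟨a, v, hv, rfl⟩ := h8Vk_step_right D hB hC hO k hpos g hg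
        obtain ⟨t', rfl⟩ := ih (k + 1) (by omega) v hv
        refine ⟨Function.update t' k a, ?_⟩
        have e1 : h8ordP D P k (Function.update t' k a) = h8ordP D P (k + 1) t' := by
          unfold h8ordP
          rw [h8Lk_pos D k hpos, List.filter_cons, if_neg (by simp [hP])]
          apply List.map_congr_left
          intro r hr
          rw [Function.update_of_ne (hnotmem r (List.mem_filter.mp hr).1)]
        have e2 : h8ordQ D P k (Function.update t' k a) =
            h8ordQ D P (k + 1) t' ++ [(k, a)] := by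
          unfold h8ordQ
          rw [h8Lk_pos D k hpos, List.filter_cons, if_pos (by simp [hP]), List.reverse_cons,
            List.map_append, List.map_cons, List.map_nil]
          simp only [Function.update_self]
          congr 1
          apply List.map_congr_left
          intro r hr
          rw [Function.update_of_ne
            (hnotmem r (List.mem_filter.mp (List.mem_reverse.mp hr)).1)]
        rw [e1, e2, h8wordU_append, mul_assoc]
        congr 2
        rw [h8wordU_cons]
        show _ = _ * h8wordU D hB []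
        have : (h8wordU D hB [] : GL D.Idx F) = 1 := rfl
        rw [this, mul_one]
    · have hset : h8VkSet D F k = h8VkSet D F (k + 1) := by
        ext x
        constructor
        · rintro ⟨r, t, hr, hkr, hx⟩
          refine ⟨r, t, hr, ?_, hx⟩
          rcases Nat.eq_or_lt_of_le hkr with rfl | h
          · exact absurd hr hpos
          · omega
        · rintro ⟨r, t, hr, hkr, hx⟩
          exact ⟨r, t, hr, by omega, hx⟩
      rw [hset] at hg
      obtain ⟨t, rfl⟩ := ih (k + 1) (by omega) g hg
      refine ⟨t, ?_⟩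
      unfold h8ordP h8ordQ
      rw [h8Lk_not D k hpos]

theorem h8ordP_mem (D : ChevalleyDatum) (hB : H8Base.{u} D) (P : ℕ → Bool) (k : ℕ) (t : ℕ → F) :
    h8wordU D hB (h8ordP D P k t) ∈ Subgroup.closure
      {g : GL D.Idx F | ∃ (r : ℕ) (c : F), D.IsPosRoot r ∧ P r = true ∧ g = h8xU D hB r c} := by
  unfold h8wordU
  apply Subgroup.list_prod_mem
  intro g hg
  rw [List.mem_map] at hg
  obtain ⟨q, hq, rfl⟩ := hg
  unfold h8ordP at hq
  rw [List.mem_map] at hq
  obtain ⟨r, hr, rfl⟩ := hq
  apply Subgroup.subset_closure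
  obtain ⟨h1, h2⟩ := List.mem_filter.mp hr
  exact ⟨r, t r, ((h8Lk_mem D k r).mp h1).2, h2, rfl⟩

theorem h8ordQ_mem (D : ChevalleyDatum) (hB : H8Base.{u} D) (P : ℕ → Bool) (k : ℕ) (t : ℕ → F) :
    h8wordU D hB (h8ordQ D P k t) ∈ Subgroup.closure
      {g : GL D.Idx F | ∃ (r : ℕ) (c : F), D.IsPosRoot r ∧ P r = false ∧ g = h8xU D hB r c} := by
  unfold h8wordU
  apply Subgroup.list_prod_mem
  intro g hg
  rw [List.mem_map] at hg
  obtain ⟨q, hq, rfl⟩ := hg
  unfold h8ordQ at hq
  rw [List.mem_map] at hq
  obtain ⟨r, hr, rfl⟩ := hq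
  apply Subgroup.subset_closure
  obtain ⟨h1, h2⟩ := List.mem_filter.mp (List.mem_reverse.mp hr)
  exact ⟨r, t r, ((h8Lk_mem D k r).mp h1).2, by simpa using h2, rfl⟩

theorem h8split_main (D : ChevalleyDatum) (hB : H8Base.{u} D) (hC : H8CommAll.{u} D)
    (hO : H8Ord D) (P : ℕ → Bool) (g : GL D.Idx F) (hg : g ∈ D.posUnipotent F) :
    ∃ t : ℕ → F, g = h8wordU D hB (h8ordP D P 0 t) * h8wordU D hB (h8ordQ D P 0 t) := by
  rw [← h8Vk_zero] at hg
  exact h8split_exists D hB hC hO P D.nroots 0 (by omega) g hg

end Cfsg.Agent.Lib.helper8
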