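import Mathlib
import Cfsg.Prelude.Def_ChevStructure
import Cfsg.Agent.Lib.helper8.ChevBr1
import Cfsg.Agent.Lib.helper8.ChevBr2
import Cfsg.Agent.Lib.helper8.ChevBorel

set_option autoImplicit false

namespace Cfsg.Agent.Lib.helper8

open Cfsg.Lie Cfsg.Lie.ChevalleyDatum

universe u

variable {F : Type u} [Field F]

def h8UmSet (D : ChevalleyDatum) (F : Type u) [Field F] (n : GL D.Idx F) : Set (GL D.Idx F) :=
  {x : GL D.Idx F | ∃ (r : ℕ) (t : F), D.IsPosRoot r ∧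
    (D.rootSubgroup F r).map (MulAut.conj n).toMonoidHom ≤ D.negUnipotent F ∧
    (x : Matrix D.Idx D.Idx F) = D.x F r t}

theorem h8xU_mem_V (D : ChevalleyDatum) (hB : H8Base.{u} D) (r : ℕ) (hr : D.IsNegRoot r) (t : F) :
    h8xU D hB r t ∈ D.negUnipotent F := by
  unfold ChevalleyDatum.negUnipotent
  apply Subgroup.subset_closure
  exact ⟨r, t, hr, h8xU_val D hB r t⟩

theorem h8xU_mem_rootSubgroup (D : ChevalleyDatum) (hB : H8Base.{u} D) (r : ℕ) (t : F) :
    h8xU D hB r t ∈ D.rootSubgroup F r := by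
  unfold ChevalleyDatum.rootSubgroup
  apply Subgroup.subset_closure
  exact ⟨t, h8xU_val D hB r t⟩

theorem h8Um_le_U (D : ChevalleyDatum) (n : GL D.Idx F) :
    Subgroup.closure (h8UmSet D F n) ≤ D.posUnipotent F := by
  unfold ChevalleyDatum.posUnipotent
  apply Subgroup.closure_mono
  rintro x ⟨r, t, hr, _, hx⟩
  exact ⟨r, t, hr, hx⟩

theorem h8Um_conj_mem_V (D : ChevalleyDatum) (hB : H8Base.{u} D) (n : GL D.Idx F)
    (x : GL D.Idx F) (hx : x ∈ Subgroup.closure (h8UmSet D F n)) :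
    n * x * n⁻¹ ∈ D.negUnipotent F := by
  induction hx using Subgroup.closure_induction with
  | mem y hy =>
    obtain ⟨r, t, hr, hle, hy⟩ := hy
    have hy' : y = h8xU D hB r t := Units.ext (by rw [hy, h8xU_val])
    apply hle
    rw [Subgroup.mem_map]
    exact ⟨y, by rw [hy']; exact h8xU_mem_rootSubgroup D hB r t, rfl⟩
  | one =>
    have : n * 1 * n⁻¹ = 1 := by group
    rw [this]
    exact Subgroup.one_mem _
  | mul a b _ _ ha hb =>
    have : n * (a * b) * n⁻¹ = (n * a * n⁻¹) * (n * b * n⁻¹) := by group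
    rw [this]
    exact Subgroup.mul_mem _ ha hb
  | inv a _ ha =>
    have : n * a⁻¹ * n⁻¹ = (n * a * n⁻¹)⁻¹ := by group
    rw [this]
    exact Subgroup.inv_mem _ ha

theorem h8normal_unique (D : ChevalleyDatum) (hB : H8Base.{u} D) (hA : H8ReflAll D)
    (hC : H8CommAll.{u} D) (hBN : H8BN D)
    (b b' n n' u u' : GL D.Idx F) (hb : b ∈ D.borelSubgroup F) (hb' : b' ∈ D.borelSubgroup F)
    (hn : n ∈ D.monomialSubgroup F) (hn' : n' ∈ D.monomialSubgroup F)
    (hu : u ∈ Subgroup.closure (h8UmSet D F n)) (hu' : u' ∈ Subgroup.closure (h8UmSet D F n'))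
    (e : b * n * u = b' * n' * u') :
    n⁻¹ * n' ∈ D.diagonalSubgroup F ∧ (n = n' → b = b' ∧ u = u') := by
  have huB := h8U_le_B D (h8Um_le_U D n hu)
  have hu'B := h8U_le_B D (h8Um_le_U D n' hu')
  constructor
  · apply h8cell_disjoint D hB hA hC hBN n n' hn hn'
    refine ⟨b⁻¹ * b', Subgroup.mul_mem _ (Subgroup.inv_mem _ hb) hb', u' * u⁻¹,
      Subgroup.mul_mem _ hu'B (Subgroup.inv_mem _ huB), ?_⟩
    have : n = b⁻¹ * (b * n * u) * u⁻¹ := by group
    rw [this, e]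
    group
  · intro hnn
    subst hnn
    have hy : u * u'⁻¹ ∈ Subgroup.closure (h8UmSet D F n) :=
      Subgroup.mul_mem _ hu (Subgroup.inv_mem _ hu')
    have hV := h8Um_conj_mem_V D hB n _ hy
    have hBm : n * (u * u'⁻¹) * n⁻¹ ∈ D.borelSubgroup F := by
      have : n * (u * u'⁻¹) * n⁻¹ = b⁻¹ * (b * n * u) * u'⁻¹ * n⁻¹ := by group
      rw [this, e]
      have : b⁻¹ * (b' * n * u') * u'⁻¹ * n⁻¹ = b⁻¹ * b' := by group
      rw [this]
      exact Subgroup.mul_mem _ (Subgroup.inv_mem _ hb) hb'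
    have hbot : n * (u * u'⁻¹) * n⁻¹ ∈ D.borelSubgroup F ⊓ D.negUnipotent F :=
      Subgroup.mem_inf.mpr ⟨hBm, hV⟩
    rw [h8_B_inf_V D hB hBN.negOK, Subgroup.mem_bot] at hbot
    have huu : u = u' := by
      have : u * u'⁻¹ = n⁻¹ * (n * (u * u'⁻¹) * n⁻¹) * n := by group
      rw [hbot] at this
      have h1 : u * u'⁻¹ = 1 := by rw [this]; group
      exact mul_inv_eq_one.mp h1
    refine ⟨?_, huu⟩
    subst huu
    have : b = (b * n * u) * u⁻¹ * n⁻¹ := by group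
    rw [this, e]
    group

theorem h8normal_exists (D : ChevalleyDatum) (hB : H8Base.{u} D) (hA : H8ReflAll D)
    (hC : H8CommAll.{u} D) (hBN : H8BN D) (hW : H8BN2 D) (hO : H8Ord D)
    (g : GL D.Idx F) (hg : g ∈ D.group F) :
    ∃ b ∈ D.borelSubgroup F, ∃ n ∈ D.monomialSubgroup F,
      ∃ u ∈ Subgroup.closure (h8UmSet D F n), g = b * n * u := by
  classical
  obtain ⟨dep, par, horb⟩ := hBN.orb
  obtain ⟨b1, hb1, n, hn, b2, hb2, rfl⟩ := h8bruhat D hB hA hC hBN hW g hg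
  have hmemB : b2 ∈ ((D.posUnipotent F ⊔ D.diagonalSubgroup F : Subgroup (GL D.Idx F)) :
      Set (GL D.Idx F)) := hb2
  rw [Subgroup.coe_mul_of_right_le_normalizer_left _ _ (h8_H_le_normalizer_U D hB)] at hmemB
  obtain ⟨u0, hu0, h, hh, rfl⟩ := hmemB
  have hHN : D.diagonalSubgroup F ≤ D.monomialSubgroup F := by
    unfold ChevalleyDatum.monomialSubgroup
    exact le_sup_left
  have hu1 : h⁻¹ * u0 * h⁻¹⁻¹ ∈ D.posUnipotent F :=
    (Subgroup.mem_normalizer_iff.mp (h8_H_le_normalizer_U D hB (Subgroup.inv_mem _ hh)) u0).mp hu0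
  have hn1 : n * h ∈ D.monomialSubgroup F := Subgroup.mul_mem _ hn (hHN hh)
  obtain ⟨σ, τ, a1, a2, a3, a4, a5, a6, a7⟩ := h8perm_N D hB hA dep par horb (n * h) hn1
  obtain ⟨t, ht⟩ := h8split_main D hB hC hO (fun r => decide (D.IsPosRoot (σ r))) _ hu1
  have hP := h8ordP_mem D hB (fun r => decide (D.IsPosRoot (σ r))) 0 t
  have hQ := h8ordQ_mem D hB (fun r => decide (D.IsPosRoot (σ r))) 0 t
  have hPU : ∀ x : GL D.Idx F, x ∈ Subgroup.closure
      {g : GL D.Idx F | ∃ (r : ℕ) (c : F), D.IsPosRoot r ∧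
        (fun r => decide (D.IsPosRoot (σ r))) r = true ∧ g = h8xU D hB r c} →
      (n * h) * x * (n * h)⁻¹ ∈ D.posUnipotent F := by
    intro x hx
    induction hx using Subgroup.closure_induction with
    | mem y hy =>
      obtain ⟨r, c, hr, hPr, rfl⟩ := hy
      obtain ⟨c', _, hact⟩ := a7 r hr.1
      rw [hact]
      exact h8xU_mem_U D hB _ (by simpa using hPr) _
    | one =>
      have : n * h * 1 * (n * h)⁻¹ = 1 := by group
      rw [this]
      exact Subgroup.one_mem _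
    | mul a b _ _ ha hb =>
      have : n * h * (a * b) * (n * h)⁻¹ = (n * h * a * (n * h)⁻¹) * (n * h * b * (n * h)⁻¹) := by
        group
      rw [this]
      exact Subgroup.mul_mem _ ha hb
    | inv a _ ha =>
      have : n * h * a⁻¹ * (n * h)⁻¹ = (n * h * a * (n * h)⁻¹)⁻¹ := by group
      rw [this]
      exact Subgroup.inv_mem _ ha
  have hQU : Subgroup.closure
      {g : GL D.Idx F | ∃ (r : ℕ) (c : F), D.IsPosRoot r ∧
        (fun r => decide (D.IsPosRoot (σ r))) r = false ∧ g = h8xU D hB r c} ≤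
      Subgroup.closure (h8UmSet D F (n * h)) := by
    apply Subgroup.closure_mono
    rintro y ⟨r, c, hr, hPr, rfl⟩
    refine ⟨r, c, hr, ?_, h8xU_val D hB r c⟩
    have hneg : D.IsNegRoot (σ r) := by
      rcases hB.posneg (σ r) (a1 r hr.1) with hp | hn
      · simp [hp] at hPr
      · exact hn
    intro z hz
    rw [Subgroup.mem_map] at hz
    obtain ⟨y, hy, rfl⟩ := hz
    obtain ⟨s, rfl⟩ := h8rootSubgroup_mem D hB r hr.1 y hy
    obtain ⟨c', _, hact⟩ := a7 r hr.1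
    show (n * h) * h8xU D hB r s * (n * h)⁻¹ ∈ D.negUnipotent F
    rw [hact]
    exact h8xU_mem_V D hB _ hneg _
  refine ⟨b1 * ((n * h) * h8wordU D hB (h8ordP D _ 0 t) * (n * h)⁻¹),
    Subgroup.mul_mem _ hb1 (h8U_le_B D (hPU _ hP)), n * h, hn1,
    h8wordU D hB (h8ordQ D _ 0 t), hQU hQ, ?_⟩
  show b1 * n * (u0 * h) = _
  have e : u0 * h = h * (h⁻¹ * u0 * h⁻¹⁻¹) := by group
  rw [e, ht]
  group

end Cfsg.Agent.Lib.helper8
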