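import Mathlib
import Cfsg.Prelude.Def_ChevStructure
import Cfsg.Agent.Lib.helper8.ChevGroup

set_option autoImplicit false

namespace Cfsg.Agent.Lib.helper8

open Cfsg.Lie Cfsg.Lie.ChevalleyDatum

universe u

variable {F : Type u} [Field F]

theorem h8_H_comm (D : ChevalleyDatum) (hB : H8Base.{u} D) (a b : GL D.Idx F)
    (ha : a ∈ D.diagonalSubgroup F) (hb : b ∈ D.diagonalSubgroup F) : a * b = b * a := by
  obtain ⟨d1, h1⟩ := h8_diag_of_mem_H D hB a ha
  obtain ⟨d2, h2⟩ := h8_diag_of_mem_H D hB b hb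
  apply Units.ext
  rw [Units.val_mul, Units.val_mul, h1, h2, Matrix.diagonal_mul_diagonal,
    Matrix.diagonal_mul_diagonal]
  congr 1
  funext i
  exact mul_comm _ _

theorem h8_B_solvable (D : ChevalleyDatum) (hB : H8Base.{u} D) :
    Group.IsSolvable ↥(D.borelSubgroup F) := by
  have hUB : D.posUnipotent F ≤ D.borelSubgroup F := le_sup_left
  have hHB : D.diagonalSubgroup F ≤ D.borelSubgroup F := le_sup_right
  have hBN : D.borelSubgroup F ≤ Subgroup.normalizer (D.posUnipotent F : Set (GL D.Idx F)) :=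
    sup_le Subgroup.le_normalizer (h8_H_le_normalizer_U D hB)
  have hnorm : ((D.posUnipotent F).subgroupOf (D.borelSubgroup F)).Normal :=
    Subgroup.normal_subgroupOf_of_le_normalizer hBN
  rw [Group.isSolvable_iff_subgroup_quotient ((D.posUnipotent F).subgroupOf (D.borelSubgroup F))]
  constructor
  · have : Group.IsNilpotent (D.posUnipotent F) :=
      h8_isNilpotent_of_unitri (h8rho D) (D.rank + D.nroots) (h8rho_lt D) (D.posUnipotent F)
        (fun g hg => h8_posUnipotent_unitri D hB.posOK g hg)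
    exact Group.isSolvable_of_isSolvable_injective
      (f := (Subgroup.subgroupOfEquivOfLe hUB).toMonoidHom) (Subgroup.subgroupOfEquivOfLe hUB).injective
  · apply Group.isSolvable_of_comm
    have key : ∀ x : ↥(D.borelSubgroup F), ∃ h : ↥(D.borelSubgroup F),
        (h : GL D.Idx F) ∈ D.diagonalSubgroup F ∧
        (QuotientGroup.mk x : ↥(D.borelSubgroup F) ⧸ (D.posUnipotent F).subgroupOf (D.borelSubgroup F)) =
          QuotientGroup.mk h := by
      intro x
      have hx : (x : GL D.Idx F) ∈ ((D.posUnipotent F ⊔ D.diagonalSubgroup F :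
          Subgroup (GL D.Idx F)) : Set (GL D.Idx F)) := x.2
      rw [Subgroup.coe_mul_of_right_le_normalizer_left _ _ (h8_H_le_normalizer_U D hB)] at hx
      obtain ⟨u1, hu1, h1, hh1, hxe⟩ := hx
      refine ⟨⟨h1, hHB hh1⟩, hh1, ?_⟩
      rw [QuotientGroup.eq]
      rw [Subgroup.mem_subgroupOf]
      have : ((x⁻¹ * ⟨h1, hHB hh1⟩ : ↥(D.borelSubgroup F)) : GL D.Idx F) = (x : GL D.Idx F)⁻¹ * h1 := rfl
      rw [this, ← hxe]
      have : (u1 * h1)⁻¹ * h1 = h1⁻¹ * u1⁻¹ * h1 := by group
      show ((fun x1 x2 => x1 * x2) u1 h1)⁻¹ * h1 ∈ D.posUnipotent F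
      show (u1 * h1)⁻¹ * h1 ∈ D.posUnipotent F
      rw [this]
      have hn := h8_H_le_normalizer_U D hB (Subgroup.inv_mem _ hh1)
      rw [Subgroup.mem_normalizer_iff] at hn
      have := (hn u1⁻¹).mp (Subgroup.inv_mem _ hu1)
      rwa [inv_inv] at this
    intro a b
    induction a using QuotientGroup.induction_on with
    | H x =>
      induction b using QuotientGroup.induction_on with
      | H y =>
        obtain ⟨h1, hh1, e1⟩ := key x
        obtain ⟨h2, hh2, e2⟩ := key y
        rw [e1, e2, ← QuotientGroup.mk_mul, ← QuotientGroup.mk_mul]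
        congr 1
        apply Subtype.ext
        exact h8_H_comm D hB (h1 : GL D.Idx F) (h2 : GL D.Idx F) hh1 hh2

end Cfsg.Agent.Lib.helper8
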