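import Mathlib
import Cfsg.Prelude.Def_ChevStructure
import Cfsg.Agent.Lib.helper8.ChevBr3
import Cfsg.Agent.Lib.helper8.ChevSolv

set_option autoImplicit false

namespace Cfsg.Agent.Lib.helper8

open Cfsg.Lie Cfsg.Lie.ChevalleyDatum

universe u

variable {F : Type u} [Field F]

theorem h8UmSet_mono_H (D : ChevalleyDatum) (hB : H8Base.{u} D) (n t h : GL D.Idx F)
    (ht : t ∈ D.diagonalSubgroup F) (hh : h ∈ D.diagonalSubgroup F) :
    h8UmSet D F n ⊆ h8UmSet D F (t * n * h) := by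
  rintro x ⟨r, c, hr, hle, hx⟩
  refine ⟨r, c, hr, ?_, hx⟩
  intro z hz
  rw [Subgroup.mem_map] at hz
  obtain ⟨y, hy, rfl⟩ := hz
  obtain ⟨s, rfl⟩ := h8rootSubgroup_mem D hB r hr.1 y hy
  obtain ⟨c', _, hact⟩ := h8perm_H_id D hB h hh r hr.1
  show (t * n * h) * h8xU D hB r s * (t * n * h)⁻¹ ∈ D.negUnipotent F
  have e : (t * n * h) * h8xU D hB r s * (t * n * h)⁻¹ =
      t * (n * (h * h8xU D hB r s * h⁻¹) * n⁻¹) * t⁻¹ := by group
  rw [e, hact]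
  have h1 : n * h8xU D hB r (c' * s) * n⁻¹ ∈ D.negUnipotent F := by
    apply hle
    rw [Subgroup.mem_map]
    exact ⟨_, h8xU_mem_rootSubgroup D hB r _, rfl⟩
  exact (Subgroup.mem_normalizer_iff.mp (h8_H_le_normalizer_V D hB ht) _).mp h1

theorem h8Um_conj_H (D : ChevalleyDatum) (hB : H8Base.{u} D) (n h : GL D.Idx F)
    (hh : h ∈ D.diagonalSubgroup F) (x : GL D.Idx F)
    (hx : x ∈ Subgroup.closure (h8UmSet D F n)) :
    h * x * h⁻¹ ∈ Subgroup.closure (h8UmSet D F n) := by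
  induction hx using Subgroup.closure_induction with
  | mem y hy =>
    obtain ⟨r, c, hr, hle, hy⟩ := hy
    have hy' : y = h8xU D hB r c := Units.ext (by rw [hy, h8xU_val])
    obtain ⟨c', _, hact⟩ := h8perm_H_id D hB h hh r hr.1
    rw [hy', hact]
    apply Subgroup.subset_closure
    exact ⟨r, _, hr, hle, h8xU_val D hB r _⟩
  | one =>
    have : h * 1 * h⁻¹ = 1 := by group
    rw [this]
    exact Subgroup.one_mem _
  | mul a b _ _ ha hb =>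
    have : h * (a * b) * h⁻¹ = (h * a * h⁻¹) * (h * b * h⁻¹) := by group
    rw [this]
    exact Subgroup.mul_mem _ ha hb
  | inv a _ ha =>
    have : h * a⁻¹ * h⁻¹ = (h * a * h⁻¹)⁻¹ := by group
    rw [this]
    exact Subgroup.inv_mem _ ha

theorem h8normal_unique_strong (D : ChevalleyDatum) (hB : H8Base.{u} D) (hA : H8ReflAll D)
    (hC : H8CommAll.{u} D) (hBN : H8BN D)
    (u1 u1' n n' u u' : GL D.Idx F) (hu1 : u1 ∈ D.posUnipotent F) (hu1' : u1' ∈ D.posUnipotent F)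
    (hn : n ∈ D.monomialSubgroup F) (hn' : n' ∈ D.monomialSubgroup F)
    (hu : u ∈ Subgroup.closure (h8UmSet D F n)) (hu' : u' ∈ Subgroup.closure (h8UmSet D F n'))
    (e : u1 * n * u = u1' * n' * u') : n = n' ∧ u1 = u1' ∧ u = u' := by
  obtain ⟨dep, par, horb⟩ := hBN.orb
  have hnorm := h8N_le_normalizer_H (F := F) D hB hA dep par horb
  obtain ⟨hH, _⟩ := h8normal_unique D hB hA hC hBN u1 u1' n n' u u' (h8U_le_B D hu1)
    (h8U_le_B D hu1') hn hn' hu hu' e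
  have hu'' : u' ∈ Subgroup.closure (h8UmSet D F n) := by
    have hsub := h8UmSet_mono_H D hB n' 1 (n⁻¹ * n')⁻¹ (Subgroup.one_mem _)
      (Subgroup.inv_mem _ hH)
    have e1 : 1 * n' * (n⁻¹ * n')⁻¹ = n := by group
    rw [e1] at hsub
    exact Subgroup.closure_mono hsub hu'
  have hconj : n * (n⁻¹ * n') * n⁻¹ ∈ D.diagonalSubgroup F :=
    (Subgroup.mem_normalizer_iff.mp (hnorm hn) _).mp hH
  have e2 : u1 * n * u = (u1' * (n * (n⁻¹ * n') * n⁻¹)) * n * u' := by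
    rw [e]; group
  obtain ⟨_, h2⟩ := h8normal_unique D hB hA hC hBN u1 (u1' * (n * (n⁻¹ * n') * n⁻¹)) n n u u'
    (h8U_le_B D hu1) (Subgroup.mul_mem _ (h8U_le_B D hu1') (h8H_le_B D hconj)) hn hn hu hu'' e2
  obtain ⟨h3, h4⟩ := h2 rfl
  have h5 : n * (n⁻¹ * n') * n⁻¹ ∈ D.posUnipotent F ⊓ D.diagonalSubgroup F := by
    rw [Subgroup.mem_inf]
    refine ⟨?_, hconj⟩
    have : n * (n⁻¹ * n') * n⁻¹ = u1'⁻¹ * u1 := by rw [h3]; group
    rw [this]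
    exact Subgroup.mul_mem _ (Subgroup.inv_mem _ hu1') hu1
  rw [h8_U_inf_H D hB, Subgroup.mem_bot] at h5
  have h6 : n = n' := by
    have : n' = (n * (n⁻¹ * n') * n⁻¹) * n := by group
    rw [this, h5, one_mul]
  refine ⟨h6, ?_, h4⟩
  rw [h3, h5, mul_one]

theorem h8H_conj (D : ChevalleyDatum) (hB : H8Base.{u} D) (hA : H8ReflAll D)
    (hC : H8CommAll.{u} D) (hBN : H8BN D) (hW : H8BN2 D) (hO : H8Ord D)
    (h₁ h₂ g : GL D.Idx F) (h1 : h₁ ∈ D.diagonalSubgroup F) (h2 : h₂ ∈ D.diagonalSubgroup F)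
    (hg : g ∈ D.group F) (hc : g * h₁ * g⁻¹ = h₂) :
    ∃ n ∈ D.monomialSubgroup F, n * h₁ * n⁻¹ = h₂ := by
  have hHN : D.diagonalSubgroup F ≤ D.monomialSubgroup F := by
    unfold ChevalleyDatum.monomialSubgroup
    exact le_sup_left
  obtain ⟨b, hb, n, hn, u, hu, rfl⟩ := h8normal_exists D hB hA hC hBN hW hO g hg
  have hmemB : b ∈ ((D.posUnipotent F ⊔ D.diagonalSubgroup F : Subgroup (GL D.Idx F)) :
      Set (GL D.Idx F)) := hb
  rw [Subgroup.coe_mul_of_right_le_normalizer_left _ _ (h8_H_le_normalizer_U D hB)] at hmemB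
  obtain ⟨u1, hu1, t, ht, rfl⟩ := hmemB
  have hc' : (u1 * t) * n * u * h₁ = h₂ * ((u1 * t) * n * u) := by
    rw [← hc]; group
  have eL : (u1 * t) * n * u * h₁ = u1 * (t * n * h₁) * (h₁⁻¹ * u * h₁⁻¹⁻¹) := by group
  have eR : h₂ * ((u1 * t) * n * u) = (h₂ * u1 * h₂⁻¹) * ((h₂ * t) * n * 1) * u := by group
  rw [eL, eR] at hc'
  have huL : h₁⁻¹ * u * h₁⁻¹⁻¹ ∈ Subgroup.closure (h8UmSet D F (t * n * h₁)) :=
    Subgroup.closure_mono (h8UmSet_mono_H D hB n t h₁ ht h1)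
      (h8Um_conj_H D hB n h₁⁻¹ (Subgroup.inv_mem _ h1) u hu)
  have huR : u ∈ Subgroup.closure (h8UmSet D F ((h₂ * t) * n * 1)) :=
    Subgroup.closure_mono (h8UmSet_mono_H D hB n (h₂ * t) 1 (Subgroup.mul_mem _ h2 ht)
      (Subgroup.one_mem _)) hu
  have hu1R : h₂ * u1 * h₂⁻¹ ∈ D.posUnipotent F :=
    (Subgroup.mem_normalizer_iff.mp (h8_H_le_normalizer_U D hB h2) u1).mp hu1
  obtain ⟨hnn, _, _⟩ := h8normal_unique_strong D hB hA hC hBN u1 (h₂ * u1 * h₂⁻¹)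
    (t * n * h₁) ((h₂ * t) * n * 1) _ u hu1 hu1R
    (Subgroup.mul_mem _ (Subgroup.mul_mem _ (hHN ht) hn) (hHN h1))
    (Subgroup.mul_mem _ (Subgroup.mul_mem _ (Subgroup.mul_mem _ (hHN h2) (hHN ht)) hn)
      (Subgroup.one_mem _)) huL huR hc'
  refine ⟨t * n, Subgroup.mul_mem _ (hHN ht) hn, ?_⟩
  have : t * n * h₁ * (t * n)⁻¹ = (t * n * h₁) * n⁻¹ * t⁻¹ := by group
  rw [this, hnn]
  have hcomm : h₂ * t = t * h₂ := h8_H_comm D hB h₂ t h2 ht
  have : h₂ * t * n * 1 * n⁻¹ * t⁻¹ = h₂ * t * t⁻¹ := by group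
  rw [this]
  group

end Cfsg.Agent.Lib.helper8
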