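import Mathlib
import Cfsg.Prelude.Def_ChevStructure
import Cfsg.Agent.Lib.helper8.ChevUnits
import Cfsg.Agent.Lib.helper8.ChevOrd

set_option autoImplicit false

namespace Cfsg.Agent.Lib.helper8

open Cfsg.Lie Cfsg.Lie.ChevalleyDatum

universe u v

variable {K : Type v} [Field K] {F : Type u} [Field F]

theorem h8sum_map' (f : K →+* F) (t : K) (l : List (ℕ × ℤ)) :
    f ((l.map fun km => ((km.2 : ℤ) : K) * t ^ km.1).sum) =
      (l.map fun km => ((km.2 : ℤ) : F) * (f t) ^ km.1).sum := by
  rw [map_list_sum, List.map_map]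
  congr 1
  apply List.map_congr_left
  intro km _
  simp only [Function.comp_apply, map_mul, map_intCast, map_pow]

theorem h8xMat_map (D : ChevalleyDatum) (f : K →+* F) (r : Fin D.nroots) (t : K) :
    (D.xMat K r t).map f = D.xMat F r (f t) := by
  ext row col
  unfold ChevalleyDatum.xMat
  rw [Matrix.map_apply, Matrix.of_apply, Matrix.of_apply]
  rcases col with i | s
  · rcases row with i' | u
    · dsimp only
      split_ifs <;> simp only [map_zero, map_one]
    · dsimp only
      split_ifs <;> simp only [map_zero, map_one, map_neg, map_mul, map_intCast]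
  · rcases row with i' | u
    · dsimp only
      split_ifs <;> simp only [map_zero, map_one, map_neg, map_mul, map_intCast]
    · dsimp only
      split_ifs <;>
        simp only [map_zero, map_one, map_neg, map_mul, map_intCast, map_pow, map_add,
          add_zero, zero_add, h8sum_map']

theorem h8x_map (D : ChevalleyDatum) (f : K →+* F) (r : ℕ) (t : K) :
    (D.x K r t).map f = D.x F r (f t) := by
  unfold ChevalleyDatum.x
  by_cases h : r < D.nroots
  · rw [dif_pos h, dif_pos h, h8xMat_map]
  · rw [dif_neg h, dif_neg h]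
    ext i j
    rw [Matrix.map_apply, Matrix.one_apply, Matrix.one_apply]
    by_cases hij : i = j <;> simp [hij]

noncomputable def h8Psi (D : ChevalleyDatum) (f : K →+* F) : GL D.Idx K →* GL D.Idx F :=
  Matrix.GeneralLinearGroup.map f

theorem h8Psi_val (D : ChevalleyDatum) (f : K →+* F) (g : GL D.Idx K) :
    ((h8Psi D f g : GL D.Idx F) : Matrix D.Idx D.Idx F) = (g : Matrix D.Idx D.Idx K).map f := rfl

theorem h8Psi_injective (D : ChevalleyDatum) (f : K →+* F) : Function.Injective (h8Psi D f) := by
  intro a b hab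
  apply Units.ext
  have h := congrArg (fun g : GL D.Idx F => (g : Matrix D.Idx D.Idx F)) hab
  simp only [h8Psi_val] at h
  ext i j
  have h2 := congrFun (congrFun h i) j
  rw [Matrix.map_apply, Matrix.map_apply] at h2
  exact f.injective h2

theorem h8Psi_xU (D : ChevalleyDatum) (hBK : H8Base.{v} D) (hBF : H8Base.{u} D) (f : K →+* F)
    (r : ℕ) (t : K) : h8Psi D f (h8xU D hBK r t) = h8xU D hBF r (f t) := by
  apply Units.ext
  rw [h8Psi_val, h8xU_val, h8xU_val, h8x_map]

theorem h8Psi_wordU (D : ChevalleyDatum) (hBK : H8Base.{v} D) (hBF : H8Base.{u} D) (f : K →+* F)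
    (w : List (ℕ × K)) :
    h8Psi D f (h8wordU D hBK w) = h8wordU D hBF (w.map fun p => (p.1, f p.2)) := by
  induction w with
  | nil =>
    show h8Psi D f 1 = 1
    exact map_one _
  | cons p w ih =>
    rw [h8wordU_cons, map_mul, ih, h8Psi_xU D hBK hBF, List.map_cons, h8wordU_cons]

theorem h8Psi_nU (D : ChevalleyDatum) (hBK : H8Base.{v} D) (hBF : H8Base.{u} D) (f : K →+* F)
    (r : ℕ) (t : K) : h8Psi D f (h8nU D hBK r t) = h8nU D hBF r (f t) := by
  unfold h8nU
  rw [h8Psi_wordU D hBK hBF]
  congr 1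
  unfold ChevalleyDatum.nWord
  simp only [List.map_cons, List.map_nil, map_neg, map_inv₀]

theorem h8Psi_hU (D : ChevalleyDatum) (hBK : H8Base.{v} D) (hBF : H8Base.{u} D) (f : K →+* F)
    (r : ℕ) (t : K) : h8Psi D f (h8hU D hBK r t) = h8hU D hBF r (f t) := by
  unfold h8hU
  rw [h8Psi_wordU D hBK hBF]
  congr 1
  unfold ChevalleyDatum.hWord ChevalleyDatum.nWord
  simp only [List.map_cons, List.map_nil, List.map_append, map_neg, map_inv₀, map_one]

theorem h8Psi_group_le (D : ChevalleyDatum) (hBK : H8Base.{v} D) (hBF : H8Base.{u} D)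
    (f : K →+* F) : (D.group K).map (h8Psi D f) ≤ D.group F := by
  unfold ChevalleyDatum.group
  rw [MonoidHom.map_closure, Subgroup.closure_le]
  rintro g ⟨g', ⟨r, t, hg'⟩, rfl⟩
  apply Subgroup.subset_closure
  refine ⟨r, f t, ?_⟩
  rw [h8Psi_val, hg', h8xMat_map]

end Cfsg.Agent.Lib.helper8
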