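import Mathlib

set_option autoImplicit false

namespace Cfsg.Agent.Lib.helper8

section pw

variable {G : Type*} [CommGroup G] {ι κ μ : Type*} [Fintype ι] [Fintype κ]

def h8pw (b : ι → G) (M : ι → κ → ℤ) : κ → G := fun j => ∏ k, b k ^ M k j

theorem h8zpow_sum_fin (a : G) (s : Finset κ) (e : κ → ℤ) :
    a ^ (∑ k ∈ s, e k) = ∏ k ∈ s, a ^ e k := by
  classical
  induction s using Finset.induction_on with
  | empty => simp
  | insert x s hx ih => rw [Finset.sum_insert hx, Finset.prod_insert hx, zpow_add, ih]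

theorem h8pw_pw (b : ι → G) (M : ι → κ → ℤ) (N : κ → μ → ℤ) :
    h8pw (h8pw b M) N = h8pw b (fun i m => ∑ j, M i j * N j m) := by
  funext m
  unfold h8pw
  simp only
  have h1 : ∀ j, (∏ k, b k ^ M k j) ^ N j m = ∏ k, b k ^ (M k j * N j m) := by
    intro j
    rw [← Finset.prod_zpow]
    apply Finset.prod_congr rfl
    intro k _
    rw [zpow_mul]
  simp only [h1]
  rw [Finset.prod_comm]
  apply Finset.prod_congr rfl
  intro k _
  rw [h8zpow_sum_fin]

theorem h8pw_one (M : ι → κ → ℤ) : h8pw (fun _ => (1 : G)) M = fun _ => 1 := by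
  funext j
  unfold h8pw
  simp

theorem h8pw_id [DecidableEq ι] (b : ι → G) :
    h8pw b (fun i j => if i = j then (1 : ℤ) else 0) = b := by
  funext j
  unfold h8pw
  rw [Finset.prod_eq_single j]
  · simp
  · intro k _ hkj
    simp [hkj]
  · intro h
    exact absurd (Finset.mem_univ j) h

end pw

end Cfsg.Agent.Lib.helper8
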