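import Mathlib
import Cfsg.Agent.Lib.helper8.ChevH1

set_option autoImplicit false

namespace Cfsg.Agent.Lib.helper8

theorem h8card_torsion (G : Type*) [CommGroup G] [IsCyclic G] [Finite G] (s : ℕ) :
    Nat.card {z : G // z ^ s = 1} = Nat.gcd (Nat.card G) s := by
  rw [← IsCyclic.card_powMonoidHom_ker G s]
  apply Nat.card_congr
  apply Equiv.subtypeEquivRight
  intro z
  rw [MonoidHom.mem_ker, powMonoidHom_apply]

theorem h8ker_card {G : Type*} [CommGroup G] [IsCyclic G] [Finite G] {l : ℕ} {κ : Type*}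
    [Fintype κ] (C : Fin l → κ → ℤ) (simple : Fin l → κ) (P Pinv Q : Fin l → Fin l → ℤ)
    (s : Fin l → ℕ)
    (hC1 : ∀ i j, ∑ k, Pinv i k * P k j = if i = j then 1 else 0)
    (hC1' : ∀ i j, ∑ k, P i k * Pinv k j = if i = j then 1 else 0)
    (hC2 : ∀ i k, ∑ m, C i (simple m) * Q m k = Pinv i k * (s k : ℤ))
    (hC3 : ∀ k v, ((s k : ℕ) : ℤ) ∣ ∑ j, P k j * C j v) :
    Nat.card {c : Fin l → G // h8pw c C = fun _ => 1} = ∏ k, Nat.gcd (Nat.card G) (s k) := by
  classical
  have hP1 : (fun i j => ∑ k, Pinv i k * P k j) = fun i j : Fin l => if i = j then (1 : ℤ) else 0 := by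
    funext i j; exact hC1 i j
  have hP2 : (fun i j => ∑ k, P i k * Pinv k j) = fun i j : Fin l => if i = j then (1 : ℤ) else 0 := by
    funext i j; exact hC1' i j
  have hfwd : ∀ b : Fin l → G, (∀ k, b k ^ s k = 1) → h8pw (h8pw b P) C = fun _ => 1 := by
    intro b hb
    rw [h8pw_pw]
    funext v
    unfold h8pw
    apply Finset.prod_eq_one
    intro k _
    obtain ⟨t, ht⟩ := hC3 k v
    show b k ^ (∑ j, P k j * C j v) = 1
    rw [ht, zpow_mul, zpow_natCast, hb k, one_zpow]
  have hbwd : ∀ c : Fin l → G, h8pw c C = (fun _ => 1) → ∀ k, (h8pw c Pinv k) ^ s k = 1 := by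
    intro c hc k
    have h1 : h8pw (h8pw c (fun i m => C i (simple m))) Q = fun _ => 1 := by
      have : h8pw c (fun i m => C i (simple m)) = fun _ => 1 := by
        funext m
        have := congrFun hc (simple m)
        exact this
      rw [this, h8pw_one]
    rw [h8pw_pw] at h1
    have h2 := congrFun h1 k
    unfold h8pw at h2 ⊢
    simp only at h2
    rw [← zpow_natCast, ← Finset.prod_zpow]
    rw [← h2]
    apply Finset.prod_congr rfl
    intro i _
    rw [← zpow_mul, hC2 i k]
  have e1 : {c : Fin l → G // h8pw c C = fun _ => 1} ≃ {b : Fin l → G // ∀ k, b k ^ s k = 1} :=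
    { toFun := fun c => ⟨h8pw c.val Pinv, hbwd c.val c.2⟩
      invFun := fun b => ⟨h8pw b.val P, hfwd b.val b.2⟩
      left_inv := by
        intro c
        apply Subtype.ext
        simp only
        rw [h8pw_pw, hP1, h8pw_id]
      right_inv := by
        intro b
        apply Subtype.ext
        simp only
        rw [h8pw_pw, hP2, h8pw_id] }
  rw [Nat.card_congr e1, Nat.card_congr (Equiv.subtypePiEquivPi (p := fun k (z : G) => z ^ s k = 1)),
    Nat.card_pi]
  apply Finset.prod_congr rfl
  intro k _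
  exact h8card_torsion G (s k)

end Cfsg.Agent.Lib.helper8
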