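import Mathlib
import Cfsg.Prelude.Def_ChevStructure
import Cfsg.Agent.Lib.helper8.ChevH2
import Cfsg.Agent.Lib.helper8.ChevHProd
import Cfsg.Agent.Lib.helper8.ChevUnits
import Cfsg.Agent.Lib.helper8.ChevBN2

set_option autoImplicit false

namespace Cfsg.Agent.Lib.helper8

open Cfsg.Lie Cfsg.Lie.ChevalleyDatum

universe u

variable {F : Type u} [Field F]

def h8PhiHom (D : ChevalleyDatum) : (Fin D.rank → Fˣ) →* (D.Idx → Fˣ) where
  toFun c := Sum.elim (fun _ => 1)
    (fun v : Fin D.nroots => ∏ i : Fin D.rank, c i ^ (D.cartan i.val v.val))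
  map_one' := by
    funext x
    rcases x with k | v
    · rfl
    · simp
  map_mul' c c' := by
    funext x
    rcases x with k | v
    · simp
    · simp only [Sum.elim_inr, Pi.mul_apply, mul_zpow, Finset.prod_mul_distrib]

noncomputable def h8Theta (D : ChevalleyDatum) : (Fin D.rank → Fˣ) →* GL D.Idx F :=
  (Units.map (Matrix.diagonalRingHom D.Idx F).toMonoidHom).comp
    ((MulEquiv.piUnits (M := fun _ : D.Idx => F)).symm.toMonoidHom.comp (h8PhiHom D))

theorem h8Theta_val (D : ChevalleyDatum) (c : Fin D.rank → Fˣ) :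
    ((h8Theta D c : GL D.Idx F) : Matrix D.Idx D.Idx F) =
      Matrix.diagonal (fun x => ((h8PhiHom D c x : Fˣ) : F)) := rfl

noncomputable def h8ext (D : ChevalleyDatum) (c : Fin D.rank → Fˣ) (i : ℕ) : F :=
  if h : i < D.rank then ((c ⟨i, h⟩ : Fˣ) : F) else 1

theorem h8Theta_eq_Phi (D : ChevalleyDatum) (c : Fin D.rank → Fˣ) :
    ((h8Theta D c : GL D.Idx F) : Matrix D.Idx D.Idx F) =
      Matrix.diagonal (h8Phi D D.rank (h8ext D c)) := by
  rw [h8Theta_val]
  congr 1
  funext x
  rcases x with k | v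
  · simp [h8PhiHom, h8Phi]
  · simp only [h8PhiHom, h8Phi, MonoidHom.coe_mk, OneHom.coe_mk, Sum.elim_inr]
    rw [Units.coe_prod, ← Fin.prod_univ_eq_prod_range (fun i => h8ext D c i ^ D.cartan i v.val)]
    apply Finset.prod_congr rfl
    intro i _
    rw [Units.val_zpow_eq_zpow_val]
    unfold h8ext
    rw [dif_pos i.2]

theorem h8flat_mem_H (D : ChevalleyDatum) (hB : H8Base.{u} D) (hsc : h8scChk D = true)
    (c : ℕ → F) (hc : ∀ i < D.rank, c i ≠ 0) (n : ℕ) (hn : n ≤ D.rank) :
    h8wordU D hB ((List.range n).flatMap fun i => D.hWord (D.simple i) (c i)) ∈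
      D.diagonalSubgroup F := by
  induction n with
  | zero =>
    rw [List.range_zero, List.flatMap_nil]
    exact Subgroup.one_mem _
  | succ n ih =>
    rw [List.range_succ, List.flatMap_append, h8wordU_append]
    apply Subgroup.mul_mem _ (ih (by omega))
    rw [List.flatMap_cons, List.flatMap_nil, List.append_nil]
    exact h8hU_mem_H D hB _ (h8scChk_spec D hsc n (by omega)).1 _ (hc n (by omega))

theorem h8Theta_mem_H (D : ChevalleyDatum) (hB : H8Base.{u} D) (hsc : h8scChk D = true)
    (c : Fin D.rank → Fˣ) : (h8Theta D c : GL D.Idx F) ∈ D.diagonalSubgroup F := by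
  have hc : ∀ i < D.rank, h8ext D c i ≠ 0 := by
    intro i hi
    unfold h8ext
    rw [dif_pos hi]
    exact Units.ne_zero _
  have := h8flat_mem_H D hB hsc (h8ext D c) hc D.rank le_rfl
  have e : (h8Theta D c : GL D.Idx F) =
      h8wordU D hB ((List.range D.rank).flatMap fun i => D.hWord (D.simple i) (h8ext D c i)) := by
    apply Units.ext
    rw [h8Theta_eq_Phi, h8wordU_val, h8wordMat_flatMap_range D hB hsc _ hc D.rank le_rfl]
  rw [e]
  exact this

theorem h8Theta_range (D : ChevalleyDatum) (hB : H8Base.{u} D) (hsc : h8scChk D = true) :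
    (h8Theta (F := F) D).range = D.diagonalSubgroup F := by
  apply le_antisymm
  · rintro g ⟨c, rfl⟩
    exact h8Theta_mem_H D hB hsc c
  · intro g hg
    obtain ⟨c, hc, h⟩ := h8_H_eq_Phi D hB g hg
    refine ⟨fun i => Units.mk0 (c i.val) (hc i.val), ?_⟩
    apply Units.ext
    rw [h8Theta_eq_Phi, h]
    congr 1
    funext x
    rcases x with k | v
    · rfl
    · simp only [h8Phi, Sum.elim_inr]
      apply Finset.prod_congr rfl
      intro i hi
      rw [Finset.mem_range] at hi
      unfold h8ext
      rw [dif_pos hi]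
      rfl

theorem h8Theta_ker (D : ChevalleyDatum) (c : Fin D.rank → Fˣ) :
    c ∈ (h8Theta (F := F) D).ker ↔
      h8pw c (fun (i : Fin D.rank) (v : Fin D.nroots) => D.cartan i.val v.val) = fun _ => 1 := by
  rw [MonoidHom.mem_ker]
  constructor
  · intro h
    funext v
    have h1 := congrArg (fun g : GL D.Idx F => (g : Matrix D.Idx D.Idx F) (Sum.inr v) (Sum.inr v)) h
    simp only [h8Theta_val, Matrix.diagonal_apply_eq, Units.val_one, Matrix.one_apply_eq] at h1
    apply Units.ext
    rw [Units.val_one, ← h1]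
    rfl
  · intro h
    apply Units.ext
    rw [h8Theta_val, Units.val_one, ← Matrix.diagonal_one]
    congr 1
    funext x
    rcases x with k | v
    · rfl
    · have := congrFun h v
      show ((∏ i : Fin D.rank, c i ^ (D.cartan i.val v.val) : Fˣ) : F) = 1
      unfold h8pw at this
      rw [this, Units.val_one]

theorem h8H_card_ker [Fintype F] (D : ChevalleyDatum) (hB : H8Base.{u} D)
    (hsc : h8scChk D = true) :
    Nat.card {c : Fin D.rank → Fˣ // h8pw c (fun (i : Fin D.rank) (v : Fin D.nroots) =>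
        D.cartan i.val v.val) = fun _ => 1} * Nat.card (D.diagonalSubgroup F) =
      (Fintype.card F - 1) ^ D.rank := by
  classical
  have h1 := Subgroup.card_mul_index (h8Theta (F := F) D).ker
  rw [Subgroup.index_ker, h8Theta_range D hB hsc, Nat.card_fun, Nat.card_units,
    Nat.card_eq_fintype_card (α := F), Nat.card_eq_fintype_card (α := Fin D.rank),
    Fintype.card_fin] at h1
  rw [← h1]
  congr 1
  apply Nat.card_congr
  apply Equiv.subtypeEquivRight
  intro c
  exact (h8Theta_ker D c).symm

end Cfsg.Agent.Lib.helper8
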