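import Mathlib
import Cfsg.Prelude.Def_ChevStructure
import Cfsg.Agent.Lib.helper8.ChevH3
import Cfsg.Agent.Lib.helper8.ChevCA
import Cfsg.Agent.Lib.helper8.ChevReflChk

set_option autoImplicit false

namespace Cfsg.Agent.Lib.helper8

open Cfsg.Lie Cfsg.Lie.ChevalleyDatum

universe u

variable {F : Type u} [Field F]

def h8ent (M : List (List ℤ)) (i j : ℕ) : ℤ := (M.getD i []).getD j 0

def h8lsum (l : ℕ) (f : ℕ → ℤ) : ℤ := ((List.range l).map f).sum

theorem h8sum_fin_list (l : ℕ) (f : ℕ → ℤ) : ∑ k : Fin l, f k.val = h8lsum l f := by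
  unfold h8lsum
  rw [Fin.sum_univ_eq_sum_range]
  induction l with
  | zero => simp
  | succ l ih =>
    rw [Finset.sum_range_succ, List.range_succ, List.map_append, List.sum_append, ih]
    simp

def h8smithChk (D : ChevalleyDatum) (Pl Pinvl Ql : List (List ℤ)) (sl : List ℕ) : Bool :=
  ((List.range D.rank).all fun i => (List.range D.rank).all fun j =>
    decide (h8lsum D.rank (fun k => h8ent Pinvl i k * h8ent Pl k j) = if i = j then 1 else 0) &&
    decide (h8lsum D.rank (fun k => h8ent Pl i k * h8ent Pinvl k j) = if i = j then 1 else 0) &&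
    decide (h8lsum D.rank (fun m => h8cf D i (D.simple m) * h8ent Ql m j) =
      h8ent Pinvl i j * ((sl.getD j 0 : ℕ) : ℤ)) &&
    decide (D.simple i < D.nroots)) &&
  ((List.range D.rank).all fun k => (List.range D.nroots).all fun v =>
    decide (h8lsum D.rank (fun j => h8ent Pl k j * h8cf D j v) % ((sl.getD k 0 : ℕ) : ℤ) = 0))

theorem h8H_card_of [Fintype F] (D : ChevalleyDatum) (hB : H8Base.{u} D)
    (hsc : h8scChk D = true) (hCA : h8CAchk D = true)
    (Pl Pinvl Ql : List (List ℤ)) (sl : List ℕ) (h : h8smithChk D Pl Pinvl Ql sl = true) :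
    (∏ k : Fin D.rank, Nat.gcd (Fintype.card F - 1) (sl.getD k.val 0)) *
      Nat.card (D.diagonalSubgroup F) = (Fintype.card F - 1) ^ D.rank := by
  classical
  unfold h8smithChk at h
  simp only [Bool.and_eq_true, List.all_eq_true, List.mem_range, decide_eq_true_eq] at h
  obtain ⟨hA, hC3⟩ := h
  have hcf : ∀ i < D.rank, ∀ s < D.nroots, h8cf D i s = D.cartan i s := by
    intro i hi s hs
    obtain ⟨h1, h2⟩ := h8CAchk_rows D hCA i hi
    exact h8cartan_fast D i h1 h2 s hs
  have hsimple : ∀ m : Fin D.rank, D.simple m.val < D.nroots := fun m => (hA m.val m.2 0 (by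
    have := m.2; omega)).2
  have hker := h8ker_card (G := Fˣ) (l := D.rank) (κ := Fin D.nroots)
    (fun i v => D.cartan i.val v.val) (fun m => ⟨D.simple m.val, hsimple m⟩)
    (fun i j => h8ent Pl i.val j.val) (fun i j => h8ent Pinvl i.val j.val)
    (fun i j => h8ent Ql i.val j.val) (fun k => sl.getD k.val 0)
    (by
      intro i j
      rw [h8sum_fin_list D.rank (fun k => h8ent Pinvl i.val k * h8ent Pl k j.val),
        (hA i.val i.2 j.val j.2).1.1.1]
      simp only [Fin.ext_iff])
    (by
      intro i j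
      rw [h8sum_fin_list D.rank (fun k => h8ent Pl i.val k * h8ent Pinvl k j.val),
        (hA i.val i.2 j.val j.2).1.1.2]
      simp only [Fin.ext_iff])
    (by
      intro i k
      have := (hA i.val i.2 k.val k.2).1.2
      rw [← this, ← h8sum_fin_list D.rank (fun m => h8cf D i.val (D.simple m) * h8ent Ql m k.val)]
      apply Finset.sum_congr rfl
      intro m _
      simp only
      rw [hcf i.val i.2 _ (hsimple m)])
    (by
      intro k v
      have := hC3 k.val k.2 v.val v.2
      rw [← h8sum_fin_list D.rank (fun j => h8ent Pl k.val j * h8cf D j v.val)] at this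
      have h2 : ∑ j : Fin D.rank, h8ent Pl k.val j.val * D.cartan j.val v.val =
          ∑ j : Fin D.rank, h8ent Pl k.val j.val * h8cf D j.val v.val := by
        apply Finset.sum_congr rfl
        intro j _
        rw [hcf j.val j.2 v.val v.2]
      rw [h2]
      exact Int.dvd_of_emod_eq_zero this)
  rw [Nat.card_units, Nat.card_eq_fintype_card (α := F)] at hker
  rw [← hker]
  exact h8H_card_ker D hB hsc

end Cfsg.Agent.Lib.helper8
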