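import Mathlib
import Cfsg.Prelude.Def_ChevStructure
import Cfsg.Agent.Lib.helper8.ChevFix1
import Cfsg.Agent.Lib.helper8.ChevBr4
import Cfsg.Agent.Lib.helper8.ChevH4
import Cfsg.Agent.Lib.helper8.ChevOrd4
import Cfsg.Agent.Lib.helper8.ChevTits2

set_option autoImplicit false

namespace Cfsg.Agent.Lib.helper8

open Cfsg.Lie Cfsg.Lie.ChevalleyDatum

universe u v

variable {K : Type v} [Field K] {F : Type u} [Field F]

def h8unimodChk (D : ChevalleyDatum) (B : List (List ℤ)) : Bool :=
  (List.range D.rank).all fun i => decide (D.simple i < D.nroots) &&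
    (List.range D.rank).all fun k =>
      decide (h8lsum D.rank (fun j => D.cartan i (D.simple j) * h8ent B j k) =
        if i = k then 1 else 0)

theorem h8Theta_injective (D : ChevalleyDatum) (B : List (List ℤ))
    (h : h8unimodChk D B = true) : Function.Injective (h8Theta (F := F) D) := by
  classical
  unfold h8unimodChk at h
  simp only [Bool.and_eq_true, List.all_eq_true, List.mem_range, decide_eq_true_eq] at h
  rw [injective_iff_map_eq_one]
  intro c hc
  have hk : c ∈ (h8Theta (F := F) D).ker := hc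
  rw [h8Theta_ker] at hk
  have h1 : h8pw c (fun (i j : Fin D.rank) => D.cartan i.val (D.simple j.val)) = fun _ => 1 := by
    funext j
    have := congrFun hk ⟨D.simple j.val, (h j.val j.2).1⟩
    exact this
  have h2 := congrArg (fun d => h8pw d (fun (j k : Fin D.rank) => h8ent B j.val k.val)) h1
  simp only [h8pw_pw, h8pw_one] at h2
  have h3 : (fun (i m : Fin D.rank) =>
      ∑ j : Fin D.rank, D.cartan i.val (D.simple j.val) * h8ent B j.val m.val) =
      fun i m => if i = m then (1 : ℤ) else 0 := by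
    funext i m
    rw [h8sum_fin_list D.rank (fun j => D.cartan i.val (D.simple j) * h8ent B j m.val),
      (h i.val i.2).2 m.val m.2]
    simp only [Fin.ext_iff]
  rw [h3, h8pw_id] at h2
  exact h2

theorem h8Psi_Theta (D : ChevalleyDatum) (f : K →+* F) (c : Fin D.rank → Kˣ) :
    h8Psi D f (h8Theta D c) = h8Theta D (fun i => Units.map (f : K →* F) (c i)) := by
  apply Units.ext
  rw [h8Psi_val, h8Theta_val, h8Theta_val]
  ext x y
  rw [Matrix.map_apply, Matrix.diagonal_apply, Matrix.diagonal_apply]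
  by_cases hxy : x = y
  · rw [if_pos hxy, if_pos hxy]
    rcases x with k | w
    · simp [h8PhiHom]
    · simp only [h8PhiHom, MonoidHom.coe_mk, OneHom.coe_mk, Sum.elim_inr]
      rw [Units.coe_prod, Units.coe_prod, map_prod]
      apply Finset.prod_congr rfl
      intro i _
      rw [Units.val_zpow_eq_zpow_val, Units.val_zpow_eq_zpow_val, map_zpow₀]
      rfl
  · rw [if_neg hxy, if_neg hxy, map_zero]

theorem h8Psi_nWU (D : ChevalleyDatum) (hBK : H8Base.{v} D) (hBF : H8Base.{u} D) (f : K →+* F)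
    (w : List ℕ) : h8Psi D f (h8nWU D hBK w) = h8nWU D hBF w := by
  induction w with
  | nil =>
    show h8Psi D f 1 = 1
    exact map_one _
  | cons i w ih =>
    rw [h8nWU_cons, map_mul, ih, h8Psi_nU D hBK hBF, map_one, h8nWU_cons]

theorem h8Psi_U_le (D : ChevalleyDatum) (hBK : H8Base.{v} D) (hBF : H8Base.{u} D) (f : K →+* F) :
    (D.posUnipotent K).map (h8Psi D f) ≤ D.posUnipotent F := by
  unfold ChevalleyDatum.posUnipotent
  rw [MonoidHom.map_closure, Subgroup.closure_le]
  rintro g ⟨g', ⟨r, t, hr, hg'⟩, rfl⟩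
  apply Subgroup.subset_closure
  refine ⟨r, f t, hr, ?_⟩
  rw [h8Psi_val, hg', h8x_map]

theorem h8Psi_V_le (D : ChevalleyDatum) (hBK : H8Base.{v} D) (hBF : H8Base.{u} D) (f : K →+* F) :
    (D.negUnipotent K).map (h8Psi D f) ≤ D.negUnipotent F := by
  unfold ChevalleyDatum.negUnipotent
  rw [MonoidHom.map_closure, Subgroup.closure_le]
  rintro g ⟨g', ⟨r, t, hr, hg'⟩, rfl⟩
  apply Subgroup.subset_closure
  refine ⟨r, f t, hr, ?_⟩
  rw [h8Psi_val, hg', h8x_map]

theorem h8Psi_H_le (D : ChevalleyDatum) (hBK : H8Base.{v} D) (hBF : H8Base.{u} D) (f : K →+* F) :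
    (D.diagonalSubgroup K).map (h8Psi D f) ≤ D.diagonalSubgroup F := by
  unfold ChevalleyDatum.diagonalSubgroup
  rw [MonoidHom.map_closure, Subgroup.closure_le]
  rintro g ⟨g', ⟨r, t, hr, ht, hg'⟩, rfl⟩
  have e : g' = h8hU D hBK r t := Units.ext (by rw [hg', h8hU_val])
  rw [e, h8Psi_hU D hBK hBF]
  exact h8hU_mem_H D hBF r hr _ (by rw [Ne, map_eq_zero]; exact ht)

theorem h8Psi_N_le (D : ChevalleyDatum) (hBK : H8Base.{v} D) (hBF : H8Base.{u} D) (f : K →+* F) :
    (D.monomialSubgroup K).map (h8Psi D f) ≤ D.monomialSubgroup F := by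
  unfold ChevalleyDatum.monomialSubgroup
  rw [Subgroup.map_sup]
  apply sup_le
  · exact le_trans (h8Psi_H_le D hBK hBF f) le_sup_left
  · refine le_trans ?_ le_sup_right
    rw [MonoidHom.map_closure, Subgroup.closure_le]
    rintro g ⟨g', ⟨r, hr, hg'⟩, rfl⟩
    have e : g' = h8nU D hBK r 1 := Units.ext (by rw [hg', h8nU_val])
    apply Subgroup.subset_closure
    refine ⟨r, hr, ?_⟩
    rw [e, h8Psi_nU D hBK hBF, map_one, h8nU_val]

end Cfsg.Agent.Lib.helper8
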