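import Mathlib
import Cfsg.Prelude.Def_ChevG2
import Cfsg.Prelude.Def_ChevB2
import Cfsg.Prelude.Def_ChevD4
import Cfsg.Prelude.Def_ChevF4
import Cfsg.Prelude.Def_ChevE6
import Cfsg.Prelude.Def_ChevE7
import Cfsg.Prelude.Def_ChevE8
import Cfsg.Agent.Lib.helper8.ChevHProd

set_option autoImplicit false

namespace Cfsg.Agent.Lib.helper8

open Cfsg.Lie

set_option maxRecDepth 100000 in
theorem h8scChk_G2 : h8scChk chevG2 = true := by decide +kernel
set_option maxRecDepth 100000 in
theorem h8scChk_B2 : h8scChk chevB2 = true := by decide +kernel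
set_option maxRecDepth 100000 in
theorem h8scChk_D4 : h8scChk chevD4 = true := by decide +kernel
set_option maxRecDepth 100000 in
theorem h8scChk_F4 : h8scChk chevF4 = true := by decide +kernel
set_option maxRecDepth 100000 in
theorem h8scChk_E6 : h8scChk chevE6 = true := by decide +kernel
set_option maxRecDepth 100000 in
theorem h8scChk_E7 : h8scChk chevE7 = true := by decide +kernel
set_option maxRecDepth 100000 in
theorem h8scChk_E8 : h8scChk chevE8 = true := by decide +kernel

theorem h8scChk_all (D : ChevalleyDatum)
    (hD : D ∈ [chevG2, chevB2, chevD4, chevF4, chevE6, chevE7, chevE8]) : h8scChk D = true := by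
  simp only [List.mem_cons, List.mem_nil_iff, or_false] at hD
  rcases hD with rfl | rfl | rfl | rfl | rfl | rfl | rfl
  · exact h8scChk_G2
  · exact h8scChk_B2
  · exact h8scChk_D4
  · exact h8scChk_F4
  · exact h8scChk_E6
  · exact h8scChk_E7
  · exact h8scChk_E8

end Cfsg.Agent.Lib.helper8
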