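import Mathlib
import Cfsg.Prelude.Def_ChevStructure
import Cfsg.Agent.Lib.helper8.ChevFix2
import Cfsg.Agent.Lib.helper8.ChevBaseAll
import Cfsg.Agent.Lib.helper8.ChevReflAll
import Cfsg.Agent.Lib.helper8.ChevCommAll
import Cfsg.Agent.Lib.helper8.ChevBNAll
import Cfsg.Agent.Lib.helper8.ChevBNAll2
import Cfsg.Agent.Lib.helper8.ChevOrdAll
import Cfsg.Agent.Lib.helper8.ChevTabSC

set_option autoImplicit false

namespace Cfsg.Agent.Lib.helper8

open Cfsg.Lie Cfsg.Lie.ChevalleyDatum

universe u v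

variable {K : Type v} [Field K] {F : Type u} [Field F]

theorem h8descent_U (D : ChevalleyDatum)
    (hD : D ∈ [chevG2, chevB2, chevD4, chevF4, chevE6, chevE7, chevE8])
    (ι : K →+* F) (s : F →+* F) (hfix : ∀ a : F, s a = a → ∃ b : K, ι b = a)
    (x : GL D.Idx F) (hx : x ∈ D.posUnipotent F) (hsx : h8Psi D s x = x) :
    x ∈ (D.group K).map (h8Psi D ι) := by
  have hBF := h8base_all.{u} D hD
  have hBK := h8base_all.{v} D hD
  have hC := h8commAll.{u} D hD
  obtain ⟨hO, hO2⟩ := h8ord_all D hD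
  obtain ⟨t, ⟨ht0, htx⟩, htuniq⟩ := (h8ord_main D hBF hC hO hO2).1 x hx
  have hx' : x = h8wordU D hBF (D.posRoots.map fun r => (r, t r)) :=
    Units.ext (by rw [htx, h8wordU_val])
  have h1 : h8Psi D s x = h8wordU D hBF (D.posRoots.map fun r => (r, s (t r))) := by
    rw [hx', h8Psi_wordU D hBF hBF, List.map_map]
    rfl
  have h2 := htuniq (fun r => s (t r)) ⟨fun r hr => by
    show s (t r) = 0
    rw [ht0 r hr, map_zero], by
    show (x : Matrix D.Idx D.Idx F) = D.wordMat F (D.posRoots.map fun r => (r, s (t r)))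
    rw [← h8wordU_val D hBF, ← h1, hsx]⟩
  have h3 : ∀ r, ∃ b : K, ι b = t r := fun r => hfix (t r) (congrFun h2 r)
  choose t₀ ht₀ using h3
  refine ⟨h8wordU D hBK (D.posRoots.map fun r => (r, t₀ r)), h8wordU_mem_group D hBK _, ?_⟩
  rw [h8Psi_wordU D hBK hBF, List.map_map, hx']
  congr 1
  apply List.map_congr_left
  intro r _
  simp only [Function.comp_apply, ht₀]

theorem h8descent_N (D : ChevalleyDatum)
    (hD : D ∈ [chevG2, chevB2, chevD4, chevF4, chevE6, chevE7, chevE8])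
    (B : List (List ℤ)) (hU : h8unimodChk D B = true)
    (ι : K →+* F) (s : F →+* F) (hfix : ∀ a : F, s a = a → ∃ b : K, ι b = a)
    (m : GL D.Idx F) (hm : m ∈ D.monomialSubgroup F) (hsm : h8Psi D s m = m) :
    m ∈ (D.group K).map (h8Psi D ι) := by
  have hBF := h8base_all.{u} D hD
  have hBK := h8base_all.{v} D hD
  have hA := h8reflAll D hD
  have hBN := h8bn_all D hD
  have hsc := h8scChk_all D hD
  obtain ⟨t, ht, w, hw, rfl⟩ := h8N_word D hBF hA hBN m hm
  rw [map_mul, h8Psi_nWU D hBF hBF] at hsm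
  have hst : h8Psi D s t = t := mul_right_cancel hsm
  rw [← h8Theta_range D hBF hsc] at ht
  obtain ⟨c, rfl⟩ := ht
  rw [h8Psi_Theta] at hst
  have hc := h8Theta_injective D B hU hst
  have h3 : ∀ i, ∃ b : K, ι b = ((c i : Fˣ) : F) := by
    intro i
    apply hfix
    have := congrArg (fun u : Fˣ => (u : F)) (congrFun hc i)
    exact this
  choose b hb using h3
  have hb0 : ∀ i, b i ≠ 0 := by
    intro i h0
    have := hb i
    rw [h0, map_zero] at this
    exact Units.ne_zero _ this.symm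
  refine ⟨h8Theta D (fun i => Units.mk0 (b i) (hb0 i)) * h8nWU D hBK w, ?_, ?_⟩
  · apply Subgroup.mul_mem
    · exact h8_H_le_group D hBK (h8Theta_mem_H D hBK hsc _)
    · exact h8_N_le_group D hBK (h8nWU_mem_N D hBK hA w hw)
  · rw [map_mul, h8Psi_nWU D hBK hBF, h8Psi_Theta]
    congr 2
    funext i
    apply Units.ext
    exact hb i

theorem h8descent (D : ChevalleyDatum)
    (hD : D ∈ [chevG2, chevB2, chevD4, chevF4, chevE6, chevE7, chevE8])
    (B : List (List ℤ)) (hU : h8unimodChk D B = true)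
    (ι : K →+* F) (s s' : F →+* F) (hss' : ∀ a, s (s' a) = a)
    (hfix : ∀ a : F, s a = a → ∃ b : K, ι b = a)
    (g : GL D.Idx F) (hg : g ∈ D.group F) (hsg : h8Psi D s g = g) :
    g ∈ (D.group K).map (h8Psi D ι) := by
  classical
  have hBF := h8base_all.{u} D hD
  have hA := h8reflAll D hD
  have hC := h8commAll.{u} D hD
  have hBN := h8bn_all D hD
  have hW := h8bn2_all D hD
  obtain ⟨hO, hO2⟩ := h8ord_all D hD
  obtain ⟨b, hb, n, hn, u, hu, rfl⟩ := h8normal_exists D hBF hA hC hBN hW hO g hg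
  have hmemB : b ∈ ((D.posUnipotent F ⊔ D.diagonalSubgroup F : Subgroup (GL D.Idx F)) :
      Set (GL D.Idx F)) := hb
  rw [Subgroup.coe_mul_of_right_le_normalizer_left _ _ (h8_H_le_normalizer_U D hBF)] at hmemB
  obtain ⟨u1, hu1, h, hh, rfl⟩ := hmemB
  have hHN : D.diagonalSubgroup F ≤ D.monomialSubgroup F := by
    unfold ChevalleyDatum.monomialSubgroup
    exact le_sup_left
  have hn' : h * n ∈ D.monomialSubgroup F := Subgroup.mul_mem _ (hHN hh) hn
  have hu' : u ∈ Subgroup.closure (h8UmSet D F (h * n)) := by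
    have hsub := h8UmSet_mono_H D hBF n h 1 hh (Subgroup.one_mem _)
    rw [mul_one] at hsub
    exact Subgroup.closure_mono hsub hu
  have e0 : u1 * h * n * u = u1 * (h * n) * u := by group
  rw [e0] at hsg ⊢
  generalize h * n = n' at hn' hu' hsg ⊢
  have hSu1 : h8Psi D s u1 ∈ D.posUnipotent F :=
    h8Psi_U_le D hBF hBF s (Subgroup.mem_map_of_mem _ hu1)
  have hSn' : h8Psi D s n' ∈ D.monomialSubgroup F :=
    h8Psi_N_le D hBF hBF s (Subgroup.mem_map_of_mem _ hn')
  have hSu : h8Psi D s u ∈ Subgroup.closure (h8UmSet D F (h8Psi D s n')) := by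
    have h1 : (Subgroup.closure (h8UmSet D F n')).map (h8Psi D s) ≤
        Subgroup.closure (h8UmSet D F (h8Psi D s n')) := by
      rw [MonoidHom.map_closure, Subgroup.closure_le]
      rintro _ ⟨x, ⟨r, t, hr, hle, hx⟩, rfl⟩
      apply Subgroup.subset_closure
      refine ⟨r, s t, hr, ?_, ?_⟩
      · intro z hz
        rw [Subgroup.mem_map] at hz
        obtain ⟨y, hy, rfl⟩ := hz
        obtain ⟨c, rfl⟩ := h8rootSubgroup_mem D hBF r hr.1 y hy
        have e1 : (MulAut.conj (h8Psi D s n')).toMonoidHom (h8xU D hBF r c) =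
            h8Psi D s (n' * h8xU D hBF r (s' c) * n'⁻¹) := by
          rw [map_mul, map_mul, map_inv, h8Psi_xU D hBF hBF, hss']
          rfl
        rw [e1]
        apply h8Psi_V_le D hBF hBF s
        apply Subgroup.mem_map_of_mem
        apply hle
        rw [Subgroup.mem_map]
        exact ⟨_, h8xU_mem_rootSubgroup D hBF r _, rfl⟩
      · rw [h8Psi_val, hx, h8x_map]
    exact h1 (Subgroup.mem_map_of_mem _ hu')
  have e' : h8Psi D s u1 * h8Psi D s n' * h8Psi D s u = u1 * n' * u := by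
    rw [← map_mul, ← map_mul, hsg]
  obtain ⟨hn_eq, hu1_eq, hu_eq⟩ := h8normal_unique_strong D hBF hA hC hBN _ u1 _ n' _ u
    hSu1 hu1 hSn' hn' hSu hu' e'
  have hUle : Subgroup.closure (h8UmSet D F n') ≤ D.posUnipotent F := h8Um_le_U D n'
  exact Subgroup.mul_mem _ (Subgroup.mul_mem _
    (h8descent_U D hD ι s hfix u1 hu1 hu1_eq)
    (h8descent_N D hD B hU ι s hfix n' hn' hn_eq))
    (h8descent_U D hD ι s hfix u (hUle hu') hu_eq)

end Cfsg.Agent.Lib.helper8
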