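import Mathlib
import Cfsg.Prelude.Def_ChevStructure
import Cfsg.Agent.Lib.helper8.ChevBN1
import Cfsg.Agent.Lib.helper8.ChevOrd

set_option autoImplicit false

namespace Cfsg.Agent.Lib.helper8

open Cfsg.Lie Cfsg.Lie.ChevalleyDatum

open scoped commutatorElement

universe u

variable {F : Type u} [Field F]

theorem h8xU_mem_group (D : ChevalleyDatum) (hB : H8Base.{u} D) (r : ℕ) (t : F) :
    h8xU D hB r t ∈ D.group F := by
  have := h8wordU_mem_group D hB [(r, t)]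
  rw [h8wordU_cons] at this
  have e : h8wordU D hB ([] : List (ℕ × F)) = 1 := rfl
  rwa [e, mul_one] at this

theorem h8hU_mem_group (D : ChevalleyDatum) (hB : H8Base.{u} D) (r : ℕ) (t : F) :
    h8hU D hB r t ∈ D.group F := h8wordU_mem_group D hB _

theorem h8perf_A (D : ChevalleyDatum) (hB : H8Base.{u} D) (hC : H8CommAll.{u} D) (r a b : ℕ)
    (ha : a < D.nroots) (hb : b < D.nroots) (hab : b ≠ a) (habn : b ≠ D.negIdx.getD a 0) (ε : ℤ)
    (hε : ε = 1 ∨ ε = -1) (hct : D.commTerms a b = [(r, ε, 1, 1)]) (t : F) :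
    h8xU D hB r t ∈ ⁅D.group F, D.group F⁆ := by
  have h1 := hC.all a ha b hb hab habn F (-((ε : ℤ) : F) * t) 1
  unfold ChevalleyDatum.commWord at h1
  rw [hct, List.map_cons, List.map_nil, h8wordMat_cons, h8wordMat_nil, mul_one] at h1
  have hε2 : ((ε : ℤ) : F) * (- (-((ε : ℤ) : F) * t)) ^ 1 * (1 : F) ^ 1 = t := by
    rcases hε with rfl | rfl <;> simp
  simp only [] at h1
  rw [hε2] at h1
  have h2 : h8xU D hB b 1 * h8xU D hB a (-((ε : ℤ) : F) * t) =
      h8xU D hB a (-((ε : ℤ) : F) * t) * h8xU D hB b 1 * h8xU D hB r t := by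
    apply Units.ext
    rw [Units.val_mul, Units.val_mul, Units.val_mul, h8xU_val, h8xU_val, h8xU_val]
    exact h1
  have h3 : h8xU D hB r t =
      ⁅(h8xU D hB b (1 : F))⁻¹, (h8xU D hB a (-((ε : ℤ) : F) * t))⁻¹⁆ := by
    rw [commutatorElement_def, inv_inv, inv_inv, mul_assoc, mul_assoc, h2]
    group
  rw [h3]
  exact Subgroup.commutator_mem_commutator (Subgroup.inv_mem _ (h8xU_mem_group D hB _ _))
    (Subgroup.inv_mem _ (h8xU_mem_group D hB _ _))

theorem h8perf_H (D : ChevalleyDatum) (hB : H8Base.{u} D) (r s : ℕ) (hr : r < D.nroots)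
    (hs : s < D.nroots) (hK : h8K D s r = 1 ∨ h8K D s r = -1) (c : F) (hc0 : c ≠ 0) (hc1 : c ≠ 1)
    (t : F) : h8xU D hB r t ∈ ⁅D.group F, D.group F⁆ := by
  have hne : c ^ (h8K D s r) - 1 ≠ 0 := by
    rcases hK with h | h
    · rw [h, zpow_one]
      exact sub_ne_zero.mpr hc1
    · rw [h, zpow_neg_one]
      intro h0
      apply hc1
      have := sub_eq_zero.mp h0
      rw [inv_eq_one] at this
      exact this
  have hconj : ∀ t' : F, h8hU D hB s c * h8xU D hB r t' =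
      h8xU D hB r (c ^ (h8K D s r) * t') * h8hU D hB s c := by
    intro t'
    apply Units.ext
    rw [Units.val_mul, Units.val_mul, h8hU_val, h8xU_val, h8xU_val]
    exact h8hMat_conj_x D hB.ca s r hr c hc0 t' (hB.hdiag F s hs c hc0)
  have h3 : h8xU D hB r t =
      ⁅h8hU D hB s c, h8xU D hB r (t / (c ^ (h8K D s r) - 1))⁆ := by
    rw [commutatorElement_def, hconj, mul_assoc, mul_assoc, ← mul_assoc (h8hU D hB s c),
      mul_inv_cancel, one_mul, h8xU_inv, h8xU_add D hB r hr]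
    congr 1
    field_simp
    ring
  rw [h3]
  exact Subgroup.commutator_mem_commutator (h8hU_mem_group D hB _ _) (h8xU_mem_group D hB _ _)

theorem h8perf_B (D : ChevalleyDatum) (hB : H8Base.{u} D) (hC : H8CommAll.{u} D) (r r1 a b : ℕ)
    (ha : a < D.nroots) (hb : b < D.nroots) (hab : b ≠ a) (habn : b ≠ D.negIdx.getD a 0)
    (c1 ε : ℤ) (hε : ε = 1 ∨ ε = -1) (hct : D.commTerms a b = [(r1, c1, 1, 1), (r, ε, 1, 2)])
    (h1 : ∀ t : F, h8xU D hB r1 t ∈ ⁅D.group F, D.group F⁆) (t : F) :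
    h8xU D hB r t ∈ ⁅D.group F, D.group F⁆ := by
  have h0 := hC.all a ha b hb hab habn F (-((ε : ℤ) : F) * t) 1
  unfold ChevalleyDatum.commWord at h0
  rw [hct, List.map_cons, List.map_cons, List.map_nil, h8wordMat_cons, h8wordMat_cons,
    h8wordMat_nil, mul_one] at h0
  have hε2 : ((ε : ℤ) : F) * (- (-((ε : ℤ) : F) * t)) ^ 1 * (1 : F) ^ 2 = t := by
    rcases hε with rfl | rfl <;> simp
  simp only [] at h0
  rw [hε2] at h0
  have h2 : h8xU D hB b 1 * h8xU D hB a (-((ε : ℤ) : F) * t) =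
      h8xU D hB a (-((ε : ℤ) : F) * t) * h8xU D hB b 1 *
        (h8xU D hB r1 (((c1 : ℤ) : F) * (- (-((ε : ℤ) : F) * t)) ^ 1 * (1 : F) ^ 1) *
          h8xU D hB r t) := by
    apply Units.ext
    rw [Units.val_mul, Units.val_mul, Units.val_mul, Units.val_mul, h8xU_val, h8xU_val, h8xU_val,
      h8xU_val]
    exact h0
  have h3 : h8xU D hB r t =
      (h8xU D hB r1 (((c1 : ℤ) : F) * (- (-((ε : ℤ) : F) * t)) ^ 1 * (1 : F) ^ 1))⁻¹ *
      ⁅(h8xU D hB b (1 : F))⁻¹, (h8xU D hB a (-((ε : ℤ) : F) * t))⁻¹⁆ := by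
    have e : ∀ (A B : GL D.Idx F), B⁻¹ * A⁻¹ * B * A = B⁻¹ * A⁻¹ * (B * A) := by
      intro A B
      group
    rw [commutatorElement_def, inv_inv, inv_inv, e, h2]
    group
  rw [h3]
  apply Subgroup.mul_mem _ (Subgroup.inv_mem _ (h1 _))
  exact Subgroup.commutator_mem_commutator (Subgroup.inv_mem _ (h8xU_mem_group D hB _ _))
    (Subgroup.inv_mem _ (h8xU_mem_group D hB _ _))

theorem h8perf_top (D : ChevalleyDatum) (hB : H8Base.{u} D)
    (h : ∀ r < D.nroots, ∀ t : F, h8xU D hB r t ∈ ⁅D.group F, D.group F⁆) :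
    commutator ↥(D.group F) = ⊤ := by
  have hle : D.group F ≤ ⁅D.group F, D.group F⁆ := by
    unfold ChevalleyDatum.group
    rw [Subgroup.closure_le]
    rintro g ⟨r, t, hg⟩
    have hg' : g = h8xU D hB r.val t := by
      apply Units.ext
      rw [hg, h8xU_val]
      unfold ChevalleyDatum.x
      rw [dif_pos r.2]
    rw [hg']
    exact h r.val r.2 t
  have heq : ⁅D.group F, D.group F⁆ = D.group F :=
    le_antisymm (Subgroup.commutator_le.mpr (fun a ha b hb => by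
      rw [commutatorElement_def]
      exact Subgroup.mul_mem _ (Subgroup.mul_mem _ (Subgroup.mul_mem _ ha hb)
        (Subgroup.inv_mem _ ha)) (Subgroup.inv_mem _ hb))) hle
  apply Subgroup.map_injective (D.group F).subtype_injective
  rw [Subgroup.map_subtype_commutator, heq, ← MonoidHom.range_eq_map, Subgroup.range_subtype]

def h8pfAChk (D : ChevalleyDatum) (L : List (ℕ × ℕ)) (r : ℕ) : Bool :=
  decide ((L.getD r (0, 0)).1 < D.nroots) && decide ((L.getD r (0, 0)).2 < D.nroots) &&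
  decide ((L.getD r (0, 0)).2 ≠ (L.getD r (0, 0)).1) &&
  decide ((L.getD r (0, 0)).2 ≠ D.negIdx.getD (L.getD r (0, 0)).1 0) &&
  (decide (D.commTerms (L.getD r (0, 0)).1 (L.getD r (0, 0)).2 = [(r, 1, 1, 1)]) ||
    decide (D.commTerms (L.getD r (0, 0)).1 (L.getD r (0, 0)).2 = [(r, -1, 1, 1)]))

theorem h8perf_of_A (D : ChevalleyDatum) (hB : H8Base.{u} D) (hC : H8CommAll.{u} D)
    (L : List (ℕ × ℕ)) (hL : ∀ r < D.nroots, h8pfAChk D L r = true) :
    ∀ r < D.nroots, ∀ t : F, h8xU D hB r t ∈ ⁅D.group F, D.group F⁆ := by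
  intro r hr t
  have h := hL r hr
  unfold h8pfAChk at h
  simp only [Bool.and_eq_true, Bool.or_eq_true, decide_eq_true_eq] at h
  obtain ⟨⟨⟨⟨h1, h2⟩, h3⟩, h4⟩, h5⟩ := h
  rcases h5 with h5 | h5
  · exact h8perf_A D hB hC r _ _ h1 h2 h3 h4 1 (Or.inl rfl) h5 t
  · exact h8perf_A D hB hC r _ _ h1 h2 h3 h4 (-1) (Or.inr rfl) h5 t

def h8pfHChk (D : ChevalleyDatum) (L : List ℕ) (r : ℕ) : Bool :=
  decide (L.getD r 0 < D.nroots) &&
    (decide (h8KF D (L.getD r 0) r = 1) || decide (h8KF D (L.getD r 0) r = -1))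

theorem h8perf_of_H (D : ChevalleyDatum) (hB : H8Base.{u} D) (hCA : h8CAchk D = true)
    (L : List ℕ) (r : ℕ) (hr : r < D.nroots) (h : h8pfHChk D L r = true) (c : F) (hc0 : c ≠ 0)
    (hc1 : c ≠ 1) (t : F) : h8xU D hB r t ∈ ⁅D.group F, D.group F⁆ := by
  unfold h8pfHChk at h
  simp only [Bool.and_eq_true, Bool.or_eq_true, decide_eq_true_eq] at h
  obtain ⟨h1, h2⟩ := h
  rw [h8KF_eq D hCA _ r hr] at h2
  exact h8perf_H D hB r _ hr h1 h2 c hc0 hc1 t

end Cfsg.Agent.Lib.helper8
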