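import Mathlib
import Cfsg.Prelude.Def_ChevB2
import Cfsg.Agent.Lib.helper8.ChevPerf
import Cfsg.Agent.Lib.helper8.ChevReflChk

set_option autoImplicit false

namespace Cfsg.Agent.Lib.helper8

open Cfsg.Lie

open scoped commutatorElement

universe u

variable {F : Type u} [Field F]

def h8pfH_B2 : List ℕ := [0, 0, 0, 0, 0, 0, 0, 0]

set_option maxRecDepth 100000 in
theorem h8pfH_B2_chk : ([1, 2, 5, 6] : List ℕ).all (h8pfHChk chevB2 h8pfH_B2) = true := by
  decide +kernel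

set_option maxRecDepth 100000 in
theorem h8pfB_B2_0 : chevB2.commTerms 3 2 = [(1, -1, 1, 1), (0, -1, 1, 2)] := by decide +kernel

set_option maxRecDepth 100000 in
theorem h8pfB_B2_3 : chevB2.commTerms 0 5 = [(1, 1, 1, 1), (3, -1, 1, 2)] := by decide +kernel

set_option maxRecDepth 100000 in
theorem h8pfB_B2_4 : chevB2.commTerms 0 6 = [(2, -1, 1, 1), (4, 1, 1, 2)] := by decide +kernel

set_option maxRecDepth 100000 in
theorem h8pfB_B2_7 : chevB2.commTerms 3 6 = [(5, 1, 1, 1), (7, 1, 1, 2)] := by decide +kernel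

set_option maxRecDepth 100000 in
theorem h8pfB_B2_neg : chevB2.negIdx = #[7, 6, 5, 4, 3, 2, 1, 0] := by decide +kernel

theorem h8perf_B2 (hB : H8Base.{u} chevB2) (hC : H8CommAll.{u} chevB2)
    (hCA : h8CAchk chevB2 = true) (c : F) (hc0 : c ≠ 0) (hc1 : c ≠ 1) :
    ∀ r < chevB2.nroots, ∀ t : F, h8xU chevB2 hB r t ∈ ⁅chevB2.group F, chevB2.group F⁆ := by
  have hn : chevB2.nroots = 8 := rfl
  have hchk := h8pfH_B2_chk
  simp only [List.all_cons, List.all_nil, Bool.and_true, Bool.and_eq_true] at hchk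
  obtain ⟨k1, k2, k5, k6⟩ := hchk
  have s1 := h8perf_of_H (F := F) chevB2 hB hCA h8pfH_B2 1 (by rw [hn]; omega) k1 c hc0 hc1
  have s2 := h8perf_of_H (F := F) chevB2 hB hCA h8pfH_B2 2 (by rw [hn]; omega) k2 c hc0 hc1
  have s5 := h8perf_of_H (F := F) chevB2 hB hCA h8pfH_B2 5 (by rw [hn]; omega) k5 c hc0 hc1
  have s6 := h8perf_of_H (F := F) chevB2 hB hCA h8pfH_B2 6 (by rw [hn]; omega) k6 c hc0 hc1
  have l0 := h8perf_B (F := F) chevB2 hB hC 0 1 3 2 (by rw [hn]; omega) (by rw [hn]; omega)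
    (by omega) (by rw [h8pfB_B2_neg]; decide) (-1) (-1) (Or.inr rfl) h8pfB_B2_0 s1
  have l3 := h8perf_B (F := F) chevB2 hB hC 3 1 0 5 (by rw [hn]; omega) (by rw [hn]; omega)
    (by omega) (by rw [h8pfB_B2_neg]; decide) 1 (-1) (Or.inr rfl) h8pfB_B2_3 s1
  have l4 := h8perf_B (F := F) chevB2 hB hC 4 2 0 6 (by rw [hn]; omega) (by rw [hn]; omega)
    (by omega) (by rw [h8pfB_B2_neg]; decide) (-1) 1 (Or.inl rfl) h8pfB_B2_4 s2
  have l7 := h8perf_B (F := F) chevB2 hB hC 7 5 3 6 (by rw [hn]; omega) (by rw [hn]; omega)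
    (by omega) (by rw [h8pfB_B2_neg]; decide) 1 1 (Or.inl rfl) h8pfB_B2_7 s5
  intro r hr
  rw [hn] at hr
  interval_cases r
  · exact l0
  · exact s1
  · exact s2
  · exact l3
  · exact l4
  · exact s5
  · exact s6
  · exact l7

end Cfsg.Agent.Lib.helper8
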