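import Mathlib
import Cfsg.Prelude.Def_ChevD4
import Cfsg.Agent.Lib.helper8.ChevPerf
import Cfsg.Agent.Lib.helper8.ChevReflChk

set_option autoImplicit false

namespace Cfsg.Agent.Lib.helper8

open Cfsg.Lie

def h8pfA_D4 : List (ℕ × ℕ) := [(1, 9), (0, 14), (0, 15), (0, 16), (0, 17), (1, 17), (0, 19), (0, 20), (0, 21), (0, 22), (1, 20), (1, 21), (2, 22), (3, 22), (1, 23), (2, 23), (3, 23), (4, 23), (6, 22), (6, 23), (7, 23), (8, 23), (9, 23), (14, 22)]

set_option maxRecDepth 100000 in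
theorem h8pfChunk_D4_0 : (List.range' 0 24).all (h8pfAChk chevD4 h8pfA_D4) = true := by
  decide +kernel

theorem h8pf_D4 : ∀ r < chevD4.nroots, h8pfAChk chevD4 h8pfA_D4 r = true := by
  intro r hr
  have hn : chevD4.nroots = 24 := rfl
  rw [hn] at hr
  exact h8rows_of_chunk _ _ _ h8pfChunk_D4_0 r (by omega) (by omega)

end Cfsg.Agent.Lib.helper8
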