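import Mathlib
import Cfsg.Prelude.Def_ChevF4
import Cfsg.Agent.Lib.helper8.ChevPerf
import Cfsg.Agent.Lib.helper8.ChevReflChk

set_option autoImplicit false

namespace Cfsg.Agent.Lib.helper8

open Cfsg.Lie

def h8pfA_F4 : List (ℕ × ℕ) := [(1, 23), (0, 24), (0, 26), (7, 14), (0, 31), (0, 32), (1, 32), (3, 33), (3, 34), (3, 35), (3, 36), (3, 37), (3, 38), (3, 39), (3, 40), (0, 42), (0, 43), (1, 43), (7, 37), (7, 38), (7, 39), (0, 45), (1, 45), (0, 46), (1, 47), (2, 46), (2, 47), (8, 40), (9, 40), (10, 40), (4, 46), (4, 47), (5, 47), (7, 44), (8, 44), (9, 44), (10, 44), (11, 44), (12, 44), (13, 44), (14, 44), (15, 46), (15, 47), (16, 47), (33, 40), (21, 47), (23, 47), (24, 46)]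

set_option maxRecDepth 100000 in
theorem h8pfChunk_F4_0 : (List.range' 0 48).all (h8pfAChk chevF4 h8pfA_F4) = true := by
  decide +kernel

theorem h8pf_F4 : ∀ r < chevF4.nroots, h8pfAChk chevF4 h8pfA_F4 r = true := by
  intro r hr
  have hn : chevF4.nroots = 48 := rfl
  rw [hn] at hr
  exact h8rows_of_chunk _ _ _ h8pfChunk_F4_0 r (by omega) (by omega)

end Cfsg.Agent.Lib.helper8
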