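import Mathlib
import Cfsg.Prelude.Def_ChevG2
import Cfsg.Agent.Lib.helper8.ChevPerf
import Cfsg.Agent.Lib.helper8.ChevReflChk

set_option autoImplicit false

namespace Cfsg.Agent.Lib.helper8

open Cfsg.Lie

def h8pfH_G2 : List ℕ := [1, 0, 0, 0, 1, 0, 0, 1, 0, 0, 0, 1]

set_option maxRecDepth 100000 in
theorem h8pfChunk_G2 : (List.range' 0 12).all (h8pfHChk chevG2 h8pfH_G2) = true := by
  decide +kernel

theorem h8pf_G2 : ∀ r < chevG2.nroots, h8pfHChk chevG2 h8pfH_G2 r = true := by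
  intro r hr
  have hn : chevG2.nroots = 12 := rfl
  rw [hn] at hr
  exact h8rows_of_chunk _ _ _ h8pfChunk_G2 r (by omega) (by omega)

end Cfsg.Agent.Lib.helper8
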