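import Mathlib
import Cfsg.Prelude.Def_ChevStructure
import Cfsg.Agent.Lib.helper8.ChevTabPfG2
import Cfsg.Agent.Lib.helper8.ChevTabPfB2
import Cfsg.Agent.Lib.helper8.ChevTabPfD4
import Cfsg.Agent.Lib.helper8.ChevTabPfF4
import Cfsg.Agent.Lib.helper8.ChevTabPfE6
import Cfsg.Agent.Lib.helper8.ChevTabPfE7
import Cfsg.Agent.Lib.helper8.ChevTabPfE8
import Cfsg.Agent.Lib.helper8.ChevBaseAll
import Cfsg.Agent.Lib.helper8.ChevReflAll
import Cfsg.Agent.Lib.helper8.ChevCommAll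

set_option autoImplicit false

namespace Cfsg.Agent.Lib.helper8

open Cfsg.Lie

open scoped commutatorElement

universe u

variable {F : Type u} [Field F]

theorem h8perf_all (D : ChevalleyDatum)
    (hD : D ∈ [chevG2, chevB2, chevD4, chevF4, chevE6, chevE7, chevE8])
    (h2 : D = chevG2 ∨ D = chevB2 → ∃ a : F, a ≠ 0 ∧ a ≠ 1) :
    ∀ r < D.nroots, ∀ t : F, h8xU D (h8base_all.{u} D hD) r t ∈ ⁅D.group F, D.group F⁆ := by
  have hB := h8base_all.{u} D hD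
  have hC := h8commAll.{u} D hD
  have hA := h8reflAll D hD
  simp only [List.mem_cons, List.not_mem_nil, or_false] at hD
  rcases hD with rfl | rfl | rfl | rfl | rfl | rfl | rfl
  · obtain ⟨a, ha0, ha1⟩ := h2 (Or.inl rfl)
    intro r hr t
    exact h8perf_of_H chevG2 _ hA.ca h8pfH_G2 r hr (h8pf_G2 r hr) a ha0 ha1 t
  · obtain ⟨a, ha0, ha1⟩ := h2 (Or.inr rfl)
    exact h8perf_B2 _ hC hA.ca a ha0 ha1
  · exact h8perf_of_A chevD4 _ hC h8pfA_D4 h8pf_D4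
  · exact h8perf_of_A chevF4 _ hC h8pfA_F4 h8pf_F4
  · exact h8perf_of_A chevE6 _ hC h8pfA_E6 h8pf_E6
  · exact h8perf_of_A chevE7 _ hC h8pfA_E7 h8pf_E7
  · exact h8perf_of_A chevE8 _ hC h8pfA_E8 h8pf_E8

end Cfsg.Agent.Lib.helper8
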