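import Mathlib
import Cfsg.Prelude.Def_ChevStructure
import Cfsg.Agent.Lib.helper8.ChevTits3
import Cfsg.Agent.Lib.helper8.ChevSolv
import Cfsg.Agent.Lib.helper8.ChevCore
import Cfsg.Agent.Lib.helper8.ChevPerf

set_option autoImplicit false

namespace Cfsg.Agent.Lib.helper8

open Cfsg.Lie Cfsg.Lie.ChevalleyDatum

universe u

variable {F : Type u} [Field F]

def h8adjB (D : ChevalleyDatum) (i j : ℕ) : Bool :=
  decide (D.reflectRoot i (D.simple j) ≠ D.simple j)

def h8treeOK (D : ChevalleyDatum) : List ℕ → List (ℕ × ℕ) → Bool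
  | seen, [] => (List.range D.rank).all fun i => decide (i ∈ seen)
  | seen, (c, p) :: es => decide (p ∈ seen) && decide (c < D.rank) && decide (p < D.rank) &&
      h8adjB D p c && h8adjB D c p && h8treeOK D (c :: seen) es

theorem h8tree_spec (D : ChevalleyDatum) (Q : ℕ → Prop) (root : ℕ)
    (hQ : ∀ i j, i < D.rank → j < D.rank → h8adjB D i j = true → Q i → Q j) :
    ∀ (es : List (ℕ × ℕ)) (seen : List ℕ), h8treeOK D seen es = true →
      (∀ x ∈ seen, (Q x ↔ Q root)) → ∀ i < D.rank, (Q i ↔ Q root) := by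
  intro es
  induction es with
  | nil =>
    intro seen h hs i hi
    unfold h8treeOK at h
    simp only [List.all_eq_true, List.mem_range, decide_eq_true_eq] at h
    exact hs i (h i hi)
  | cons e es ih =>
    intro seen h hs
    obtain ⟨c, p⟩ := e
    unfold h8treeOK at h
    simp only [Bool.and_eq_true, decide_eq_true_eq] at h
    obtain ⟨⟨⟨⟨⟨h1, h2⟩, h3⟩, h4⟩, h5⟩, h6⟩ := h
    apply ih (c :: seen) h6
    intro x hx
    rcases List.mem_cons.mp hx with rfl | hx
    · rw [← hs p h1]
      exact ⟨hQ _ _ h2 h3 h5, hQ _ _ h3 h2 h4⟩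
    · exact hs x hx

structure H8Tits (D : ChevalleyDatum) : Prop where
  tree : ∃ es : List (ℕ × ℕ), h8treeOK D [0] es = true
  rank : 0 < D.rank
  sc : h8scChk D = true

theorem h8quot_trivial {G : Type*} [Group G] (K : Subgroup G) [K.Normal] (B : Subgroup G)
    (hBsolv : Group.IsSolvable ↥B) (hperf : commutator G = ⊤)
    (hKB : ∀ g : G, ∃ k ∈ K, ∃ b ∈ B, g = k * b) : K = ⊤ := by
  have hsurj : Function.Surjective ((QuotientGroup.mk' K).comp B.subtype) := by
    intro q
    obtain ⟨g, rfl⟩ := QuotientGroup.mk'_surjective K q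
    obtain ⟨k, hk, b, hb, rfl⟩ := hKB g
    refine ⟨⟨b, hb⟩, ?_⟩
    simp only [MonoidHom.coe_comp, Function.comp_apply, Subgroup.coe_subtype,
      QuotientGroup.mk'_apply]
    rw [QuotientGroup.eq]
    have : b⁻¹ * (k * b) = b⁻¹ * k * b := by group
    rw [this]
    have hn : K.Normal := inferInstance
    have := hn.conj_mem k hk b⁻¹
    rwa [inv_inv] at this
  have hsolv : Group.IsSolvable (G ⧸ K) := Group.isSolvable_of_surjective hsurj
  have hperfQ : commutator (G ⧸ K) = ⊤ := by
    have h1 := Subgroup.map_commutator (⊤ : Subgroup G) ⊤ (QuotientGroup.mk' K)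
    rw [Subgroup.map_top_of_surjective _ (QuotientGroup.mk'_surjective K)] at h1
    have h2 : (⁅(⊤ : Subgroup G), ⊤⁆ : Subgroup G) = ⊤ := hperf
    rw [h2, Subgroup.map_top_of_surjective _ (QuotientGroup.mk'_surjective K)] at h1
    exact h1.symm
  by_contra hne
  have hnt : Nontrivial (G ⧸ K) := by
    rw [← not_subsingleton_iff_nontrivial]
    intro hsub
    apply hne
    rw [eq_top_iff]
    intro g _
    have := hsub.elim (QuotientGroup.mk' K g) (QuotientGroup.mk' K 1)
    rw [QuotientGroup.mk'_apply, QuotientGroup.mk'_apply, QuotientGroup.eq] at this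
    have h3 := K.inv_mem this
    simpa using h3
  have := Group.IsSolvable.commutator_lt_top_of_nontrivial (G ⧸ K)
  rw [hperfQ] at this
  exact lt_irrefl _ this

theorem h8tits_simple (D : ChevalleyDatum) (hB : H8Base.{u} D) (hA : H8ReflAll D)
    (hC : H8CommAll.{u} D) (hBN : H8BN D) (hW : H8BN2 D) (hO2 : H8Ord2 D) (hT : H8Tits D)
    (hperf : commutator ↥(D.group F) = ⊤) (K : Subgroup ↥(D.group F)) (hKn : K.Normal) :
    K = ⊥ ∨ K = ⊤ := by
  obtain ⟨es, htree⟩ := hT.tree
  obtain ⟨w0, hw0⟩ := hW.w0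
  have hBG := h8_B_le_group (F := F) D hB
  have hNG := h8_N_le_group (F := F) D hB
  have hK0G : K.map (D.group F).subtype ≤ D.group F := by
    rintro x ⟨y, _, rfl⟩
    exact y.2
  have hK0mem : ∀ x : GL D.Idx F, x ∈ K.map (D.group F).subtype ↔
      ∃ hx : x ∈ D.group F, (⟨x, hx⟩ : ↥(D.group F)) ∈ K := by
    intro x
    constructor
    · rintro ⟨y, hy, rfl⟩
      exact ⟨y.2, hy⟩
    · rintro ⟨hx, hy⟩
      exact ⟨⟨x, hx⟩, hy, rfl⟩
  have hKnorm : ∀ g ∈ D.group F, ∀ k ∈ K.map (D.group F).subtype,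
      g * k * g⁻¹ ∈ K.map (D.group F).subtype := by
    intro g hg k hk
    obtain ⟨hkG, hkK⟩ := (hK0mem k).mp hk
    rw [hK0mem]
    refine ⟨Subgroup.mul_mem _ (Subgroup.mul_mem _ hg hkG) (Subgroup.inv_mem _ hg), ?_⟩
    exact hKn.conj_mem ⟨k, hkG⟩ hkK ⟨g, hg⟩
  have hBnormK : D.borelSubgroup F ≤
      Subgroup.normalizer (K.map (D.group F).subtype : Set (GL D.Idx F)) := by
    intro b hb
    rw [Subgroup.mem_normalizer_iff]
    intro k
    constructor
    · intro hk
      exact hKnorm b (hBG hb) k hk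
    · intro hk
      have := hKnorm b⁻¹ (Subgroup.inv_mem _ (hBG hb)) _ hk
      have e : b⁻¹ * (b * k * b⁻¹) * b⁻¹⁻¹ = k := by group
      rwa [e] at this
  have hPKB : ∀ x ∈ K.map (D.group F).subtype ⊔ D.borelSubgroup F,
      ∃ k ∈ K.map (D.group F).subtype, ∃ b ∈ D.borelSubgroup F, x = k * b := by
    intro x hx
    have hx' : x ∈ ((K.map (D.group F).subtype ⊔ D.borelSubgroup F : Subgroup (GL D.Idx F)) :
        Set (GL D.Idx F)) := hx
    rw [Subgroup.coe_mul_of_right_le_normalizer_left _ _ hBnormK] at hx'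
    obtain ⟨k, hk, b, hb, rfl⟩ := hx'
    exact ⟨k, hk, b, hb, rfl⟩
  have hadj : ∀ i j, i < D.rank → j < D.rank → h8adjB D i j = true →
      h8nU D hB (D.simple i) (1 : F) ∈ K.map (D.group F).subtype ⊔ D.borelSubgroup F →
      h8nU D hB (D.simple j) (1 : F) ∈ K.map (D.group F).subtype ⊔ D.borelSubgroup F := by
    intro i j hi hj hij hsi
    unfold h8adjB at hij
    rw [decide_eq_true_eq] at hij
    exact h8tits_adj D hB hA hC hBN _ _ le_sup_right le_sup_left hKnorm hPKB i j hi hj hij hsi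
  have hall := h8tree_spec D
    (fun i => h8nU D hB (D.simple i) (1 : F) ∈ K.map (D.group F).subtype ⊔ D.borelSubgroup F)
    0 hadj es [0] htree (by
      intro x hx
      rw [List.mem_singleton] at hx
      rw [hx])
  by_cases hroot : h8nU D hB (D.simple 0) (1 : F) ∈
      K.map (D.group F).subtype ⊔ D.borelSubgroup F
  · right
    have hGP : D.group F ≤ K.map (D.group F).subtype ⊔ D.borelSubgroup F := by
      obtain ⟨dep, par, horb⟩ := hBN.orb
      refine le_trans (h8group_le_BN D hB hA hW) ?_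
      apply sup_le le_sup_right
      rw [h8N_eq (F := F) D hB hA dep par horb]
      apply sup_le (le_trans (h8H_le_B D) le_sup_right)
      rw [Subgroup.closure_le]
      rintro g ⟨j, hj, rfl⟩
      exact (hall j hj).mpr hroot
    have := hKn
    apply h8quot_trivial K ((D.borelSubgroup F).subgroupOf (D.group F)) ?_ hperf
    · intro g
      obtain ⟨k, hk, b, hb, e⟩ := hPKB _ (hGP g.2)
      obtain ⟨hkG, hkK⟩ := (hK0mem k).mp hk
      exact ⟨⟨k, hkG⟩, hkK, ⟨b, hBG hb⟩, Subgroup.mem_subgroupOf.mpr hb, Subtype.ext e⟩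
    · have := h8_B_solvable (F := F) D hB
      exact Group.isSolvable_of_isSolvable_injective
        (f := (Subgroup.subgroupOfEquivOfLe hBG).toMonoidHom)
        (Subgroup.subgroupOfEquivOfLe hBG).injective
  · left
    have hnone : ∀ i < D.rank, h8nU D hB (D.simple i) (1 : F) ∉
        K.map (D.group F).subtype ⊔ D.borelSubgroup F := by
      intro i hi h
      exact hroot ((hall i hi).mp h)
    have hK0B : K.map (D.group F).subtype ≤ D.borelSubgroup F := by
      intro k hk
      obtain ⟨b, hb, n, hn, b', hb', e⟩ := h8bruhat D hB hA hC hBN hW k (hK0G hk)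
      have hnP : n ∈ K.map (D.group F).subtype ⊔ D.borelSubgroup F := by
        have : n = b⁻¹ * k * b'⁻¹ := by rw [e]; group
        rw [this]
        exact Subgroup.mul_mem _ (Subgroup.mul_mem _
          (Subgroup.mem_sup_right (Subgroup.inv_mem _ hb)) (Subgroup.mem_sup_left hk))
          (Subgroup.mem_sup_right (Subgroup.inv_mem _ hb'))
      by_cases hnT : n ∈ D.diagonalSubgroup F
      · rw [e]
        exact Subgroup.mul_mem _ (Subgroup.mul_mem _ hb (h8H_le_B D hnT)) hb'
      · exfalso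
        obtain ⟨i, hi, r', hr', hact⟩ := h8N_not_T D hB hA hBN hW hO2 n hn hnT
        exact hnone i hi (h8simple_mem_of_neg D hB hBN _ le_sup_right n hnP i hi r' hr' hact)
    rw [eq_bot_iff]
    intro k hk
    rw [Subgroup.mem_bot]
    apply Subtype.ext
    have hk0 : (k : GL D.Idx F) ∈ K.map (D.group F).subtype := ⟨k, hk, rfl⟩
    exact h8core_trivial D hB hA hBN.negOK hT.sc w0 hw0 hNG (k : GL D.Idx F) k.2
      (fun g hg => hK0B (hKnorm g hg _ hk0))

end Cfsg.Agent.Lib.helper8
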