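import Mathlib
import Cfsg.Prelude.Def_ChevStructure
import Cfsg.Agent.Lib.helper8.ChevTits4
import Cfsg.Agent.Lib.helper8.ChevBNAll2
import Cfsg.Agent.Lib.helper8.ChevPerfAll
import Cfsg.Agent.Lib.helper8.ChevTabSC

set_option autoImplicit false

namespace Cfsg.Agent.Lib.helper8

open Cfsg.Lie Cfsg.Lie.ChevalleyDatum

open scoped commutatorElement

universe u

variable {F : Type u} [Field F]

set_option maxRecDepth 100000 in
theorem h8tree_all (D : ChevalleyDatum)
    (hD : D ∈ [chevG2, chevB2, chevD4, chevF4, chevE6, chevE7, chevE8]) :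
    ∃ es : List (ℕ × ℕ), h8treeOK D [0] es = true := by
  simp only [List.mem_cons, List.not_mem_nil, or_false] at hD
  rcases hD with rfl | rfl | rfl | rfl | rfl | rfl | rfl
  · exact ⟨[(1, 0)], by decide +kernel⟩
  · exact ⟨[(1, 0)], by decide +kernel⟩
  · exact ⟨[(1, 0), (2, 1), (3, 1)], by decide +kernel⟩
  · exact ⟨[(1, 0), (2, 1), (3, 2)], by decide +kernel⟩
  · exact ⟨[(2, 0), (3, 2), (4, 3), (5, 4), (1, 3)], by decide +kernel⟩
  · exact ⟨[(2, 0), (3, 2), (4, 3), (5, 4), (6, 5), (1, 3)], by decide +kernel⟩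
  · exact ⟨[(2, 0), (3, 2), (4, 3), (5, 4), (6, 5), (7, 6), (1, 3)], by decide +kernel⟩

theorem h8tits_all (D : ChevalleyDatum)
    (hD : D ∈ [chevG2, chevB2, chevD4, chevF4, chevE6, chevE7, chevE8]) : H8Tits D :=
  ⟨h8tree_all D hD, (h8uq_all D hD).1, h8scChk_all D hD⟩

theorem h8simple_main (D : ChevalleyDatum)
    (hD : D ∈ [chevG2, chevB2, chevD4, chevF4, chevE6, chevE7, chevE8])
    (h2 : D = chevG2 ∨ D = chevB2 → ∃ a : F, a ≠ 0 ∧ a ≠ 1) :
    IsSimpleGroup ↥(D.group F) ∧ ¬ IsMulCommutative ↥(D.group F) := by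
  have hB := h8base_all.{u} D hD
  have hA := h8reflAll D hD
  have hC := h8commAll.{u} D hD
  have hBN := h8bn_all D hD
  have hW := h8bn2_all D hD
  have hO2 := (h8ord_all D hD).2
  have hT := h8tits_all D hD
  have hperf : commutator ↥(D.group F) = ⊤ := h8perf_top D hB (h8perf_all D hD h2)
  have hrk := hT.rank
  have hp0 := h8simple_pos D hBN 0 hrk
  obtain ⟨w0, hw0⟩ := hW.w0
  obtain ⟨_, _, _, hne⟩ := h8w0Chk_spec D hA w0 hw0
  have hnt : Nontrivial ↥(D.group F) := by
    refine ⟨⟨⟨h8xU D hB (D.simple 0) 1, h8xU_mem_group D hB _ _⟩, 1, ?_⟩⟩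
    intro h
    have h1 := congrArg (fun g : ↥(D.group F) => ((g : GL D.Idx F) : Matrix D.Idx D.Idx F)) h
    simp only at h1
    rw [h8xU_val] at h1
    have := h8x_eq_one D (fun s hs => ⟨hW.neglt s hs, hne s hs⟩) _ hp0.1 (1 : F) h1
    exact one_ne_zero this
  refine ⟨?_, ?_⟩
  · exact { toNontrivial := hnt
            eq_bot_or_eq_top_of_normal := fun K hK =>
              h8tits_simple D hB hA hC hBN hW hO2 hT hperf K hK }
  · intro hcomm
    have hbot : commutator ↥(D.group F) = ⊥ := by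
      rw [commutator_def, eq_bot_iff, Subgroup.commutator_le]
      intro a _ b _
      rw [Subgroup.mem_bot, commutatorElement_def]
      have hab : a * b = b * a := hcomm.is_comm.comm a b
      rw [hab]
      group
    rw [hperf] at hbot
    exact top_ne_bot hbot

end Cfsg.Agent.Lib.helper8
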