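import Mathlib
import Cfsg.Agent.Lib.helper8.SylowBasic

set_option autoImplicit false

namespace Cfsg.Agent.Lib.helper8

open Subgroup

theorem h8_simple_embeds_alternating {G : Type*} [Group G] [Finite G] [IsSimpleGroup G]
    (hG : ¬ IsMulCommutative G) (H : Subgroup G) (hH : H ≠ ⊤) :
    ∃ f : G →* ↥(alternatingGroup (Fin H.index)), Function.Injective f := by
  classical
  let e : G ⧸ H ≃ Fin H.index := Finite.equivFin (G ⧸ H)
  let φ : G →* Equiv.Perm (Fin H.index) :=
    (Equiv.permCongrHom e).toMonoidHom.comp (MulAction.toPermHom G (G ⧸ H))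
  have hinj : Function.Injective φ := by
    rw [← MonoidHom.ker_eq_bot_iff]
    rcases IsSimpleGroup.eq_bot_or_eq_top_of_normal φ.ker inferInstance with h | h
    · exact h
    · exfalso
      apply hH
      rw [eq_top_iff]
      intro g _
      have hg : g ∈ φ.ker := by rw [h]; trivial
      rw [MonoidHom.mem_ker] at hg
      have h1 : (MulAction.toPermHom G (G ⧸ H)) g = 1 := by
        apply (Equiv.permCongrHom e).injective
        rw [map_one]
        exact hg
      have h2 : g • ((1 : G) : G ⧸ H) = ((1 : G) : G ⧸ H) := by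
        have := congrArg (fun σ : Equiv.Perm (G ⧸ H) => σ ((1 : G) : G ⧸ H)) h1
        simpa using this
      rw [MulAction.Quotient.smul_mk] at h2
      have h3 := QuotientGroup.eq.mp h2
      simpa using h3
  have hsign : ∀ g : G, Equiv.Perm.sign (φ g) = 1 := by
    intro g
    let ψ : G →* ℤˣ := Equiv.Perm.sign.comp φ
    rcases IsSimpleGroup.eq_bot_or_eq_top_of_normal ψ.ker inferInstance with h | h
    · exfalso
      apply hG
      have hψ : Function.Injective ψ := (MonoidHom.ker_eq_bot_iff ψ).mp h
      refine ⟨⟨fun a b => ?_⟩⟩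
      apply hψ
      rw [map_mul, map_mul, mul_comm]
    · have : g ∈ ψ.ker := by rw [h]; trivial
      exact this
  refine ⟨φ.codRestrict (alternatingGroup (Fin H.index)) (fun g => ?_), ?_⟩
  · rw [Equiv.Perm.mem_alternatingGroup]
    exact hsign g
  · intro a b hab
    apply hinj
    have := congrArg Subtype.val hab
    simpa using this

theorem h8_index_ne_one_of_ne_top {G : Type*} [Group G] [Finite G] (H : Subgroup G) (hH : H ≠ ⊤) :
    2 ≤ H.index := by
  have h1 : H.index ≠ 1 := fun h => hH (Subgroup.index_eq_one.mp h)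
  have h0 : H.index ≠ 0 := Subgroup.index_ne_zero_of_finite
  omega

theorem h8_simple_two_mul_card_dvd_factorial {G : Type*} [Group G] [Finite G] [IsSimpleGroup G]
    (hG : ¬ IsMulCommutative G) (H : Subgroup G) (hH : H ≠ ⊤) :
    2 * Nat.card G ∣ (H.index).factorial := by
  classical
  obtain ⟨f, hf⟩ := h8_simple_embeds_alternating hG H hH
  have h1 : Nat.card G ∣ Nat.card (alternatingGroup (Fin H.index)) :=
    Subgroup.card_dvd_of_injective f hf
  have h2 := h8_index_ne_one_of_ne_top H hH
  haveI : Nontrivial (Fin H.index) := Fin.nontrivial_iff_two_le.mpr h2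
  have h3 : 2 * Nat.card (alternatingGroup (Fin H.index)) = (H.index).factorial := by
    have := two_mul_card_alternatingGroup (α := Fin H.index)
    rw [Nat.card_eq_fintype_card, this, Fintype.card_perm, Fintype.card_fin]
  rw [← h3]
  exact Nat.mul_dvd_mul_left 2 h1

theorem h8_not_comm_of_card {G : Type*} [Group G] [Finite G] [IsSimpleGroup G]
    (h : ¬ (Nat.card G).Prime) : ¬ IsMulCommutative G := by
  intro hc
  apply h
  letI : CommGroup G := { (inferInstance : Group G) with mul_comm := fun a b => hc.is_comm.comm a b }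
  exact IsSimpleGroup.prime_card

end Cfsg.Agent.Lib.helper8
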