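import Mathlib
import Cfsg.Agent.Lib.helper3.S5953.Defs
import Cfsg.Agent.Lib.Lead.HermCount
import Cfsg.Prelude.Def_LieClassical
import Cfsg.Agent.Lib.helper6.HermIsoCount

set_option autoImplicit false
set_option linter.unusedVariables false
set_option linter.unusedSectionVars false

/-!
# Project S5953, row T3 (helper8): `perp_dim` verbatim.
-/

namespace Cfsg.Agent.Lib.helper3.S5953

open Polynomial Module

/-- absolute case: `dim U^⊥ + dim U = n` -/
theorem s5953t3_abs {F : Type*} [Field F] [Fintype F] {q n : ℕ} (hF : Fintype.card F = q ^ 2)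
    (U : Submodule F (Fin n → F)) :
    finrank F ↥(hperp q U) + finrank F U = n := by
  classical
  obtain ⟨σ, hσ⟩ := Cfsg.Agent.Lib.Lead.exists_frob hF
  have hσσ : ∀ x, σ (σ x) = x := by
    intro x
    rw [hσ, hσ, ← pow_mul, ← sq, ← hF]
    exact FiniteField.pow_card x
  set k := finrank F U with hk
  let b := Module.finBasis F ↥U
  let s : Fin k → (Fin n → F) := fun j => ((b j : ↥U) : Fin n → F)
  have hli : LinearIndependent F s := by
    have := b.linearIndependent
    exact this.map' U.subtype (Submodule.ker_subtype U)
  have hsurj := Cfsg.Agent.Lib.helper6.HF.Lmap_surj (q := q) (n := n) σ hσ hσσ s hli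
  have hker : LinearMap.ker (Cfsg.Agent.Lib.helper6.HF.Lmap (n := n) σ s) = hperp q U := by
    ext w
    rw [LinearMap.mem_ker, mem_hperp]
    constructor
    · intro h u hu
      -- `u` is a combination of the `s j`
      have hu' : u ∈ Submodule.span F (Set.range s) := by
        have h1 : Submodule.span F (Set.range s) = U := by
          have h2 : Set.range s = U.subtype '' (Set.range b) := by
            ext x
            simp only [Set.mem_range, Set.mem_image, s]
            constructor
            · rintro ⟨j, rfl⟩
              exact ⟨b j, ⟨j, rfl⟩, rfl⟩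
            · rintro ⟨_, ⟨j, rfl⟩, rfl⟩
              exact ⟨j, rfl⟩
          rw [h2, Submodule.span_image, b.span_eq, Submodule.map_top, Submodule.range_subtype]
        rw [h1]; exact hu
      refine Submodule.span_induction ?_ ?_ ?_ ?_ hu'
      · rintro _ ⟨j, rfl⟩
        have := congrFun h j
        rw [Cfsg.Agent.Lib.helper6.HF.Lmap_apply σ hσ] at this
        simpa [hermI_fin] using this
      · have hq0 : q ≠ 0 := by
          intro h0
          rw [h0] at hF
          have := Fintype.one_lt_card (α := F)
          omega
        simp [hermI, zero_pow hq0]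
      · intro x y _ _ hx hy
        have : hermI (Fin n) F q w (x + y) = hermI (Fin n) F q w x + hermI (Fin n) F q w y := by
          simp only [hermI, Pi.add_apply]
          rw [← Finset.sum_add_distrib]
          apply Finset.sum_congr rfl
          intro i _
          rw [← hσ, ← hσ, ← hσ, map_add]; ring
        rw [this, hx, hy, add_zero]
      · intro c x _ hx
        rw [hermI_smul_right, hx, mul_zero]
    · intro h
      funext j
      rw [Cfsg.Agent.Lib.helper6.HF.Lmap_apply σ hσ]
      have := h (s j) (b j).2
      simpa [hermI_fin] using this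
  have hrn := LinearMap.finrank_range_add_finrank_ker (Cfsg.Agent.Lib.helper6.HF.Lmap (n := n) σ s)
  rw [LinearMap.range_eq_top.mpr hsurj, finrank_top, hker, Module.finrank_fintype_fun_eq_card,
    Module.finrank_fintype_fun_eq_card, Fintype.card_fin, Fintype.card_fin] at hrn
  omega

theorem perp_dim {F : Type*} [Field F] [Fintype F] {q n : ℕ} (hF : Fintype.card F = q ^ 2)
    (N U : Submodule F (Fin n → F)) (hN : HND q N) (hUN : U ≤ N) :
    finrank F ↥(N ⊓ hperp q U) + finrank F U = finrank F N := by
  have h1 := s5953t3_abs hF U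
  have h2 := s5953t3_abs hF N
  -- `hperp N ≤ hperp U`
  have hle : hperp q N ≤ hperp q U := fun u hu w hw => hu w (hUN hw)
  -- `N ⊓ hperp N = ⊥`
  have hdisj : N ⊓ hperp q N = ⊥ := by
    rw [eq_bot_iff]
    intro u hu
    rw [Submodule.mem_bot]
    exact hN u hu.1 hu.2
  -- `N ⊔ hperp N = ⊤`
  have hsup : N ⊔ hperp q N = ⊤ := by
    apply Submodule.eq_top_of_finrank_eq
    have := Submodule.finrank_sup_add_finrank_inf_eq N (hperp q N)
    rw [hdisj, finrank_bot, Module.finrank_fintype_fun_eq_card, Fintype.card_fin] at *
    omega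
  -- modular law
  have hmod : hperp q N ⊔ N ⊓ hperp q U = hperp q U := by
    rw [← sup_inf_assoc_of_le N hle, sup_comm, hsup, top_inf_eq]
  have hinf : hperp q N ⊓ (N ⊓ hperp q U) = ⊥ := by
    rw [eq_bot_iff, ← hdisj]
    intro u hu
    exact ⟨hu.2.1, hu.1⟩
  have h3 := Submodule.finrank_sup_add_finrank_inf_eq (hperp q N) (N ⊓ hperp q U)
  rw [hmod, hinf, finrank_bot] at h3
  omega

end Cfsg.Agent.Lib.helper3.S5953
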