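import Mathlib
import Cfsg.Agent.Lib.Helper27.STU.Defs
import Cfsg.Agent.Lib.Helper27.STU.Defs2

/-!
# Project STU (designer helper27), row LA1 (block Λ1): `act_one act_act act_mul act_one' act_inv act_zero tr_add tr_zero tr_neg tr_star tr_comm act_tr`
(helper8), VERBATIM.
-/

set_option autoImplicit false

namespace Cfsg.Agent.Lib.Helper27.STU

open Cfsg.Agent.Lib.helper15.St2 Cfsg.Agent.Lib.helper3.STC

namespace Lam

variable {F : Type*} [Field F] [StarRing F] {od : Prop}

/-- Λ1 [S] -/
theorem act_one (ξ : Lam F od) : act 1 ξ = ξ := by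
  ext
  · simp
  · simp

theorem act_act (s t : F) (ξ : Lam F od) : act s (act t ξ) = act (s * t) ξ := by
  ext
  · simp only [act_v]; ring
  · simp only [act_c, star_mul']; ring

theorem act_mul (t : F) (ξ η : Lam F od) : act t (ξ * η) = act t ξ * act t η := by
  ext
  · simp only [act_v, mul_v]; ring
  · simp only [act_c, act_v, mul_c, star_mul']; ring

theorem act_one' (t : F) : act t (1 : Lam F od) = 1 := by
  ext
  · simp
  · simp

theorem act_inv (t : F) (ξ : Lam F od) : act t ξ⁻¹ = (act t ξ)⁻¹ := by
  ext
  · simp only [act_v, inv_v]; ring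
  · simp only [act_c, inv_c, star_mul', star_star]; ring

theorem act_zero (ξ : Lam F od) : act 0 ξ = 1 := by
  ext
  · simp
  · simp

theorem tr_add (t u : F) : (tr (t + u) : Lam F od) = tr t * tr u := by
  ext
  · simp
  · simp only [tr_c, mul_c, tr_v, star_add, zero_mul]; ring

theorem tr_zero : (tr 0 : Lam F od) = 1 := by
  ext
  · simp
  · simp

theorem tr_neg (t : F) : (tr (-t) : Lam F od) = (tr t)⁻¹ := by
  ext
  · simp
  · simp only [tr_c, inv_c, star_neg, star_sub, star_star]; ring

theorem tr_star (t : F) : (tr (star t) : Lam F od) = (tr t)⁻¹ := by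
  ext
  · simp
  · simp only [tr_c, inv_c, star_sub, star_star]

/-- `tr t` is central -/
theorem tr_comm (t : F) (ξ : Lam F od) : tr t * ξ = ξ * tr t := by
  ext
  · simp only [mul_v, tr_v]; ring
  · simp only [mul_c, tr_c, tr_v, star_zero, zero_mul, mul_zero]; ring

theorem act_tr (s t : F) : act s (tr t : Lam F od) = tr (s * star s * t) := by
  ext
  · simp
  · simp only [act_c, tr_c, star_mul', star_star]; ring

end Lam

end Cfsg.Agent.Lib.Helper27.STU
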