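import Mathlib
import Cfsg.Agent.Lib.helper8.SylowBasic

set_option autoImplicit false

namespace Cfsg.Agent.Lib.helper8

open Subgroup

theorem h8_card_ne_one_subgroup {G : Type*} [Group G] [Finite G] (H : Subgroup G) :
    Nat.card {g : G // g ∈ H ∧ g ≠ 1} = Nat.card H - 1 := by
  classical
  have e : {g : G // g ∈ H ∧ g ≠ 1} ≃ {h : H // h ≠ 1} :=
    ⟨fun g => ⟨⟨g.1, g.2.1⟩, fun h => g.2.2 (congrArg Subtype.val h)⟩,
     fun h => ⟨h.1.1, h.1.2, fun hh => h.2 (Subtype.ext hh)⟩,
     fun g => rfl, fun h => rfl⟩
  rw [Nat.card_congr e]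
  haveI : Fintype H := Fintype.ofFinite _
  rw [Nat.card_eq_fintype_card, Nat.card_eq_fintype_card, Fintype.card_subtype_compl,
    Fintype.card_subtype_eq]

theorem h8_orderOf_eq_of_mem {G : Type*} [Group G] [Finite G] (p : ℕ) (hp : p.Prime)
    (H : Subgroup G) (hH : Nat.card H = p) (g : G) (hg : g ∈ H) (hg1 : g ≠ 1) : orderOf g = p := by
  have h1 : orderOf g ∣ p := by
    rw [← hH]
    exact Subgroup.orderOf_dvd_natCard _ hg
  rcases (Nat.dvd_prime hp).mp h1 with h | h
  · exact absurd (orderOf_eq_one_iff.mp h) hg1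
  · exact h

theorem h8_card_orderOf_eq_prime {G : Type*} [Group G] [Finite G] (p m : ℕ) [hp : Fact p.Prime]
    (hG : Nat.card G = p * m) (hm : ¬ p ∣ m) :
    Nat.card {g : G // orderOf g = p} = Nat.card (Sylow p G) * (p - 1) := by
  classical
  have hG' : Nat.card G = p ^ 1 * m := by rw [pow_one]; exact hG
  have hcard : ∀ P : Sylow p G, Nat.card (P : Subgroup G) = p := fun P => by
    have := h8_sylow_card p 1 m hG' hm P
    rwa [pow_one] at this
  have hfact : (Nat.card G).factorization p = 1 :=
    h8_factorization_of_eq p 1 m _ hp.out hG' hm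
  let e : {g : G // orderOf g = p} ≃ Σ P : Sylow p G, {g : G // g ∈ (P : Subgroup G) ∧ g ≠ 1} :=
    { toFun := fun g => ⟨Sylow.ofCard (zpowers g.1) (by
          rw [Nat.card_zpowers, g.2, hfact, pow_one]), g.1, by
          rw [Sylow.coe_ofCard]; exact mem_zpowers g.1, by
          intro h
          have := g.2
          rw [h, orderOf_one] at this
          exact hp.out.one_lt.ne this⟩
      invFun := fun x => ⟨x.2.1, h8_orderOf_eq_of_mem p hp.out _ (hcard x.1) _ x.2.2.1 x.2.2.2⟩
      left_inv := fun g => rfl
      right_inv := fun x => by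
        obtain ⟨P, g, hgP, hg1⟩ := x
        have h1 : orderOf g = p := h8_orderOf_eq_of_mem p hp.out _ (hcard P) _ hgP hg1
        have hP : Sylow.ofCard (zpowers g) (by
            rw [Nat.card_zpowers, h1, hfact, pow_one]) = P := by
          apply Sylow.ext
          rw [Sylow.coe_ofCard]
          apply Subgroup.eq_of_le_of_card_ge
          · rw [zpowers_le]; exact hgP
          · rw [hcard P, Nat.card_zpowers, h1]
        simp only
        subst hP
        rfl }
  haveI : Fintype (Sylow p G) := Fintype.ofFinite _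
  rw [Nat.card_congr e, Nat.card_sigma]
  rw [Finset.sum_congr rfl (fun P _ => by rw [h8_card_ne_one_subgroup, hcard P])]
  simp [Nat.card_eq_fintype_card]

end Cfsg.Agent.Lib.helper8

namespace Cfsg.Agent.Lib.helper8

theorem h8_sum_card_orderOf_le {G : Type*} [Group G] [Finite G] (S : Finset ℕ) :
    ∑ d ∈ S, Nat.card {g : G // orderOf g = d} ≤ Nat.card G := by
  classical
  haveI : Fintype G := Fintype.ofFinite _
  have h1 : ∀ d, Nat.card {g : G // orderOf g = d} =
      ((Finset.univ : Finset G).filter (fun g => orderOf g = d)).card := by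
    intro d
    rw [Nat.card_eq_fintype_card, Fintype.card_subtype]
  simp_rw [h1]
  have h2 : ((Finset.univ : Finset G).filter (fun g => orderOf g ∈ S)).card =
      ∑ d ∈ S, (((Finset.univ : Finset G).filter (fun g => orderOf g ∈ S)).filter
        (fun g => orderOf g = d)).card :=
    Finset.card_eq_sum_card_fiberwise (fun g hg => (Finset.mem_filter.mp hg).2)
  have h3 : ∑ d ∈ S, (((Finset.univ : Finset G).filter (fun g => orderOf g ∈ S)).filter
        (fun g => orderOf g = d)).card =
      ∑ d ∈ S, ((Finset.univ : Finset G).filter (fun g => orderOf g = d)).card := by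
    apply Finset.sum_congr rfl
    intro d hd
    congr 1
    ext g
    simp only [Finset.mem_filter, Finset.mem_univ, true_and]
    constructor
    · intro h; exact h.2
    · intro h; exact ⟨h ▸ hd, h⟩
  rw [← h3, ← h2, Nat.card_eq_fintype_card]
  exact Finset.card_le_univ _

end Cfsg.Agent.Lib.helper8
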