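import Mathlib
import Cfsg.Prelude.Def_ChevStructure
import Cfsg.Agent.Lib.helper8.ChevBr3
import Cfsg.Agent.Lib.helper8.ChevTits2

set_option autoImplicit false

namespace Cfsg.Agent.Lib.helper8

open Cfsg.Lie Cfsg.Lie.ChevalleyDatum

universe u

variable {F : Type u} [Field F]

theorem h8Vk_mono_le (D : ChevalleyDatum) (k l : ℕ) (hkl : k ≤ l) :
    Subgroup.closure (h8VkSet D F l) ≤ Subgroup.closure (h8VkSet D F k) := by
  apply Subgroup.closure_mono
  rintro g ⟨r, t, hr, hlr, hg⟩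
  exact ⟨r, t, hr, by omega, hg⟩

theorem h8x_inj_pos_lt (D : ChevalleyDatum) (hB : H8Base.{u} D) (hO2 : H8Ord2 D) (r r' : ℕ)
    (hr : D.IsPosRoot r) (hr' : D.IsPosRoot r') (hlt : r < r') (c c' : F) (hc : c ≠ 0)
    (h : h8xU D hB r c = h8xU D hB r' c') : False := by
  apply hc
  apply h8x_not_mem_Vk D hB hO2 r hr c
  rw [h]
  apply h8Vk_mono_le D (r + 1) r' (by omega)
  apply Subgroup.subset_closure
  exact ⟨r', c', hr', le_refl _, h8xU_val D hB r' c'⟩

theorem h8x_inj_pos (D : ChevalleyDatum) (hB : H8Base.{u} D) (hO2 : H8Ord2 D) (r r' : ℕ)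
    (hr : D.IsPosRoot r) (hr' : D.IsPosRoot r') (c c' : F) (hc : c ≠ 0) (hc' : c' ≠ 0)
    (h : h8xU D hB r c = h8xU D hB r' c') : r = r' := by
  rcases Nat.lt_trichotomy r r' with hlt | heq | hgt
  · exact (h8x_inj_pos_lt D hB hO2 r r' hr hr' hlt c c' hc h).elim
  · exact heq
  · exact (h8x_inj_pos_lt D hB hO2 r' r hr' hr hgt c' c hc' h.symm).elim

theorem h8x_pos_ne_neg (D : ChevalleyDatum) (hB : H8Base.{u} D) (hBN : H8BN D) (hW : H8BN2 D)
    (hA : H8ReflAll D) (r r' : ℕ)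
    (hr : D.IsPosRoot r) (hr' : D.IsNegRoot r') (c c' : F) (hc : c ≠ 0)
    (h : h8xU D hB r c = h8xU D hB r' c') : False := by
  obtain ⟨w, hw⟩ := hW.w0
  obtain ⟨_, _, _, hne⟩ := h8w0Chk_spec D hA w hw
  have h1 : h8xU D hB r c ∈ D.borelSubgroup F ⊓ D.negUnipotent F := by
    rw [Subgroup.mem_inf]
    refine ⟨h8U_le_B D (h8xU_mem_U D hB r hr c), ?_⟩
    rw [h]
    exact h8xU_mem_V D hB r' hr' c'
  rw [h8_B_inf_V D hB hBN.negOK, Subgroup.mem_bot] at h1
  apply hc
  apply h8x_eq_one D (fun s hs => ⟨hW.neglt s hs, hne s hs⟩) r hr.1 c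
  rw [← h8xU_val D hB r c, h1]
  rfl

theorem h8x_inj_root (D : ChevalleyDatum) (hB : H8Base.{u} D) (hA : H8ReflAll D) (hBN : H8BN D)
    (hW : H8BN2 D) (hO2 : H8Ord2 D) (r r' : ℕ) (hr : r < D.nroots) (hr' : r' < D.nroots)
    (c c' : F) (hc : c ≠ 0) (hc' : c' ≠ 0)
    (h : h8xU D hB r c = h8xU D hB r' c') : r = r' := by
  rcases hB.posneg r hr with hp | hn
  · rcases hB.posneg r' hr' with hp' | hn'
    · exact h8x_inj_pos D hB hO2 r r' hp hp' c c' hc hc' h
    · exact (h8x_pos_ne_neg D hB hBN hW hA r r' hp hn' c c' hc h).elim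
  · rcases hB.posneg r' hr' with hp' | hn'
    · exact (h8x_pos_ne_neg D hB hBN hW hA r' r hp' hn c' c hc' h.symm).elim
    · obtain ⟨w, hw⟩ := hW.w0
      obtain ⟨hwr, _, hnp, _⟩ := h8w0Chk_spec D hA w hw
      have hwr' : ∀ i ∈ w.reverse, i < D.rank := fun i hi => hwr i (List.mem_reverse.mp hi)
      obtain ⟨a, ha, h1, _⟩ := h8actN_word (F := F) D hB hA w.reverse hwr' r hr
      obtain ⟨a', ha', h1', _⟩ := h8actN_word (F := F) D hB hA w.reverse hwr' r' hr'
      have e := h1 c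
      rw [h, h1' c'] at e
      have := h8x_inj_pos D hB hO2 _ _ (hnp r' hn') (hnp r hn) (a' * c') (a * c)
        (mul_ne_zero ha' hc') (mul_ne_zero ha hc) e
      have e2 := h8sW_reverse D hA w hwr r hr
      have e3 := h8sW_reverse D hA w hwr r' hr'
      rw [← e2, ← e3, this]

theorem h8act_unique (D : ChevalleyDatum) (hB : H8Base.{u} D) (hA : H8ReflAll D) (hBN : H8BN D)
    (hW : H8BN2 D) (hO2 : H8Ord2 D) (g : GL D.Idx F) (r r' r'' : ℕ)
    (hr' : r' < D.nroots) (hr'' : r'' < D.nroots)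
    (h' : H8Act D hB g r r') (h'' : H8Act D hB g r r'') : r' = r'' := by
  obtain ⟨c, hc, h1⟩ := h'
  obtain ⟨c', hc', h2⟩ := h''
  have e := h1 1
  rw [h2 1] at e
  exact (h8x_inj_root D hB hA hBN hW hO2 r'' r' hr'' hr' (c' * 1) (c * 1)
    (by simpa using hc') (by simpa using hc) e).symm

noncomputable def h8permOf (D : ChevalleyDatum) (hB : H8Base.{u} D) (g : GL D.Idx F)
    (h : H8Perm D hB g) : Equiv.Perm (Fin D.nroots) where
  toFun r := ⟨Classical.choose h r.val, (Classical.choose_spec (Classical.choose_spec h)).1 r.val r.2⟩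
  invFun r := ⟨Classical.choose (Classical.choose_spec h) r.val,
    (Classical.choose_spec (Classical.choose_spec h)).2.1 r.val r.2⟩
  left_inv r := by
    apply Fin.ext
    exact (Classical.choose_spec (Classical.choose_spec h)).2.2.1 r.val r.2
  right_inv r := by
    apply Fin.ext
    exact (Classical.choose_spec (Classical.choose_spec h)).2.2.2.1 r.val r.2

theorem h8permOf_act (D : ChevalleyDatum) (hB : H8Base.{u} D) (g : GL D.Idx F)
    (h : H8Perm D hB g) (r : Fin D.nroots) : H8Act D hB g r.val (h8permOf D hB g h r).val :=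
  (Classical.choose_spec (Classical.choose_spec h)).2.2.2.2.2.2 r.val r.2

theorem h8permOf_eq (D : ChevalleyDatum) (hB : H8Base.{u} D) (hA : H8ReflAll D) (hBN : H8BN D)
    (hW : H8BN2 D) (hO2 : H8Ord2 D) (g : GL D.Idx F) (h : H8Perm D hB g) (r r' : Fin D.nroots)
    (hact : H8Act D hB g r.val r'.val) : h8permOf D hB g h r = r' := by
  apply Fin.ext
  exact h8act_unique D hB hA hBN hW hO2 g r.val _ _ (h8permOf D hB g h r).2 r'.2
    (h8permOf_act D hB g h r) hact

end Cfsg.Agent.Lib.helper8
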