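import Mathlib
import Cfsg.Prelude.Def_ChevStructure
import Cfsg.Agent.Lib.helper8.ChevTits3
import Cfsg.Agent.Lib.helper8.ChevCnt1

set_option autoImplicit false

namespace Cfsg.Agent.Lib.helper8

open Cfsg.Lie Cfsg.Lie.ChevalleyDatum

universe u

variable {F : Type u} [Field F]

theorem h8over_word (D : ChevalleyDatum) (hB : H8Base.{u} D) (hA : H8ReflAll D)
    (hC : H8CommAll.{u} D) (hBN : H8BN D) (hW : H8BN2 D) (hO2 : H8Ord2 D)
    (P : Subgroup (GL D.Idx F)) (hBP : D.borelSubgroup F ≤ P) :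
    ∀ (k : ℕ) (w : List ℕ), w.length = k → (∀ i ∈ w, i < D.rank) →
      (h8nWU D hB w : GL D.Idx F) ∈ P →
      (h8nWU D hB w : GL D.Idx F) ∈ D.borelSubgroup F ⊔ Subgroup.closure
        {g : GL D.Idx F | ∃ i < D.rank, g = h8nU D hB (D.simple i) (1 : F) ∧ g ∈ P} := by
  intro k
  induction k using Nat.strong_induction_on with
  | _ k ih =>
    intro w hlen hw hwP
    by_cases hT : (h8nWU D hB w : GL D.Idx F) ∈ D.diagonalSubgroup F
    · exact Subgroup.mem_sup_left (h8H_le_B D hT)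
    · have hwN := h8nWU_mem_N (F := F) D hB hA w hw
      obtain ⟨i, hi, r', hr', hact⟩ := h8N_not_T D hB hA hBN hW hO2 _ hwN hT
      have hni : h8nU D hB (D.simple i) (1 : F) ∈ P :=
        h8simple_mem_of_neg D hB hBN P hBP _ hwP i hi r' hr' hact
      have hpi := h8simple_pos D hBN i hi
      have hnlt := (hO2.negneg _ hpi.1).1
      have hwr : ∀ j ∈ w.reverse, j < D.rank := fun j hj => hw j (List.mem_reverse.mp hj)
      have hact2 := h8actN_act D hB _ _ _ (h8actN_word_inv (F := F) D hB hA w hw _ hnlt)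
      have heq := h8act_unique D hB hA hBN hW hO2 _ _ _ _ hr'.1
        (h8sW_lt D hA _ hwr _ hnlt) hact hact2
      have hpos : D.IsPosRoot (h8sW D w.reverse (D.negIdx.getD (D.simple i) 0)) := heq ▸ hr'
      obtain ⟨v1, j, v2, hsplit, hval⟩ := h8exch_split D hB hA hBN hO2 w hw _
        (h8neg_of_pos D hB hO2 _ hpi) hpos
      have hv1 : ∀ a ∈ v1, a < D.rank := fun a ha => hw a (by rw [hsplit]; simp [ha])
      have hv2 : ∀ a ∈ v2, a < D.rank := fun a ha => hw a (by rw [hsplit]; simp [ha])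
      have hj : j < D.rank := hw j (by rw [hsplit]; simp)
      obtain ⟨t, ht, e⟩ := h8deletion (F := F) D hB hA hBN hO2 i hi v1 j v2 hv1 hj hval
      rw [← hsplit, h8nWU_cons] at e
      have hw' : ∀ a ∈ v1 ++ v2, a < D.rank := by
        intro a ha
        rcases List.mem_append.mp ha with h | h
        · exact hv1 a h
        · exact hv2 a h
      have hlen' : (v1 ++ v2).length < k := by
        rw [← hlen, hsplit, List.length_append, List.length_append, List.length_cons]
        omega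
      have htP : t ∈ P := hBP (h8H_le_B D ht)
      have hw'P : (h8nWU D hB (v1 ++ v2) : GL D.Idx F) ∈ P := by
        have : (h8nWU D hB (v1 ++ v2) : GL D.Idx F) =
            t⁻¹ * (h8nU D hB (D.simple i) 1 * h8nWU D hB w) := by
          rw [e]; group
        rw [this]
        exact Subgroup.mul_mem _ (Subgroup.inv_mem _ htP) (Subgroup.mul_mem _ hni hwP)
      have hQ := ih _ hlen' (v1 ++ v2) rfl hw' hw'P
      have hniQ : h8nU D hB (D.simple i) (1 : F) ∈ D.borelSubgroup F ⊔ Subgroup.closure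
          {g : GL D.Idx F | ∃ i < D.rank, g = h8nU D hB (D.simple i) (1 : F) ∧ g ∈ P} :=
        Subgroup.mem_sup_right (Subgroup.subset_closure ⟨i, hi, rfl, hni⟩)
      have htQ : t ∈ D.borelSubgroup F ⊔ Subgroup.closure
          {g : GL D.Idx F | ∃ i < D.rank, g = h8nU D hB (D.simple i) (1 : F) ∧ g ∈ P} :=
        Subgroup.mem_sup_left (h8H_le_B D ht)
      have : (h8nWU D hB w : GL D.Idx F) =
          (h8nU D hB (D.simple i) 1)⁻¹ * (t * h8nWU D hB (v1 ++ v2)) := by
        rw [← e]; group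
      rw [this]
      exact Subgroup.mul_mem _ (Subgroup.inv_mem _ hniQ) (Subgroup.mul_mem _ htQ hQ)

theorem h8overgroup (D : ChevalleyDatum) (hB : H8Base.{u} D) (hA : H8ReflAll D)
    (hC : H8CommAll.{u} D) (hBN : H8BN D) (hW : H8BN2 D) (hO2 : H8Ord2 D)
    (P : Subgroup (GL D.Idx F)) (hBP : D.borelSubgroup F ≤ P) :
    P ⊓ D.group F ≤ D.borelSubgroup F ⊔ Subgroup.closure
      {g : GL D.Idx F | ∃ i < D.rank, g = h8nU D hB (D.simple i) (1 : F) ∧ g ∈ P} := by
  intro g hg
  rw [Subgroup.mem_inf] at hg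
  obtain ⟨b, hb, n, hn, b', hb', e⟩ := h8bruhat D hB hA hC hBN hW g hg.2
  obtain ⟨t, ht, w, hw, rfl⟩ := h8N_word D hB hA hBN n hn
  have hwP : (h8nWU D hB w : GL D.Idx F) ∈ P := by
    have : (h8nWU D hB w : GL D.Idx F) = t⁻¹ * (b⁻¹ * g * b'⁻¹) := by
      rw [e]; group
    rw [this]
    exact Subgroup.mul_mem _ (Subgroup.inv_mem _ (hBP (h8H_le_B D ht)))
      (Subgroup.mul_mem _ (Subgroup.mul_mem _ (Subgroup.inv_mem _ (hBP hb)) hg.1)
        (Subgroup.inv_mem _ (hBP hb')))
  have hQ := h8over_word D hB hA hC hBN hW hO2 P hBP _ w rfl hw hwP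
  rw [e]
  exact Subgroup.mul_mem _ (Subgroup.mul_mem _ (Subgroup.mem_sup_left hb)
    (Subgroup.mul_mem _ (Subgroup.mem_sup_left (h8H_le_B D ht)) hQ)) (Subgroup.mem_sup_left hb')

end Cfsg.Agent.Lib.helper8
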