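import Mathlib
import Cfsg.Prelude.Def_ChevStructure
import Cfsg.Agent.Lib.helper8.ChevCnt1

set_option autoImplicit false

namespace Cfsg.Agent.Lib.helper8

open Cfsg.Lie Cfsg.Lie.ChevalleyDatum

universe u

variable {F : Type u} [Field F]

theorem h8refl_lt (D : ChevalleyDatum) (hA : H8ReflAll D) (i : ℕ) (hi : i < D.rank) (s : ℕ)
    (hs : s < D.nroots) : D.reflectRoot i s < D.nroots := by
  obtain ⟨η, hR⟩ := h8reflAll_spec D hA i hi
  exact hR.lt s hs

theorem h8refl_invol (D : ChevalleyDatum) (hA : H8ReflAll D) (i : ℕ) (hi : i < D.rank) (s : ℕ)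
    (hs : s < D.nroots) : D.reflectRoot i (D.reflectRoot i s) = s := by
  obtain ⟨η, hR⟩ := h8reflAll_spec D hA i hi
  exact hR.invol s hs

def h8sPerm (D : ChevalleyDatum) (hA : H8ReflAll D) (i : ℕ) : Equiv.Perm (Fin D.nroots) :=
  if hi : i < D.rank then
    { toFun := fun r => ⟨D.reflectRoot i r.val, h8refl_lt D hA i hi r.val r.2⟩
      invFun := fun r => ⟨D.reflectRoot i r.val, h8refl_lt D hA i hi r.val r.2⟩
      left_inv := fun r => Fin.ext (h8refl_invol D hA i hi r.val r.2)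
      right_inv := fun r => Fin.ext (h8refl_invol D hA i hi r.val r.2) }
  else 1

theorem h8sPerm_val (D : ChevalleyDatum) (hA : H8ReflAll D) (i : ℕ) (hi : i < D.rank)
    (r : Fin D.nroots) : (h8sPerm D hA i r).val = D.reflectRoot i r.val := by
  unfold h8sPerm
  rw [dif_pos hi]
  rfl

theorem h8sPerm_inv (D : ChevalleyDatum) (hA : H8ReflAll D) (i : ℕ) :
    (h8sPerm D hA i)⁻¹ = h8sPerm D hA i := by
  by_cases hi : i < D.rank
  · apply Equiv.ext
    intro r
    apply Fin.ext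
    rw [Equiv.Perm.inv_def]
    unfold h8sPerm
    rw [dif_pos hi]
    rfl
  · unfold h8sPerm
    rw [dif_neg hi, inv_one]

def h8wPerm (D : ChevalleyDatum) (hA : H8ReflAll D) (w : List ℕ) : Equiv.Perm (Fin D.nroots) :=
  (w.map (h8sPerm D hA)).prod

theorem h8wPerm_val (D : ChevalleyDatum) (hA : H8ReflAll D) (w : List ℕ)
    (hw : ∀ i ∈ w, i < D.rank) (r : Fin D.nroots) :
    (h8wPerm D hA w r).val = h8sW D w r.val := by
  induction w with
  | nil => rfl
  | cons i w ih =>
    have hw' : ∀ j ∈ w, j < D.rank := fun j hj => hw j (List.mem_cons_of_mem _ hj)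
    have e : h8wPerm D hA (i :: w) = h8sPerm D hA i * h8wPerm D hA w := by
      unfold h8wPerm
      rw [List.map_cons, List.prod_cons]
    rw [e, Equiv.Perm.mul_apply, h8sPerm_val D hA i (hw i List.mem_cons_self), ih hw']
    rfl

theorem h8wPerm_inv (D : ChevalleyDatum) (hA : H8ReflAll D) (w : List ℕ) :
    (h8wPerm D hA w)⁻¹ = h8wPerm D hA w.reverse := by
  unfold h8wPerm
  rw [List.prod_inv_reverse, List.map_map, List.map_reverse]
  congr 2
  apply List.map_congr_left
  intro i _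
  exact h8sPerm_inv D hA i

def h8W (D : ChevalleyDatum) (hA : H8ReflAll D) : Subgroup (Equiv.Perm (Fin D.nroots)) :=
  Subgroup.closure {π | ∃ i < D.rank, π = h8sPerm D hA i}

theorem h8W_mem_iff (D : ChevalleyDatum) (hA : H8ReflAll D) (π : Equiv.Perm (Fin D.nroots)) :
    π ∈ h8W D hA ↔ ∃ w : List ℕ, (∀ i ∈ w, i < D.rank) ∧ π = h8wPerm D hA w := by
  constructor
  · intro h
    unfold h8W at h
    induction h using Subgroup.closure_induction with
    | mem x hx =>
      obtain ⟨i, hi, rfl⟩ := hx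
      refine ⟨[i], ?_, ?_⟩
      · intro j hj
        rw [List.mem_singleton] at hj
        rw [hj]; exact hi
      · unfold h8wPerm
        simp
    | one => exact ⟨[], by simp, rfl⟩
    | mul a b _ _ ha hb =>
      obtain ⟨w1, hw1, rfl⟩ := ha
      obtain ⟨w2, hw2, rfl⟩ := hb
      refine ⟨w1 ++ w2, ?_, ?_⟩
      · intro i hi
        rcases List.mem_append.mp hi with h | h
        · exact hw1 i h
        · exact hw2 i h
      · unfold h8wPerm
        rw [List.map_append, List.prod_append]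
    | inv a _ ha =>
      obtain ⟨w, hw, rfl⟩ := ha
      exact ⟨w.reverse, fun i hi => hw i (List.mem_reverse.mp hi), h8wPerm_inv D hA w⟩
  · rintro ⟨w, hw, rfl⟩
    unfold h8wPerm h8W
    apply Subgroup.list_prod_mem
    intro x hx
    rw [List.mem_map] at hx
    obtain ⟨i, hi, rfl⟩ := hx
    exact Subgroup.subset_closure ⟨i, hw i hi, rfl⟩

theorem h8permOf_word (D : ChevalleyDatum) (hB : H8Base.{u} D) (hA : H8ReflAll D) (hBN : H8BN D)
    (hW : H8BN2 D) (hO2 : H8Ord2 D) (t : GL D.Idx F) (ht : t ∈ D.diagonalSubgroup F)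
    (w : List ℕ) (hw : ∀ i ∈ w, i < D.rank) (h : H8Perm D hB (t * h8nWU D hB w)) :
    h8permOf D hB (t * h8nWU D hB w) h = h8wPerm D hA w := by
  apply Equiv.ext
  intro r
  apply h8permOf_eq D hB hA hBN hW hO2
  rw [h8wPerm_val D hA w hw r]
  have h1 := h8actN_act D hB _ _ _ (h8actN_word (F := F) D hB hA w hw r.val r.2)
  have h2 := h8perm_H_id D hB t ht (h8sW D w r.val) (h8sW_lt D hA w hw r.val r.2)
  exact h8act_mul D hB t _ _ _ _ h1 h2

def h8Ninv (D : ChevalleyDatum) (π : Equiv.Perm (Fin D.nroots)) : ℕ :=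
  (Finset.univ.filter fun r : Fin D.nroots => D.IsPosRoot r.val ∧ ¬ D.IsPosRoot (π r).val).card

theorem h8pos_not_neg (D : ChevalleyDatum) (hB : H8Base.{u} D) (hBN : H8BN D) (r : ℕ)
    (hp : D.IsPosRoot r) (hn : D.IsNegRoot r) : False := by
  have h1 := (h8PosOK_spec hB.posOK hp).1
  have h2 := (h8NegOK_spec hBN.negOK hn).1
  omega

theorem h8perm_kernel (D : ChevalleyDatum) (hB : H8Base.{u} D) (hA : H8ReflAll D) (hBN : H8BN D)
    (hW : H8BN2 D) (hO2 : H8Ord2 D) (n : GL D.Idx F) (hn : n ∈ D.monomialSubgroup F)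
    (h : H8Perm D hB n) (hN : h8Ninv D (h8permOf D hB n h) = 0) : n ∈ D.diagonalSubgroup F := by
  by_contra hnT
  obtain ⟨i, hi, r', hr', hact⟩ := h8N_not_T D hB hA hBN hW hO2 n hn hnT
  have hpi := h8simple_pos D hBN i hi
  have hneg := h8neg_of_pos D hB hO2 _ hpi
  have hact' := h8act_inv D hB _ _ _ hact
  rw [inv_inv] at hact'
  have e := h8permOf_eq D hB hA hBN hW hO2 n h ⟨r', hr'.1⟩ ⟨_, hneg.1⟩ hact'
  unfold h8Ninv at hN
  rw [Finset.card_eq_zero, Finset.filter_eq_empty_iff] at hN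
  apply hN (Finset.mem_univ ⟨r', hr'.1⟩)
  refine ⟨hr', ?_⟩
  rw [e]
  intro hp
  exact h8pos_not_neg D hB hBN _ hp hneg

theorem h8permOf_mul_H (D : ChevalleyDatum) (hB : H8Base.{u} D) (hA : H8ReflAll D) (hBN : H8BN D)
    (hW : H8BN2 D) (hO2 : H8Ord2 D) (n t : GL D.Idx F) (ht : t ∈ D.diagonalSubgroup F)
    (h : H8Perm D hB n) (h' : H8Perm D hB (n * t)) :
    h8permOf D hB (n * t) h' = h8permOf D hB n h := by
  apply Equiv.ext
  intro r
  apply h8permOf_eq D hB hA hBN hW hO2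
  exact h8act_mul D hB n t _ _ _ (h8perm_H_id D hB t ht r.val r.2) (h8permOf_act D hB n h r)

theorem h8cell_iff (D : ChevalleyDatum) (hB : H8Base.{u} D) (hA : H8ReflAll D)
    (hC : H8CommAll.{u} D) (hBN : H8BN D) (hW : H8BN2 D) (hO2 : H8Ord2 D)
    (n n' : GL D.Idx F) (hn : n ∈ D.monomialSubgroup F) (hn' : n' ∈ D.monomialSubgroup F)
    (h : H8Perm D hB n) (h' : H8Perm D hB n') :
    (∃ b1 ∈ D.borelSubgroup F, ∃ b2 ∈ D.borelSubgroup F, n = b1 * n' * b2) ↔
      h8permOf D hB n h = h8permOf D hB n' h' := by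
  constructor
  · intro hcell
    have hH := h8cell_disjoint D hB hA hC hBN n n' hn hn' hcell
    have e : n' = n * (n⁻¹ * n') := by group
    have h'' : H8Perm D hB (n * (n⁻¹ * n')) := by rw [← e]; exact h'
    have := h8permOf_mul_H D hB hA hBN hW hO2 n (n⁻¹ * n') hH h h''
    rw [← this]
    congr 1
    exact e.symm
  · intro heq
    have hperm : H8Perm D hB (n⁻¹ * n') := h8perm_mul D hB _ _ (h8perm_inv D hB n h) h'
    have hone : h8permOf D hB (n⁻¹ * n') hperm = 1 := by
      apply Equiv.ext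
      intro r
      apply h8permOf_eq D hB hA hBN hW hO2
      rw [Equiv.Perm.one_apply]
      have h1 := h8permOf_act D hB n' h' r
      have h2 := h8act_inv D hB _ _ _ (h8permOf_act D hB n h r)
      rw [heq] at h2
      exact h8act_mul D hB n⁻¹ n' _ _ _ h1 h2
    have hker := h8perm_kernel D hB hA hBN hW hO2 (n⁻¹ * n')
      (Subgroup.mul_mem _ (Subgroup.inv_mem _ hn) hn') hperm (by
        rw [hone]
        unfold h8Ninv
        rw [Finset.card_eq_zero, Finset.filter_eq_empty_iff]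
        intro r _ hr
        exact hr.2 hr.1)
    refine ⟨1, Subgroup.one_mem _, (n⁻¹ * n')⁻¹, h8H_le_B D (Subgroup.inv_mem _ hker), ?_⟩
    group

end Cfsg.Agent.Lib.helper8
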