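import Mathlib
import Cfsg.Prelude.Def_ChevStructure
import Cfsg.Agent.Lib.helper8.ChevCnt2

set_option autoImplicit false

namespace Cfsg.Agent.Lib.helper8

open Cfsg.Lie Cfsg.Lie.ChevalleyDatum

universe u

variable {F : Type u} [Field F]

theorem h8ordQ_mem_Vk (D : ChevalleyDatum) (hB : H8Base.{u} D) (P : ℕ → Bool) (k : ℕ)
    (t : ℕ → F) : h8wordU D hB (h8ordQ D P k t) ∈ Subgroup.closure (h8VkSet D F k) := by
  unfold h8wordU
  apply Subgroup.list_prod_mem
  intro g hg
  rw [List.mem_map] at hg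
  obtain ⟨q, hq, rfl⟩ := hg
  unfold h8ordQ at hq
  rw [List.mem_map] at hq
  obtain ⟨r, hr, rfl⟩ := hq
  apply Subgroup.subset_closure
  obtain ⟨h1, _⟩ := List.mem_filter.mp (List.mem_reverse.mp hr)
  obtain ⟨h2, h3⟩ := (h8Lk_mem D k r).mp h1
  exact ⟨r, t r, h3, h2, h8xU_val D hB _ _⟩

theorem h8ordQ_congr' (D : ChevalleyDatum) (P : ℕ → Bool) (k : ℕ) (t t' : ℕ → F)
    (h : ∀ r ∈ h8Lk D k, P r = false → t r = t' r) : h8ordQ D P k t = h8ordQ D P k t' := by
  unfold h8ordQ
  apply List.map_congr_left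
  intro r hr
  obtain ⟨h1, h2⟩ := List.mem_filter.mp (List.mem_reverse.mp hr)
  rw [h r h1 (by simpa using h2)]

theorem h8ordQ_unique (D : ChevalleyDatum) (hB : H8Base.{u} D) (hO : H8Ord2 D) (P : ℕ → Bool) :
    ∀ (m k : ℕ), k + m = D.nroots → ∀ t t' : ℕ → F,
      h8wordU D hB (h8ordQ D P k t) = h8wordU D hB (h8ordQ D P k t') →
      ∀ r ∈ h8Lk D k, P r = false → t r = t' r := by
  intro m
  induction m with
  | zero =>
    intro k hk t t' _ r hr
    obtain ⟨h1, h2⟩ := (h8Lk_mem D k r).mp hr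
    have := h2.1
    omega
  | succ m ih =>
    intro k hk t t' heq r hr hPr
    by_cases hpos : D.IsPosRoot k
    · cases hP : P k with
      | true =>
        have e1 : ∀ s : ℕ → F, h8ordQ D P k s = h8ordQ D P (k + 1) s := by
          intro s
          unfold h8ordQ
          rw [h8Lk_pos D k hpos, List.filter_cons, if_neg (by simp [hP])]
        rw [e1, e1] at heq
        rw [h8Lk_pos D k hpos, List.mem_cons] at hr
        rcases hr with rfl | hr
        · rw [hP] at hPr; cases hPr
        · exact ih (k + 1) (by omega) t t' heq r hr hPr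
      | false =>
        have e1 : ∀ s : ℕ → F, h8wordU D hB (h8ordQ D P k s) =
            h8wordU D hB (h8ordQ D P (k + 1) s) * h8xU D hB k (s k) := by
          intro s
          have : h8ordQ D P k s = h8ordQ D P (k + 1) s ++ [(k, s k)] := by
            unfold h8ordQ
            rw [h8Lk_pos D k hpos, List.filter_cons, if_pos (by simp [hP]), List.reverse_cons,
              List.map_append, List.map_cons, List.map_nil]
          rw [this, h8wordU_append, h8wordU_cons]
          have : (h8wordU D hB [] : GL D.Idx F) = 1 := rfl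
          rw [this, mul_one]
        rw [e1, e1] at heq
        have hP1 := h8ordQ_mem_Vk D hB P (k + 1) t
        have hP2 := h8ordQ_mem_Vk D hB P (k + 1) t'
        have hmem : h8xU D hB k (t k - t' k) ∈ Subgroup.closure (h8VkSet D F (k + 1)) := by
          have e : h8xU D hB k (t k - t' k) =
              (h8wordU D hB (h8ordQ D P (k + 1) t))⁻¹ * h8wordU D hB (h8ordQ D P (k + 1) t') := by
            rw [eq_inv_mul_iff_mul_eq, sub_eq_add_neg, ← h8xU_add D hB k hpos.1, ← h8xU_inv,
              ← mul_assoc, heq, mul_assoc, mul_inv_cancel, mul_one]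
          rw [e]
          exact Subgroup.mul_mem _ (Subgroup.inv_mem _ hP1) hP2
        have h0 := h8x_not_mem_Vk D hB hO k hpos _ hmem
        have hk0 : t k = t' k := sub_eq_zero.mp h0
        rw [hk0] at heq
        have heq' := mul_right_cancel heq
        rw [h8Lk_pos D k hpos, List.mem_cons] at hr
        rcases hr with rfl | hr
        · exact hk0
        · exact ih (k + 1) (by omega) t t' heq' r hr hPr
    · have e1 : ∀ s : ℕ → F, h8ordQ D P k s = h8ordQ D P (k + 1) s := by
        intro s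
        unfold h8ordQ
        rw [h8Lk_not D k hpos]
      rw [e1, e1] at heq
      rw [h8Lk_not D k hpos] at hr
      exact ih (k + 1) (by omega) t t' heq r hr hPr

theorem h8splitP_conj (D : ChevalleyDatum) (hB : H8Base.{u} D) (n : GL D.Idx F) (σ : ℕ → ℕ)
    (hact : ∀ r < D.nroots, H8Act D hB n r (σ r)) (x : GL D.Idx F)
    (hx : x ∈ Subgroup.closure {g : GL D.Idx F | ∃ (r : ℕ) (c : F), D.IsPosRoot r ∧
        decide (D.IsPosRoot (σ r)) = true ∧ g = h8xU D hB r c}) :
    n * x * n⁻¹ ∈ D.posUnipotent F := by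
  induction hx using Subgroup.closure_induction with
  | mem y hy =>
    obtain ⟨r, c, hr, hPr, rfl⟩ := hy
    obtain ⟨c', _, h1⟩ := hact r hr.1
    rw [h1]
    exact h8xU_mem_U D hB _ (by simpa using hPr) _
  | one =>
    have : n * 1 * n⁻¹ = 1 := by group
    rw [this]
    exact Subgroup.one_mem _
  | mul a b _ _ ha hb =>
    have : n * (a * b) * n⁻¹ = (n * a * n⁻¹) * (n * b * n⁻¹) := by group
    rw [this]
    exact Subgroup.mul_mem _ ha hb
  | inv a _ ha =>
    have : n * a⁻¹ * n⁻¹ = (n * a * n⁻¹)⁻¹ := by group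
    rw [this]
    exact Subgroup.inv_mem _ ha

theorem h8splitQ_le (D : ChevalleyDatum) (hB : H8Base.{u} D) (n : GL D.Idx F) (σ : ℕ → ℕ)
    (hlt : ∀ r < D.nroots, σ r < D.nroots)
    (hact : ∀ r < D.nroots, H8Act D hB n r (σ r)) :
    Subgroup.closure {g : GL D.Idx F | ∃ (r : ℕ) (c : F), D.IsPosRoot r ∧
        decide (D.IsPosRoot (σ r)) = false ∧ g = h8xU D hB r c} ≤
      Subgroup.closure (h8UmSet D F n) := by
  apply Subgroup.closure_mono
  rintro y ⟨r, c, hr, hPr, rfl⟩
  refine ⟨r, c, hr, ?_, h8xU_val D hB r c⟩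
  have hneg : D.IsNegRoot (σ r) := by
    rcases hB.posneg (σ r) (hlt r hr.1) with hp | hn
    · simp [hp] at hPr
    · exact hn
  intro z hz
  rw [Subgroup.mem_map] at hz
  obtain ⟨y, hy, rfl⟩ := hz
  obtain ⟨s, rfl⟩ := h8rootSubgroup_mem D hB r hr.1 y hy
  obtain ⟨c', _, h1⟩ := hact r hr.1
  show n * h8xU D hB r s * n⁻¹ ∈ D.negUnipotent F
  rw [h1]
  exact h8xU_mem_V D hB _ hneg _

end Cfsg.Agent.Lib.helper8
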