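import Mathlib
import Cfsg.Prelude.Def_ChevStructure
import Cfsg.Agent.Lib.helper8.ChevOver
import Cfsg.Agent.Lib.helper8.ChevH3

set_option autoImplicit false

namespace Cfsg.Agent.Lib.helper8

open Cfsg.Lie Cfsg.Lie.ChevalleyDatum

universe u

variable {F : Type u} [Field F]

def h8centP (D : ChevalleyDatum) (hB : H8Base.{u} D) (F : Type u) [Field F] (r : ℕ) :
    Subgroup (GL D.Idx F) where
  carrier := {g | H8Act D hB g r r}
  mul_mem' := fun {a b} ha hb => h8act_mul D hB a b r r r hb ha
  one_mem' := ⟨1, one_ne_zero, fun t => by rw [one_mul, inv_one, mul_one, one_mul]⟩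
  inv_mem' := fun {a} ha => h8act_inv D hB a r r ha

theorem h8commWord_one (D : ChevalleyDatum) (hB : H8Base.{u} D) (r s : ℕ) (t v : F)
    (h : ∀ c ∈ D.commTerms r s, ((c.2.1 : ℤ) : F) = 0) :
    D.wordMat F (D.commWord F r s t v) = 1 := by
  unfold ChevalleyDatum.commWord
  generalize D.commTerms r s = L at h
  induction L with
  | nil => rw [List.map_nil, h8wordMat_nil]
  | cons c L ih =>
    rw [List.map_cons, h8wordMat_cons, ih (fun c' hc' => h c' (List.mem_cons_of_mem _ hc')),
      mul_one]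
    simp only []
    rw [h c List.mem_cons_self, zero_mul, zero_mul]
    exact hB.zero F c.1

theorem h8comm_of_zero (D : ChevalleyDatum) (hB : H8Base.{u} D) (hC : H8CommAll.{u} D) (r s : ℕ)
    (hr : r < D.nroots) (hs : s < D.nroots) (hsn : s ≠ D.negIdx.getD r 0)
    (h : s ≠ r → ∀ c ∈ D.commTerms r s, ((c.2.1 : ℤ) : F) = 0) (t v : F) :
    h8xU D hB s v * h8xU D hB r t = h8xU D hB r t * h8xU D hB s v := by
  by_cases hsr : s = r
  · rw [hsr, h8xU_add D hB r hr, h8xU_add D hB r hr, add_comm]
  · apply Units.ext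
    rw [Units.val_mul, Units.val_mul, h8xU_val, h8xU_val]
    have h1 := hC.all r hr s hs hsr hsn F t v
    rw [h8commWord_one D hB r s t v (h hsr), mul_one] at h1
    exact h1

end Cfsg.Agent.Lib.helper8
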