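import Mathlib
import Cfsg.Prelude.Def_ChevStructure
import Cfsg.Agent.Lib.helper8.ChevCent1
import Cfsg.Agent.Lib.helper8.ChevBaseAll
import Cfsg.Agent.Lib.helper8.ChevReflAll
import Cfsg.Agent.Lib.helper8.ChevCommAll
import Cfsg.Agent.Lib.helper8.ChevBNAll
import Cfsg.Agent.Lib.helper8.ChevBNAll2
import Cfsg.Agent.Lib.helper8.ChevOrdAll
import Cfsg.Agent.Lib.helper8.ChevTabSC
import Cfsg.Agent.Lib.helper8.ChevPerf

set_option autoImplicit false

namespace Cfsg.Agent.Lib.helper8

open Cfsg.Lie Cfsg.Lie.ChevalleyDatum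

universe u

variable {F : Type u} [Field F]

def h8centChk (D : ChevalleyDatum) (r : ℕ) (J : List ℕ) (i0 m : ℕ) : Bool :=
  decide (r < D.nroots) && decide (i0 < D.rank) && decide (D.reflectRoot i0 r ≠ r) &&
  decide (D.cartan i0 r = 1) &&
  ((List.range D.rank).all fun i =>
    decide (i = i0) || (J.contains i && decide (D.cartan i r = 0))) &&
  (J.all fun i => decide (i < D.rank) && decide (D.neg (D.simple i) < D.nroots)) &&
  ((List.range D.nroots).all fun s =>
    !(decide (D.IsPosRoot s) || J.any (fun i => decide (s = D.neg (D.simple i)))) ||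
      (decide (s ≠ D.negIdx.getD r 0) &&
        (decide (s = r) || (D.commTerms r s).all fun c => decide (c.2.1 % (m : ℤ) = 0))))

theorem h8wordU_mem_of (D : ChevalleyDatum) (hB : H8Base.{u} D) (L : Subgroup (GL D.Idx F)) :
    ∀ w : List (ℕ × F), (∀ p ∈ w, h8xU D hB p.1 p.2 ∈ L) → h8wordU D hB w ∈ L
  | [], _ => Subgroup.one_mem _
  | p :: w, h => by
    rw [h8wordU_cons]
    exact Subgroup.mul_mem _ (h p List.mem_cons_self)
      (h8wordU_mem_of D hB L w (fun q hq => h q (List.mem_cons_of_mem _ hq)))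

theorem h8hU_one (D : ChevalleyDatum) (hB : H8Base.{u} D) (r : ℕ) :
    h8hU D hB r (1 : F) = 1 := by
  have : h8hU D hB r (1 : F) = h8nU D hB r 1 * h8nU D hB r (-1) := by
    unfold h8hU ChevalleyDatum.hWord
    rw [h8wordU_append]
    rfl
  rw [this, h8nU_neg, mul_inv_cancel]

theorem h8cent_main (D : ChevalleyDatum)
    (hD : D ∈ [chevG2, chevB2, chevD4, chevF4, chevE6, chevE7, chevE8])
    (r : ℕ) (J : List ℕ) (i0 m : ℕ) (hchk : h8centChk D r J i0 m = true)
    (hm : ((m : ℤ) : F) = 0) (t : GL D.Idx F)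
    (ht : (t : Matrix D.Idx D.Idx F) = D.x F r 1) :
    D.group F ⊓ Subgroup.centralizer {t} = D.posUnipotent F ⊔ Subgroup.closure
      {g : GL D.Idx F | ∃ s ∈ J.map (fun i => D.neg (D.simple i)), ∃ c : F,
        (g : Matrix D.Idx D.Idx F) = D.x F s c} := by
  have hB := h8base_all.{u} D hD
  have hA := h8reflAll D hD
  have hC := h8commAll.{u} D hD
  have hBN := h8bn_all D hD
  have hW := h8bn2_all D hD
  have hO2 := (h8ord_all D hD).2
  have hsc := h8scChk_all D hD
  unfold h8centChk at hchk
  simp only [Bool.and_eq_true, decide_eq_true_eq, List.all_eq_true, List.mem_range,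
    Bool.or_eq_true, Bool.not_eq_true', List.any_eq_true, List.contains_iff_mem,
    Bool.or_eq_false_iff, decide_eq_false_iff_not, List.any_eq_false] at hchk
  obtain ⟨⟨⟨⟨⟨⟨hr, hi0⟩, hrefl⟩, hcart0⟩, hcartJ⟩, hJlt⟩, hcomm⟩ := hchk
  have ht' : t = h8xU D hB r 1 := Units.ext (by rw [ht, h8xU_val])
  subst ht'
  have hcoef : ∀ c : ℤ, c % (m : ℤ) = 0 → ((c : ℤ) : F) = 0 := by
    intro c hc
    have := Int.emod_add_mul_ediv c (m : ℤ)
    rw [hc, zero_add] at this
    rw [← this, Int.cast_mul, hm, zero_mul]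
  have key1 : ∀ s < D.nroots, (D.IsPosRoot s ∨ ∃ i ∈ J, s = D.neg (D.simple i)) →
      ∀ a v : F, h8xU D hB s v * h8xU D hB r a = h8xU D hB r a * h8xU D hB s v := by
    intro s hs hsJ a v
    rcases hcomm s hs with h1 | ⟨h1, h2⟩
    · exfalso
      rcases hsJ with h | ⟨i, hi, h⟩
      · exact h1.1 h
      · exact h1.2 i hi h
    · apply h8comm_of_zero D hB hC r s hr hs h1
      intro hsr c hc
      rcases h2 with h2 | h2
      · exact absurd h2 hsr
      · exact hcoef _ (h2 c hc)
  set S : Set (GL D.Idx F) := {g : GL D.Idx F | ∃ s ∈ J.map (fun i => D.neg (D.simple i)),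
    ∃ c : F, (g : Matrix D.Idx D.Idx F) = D.x F s c} with hSdef
  have hgenS : ∀ i ∈ J, ∀ v : F, h8xU D hB (D.neg (D.simple i)) v ∈ Subgroup.closure S := by
    intro i hi v
    apply Subgroup.subset_closure
    exact ⟨_, List.mem_map.mpr ⟨i, hi, rfl⟩, v, h8xU_val D hB _ _⟩
  have hUC : D.posUnipotent F ≤ Subgroup.centralizer {h8xU D hB r (1 : F)} := by
    unfold ChevalleyDatum.posUnipotent
    rw [Subgroup.closure_le]
    rintro g ⟨s, v, hs, hg⟩
    have hg' : g = h8xU D hB s v := Units.ext (by rw [hg, h8xU_val])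
    rw [hg', SetLike.mem_coe, Subgroup.mem_centralizer_iff]
    intro x hx
    rw [Set.mem_singleton_iff.mp hx]
    exact (key1 s hs.1 (Or.inl hs) 1 v).symm
  have hSC : Subgroup.closure S ≤ Subgroup.centralizer {h8xU D hB r (1 : F)} := by
    rw [Subgroup.closure_le]
    rintro g ⟨s, hs, v, hg⟩
    obtain ⟨i, hi, rfl⟩ := List.mem_map.mp hs
    have hg' : g = h8xU D hB (D.neg (D.simple i)) v := Units.ext (by rw [hg, h8xU_val])
    rw [hg', SetLike.mem_coe, Subgroup.mem_centralizer_iff]
    intro x hx
    rw [Set.mem_singleton_iff.mp hx]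
    exact (key1 _ (hJlt i hi).2 (Or.inr ⟨i, hi, rfl⟩) 1 v).symm
  have hSG : Subgroup.closure S ≤ D.group F := by
    rw [Subgroup.closure_le]
    rintro g ⟨s, hs, v, hg⟩
    have hg' : g = h8xU D hB s v := Units.ext (by rw [hg, h8xU_val])
    rw [hg']
    exact h8xU_mem_group D hB _ _
  apply le_antisymm
  · rintro g ⟨hgG, hgC⟩
    have hBP : D.borelSubgroup F ≤ h8centP D hB F r := by
      unfold ChevalleyDatum.borelSubgroup
      apply sup_le
      · unfold ChevalleyDatum.posUnipotent
        rw [Subgroup.closure_le]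
        rintro x ⟨s, v, hs, hx⟩
        have hx' : x = h8xU D hB s v := Units.ext (by rw [hx, h8xU_val])
        rw [hx']
        refine ⟨1, one_ne_zero, fun a => ?_⟩
        rw [one_mul, mul_inv_eq_iff_eq_mul]
        exact key1 s hs.1 (Or.inl hs) a v
      · intro x hx
        exact h8perm_H_id D hB x hx r hr
    have hgP : g ∈ h8centP D hB F r := by
      obtain ⟨b, hb, n, hn, b', hb', e⟩ := h8bruhat D hB hA hC hBN hW g hgG
      obtain ⟨dep, par, horb⟩ := hBN.orb
      obtain ⟨σ, τ, a1, a2, a3, a4, a5, a6, a7⟩ := h8perm_N D hB hA dep par horb n hn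
      obtain ⟨c3, hc3, h3⟩ := a7 r hr
      obtain ⟨c1, hc1, h1⟩ := (h8centP D hB F r).inv_mem (hBP hb')
      obtain ⟨c2, hc2, h2⟩ := (h8centP D hB F r).inv_mem (hBP hb)
      have hcen : g * h8xU D hB r 1 * g⁻¹ = h8xU D hB r 1 := by
        rw [mul_inv_eq_iff_eq_mul]
        exact (Subgroup.mem_centralizer_iff.mp hgC _ rfl).symm
      have hn' : n = b⁻¹ * g * b'⁻¹ := by rw [e]; group
      have e1 : n * h8xU D hB r (c1⁻¹ * 1) * n⁻¹ = h8xU D hB r (c2 * 1) := by
        rw [← h2 1, inv_inv, ← hcen, hn']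
        have := h1 (c1⁻¹ * 1)
        rw [← mul_assoc, mul_inv_cancel₀ hc1, one_mul, inv_inv] at this
        rw [← this]
        group
      rw [h3] at e1
      have hσ : σ r = r := h8x_inj_root D hB hA hBN hW hO2 _ _ (a1 r hr) hr _ _
        (by simpa using mul_ne_zero hc3 (inv_ne_zero hc1)) (by simpa using hc2) e1
      have hnP : n ∈ h8centP D hB F r := by
        have := a7 r hr
        rwa [hσ] at this
      rw [e]
      exact Subgroup.mul_mem _ (Subgroup.mul_mem _ (hBP hb) hnP) (hBP hb')
    have hover := h8overgroup D hB hA hC hBN hW hO2 (h8centP D hB F r) hBP ⟨hgP, hgG⟩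
    set L : Subgroup (GL D.Idx F) := D.posUnipotent F ⊔ Subgroup.closure S with hLdef
    have hLC : L ≤ Subgroup.centralizer {h8xU D hB r (1 : F)} := sup_le hUC hSC
    have hnL : Subgroup.closure {g : GL D.Idx F | ∃ i < D.rank,
        g = h8nU D hB (D.simple i) (1 : F) ∧ g ∈ h8centP D hB F r} ≤ L := by
      rw [Subgroup.closure_le]
      rintro x ⟨i, hi, rfl, hxP⟩
      have hii0 : i ≠ i0 := by
        rintro rfl
        have h1 := h8act_nU (F := F) D hB hA i hi r hr
        have hlt := (h8reflAll_spec D hA i hi).choose_spec.lt r hr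
        exact hrefl (h8act_unique D hB hA hBN hW hO2 _ r _ _ hlt hr h1 hxP)
      have hiJ : i ∈ J := by
        rcases hcartJ i hi with h | h
        · exact absurd h hii0
        · exact h.1
      rw [SetLike.mem_coe, h8nU_eq]
      have hp : ∀ v : F, h8xU D hB (D.simple i) v ∈ L := fun v =>
        Subgroup.mem_sup_left (h8xU_mem_U D hB _ (h8simple_pos D hBN i hi) v)
      have hq : ∀ v : F, h8xU D hB (D.negIdx.getD (D.simple i) 0) v ∈ L := fun v =>
        Subgroup.mem_sup_right (hgenS i hiJ v)
      exact Subgroup.mul_mem _ (Subgroup.mul_mem _ (hp _) (hq _)) (hp _)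
    have hHN : D.diagonalSubgroup F ≤ Subgroup.normalizer (L : Set (GL D.Idx F)) := by
      intro h hh
      have hLcl : L = Subgroup.closure
          ({g : GL D.Idx F | ∃ (s : ℕ) (v : F), D.IsPosRoot s ∧
            (g : Matrix D.Idx D.Idx F) = D.x F s v} ∪ S) := by
        rw [Subgroup.closure_union]
        rfl
      rw [hLcl]
      have hact := h8perm_H_id D hB h hh
      have hact' := h8perm_H_id D hB h⁻¹ (Subgroup.inv_mem _ hh)
      apply h8_mem_normalizer_closure
      · rintro x (⟨s, v, hs, hx⟩ | ⟨s, hs, v, hx⟩)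
        · have hx' : x = h8xU D hB s v := Units.ext (by rw [hx, h8xU_val])
          obtain ⟨c, _, hc⟩ := hact s hs.1
          rw [hx', hc]
          exact Subgroup.subset_closure (Or.inl ⟨s, _, hs, h8xU_val D hB _ _⟩)
        · have hx' : x = h8xU D hB s v := Units.ext (by rw [hx, h8xU_val])
          obtain ⟨i, hi, rfl⟩ := List.mem_map.mp hs
          obtain ⟨c, _, hc⟩ := hact _ (hJlt i hi).2
          rw [hx', hc]
          exact Subgroup.subset_closure (Or.inr ⟨_, hs, _, h8xU_val D hB _ _⟩)
      · rintro x (⟨s, v, hs, hx⟩ | ⟨s, hs, v, hx⟩)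
        · have hx' : x = h8xU D hB s v := Units.ext (by rw [hx, h8xU_val])
          obtain ⟨c, _, hc⟩ := hact' s hs.1
          have := hc v
          rw [inv_inv] at this
          rw [hx', this]
          exact Subgroup.subset_closure (Or.inl ⟨s, _, hs, h8xU_val D hB _ _⟩)
        · have hx' : x = h8xU D hB s v := Units.ext (by rw [hx, h8xU_val])
          obtain ⟨i, hi, rfl⟩ := List.mem_map.mp hs
          obtain ⟨c, _, hc⟩ := hact' _ (hJlt i hi).2
          have := hc v
          rw [inv_inv] at this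
          rw [hx', this]
          exact Subgroup.subset_closure (Or.inr ⟨_, hs, _, h8xU_val D hB _ _⟩)
    have hgLH : g ∈ L ⊔ D.diagonalSubgroup F := by
      have : D.borelSubgroup F ⊔ Subgroup.closure {g : GL D.Idx F | ∃ i < D.rank,
          g = h8nU D hB (D.simple i) (1 : F) ∧ g ∈ h8centP D hB F r} ≤
          L ⊔ D.diagonalSubgroup F := by
        apply sup_le
        · unfold ChevalleyDatum.borelSubgroup
          exact sup_le (le_trans le_sup_left le_sup_left) le_sup_right
        · exact le_trans hnL le_sup_left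
      exact this hover
    have hprod := Subgroup.coe_mul_of_right_le_normalizer_left L (D.diagonalSubgroup F) hHN
    have hgm : g ∈ ((L ⊔ D.diagonalSubgroup F : Subgroup (GL D.Idx F)) : Set (GL D.Idx F)) := hgLH
    rw [hprod] at hgm
    obtain ⟨l, hl, h, hh, rfl⟩ := hgm
    have hhC : h ∈ Subgroup.centralizer {h8xU D hB r (1 : F)} := by
      have : h = l⁻¹ * (l * h) := by group
      rw [this]
      exact Subgroup.mul_mem _ (Subgroup.inv_mem _ (hLC hl)) hgC
    suffices hhL : h ∈ L from Subgroup.mul_mem _ hl hhL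
    obtain ⟨c, hc, hval⟩ := h8_H_eq_Phi D hB h hh
    have hcomm2 : (h : Matrix D.Idx D.Idx F) * D.x F r 1 = D.x F r 1 * (h : Matrix D.Idx D.Idx F) := by
      have := Subgroup.mem_centralizer_iff.mp hhC _ rfl
      have h2 := congrArg (fun u : GL D.Idx F => (u : Matrix D.Idx D.Idx F)) this
      simp only [Units.val_mul, h8xU_val] at h2
      exact h2.symm
    have hphi : h8Phi D D.rank c (Sum.inr ⟨r, hr⟩) = 1 := by
      have h3 := congrFun (congrFun hcomm2 (Sum.inr ⟨r, hr⟩)) (Sum.inl ⟨i0, hi0⟩)
      rw [hval, Matrix.diagonal_mul, Matrix.mul_diagonal] at h3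
      unfold ChevalleyDatum.x at h3
      rw [dif_pos hr, h8xMat_inr_inl, if_pos rfl] at h3
      simp only [hcart0, Int.cast_one, mul_one] at h3
      have h4 : h8Phi D D.rank c (Sum.inl ⟨i0, hi0⟩) = 1 := rfl
      rw [h4, mul_one, mul_neg, mul_one, neg_inj] at h3
      exact h3
    have hci0 : c i0 = 1 := by
      have h5 : h8Phi D D.rank c (Sum.inr ⟨r, hr⟩) =
          ∏ i ∈ Finset.range D.rank, c i ^ (D.cartan i r) := rfl
      rw [h5, Finset.prod_eq_single i0] at hphi
      · rwa [hcart0, zpow_one] at hphi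
      · intro i hi hne
        rcases hcartJ i (Finset.mem_range.mp hi) with h | h
        · exact absurd h hne
        · rw [h.2, zpow_zero]
      · intro h
        exact absurd (Finset.mem_range.mpr hi0) h
    have hheq : h = h8wordU D hB
        ((List.range D.rank).flatMap fun i => D.hWord (D.simple i) (c i)) := by
      apply Units.ext
      rw [hval, h8wordU_val, h8wordMat_flatMap_range D hB hsc c (fun i _ => hc i) D.rank le_rfl]
    rw [hheq]
    have hall : ∀ (Ls : List ℕ), (∀ i ∈ Ls, i < D.rank) →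
        h8wordU D hB (Ls.flatMap fun i => D.hWord (D.simple i) (c i)) ∈ L := by
      intro Ls
      induction Ls with
      | nil => intro _; exact Subgroup.one_mem _
      | cons i Ls ih =>
        intro hLs
        rw [List.flatMap_cons, h8wordU_append]
        refine Subgroup.mul_mem _ ?_ (ih (fun j hj => hLs j (List.mem_cons_of_mem _ hj)))
        have hi : i < D.rank := hLs i List.mem_cons_self
        by_cases hii0 : i = i0
        · have : h8wordU D hB (D.hWord (D.simple i) (c i)) = h8hU D hB (D.simple i) (c i) := rfl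
          rw [this, hii0, hci0, h8hU_one]
          exact Subgroup.one_mem _
        · have hiJ : i ∈ J := by
            rcases hcartJ i hi with h | h
            · exact absurd h hii0
            · exact h.1
          apply h8wordU_mem_of
          intro p hp
          have hp' : p.1 = D.simple i ∨ p.1 = D.neg (D.simple i) := by
            unfold ChevalleyDatum.hWord ChevalleyDatum.nWord at hp
            simp only [List.cons_append, List.nil_append, List.mem_cons, List.not_mem_nil,
              or_false] at hp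
            rcases hp with rfl | rfl | rfl | rfl | rfl | rfl <;> simp
          rcases hp' with h | h
          · rw [h]
            exact Subgroup.mem_sup_left (h8xU_mem_U D hB _ (h8simple_pos D hBN i hi) _)
          · rw [h]
            exact Subgroup.mem_sup_right (hgenS i hiJ _)
    exact hall _ (fun i hi => List.mem_range.mp hi)
  · exact le_inf (sup_le (h8_U_le_group D) hSG) (sup_le hUC hSC)

end Cfsg.Agent.Lib.helper8
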