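import Mathlib
import Cfsg.Prelude.Def_ChevStructure
import Cfsg.Agent.Lib.helper8.ChevCnt3

set_option autoImplicit false

namespace Cfsg.Agent.Lib.helper8

open Cfsg.Lie Cfsg.Lie.ChevalleyDatum

universe u

variable {F : Type u} [Field F]

def h8Cell (D : ChevalleyDatum) (F : Type u) [Field F] (n : GL D.Idx F) : Set (GL D.Idx F) :=
  {g | ∃ b1 ∈ D.borelSubgroup F, ∃ b2 ∈ D.borelSubgroup F, g = b1 * n * b2}

def h8sigOf (D : ChevalleyDatum) (π : Equiv.Perm (Fin D.nroots)) (r : ℕ) : ℕ :=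
  if hr : r < D.nroots then (π ⟨r, hr⟩).val else r

abbrev H8Qt (D : ChevalleyDatum) (π : Equiv.Perm (Fin D.nroots)) : Type :=
  {r : Fin D.nroots // D.IsPosRoot r.val ∧ ¬ D.IsPosRoot (π r).val}

noncomputable def h8extQ (D : ChevalleyDatum) (π : Equiv.Perm (Fin D.nroots))
    (f : H8Qt D π → F) (r : ℕ) : F :=
  if hr : r < D.nroots then
    (if hq : D.IsPosRoot r ∧ ¬ D.IsPosRoot (π ⟨r, hr⟩).val then f ⟨⟨r, hr⟩, hq⟩ else 0)
  else 0

theorem h8extQ_apply (D : ChevalleyDatum) (π : Equiv.Perm (Fin D.nroots))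
    (f : H8Qt D π → F) (q : H8Qt D π) : h8extQ D π f q.val.val = f q := by
  unfold h8extQ
  rw [dif_pos q.val.2, dif_pos q.2]

theorem h8cell_param (D : ChevalleyDatum) (hB : H8Base.{u} D) (hA : H8ReflAll D)
    (hC : H8CommAll.{u} D) (hBN : H8BN D) (hO : H8Ord D) (hO2 : H8Ord2 D)
    (n : GL D.Idx F) (hn : n ∈ D.monomialSubgroup F) (h : H8Perm D hB n) :
    (∀ (b : GL D.Idx F) (f : H8Qt D (h8permOf D hB n h) → F), b ∈ D.borelSubgroup F →
      b * n * h8wordU D hB (h8ordQ D (fun r => decide (D.IsPosRoot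
        (h8sigOf D (h8permOf D hB n h) r))) 0 (h8extQ D _ f)) ∈ h8Cell D F n) ∧
    (∀ (b b' : GL D.Idx F) (f f' : H8Qt D (h8permOf D hB n h) → F), b ∈ D.borelSubgroup F →
      b' ∈ D.borelSubgroup F →
      b * n * h8wordU D hB (h8ordQ D (fun r => decide (D.IsPosRoot
        (h8sigOf D (h8permOf D hB n h) r))) 0 (h8extQ D _ f)) =
      b' * n * h8wordU D hB (h8ordQ D (fun r => decide (D.IsPosRoot
        (h8sigOf D (h8permOf D hB n h) r))) 0 (h8extQ D _ f')) → b = b' ∧ f = f') ∧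
    (∀ g ∈ h8Cell D F n, ∃ (b : GL D.Idx F) (f : H8Qt D (h8permOf D hB n h) → F),
      b ∈ D.borelSubgroup F ∧
      g = b * n * h8wordU D hB (h8ordQ D (fun r => decide (D.IsPosRoot
        (h8sigOf D (h8permOf D hB n h) r))) 0 (h8extQ D _ f))) := by
  classical
  obtain ⟨dep, par, horb⟩ := hBN.orb
  have hnorm := h8N_le_normalizer_H (F := F) D hB hA dep par horb
  set π := h8permOf D hB n h with hπ
  have hlt : ∀ r < D.nroots, h8sigOf D π r < D.nroots := by
    intro r hr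
    unfold h8sigOf
    rw [dif_pos hr]
    exact (π ⟨r, hr⟩).2
  have hact : ∀ r < D.nroots, H8Act D hB n r (h8sigOf D π r) := by
    intro r hr
    unfold h8sigOf
    rw [dif_pos hr]
    exact h8permOf_act D hB n h ⟨r, hr⟩
  have hQle := h8splitQ_le D hB n (h8sigOf D π) hlt hact
  have hQm : ∀ t : ℕ → F, h8wordU D hB (h8ordQ D (fun r => decide (D.IsPosRoot
      (h8sigOf D π r))) 0 t) ∈ Subgroup.closure (h8UmSet D F n) := fun t =>
    hQle (h8ordQ_mem D hB _ 0 t)
  refine ⟨?_, ?_, ?_⟩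
  · intro b f hb
    exact ⟨b, hb, _, h8U_le_B D (h8Um_le_U D n (hQm _)), rfl⟩
  · intro b b' f f' hb hb' e
    obtain ⟨_, h2⟩ := h8normal_unique D hB hA hC hBN b b' n n _ _ hb hb' hn hn (hQm _) (hQm _) e
    obtain ⟨h3, h4⟩ := h2 rfl
    refine ⟨h3, ?_⟩
    have hun := h8ordQ_unique D hB hO2 _ D.nroots 0 (by omega) _ _ h4
    funext q
    have hq1 : q.val.val ∈ h8Lk D 0 := (h8Lk_mem D 0 _).mpr ⟨Nat.zero_le _, q.2.1⟩
    have hq2 : (fun r => decide (D.IsPosRoot (h8sigOf D π r))) q.val.val = false := by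
      simp only [decide_eq_false_iff_not]
      unfold h8sigOf
      rw [dif_pos q.val.2]
      exact q.2.2
    have := hun q.val.val hq1 hq2
    rwa [h8extQ_apply, h8extQ_apply] at this
  · rintro g ⟨b1, hb1, b2, hb2, rfl⟩
    have hmemB : b2 ∈ ((D.posUnipotent F ⊔ D.diagonalSubgroup F : Subgroup (GL D.Idx F)) :
        Set (GL D.Idx F)) := hb2
    rw [Subgroup.coe_mul_of_right_le_normalizer_left _ _ (h8_H_le_normalizer_U D hB)] at hmemB
    obtain ⟨u0, hu0, t0, ht0, rfl⟩ := hmemB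
    have hu1 : t0⁻¹ * u0 * t0⁻¹⁻¹ ∈ D.posUnipotent F :=
      (Subgroup.mem_normalizer_iff.mp (h8_H_le_normalizer_U D hB (Subgroup.inv_mem _ ht0))
        u0).mp hu0
    obtain ⟨t, ht⟩ := h8split_main D hB hC hO
      (fun r => decide (D.IsPosRoot (h8sigOf D π r))) _ hu1
    have hP := h8ordP_mem D hB (fun r => decide (D.IsPosRoot (h8sigOf D π r))) 0 t
    have hPU := h8splitP_conj D hB n (h8sigOf D π) hact _ hP
    have hconj : n * t0 * n⁻¹ ∈ D.diagonalSubgroup F :=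
      (Subgroup.mem_normalizer_iff.mp (hnorm hn) _).mp ht0
    refine ⟨b1 * (n * t0 * n⁻¹) * (n * h8wordU D hB (h8ordP D
      (fun r => decide (D.IsPosRoot (h8sigOf D π r))) 0 t) * n⁻¹),
      fun q => t q.val.val, ?_, ?_⟩
    · exact Subgroup.mul_mem _ (Subgroup.mul_mem _ hb1 (h8H_le_B D hconj)) (h8U_le_B D hPU)
    · have econg : h8ordQ D (fun r => decide (D.IsPosRoot (h8sigOf D π r))) 0
          (h8extQ D π fun q => t q.val.val) =
          h8ordQ D (fun r => decide (D.IsPosRoot (h8sigOf D π r))) 0 t := by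
        apply h8ordQ_congr'
        intro r hr hPr
        obtain ⟨_, hrp⟩ := (h8Lk_mem D 0 r).mp hr
        have hq : D.IsPosRoot r ∧ ¬ D.IsPosRoot (π ⟨r, hrp.1⟩).val := by
          refine ⟨hrp, ?_⟩
          simp only [decide_eq_false_iff_not] at hPr
          unfold h8sigOf at hPr
          rwa [dif_pos hrp.1] at hPr
        unfold h8extQ
        rw [dif_pos hrp.1, dif_pos hq]
      rw [econg]
      show b1 * n * (u0 * t0) = _
      have e : u0 * t0 = t0 * (t0⁻¹ * u0 * t0⁻¹⁻¹) := by group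
      rw [e, ht]
      group

theorem h8cell_card [Fintype F] (D : ChevalleyDatum) (hB : H8Base.{u} D) (hA : H8ReflAll D)
    (hC : H8CommAll.{u} D) (hBN : H8BN D) (hO : H8Ord D) (hO2 : H8Ord2 D)
    (n : GL D.Idx F) (hn : n ∈ D.monomialSubgroup F) (h : H8Perm D hB n) :
    Nat.card (h8Cell D F n) =
      Nat.card (D.borelSubgroup F) * Fintype.card F ^ h8Ninv D (h8permOf D hB n h) := by
  classical
  obtain ⟨h1, h2, h3⟩ := h8cell_param D hB hA hC hBN hO hO2 n hn h
  have hbij : Function.Bijective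
      (fun p : ↥(D.borelSubgroup F) × (H8Qt D (h8permOf D hB n h) → F) =>
        (⟨_, h1 p.1.val p.2 p.1.2⟩ : h8Cell D F n)) := by
    constructor
    · rintro ⟨b, f⟩ ⟨b', f'⟩ e
      have e' := congrArg Subtype.val e
      simp only at e'
      obtain ⟨h4, h5⟩ := h2 b.val b'.val f f' b.2 b'.2 e'
      rw [Prod.mk.injEq]
      exact ⟨Subtype.ext h4, h5⟩
    · rintro ⟨g, hg⟩
      obtain ⟨b, f, hb, e⟩ := h3 g hg
      exact ⟨(⟨b, hb⟩, f), Subtype.ext e.symm⟩
  rw [← Nat.card_congr (Equiv.ofBijective _ hbij), Nat.card_prod, Nat.card_fun,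
    Nat.card_eq_fintype_card (α := F), Nat.card_eq_fintype_card (α := H8Qt D _),
    Fintype.card_subtype]
  rfl

end Cfsg.Agent.Lib.helper8
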