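import Mathlib
import Cfsg.Prelude.Def_ChevStructure
import Cfsg.Agent.Lib.helper8.ChevCnt4

set_option autoImplicit false

namespace Cfsg.Agent.Lib.helper8

open Cfsg.Lie Cfsg.Lie.ChevalleyDatum

universe u

variable {F : Type u} [Field F]

noncomputable def h8wordOf (D : ChevalleyDatum) (hA : H8ReflAll D) (π : ↥(h8W D hA)) : List ℕ :=
  Classical.choose ((h8W_mem_iff D hA π.val).mp π.2)

theorem h8wordOf_spec (D : ChevalleyDatum) (hA : H8ReflAll D) (π : ↥(h8W D hA)) :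
    (∀ i ∈ h8wordOf D hA π, i < D.rank) ∧ π.val = h8wPerm D hA (h8wordOf D hA π) :=
  Classical.choose_spec ((h8W_mem_iff D hA π.val).mp π.2)

theorem h8permOf_nWU (D : ChevalleyDatum) (hB : H8Base.{u} D) (hA : H8ReflAll D) (hBN : H8BN D)
    (hW : H8BN2 D) (hO2 : H8Ord2 D) (w : List ℕ) (hw : ∀ i ∈ w, i < D.rank)
    (h : H8Perm D hB (h8nWU D hB w : GL D.Idx F)) :
    h8permOf D hB (h8nWU D hB w) h = h8wPerm D hA w := by
  have h' : H8Perm D hB (1 * h8nWU D hB w : GL D.Idx F) := by rw [one_mul]; exact h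
  have := h8permOf_word D hB hA hBN hW hO2 (1 : GL D.Idx F) (Subgroup.one_mem _) w hw h'
  rw [← this]
  congr 1
  rw [one_mul]

theorem h8Cell_le_group (D : ChevalleyDatum) (hB : H8Base.{u} D) (n : GL D.Idx F)
    (hn : n ∈ D.monomialSubgroup F) (g : GL D.Idx F) (hg : g ∈ h8Cell D F n) : g ∈ D.group F := by
  obtain ⟨b1, hb1, b2, hb2, rfl⟩ := hg
  exact Subgroup.mul_mem _ (Subgroup.mul_mem _ (h8_B_le_group D hB hb1) (h8_N_le_group D hB hn))
    (h8_B_le_group D hB hb2)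

noncomputable def h8Wfin (D : ChevalleyDatum) (hA : H8ReflAll D) :
    Finset (Equiv.Perm (Fin D.nroots)) :=
  (Set.toFinite (h8W D hA : Set (Equiv.Perm (Fin D.nroots)))).toFinset

theorem h8Wfin_mem (D : ChevalleyDatum) (hA : H8ReflAll D) (π : Equiv.Perm (Fin D.nroots)) :
    π ∈ h8Wfin D hA ↔ π ∈ h8W D hA := by
  unfold h8Wfin
  rw [Set.Finite.mem_toFinset]
  rfl

theorem h8group_card [Fintype F] (D : ChevalleyDatum) (hB : H8Base.{u} D) (hA : H8ReflAll D)
    (hC : H8CommAll.{u} D) (hBN : H8BN D) (hW : H8BN2 D) (hO : H8Ord D) (hO2 : H8Ord2 D) :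
    Nat.card (D.group F) = Nat.card (D.borelSubgroup F) *
      ∑ π ∈ h8Wfin D hA, Fintype.card F ^ h8Ninv D π := by
  classical
  haveI : Fintype ↥(h8W D hA) := Fintype.ofFinite _
  rw [Finset.sum_subtype (h8Wfin D hA) (h8Wfin_mem D hA)]
  obtain ⟨dep, par, horb⟩ := hBN.orb
  have hNperm := h8perm_N (F := F) D hB hA dep par horb
  have hwN : ∀ π : ↥(h8W D hA), (h8nWU D hB (h8wordOf D hA π) : GL D.Idx F) ∈
      D.monomialSubgroup F := fun π => h8nWU_mem_N D hB hA _ (h8wordOf_spec D hA π).1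
  have hpermπ : ∀ π : ↥(h8W D hA), h8permOf D hB (h8nWU D hB (h8wordOf D hA π) : GL D.Idx F)
      (hNperm _ (hwN π)) = π.val := by
    intro π
    rw [h8permOf_nWU D hB hA hBN hW hO2 _ (h8wordOf_spec D hA π).1]
    exact (h8wordOf_spec D hA π).2.symm
  have hbij : Function.Bijective
      (fun p : (Σ π : ↥(h8W D hA), ↥(h8Cell D F (h8nWU D hB (h8wordOf D hA π)))) =>
        (⟨p.2.val, h8Cell_le_group D hB _ (hwN p.1) _ p.2.2⟩ : ↥(D.group F))) := by
    constructor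
    · rintro ⟨π, g, hg⟩ ⟨π', g', hg'⟩ e
      have e' : g = g' := congrArg Subtype.val e
      subst e'
      have hππ : π = π' := by
        obtain ⟨b1, hb1, b2, hb2, e1⟩ := hg
        obtain ⟨c1, hc1, c2, hc2, e2⟩ := hg'
        have hcell : ∃ b1 ∈ D.borelSubgroup F, ∃ b2 ∈ D.borelSubgroup F,
            (h8nWU D hB (h8wordOf D hA π) : GL D.Idx F) =
              b1 * h8nWU D hB (h8wordOf D hA π') * b2 := by
          refine ⟨b1⁻¹ * c1, Subgroup.mul_mem _ (Subgroup.inv_mem _ hb1) hc1, c2 * b2⁻¹,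
            Subgroup.mul_mem _ hc2 (Subgroup.inv_mem _ hb2), ?_⟩
          have : (h8nWU D hB (h8wordOf D hA π) : GL D.Idx F) =
              b1⁻¹ * (b1 * h8nWU D hB (h8wordOf D hA π) * b2) * b2⁻¹ := by group
          rw [this, ← e1, e2]
          group
        have := (h8cell_iff D hB hA hC hBN hW hO2 _ _ (hwN π) (hwN π') (hNperm _ (hwN π))
          (hNperm _ (hwN π'))).mp hcell
        rw [hpermπ, hpermπ] at this
        exact Subtype.ext this
      subst hππ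
      rfl
    · rintro ⟨g, hg⟩
      obtain ⟨b, hb, n, hn, b', hb', rfl⟩ := h8bruhat D hB hA hC hBN hW g hg
      obtain ⟨t, ht, w, hw, rfl⟩ := h8N_word D hB hA hBN n hn
      have hπW : h8wPerm D hA w ∈ h8W D hA := (h8W_mem_iff D hA _).mpr ⟨w, hw, rfl⟩
      have h1 : h8permOf D hB (t * h8nWU D hB w) (hNperm _ hn) = h8wPerm D hA w :=
        h8permOf_word D hB hA hBN hW hO2 t ht w hw _
      have hcell := (h8cell_iff D hB hA hC hBN hW hO2 _ _ hn (hwN ⟨_, hπW⟩) (hNperm _ hn)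
          (hNperm _ (hwN ⟨_, hπW⟩))).mpr (by rw [h1, hpermπ])
      obtain ⟨c1, hc1, c2, hc2, e⟩ := hcell
      refine ⟨⟨⟨_, hπW⟩, ⟨b * (t * h8nWU D hB w) * b', ?_⟩⟩, rfl⟩
      refine ⟨b * c1, Subgroup.mul_mem _ hb hc1, c2 * b', Subgroup.mul_mem _ hc2 hb', ?_⟩
      rw [e]
      group
  rw [← Nat.card_congr (Equiv.ofBijective _ hbij), Nat.card_sigma, Finset.mul_sum]
  apply Finset.sum_congr rfl
  intro π _
  rw [h8cell_card D hB hA hC hBN hO hO2 _ (hwN π) (hNperm _ (hwN π)), hpermπ]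

end Cfsg.Agent.Lib.helper8
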