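import Mathlib
import Cfsg.Prelude.Def_ChevStructure
import Cfsg.Agent.Lib.helper8.ChevCnt5
import Cfsg.Agent.Lib.helper8.ChevPosLen

set_option autoImplicit false

namespace Cfsg.Agent.Lib.helper8

open Cfsg.Lie Cfsg.Lie.ChevalleyDatum

universe u

variable {F : Type u} [Field F]

theorem h8borel_card [Finite F] (D : ChevalleyDatum) (hB : H8Base.{u} D) :
    Nat.card (D.borelSubgroup F) = Nat.card (D.posUnipotent F) * Nat.card (D.diagonalSubgroup F) := by
  classical
  have hbij : Function.Bijective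
      (fun p : ↥(D.posUnipotent F) × ↥(D.diagonalSubgroup F) =>
        (⟨p.1.val * p.2.val, Subgroup.mul_mem _ (h8U_le_B D p.1.2) (h8H_le_B D p.2.2)⟩ :
          ↥(D.borelSubgroup F))) := by
    constructor
    · rintro ⟨⟨u, hu⟩, ⟨t, ht⟩⟩ ⟨⟨u', hu'⟩, ⟨t', ht'⟩⟩ e
      have e' : u * t = u' * t' := congrArg Subtype.val e
      have h1 : u'⁻¹ * u ∈ D.posUnipotent F ⊓ D.diagonalSubgroup F := by
        rw [Subgroup.mem_inf]
        refine ⟨Subgroup.mul_mem _ (Subgroup.inv_mem _ hu') hu, ?_⟩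
        have : u'⁻¹ * u = t' * t⁻¹ := by
          have : u'⁻¹ * u = u'⁻¹ * (u * t) * t⁻¹ := by group
          rw [this, e']; group
        rw [this]
        exact Subgroup.mul_mem _ ht' (Subgroup.inv_mem _ ht)
      rw [h8_U_inf_H D hB, Subgroup.mem_bot] at h1
      have huu : u = u' := by
        have : u = u' * (u'⁻¹ * u) := by group
        rw [this, h1, mul_one]
      subst huu
      have htt : t = t' := mul_left_cancel e'
      subst htt
      rfl
    · rintro ⟨b, hb⟩
      have hmemB : b ∈ ((D.posUnipotent F ⊔ D.diagonalSubgroup F : Subgroup (GL D.Idx F)) :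
          Set (GL D.Idx F)) := hb
      rw [Subgroup.coe_mul_of_right_le_normalizer_left _ _ (h8_H_le_normalizer_U D hB)] at hmemB
      obtain ⟨u, hu, t, ht, rfl⟩ := hmemB
      exact ⟨(⟨u, hu⟩, ⟨t, ht⟩), rfl⟩
  rw [← Nat.card_congr (Equiv.ofBijective _ hbij), Nat.card_prod]

theorem h8group_card' [Fintype F] (D : ChevalleyDatum) (hB : H8Base.{u} D) (hA : H8ReflAll D)
    (hC : H8CommAll.{u} D) (hBN : H8BN D) (hW : H8BN2 D) (hO : H8Ord D) (hO2 : H8Ord2 D)
    (hlen : D.posRoots.length = D.nroots / 2) :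
    Nat.card (D.group F) = Fintype.card F ^ (D.nroots / 2) * Nat.card (D.diagonalSubgroup F) *
      ∑ π ∈ h8Wfin D hA, Fintype.card F ^ h8Ninv D π := by
  rw [h8group_card D hB hA hC hBN hW hO hO2, h8borel_card D hB, h8card_U D hB hC hO hO2 hlen]

end Cfsg.Agent.Lib.helper8
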