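import Mathlib
import Cfsg.Prelude.Def_ChevStructure
import Cfsg.Agent.Lib.helper8.ChevCnt5
import Cfsg.Agent.Lib.helper8.ChevCox1

set_option autoImplicit false

namespace Cfsg.Agent.Lib.helper8

open Cfsg.Lie Cfsg.Lie.ChevalleyDatum

universe u

def h8SJ (D : ChevalleyDatum) (hA : H8ReflAll D) (j0 : ℕ) : Set (Equiv.Perm (Fin D.nroots)) :=
  {π | ∃ i < j0, π = h8sPerm D hA i}

def h8WJ (D : ChevalleyDatum) (hA : H8ReflAll D) (j0 : ℕ) : Subgroup (Equiv.Perm (Fin D.nroots)) :=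
  Subgroup.closure (h8SJ D hA j0)

theorem h8WJ_rank (D : ChevalleyDatum) (hA : H8ReflAll D) : h8WJ D hA D.rank = h8W D hA := rfl

theorem h8WJ_zero (D : ChevalleyDatum) (hA : H8ReflAll D) : h8WJ D hA 0 = ⊥ := by
  unfold h8WJ h8SJ
  rw [Subgroup.closure_eq_bot_iff]
  rintro π ⟨i, hi, _⟩
  omega

theorem h8Ninv_eq (D : ChevalleyDatum) (π : Equiv.Perm (Fin D.nroots)) :
    h8Ninv D π = h8Inv (fun r : Fin D.nroots => D.IsPosRoot r.val) π := rfl

theorem h8Wfin_eq (D : ChevalleyDatum) (hA : H8ReflAll D) : h8Wfin D hA = h8fin (h8W D hA) := rfl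

theorem h8W_inv_zero (D : ChevalleyDatum) (hB : H8Base.{0} D) (hA : H8ReflAll D) (hBN : H8BN D)
    (hW : H8BN2 D) (hO2 : H8Ord2 D) (v : Equiv.Perm (Fin D.nroots)) (hv : v ∈ h8W D hA)
    (h0 : h8Ninv D v = 0) : v = 1 := by
  obtain ⟨w, hw, rfl⟩ := (h8W_mem_iff D hA v).mp hv
  obtain ⟨dep, par, horb⟩ := hBN.orb
  have hn := h8nWU_mem_N (F := ℚ) D hB hA w hw
  have hperm := h8perm_N (F := ℚ) D hB hA dep par horb _ hn
  have e := h8permOf_nWU (F := ℚ) D hB hA hBN hW hO2 w hw hperm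
  have hH := h8perm_kernel (F := ℚ) D hB hA hBN hW hO2 _ hn hperm (by rw [e]; exact h0)
  rw [← e]
  apply Equiv.ext
  intro r
  rw [Equiv.Perm.one_apply]
  exact h8permOf_eq D hB hA hBN hW hO2 _ hperm r r (h8perm_H_id D hB _ hH r.val r.2)

theorem h8sPerm_negc (D : ChevalleyDatum) (hA : H8ReflAll D) (hW : H8BN2 D) (i : ℕ)
    (r : Fin D.nroots) :
    h8sPerm D hA i ⟨D.negIdx.getD r.val 0, hW.neglt r.val r.2⟩ =
      ⟨D.negIdx.getD (h8sPerm D hA i r).val 0, hW.neglt _ (h8sPerm D hA i r).2⟩ := by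
  by_cases hi : i < D.rank
  · apply Fin.ext
    rw [h8sPerm_val D hA i hi]
    simp only
    rw [h8sPerm_val D hA i hi]
    obtain ⟨η, hR⟩ := h8reflAll_spec D hA i hi
    exact hR.negc r.val r.2
  · unfold h8sPerm
    simp only [dif_neg hi, Equiv.Perm.one_apply]

theorem h8posneg_iff (D : ChevalleyDatum) (hB : H8Base.{0} D) (hBN : H8BN D) (hW : H8BN2 D)
    (hO2 : H8Ord2 D) (r : ℕ) (hr : r < D.nroots) :
    D.IsPosRoot (D.negIdx.getD r 0) ↔ ¬ D.IsPosRoot r := by
  constructor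
  · intro h hp
    exact h8pos_not_neg D hB hBN _ h (h8neg_of_pos D hB hO2 r hp)
  · intro h
    rcases hB.posneg r hr with hp | hn
    · exact absurd hp h
    · exact h8pos_of_neg D hB hBN hO2 r hn

theorem h8level_abs (D : ChevalleyDatum) (hB : H8Base.{0} D) (hA : H8ReflAll D) (hBN : H8BN D)
    (hW : H8BN2 D) (hO2 : H8Ord2 D) (j0 : ℕ) (hj0 : j0 ≤ D.rank) (m : ℕ) (hm : 0 < m)
    (tb : ℕ → ℕ → ℕ) (A : ℕ → Prop)
    (hA1 : ∀ r, A r → D.IsPosRoot r)
    (hA2 : ∀ j < j0 - 1, ∀ r < D.nroots, A r → A (D.reflectRoot j r))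
    (htree0 : ∀ r < D.nroots, tb 0 r = r)
    (htree : ∀ k < m, 0 < k → ∃ pk < k, ∃ ik < j0, ∀ r < D.nroots,
      tb k r = D.reflectRoot ik (tb pk r))
    (hL2 : ∀ k < m, ∀ r, D.IsPosRoot r → ¬ A r → D.IsPosRoot (tb k r))
    (hL3 : ∀ k < m, ∀ i < j0, (∃ k' < m, ∀ r < D.nroots, D.reflectRoot i (tb k r) = tb k' r) ∨
      (∃ j < j0 - 1, ∀ r < D.nroots, D.reflectRoot i (tb k r) = tb k (D.reflectRoot j r)))
    (hkey : ∀ k < m, ∀ k' < m, (∀ r < D.nroots, tb k r = tb k' r) → k = k')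
    (q : ℕ) :
    ∑ π ∈ h8fin (h8WJ D hA j0), q ^ h8Ninv D π =
      (∑ k ∈ Finset.range m, q ^ ((Finset.univ.filter fun r : Fin D.nroots =>
        D.IsPosRoot r.val ∧ ¬ D.IsPosRoot (tb k r.val)).card)) *
      ∑ v ∈ h8fin (h8WJ D hA (j0 - 1)), q ^ h8Ninv D v := by
  classical
  have hex : ∀ k < m, ∃ w : List ℕ, (∀ i ∈ w, i < j0) ∧ ∀ r < D.nroots, h8sW D w r = tb k r := by
    intro k
    induction k using Nat.strong_induction_on with
    | _ k ih =>
      intro hk
      rcases Nat.eq_zero_or_pos k with rfl | hpos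
      · exact ⟨[], by simp, fun r hr => (htree0 r hr).symm⟩
      · obtain ⟨pk, hpk, ik, hik, h1⟩ := htree k hk hpos
        obtain ⟨w', hw', h2⟩ := ih pk hpk (by omega)
        refine ⟨ik :: w', ?_, ?_⟩
        · intro i hi
          rcases List.mem_cons.mp hi with rfl | hi
          · exact hik
          · exact hw' i hi
        · intro r hr
          rw [h1 r hr, ← h2 r hr]
          rfl
  let wd : ℕ → List ℕ := fun k => if hk : k < m then Classical.choose (hex k hk) else []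
  have hwd1 : ∀ k < m, ∀ i ∈ wd k, i < j0 := by
    intro k hk
    simp only [wd, dif_pos hk]
    exact (Classical.choose_spec (hex k hk)).1
  have hwd2 : ∀ k < m, ∀ r < D.nroots, h8sW D (wd k) r = tb k r := by
    intro k hk
    simp only [wd, dif_pos hk]
    exact (Classical.choose_spec (hex k hk)).2
  have hwdr : ∀ k < m, ∀ i ∈ wd k, i < D.rank := fun k hk i hi => by
    have := hwd1 k hk i hi; omega
  let dk : ℕ → Equiv.Perm (Fin D.nroots) := fun k => h8wPerm D hA (wd k)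
  have hdkval : ∀ k < m, ∀ r : Fin D.nroots, (dk k r).val = tb k r.val := by
    intro k hk r
    simp only [dk]
    rw [h8wPerm_val D hA _ (hwdr k hk) r, hwd2 k hk r.val r.2]
  have hdkinj : ∀ k < m, ∀ k' < m, dk k = dk k' → k = k' := by
    intro k hk k' hk' e
    apply hkey k hk k' hk'
    intro r hr
    rw [← hdkval k hk ⟨r, hr⟩, ← hdkval k' hk' ⟨r, hr⟩, e]
  have hstep := h8cox_step (fun r : Fin D.nroots => D.IsPosRoot r.val)
    (fun r => ⟨D.negIdx.getD r.val 0, hW.neglt r.val r.2⟩)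
    (fun r => h8posneg_iff D hB hBN hW hO2 r.val r.2)
    (h8SJ D hA j0) (h8SJ D hA (j0 - 1))
    (by rintro π ⟨i, hi, rfl⟩; exact ⟨i, by omega, rfl⟩)
    (by rintro s ⟨i, hi, rfl⟩ r; exact h8sPerm_negc D hA hW i r)
    (by rintro s ⟨i, hi, rfl⟩; exact h8sPerm_inv D hA i)
    (fun r : Fin D.nroots => A r.val)
    (fun r h => hA1 r.val h)
    (by
      rintro s ⟨j, hj, rfl⟩ r h
      rw [h8sPerm_val D hA j (by omega)]
      exact hA2 j hj r.val r.2 h)
    ((Finset.range m).image dk)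
    (by
      intro d hd
      rw [Finset.mem_image] at hd
      obtain ⟨k, hk, rfl⟩ := hd
      rw [Finset.mem_range] at hk
      simp only [dk]
      unfold h8wPerm
      apply Subgroup.list_prod_mem
      intro x hx
      rw [List.mem_map] at hx
      obtain ⟨i, hi, rfl⟩ := hx
      exact Subgroup.subset_closure ⟨i, hwd1 k hk i hi, rfl⟩)
    (by
      intro d hd r hr hnA
      rw [Finset.mem_image] at hd
      obtain ⟨k, hk, rfl⟩ := hd
      rw [Finset.mem_range] at hk
      rw [hdkval k hk r]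
      exact hL2 k hk r.val hr hnA)
    (by
      intro d hd s hs
      rw [Finset.mem_image] at hd
      obtain ⟨k, hk, rfl⟩ := hd
      rw [Finset.mem_range] at hk
      obtain ⟨i, hi, rfl⟩ := hs
      have hir : i < D.rank := by omega
      rcases hL3 k hk i hi with ⟨k', hk', h1⟩ | ⟨j, hj, h1⟩
      · left
        rw [Finset.mem_image]
        refine ⟨k', Finset.mem_range.mpr hk', ?_⟩
        apply Equiv.ext
        intro r
        apply Fin.ext
        rw [Equiv.Perm.mul_apply, h8sPerm_val D hA i hir, hdkval k hk r, hdkval k' hk' r,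
          h1 r.val r.2]
      · right
        refine ⟨h8sPerm D hA j, ⟨j, hj, rfl⟩, ?_⟩
        apply Equiv.ext
        intro r
        apply Fin.ext
        rw [Equiv.Perm.mul_apply, Equiv.Perm.mul_apply, h8sPerm_val D hA i hir, hdkval k hk r,
          hdkval k hk, h8sPerm_val D hA j (by omega), h1 r.val r.2])
    (by
      rw [Finset.mem_image]
      refine ⟨0, Finset.mem_range.mpr hm, ?_⟩
      apply Equiv.ext
      intro r
      apply Fin.ext
      rw [hdkval 0 hm r, htree0 r.val r.2]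
      rfl)
    (by
      intro v hv h0
      apply h8W_inv_zero D hB hA hBN hW hO2 v ?_ h0
      refine Subgroup.closure_mono ?_ hv
      rintro π ⟨i, hi, rfl⟩
      exact ⟨i, by omega, rfl⟩)
    q
  have hsum : ∑ d ∈ (Finset.range m).image dk,
      q ^ h8Inv (fun r : Fin D.nroots => D.IsPosRoot r.val) d =
      ∑ k ∈ Finset.range m, q ^ ((Finset.univ.filter fun r : Fin D.nroots =>
        D.IsPosRoot r.val ∧ ¬ D.IsPosRoot (tb k r.val)).card) := by
    rw [Finset.sum_image]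
    · apply Finset.sum_congr rfl
      intro k hk
      rw [Finset.mem_range] at hk
      congr 1
      unfold h8Inv
      congr 1
      apply Finset.filter_congr
      intro r _
      show D.IsPosRoot r.val ∧ ¬ D.IsPosRoot (dk k r).val ↔ _
      rw [hdkval k hk r]
    · intro k hk k' hk' e
      rw [Finset.coe_range, Set.mem_Iio] at hk hk'
      exact hdkinj k hk k' hk' e
  rw [← hsum]
  exact hstep

end Cfsg.Agent.Lib.helper8
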