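import Mathlib
import Cfsg.Prelude.Def_ChevStructure
import Cfsg.Agent.Lib.helper8.ChevCnt6
import Cfsg.Agent.Lib.helper8.ChevCox2
import Cfsg.Agent.Lib.helper8.ChevH3
import Cfsg.Agent.Lib.helper8.ChevTabSC
import Cfsg.Agent.Lib.helper8.ChevBaseAll
import Cfsg.Agent.Lib.helper8.ChevReflAll
import Cfsg.Agent.Lib.helper8.ChevCommAll
import Cfsg.Agent.Lib.helper8.ChevBNAll2
import Cfsg.Agent.Lib.helper8.ChevOrdAll
import Cfsg.Agent.Lib.helper8.ChevPosLen

set_option autoImplicit false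

namespace Cfsg.Agent.Lib.helper8

open Cfsg.Lie Cfsg.Lie.ChevalleyDatum

universe u

variable {F : Type u} [Field F]

theorem h8Ninv_one (D : ChevalleyDatum) : h8Ninv D 1 = 0 := by
  unfold h8Ninv
  rw [Finset.card_eq_zero, Finset.filter_eq_empty_iff]
  rintro r _ ⟨h1, h2⟩
  exact h2 h1

theorem h8poin_mod (D : ChevalleyDatum)
    (hD : D ∈ [chevG2, chevB2, chevD4, chevF4, chevE6, chevE7, chevE8]) (q p : ℕ) (hpq : p ∣ q) :
    (∑ π ∈ h8Wfin D (h8reflAll D hD), q ^ h8Ninv D π) % p = 1 % p := by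
  classical
  have hB := h8base_all.{0} D hD
  have hA := h8reflAll D hD
  have hO := h8ord_all D hD
  have h1 : (1 : Equiv.Perm (Fin D.nroots)) ∈ h8Wfin D hA := by
    rw [h8Wfin_mem]
    exact Subgroup.one_mem _
  rw [← Finset.add_sum_erase _ _ h1, h8Ninv_one, pow_zero]
  have h2 : p ∣ ∑ π ∈ (h8Wfin D hA).erase 1, q ^ h8Ninv D π := by
    apply Finset.dvd_sum
    intro π hπ
    rw [Finset.mem_erase, h8Wfin_mem] at hπ
    have hne : h8Ninv D π ≠ 0 := fun h0 =>
      hπ.1 (h8W_inv_zero D hB hA (h8bn_all D hD) (h8bn2_all D hD) hO.2 π hπ.2 h0)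
    exact dvd_trans hpq (dvd_pow_self q hne)
  obtain ⟨k, hk⟩ := h2
  rw [hk, Nat.add_mul_mod_self_left]

theorem h8sylow_card [Fintype F] (p : ℕ) [Fact p.Prime] [CharP F p] (D : ChevalleyDatum)
    (hD : D ∈ [chevG2, chevB2, chevD4, chevF4, chevE6, chevE7, chevE8]) :
    Nat.card (D.posUnipotent F) = p ^ (Nat.card (D.group F)).factorization p := by
  classical
  have hp : p.Prime := Fact.out
  have hB := h8base_all.{u} D hD
  have hA := h8reflAll D hD
  have hO := h8ord_all D hD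
  have hU := h8card_U (F := F) D hB (h8commAll.{u} D hD) hO.1 hO.2 (h8posLen_all D hD)
  have hG := h8group_card' (F := F) D hB hA (h8commAll.{u} D hD) (h8bn_all D hD) (h8bn2_all D hD)
    hO.1 hO.2 (h8posLen_all D hD)
  have hH := h8H_card_ker (F := F) D hB (h8scChk_all D hD)
  obtain ⟨n, -, hq⟩ := FiniteField.card F p
  have hpq : p ∣ Fintype.card F := by
    rw [hq]
    exact dvd_pow_self p n.ne_zero
  have hS := h8poin_mod D hD (Fintype.card F) p hpq
  have hq2 : 2 ≤ Fintype.card F := by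
    have := Fintype.one_lt_card (α := F)
    omega
  have hnH : ¬ p ∣ Nat.card (D.diagonalSubgroup F) := by
    intro hd
    have h1 : p ∣ (Fintype.card F - 1) ^ D.rank := by
      rw [← hH]
      exact dvd_mul_of_dvd_right hd _
    have h2 := hp.dvd_of_dvd_pow h1
    have h3 : p ∣ Fintype.card F - (Fintype.card F - 1) := Nat.dvd_sub hpq h2
    have h4 : Fintype.card F - (Fintype.card F - 1) = 1 := by omega
    rw [h4] at h3
    exact hp.one_lt.ne' (Nat.dvd_one.mp h3)
  have hnS : ¬ p ∣ ∑ π ∈ h8Wfin D hA, Fintype.card F ^ h8Ninv D π := by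
    intro hd
    have := Nat.mod_eq_zero_of_dvd hd
    rw [hS, Nat.mod_eq_of_lt hp.one_lt] at this
    exact one_ne_zero this
  have hH0 : Nat.card (D.diagonalSubgroup F) ≠ 0 := Nat.card_pos.ne'
  have hS0 : ∑ π ∈ h8Wfin D hA, Fintype.card F ^ h8Ninv D π ≠ 0 := fun h0 => hnS (h0 ▸ dvd_zero p)
  generalize (∑ π ∈ h8Wfin D hA, Fintype.card F ^ h8Ninv D π) = S at hG hnS hS0
  rw [hU, hG, hq, ← pow_mul, mul_assoc,
    Nat.factorization_mul (pow_ne_zero _ hp.ne_zero) (mul_ne_zero hH0 hS0),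
    Nat.factorization_mul hH0 hS0, hp.factorization_pow]
  simp only [Finsupp.coe_add, Pi.add_apply, Finsupp.single_eq_same]
  rw [Nat.factorization_eq_zero_of_not_dvd hnH, Nat.factorization_eq_zero_of_not_dvd hnS, add_zero,
    add_zero]

end Cfsg.Agent.Lib.helper8
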