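import Mathlib
import Cfsg.Prelude.Def_ChevStructure
import Cfsg.Agent.Lib.helper8.ChevCent2
import Cfsg.Agent.Lib.helper8.ChevSyl

set_option autoImplicit false

namespace Cfsg.Agent.Lib.helper8

open Cfsg.Lie Cfsg.Lie.ChevalleyDatum

universe u

variable {F : Type u} [Field F]

def h8pairChk (D : ChevalleyDatum) (ws : List (List ℕ)) (cert : List ℕ) : Bool :=
  decide (D.nroots ≤ 256) && decide (0 < D.nroots) &&
  decide (D.negIdx.getD (D.nroots - 1) 0 = 0) &&
  ((List.range D.nroots).all fun s =>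
    !(decide (D.IsPosRoot s)) ||
      (decide (s ≠ 0) &&
        (decide (s = D.nroots - 1) ||
          (D.commTerms (D.nroots - 1) s).all fun c => decide (c.2.1 = 0)))) &&
  ((List.range D.nroots).all fun s => decide (s = 0) ||
    ((ws.getD (cert.getD s 0) []).all (fun i => decide (i < D.rank)) &&
     decide (D.IsPosRoot (h8sgW D (ws.getD (cert.getD s 0) []) (D.nroots - 1))) &&
     decide (D.IsPosRoot (h8sgW D (ws.getD (cert.getD s 0) []) s))))

theorem h8act_map_root (D : ChevalleyDatum) (hB : H8Base.{u} D) (g : GL D.Idx F) (r r' : ℕ)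
    (hr : r < D.nroots) (hr' : r' < D.nroots) (h : H8Act D hB g r r') :
    (D.rootSubgroup F r).map (MulAut.conj g).toMonoidHom = D.rootSubgroup F r' := by
  obtain ⟨c, hc, h1⟩ := h
  apply le_antisymm
  · rintro _ ⟨x, hx, rfl⟩
    obtain ⟨t, rfl⟩ := h8rootSubgroup_mem D hB r hr x hx
    rw [MulEquiv.coe_toMonoidHom, MulAut.conj_apply, h1]
    exact h8xU_mem_rootSubgroup D hB r' _
  · intro y hy
    obtain ⟨t, rfl⟩ := h8rootSubgroup_mem D hB r' hr' y hy
    refine ⟨h8xU D hB r (c⁻¹ * t), h8xU_mem_rootSubgroup D hB r _, ?_⟩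
    rw [MulEquiv.coe_toMonoidHom, MulAut.conj_apply, h1, mul_inv_cancel_left₀ hc]

theorem h8rootSubgroup_le_U (D : ChevalleyDatum) (r : ℕ) (hr : D.IsPosRoot r) :
    D.rootSubgroup F r ≤ D.posUnipotent F := by
  unfold ChevalleyDatum.rootSubgroup ChevalleyDatum.posUnipotent
  apply Subgroup.closure_mono
  rintro g ⟨t, hg⟩
  exact ⟨r, t, hr, hg⟩

theorem h8U_isPGroup [Fintype F] (p : ℕ) [Fact p.Prime] [CharP F p] (D : ChevalleyDatum)
    (hD : D ∈ [chevG2, chevB2, chevD4, chevF4, chevE6, chevE7, chevE8]) :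
    IsPGroup p (D.posUnipotent F) :=
  IsPGroup.of_card (h8sylow_card p D hD)

theorem h8map_conj_conj {G : Type*} [Group G] (a b : G) (K : Subgroup G) :
    (K.map (MulAut.conj b).toMonoidHom).map (MulAut.conj a).toMonoidHom =
      K.map (MulAut.conj (a * b)).toMonoidHom := by
  rw [Subgroup.map_map]
  congr 1
  ext x
  simp [MulAut.conj_apply, mul_assoc]

theorem h8map_conj_one {G : Type*} [Group G] (K : Subgroup G) :
    K.map (MulAut.conj (1 : G)).toMonoidHom = K := by
  ext x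
  simp

theorem h8nWU_act (D : ChevalleyDatum) (hB : H8Base.{u} D) (hA : H8ReflAll D) (w : List ℕ)
    (hw : ∀ i ∈ w, i < D.rank) (s : ℕ) (hs : s < D.nroots) :
    H8Act D hB (h8nWU D hB w : GL D.Idx F) s (h8sW D w s) := by
  obtain ⟨η, hη, h1⟩ := h8nWU_conj (F := F) D hB hA w hw s hs
  refine ⟨(η : F), ?_, fun t => ?_⟩
  · rcases hη with rfl | rfl <;> simp
  · rw [mul_inv_eq_iff_eq_mul]
    apply Units.ext
    rw [Units.val_mul, Units.val_mul, h8xU_val, h8xU_val]
    exact h1 t

theorem h8pair_main [Fintype F] [CharP F 2] (D : ChevalleyDatum)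
    (hD : D ∈ [chevG2, chevB2, chevD4, chevF4, chevE6, chevE7, chevE8])
    (ws : List (List ℕ)) (cert : List ℕ) (hchk : h8pairChk D ws cert = true)
    (g : GL D.Idx F) (hg : g ∈ D.group F) :
    IsPGroup 2 ↥(D.rootSubgroup F (D.nroots - 1) ⊔
      (D.rootSubgroup F (D.nroots - 1)).map (MulAut.conj g).toMonoidHom) ∨
    ∃ h ∈ D.group F, (D.rootSubgroup F (D.nroots - 1) ⊔
      (D.rootSubgroup F (D.nroots - 1)).map (MulAut.conj g).toMonoidHom).map
        (MulAut.conj h).toMonoidHom = D.rootSubgroup F (D.nroots - 1) ⊔ D.rootSubgroup F 0 := by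
  have hB := h8base_all.{u} D hD
  have hA := h8reflAll D hD
  have hC := h8commAll.{u} D hD
  have hBN := h8bn_all D hD
  have hW := h8bn2_all D hD
  haveI : Fact (Nat.Prime 2) := ⟨Nat.prime_two⟩
  have hU := h8U_isPGroup (F := F) 2 D hD
  unfold h8pairChk at hchk
  simp only [Bool.and_eq_true, decide_eq_true_eq, List.all_eq_true, List.mem_range,
    Bool.or_eq_true, Bool.not_eq_true', decide_eq_false_iff_not] at hchk
  obtain ⟨⟨⟨⟨h256, hpos⟩, hneg⟩, hcomm⟩, hcert⟩ := hchk
  generalize hrdef : D.nroots - 1 = r at *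
  have hr : r < D.nroots := by omega
  have key1 : ∀ s < D.nroots, D.IsPosRoot s →
      ∀ a v : F, h8xU D hB s v * h8xU D hB r a = h8xU D hB r a * h8xU D hB s v := by
    intro s hs hsP a v
    rcases hcomm s hs with h1 | ⟨h1, h2⟩
    · exact absurd hsP h1
    · apply h8comm_of_zero D hB hC r s hr hs (by rw [hneg]; exact h1)
      intro hsr c hc
      rcases h2 with h2 | h2
      · exact absurd h2 hsr
      · rw [h2 c hc, Int.cast_zero]
  have hBP : D.borelSubgroup F ≤ h8centP D hB F r := by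
    unfold ChevalleyDatum.borelSubgroup
    apply sup_le
    · unfold ChevalleyDatum.posUnipotent
      rw [Subgroup.closure_le]
      rintro x ⟨s, v, hs, hx⟩
      have hx' : x = h8xU D hB s v := Units.ext (by rw [hx, h8xU_val])
      rw [hx']
      refine ⟨1, one_ne_zero, fun a => ?_⟩
      rw [one_mul, mul_inv_eq_iff_eq_mul]
      exact key1 s hs.1 hs a v
    · intro x hx
      exact h8perm_H_id D hB x hx r hr
  obtain ⟨b, hb, n, hn, b', hb', e⟩ := h8bruhat D hB hA hC hBN hW g hg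
  obtain ⟨dep, par, horb⟩ := hBN.orb
  obtain ⟨σ, τ, a1, a2, a3, a4, a5, a6, a7⟩ := h8perm_N D hB hA dep par horb n hn
  have hs := a1 r hr
  have e1 := h8act_map_root D hB b' r r hr hr (hBP hb')
  have e2 := h8act_map_root D hB n r (σ r) hr hs (a7 r hr)
  have e3 := h8act_map_root D hB b r r hr hr (hBP hb)
  have hXg : (D.rootSubgroup F r).map (MulAut.conj g).toMonoidHom =
      (D.rootSubgroup F (σ r)).map (MulAut.conj b).toMonoidHom := by
    rw [e, ← h8map_conj_conj, ← h8map_conj_conj, e1, e2]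
  have hK : D.rootSubgroup F r ⊔ (D.rootSubgroup F r).map (MulAut.conj g).toMonoidHom =
      (D.rootSubgroup F r ⊔ D.rootSubgroup F (σ r)).map (MulAut.conj b).toMonoidHom := by
    rw [Subgroup.map_sup, e3, hXg]
  by_cases h0 : σ r = 0
  · right
    refine ⟨b⁻¹, Subgroup.inv_mem _ (h8_B_le_group D hB hb), ?_⟩
    rw [hK, h8map_conj_conj, inv_mul_cancel, h8map_conj_one, h0]
  · left
    rcases hcert (σ r) hs with h1 | ⟨⟨hw, hp1⟩, hp2⟩
    · exact absurd h1 h0
    · generalize ws.getD (cert.getD (σ r) 0) [] = w at hw hp1 hp2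
      rw [h8sgW_eq D hA h256 w hw r hr] at hp1
      rw [h8sgW_eq D hA h256 w hw (σ r) hs] at hp2
      have m1 := h8act_map_root D hB (h8nWU D hB w : GL D.Idx F) r (h8sW D w r) hr hp1.1
        (h8nWU_act D hB hA w hw r hr)
      have m2 := h8act_map_root D hB (h8nWU D hB w : GL D.Idx F) (σ r) (h8sW D w (σ r)) hs hp2.1
        (h8nWU_act D hB hA w hw (σ r) hs)
      have hle : (D.rootSubgroup F r ⊔ D.rootSubgroup F (σ r)).map
          (MulAut.conj (h8nWU D hB w : GL D.Idx F)).toMonoidHom ≤ D.posUnipotent F := by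
        rw [Subgroup.map_sup, m1, m2]
        exact sup_le (h8rootSubgroup_le_U D _ hp1) (h8rootSubgroup_le_U D _ hp2)
      have hP1 := hU.to_le hle
      have hP2 := hP1.map (MulAut.conj (b * (h8nWU D hB w : GL D.Idx F)⁻¹)).toMonoidHom
      rw [h8map_conj_conj, mul_assoc, inv_mul_cancel, mul_one, ← hK] at hP2
      exact hP2
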