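import Mathlib
import Cfsg.Prelude.Def_ChevStructure

set_option autoImplicit false

namespace Cfsg.Agent.Lib.helper8

open Cfsg.Lie Cfsg.Lie.ChevalleyDatum

def h8gk (D : ChevalleyDatum) (mk : List ℤ) (r : ℕ) : ℤ :=
  ((List.range D.rank).map fun i => mk.getD i 0 * D.cartan i r).sum

def h8linI (D : ChevalleyDatum) (mk : List ℤ) : List ℕ → List ℤ
  | [] => List.replicate D.nroots 0
  | i :: is => List.zipWith (fun a b => mk.getD i 0 * a + b) (D.cartanSR.getD i #[]).toList
      (h8linI D mk is)

theorem h8arr_getElem? (a : Array ℤ) (r : ℕ) (hr : r < a.size) :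
    a.toList[r]? = some (a.getD r 0) := by
  simp [Array.getD, hr]

theorem h8linI_spec (D : ChevalleyDatum) (mk : List ℤ) : ∀ (is : List ℕ),
    (∀ i ∈ is, (D.cartanSR.getD i #[]).size = D.nroots) → ∀ r < D.nroots,
      (h8linI D mk is)[r]? = some ((is.map fun i => mk.getD i 0 * D.cartan i r).sum)
  | [], _, r, hr => by
    unfold h8linI
    rw [List.getElem?_replicate, if_pos hr]
    rfl
  | i :: is, h, r, hr => by
    unfold h8linI
    have h1 := h i List.mem_cons_self
    have ih := h8linI_spec D mk is (fun j hj => h j (List.mem_cons_of_mem _ hj)) r hr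
    rw [List.getElem?_zipWith, ih, h8arr_getElem? _ r (by rw [h1]; exact hr)]
    rfl

theorem h8zipAll {α β : Type*} (f : α → β → Bool) : ∀ (l1 : List α) (l2 : List β),
    (List.zipWith f l1 l2).all id = true → ∀ (r : ℕ) (a : α) (b : β), l1[r]? = some a →
      l2[r]? = some b → f a b = true := by
  intro l1 l2 h r a b h1 h2
  rw [List.all_eq_true] at h
  apply h
  rw [List.mem_iff_getElem?]
  exact ⟨r, by rw [List.getElem?_zipWith, h1, h2]⟩

def h8lvlRow (D : ChevalleyDatum) (mk : List ℤ) (k : ℕ) : Bool :=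
  (List.zipWith (fun (g : ℤ) (row : Array ℤ) =>
      (decide (0 < row.getD k 0) == decide (0 < g)) &&
        (decide (row.getD k 0 < 0) == decide (g < 0)))
    (h8linI D mk (List.range D.rank)) D.coroot.toList).all id

def h8lvlChk (D : ChevalleyDatum) (m : List (List ℤ)) : Bool :=
  decide (D.coroot.size = D.nroots) &&
  ((List.range D.rank).all fun i => decide ((D.cartanSR.getD i #[]).size = D.nroots)) &&
  (List.range D.rank).all fun k => h8lvlRow D (m.getD k []) k

theorem h8lvlChk_spec (D : ChevalleyDatum) (m : List (List ℤ)) (h : h8lvlChk D m = true)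
    (r : ℕ) (hr : r < D.nroots) (k : ℕ) (hk : k < D.rank) :
    (0 < (D.coroot.getD r #[]).getD k 0 ↔ 0 < h8gk D (m.getD k []) r) ∧
      ((D.coroot.getD r #[]).getD k 0 < 0 ↔ h8gk D (m.getD k []) r < 0) := by
  unfold h8lvlChk at h
  simp only [Bool.and_eq_true, decide_eq_true_eq, List.all_eq_true, List.mem_range] at h
  obtain ⟨⟨h1, h2⟩, h3⟩ := h
  have h4 := h3 k hk
  unfold h8lvlRow at h4
  have h5 := h8linI_spec D (m.getD k []) (List.range D.rank)
    (fun i hi => h2 i (List.mem_range.mp hi)) r hr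
  have h6 : D.coroot.toList[r]? = some (D.coroot.getD r #[]) := by
    simp [Array.getD, h1, hr]
  have h7 := h8zipAll _ _ _ h4 r _ _ h5 h6
  simp only [Bool.and_eq_true, beq_iff_eq, decide_eq_decide] at h7
  exact h7

end Cfsg.Agent.Lib.helper8
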