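import Mathlib
import Cfsg.Prelude.Def_ChevStructure
import Cfsg.Agent.Lib.helper8.ChevLvl1
import Cfsg.Agent.Lib.helper8.ChevCA

set_option autoImplicit false

namespace Cfsg.Agent.Lib.helper8

open Cfsg.Lie Cfsg.Lie.ChevalleyDatum

theorem h8sum_lin (c A B C : ℕ → ℤ) (n : ℤ) : ∀ (l : List ℕ), (∀ i ∈ l, A i = B i + n * C i) →
    (l.map fun i => c i * A i).sum = (l.map fun i => c i * B i).sum +
      n * (l.map fun i => c i * C i).sum
  | [], _ => by simp
  | i :: l, h => by
    rw [List.map_cons, List.sum_cons, List.map_cons, List.sum_cons, List.map_cons, List.sum_cons,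
      h8sum_lin c A B C n l (fun j hj => h j (List.mem_cons_of_mem _ hj)), h i List.mem_cons_self]
    ring

theorem h8gk_add (D : ChevalleyDatum) (hCA : H8CA D) (mk : List ℤ) (s : ℕ) (hs : s < D.nroots)
    (v u : ℕ) (km : ℕ × ℤ) (hkm : km ∈ D.chainCoeff s v u) :
    h8gk D mk u = h8gk D mk v + (km.1 : ℤ) * h8gk D mk s := by
  unfold h8gk
  apply h8sum_lin
  intro i hi
  exact hCA.add i (List.mem_range.mp hi) s hs v u km hkm

theorem h8gk_neg (D : ChevalleyDatum) (hCA : H8CA D) (mk : List ℤ) (s : ℕ) (hs : s < D.nroots) :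
    h8gk D mk (D.negIdx.getD s 0) = - h8gk D mk s := by
  unfold h8gk
  have := h8sum_lin (fun i => mk.getD i 0) (fun i => D.cartan i (D.negIdx.getD s 0)) (fun _ => 0)
    (fun i => D.cartan i s) (-1) (List.range D.rank) (by
      intro i hi
      rw [hCA.neg i (List.mem_range.mp hi) s hs]
      ring)
  rw [this]
  simp

theorem h8chainCoeff_pos (D : ChevalleyDatum) (r s u : ℕ) (km : ℕ × ℤ)
    (h : km ∈ D.chainCoeff r s u) : 1 ≤ km.1 := by
  unfold ChevalleyDatum.chainCoeff at h
  rw [List.mem_flatMap] at h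
  obtain ⟨e, _, h⟩ := h
  rw [List.mem_map] at h
  obtain ⟨q, _, rfl⟩ := h
  exact Nat.le_add_left 1 q.2

open Classical in
noncomputable def h8levJ (D : ChevalleyDatum) (m : List (List ℤ)) (J : Set ℕ) (r : ℕ) : ℤ :=
  ((List.range D.rank).map fun k => if k ∈ J then 0 else h8gk D (m.getD k []) r).sum

theorem h8sum_lin2 (A B C : ℕ → ℤ) (n : ℤ) : ∀ (l : List ℕ), (∀ i ∈ l, A i = B i + n * C i) →
    (l.map A).sum = (l.map B).sum + n * (l.map C).sum
  | [], _ => by simp
  | i :: l, h => by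
    rw [List.map_cons, List.sum_cons, List.map_cons, List.sum_cons, List.map_cons, List.sum_cons,
      h8sum_lin2 A B C n l (fun j hj => h j (List.mem_cons_of_mem _ hj)), h i List.mem_cons_self]
    ring

theorem h8levJ_add (D : ChevalleyDatum) (hCA : H8CA D) (m : List (List ℤ)) (J : Set ℕ) (s : ℕ)
    (hs : s < D.nroots) (v u : ℕ) (km : ℕ × ℤ) (hkm : km ∈ D.chainCoeff s v u) :
    h8levJ D m J u = h8levJ D m J v + (km.1 : ℤ) * h8levJ D m J s := by
  unfold h8levJ
  apply h8sum_lin2
  intro k _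
  by_cases hk : k ∈ J
  · simp [hk]
  · simp only [hk, if_false]
    exact h8gk_add D hCA _ s hs v u km hkm

open Classical in
theorem h8levJ_neg (D : ChevalleyDatum) (hCA : H8CA D) (m : List (List ℤ)) (J : Set ℕ) (s : ℕ)
    (hs : s < D.nroots) : h8levJ D m J (D.negIdx.getD s 0) = - h8levJ D m J s := by
  unfold h8levJ
  have := h8sum_lin2 (fun k => if k ∈ J then 0 else h8gk D (m.getD k []) (D.negIdx.getD s 0))
    (fun _ => 0) (fun k => if k ∈ J then 0 else h8gk D (m.getD k []) s) (-1)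
    (List.range D.rank) (by
      intro k _
      by_cases hk : k ∈ J
      · simp [hk]
      · simp only [hk, if_false]
        rw [h8gk_neg D hCA _ s hs]
        ring)
  rw [this]
  simp

theorem h8getD_mem_or (a : Array ℤ) (k : ℕ) : a.getD k 0 = 0 ∨ a.getD k 0 ∈ a.toList := by
  by_cases hk : k < a.size
  · right
    have := h8arr_getElem? a k hk
    exact List.mem_of_getElem? this
  · left
    simp [Array.getD, hk]

theorem h8levJ_zero (D : ChevalleyDatum) (m : List (List ℤ)) (hL : h8lvlChk D m = true)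
    (J : Set ℕ) (r : ℕ) (hr : D.InRootSub J r) : h8levJ D m J r = 0 := by
  unfold h8levJ
  apply List.sum_eq_zero
  intro x hx
  rw [List.mem_map] at hx
  obtain ⟨k, hk, rfl⟩ := hx
  by_cases hkJ : k ∈ J
  · simp [hkJ]
  · simp only [hkJ, if_false]
    have hk' := List.mem_range.mp hk
    obtain ⟨h1, h2⟩ := h8lvlChk_spec D m hL r hr.1 k hk'
    have h0 := hr.2 k hk' hkJ
    rw [h0] at h1 h2
    have a1 : ¬ 0 < h8gk D (m.getD k []) r := fun h => absurd (h1.mpr h) (lt_irrefl 0)
    have a2 : ¬ h8gk D (m.getD k []) r < 0 := fun h => absurd (h2.mpr h) (lt_irrefl 0)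
    omega

open Classical in
theorem h8levJ_pos (D : ChevalleyDatum) (m : List (List ℤ)) (hL : h8lvlChk D m = true)
    (J : Set ℕ) (r : ℕ) (hp : D.IsPosRoot r) (hr : ¬ D.InRootSub J r) : 1 ≤ h8levJ D m J r := by
  have hnn : ∀ k < D.rank, 0 ≤ h8gk D (m.getD k []) r := by
    intro k hk
    obtain ⟨_, h2⟩ := h8lvlChk_spec D m hL r hp.1 k hk
    by_contra hlt
    have h3 := h2.mpr (by omega)
    rcases h8getD_mem_or (D.coroot.getD r #[]) k with h0 | hm
    · omega
    · have := hp.2 _ hm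
      omega
  have hex : ∃ k < D.rank, k ∉ J ∧ (D.coroot.getD r #[]).getD k 0 ≠ 0 := by
    by_contra hcon
    apply hr
    refine ⟨hp.1, fun i hi hiJ => ?_⟩
    by_contra hne
    exact hcon ⟨i, hi, hiJ, hne⟩
  obtain ⟨k, hk, hkJ, hne⟩ := hex
  have hgk : 1 ≤ h8gk D (m.getD k []) r := by
    obtain ⟨h1, _⟩ := h8lvlChk_spec D m hL r hp.1 k hk
    have hpos : 0 < (D.coroot.getD r #[]).getD k 0 := by
      rcases h8getD_mem_or (D.coroot.getD r #[]) k with h0 | hm
      · exact absurd h0 hne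
      · have := hp.2 _ hm
        omega
    have := h1.mp hpos
    omega
  unfold h8levJ
  have hall : ∀ x ∈ (List.range D.rank).map
      (fun k => if k ∈ J then 0 else h8gk D (m.getD k []) r), 0 ≤ x := by
    intro x hx
    rw [List.mem_map] at hx
    obtain ⟨k', hk', rfl⟩ := hx
    by_cases h : k' ∈ J
    · simp [h]
    · simp only [h, if_false]
      exact hnn k' (List.mem_range.mp hk')
  have hmem : h8gk D (m.getD k []) r ∈ (List.range D.rank).map
      (fun k => if k ∈ J then 0 else h8gk D (m.getD k []) r) := by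
    rw [List.mem_map]
    exact ⟨k, List.mem_range.mpr hk, by simp [hkJ]⟩
  exact le_trans hgk (List.single_le_sum hall _ hmem)

theorem h8sum_nonpos : ∀ (l : List ℤ), (∀ x ∈ l, x ≤ 0) → l.sum ≤ 0
  | [], _ => by simp
  | a :: l, h => by
    rw [List.sum_cons]
    have h1 := h a List.mem_cons_self
    have h2 := h8sum_nonpos l (fun x hx => h x (List.mem_cons_of_mem _ hx))
    omega

theorem h8levJ_nonpos_of_neg (D : ChevalleyDatum) (m : List (List ℤ)) (hL : h8lvlChk D m = true)
    (J : Set ℕ) (r : ℕ) (hn : D.IsNegRoot r) : h8levJ D m J r ≤ 0 := by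
  unfold h8levJ
  apply h8sum_nonpos
  intro x hx
  rw [List.mem_map] at hx
  obtain ⟨k, hk, rfl⟩ := hx
  by_cases h : k ∈ J
  · simp [h]
  · simp only [h, if_false]
    obtain ⟨h1, _⟩ := h8lvlChk_spec D m hL r hn.1 k (List.mem_range.mp hk)
    by_contra hlt
    have h3 := h1.mpr (by omega)
    rcases h8getD_mem_or (D.coroot.getD r #[]) k with h0 | hm
    · omega
    · have := hn.2 _ hm
      omega

end Cfsg.Agent.Lib.helper8
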