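import Mathlib
import Cfsg.Prelude.Def_ChevStructure
import Cfsg.Agent.Lib.helper8.ChevLvl2
import Cfsg.Agent.Lib.helper8.Unitri

set_option autoImplicit false

namespace Cfsg.Agent.Lib.helper8

open Cfsg.Lie Cfsg.Lie.ChevalleyDatum

universe u

variable {F : Type u} [Field F]

theorem h8xMat_unitri_gen (D : ChevalleyDatum) (ρ : D.Idx → ℕ) (k : ℕ) (r : Fin D.nroots) (t : F)
    (ha : ∀ i : Fin D.rank, ρ (Sum.inl i) + k ≤ ρ (Sum.inr r))
    (hb1 : ∀ s : Fin D.nroots, s.val = D.negIdx.getD r.val 0 →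
      ∀ i : Fin D.rank, ρ (Sum.inr s) + k ≤ ρ (Sum.inl i))
    (hb2 : ∀ s : Fin D.nroots, s.val = D.negIdx.getD r.val 0 →
      ρ (Sum.inr s) + k ≤ ρ (Sum.inr r))
    (hc : ∀ s u : Fin D.nroots, D.chainCoeff r.val s.val u.val ≠ [] →
      ρ (Sum.inr s) + k ≤ ρ (Sum.inr u)) :
    H8Unitri ρ k (D.xMat F r t) := by
  intro row col hne
  rw [Matrix.sub_apply, Matrix.one_apply] at hne
  unfold ChevalleyDatum.xMat at hne
  rw [Matrix.of_apply] at hne
  generalize D.negIdx.getD r.val 0 = nr at hne hb1 hb2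
  rcases col with i | s
  · rcases row with i' | u
    · exfalso
      apply hne
      by_cases hii : i' = i
      · simp [hii]
      · have : ¬ (Sum.inl i' : D.Idx) = Sum.inl i := fun h => hii (Sum.inl.inj h)
        simp [hii]
    · by_cases hur : u = r
      · subst hur
        exact ha i
      · exfalso
        apply hne
        simp [hur]
  · by_cases hsr : s = r
    · exfalso
      apply hne
      subst hsr
      rcases row with i' | u
      · simp
      · by_cases hus : u = s
        · simp [hus]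
        · have : ¬ (Sum.inr u : D.Idx) = Sum.inr s := fun h => hus (Sum.inr.inj h)
          simp [hus]
    · by_cases hsn : s.val = nr
      · rcases row with i' | u
        · exact hb1 s hsn i'
        · by_cases hus : u = s
          · exfalso
            apply hne
            simp [hsr, hsn, hus]
          · by_cases hur : u = r
            · subst hur
              exact hb2 s hsn
            · exfalso
              apply hne
              have : ¬ (Sum.inr u : D.Idx) = Sum.inr s := fun h => hus (Sum.inr.inj h)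
              simp [hsr, hsn, hus, hur]
      · rcases row with i' | u
        · exfalso
          apply hne
          simp [hsr, hsn]
        · simp only [hsr, hsn, if_false] at hne
          by_cases hcc : D.chainCoeff r.val s.val u.val = []
          · exfalso
            apply hne
            rw [hcc]
            by_cases hus : u = s
            · simp [hus]
            · have : ¬ (Sum.inr u : D.Idx) = Sum.inr s := fun h => hus (Sum.inr.inj h)
              simp [hus]
          · exact hc s u hcc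

noncomputable def h8levI (D : ChevalleyDatum) (m : List (List ℤ)) (J : Set ℕ) : D.Idx → ℤ
  | Sum.inl _ => 0
  | Sum.inr s => h8levJ D m J s.val

noncomputable def h8bnd (D : ChevalleyDatum) (m : List (List ℤ)) (J : Set ℕ) : ℤ :=
  ∑ s : Fin D.nroots, |h8levJ D m J s.val|

theorem h8levI_le (D : ChevalleyDatum) (m : List (List ℤ)) (J : Set ℕ) (c : D.Idx) :
    |h8levI D m J c| ≤ h8bnd D m J := by
  rcases c with i | s
  · show |(0 : ℤ)| ≤ _
    rw [abs_zero]
    unfold h8bnd
    exact Finset.sum_nonneg fun _ _ => abs_nonneg _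
  · show |h8levJ D m J s.val| ≤ _
    unfold h8bnd
    exact Finset.single_le_sum (f := fun s : Fin D.nroots => |h8levJ D m J s.val|)
      (fun _ _ => abs_nonneg _) (Finset.mem_univ s)

noncomputable def h8rhoJ (D : ChevalleyDatum) (m : List (List ℤ)) (J : Set ℕ) (c : D.Idx) : ℕ :=
  (h8bnd D m J + h8levI D m J c).toNat

noncomputable def h8rhoJ' (D : ChevalleyDatum) (m : List (List ℤ)) (J : Set ℕ) (c : D.Idx) : ℕ :=
  (h8bnd D m J - h8levI D m J c).toNat

theorem h8rhoJ_cast (D : ChevalleyDatum) (m : List (List ℤ)) (J : Set ℕ) (c : D.Idx) :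
    ((h8rhoJ D m J c : ℕ) : ℤ) = h8bnd D m J + h8levI D m J c := by
  unfold h8rhoJ
  have := abs_le.mp (h8levI_le D m J c)
  rw [Int.toNat_of_nonneg (by omega)]

theorem h8rhoJ'_cast (D : ChevalleyDatum) (m : List (List ℤ)) (J : Set ℕ) (c : D.Idx) :
    ((h8rhoJ' D m J c : ℕ) : ℤ) = h8bnd D m J - h8levI D m J c := by
  unfold h8rhoJ'
  have := abs_le.mp (h8levI_le D m J c)
  rw [Int.toNat_of_nonneg (by omega)]

theorem h8rhoJ_lt (D : ChevalleyDatum) (m : List (List ℤ)) (J : Set ℕ) (c : D.Idx) :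
    h8rhoJ D m J c < (2 * h8bnd D m J + 1).toNat := by
  have h1 := h8rhoJ_cast D m J c
  have h2 := abs_le.mp (h8levI_le D m J c)
  omega

theorem h8x_lvl (D : ChevalleyDatum) (hCA : H8CA D) (m : List (List ℤ)) (J : Set ℕ) (r : ℕ)
    (hr : r < D.nroots) (t : F) (k : ℕ) (hk : (k : ℤ) ≤ h8levJ D m J r)
    (hk' : k = 0 ∨ k = 1) :
    H8Unitri (h8rhoJ D m J) k (D.x F r t) := by
  unfold ChevalleyDatum.x
  rw [dif_pos hr]
  have hnegl := h8levJ_neg D hCA m J r hr
  apply h8xMat_unitri_gen
  · intro i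
    have h1 := h8rhoJ_cast D m J (Sum.inl i)
    have h2 := h8rhoJ_cast D m J (Sum.inr ⟨r, hr⟩)
    have e1 : h8levI D m J (Sum.inl i) = 0 := rfl
    have e2 : h8levI D m J (Sum.inr ⟨r, hr⟩) = h8levJ D m J r := rfl
    omega
  · intro s hs i
    have hs : s.val = D.negIdx.getD r 0 := hs
    have h1 := h8rhoJ_cast D m J (Sum.inl i)
    have h2 := h8rhoJ_cast D m J (Sum.inr s)
    have e1 : h8levI D m J (Sum.inl i) = 0 := rfl
    have e2 : h8levI D m J (Sum.inr s) = h8levJ D m J s.val := rfl
    rw [hs] at e2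
    omega
  · intro s hs
    have hs : s.val = D.negIdx.getD r 0 := hs
    have h1 := h8rhoJ_cast D m J (Sum.inr ⟨r, hr⟩)
    have h2 := h8rhoJ_cast D m J (Sum.inr s)
    have e1 : h8levI D m J (Sum.inr ⟨r, hr⟩) = h8levJ D m J r := rfl
    have e2 : h8levI D m J (Sum.inr s) = h8levJ D m J s.val := rfl
    rw [hs] at e2
    omega
  · intro s u hcc
    obtain ⟨km, hkm⟩ := List.exists_mem_of_ne_nil _ hcc
    have hadd := h8levJ_add D hCA m J r hr s.val u.val km hkm
    have hpos := h8chainCoeff_pos D _ _ _ km hkm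
    have h1 := h8rhoJ_cast D m J (Sum.inr u)
    have h2 := h8rhoJ_cast D m J (Sum.inr s)
    have e1 : h8levI D m J (Sum.inr u) = h8levJ D m J u.val := rfl
    have e2 : h8levI D m J (Sum.inr s) = h8levJ D m J s.val := rfl
    have h3 : (k : ℤ) ≤ (km.1 : ℤ) * h8levJ D m J r := by
      rcases hk' with rfl | rfl
      · have : (0 : ℤ) ≤ h8levJ D m J r := by exact_mod_cast hk
        positivity
      · have h4 : (1 : ℤ) ≤ h8levJ D m J r := by exact_mod_cast hk
        have h5 : (1 : ℤ) ≤ (km.1 : ℤ) := by exact_mod_cast hpos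
        nlinarith
    omega

theorem h8x_lvl' (D : ChevalleyDatum) (hCA : H8CA D) (m : List (List ℤ)) (J : Set ℕ) (r : ℕ)
    (hr : r < D.nroots) (t : F) (h0 : h8levJ D m J r = 0) :
    H8Unitri (h8rhoJ' D m J) 0 (D.x F r t) := by
  unfold ChevalleyDatum.x
  rw [dif_pos hr]
  have hnegl := h8levJ_neg D hCA m J r hr
  apply h8xMat_unitri_gen
  · intro i
    have h1 := h8rhoJ'_cast D m J (Sum.inl i)
    have h2 := h8rhoJ'_cast D m J (Sum.inr ⟨r, hr⟩)
    have e1 : h8levI D m J (Sum.inl i) = 0 := rfl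
    have e2 : h8levI D m J (Sum.inr ⟨r, hr⟩) = h8levJ D m J r := rfl
    omega
  · intro s hs i
    have hs : s.val = D.negIdx.getD r 0 := hs
    have h1 := h8rhoJ'_cast D m J (Sum.inl i)
    have h2 := h8rhoJ'_cast D m J (Sum.inr s)
    have e1 : h8levI D m J (Sum.inl i) = 0 := rfl
    have e2 : h8levI D m J (Sum.inr s) = h8levJ D m J s.val := rfl
    rw [hs] at e2
    omega
  · intro s hs
    have hs : s.val = D.negIdx.getD r 0 := hs
    have h1 := h8rhoJ'_cast D m J (Sum.inr ⟨r, hr⟩)
    have h2 := h8rhoJ'_cast D m J (Sum.inr s)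
    have e1 : h8levI D m J (Sum.inr ⟨r, hr⟩) = h8levJ D m J r := rfl
    have e2 : h8levI D m J (Sum.inr s) = h8levJ D m J s.val := rfl
    rw [hs] at e2
    omega
  · intro s u hcc
    obtain ⟨km, hkm⟩ := List.exists_mem_of_ne_nil _ hcc
    have hadd := h8levJ_add D hCA m J r hr s.val u.val km hkm
    have h1 := h8rhoJ'_cast D m J (Sum.inr u)
    have h2 := h8rhoJ'_cast D m J (Sum.inr s)
    have e1 : h8levI D m J (Sum.inr u) = h8levJ D m J u.val := rfl
    have e2 : h8levI D m J (Sum.inr s) = h8levJ D m J s.val := rfl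
    rw [h0, mul_zero, add_zero] at hadd
    omega

end Cfsg.Agent.Lib.helper8
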