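import Mathlib
import Cfsg.Prelude.Def_ChevStructure
import Cfsg.Agent.Lib.helper8.ChevLvl3
import Cfsg.Agent.Lib.helper8.ChevBorel
import Cfsg.Agent.Lib.helper8.ChevUp

set_option autoImplicit false

namespace Cfsg.Agent.Lib.helper8

open Cfsg.Lie Cfsg.Lie.ChevalleyDatum

universe u

variable {F : Type u} [Field F]

theorem h8UJ_unitri (D : ChevalleyDatum) (hB : H8Base.{u} D) (m : List (List ℤ))
    (hL : h8lvlChk D m = true) (J : Set ℕ) (g : GL D.Idx F) (hg : g ∈ D.unipotentRadical F J) :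
    H8Unitri (h8rhoJ D m J) 1 (g : Matrix D.Idx D.Idx F) := by
  unfold ChevalleyDatum.unipotentRadical at hg
  induction hg using Subgroup.closure_induction with
  | mem x hx =>
    obtain ⟨r, t, hr, hnJ, hx⟩ := hx
    rw [hx]
    have h1 := h8levJ_pos D m hL J r hr hnJ
    exact h8x_lvl D hB.ca m J r hr.1 t 1 (by exact_mod_cast h1) (Or.inr rfl)
  | one => exact h8unitri_one _ _
  | mul x y _ _ hx hy =>
    rw [Units.val_mul]
    exact h8unitri_mul hx hy
  | inv x _ hx =>
    refine h8unitri_inv (le_refl 1) (h8rhoJ_lt D m J) hx ?_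
    rw [← Units.val_mul, mul_inv_cancel, Units.val_one]

theorem h8LJ_le_tri (D : ChevalleyDatum) (hB : H8Base.{u} D) (m : List (List ℤ))
    (hL : h8lvlChk D m = true) (J : Set ℕ) :
    D.leviSubgroup F J ≤ h8TriSubgroup (F := F) (h8rhoJ' D m J) := by
  unfold ChevalleyDatum.leviSubgroup
  apply sup_le (h8_H_le_tri D hB _)
  rw [Subgroup.closure_le]
  rintro g ⟨r, t, hr, hg⟩
  have h0 := h8levJ_zero D m hL J r hr
  have hg' : g = h8xU D hB r t := Units.ext (by rw [hg, h8xU_val])
  refine ⟨?_, ?_⟩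
  · rw [hg]
    exact h8unitri_tri (h8x_lvl' D hB.ca m J r hr.1 t h0)
  · rw [hg', h8xU_inv, h8xU_val]
    exact h8unitri_tri (h8x_lvl' D hB.ca m J r hr.1 (-t) h0)

theorem h8UJ_inf_LJ (D : ChevalleyDatum) (hB : H8Base.{u} D) (m : List (List ℤ))
    (hL : h8lvlChk D m = true) (J : Set ℕ) :
    D.unipotentRadical F J ⊓ D.leviSubgroup F J = ⊥ := by
  rw [eq_bot_iff]
  intro g hg
  rw [Subgroup.mem_inf] at hg
  have h2 := h8UJ_unitri D hB m hL J g hg.1
  have h1 := (h8LJ_le_tri D hB m hL J hg.2).1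
  rw [Subgroup.mem_bot]
  apply Units.ext
  rw [Units.val_one]
  ext i j
  by_cases hij : i = j
  · subst hij
    by_contra hne
    have h3 : ((g : Matrix D.Idx D.Idx F) - 1) i i ≠ 0 := by
      rw [Matrix.sub_apply, Matrix.one_apply_eq]
      intro h0
      apply hne
      rw [Matrix.one_apply_eq]
      exact sub_eq_zero.mp h0
    have := h2 i i h3
    omega
  · rw [Matrix.one_apply_ne hij]
    by_contra hne
    have h3 : ((g : Matrix D.Idx D.Idx F) - 1) i j ≠ 0 := by
      rw [Matrix.sub_apply, Matrix.one_apply_ne hij, sub_zero]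
      exact hne
    have h4 := h2 i j h3
    have h5 := h1 i j hne
    have c1 := h8rhoJ_cast D m J i
    have c2 := h8rhoJ_cast D m J j
    have c3 := h8rhoJ'_cast D m J i
    have c4 := h8rhoJ'_cast D m J j
    omega

end Cfsg.Agent.Lib.helper8
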