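import Mathlib
import Cfsg.Prelude.Def_ChevStructure
import Cfsg.Agent.Lib.helper8.ChevLvl4
import Cfsg.Agent.Lib.helper8.ChevSLTable
import Cfsg.Agent.Lib.helper8.ChevCommOrb

set_option autoImplicit false

namespace Cfsg.Agent.Lib.helper8

open Cfsg.Lie Cfsg.Lie.ChevalleyDatum

universe u

variable {F : Type u} [Field F]

theorem h8chainRoot_lev (D : ChevalleyDatum) (hCA : H8CA D) (m : List (List ℤ)) (J : Set ℕ)
    (a b i v : ℕ) (ha : a < D.nroots)
    (hsorted : (((D.chain.getD a #[]).toList).map Prod.fst).Pairwise (· < ·))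
    (hi : 1 ≤ i) (h : D.chainRoot a b i = some v) :
    h8levJ D m J v = h8levJ D m J b + (i : ℤ) * h8levJ D m J a ∧
      ∃ q ∈ D.chainEntry a b, q.1 = v := by
  unfold ChevalleyDatum.chainRoot at h
  cases hq : (D.chainEntry a b)[i - 1]? with
  | none => rw [hq] at h; cases h
  | some q =>
    rw [hq] at h
    have hqv : q.1 = v := Option.some.inj h
    refine ⟨?_, q, List.mem_of_getElem? hq, hqv⟩
    have hmem : ((i - 1 + 1, q.2) : ℕ × ℤ) ∈ D.chainCoeff a b v := by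
      rw [h8chainCoeff_eq D a b v hsorted, List.mem_map]
      refine ⟨(q, i - 1), ?_, rfl⟩
      rw [List.mem_filter]
      refine ⟨?_, by simpa using hqv⟩
      rw [List.mem_zipIdx_iff_getElem?]
      exact hq
    have := h8levJ_add D hCA m J a ha b v _ hmem
    rw [this]
    have e : i - 1 + 1 = i := by omega
    simp only [e]

theorem h8commTerms_lev (D : ChevalleyDatum) (hCA : H8CA D) (m : List (List ℤ)) (J : Set ℕ)
    (hsorted : ∀ a < D.nroots, (((D.chain.getD a #[]).toList).map Prod.fst).Pairwise (· < ·))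
    (hlt : ∀ a b, a < D.nroots → ∀ q ∈ D.chainEntry a b, q.1 < D.nroots)
    (r s : ℕ) (hr : r < D.nroots) (hs : s < D.nroots) (c : ℕ × ℤ × ℕ × ℕ)
    (hc : c ∈ D.commTerms r s) :
    c.1 < D.nroots ∧ ∃ i j : ℕ, 1 ≤ i ∧ 1 ≤ j ∧
      h8levJ D m J c.1 = (i : ℤ) * h8levJ D m J r + (j : ℤ) * h8levJ D m J s := by
  have A : ∀ a b i v, a < D.nroots → 1 ≤ i → D.chainRoot a b i = some v →
      v < D.nroots ∧ h8levJ D m J v = h8levJ D m J b + (i : ℤ) * h8levJ D m J a := by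
    intro a b i v ha hi h
    obtain ⟨h1, q, hq, hqv⟩ := h8chainRoot_lev D hCA m J a b i v ha (hsorted a ha) hi h
    exact ⟨hqv ▸ hlt a b ha q hq, h1⟩
  unfold ChevalleyDatum.commTerms at hc
  rw [List.mem_filterMap] at hc
  obtain ⟨cand, hcand, hmap⟩ := hc
  have hc1 : cand.1 = some c.1 := by
    cases hk : cand.1 with
    | none => rw [hk] at hmap; cases hmap
    | some k =>
      rw [hk] at hmap
      have := Option.some.inj hmap
      rw [← this]
  simp only [List.mem_cons, List.mem_nil_iff, or_false] at hcand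
  rcases hcand with rfl | rfl | rfl | rfl | rfl | rfl | rfl
  · obtain ⟨h1, h2⟩ := A r s 1 c.1 hr le_rfl hc1
    exact ⟨h1, 1, 1, le_rfl, le_rfl, by rw [h2]; push_cast; ring⟩
  · obtain ⟨h1, h2⟩ := A r s 2 c.1 hr (by norm_num) hc1
    exact ⟨h1, 2, 1, by norm_num, le_rfl, by rw [h2]; push_cast; ring⟩
  · obtain ⟨h1, h2⟩ := A s r 2 c.1 hs (by norm_num) hc1
    exact ⟨h1, 1, 2, le_rfl, by norm_num, by rw [h2]; push_cast; ring⟩
  · obtain ⟨h1, h2⟩ := A r s 3 c.1 hr (by norm_num) hc1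
    exact ⟨h1, 3, 1, by norm_num, le_rfl, by rw [h2]; push_cast; ring⟩
  · obtain ⟨h1, h2⟩ := A s r 3 c.1 hs (by norm_num) hc1
    exact ⟨h1, 1, 3, le_rfl, by norm_num, by rw [h2]; push_cast; ring⟩
  · simp only at hc1
    rw [Option.bind_eq_some_iff] at hc1
    obtain ⟨k, hk1, hk2⟩ := hc1
    obtain ⟨h1, h2⟩ := A r s 3 k hr (by norm_num) hk1
    obtain ⟨h3, h4⟩ := A k s 1 c.1 h1 le_rfl hk2
    exact ⟨h3, 3, 2, by norm_num, by norm_num, by rw [h4, h2]; push_cast; ring⟩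
  · simp only at hc1
    rw [Option.bind_eq_some_iff] at hc1
    obtain ⟨k, hk1, hk2⟩ := hc1
    obtain ⟨h1, h2⟩ := A s r 3 k hs (by norm_num) hk1
    obtain ⟨h3, h4⟩ := A k r 1 c.1 h1 le_rfl hk2
    exact ⟨h3, 2, 3, by norm_num, by norm_num, by rw [h4, h2]; push_cast; ring⟩

end Cfsg.Agent.Lib.helper8
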