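import Mathlib
import Cfsg.Prelude.Def_ChevStructure
import Cfsg.Agent.Lib.helper8.ChevLvl5
import Cfsg.Agent.Lib.helper8.ChevBN1
import Cfsg.Agent.Lib.helper8.ChevOrd

set_option autoImplicit false

namespace Cfsg.Agent.Lib.helper8

open Cfsg.Lie Cfsg.Lie.ChevalleyDatum

universe u

variable {F : Type u} [Field F]

theorem h8UJ_mem_of_lev (D : ChevalleyDatum) (hB : H8Base.{u} D) (m : List (List ℤ))
    (hL : h8lvlChk D m = true) (J : Set ℕ) (v : ℕ) (hv : v < D.nroots)
    (h1 : 1 ≤ h8levJ D m J v) (t : F) : h8xU D hB v t ∈ D.unipotentRadical F J := by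
  have hpos : D.IsPosRoot v := by
    rcases hB.posneg v hv with hp | hn
    · exact hp
    · have := h8levJ_nonpos_of_neg D m hL J v hn
      omega
  have hnJ : ¬ D.InRootSub J v := by
    intro h
    have := h8levJ_zero D m hL J v h
    omega
  unfold ChevalleyDatum.unipotentRadical
  apply Subgroup.subset_closure
  exact ⟨v, t, hpos, hnJ, h8xU_val D hB v t⟩

theorem h8conj_UJ (D : ChevalleyDatum) (hB : H8Base.{u} D) (hC : H8CommAll.{u} D)
    (m : List (List ℤ)) (hL : h8lvlChk D m = true) (J : Set ℕ)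
    (hsorted : ∀ a < D.nroots, (((D.chain.getD a #[]).toList).map Prod.fst).Pairwise (· < ·))
    (hlt : ∀ a b, a < D.nroots → ∀ q ∈ D.chainEntry a b, q.1 < D.nroots)
    (r : ℕ) (hr : D.IsPosRoot r) (hrJ : ¬ D.InRootSub J r) (s : ℕ) (hs : s < D.nroots)
    (hs0 : 0 ≤ h8levJ D m J s) (t u : F) :
    h8xU D hB s u * h8xU D hB r t * (h8xU D hB s u)⁻¹ ∈ D.unipotentRadical F J := by
  have hr1 := h8levJ_pos D m hL J r hr hrJ
  have hb : h8xU D hB r t ∈ D.unipotentRadical F J := h8UJ_mem_of_lev D hB m hL J r hr.1 hr1 t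
  by_cases hsr : s = r
  · subst hsr
    have : h8xU D hB s u * h8xU D hB s t * (h8xU D hB s u)⁻¹ = h8xU D hB s t := by
      rw [h8xU_add D hB s hs, add_comm, ← h8xU_add D hB s hs, mul_inv_cancel_right]
    rw [this]
    exact hb
  · by_cases hsn : s = D.negIdx.getD r 0
    · exfalso
      have := h8levJ_neg D hB.ca m J r hr.1
      rw [← hsn] at this
      omega
    · have hcomm := hC.all r hr.1 s hs hsr hsn F t (-u)
      have hU : h8xU D hB s (-u) * h8xU D hB r t =
          h8xU D hB r t * h8xU D hB s (-u) * h8wordU D hB (D.commWord F r s t (-u)) := by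
        apply Units.ext
        simp only [Units.val_mul, h8xU_val, h8wordU_val]
        exact hcomm
      have hW : h8wordU D hB (D.commWord F r s t (-u)) ∈ D.unipotentRadical F J := by
        unfold h8wordU
        apply Subgroup.list_prod_mem
        intro g hg
        rw [List.mem_map] at hg
        obtain ⟨p, hp, rfl⟩ := hg
        unfold ChevalleyDatum.commWord at hp
        rw [List.mem_map] at hp
        obtain ⟨c, hc, rfl⟩ := hp
        obtain ⟨hclt, i, j, hi, hj, hlev⟩ :=
          h8commTerms_lev D hB.ca m J hsorted hlt r s hr.1 hs c hc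
        apply h8UJ_mem_of_lev D hB m hL J c.1 hclt
        rw [hlev]
        have h1 : (1 : ℤ) ≤ (i : ℤ) := by exact_mod_cast hi
        have h2 : (0 : ℤ) ≤ (j : ℤ) * h8levJ D m J s := by positivity
        nlinarith
      have e : h8xU D hB s u * h8xU D hB r t * (h8xU D hB s u)⁻¹ =
          h8xU D hB r t * (h8wordU D hB (D.commWord F r s t (-u)))⁻¹ := by
        rw [h8xU_inv, eq_mul_inv_iff_mul_eq]
        have ha : h8xU D hB s u * h8xU D hB s (-u) = 1 := by
          rw [h8xU_add D hB s hs, add_neg_cancel]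
          exact Units.ext (by rw [h8xU_val, hB.zero]; rfl)
        symm
        calc h8xU D hB r t = (h8xU D hB s u * h8xU D hB s (-u)) * h8xU D hB r t := by
              rw [ha, one_mul]
          _ = h8xU D hB s u * (h8xU D hB s (-u) * h8xU D hB r t) := by rw [mul_assoc]
          _ = h8xU D hB s u * (h8xU D hB r t * h8xU D hB s (-u) *
                h8wordU D hB (D.commWord F r s t (-u))) := by rw [hU]
          _ = _ := by group
      rw [e]
      exact Subgroup.mul_mem _ hb (Subgroup.inv_mem _ hW)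

theorem h8mem_normalizer_of_conj {G : Type*} [Group G] (S : Set G) (g : G)
    (h1 : ∀ x ∈ S, g * x * g⁻¹ ∈ Subgroup.closure S)
    (h2 : ∀ x ∈ S, g⁻¹ * x * g ∈ Subgroup.closure S) :
    g ∈ Subgroup.normalizer (Subgroup.closure S : Set G) := by
  have key : ∀ (a : G), (∀ x ∈ S, a * x * a⁻¹ ∈ Subgroup.closure S) →
      ∀ y ∈ Subgroup.closure S, a * y * a⁻¹ ∈ Subgroup.closure S := by
    intro a ha y hy
    induction hy using Subgroup.closure_induction with
    | mem x hx => exact ha x hx
    | one => simp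
    | mul x y _ _ hx hy =>
      have : a * (x * y) * a⁻¹ = (a * x * a⁻¹) * (a * y * a⁻¹) := by group
      rw [this]
      exact Subgroup.mul_mem _ hx hy
    | inv x _ hx =>
      have : a * x⁻¹ * a⁻¹ = (a * x * a⁻¹)⁻¹ := by group
      rw [this]
      exact Subgroup.inv_mem _ hx
  rw [Subgroup.mem_normalizer_iff]
  intro y
  constructor
  · intro hy
    exact key g h1 y hy
  · intro hy
    have := key g⁻¹ (by simpa using h2) _ hy
    have e : g⁻¹ * (g * y * g⁻¹) * g⁻¹⁻¹ = y := by group
    rwa [e] at this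

theorem h8par_gens_le_normalizer (D : ChevalleyDatum) (hB : H8Base.{u} D) (hC : H8CommAll.{u} D)
    (m : List (List ℤ)) (hL : h8lvlChk D m = true) (J : Set ℕ)
    (hsorted : ∀ a < D.nroots, (((D.chain.getD a #[]).toList).map Prod.fst).Pairwise (· < ·))
    (hlt : ∀ a b, a < D.nroots → ∀ q ∈ D.chainEntry a b, q.1 < D.nroots) :
    D.diagonalSubgroup F ⊔ Subgroup.closure {g : GL D.Idx F | ∃ (r : ℕ) (t : F),
      (D.IsPosRoot r ∨ D.InRootSub J r) ∧ (g : Matrix D.Idx D.Idx F) = D.x F r t} ≤
      Subgroup.normalizer (D.unipotentRadical F J : Set (GL D.Idx F)) := by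
  have hgen : ∀ (h : GL D.Idx F), h ∈ D.diagonalSubgroup F → ∀ x ∈ {g : GL D.Idx F |
      ∃ (r : ℕ) (t : F), D.IsPosRoot r ∧ ¬ D.InRootSub J r ∧
        (g : Matrix D.Idx D.Idx F) = D.x F r t}, h * x * h⁻¹ ∈ D.unipotentRadical F J := by
    rintro h hh x ⟨r, t, hr, hrJ, hx⟩
    have hx' : x = h8xU D hB r t := Units.ext (by rw [hx, h8xU_val])
    obtain ⟨c, _, hact⟩ := h8perm_H_id D hB h hh r hr.1
    rw [hx', hact t]
    unfold ChevalleyDatum.unipotentRadical
    apply Subgroup.subset_closure
    exact ⟨r, c * t, hr, hrJ, h8xU_val D hB r _⟩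
  have hgen2 : ∀ (s : ℕ) (u : F), s < D.nroots → 0 ≤ h8levJ D m J s → ∀ x ∈ {g : GL D.Idx F |
      ∃ (r : ℕ) (t : F), D.IsPosRoot r ∧ ¬ D.InRootSub J r ∧
        (g : Matrix D.Idx D.Idx F) = D.x F r t},
      h8xU D hB s u * x * (h8xU D hB s u)⁻¹ ∈ D.unipotentRadical F J := by
    rintro s u hs hs0 x ⟨r, t, hr, hrJ, hx⟩
    have hx' : x = h8xU D hB r t := Units.ext (by rw [hx, h8xU_val])
    rw [hx']
    exact h8conj_UJ D hB hC m hL J hsorted hlt r hr hrJ s hs hs0 t u
  apply sup_le
  · intro h hh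
    unfold ChevalleyDatum.unipotentRadical
    apply h8mem_normalizer_of_conj
    · exact hgen h hh
    · intro x hx
      have := hgen h⁻¹ (Subgroup.inv_mem _ hh) x hx
      rwa [inv_inv] at this
  · rw [Subgroup.closure_le]
    rintro g ⟨s, u, hsP, hg⟩
    have hg' : g = h8xU D hB s u := Units.ext (by rw [hg, h8xU_val])
    have hs : s < D.nroots := by
      rcases hsP with h | h
      · exact h.1
      · exact h.1
    have hs0 : 0 ≤ h8levJ D m J s := by
      rcases hsP with h | h
      · by_cases hJ : D.InRootSub J s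
        · rw [h8levJ_zero D m hL J s hJ]
        · have := h8levJ_pos D m hL J s h hJ
          omega
      · rw [h8levJ_zero D m hL J s h]
    rw [hg']
    unfold ChevalleyDatum.unipotentRadical
    apply h8mem_normalizer_of_conj
    · exact hgen2 s u hs hs0
    · intro x hx
      have := hgen2 s (-u) hs hs0 x hx
      rw [h8xU_inv, neg_neg] at this
      rw [h8xU_inv]
      exact this

end Cfsg.Agent.Lib.helper8
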