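import Mathlib
import Cfsg.Prelude.Def_LieTypes
import Cfsg.Prelude.Def_ChevB2
import Cfsg.Agent.Lib.helper8.ChevLvl1

set_option autoImplicit false

namespace Cfsg.Agent.Lib.helper8

open Cfsg.Lie Cfsg.Lie.ChevalleyDatum

def h8lvlM_G2 : List (List ℤ) := [[2, 3], [1, 2]]

theorem h8lvlChk_G2 : h8lvlChk chevG2 h8lvlM_G2 = true := by decide +kernel

def h8lvlM_B2 : List (List ℤ) := [[2, 2], [1, 2]]

theorem h8lvlChk_B2 : h8lvlChk chevB2 h8lvlM_B2 = true := by decide +kernel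

def h8lvlM_D4 : List (List ℤ) := [[2, 2, 1, 1], [2, 4, 2, 2], [1, 2, 2, 1], [1, 2, 1, 2]]

theorem h8lvlChk_D4 : h8lvlChk chevD4 h8lvlM_D4 = true := by decide +kernel

def h8lvlM_F4 : List (List ℤ) := [[2, 3, 4, 2], [3, 6, 8, 4], [2, 4, 6, 3], [1, 2, 3, 2]]

theorem h8lvlChk_F4 : h8lvlChk chevF4 h8lvlM_F4 = true := by decide +kernel

def h8lvlM_E6 : List (List ℤ) := [[4, 3, 5, 6, 4, 2], [3, 6, 6, 9, 6, 3], [5, 6, 10, 12, 8, 4], [6, 9, 12, 18, 12, 6], [4, 6, 8, 12, 10, 5], [2, 3, 4, 6, 5, 4]]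

theorem h8lvlChk_E6 : h8lvlChk chevE6 h8lvlM_E6 = true := by decide +kernel

def h8lvlM_E7 : List (List ℤ) := [[4, 4, 6, 8, 6, 4, 2], [4, 7, 8, 12, 9, 6, 3], [6, 8, 12, 16, 12, 8, 4], [8, 12, 16, 24, 18, 12, 6], [6, 9, 12, 18, 15, 10, 5], [4, 6, 8, 12, 10, 8, 4], [2, 3, 4, 6, 5, 4, 3]]

theorem h8lvlChk_E7 : h8lvlChk chevE7 h8lvlM_E7 = true := by decide +kernel

def h8lvlM_E8 : List (List ℤ) := [[4, 5, 7, 10, 8, 6, 4, 2], [5, 8, 10, 15, 12, 9, 6, 3], [7, 10, 14, 20, 16, 12, 8, 4], [10, 15, 20, 30, 24, 18, 12, 6], [8, 12, 16, 24, 20, 15, 10, 5], [6, 9, 12, 18, 15, 12, 8, 4], [4, 6, 8, 12, 10, 8, 6, 3], [2, 3, 4, 6, 5, 4, 3, 2]]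

theorem h8lvlChk_E8 : h8lvlChk chevE8 h8lvlM_E8 = true := by decide +kernel

theorem h8lvl_all (D : ChevalleyDatum)
    (hD : D ∈ [chevG2, chevB2, chevD4, chevF4, chevE6, chevE7, chevE8]) :
    ∃ m : List (List ℤ), h8lvlChk D m = true := by
  simp only [List.mem_cons, List.not_mem_nil, or_false] at hD
  rcases hD with rfl | rfl | rfl | rfl | rfl | rfl | rfl
  · exact ⟨_, h8lvlChk_G2⟩
  · exact ⟨_, h8lvlChk_B2⟩
  · exact ⟨_, h8lvlChk_D4⟩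
  · exact ⟨_, h8lvlChk_F4⟩
  · exact ⟨_, h8lvlChk_E6⟩
  · exact ⟨_, h8lvlChk_E7⟩
  · exact ⟨_, h8lvlChk_E8⟩

end Cfsg.Agent.Lib.helper8
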