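import Mathlib
import Cfsg.Prelude.Def_ChevStructure
import Cfsg.Agent.Lib.helper8.ChevBN3

set_option autoImplicit false

namespace Cfsg.Agent.Lib.helper8

open Cfsg.Lie Cfsg.Lie.ChevalleyDatum

universe u

variable {F : Type u} [Field F]

def h8parChk (D : ChevalleyDatum) : Bool :=
  (List.range D.nroots).all fun r =>
    decide (D.IsPosRoot r) ||
    (List.range D.rank).any fun j =>
      decide ((D.coroot.getD r #[]).getD j 0 ≠ 0) &&
      (decide (r < D.reflectRoot j r) && decide (D.reflectRoot j r < D.nroots) &&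
        (List.range D.rank).all fun i =>
          decide ((D.coroot.getD (D.reflectRoot j r) #[]).getD i 0 ≠ 0 →
            (D.coroot.getD r #[]).getD i 0 ≠ 0))

theorem h8parChk_spec (D : ChevalleyDatum) (h : h8parChk D = true) (r : ℕ) (hr : r < D.nroots)
    (hnp : ¬ D.IsPosRoot r) :
    ∃ j < D.rank, (D.coroot.getD r #[]).getD j 0 ≠ 0 ∧ r < D.reflectRoot j r ∧
      D.reflectRoot j r < D.nroots ∧
      ∀ i < D.rank, (D.coroot.getD (D.reflectRoot j r) #[]).getD i 0 ≠ 0 →
        (D.coroot.getD r #[]).getD i 0 ≠ 0 := by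
  unfold h8parChk at h
  rw [List.all_eq_true] at h
  have h1 := h r (List.mem_range.mpr hr)
  simp only [hnp, decide_false, Bool.false_or, List.any_eq_true, List.mem_range,
    Bool.and_eq_true, decide_eq_true_eq, List.all_eq_true] at h1
  obtain ⟨j, hj, h2, ⟨h3, h4⟩, h5⟩ := h1
  exact ⟨j, hj, h2, h3, h4, h5⟩

def h8simChk (D : ChevalleyDatum) : Bool :=
  (List.range D.rank).all fun j =>
    decide (D.simple j < D.nroots) && decide (D.neg (D.simple j) < D.nroots) &&
    (List.range D.rank).all fun i => decide (i = j) ||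
      (decide ((D.coroot.getD (D.simple j) #[]).getD i 0 = 0) &&
        decide ((D.coroot.getD (D.neg (D.simple j)) #[]).getD i 0 = 0))

theorem h8simChk_spec (D : ChevalleyDatum) (h : h8simChk D = true) (J : Set ℕ) (j : ℕ)
    (hj : j < D.rank) (hJ : j ∈ J) :
    D.InRootSub J (D.simple j) ∧ D.InRootSub J (D.neg (D.simple j)) := by
  unfold h8simChk at h
  rw [List.all_eq_true] at h
  have h1 := h j (List.mem_range.mpr hj)
  simp only [Bool.and_eq_true, decide_eq_true_eq, List.all_eq_true, List.mem_range,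
    Bool.or_eq_true] at h1
  obtain ⟨⟨h2, h3⟩, h4⟩ := h1
  refine ⟨⟨h2, fun i hi hiJ => ?_⟩, ⟨h3, fun i hi hiJ => ?_⟩⟩
  · rcases h4 i hi with rfl | h5
    · exact absurd hJ hiJ
    · exact h5.1
  · rcases h4 i hi with rfl | h5
    · exact absurd hJ hiJ
    · exact h5.2

theorem h8nU_mem_par (D : ChevalleyDatum) (hB : H8Base.{u} D) (J : Set ℕ) (j : ℕ)
    (hj : j < D.rank) (hJ : j ∈ J) :
    h8nU D hB (D.simple j) (1 : F) ∈ D.parabolicSubgroup F J := by
  unfold ChevalleyDatum.parabolicSubgroup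
  apply Subgroup.mem_sup_right
  apply Subgroup.subset_closure
  exact ⟨j, hJ, hj, h8nU_val D hB _ _⟩

theorem h8x_mem_par (D : ChevalleyDatum) (hB : H8Base.{u} D) (hA : H8ReflAll D)
    (hP : h8parChk D = true) (J : Set ℕ) :
    ∀ (m r : ℕ), D.nroots - r ≤ m → r < D.nroots → D.InRootSub J r →
      ∀ t : F, h8xU D hB r t ∈ D.parabolicSubgroup F J := by
  intro m
  induction m with
  | zero =>
    intro r hm hr
    omega
  | succ m ih =>
    intro r hm hr hJr t
    by_cases hp : D.IsPosRoot r
    · unfold ChevalleyDatum.parabolicSubgroup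
      apply Subgroup.mem_sup_left
      exact h8U_le_B D (h8xU_mem_U D hB r hp t)
    · obtain ⟨j, hj, h1, h2, h3, h4⟩ := h8parChk_spec D hP r hr hp
      have hjJ : j ∈ J := by
        by_contra hn
        exact h1 (hJr.2 j hj hn)
      have hJr' : D.InRootSub J (D.reflectRoot j r) := by
        refine ⟨h3, fun i hi hiJ => ?_⟩
        by_contra hne
        exact h4 i hi hne (hJr.2 i hi hiJ)
      obtain ⟨c, hc, hact⟩ := h8act_nU (F := F) D hB hA j hj (D.reflectRoot j r) h3
      obtain ⟨η, hR⟩ := h8reflAll_spec D hA j hj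
      rw [hR.invol r hr] at hact
      have h5 := ih (D.reflectRoot j r) (by omega) h3 hJr' (c⁻¹ * t)
      have h6 := hact (c⁻¹ * t)
      rw [← mul_assoc, mul_inv_cancel₀ hc, one_mul] at h6
      rw [← h6]
      have hn := h8nU_mem_par (F := F) D hB J j hj hjJ
      exact Subgroup.mul_mem _ (Subgroup.mul_mem _ hn h5) (Subgroup.inv_mem _ hn)

end Cfsg.Agent.Lib.helper8
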