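import Mathlib
import Cfsg.Prelude.Def_LieTypes
import Cfsg.Prelude.Def_ChevB2
import Cfsg.Agent.Lib.helper8.ChevPar1

set_option autoImplicit false

namespace Cfsg.Agent.Lib.helper8

open Cfsg.Lie Cfsg.Lie.ChevalleyDatum

theorem h8parChk_G2 : h8parChk chevG2 = true := by decide +kernel
theorem h8parChk_B2 : h8parChk chevB2 = true := by decide +kernel
theorem h8parChk_D4 : h8parChk chevD4 = true := by decide +kernel
theorem h8parChk_F4 : h8parChk chevF4 = true := by decide +kernel
theorem h8parChk_E6 : h8parChk chevE6 = true := by decide +kernel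

theorem h8parChk_E7 : h8parChk chevE7 = true := by decide +kernel
theorem h8parChk_E8 : h8parChk chevE8 = true := by decide +kernel

theorem h8parChk_all (D : ChevalleyDatum)
    (hD : D ∈ [chevG2, chevB2, chevD4, chevF4, chevE6, chevE7, chevE8]) : h8parChk D = true := by
  simp only [List.mem_cons, List.not_mem_nil, or_false] at hD
  rcases hD with rfl | rfl | rfl | rfl | rfl | rfl | rfl
  · exact h8parChk_G2
  · exact h8parChk_B2
  · exact h8parChk_D4
  · exact h8parChk_F4
  · exact h8parChk_E6
  · exact h8parChk_E7
  · exact h8parChk_E8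

theorem h8simChk_all (D : ChevalleyDatum)
    (hD : D ∈ [chevG2, chevB2, chevD4, chevF4, chevE6, chevE7, chevE8]) : h8simChk D = true := by
  simp only [List.mem_cons, List.not_mem_nil, or_false] at hD
  rcases hD with rfl | rfl | rfl | rfl | rfl | rfl | rfl <;> decide +kernel

end Cfsg.Agent.Lib.helper8
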