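import Mathlib
import Cfsg.Prelude.Def_ChevStructure
import Cfsg.Agent.Lib.helper8.ChevCox2

set_option autoImplicit false

namespace Cfsg.Agent.Lib.helper8

open Cfsg.Lie Cfsg.Lie.ChevalleyDatum

universe u

variable {F : Type u} [Field F]

theorem h8permN (D : ChevalleyDatum) (hB : H8Base.{u} D) (hA : H8ReflAll D) (hBN : H8BN D)
    (g : GL D.Idx F) (hg : g ∈ D.monomialSubgroup F) : H8Perm D hB g := by
  obtain ⟨dep, par, horb⟩ := hBN.orb
  exact h8perm_N D hB hA dep par horb g hg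

/-- the homomorphism from `N` to the permutations of the roots -/
noncomputable def h8Pi (D : ChevalleyDatum) (hB : H8Base.{u} D) (hA : H8ReflAll D) (hBN : H8BN D)
    (hW : H8BN2 D) (hO2 : H8Ord2 D) :
    ↥(D.monomialSubgroup F) →* Equiv.Perm (Fin D.nroots) where
  toFun n := h8permOf D hB n.val (h8permN D hB hA hBN n.val n.2)
  map_one' := by
    apply Equiv.ext
    intro r
    apply h8permOf_eq D hB hA hBN hW hO2
    rw [Equiv.Perm.one_apply]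
    exact h8actN_act D hB _ _ _ (h8actN_one D hB r.val)
  map_mul' a b := by
    apply Equiv.ext
    intro r
    apply h8permOf_eq D hB hA hBN hW hO2
    rw [Equiv.Perm.mul_apply]
    exact h8act_mul D hB a.val b.val _ _ _ (h8permOf_act D hB b.val _ r)
      (h8permOf_act D hB a.val _ _)

theorem h8Pi_eq (D : ChevalleyDatum) (hB : H8Base.{u} D) (hA : H8ReflAll D) (hBN : H8BN D)
    (hW : H8BN2 D) (hO2 : H8Ord2 D) (n : ↥(D.monomialSubgroup F))
    (π : Equiv.Perm (Fin D.nroots))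
    (h : ∀ r : Fin D.nroots, H8Act D hB n.val r.val (π r).val) :
    h8Pi D hB hA hBN hW hO2 n = π := by
  apply Equiv.ext
  intro r
  exact h8permOf_eq D hB hA hBN hW hO2 n.val _ r (π r) (h r)

theorem h8Pi_act (D : ChevalleyDatum) (hB : H8Base.{u} D) (hA : H8ReflAll D) (hBN : H8BN D)
    (hW : H8BN2 D) (hO2 : H8Ord2 D) (n : ↥(D.monomialSubgroup F)) (r : Fin D.nroots) :
    H8Act D hB n.val r.val ((h8Pi D hB hA hBN hW hO2 n) r).val :=
  h8permOf_act D hB n.val _ r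

theorem h8Pi_H (D : ChevalleyDatum) (hB : H8Base.{u} D) (hA : H8ReflAll D) (hBN : H8BN D)
    (hW : H8BN2 D) (hO2 : H8Ord2 D) (n : ↥(D.monomialSubgroup F))
    (hn : n.val ∈ D.diagonalSubgroup F) : h8Pi D hB hA hBN hW hO2 n = 1 :=
  h8Pi_eq D hB hA hBN hW hO2 n 1 (fun r => h8perm_H_id D hB n.val hn r.val r.2)

theorem h8Pi_ker (D : ChevalleyDatum) (hB : H8Base.{u} D) (hA : H8ReflAll D) (hBN : H8BN D)
    (hW : H8BN2 D) (hO2 : H8Ord2 D) (n : ↥(D.monomialSubgroup F))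
    (h : h8Pi D hB hA hBN hW hO2 n = 1) : n.val ∈ D.diagonalSubgroup F := by
  apply h8perm_kernel D hB hA hBN hW hO2 n.val n.2 (h8permN D hB hA hBN n.val n.2)
  have e : h8permOf D hB n.val (h8permN D hB hA hBN n.val n.2) = 1 := h
  rw [e]
  unfold h8Ninv
  rw [Finset.card_eq_zero, Finset.filter_eq_empty_iff]
  intro r _ hr
  exact hr.2 hr.1

theorem h8Pi_word (D : ChevalleyDatum) (hB : H8Base.{u} D) (hA : H8ReflAll D) (hBN : H8BN D)
    (hW : H8BN2 D) (hO2 : H8Ord2 D) (t : GL D.Idx F) (ht : t ∈ D.diagonalSubgroup F)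
    (w : List ℕ) (hw : ∀ i ∈ w, i < D.rank)
    (hmem : t * h8nWU D hB w ∈ D.monomialSubgroup F) :
    h8Pi D hB hA hBN hW hO2 ⟨t * h8nWU D hB w, hmem⟩ = h8wPerm D hA w :=
  h8permOf_word D hB hA hBN hW hO2 t ht w hw _

theorem h8Pi_nWU (D : ChevalleyDatum) (hB : H8Base.{u} D) (hA : H8ReflAll D) (hBN : H8BN D)
    (hW : H8BN2 D) (hO2 : H8Ord2 D) (w : List ℕ) (hw : ∀ i ∈ w, i < D.rank) :
    h8Pi D hB hA hBN hW hO2 ⟨(h8nWU D hB w : GL D.Idx F), h8nWU_mem_N D hB hA w hw⟩ =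
      h8wPerm D hA w :=
  h8permOf_nWU D hB hA hBN hW hO2 w hw _

theorem h8Pi_simple (D : ChevalleyDatum) (hB : H8Base.{u} D) (hA : H8ReflAll D) (hBN : H8BN D)
    (hW : H8BN2 D) (hO2 : H8Ord2 D) (i : ℕ) (hi : i < D.rank)
    (hmem : h8nU D hB (D.simple i) (1 : F) ∈ D.monomialSubgroup F) :
    h8Pi D hB hA hBN hW hO2 ⟨h8nU D hB (D.simple i) (1 : F), hmem⟩ = h8sPerm D hA i := by
  apply h8Pi_eq
  intro r
  rw [h8sPerm_val D hA i hi]
  exact h8act_nU D hB hA i hi r.val r.2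

theorem h8Pi_mem_W (D : ChevalleyDatum) (hB : H8Base.{u} D) (hA : H8ReflAll D) (hBN : H8BN D)
    (hW : H8BN2 D) (hO2 : H8Ord2 D) (n : ↥(D.monomialSubgroup F)) :
    h8Pi D hB hA hBN hW hO2 n ∈ h8W D hA := by
  obtain ⟨t, ht, w, hw, e⟩ := h8N_word D hB hA hBN n.val n.2
  rw [h8W_mem_iff]
  refine ⟨w, hw, ?_⟩
  have hmem : t * h8nWU D hB w ∈ D.monomialSubgroup F := e ▸ n.2
  have : n = ⟨t * h8nWU D hB w, hmem⟩ := Subtype.ext e
  rw [this]
  exact h8Pi_word D hB hA hBN hW hO2 t ht w hw hmem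

theorem h8H_le_N (D : ChevalleyDatum) : D.diagonalSubgroup F ≤ D.monomialSubgroup F := by
  unfold ChevalleyDatum.monomialSubgroup
  exact le_sup_left

/-- conjugating the reflection in `s` by a word gives the reflection in the image root -/
theorem h8Pi_conj (D : ChevalleyDatum) (hB : H8Base.{u} D) (hA : H8ReflAll D) (hBN : H8BN D)
    (hW : H8BN2 D) (hO2 : H8Ord2 D) (v : List ℕ) (hv : ∀ i ∈ v, i < D.rank) (s : ℕ)
    (hs : s < D.nroots) :
    h8wPerm D hA v * h8Pi D hB hA hBN hW hO2 ⟨h8nU D hB s (1 : F), h8nU_mem_N D hB s hs⟩ *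
      (h8wPerm D hA v)⁻¹ =
    h8Pi D hB hA hBN hW hO2 ⟨h8nU D hB (h8sW D v s) (1 : F),
      h8nU_mem_N D hB _ (h8sW_lt D hA v hv s hs)⟩ := by
  have hs' := h8sW_lt D hA v hv s hs
  obtain ⟨c, hc, e⟩ := h8conj_nU D hB (h8nWU D hB v : GL D.Idx F) s (h8sW D v s)
    (h8actN_word D hB hA v hv s hs)
  have e1 := h8Pi_nWU (F := F) D hB hA hBN hW hO2 v hv
  have hh : h8hU D hB (h8sW D v s) c ∈ D.monomialSubgroup F :=
    h8H_le_N D (h8hU_mem_H D hB _ hs' c hc)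
  have e2 : (⟨(h8nWU D hB v : GL D.Idx F), h8nWU_mem_N D hB hA v hv⟩ :
        ↥(D.monomialSubgroup F)) * ⟨h8nU D hB s (1 : F), h8nU_mem_N D hB s hs⟩ *
        (⟨(h8nWU D hB v : GL D.Idx F), h8nWU_mem_N D hB hA v hv⟩ : ↥(D.monomialSubgroup F))⁻¹ =
      ⟨h8hU D hB (h8sW D v s) c, hh⟩ * ⟨h8nU D hB (h8sW D v s) (1 : F), h8nU_mem_N D hB _ hs'⟩ :=
    Subtype.ext e
  have e3 := congrArg (h8Pi D hB hA hBN hW hO2) e2
  rw [map_mul, map_mul, map_inv, map_mul,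
    h8Pi_H D hB hA hBN hW hO2 ⟨h8hU D hB (h8sW D v s) c, hh⟩ (h8hU_mem_H D hB _ hs' c hc),
    one_mul, e1] at e3
  exact e3

end Cfsg.Agent.Lib.helper8
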