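import Mathlib

set_option autoImplicit false

namespace Cfsg.Agent.Lib.helper8.H3

section WLen

variable {W : Type*} [Group W]

noncomputable def wlen (T : Set W) (w : W) : ℕ :=
  sInf {k | ∃ L : List W, (∀ x ∈ L, x ∈ T) ∧ L.prod = w ∧ L.length = k}

variable {T : Set W}

theorem exists_word_of_closure (hT2 : ∀ t ∈ T, t * t = 1) {J : Set W} (hJ : J ⊆ T) {w : W}
    (hw : w ∈ Subgroup.closure J) : ∃ L : List W, (∀ x ∈ L, x ∈ J) ∧ L.prod = w := by
  induction hw using Subgroup.closure_induction with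
  | mem x hx => exact ⟨[x], by simpa using hx, by simp⟩
  | one => exact ⟨[], by simp, by simp⟩
  | mul x y _ _ hx hy =>
    obtain ⟨L, hL, rfl⟩ := hx
    obtain ⟨L', hL', rfl⟩ := hy
    refine ⟨L ++ L', ?_, by simp⟩
    intro z hz
    rcases List.mem_append.1 hz with h | h
    · exact hL z h
    · exact hL' z h
  | inv x _ hx =>
    obtain ⟨L, hL, rfl⟩ := hx
    refine ⟨L.reverse, fun z hz => hL z (List.mem_reverse.1 hz), ?_⟩
    rw [List.prod_inv_reverse]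
    congr 1
    have : ∀ M : List W, (∀ x ∈ M, x ∈ J) → M.map (fun x => x⁻¹) = M := by
      intro M hM
      induction M with
      | nil => rfl
      | cons a M ih =>
        simp only [List.map_cons]
        rw [ih (fun x hx => hM x (List.mem_cons_of_mem _ hx))]
        congr 1
        have := hT2 a (hJ (hM a List.mem_cons_self))
        exact inv_eq_of_mul_eq_one_left this
    rw [this L hL]

theorem exists_word (hT2 : ∀ t ∈ T, t * t = 1) (hgen : Subgroup.closure T = ⊤) (w : W) :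
    ∃ L : List W, (∀ x ∈ L, x ∈ T) ∧ L.prod = w :=
  exists_word_of_closure hT2 (le_refl _) (by rw [hgen]; trivial)

theorem exists_reduced (hT2 : ∀ t ∈ T, t * t = 1) (hgen : Subgroup.closure T = ⊤) (w : W) :
    ∃ L : List W, (∀ x ∈ L, x ∈ T) ∧ L.prod = w ∧ L.length = wlen T w := by
  obtain ⟨L, hL, hw⟩ := exists_word hT2 hgen w
  have hne : {k | ∃ L : List W, (∀ x ∈ L, x ∈ T) ∧ L.prod = w ∧ L.length = k}.Nonempty :=
    ⟨L.length, L, hL, hw, rfl⟩
  exact Nat.sInf_mem hne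

theorem wlen_le {w : W} {L : List W} (hL : ∀ x ∈ L, x ∈ T) (hw : L.prod = w) :
    wlen T w ≤ L.length :=
  Nat.sInf_le ⟨L, hL, hw, rfl⟩

theorem wlen_one : wlen T (1 : W) = 0 := by
  have := wlen_le (T := T) (w := 1) (L := []) (by simp) (by simp)
  simpa using this

theorem eq_one_of_wlen_eq_zero (hT2 : ∀ t ∈ T, t * t = 1) (hgen : Subgroup.closure T = ⊤) {w : W}
    (h : wlen T w = 0) : w = 1 := by
  obtain ⟨L, _, hw, hlen⟩ := exists_reduced hT2 hgen w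
  rw [h] at hlen
  rw [List.length_eq_zero_iff] at hlen
  rw [← hw, hlen]; simp

theorem wlen_mul_le (hT2 : ∀ t ∈ T, t * t = 1) (hgen : Subgroup.closure T = ⊤) {t : W} (ht : t ∈ T)
    (w : W) : wlen T (t * w) ≤ wlen T w + 1 := by
  obtain ⟨L, hL, hw, hlen⟩ := exists_reduced hT2 hgen w
  have := wlen_le (T := T) (w := t * w) (L := t :: L)
    (by intro x hx; rcases List.mem_cons.1 hx with h | h; · exact h ▸ ht
        · exact hL x h) (by simp [hw])
  simpa [hlen] using this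

theorem wlen_le_mul (hT2 : ∀ t ∈ T, t * t = 1) (hgen : Subgroup.closure T = ⊤) {t : W} (ht : t ∈ T)
    (w : W) : wlen T w ≤ wlen T (t * w) + 1 := by
  have := wlen_mul_le hT2 hgen ht (t * w)
  rwa [← mul_assoc, hT2 t ht, one_mul] at this

theorem wlen_of_mem (hT2 : ∀ t ∈ T, t * t = 1) (hgen : Subgroup.closure T = ⊤) {t : W} (ht : t ∈ T)
    (h1 : t ≠ 1) : wlen T t = 1 := by
  have h := wlen_le (T := T) (w := t) (L := [t]) (by simpa using ht) (by simp)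
  have h0 : wlen T t ≠ 0 := fun h0 => h1 (eq_one_of_wlen_eq_zero hT2 hgen h0)
  simp at h
  omega

variable (Ps : W → Set W)

theorem exchange (hT2 : ∀ t ∈ T, t * t = 1)
    (hA : ∀ s ∈ T, (1 : W) ∈ Ps s)
    (hC : ∀ s ∈ T, ∀ s' ∈ T, ∀ w, w ∈ Ps s → w * s' ∉ Ps s → s * w = w * s')
    {t : W} (ht : t ∈ T) (L : List W) (hL : ∀ x ∈ L, x ∈ T) (h : L.prod ∉ Ps t) :
    ∃ i, i < L.length ∧ t * L.prod = (L.eraseIdx i).prod := by
  induction L using List.reverseRecOn with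
  | nil => exact absurd (by simpa using hA t ht) h
  | append_singleton L' x ih =>
    have hL' : ∀ y ∈ L', y ∈ T := fun y hy => hL y (List.mem_append_left _ hy)
    have hx : x ∈ T := hL x (by simp)
    by_cases h' : L'.prod ∈ Ps t
    · refine ⟨L'.length, by simp, ?_⟩
      have hh : L'.prod * x ∉ Ps t := by simpa using h
      have e := hC t ht x hx _ h' hh
      rw [List.eraseIdx_append_of_length_le (le_refl _)]
      simp only [List.prod_append, List.prod_cons, List.prod_nil, mul_one, Nat.sub_self,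
        List.eraseIdx_cons_zero]
      rw [← mul_assoc, e, mul_assoc, hT2 x hx, mul_one]
    · obtain ⟨i, hi, e⟩ := ih hL' h'
      refine ⟨i, by simp; omega, ?_⟩
      rw [List.eraseIdx_append_of_lt_length hi]
      simp only [List.prod_append, List.prod_cons, List.prod_nil, mul_one]
      rw [← mul_assoc, e]

theorem eraseIdx_mem {α : Type*} (L : List α) (i : ℕ) (p : α → Prop) (hL : ∀ x ∈ L, p x) :
    ∀ x ∈ L.eraseIdx i, p x := fun x hx => hL x (List.mem_of_mem_eraseIdx hx)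

theorem wlen_lt_of_not_mem (hT2 : ∀ t ∈ T, t * t = 1) (hgen : Subgroup.closure T = ⊤)
    (hA : ∀ s ∈ T, (1 : W) ∈ Ps s)
    (hC : ∀ s ∈ T, ∀ s' ∈ T, ∀ w, w ∈ Ps s → w * s' ∉ Ps s → s * w = w * s')
    {t : W} (ht : t ∈ T) {w : W} (h : w ∉ Ps t) : wlen T (t * w) + 1 ≤ wlen T w := by
  obtain ⟨L, hL, hw, hlen⟩ := exists_reduced hT2 hgen w
  rw [← hw] at h
  obtain ⟨i, hi, e⟩ := exchange Ps hT2 hA hC ht L hL h
  have := wlen_le (T := T) (w := t * w) (L := L.eraseIdx i) (eraseIdx_mem L i _ hL) (by rw [← e, hw])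
  rw [List.length_eraseIdx_of_lt hi] at this
  omega

theorem wlen_lt_of_mem (hT2 : ∀ t ∈ T, t * t = 1) (hgen : Subgroup.closure T = ⊤)
    (hA : ∀ s ∈ T, (1 : W) ∈ Ps s)
    (hB : ∀ s ∈ T, ∀ w, w ∈ Ps s → s * w ∉ Ps s)
    (hC : ∀ s ∈ T, ∀ s' ∈ T, ∀ w, w ∈ Ps s → w * s' ∉ Ps s → s * w = w * s')
    {t : W} (ht : t ∈ T) {w : W} (h : w ∈ Ps t) : wlen T w + 1 ≤ wlen T (t * w) := by
  have := wlen_lt_of_not_mem Ps hT2 hgen hA hC ht (hB t ht w h)
  rwa [← mul_assoc, hT2 t ht, one_mul] at this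

theorem mem_Ps_iff (hT2 : ∀ t ∈ T, t * t = 1) (hgen : Subgroup.closure T = ⊤)
    (hA : ∀ s ∈ T, (1 : W) ∈ Ps s)
    (hB : ∀ s ∈ T, ∀ w, w ∈ Ps s → s * w ∉ Ps s)
    (hC : ∀ s ∈ T, ∀ s' ∈ T, ∀ w, w ∈ Ps s → w * s' ∉ Ps s → s * w = w * s')
    {t : W} (ht : t ∈ T) (w : W) : w ∈ Ps t ↔ wlen T (t * w) = wlen T w + 1 := by
  constructor
  · intro h
    have h1 := wlen_lt_of_mem Ps hT2 hgen hA hB hC ht h
    have h2 := wlen_mul_le hT2 hgen ht w
    omega
  · intro h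
    by_contra h'
    have := wlen_lt_of_not_mem Ps hT2 hgen hA hC ht h'
    omega

theorem not_mem_Ps_iff (hT2 : ∀ t ∈ T, t * t = 1) (hgen : Subgroup.closure T = ⊤)
    (hA : ∀ s ∈ T, (1 : W) ∈ Ps s)
    (hB : ∀ s ∈ T, ∀ w, w ∈ Ps s → s * w ∉ Ps s)
    (hC : ∀ s ∈ T, ∀ s' ∈ T, ∀ w, w ∈ Ps s → w * s' ∉ Ps s → s * w = w * s')
    {t : W} (ht : t ∈ T) (w : W) : w ∉ Ps t ↔ wlen T (t * w) + 1 = wlen T w := by
  constructor
  · intro h
    have h1 := wlen_lt_of_not_mem Ps hT2 hgen hA hC ht h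
    have h2 := wlen_le_mul hT2 hgen ht w
    omega
  · intro h h'
    have := wlen_lt_of_mem Ps hT2 hgen hA hB hC ht h'
    omega

theorem exists_reduced_in (hT2 : ∀ t ∈ T, t * t = 1) (hgen : Subgroup.closure T = ⊤)
    (hA : ∀ s ∈ T, (1 : W) ∈ Ps s)
    (hB : ∀ s ∈ T, ∀ w, w ∈ Ps s → s * w ∉ Ps s)
    (hC : ∀ s ∈ T, ∀ s' ∈ T, ∀ w, w ∈ Ps s → w * s' ∉ Ps s → s * w = w * s')
    {J : Set W} (hJ : J ⊆ T) (L : List W) (hL : ∀ x ∈ L, x ∈ J) :
    ∃ L' : List W, (∀ x ∈ L', x ∈ J) ∧ L'.prod = L.prod ∧ L'.length = wlen T L.prod := by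
  induction L with
  | nil => exact ⟨[], by simp, rfl, by simp [wlen_one]⟩
  | cons t L₀ ih =>
    have ht : t ∈ J := hL t List.mem_cons_self
    obtain ⟨L₁, hL₁, hp, hlen⟩ := ih (fun x hx => hL x (List.mem_cons_of_mem _ hx))
    by_cases h : L₀.prod ∈ Ps t
    · refine ⟨t :: L₁, ?_, by simp [hp], ?_⟩
      · intro x hx
        rcases List.mem_cons.1 hx with h | h
        · exact h ▸ ht
        · exact hL₁ x h
      · rw [List.prod_cons, (mem_Ps_iff Ps hT2 hgen hA hB hC (hJ ht) _).1 h]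
        simp [hlen]
    · have h' : L₁.prod ∉ Ps t := by rwa [hp]
      obtain ⟨i, hi, e⟩ := exchange Ps hT2 hA hC (hJ ht) L₁ (fun x hx => hJ (hL₁ x hx)) h'
      refine ⟨L₁.eraseIdx i, eraseIdx_mem L₁ i _ hL₁, ?_, ?_⟩
      · rw [← e, hp]; simp
      · rw [List.length_eraseIdx_of_lt hi, List.prod_cons]
        have := (not_mem_Ps_iff Ps hT2 hgen hA hB hC (hJ ht) _).1 h
        omega

theorem exists_reduced_of_closure (hT2 : ∀ t ∈ T, t * t = 1) (hgen : Subgroup.closure T = ⊤)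
    (hA : ∀ s ∈ T, (1 : W) ∈ Ps s)
    (hB : ∀ s ∈ T, ∀ w, w ∈ Ps s → s * w ∉ Ps s)
    (hC : ∀ s ∈ T, ∀ s' ∈ T, ∀ w, w ∈ Ps s → w * s' ∉ Ps s → s * w = w * s')
    {J : Set W} (hJ : J ⊆ T) {w : W} (hw : w ∈ Subgroup.closure J) :
    ∃ L' : List W, (∀ x ∈ L', x ∈ J) ∧ L'.prod = w ∧ L'.length = wlen T w := by
  obtain ⟨L, hL, rfl⟩ := exists_word_of_closure hT2 hJ hw
  exact exists_reduced_in Ps hT2 hgen hA hB hC hJ L hL

end WLen

end Cfsg.Agent.Lib.helper8.H3
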