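import Mathlib
import Cfsg.Prelude.Def_ChevStructure
import Cfsg.Agent.Lib.helper8.ChevWeyl1
import Cfsg.Agent.Lib.helper8.H3CoxExch

set_option autoImplicit false

namespace Cfsg.Agent.Lib.helper8

open Cfsg.Lie Cfsg.Lie.ChevalleyDatum Cfsg.Agent.Lib.helper8.H3

universe u

/-- a group with an exchange system whose generators have the prescribed orders of products is a
Coxeter group for the prescribed matrix -/
theorem h8cox_of_exch {W : Type*} [Group W] {T : Set W} {Ps : W → Set W} {B : Type*}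
    (E : ExchSys T Ps) (s : B → W) (hs : ∀ i, s i ∈ T)
    (hsurj : T ⊆ Set.range s) (M : CoxeterMatrix B)
    (hM : ∀ i j, M i j = orderOf (s i * s j)) :
    ∃ cs : CoxeterSystem M W, ∀ i, cs.simple i = s i := by
  have hlift : M.IsLiftable s := by
    intro i j
    rw [hM]
    exact pow_orderOf_eq_one _
  set π : M.Group →* W := M.toCoxeterSystem.lift ⟨s, hlift⟩ with hπ
  set σ : B → M.Group := M.toCoxeterSystem.simple with hσdef
  have hπσ : ∀ i, π (σ i) = s i := fun i => M.toCoxeterSystem.lift_apply_simple hlift i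
  have hσ2 : ∀ i, σ i * σ i = 1 := fun i => M.toCoxeterSystem.simple_mul_simple_self i
  have hbraid : ∀ a b : B, ∀ q : ℕ, (s a * s b) ^ q = 1 → (σ a * σ b) ^ q = 1 := by
    intro a b q h
    have hd : M a b ∣ q := by
      rw [hM]
      exact orderOf_dvd_of_pow_eq_one h
    obtain ⟨k, rfl⟩ := hd
    rw [pow_mul, M.toCoxeterSystem.simple_mul_simple_pow, one_pow]
  have hπl : ∀ ω : List B, π (lprod σ ω) = lprod s ω := by
    intro ω
    induction ω with
    | nil => rw [lprod_nil, lprod_nil, map_one]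
    | cons a ω ih => rw [lprod_cons, lprod_cons, map_mul, ih, hπσ]
  have hbij : Function.Bijective π := by
    constructor
    · rw [injective_iff_map_eq_one]
      intro g hg
      obtain ⟨ω, rfl⟩ := M.toCoxeterSystem.wordProd_surjective g
      obtain ⟨ρ, hr, h1, h2⟩ := exists_red_word E hs hσ2 hbraid ω
      have e1 : M.toCoxeterSystem.wordProd ω = lprod σ ω := rfl
      rw [e1] at hg ⊢
      rw [hπl, ← h1] at hg
      unfold Red at hr
      rw [hg, wlen_one] at hr
      have : ρ = [] := List.eq_nil_of_length_eq_zero hr.symm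
      rw [← h2, this, lprod_nil]
    · intro w
      obtain ⟨L, hL, hw⟩ := exists_word E.hT2 E.hgen w
      have : ∀ L : List W, (∀ x ∈ L, x ∈ T) → ∃ ω : List B, lprod s ω = L.prod := by
        intro L
        induction L with
        | nil => intro _; exact ⟨[], rfl⟩
        | cons x L ih =>
          intro hL
          obtain ⟨ω, hω⟩ := ih (fun y hy => hL y (List.mem_cons_of_mem _ hy))
          obtain ⟨i, hi⟩ := hsurj (hL x List.mem_cons_self)
          exact ⟨i :: ω, by rw [lprod_cons, hω, hi, List.prod_cons]⟩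
      obtain ⟨ω, hω⟩ := this L hL
      exact ⟨lprod σ ω, by rw [hπl, hω, hw]⟩
  refine ⟨M.toCoxeterSystem.map (MulEquiv.ofBijective π hbij), ?_⟩
  intro i
  rw [CoxeterSystem.map_simple]
  exact hπσ i

/-- conjugation of a simple reflection by a word carrying one simple root to another -/
theorem h8W_conj_simple (D : ChevalleyDatum) (hB : H8Base.{0} D) (hA : H8ReflAll D) (hBN : H8BN D)
    (hW : H8BN2 D) (hO2 : H8Ord2 D) (v : List ℕ) (hv : ∀ i ∈ v, i < D.rank) (i j : ℕ)
    (hi : i < D.rank) (hj : j < D.rank) (h : h8sW D v (D.simple j) = D.simple i) :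
    h8wPerm D hA v * h8sPerm D hA j * (h8wPerm D hA v)⁻¹ = h8sPerm D hA i := by
  have hsj := (h8simple_pos D hBN j hj).1
  have h1 := h8Pi_conj (F := ℚ) D hB hA hBN hW hO2 v hv (D.simple j) hsj
  rw [h8Pi_simple (F := ℚ) D hB hA hBN hW hO2 j hj] at h1
  have key : ∀ (s' : ℕ) (hs' : s' < D.nroots), s' = D.simple i →
      h8Pi D hB hA hBN hW hO2 ⟨h8nU D hB s' (1 : ℚ), h8nU_mem_N D hB s' hs'⟩ = h8sPerm D hA i := by
    intro s' hs' e
    subst e
    exact h8Pi_simple (F := ℚ) D hB hA hBN hW hO2 i hi _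
  rw [h1]
  exact key _ (h8sW_lt D hA v hv _ hsj) h

def h8sGen (D : ChevalleyDatum) (hA : H8ReflAll D) (i : Fin D.rank) : ↥(h8W D hA) :=
  ⟨h8sPerm D hA i.val, Subgroup.subset_closure ⟨i.val, i.2, rfl⟩⟩

def h8negF (D : ChevalleyDatum) (hW : H8BN2 D) (r : Fin D.nroots) : Fin D.nroots :=
  ⟨D.negIdx.getD r.val 0, hW.neglt r.val r.2⟩

def h8simF (D : ChevalleyDatum) (hBN : H8BN D) (i : Fin D.rank) : Fin D.nroots :=
  ⟨D.simple i.val, (h8simple_pos D hBN i.val i.2).1⟩

def h8Ps (D : ChevalleyDatum) (hA : H8ReflAll D) (hBN : H8BN D) (x : ↥(h8W D hA)) :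
    Set ↥(h8W D hA) :=
  {w | ∀ i : Fin D.rank, x = h8sGen D hA i →
    D.IsPosRoot ((w⁻¹ : ↥(h8W D hA)).val (h8simF D hBN i)).val}

theorem h8W_negc (D : ChevalleyDatum) (hA : H8ReflAll D) (hW : H8BN2 D)
    (w : Equiv.Perm (Fin D.nroots)) (hw : w ∈ h8W D hA) (r : Fin D.nroots) :
    w (h8negF D hW r) = h8negF D hW (w r) := by
  refine h8cox_closure_neg {π | ∃ i < D.rank, π = h8sPerm D hA i} (h8negF D hW) ?_ w hw r
  rintro s ⟨i, _, rfl⟩ r
  exact h8sPerm_negc D hA hW i r

theorem h8negF_pos (D : ChevalleyDatum) (hB : H8Base.{0} D) (hBN : H8BN D) (hW : H8BN2 D)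
    (hO2 : H8Ord2 D) (r : Fin D.nroots) :
    D.IsPosRoot (h8negF D hW r).val ↔ ¬ D.IsPosRoot r.val :=
  h8posneg_iff D hB hBN hW hO2 r.val r.2

theorem h8sPerm_simF (D : ChevalleyDatum) (hA : H8ReflAll D) (hBN : H8BN D) (hW : H8BN2 D)
    (i : Fin D.rank) : h8sPerm D hA i.val (h8simF D hBN i) = h8negF D hW (h8simF D hBN i) := by
  apply Fin.ext
  rw [h8sPerm_val D hA i.val i.2]
  exact h8reflectRoot_simple D i.val

theorem h8sPerm_sq (D : ChevalleyDatum) (hA : H8ReflAll D) (i : ℕ) :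
    h8sPerm D hA i * h8sPerm D hA i = 1 := by
  calc h8sPerm D hA i * h8sPerm D hA i = (h8sPerm D hA i)⁻¹ * h8sPerm D hA i := by
        rw [h8sPerm_inv]
    _ = 1 := inv_mul_cancel _

theorem h8exch (D : ChevalleyDatum) (hB : H8Base.{0} D) (hA : H8ReflAll D) (hBN : H8BN D)
    (hW : H8BN2 D) (hO2 : H8Ord2 D) (hinj : Function.Injective (h8sGen D hA)) :
    ExchSys (Set.range (h8sGen D hA)) (h8Ps D hA hBN) where
  hT2 := by
    rintro t ⟨i, rfl⟩
    apply Subtype.ext
    exact h8sPerm_sq D hA i.val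
  hgen := by
    have h := Subgroup.closure_closure_coe_preimage
      (k := {π : Equiv.Perm (Fin D.nroots) | ∃ i < D.rank, π = h8sPerm D hA i})
    have e : (Set.range (h8sGen D hA) : Set ↥(h8W D hA)) =
        ((↑) : ↥(h8W D hA) → Equiv.Perm (Fin D.nroots)) ⁻¹'
          {π : Equiv.Perm (Fin D.nroots) | ∃ i < D.rank, π = h8sPerm D hA i} := by
      ext x
      constructor
      · rintro ⟨i, rfl⟩
        exact ⟨i.val, i.2, rfl⟩
      · rintro ⟨i, hi, hx⟩
        exact ⟨⟨i, hi⟩, Subtype.ext hx.symm⟩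
    rw [e]
    exact h
  hA := by
    rintro t ⟨i, rfl⟩ j _
    have : ((1 : ↥(h8W D hA))⁻¹ : ↥(h8W D hA)).val = 1 := by simp
    rw [this, Equiv.Perm.one_apply]
    exact h8simple_pos D hBN j.val j.2
  hB := by
    rintro t ⟨i, rfl⟩ w hw hcon
    have h1 := hw i rfl
    have h2 := hcon i rfl
    have e : ((h8sGen D hA i * w)⁻¹ : ↥(h8W D hA)).val =
        (w⁻¹ : ↥(h8W D hA)).val * h8sPerm D hA i.val := by
      rw [mul_inv_rev, Subgroup.coe_mul]
      congr 1
      show ((h8sGen D hA i)⁻¹ : ↥(h8W D hA)).val = _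
      rw [Subgroup.coe_inv]
      exact h8sPerm_inv D hA i.val
    rw [e, Equiv.Perm.mul_apply, h8sPerm_simF D hA hBN hW i,
      h8W_negc D hA hW _ (w⁻¹ : ↥(h8W D hA)).2, h8negF_pos D hB hBN hW hO2] at h2
    exact h2 h1
  hC := by
    rintro t ⟨i, rfl⟩ t' ⟨j, rfl⟩ w hw hnot
    have h1 := hw i rfl
    have h2 : ¬ D.IsPosRoot (((w * h8sGen D hA j)⁻¹ : ↥(h8W D hA)).val (h8simF D hBN i)).val := by
      intro hp
      apply hnot
      intro k hk
      have := hinj hk
      subst this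
      exact hp
    have e : ((w * h8sGen D hA j)⁻¹ : ↥(h8W D hA)).val =
        h8sPerm D hA j.val * (w⁻¹ : ↥(h8W D hA)).val := by
      rw [mul_inv_rev, Subgroup.coe_mul]
      congr 1
      show ((h8sGen D hA j)⁻¹ : ↥(h8W D hA)).val = _
      rw [Subgroup.coe_inv]
      exact h8sPerm_inv D hA j.val
    rw [e, Equiv.Perm.mul_apply, h8sPerm_val D hA j.val j.2] at h2
    have h3 : ((w⁻¹ : ↥(h8W D hA)).val (h8simF D hBN i)).val = D.simple j.val := by
      by_contra hne
      exact h2 (h8spChk_spec D j.val (hBN.sp j.val j.2) _ h1 hne).1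
    obtain ⟨v, hv, hwv⟩ := (h8W_mem_iff D hA _).mp (w⁻¹ : ↥(h8W D hA)).2
    rw [hwv, h8wPerm_val D hA v hv] at h3
    have h4 := h8W_conj_simple D hB hA hBN hW hO2 v hv j.val i.val j.2 i.2 h3
    rw [← hwv] at h4
    apply Subtype.ext
    rw [Subgroup.coe_mul, Subgroup.coe_mul]
    show h8sPerm D hA i.val * w.val = w.val * h8sPerm D hA j.val
    rw [← h4, Subgroup.coe_inv, inv_inv]
    group

end Cfsg.Agent.Lib.helper8
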