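import Mathlib
import Cfsg.Prelude.Def_ChevStructure
import Cfsg.Agent.Lib.helper8.ChevWeyl2

set_option autoImplicit false

namespace Cfsg.Agent.Lib.helper8

open Cfsg.Lie Cfsg.Lie.ChevalleyDatum Cfsg.Agent.Lib.helper8.H3

/-- an element of `W` mapping all simple roots to positive roots is trivial -/
theorem h8W_simple_pos (D : ChevalleyDatum) (hB : H8Base.{0} D) (hA : H8ReflAll D) (hBN : H8BN D)
    (hW : H8BN2 D) (hO2 : H8Ord2 D) (v : Equiv.Perm (Fin D.nroots)) (hv : v ∈ h8W D hA)
    (hpos : ∀ i : Fin D.rank, D.IsPosRoot (v (h8simF D hBN i)).val) : v = 1 := by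
  obtain ⟨w, hw, hvw⟩ := (h8W_mem_iff D hA v⁻¹).mp (Subgroup.inv_mem _ hv)
  have hwr : ∀ i ∈ w.reverse, i < D.rank := fun i hi => hw i (List.mem_reverse.mp hi)
  have hv' : v = h8wPerm D hA w.reverse := by rw [← h8wPerm_inv, ← hvw, inv_inv]
  have hT := h8word_T (F := ℚ) D hB hA hBN hW hO2 w.length w rfl hw (by
    intro i hi
    have := hpos ⟨i, hi⟩
    rw [hv', h8wPerm_val D hA _ hwr] at this
    exact this)
  have h1 := h8Pi_nWU (F := ℚ) D hB hA hBN hW hO2 w hw
  rw [h8Pi_H D hB hA hBN hW hO2 _ hT] at h1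
  rw [← inv_inj, hvw, ← h1, inv_one]

/-- right multiplication by a simple reflection whose root is made negative lowers the length -/
theorem h8Ninv_mul_simple (D : ChevalleyDatum) (hB : H8Base.{0} D) (hA : H8ReflAll D)
    (hBN : H8BN D) (hW : H8BN2 D) (hO2 : H8Ord2 D) (w : Equiv.Perm (Fin D.nroots))
    (hw : w ∈ h8W D hA) (j : Fin D.rank)
    (hneg : ¬ D.IsPosRoot (w (h8simF D hBN j)).val) :
    h8Ninv D (w * h8sPerm D hA j.val) + 1 = h8Ninv D w := by
  classical
  unfold h8Ninv
  have hs_inv : ∀ r, h8sPerm D hA j.val (h8sPerm D hA j.val r) = r :=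
    h8invol_apply _ (h8sPerm_inv D hA j.val)
  have hsa : h8sPerm D hA j.val (h8simF D hBN j) = h8negF D hW (h8simF D hBN j) :=
    h8sPerm_simF D hA hBN hW j
  have hsp : ∀ r : Fin D.nroots, D.IsPosRoot r.val → r ≠ h8simF D hBN j →
      D.IsPosRoot (h8sPerm D hA j.val r).val ∧ h8sPerm D hA j.val r ≠ h8simF D hBN j := by
    intro r hr hne
    have := h8spChk_spec D j.val (hBN.sp j.val j.2) r.val hr (fun h => hne (Fin.ext h))
    rw [← h8sPerm_val D hA j.val j.2 r] at this
    exact ⟨this.1, fun h => this.2 (congrArg Fin.val h)⟩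
  have e : (Finset.univ.filter fun r : Fin D.nroots =>
        D.IsPosRoot r.val ∧ ¬ D.IsPosRoot (w r).val) =
      insert (h8simF D hBN j) ((Finset.univ.filter fun r : Fin D.nroots =>
        D.IsPosRoot r.val ∧ ¬ D.IsPosRoot ((w * h8sPerm D hA j.val) r).val).image
          (h8sPerm D hA j.val)) := by
    ext r
    simp only [Finset.mem_filter, Finset.mem_univ, true_and, Finset.mem_insert, Finset.mem_image]
    constructor
    · rintro ⟨hr, hwr⟩
      by_cases hra : r = h8simF D hBN j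
      · exact Or.inl hra
      · right
        obtain ⟨h1, h2⟩ := hsp r hr hra
        exact ⟨h8sPerm D hA j.val r, ⟨h1, by rw [Equiv.Perm.mul_apply, hs_inv]; exact hwr⟩,
          hs_inv r⟩
    · rintro (rfl | ⟨r', ⟨hr', hwr'⟩, rfl⟩)
      · exact ⟨h8simple_pos D hBN j.val j.2, hneg⟩
      · have hne : r' ≠ h8simF D hBN j := by
          rintro rfl
          apply hwr'
          rw [Equiv.Perm.mul_apply, hsa, h8W_negc D hA hW w hw, h8negF_pos D hB hBN hW hO2]
          exact hneg
        obtain ⟨h1, h2⟩ := hsp r' hr' hne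
        exact ⟨h1, by rw [Equiv.Perm.mul_apply] at hwr'; exact hwr'⟩
  rw [e, Finset.card_insert_of_notMem, Finset.card_image_of_injective _ (Equiv.injective _)]
  simp only [Finset.mem_image, Finset.mem_filter, Finset.mem_univ, true_and, not_exists, not_and]
  rintro r' ⟨hr', hwr'⟩ hr'a
  have : r' = h8negF D hW (h8simF D hBN j) := by rw [← hsa, ← hr'a, hs_inv]
  rw [this, h8negF_pos D hB hBN hW hO2] at hr'
  exact hr' (h8simple_pos D hBN j.val j.2)

end Cfsg.Agent.Lib.helper8
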