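import Mathlib
import Cfsg.Prelude.Def_ChevStructure
import Cfsg.Agent.Lib.helper8.ChevTw1

set_option autoImplicit false

namespace Cfsg.Agent.Lib.helper8

open Cfsg.Lie Cfsg.Lie.ChevalleyDatum Cfsg.Agent.Lib.helper8.H3

/-- the combinatorial data of a twist of the Weyl group -/
structure H8Tw (D : ChevalleyDatum) (hA : H8ReflAll D) (hBN : H8BN D)
    (ρ : Equiv.Perm (Fin D.nroots)) (π : Fin D.rank → Fin D.rank)
    (orbs : List (List (Fin D.rank))) : Prop where
  pos : ∀ r, D.IsPosRoot (ρ r).val ↔ D.IsPosRoot r.val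
  sim : ∀ j, ρ (h8simF D hBN j) = h8simF D hBN (π j)
  sim_inj : Function.Injective (h8simF D hBN)
  conj : ∀ j : Fin D.rank, ρ * h8sPerm D hA j.val * ρ⁻¹ = h8sPerm D hA (π j).val
  orb_ne : ∀ J ∈ orbs, J ≠ []
  orb_cover : ∀ j, ∃ J ∈ orbs, j ∈ J
  orb_perm : ∀ J ∈ orbs, (J.map π).Perm J
  orb_trans : ∀ J ∈ orbs, ∀ j ∈ J, ∀ k ∈ J, ∃ i, π^[i] j = k
  orb_orth : ∀ J ∈ orbs, ∀ j ∈ J, ∀ k ∈ J, j ≠ k →
    D.reflectRoot j.val (D.simple k.val) = D.simple k.val
  orb_nodup : ∀ J ∈ orbs, J.Nodup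

/-- the product of the simple reflections of a list of nodes -/
def h8wF (D : ChevalleyDatum) (hA : H8ReflAll D) (L : List (Fin D.rank)) :
    Equiv.Perm (Fin D.nroots) :=
  h8wPerm D hA (L.map Fin.val)

theorem h8wF_nil (D : ChevalleyDatum) (hA : H8ReflAll D) : h8wF D hA [] = 1 := rfl

theorem h8wPerm_cons' (D : ChevalleyDatum) (hA : H8ReflAll D) (i : ℕ) (w : List ℕ) :
    h8wPerm D hA (i :: w) = h8sPerm D hA i * h8wPerm D hA w := by
  unfold h8wPerm
  rw [List.map_cons, List.prod_cons]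

theorem h8wF_cons (D : ChevalleyDatum) (hA : H8ReflAll D) (j : Fin D.rank)
    (L : List (Fin D.rank)) : h8wF D hA (j :: L) = h8sPerm D hA j.val * h8wF D hA L := by
  unfold h8wF
  rw [List.map_cons, h8wPerm_cons']

theorem h8wF_eq_prod (D : ChevalleyDatum) (hA : H8ReflAll D) (L : List (Fin D.rank)) :
    h8wF D hA L = (L.map fun j => h8sPerm D hA j.val).prod := by
  unfold h8wF h8wPerm
  rw [List.map_map]
  rfl

theorem h8wF_mem_W (D : ChevalleyDatum) (hA : H8ReflAll D) (L : List (Fin D.rank)) :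
    h8wF D hA L ∈ h8W D hA := by
  rw [h8W_mem_iff]
  refine ⟨L.map Fin.val, ?_, rfl⟩
  intro i hi
  rw [List.mem_map] at hi
  obtain ⟨j, _, rfl⟩ := hi
  exact j.2

theorem h8wF_inv (D : ChevalleyDatum) (hA : H8ReflAll D) (L : List (Fin D.rank)) :
    (h8wF D hA L)⁻¹ = h8wF D hA L.reverse := by
  unfold h8wF
  rw [h8wPerm_inv, List.map_reverse]

/-- the twisted Weyl group: generated by the products over the orbits -/
def h8W1 (D : ChevalleyDatum) (hA : H8ReflAll D) (orbs : List (List (Fin D.rank))) :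
    Subgroup (Equiv.Perm (Fin D.nroots)) :=
  Subgroup.closure {x | ∃ J ∈ orbs, x = h8wF D hA J}

theorem h8W1_le (D : ChevalleyDatum) (hA : H8ReflAll D) (orbs : List (List (Fin D.rank))) :
    h8W1 D hA orbs ≤ h8W D hA := by
  unfold h8W1
  rw [Subgroup.closure_le]
  rintro x ⟨J, _, rfl⟩
  exact h8wF_mem_W D hA J

section
variable (D : ChevalleyDatum) (hB : H8Base.{0} D) (hA : H8ReflAll D) (hBN : H8BN D)
  (hW : H8BN2 D) (hO2 : H8Ord2 D) (ρ : Equiv.Perm (Fin D.nroots)) (π : Fin D.rank → Fin D.rank)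
  (orbs : List (List (Fin D.rank))) (T : H8Tw D hA hBN ρ π orbs)

include hB hW hO2 T in
theorem h8tw_comm (J : List (Fin D.rank)) (hJ : J ∈ orbs) (j k : Fin D.rank) (hj : j ∈ J)
    (hk : k ∈ J) : Commute (h8sPerm D hA j.val) (h8sPerm D hA k.val) := by
  by_cases hjk : j = k
  · rw [hjk]
  · have h := T.orb_orth J hJ j hj k hk hjk
    have h1 := h8W_conj_simple D hB hA hBN hW hO2 [j.val] (by
      intro i hi
      rw [List.mem_singleton] at hi
      rw [hi]; exact j.2) k.val k.val k.2 k.2 h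
    have e : h8wPerm D hA [j.val] = h8sPerm D hA j.val := by
      unfold h8wPerm
      simp
    rw [e] at h1
    show h8sPerm D hA j.val * h8sPerm D hA k.val = h8sPerm D hA k.val * h8sPerm D hA j.val
    calc h8sPerm D hA j.val * h8sPerm D hA k.val =
        (h8sPerm D hA j.val * h8sPerm D hA k.val * (h8sPerm D hA j.val)⁻¹) *
          h8sPerm D hA j.val := by group
      _ = h8sPerm D hA k.val * h8sPerm D hA j.val := by rw [h1]

include hB hW hO2 T in
theorem h8tw_perm_prod (J : List (Fin D.rank)) (hJ : J ∈ orbs) (L L' : List (Fin D.rank))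
    (hL : ∀ x ∈ L, x ∈ J) (h : L.Perm L') : h8wF D hA L = h8wF D hA L' := by
  rw [h8wF_eq_prod, h8wF_eq_prod]
  apply List.Perm.prod_eq' (h.map _)
  rw [List.pairwise_map]
  apply List.pairwise_of_forall_mem_list
  intro a ha b hb
  exact h8tw_comm D hB hA hBN hW hO2 ρ π orbs T J hJ a b (hL a ha) (hL b hb)

include hB hW hO2 T in
theorem h8tw_wJ_sq (J : List (Fin D.rank)) (hJ : J ∈ orbs) :
    h8wF D hA J * h8wF D hA J = 1 := by
  have h1 : (h8wF D hA J)⁻¹ = h8wF D hA J := by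
    rw [h8wF_inv]
    exact h8tw_perm_prod D hB hA hBN hW hO2 ρ π orbs T J hJ J.reverse J
      (fun x hx => List.mem_reverse.mp hx) (List.reverse_perm J)
  calc h8wF D hA J * h8wF D hA J = (h8wF D hA J)⁻¹ * h8wF D hA J := by rw [h1]
    _ = 1 := inv_mul_cancel _

include hB hW hO2 T in
theorem h8tw_rho_wJ (J : List (Fin D.rank)) (hJ : J ∈ orbs) :
    ρ * h8wF D hA J * ρ⁻¹ = h8wF D hA J := by
  have h1 : ρ * h8wF D hA J * ρ⁻¹ = h8wF D hA (J.map π) := by
    have : ∀ L : List (Fin D.rank), ρ * h8wF D hA L * ρ⁻¹ = h8wF D hA (L.map π) := by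
      intro L
      induction L with
      | nil => rw [h8wF_nil, mul_one, mul_inv_cancel]; rfl
      | cons j L ih =>
        rw [List.map_cons, h8wF_cons, h8wF_cons, ← ih, ← T.conj j]
        group
    exact this J
  rw [h1]
  exact (h8tw_perm_prod D hB hA hBN hW hO2 ρ π orbs T J hJ J (J.map π)
    (fun x hx => hx) (T.orb_perm J hJ).symm).symm

include hB hW hO2 T in
theorem h8tw_W1_rho (w : Equiv.Perm (Fin D.nroots)) (hw : w ∈ h8W1 D hA orbs) :
    ρ * w * ρ⁻¹ = w := by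
  unfold h8W1 at hw
  induction hw using Subgroup.closure_induction with
  | mem x hx =>
    obtain ⟨J, hJ, rfl⟩ := hx
    exact h8tw_rho_wJ D hB hA hBN hW hO2 ρ π orbs T J hJ
  | one => group
  | mul a b _ _ ha hb =>
    calc ρ * (a * b) * ρ⁻¹ = (ρ * a * ρ⁻¹) * (ρ * b * ρ⁻¹) := by group
      _ = a * b := by rw [ha, hb]
  | inv a _ ha =>
    calc ρ * a⁻¹ * ρ⁻¹ = (ρ * a * ρ⁻¹)⁻¹ := by group
      _ = a⁻¹ := by rw [ha]

theorem h8wF_fix (L : List (Fin D.rank)) (k : Fin D.rank)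
    (h : ∀ x ∈ L, D.reflectRoot x.val (D.simple k.val) = D.simple k.val) :
    h8wF D hA L (h8simF D hBN k) = h8simF D hBN k := by
  induction L with
  | nil => rfl
  | cons j L ih =>
    rw [h8wF_cons, Equiv.Perm.mul_apply, ih (fun x hx => h x (List.mem_cons_of_mem _ hx))]
    apply Fin.ext
    rw [h8sPerm_val D hA j.val j.2]
    exact h j List.mem_cons_self

include hB hW hO2 T in
theorem h8tw_wJ_simple (J : List (Fin D.rank)) (hJ : J ∈ orbs) (j : Fin D.rank) (hj : j ∈ J) :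
    h8wF D hA J (h8simF D hBN j) = h8negF D hW (h8simF D hBN j) := by
  have hp := List.perm_cons_erase hj
  rw [h8tw_perm_prod D hB hA hBN hW hO2 ρ π orbs T J hJ J _ (fun x hx => hx) hp, h8wF_cons,
    Equiv.Perm.mul_apply, h8wF_fix D hA hBN (J.erase j) j, h8sPerm_simF D hA hBN hW j]
  intro x hx
  have hne : x ≠ j := ((T.orb_nodup J hJ).mem_erase_iff.mp hx).1
  exact T.orb_orth J hJ x (List.mem_of_mem_erase hx) j hj hne

end

end Cfsg.Agent.Lib.helper8
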