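import Mathlib
import Cfsg.Prelude.Def_ChevStructure
import Cfsg.Agent.Lib.helper8.ChevTw2

set_option autoImplicit false

namespace Cfsg.Agent.Lib.helper8

open Cfsg.Lie Cfsg.Lie.ChevalleyDatum Cfsg.Agent.Lib.helper8.H3

section
variable (D : ChevalleyDatum) (hB : H8Base.{0} D) (hA : H8ReflAll D) (hBN : H8BN D)
  (hW : H8BN2 D) (hO2 : H8Ord2 D) (ρ : Equiv.Perm (Fin D.nroots)) (π : Fin D.rank → Fin D.rank)
  (orbs : List (List (Fin D.rank))) (T : H8Tw D hA hBN ρ π orbs)

include hB hW hO2 T in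
/-- multiplying by the reflections of a set of mutually orthogonal simple roots all made
negative lowers the length by their number -/
theorem h8tw_length (J : List (Fin D.rank)) (hJ : J ∈ orbs) : ∀ (L : List (Fin D.rank)),
    (∀ x ∈ L, x ∈ J) → L.Nodup → ∀ w : Equiv.Perm (Fin D.nroots), w ∈ h8W D hA →
    (∀ k ∈ L, ¬ D.IsPosRoot (w (h8simF D hBN k)).val) →
    h8Ninv D (w * h8wF D hA L) + L.length = h8Ninv D w := by
  intro L
  induction L with
  | nil =>
    intro _ _ w _ _
    rw [h8wF_nil, mul_one]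
    rfl
  | cons k L ih =>
    intro hL hnd w hw hneg
    have hL' : ∀ x ∈ L, x ∈ J := fun x hx => hL x (List.mem_cons_of_mem _ hx)
    have hnd' := (List.nodup_cons.mp hnd).2
    have hkL := (List.nodup_cons.mp hnd).1
    have hws : w * h8sPerm D hA k.val ∈ h8W D hA :=
      Subgroup.mul_mem _ hw (Subgroup.subset_closure ⟨k.val, k.2, rfl⟩)
    have h1 := h8Ninv_mul_simple D hB hA hBN hW hO2 w hw k (hneg k List.mem_cons_self)
    have h2 := ih hL' hnd' (w * h8sPerm D hA k.val) hws (by
      intro k' hk'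
      rw [Equiv.Perm.mul_apply]
      have hne : k ≠ k' := fun h => hkL (h ▸ hk')
      have e : h8sPerm D hA k.val (h8simF D hBN k') = h8simF D hBN k' := by
        apply Fin.ext
        rw [h8sPerm_val D hA k.val k.2]
        exact T.orb_orth J hJ k (hL k List.mem_cons_self) k' (hL' k' hk') hne
      rw [e]
      exact hneg k' (List.mem_cons_of_mem _ hk'))
    rw [h8wF_cons, ← mul_assoc, List.length_cons]
    omega

include T in
theorem h8tw_rho_iter (w : Equiv.Perm (Fin D.nroots)) (hw : ρ * w * ρ⁻¹ = w) (j : Fin D.rank)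
    (i : ℕ) : w (h8simF D hBN (π^[i] j)) = (ρ ^ i) (w (h8simF D hBN j)) := by
  have hcomm : ∀ r, w (ρ r) = ρ (w r) := by
    intro r
    have h1 : ρ * w = w * ρ := by
      calc ρ * w = (ρ * w * ρ⁻¹) * ρ := by group
        _ = w * ρ := by rw [hw]
    have := congrArg (fun p : Equiv.Perm (Fin D.nroots) => p r) h1
    simp only [Equiv.Perm.mul_apply] at this
    exact this.symm
  induction i with
  | zero => rfl
  | succ i ih =>
    rw [Function.iterate_succ_apply', ← T.sim, hcomm, ih, pow_succ', Equiv.Perm.mul_apply]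

include T in
theorem h8tw_rho_pow_pos (i : ℕ) (r : Fin D.nroots) :
    D.IsPosRoot ((ρ ^ i) r).val ↔ D.IsPosRoot r.val := by
  induction i with
  | zero => rfl
  | succ i ih => rw [pow_succ', Equiv.Perm.mul_apply, T.pos, ih]

include hB hW hO2 T in
/-- the centralizer of the twist in `W` is generated by the orbit products -/
theorem h8tw_cent : ∀ (n : ℕ) (w : Equiv.Perm (Fin D.nroots)), w ∈ h8W D hA →
    ρ * w * ρ⁻¹ = w → h8Ninv D w = n → w ∈ h8W1 D hA orbs := by
  intro n
  induction n using Nat.strong_induction_on with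
  | _ n ih =>
    intro w hw hρ hn
    by_cases hall : ∀ i : Fin D.rank, D.IsPosRoot (w (h8simF D hBN i)).val
    · rw [h8W_simple_pos D hB hA hBN hW hO2 w hw hall]
      exact Subgroup.one_mem _
    · push_neg at hall
      obtain ⟨j, hj⟩ := hall
      obtain ⟨J, hJ, hjJ⟩ := T.orb_cover j
      have hnegJ : ∀ k ∈ J, ¬ D.IsPosRoot (w (h8simF D hBN k)).val := by
        intro k hk
        obtain ⟨i, rfl⟩ := T.orb_trans J hJ j hjJ k hk
        rw [h8tw_rho_iter D hA hBN ρ π orbs T w hρ j i, h8tw_rho_pow_pos D hA hBN ρ π orbs T]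
        exact hj
      have hlen := h8tw_length D hB hA hBN hW hO2 ρ π orbs T J hJ J (fun x hx => hx)
        (T.orb_nodup J hJ) w hw hnegJ
      have hJlen : 0 < J.length := List.length_pos_iff.mpr (T.orb_ne J hJ)
      have hw' : w * h8wF D hA J ∈ h8W D hA := Subgroup.mul_mem _ hw (h8wF_mem_W D hA J)
      have hρ' : ρ * (w * h8wF D hA J) * ρ⁻¹ = w * h8wF D hA J := by
        calc ρ * (w * h8wF D hA J) * ρ⁻¹ = (ρ * w * ρ⁻¹) * (ρ * h8wF D hA J * ρ⁻¹) := by group
          _ = w * h8wF D hA J := by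
            rw [hρ, h8tw_rho_wJ D hB hA hBN hW hO2 ρ π orbs T J hJ]
      have h1 := ih (h8Ninv D (w * h8wF D hA J)) (by omega) _ hw' hρ' rfl
      have hJmem : h8wF D hA J ∈ h8W1 D hA orbs := Subgroup.subset_closure ⟨J, hJ, rfl⟩
      have : w = (w * h8wF D hA J) * (h8wF D hA J)⁻¹ := by group
      rw [this]
      exact Subgroup.mul_mem _ h1 (Subgroup.inv_mem _ hJmem)

include hB hW hO2 T in
/-- the product over (part of) an orbit keeps positive every positive root outside the orbit -/
theorem h8tw_wJ_pos (J : List (Fin D.rank)) (hJ : J ∈ orbs) : ∀ (L : List (Fin D.rank)),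
    (∀ x ∈ L, x ∈ J) → L.Nodup → ∀ β : Fin D.nroots, D.IsPosRoot β.val →
    (∀ x ∈ L, β ≠ h8simF D hBN x) → D.IsPosRoot (h8wF D hA L β).val := by
  intro L
  induction L with
  | nil => intro _ _ β hβ _; exact hβ
  | cons k L ih =>
    intro hL hnd β hβ hne
    have hL' : ∀ x ∈ L, x ∈ J := fun x hx => hL x (List.mem_cons_of_mem _ hx)
    have hnd' := (List.nodup_cons.mp hnd).2
    have hkL := (List.nodup_cons.mp hnd).1
    have h1 := ih hL' hnd' β hβ (fun x hx => hne x (List.mem_cons_of_mem _ hx))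
    rw [h8wF_cons, Equiv.Perm.mul_apply, h8sPerm_val D hA k.val k.2]
    have h2 : h8wF D hA L β ≠ h8simF D hBN k := by
      intro h
      apply hne k List.mem_cons_self
      have h3 : β = (h8wF D hA L)⁻¹ (h8simF D hBN k) := by rw [← h]; simp
      rw [h3, h8wF_inv]
      apply h8wF_fix D hA hBN
      intro x hx
      have hxL := List.mem_reverse.mp hx
      have hxk : x ≠ k := fun h => hkL (h ▸ hxL)
      exact T.orb_orth J hJ x (hL' x hxL) k (hL k List.mem_cons_self) hxk
    exact (h8spChk_spec D k.val (hBN.sp k.val k.2) _ h1 (fun h => h2 (Fin.ext h))).1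

end

end Cfsg.Agent.Lib.helper8
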