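import Mathlib
import Cfsg.Prelude.Def_ChevStructure
import Cfsg.Agent.Lib.helper8.ChevTw3

set_option autoImplicit false

namespace Cfsg.Agent.Lib.helper8

open Cfsg.Lie Cfsg.Lie.ChevalleyDatum Cfsg.Agent.Lib.helper8.H3

def h8sGen1 (D : ChevalleyDatum) (hA : H8ReflAll D) (orbs : List (List (Fin D.rank)))
    (k : Fin orbs.length) : ↥(h8W1 D hA orbs) :=
  ⟨h8wF D hA (orbs.get k), Subgroup.subset_closure ⟨orbs.get k, List.get_mem _ _, rfl⟩⟩

def h8Ps1 (D : ChevalleyDatum) (hA : H8ReflAll D) (hBN : H8BN D)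
    (orbs : List (List (Fin D.rank))) (x : ↥(h8W1 D hA orbs)) : Set ↥(h8W1 D hA orbs) :=
  {w | ∀ k : Fin orbs.length, x = h8sGen1 D hA orbs k → ∀ j ∈ orbs.get k,
    D.IsPosRoot ((w⁻¹ : ↥(h8W1 D hA orbs)).val (h8simF D hBN j)).val}

section
variable (D : ChevalleyDatum) (hB : H8Base.{0} D) (hA : H8ReflAll D) (hBN : H8BN D)
  (hW : H8BN2 D) (hO2 : H8Ord2 D) (ρ : Equiv.Perm (Fin D.nroots)) (π : Fin D.rank → Fin D.rank)
  (orbs : List (List (Fin D.rank))) (T : H8Tw D hA hBN ρ π orbs)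

include T in
theorem h8tw_rho_pow_sim (i : ℕ) (x : Fin D.rank) :
    (ρ ^ i) (h8simF D hBN x) = h8simF D hBN (π^[i] x) := by
  induction i with
  | zero => rfl
  | succ i ih =>
    rw [pow_succ', Equiv.Perm.mul_apply, ih, T.sim, Function.iterate_succ_apply']

include T in
theorem h8tw_orb_closed (J : List (Fin D.rank)) (hJ : J ∈ orbs) (x : Fin D.rank) (hx : x ∈ J)
    (i : ℕ) : π^[i] x ∈ J := by
  induction i with
  | zero => exact hx
  | succ i ih =>
    rw [Function.iterate_succ_apply']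
    exact (T.orb_perm J hJ).mem_iff.mp (List.mem_map_of_mem ih)

include hB hW hO2 in
/-- conjugation of a simple reflection by an element of `W` carrying its root to a simple root -/
theorem h8W_conj_simple' (u : Equiv.Perm (Fin D.nroots)) (hu : u ∈ h8W D hA) (x y : Fin D.rank)
    (h : u (h8simF D hBN x) = h8simF D hBN y) :
    u * h8sPerm D hA x.val * u⁻¹ = h8sPerm D hA y.val := by
  obtain ⟨v, hv, rfl⟩ := (h8W_mem_iff D hA u).mp hu
  apply h8W_conj_simple D hB hA hBN hW hO2 v hv y.val x.val y.2 x.2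
  have := congrArg Fin.val h
  rw [h8wPerm_val D hA v hv] at this
  exact this

include hB hW hO2 T in
theorem h8tw_exch (hinj : Function.Injective (h8sGen1 D hA orbs)) :
    ExchSys (Set.range (h8sGen1 D hA orbs)) (h8Ps1 D hA hBN orbs) where
  hT2 := by
    rintro t ⟨k, rfl⟩
    apply Subtype.ext
    exact h8tw_wJ_sq D hB hA hBN hW hO2 ρ π orbs T _ (List.get_mem _ _)
  hgen := by
    have h := Subgroup.closure_closure_coe_preimage
      (k := {x : Equiv.Perm (Fin D.nroots) | ∃ J ∈ orbs, x = h8wF D hA J})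
    have e : (Set.range (h8sGen1 D hA orbs) : Set ↥(h8W1 D hA orbs)) =
        ((↑) : ↥(h8W1 D hA orbs) → Equiv.Perm (Fin D.nroots)) ⁻¹'
          {x : Equiv.Perm (Fin D.nroots) | ∃ J ∈ orbs, x = h8wF D hA J} := by
      ext x
      constructor
      · rintro ⟨k, rfl⟩
        exact ⟨orbs.get k, List.get_mem _ _, rfl⟩
      · rintro ⟨J, hJ, hx⟩
        obtain ⟨k, rfl⟩ := List.mem_iff_get.mp hJ
        exact ⟨k, Subtype.ext hx.symm⟩
    rw [e]
    exact h
  hA := by
    rintro t ⟨k, rfl⟩ k' _ j _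
    have : ((1 : ↥(h8W1 D hA orbs))⁻¹ : ↥(h8W1 D hA orbs)).val = 1 := by simp
    rw [this, Equiv.Perm.one_apply]
    exact h8simple_pos D hBN j.val j.2
  hB := by
    rintro t ⟨k, rfl⟩ w hw hcon
    have hJ : orbs.get k ∈ orbs := List.get_mem _ _
    obtain ⟨j, hj⟩ := List.exists_mem_of_ne_nil _ (T.orb_ne _ hJ)
    have h1 := hw k rfl j hj
    have h2 := hcon k rfl j hj
    have hinv : (h8wF D hA (orbs.get k))⁻¹ = h8wF D hA (orbs.get k) :=
      inv_eq_of_mul_eq_one_left (h8tw_wJ_sq D hB hA hBN hW hO2 ρ π orbs T _ hJ)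
    have e : ((h8sGen1 D hA orbs k * w)⁻¹ : ↥(h8W1 D hA orbs)).val =
        (w⁻¹ : ↥(h8W1 D hA orbs)).val * h8wF D hA (orbs.get k) := by
      rw [mul_inv_rev, Subgroup.coe_mul]
      congr 1
    rw [e, Equiv.Perm.mul_apply, h8tw_wJ_simple D hB hA hBN hW hO2 ρ π orbs T _ hJ j hj,
      h8W_negc D hA hW _ (h8W1_le D hA orbs (w⁻¹ : ↥(h8W1 D hA orbs)).2),
      h8negF_pos D hB hBN hW hO2] at h2
    exact h2 h1
  hC := by
    rintro t ⟨k, rfl⟩ t' ⟨l, rfl⟩ w hw hnot
    have hJ : orbs.get k ∈ orbs := List.get_mem _ _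
    have hK : orbs.get l ∈ orbs := List.get_mem _ _
    have hu1 : (w⁻¹ : ↥(h8W1 D hA orbs)).val ∈ h8W1 D hA orbs := (w⁻¹ : ↥(h8W1 D hA orbs)).2
    have huW := h8W1_le D hA orbs hu1
    have huρ := h8tw_W1_rho D hB hA hBN hW hO2 ρ π orbs T _ hu1
    have hpos := hw k rfl
    have hinvK : (h8wF D hA (orbs.get l))⁻¹ = h8wF D hA (orbs.get l) :=
      inv_eq_of_mul_eq_one_left (h8tw_wJ_sq D hB hA hBN hW hO2 ρ π orbs T _ hK)
    have e : ((w * h8sGen1 D hA orbs l)⁻¹ : ↥(h8W1 D hA orbs)).val =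
        h8wF D hA (orbs.get l) * (w⁻¹ : ↥(h8W1 D hA orbs)).val := by
      rw [mul_inv_rev, Subgroup.coe_mul]
      congr 1
    have hex : ∃ j ∈ orbs.get k, ¬ D.IsPosRoot
        (((w * h8sGen1 D hA orbs l)⁻¹ : ↥(h8W1 D hA orbs)).val (h8simF D hBN j)).val := by
      by_contra hcon
      push_neg at hcon
      apply hnot
      intro k' hk' j hj
      have := hinj hk'
      subst this
      exact hcon j hj
    obtain ⟨j, hj, hjn⟩ := hex
    rw [e, Equiv.Perm.mul_apply] at hjn
    have hβ := hpos j hj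
    have hkk : ∃ kk ∈ orbs.get l,
        (w⁻¹ : ↥(h8W1 D hA orbs)).val (h8simF D hBN j) = h8simF D hBN kk := by
      by_contra hcon
      push_neg at hcon
      exact hjn (h8tw_wJ_pos D hB hA hBN hW hO2 ρ π orbs T _ hK _ (fun x hx => hx)
        (T.orb_nodup _ hK) _ hβ hcon)
    obtain ⟨kk, hkk, hjk⟩ := hkk
    -- the orbit correspondence
    have hiter : ∀ i : ℕ, (w⁻¹ : ↥(h8W1 D hA orbs)).val (h8simF D hBN (π^[i] j)) =
        h8simF D hBN (π^[i] kk) := by
      intro i
      rw [h8tw_rho_iter D hA hBN ρ π orbs T _ huρ j i, hjk,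
        h8tw_rho_pow_sim D hA hBN ρ π orbs T]
    have hcex : ∀ x ∈ orbs.get k, ∃ y ∈ orbs.get l,
        (w⁻¹ : ↥(h8W1 D hA orbs)).val (h8simF D hBN x) = h8simF D hBN y := by
      intro x hx
      obtain ⟨i, rfl⟩ := T.orb_trans _ hJ j hj x hx
      exact ⟨π^[i] kk, h8tw_orb_closed D hA hBN ρ π orbs T _ hK kk hkk i, hiter i⟩
    classical
    let c : Fin D.rank → Fin D.rank := fun x =>
      if h : ∃ y, (w⁻¹ : ↥(h8W1 D hA orbs)).val (h8simF D hBN x) = h8simF D hBN y then
        Classical.choose h else x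
    have hc : ∀ x ∈ orbs.get k, c x ∈ orbs.get l ∧
        (w⁻¹ : ↥(h8W1 D hA orbs)).val (h8simF D hBN x) = h8simF D hBN (c x) := by
      intro x hx
      obtain ⟨y, hy, hxy⟩ := hcex x hx
      have hex' : ∃ y, (w⁻¹ : ↥(h8W1 D hA orbs)).val (h8simF D hBN x) = h8simF D hBN y :=
        ⟨y, hxy⟩
      have h1 : c x = Classical.choose hex' := by
        simp only [c, dif_pos hex']
      have h2 := Classical.choose_spec hex'
      rw [← h1] at h2
      have h3 : c x = y := T.sim_inj (h2.symm.trans hxy)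
      exact ⟨h3 ▸ hy, h2⟩
    have hconjL : ∀ L : List (Fin D.rank), (∀ x ∈ L, x ∈ orbs.get k) →
        (w⁻¹ : ↥(h8W1 D hA orbs)).val * h8wF D hA L * ((w⁻¹ : ↥(h8W1 D hA orbs)).val)⁻¹ =
          h8wF D hA (L.map c) := by
      intro L
      induction L with
      | nil => intro _; rw [h8wF_nil, mul_one, mul_inv_cancel]; rfl
      | cons x L ih =>
        intro hL
        have h1 := h8W_conj_simple' D hB hA hBN hW hO2 _ huW x (c x)
          (hc x (hL x List.mem_cons_self)).2
        rw [List.map_cons, h8wF_cons, h8wF_cons,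
          ← ih (fun y hy => hL y (List.mem_cons_of_mem _ hy)), ← h1]
        group
    have hperm : ((orbs.get k).map c).Perm (orbs.get l) := by
      rw [List.perm_ext_iff_of_nodup _ (T.orb_nodup _ hK)]
      · intro y
        constructor
        · intro hy
          rw [List.mem_map] at hy
          obtain ⟨x, hx, rfl⟩ := hy
          exact (hc x hx).1
        · intro hy
          obtain ⟨i, rfl⟩ := T.orb_trans _ hK kk hkk y hy
          rw [List.mem_map]
          have hxi := h8tw_orb_closed D hA hBN ρ π orbs T _ hJ j hj i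
          refine ⟨π^[i] j, hxi, ?_⟩
          exact T.sim_inj ((hc _ hxi).2.symm.trans (hiter i))
      · apply List.Nodup.map_on _ (T.orb_nodup _ hJ)
        intro x hx x' hx' hxx'
        have h1 := (hc x hx).2
        have h2 := (hc x' hx').2
        rw [hxx'] at h1
        exact T.sim_inj ((w⁻¹ : ↥(h8W1 D hA orbs)).val.injective (h1.trans h2.symm))
    have hfinal := hconjL (orbs.get k) (fun x hx => hx)
    rw [h8tw_perm_prod D hB hA hBN hW hO2 ρ π orbs T _ hK _ _
      (fun x hx => by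
        rw [List.mem_map] at hx
        obtain ⟨x', hx', rfl⟩ := hx
        exact (hc x' hx').1) hperm] at hfinal
    apply Subtype.ext
    rw [Subgroup.coe_mul, Subgroup.coe_mul]
    show h8wF D hA (orbs.get k) * w.val = w.val * h8wF D hA (orbs.get l)
    rw [← hfinal, Subgroup.coe_inv, inv_inv]
    group

include hB hW hO2 T in
/-- the twisted Weyl group is a Coxeter group for any matrix recording the orders of the
products of the orbit generators -/
theorem h8tw_cox (M : CoxeterMatrix (Fin orbs.length))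
    (hM : ∀ k l, M k l = orderOf (h8wF D hA (orbs.get k) * h8wF D hA (orbs.get l))) :
    ∃ cs : CoxeterSystem M ↥(h8W1 D hA orbs),
      ∀ k, (cs.simple k).val = h8wF D hA (orbs.get k) := by
  have hord : ∀ k l, M k l = orderOf (h8sGen1 D hA orbs k * h8sGen1 D hA orbs l) := by
    intro k l
    rw [hM, ← Subgroup.orderOf_coe]
    rfl
  have hinj : Function.Injective (h8sGen1 D hA orbs) := by
    intro k l hkl
    by_contra hne
    have h1 : M k l = 1 := by
      rw [hord, hkl]
      have : h8sGen1 D hA orbs l * h8sGen1 D hA orbs l = 1 :=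
        Subtype.ext (h8tw_wJ_sq D hB hA hBN hW hO2 ρ π orbs T _ (List.get_mem _ _))
      rw [this, orderOf_one]
    exact M.off_diagonal k l hne h1
  have E := h8tw_exch D hB hA hBN hW hO2 ρ π orbs T hinj
  obtain ⟨cs, hcs⟩ := h8cox_of_exch E (h8sGen1 D hA orbs) (fun i => ⟨i, rfl⟩)
    (fun x hx => hx) M hord
  exact ⟨cs, fun k => by rw [hcs]; rfl⟩

end

end Cfsg.Agent.Lib.helper8
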