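import Mathlib
import Cfsg.Prelude.Def_Classical

set_option autoImplicit false

namespace Cfsg.Agent.Lib.Helper1.MEO

open Matrix

/-- MEO-O1 : an isometry of `Q` preserves the Gram matrix of the polar form. -/
theorem gram_of_isometry {ι : Type} [Fintype ι] [DecidableEq ι] {F : Type*} [Field F]
    (Q : (ι → F) → F) (B : Matrix ι ι F)
    (hB : ∀ u v : ι → F, Q (u + v) - Q u - Q v = u ⬝ᵥ (B *ᵥ v))
    (g : Matrix.GeneralLinearGroup ι F) (hg : g ∈ Cfsg.isometryGroup F Q) :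
    (g : Matrix ι ι F)ᵀ * B * (g : Matrix ι ι F) = B := by
  have hQ : ∀ u : ι → F, Q ((g : Matrix ι ι F) *ᵥ u) = Q u := by
    intro u
    exact hg u u
  have key : ∀ u v : ι → F, u ⬝ᵥ (((g : Matrix ι ι F)ᵀ * B * (g : Matrix ι ι F)) *ᵥ v) = u ⬝ᵥ (B *ᵥ v) := by
    intro u v
    rw [← hB u v, ← hQ (u + v), ← hQ u, ← hQ v, Matrix.mulVec_add, hB]
    rw [← Matrix.mulVec_mulVec, ← Matrix.mulVec_mulVec, Matrix.dotProduct_mulVec u (g : Matrix ι ι F)ᵀ,
      Matrix.vecMul_transpose]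
  ext i j
  have h := key (Pi.single i 1) (Pi.single j 1)
  simpa using h

end Cfsg.Agent.Lib.Helper1.MEO
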