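import Mathlib
import Cfsg.Agent.Lib.helper15.URegSemi

set_option autoImplicit false

namespace Cfsg.Agent.Lib.Helper1.MEO

open Matrix

/-- MEO-O2 : `Aᵀ B A = B`, `B` invertible ⇒ root multiplicities of the characteristic polynomial
are symmetric under inversion (over any extension field). -/
theorem hinv_of_gram {F : Type*} [Field F] {K : Type*} [Field K] [Algebra F K] {ι : Type*}
    [Fintype ι] [DecidableEq ι] (A B : Matrix ι ι F) (hB : B.det ≠ 0) (h : Aᵀ * B * A = B)
    (ν : K) (hν : ν ≠ 0) :
    (A.map (algebraMap F K)).charpoly.rootMultiplicity ν⁻¹ =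
      (A.map (algebraMap F K)).charpoly.rootMultiplicity ν := by
  set f : F →+* K := algebraMap F K with hf
  set A' : Matrix ι ι K := A.map f with hA'
  set B' : Matrix ι ι K := B.map f with hB'
  have h' : A'ᵀ * B' * A' = B' := by
    have := congrArg (fun M : Matrix ι ι F => M.map f) h
    simpa [Matrix.map_mul, Matrix.transpose_map, hA', hB'] using this
  have hdet : B'.det ≠ 0 := by
    have h1 : B'.det = f B.det := by
      rw [hB']
      exact (RingHom.map_det f B).symm
    rw [h1]
    intro h0
    exact hB ((map_eq_zero f).1 h0)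
  have hu : IsUnit B'.det := isUnit_iff_ne_zero.2 hdet
  set C : Matrix ι ι K := B'⁻¹ * A'ᵀ * B' with hC
  have hCA : C * A' = 1 := by
    rw [hC, Matrix.mul_assoc, Matrix.mul_assoc, ← Matrix.mul_assoc A'ᵀ, h', Matrix.nonsing_inv_mul _ hu]
  have hAC : A' * C = 1 := mul_eq_one_comm.1 hCA
  have hchar : C.charpoly = A'.charpoly := by
    rw [hC, Matrix.mul_assoc, Matrix.charpoly_mul_comm, Matrix.mul_assoc, Matrix.mul_nonsing_inv _ hu,
      Matrix.mul_one, Matrix.charpoly_transpose]
  have := Cfsg.Agent.Lib.helper15.URegSemi.rootMultiplicity_inv A' C hAC ν hν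
  rw [hchar] at this
  exact this.symm

end Cfsg.Agent.Lib.Helper1.MEO
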