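import Mathlib
import Cfsg.Agent.Lib.Helper18.ONE.Defs
import Cfsg.Agent.Lib.Helper18.ONETYCLASS
import Cfsg.Agent.Lib.helper17.ONETYSUM
import Cfsg.Agent.Lib.helper17.ONEPLANETY
import Cfsg.Agent.Lib.helper17.ONENDPERPS
import Cfsg.Agent.Lib.helper17.ONENDSUPS
import Cfsg.Agent.Lib.Helper1.ONEREPR
import Cfsg.Agent.Lib.Lead.ONETYUNIQ

set_option autoImplicit false
set_option linter.unusedVariables false
set_option linter.unusedSectionVars false

/-!
# Project ONE, row CM2 (helper8), part A: value counts in nondegenerate symmetric spaces.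
-/

namespace Cfsg.Agent.Lib.Helper18.ONE

open Polynomial Module Cfsg.Agent.Lib.Helper13.S5955 Cfsg.Agent.Lib.helper15.S5972
open Cfsg.Agent.Lib.Helper16.OSemi

/-- value count in an even-dimensional nondegenerate space of type `s`: `q · #{B w w = c} = q^(2m) - s q^m` for `c ≠ 0`. -/
theorem onecm2_val_even {F : Type*} [Field F] [Fintype F] (h2 : (2 : F) ≠ 0)
    {V : Type*} [AddCommGroup V] [Module F V] [FiniteDimensional F V]
    (B : LinearMap.BilinForm F V) (hsymm : ∀ u v, B u v = B v u)
    (W : Submodule F V) (hW : SND B W) (m : ℕ) (hm : 1 ≤ m) (hdim : finrank F W = 2 * m)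
    (s : ℤ) (hs : OTy B W s) (c : F) (hc : c ≠ 0) :
    (Fintype.card F : ℤ) * (Nat.card {w : ↥W // B (w : V) (w : V) = c} : ℤ) =
      (Fintype.card F : ℤ) ^ (2 * m) - s * (Fintype.card F : ℤ) ^ m := by
  classical
  obtain ⟨Q, e, hQe, hQnd⟩ := onetysum_coord h2 B hsymm W hW
  have hcard : Fintype.card (Fin (finrank F W)) = 2 * m := by rw [Fintype.card_fin, hdim]
  have hty : IsType (⇑Q) m s := by
    have h := hs
    unfold OTy at h
    rw [hdim, Nat.mul_div_cancel_left m (by norm_num : 0 < 2)] at h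
    exact (isType_congr e.toEquiv (fun w : ↥W => B (w : V) (w : V)) (⇑Q)
      (fun v => (hQe v).symm) m s).mp h
  have hN := isType_N1 Q hQnd m hm hcard s hty
  have h1 : cnt (⇑Q) c = cnt (⇑Q) 1 :=
    cnt_const Q hQnd (by rw [hcard]; exact even_two_mul m) (by omega) c hc
  have h3 : cnt (⇑Q) c = cnt (fun w : ↥W => B (w : V) (w : V)) c :=
    cnt_congr e.toEquiv (fun w : ↥W => B (w : V) (w : V)) (⇑Q) (fun v => (hQe v).symm) c
  have h4 : Nat.card {w : ↥W // B (w : V) (w : V) = c} = cnt (fun w : ↥W => B (w : V) (w : V)) c := rfl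
  rw [h4, ← h3, h1]
  exact hN

/-- zero count: just the definition of `OTy`. -/
theorem onecm2_val_zero {F : Type*} [Field F] [Fintype F]
    {V : Type*} [AddCommGroup V] [Module F V]
    (B : LinearMap.BilinForm F V) (W : Submodule F V) (m : ℕ) (hdim : finrank F W = 2 * m)
    (s : ℤ) (hs : OTy B W s) :
    (Fintype.card F : ℤ) * (Nat.card {w : ↥W // B (w : V) (w : V) = 0} : ℤ) =
      (Fintype.card F : ℤ) ^ (2 * m) + s * ((Fintype.card F : ℤ) ^ (m + 1) - (Fintype.card F : ℤ) ^ m) := by
  have h := hs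
  unfold OTy at h
  rw [hdim, Nat.mul_div_cancel_left m (by norm_num : 0 < 2)] at h
  exact h

/-- the number of square roots of `1` is `2`. -/
theorem onecm2_card_sq_one {F : Type*} [Field F] [Fintype F] [DecidableEq F] (h2 : (2 : F) ≠ 0) :
    (Finset.univ.filter (fun x : F => x ^ 2 = 1)).card = 2 := by
  have : Finset.univ.filter (fun x : F => x ^ 2 = 1) = {1, -1} := by
    ext x
    simp only [Finset.mem_filter, Finset.mem_univ, true_and, Finset.mem_insert,
      Finset.mem_singleton]
    constructor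
    · intro h
      have : (x - 1) * (x + 1) = 0 := by ring_nf; rw [h]; ring
      rcases mul_eq_zero.mp this with h' | h'
      · left; exact sub_eq_zero.mp h'
      · right; exact eq_neg_of_add_eq_zero_left h'
    · rintro (rfl | rfl) <;> ring
  rw [this, Finset.card_pair]
  intro h
  have : (2 : F) = 0 := by
    have h' : (1 : F) + 1 = 0 := by nth_rewrite 1 [h]; ring
    rw [← h']; norm_num
  exact h2 this

end Cfsg.Agent.Lib.Helper18.ONE
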