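import Mathlib
import Cfsg.Agent.Lib.Helper1.ODN.Defs

set_option autoImplicit false

/-!
# Project ODN (designer helper1), row SISO (six small facts about `SIso`), helper8
-/

namespace Cfsg.Agent.Lib.Helper1.ODN

open Polynomial Module Cfsg.Agent.Lib.Helper13.S5955 Cfsg.Agent.Lib.helper15.S5972 Cfsg.Agent.Lib.Helper18.ONE
  Cfsg.Agent.Lib.Helper16.OSemi

/-- SISO [M] (six small facts, one file).  `siso_bilin`: polarization `B u w = (B (u+w) (u+w) - B u u - B w w) / 2`. -/
theorem siso_refl {F : Type*} [Field F] {V : Type*} [AddCommGroup V] [Module F V]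
    (B : LinearMap.BilinForm F V) (W : Submodule F V) : SIso B W W :=
  ⟨LinearEquiv.refl F ↥W, fun _ => rfl⟩

theorem siso_symm {F : Type*} [Field F] {V : Type*} [AddCommGroup V] [Module F V]
    {B : LinearMap.BilinForm F V} {W W' : Submodule F V} (h : SIso B W W') : SIso B W' W := by
  obtain ⟨e, he⟩ := h
  refine ⟨e.symm, fun w => ?_⟩
  have := he (e.symm w)
  rw [LinearEquiv.apply_symm_apply] at this
  exact this.symm

theorem siso_trans {F : Type*} [Field F] {V : Type*} [AddCommGroup V] [Module F V]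
    {B : LinearMap.BilinForm F V} {W W' W'' : Submodule F V} (h : SIso B W W') (h' : SIso B W' W'') :
    SIso B W W'' := by
  obtain ⟨e, he⟩ := h
  obtain ⟨e', he'⟩ := h'
  refine ⟨e.trans e', fun w => ?_⟩
  rw [LinearEquiv.trans_apply, he', he]

theorem siso_finrank {F : Type*} [Field F] {V : Type*} [AddCommGroup V] [Module F V]
    {B : LinearMap.BilinForm F V} {W W' : Submodule F V} (h : SIso B W W') :
    finrank F W = finrank F W' := by
  obtain ⟨e, _⟩ := h
  exact LinearEquiv.finrank_eq e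

theorem siso_bilin {F : Type*} [Field F] (h2 : (2 : F) ≠ 0) {V : Type*} [AddCommGroup V] [Module F V]
    (B : LinearMap.BilinForm F V) (hsymm : ∀ u v, B u v = B v u) {W W' : Submodule F V} (h : SIso B W W') :
    ∃ e : ↥W ≃ₗ[F] ↥W', ∀ u w : ↥W, B ((e u : ↥W') : V) ((e w : ↥W') : V) = B (u : V) (w : V) := by
  obtain ⟨e, he⟩ := h
  refine ⟨e, fun u w => ?_⟩
  have h1 := he (u + w)
  rw [map_add, Submodule.coe_add, Submodule.coe_add] at h1
  simp only [map_add, LinearMap.add_apply] at h1
  rw [he u, he w, hsymm ((e w : ↥W') : V) ((e u : ↥W') : V), hsymm (w : V) (u : V)] at h1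
  have h3 : (2 : F) * B ((e u : ↥W') : V) ((e w : ↥W') : V) = 2 * B (u : V) (w : V) := by
    linear_combination h1
  exact mul_left_cancel₀ h2 h3

theorem siso_nd {F : Type*} [Field F] (h2 : (2 : F) ≠ 0) {V : Type*} [AddCommGroup V] [Module F V]
    (B : LinearMap.BilinForm F V) (hsymm : ∀ u v, B u v = B v u) {W W' : Submodule F V} (h : SIso B W W')
    (hW : SND B W) : SND B W' := by
  obtain ⟨e, he⟩ := siso_bilin h2 B hsymm h
  intro u hu hall
  have h1 : ((e.symm ⟨u, hu⟩ : ↥W) : V) = 0 := by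
    apply hW _ (e.symm ⟨u, hu⟩).2
    intro v hv
    have := he (e.symm ⟨u, hu⟩) ⟨v, hv⟩
    rw [LinearEquiv.apply_symm_apply] at this
    rw [← this]
    exact hall _ (e ⟨v, hv⟩).2
  have h3 : e.symm ⟨u, hu⟩ = 0 := Subtype.ext h1
  have h4 : (⟨u, hu⟩ : ↥W') = 0 := by
    have := congrArg e h3
    rwa [LinearEquiv.apply_symm_apply, map_zero] at this
  exact congrArg Subtype.val h4

end Cfsg.Agent.Lib.Helper1.ODN
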