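import Mathlib
import Cfsg.Agent.Lib.Helper1.ODN.Defs
import Cfsg.Agent.Lib.Helper24.S5972SPLIT
import Cfsg.Agent.Lib.helper23.ONECYCLADDER

set_option autoImplicit false

/-!
# Project ODN (designer helper1), row SUFFODD (`odn_suff_abs`), CORE (helper8)

The statement of row EXCLS (`ex_cls`) for `(V, B)` enters as the hypothesis `hexcls`; everything else (helper15/helper24 `o_split`,
ONE rows CYCDVD `o_cyc_nd_dvd` and LADDER `o_nd_ladder`) is cited from main.
-/

namespace Cfsg.Agent.Lib.Helper1.ODN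

open Polynomial Module Cfsg.Agent.Lib.Helper13.S5955 Cfsg.Agent.Lib.helper15.S5972 Cfsg.Agent.Lib.Helper18.ONE

/-- arithmetic of SUFFODD: `e = m - c * b < f` -/
theorem odnsuffodd_arith (c A d m f : ℕ) (hcpos : 0 < c) (hfg : f + c * A = 2 * d) (hfpos : 0 < f)
    (hmd : m < d) (hcond : m % c < (2 * d) % c ∨ (2 * d) % c = 0) :
    c * min (m / c) A ≤ m ∧ m - c * min (m / c) A < f := by
  have hdm : c * (m / c) + m % c = m := Nat.div_add_mod m c
  have hle : c * min (m / c) A ≤ c * (m / c) := Nat.mul_le_mul_left c (min_le_left _ _)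
  refine ⟨by omega, ?_⟩
  rcases le_total A (m / c) with hA | hA
  · rw [min_eq_right hA]
    have : c * A ≤ c * (m / c) := Nat.mul_le_mul_left c hA
    omega
  · rcases Nat.eq_or_lt_of_le hA with hAeq | hAlt
    · rw [min_eq_left hA, hAeq]
      have : c * A ≤ c * (m / c) := by rw [hAeq]
      rw [← hAeq]
      omega
    · rw [min_eq_left hA]
      have he : m - c * (m / c) = m % c := by omega
      rw [he]
      have hfmod : f % c = (2 * d) % c := by
        rw [← hfg, Nat.add_mul_mod_self_left]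
      rcases hcond with h1 | h1
      · have : f % c ≤ f := Nat.mod_le f c
        omega
      · have hcf : c ∣ f := Nat.dvd_of_mod_eq_zero (by rw [hfmod, h1])
        have : c ≤ f := Nat.le_of_dvd hfpos hcf
        have : m % c < c := Nat.mod_lt m hcpos
        omega

theorem odnsuffodd_core {F : Type*} [Field F] [Fintype F] {p : ℕ} [Fact p.Prime] [CharP F p]
    (h2 : (2 : F) ≠ 0) {V : Type*} [AddCommGroup V] [Module F V] [FiniteDimensional F V]
    {r : ℕ} [Fact r.Prime] (hrp : r ≠ p) (hr2 : r ≠ 2) {B : LinearMap.BilinForm F V}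
    {x : Module.End F V} (h : OCtx r B x)
    (hexcls : ∀ (N M W₀ : Submodule F V), SND B N → SND B M → SOrth B N M → SND B W₀ →
      ∀ e : ℕ, 1 ≤ e → e < finrank F N → finrank F W₀ = e + finrank F M →
      ∃ W₁ : Submodule F V, W₁ ≤ N ∧ SND B W₁ ∧ finrank F W₁ = e ∧ SND B (W₁ ⊔ M) ∧
        finrank F ↥(W₁ ⊔ M) = e + finrank F M ∧ SIso B (W₁ ⊔ M) W₀)
    (d m : ℕ) (hV : finrank F V = 2 * d)
    (hm : Odd m) (hmd : m < d) (i c : ℕ)
    (hi : i = orderOf ((Fintype.card F : ℕ) : ZMod r)) (hc : c = if Even i then i else 2 * i)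
    (W₀ : Submodule F V) (hW₀ : SND B W₀) (hW₀m : finrank F W₀ = m) (hfix : fixS x ≠ ⊥)
    (hcond : m % c < (2 * d) % c ∨ (2 * d) % c = 0) : FixC B x m W₀ := by
  obtain ⟨hOrth, hcompl, hfixnd, hcycnd⟩ := o_split hrp h
  have hipos : 0 < i := by
    rw [hi]
    exact Cfsg.Agent.Lib.Helper24.el_ord_pos (F := F) (p := p) r hrp
  have hcpos : 0 < c := by
    rw [hc]
    split_ifs <;> omega
  have hceven : Even c := by
    rw [hc]
    split_ifs with hev
    · exact hev
    · exact even_two_mul i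
  have hcycinv : SInv x (cycS r x) := Cfsg.Agent.Lib.Helper24.el_inv_ker x _
  obtain ⟨A, hA⟩ := o_cyc_nd_dvd hrp hr2 h i c hi hc (cycS r x) hcycinv le_rfl hcycnd
  have hfg : finrank F (fixS x) + c * A = 2 * d := by
    rw [← hA, ← hV]
    exact Submodule.finrank_add_eq_of_isCompl hcompl
  have hfpos : 0 < finrank F (fixS x) := by
    rcases Nat.eq_zero_or_pos (finrank F (fixS x)) with h0 | h0
    · exact absurd (Submodule.finrank_eq_zero.mp h0) hfix
    · exact h0
  obtain ⟨hle, hlt⟩ := odnsuffodd_arith c A d m (finrank F (fixS x)) hcpos hfg hfpos hmd hcond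
  set b := min (m / c) A with hb
  have hbA : c * b ≤ finrank F (cycS r x) := by
    rw [hA]
    exact Nat.mul_le_mul_left c (min_le_right _ _)
  obtain ⟨M, hMle, hMinv, hMnd, hMdim⟩ := o_nd_ladder hrp hr2 h i c hi hc b hbA
  have he1 : 1 ≤ m - c * b := by
    obtain ⟨k, hk⟩ := hm
    obtain ⟨t, ht⟩ := hceven
    have : c * b = 2 * (t * b) := by rw [ht]; ring
    omega
  have hNM : SOrth B (fixS x) M := fun u hu w hw => hOrth u hu w (hMle hw)
  have hdim : finrank F W₀ = (m - c * b) + finrank F M := by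
    rw [hW₀m, hMdim]
    omega
  obtain ⟨W₁, hW₁le, -, -, hsupnd, hsupdim, hsiso⟩ :=
    hexcls (fixS x) M W₀ hfixnd hMnd hNM hW₀ (m - c * b) he1 hlt hdim
  refine ⟨W₁ ⊔ M, ?_, hsupnd, ?_, hsiso⟩
  · exact Cfsg.Agent.Lib.Helper24.el_inv_sup
      (Cfsg.Agent.Lib.Helper24.el_inv_of_le_fix x W₁ hW₁le) hMinv
  · rw [hsupdim, hMdim]
    omega

end Cfsg.Agent.Lib.Helper1.ODN
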