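import Mathlib
import Cfsg.Agent.Lib.Helper1.ODN.Defs
import Cfsg.Agent.Lib.helper8.ODNSUFFODDcore
import Cfsg.Agent.Lib.Helper1.ODNEXCLS

set_option autoImplicit false

/-!
# Project ODN (designer helper1), row SUFFODD (`odn_suff_abs`), verbatim wrapper (helper8):
`odnsuffodd_core` + helper1's EXCLS `ex_cls`.
-/

namespace Cfsg.Agent.Lib.Helper1.ODN

open Polynomial Module Cfsg.Agent.Lib.Helper13.S5955 Cfsg.Agent.Lib.helper15.S5972 Cfsg.Agent.Lib.Helper18.ONE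

/-- SUFFODD [L]: abstract sufficiency for odd `r ≠ p`. -/
theorem odn_suff_abs {F : Type*} [Field F] [Fintype F] {p : ℕ} [Fact p.Prime] [CharP F p]
    (h2 : (2 : F) ≠ 0) {V : Type*} [AddCommGroup V] [Module F V] [FiniteDimensional F V]
    {r : ℕ} [Fact r.Prime] (hrp : r ≠ p) (hr2 : r ≠ 2) {B : LinearMap.BilinForm F V}
    {x : Module.End F V} (h : OCtx r B x) (d m : ℕ) (hV : finrank F V = 2 * d)
    (hm : Odd m) (hmd : m < d) (i c : ℕ)
    (hi : i = orderOf ((Fintype.card F : ℕ) : ZMod r)) (hc : c = if Even i then i else 2 * i)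
    (W₀ : Submodule F V) (hW₀ : SND B W₀) (hW₀m : finrank F W₀ = m) (hfix : fixS x ≠ ⊥)
    (hcond : m % c < (2 * d) % c ∨ (2 * d) % c = 0) : FixC B x m W₀ :=
  odnsuffodd_core h2 hrp hr2 h
    (fun N M W₀ hN hM hNM hW₀ e he heN hdim => ex_cls h2 B h.symm N M W₀ hN hM hNM hW₀ e he heN hdim)
    d m hV hm hmd i c hi hc W₀ hW₀ hW₀m hfix hcond

end Cfsg.Agent.Lib.Helper1.ODN
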