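import Mathlib
import Cfsg.Agent.Lib.Helper1.ODN.Defs
import Cfsg.Agent.Lib.Helper24.S5972SPLIT
import Cfsg.Agent.Lib.helper23.ONECYCLADDER

set_option autoImplicit false

/-!
# Project ODN (designer helper1), row SMALLGRP (`odn_small_grp`), helper8

A group of isometries of a nondegenerate symmetric space of dimension `< c` has order prime to `r`
(Cauchy + `o_split` + ONE CYCDVD).
-/

namespace Cfsg.Agent.Lib.Helper1.ODN

open Polynomial Module Cfsg.Agent.Lib.Helper13.S5955 Cfsg.Agent.Lib.helper15.S5972 Cfsg.Agent.Lib.Helper18.ONE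

/-- SMALLGRP [M]: a group of isometries of a nondegenerate space of dimension `< c` has order prime to `r`.  Cauchy (`exists_prime_orderOf_dvd_card`): `g ∈ G` of order `r`;
`OCtx r B g.toLinearMap`; `g ≠ 1`, so `cycS r g ≠ ⊥` (`o_split`: `IsCompl`; `fixS = ⊤` means `g = 1`); ONE CYCDVD with `N = cycS` (`o_split`: `SND`): `c ∣ dim cycS`, `0 < dim cycS ≤ dim V < c`. -/
theorem odn_small_grp {F : Type*} [Field F] [Fintype F] {p : ℕ} [Fact p.Prime] [CharP F p]
    {V : Type*} [AddCommGroup V] [Module F V] [FiniteDimensional F V]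
    {r : ℕ} [Fact r.Prime] (hrp : r ≠ p) (hr2 : r ≠ 2) (B : LinearMap.BilinForm F V)
    (hsymm : ∀ u v, B u v = B v u) (hnd : ∀ u, (∀ v, B u v = 0) → u = 0) (i c : ℕ)
    (hi : i = orderOf ((Fintype.card F : ℕ) : ZMod r)) (hc : c = if Even i then i else 2 * i)
    (hdim : finrank F V < c) (G : Subgroup (V ≃ₗ[F] V))
    (hG : ∀ g ∈ G, ∀ u v : V, B (g u) (g v) = B u v) : ¬ r ∣ Nat.card G := by
  intro hdvd
  let _ : Finite V := Module.finite_of_finite F
  let _ : Finite (V ≃ₗ[F] V) :=
    Finite.of_injective (fun e : V ≃ₗ[F] V => (e : V → V)) DFunLike.coe_injective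
  obtain ⟨g, hg⟩ := exists_prime_orderOf_dvd_card' r hdvd
  have hgpow : g ^ r = 1 := by rw [← hg]; exact pow_orderOf_eq_one g
  have hgne : g ≠ 1 := by
    intro h1
    rw [h1, orderOf_one] at hg
    exact (Fact.out : r.Prime).one_lt.ne hg
  set x : Module.End F V := ((g : V ≃ₗ[F] V) : V →ₗ[F] V) with hx
  have hxapply : ∀ v, x v = (g : V ≃ₗ[F] V) v := fun v => rfl
  have hxpow : x ^ r = 1 := by
    have h1 : (((g ^ r : G) : V ≃ₗ[F] V)) = 1 := by rw [hgpow]; rfl
    have h2 : LinearEquiv.automorphismGroup.toLinearMapMonoidHom ((g : V ≃ₗ[F] V) ^ r) =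
        (LinearEquiv.automorphismGroup.toLinearMapMonoidHom (g : V ≃ₗ[F] V)) ^ r := map_pow _ _ _
    have h3 : ((g : V ≃ₗ[F] V) ^ r) = 1 := by
      rw [← Subgroup.coe_pow]; exact h1
    rw [h3, map_one] at h2
    exact h2.symm
  have hctx : OCtx r B x := ⟨hsymm, hnd, fun u v => hG g g.2 u v, hxpow⟩
  obtain ⟨-, hcompl, -, hcycnd⟩ := o_split hrp hctx
  have hcycinv : SInv x (cycS r x) := Cfsg.Agent.Lib.Helper24.el_inv_ker x _
  have hcdvd := o_cyc_nd_dvd hrp hr2 hctx i c hi hc (cycS r x) hcycinv le_rfl hcycnd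
  have hcycne : cycS r x ≠ ⊥ := by
    intro hbot
    have htop : fixS x = ⊤ := by
      have := hcompl.sup_eq_top
      rwa [hbot, sup_bot_eq] at this
    apply hgne
    apply Subtype.ext
    apply LinearEquiv.ext
    intro v
    have hv : v ∈ fixS x := by rw [htop]; exact Submodule.mem_top
    unfold fixS at hv
    rw [LinearMap.mem_ker, map_sub, aeval_X, map_one, LinearMap.sub_apply,
      Module.End.one_apply, sub_eq_zero] at hv
    exact hv
  have hpos : 0 < finrank F (cycS r x) := by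
    rcases Nat.eq_zero_or_pos (finrank F (cycS r x)) with h0 | h0
    · exact absurd (Submodule.finrank_eq_zero.mp h0) hcycne
    · exact h0
  have hle : c ≤ finrank F (cycS r x) := Nat.le_of_dvd hpos hcdvd
  have hle2 : finrank F (cycS r x) ≤ finrank F V := Submodule.finrank_le _
  omega

end Cfsg.Agent.Lib.Helper1.ODN
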