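import Mathlib
import Cfsg.Agent.Lib.Helper1.ODN.Defs
import Cfsg.Agent.Lib.Helper24.S5972SPLIT
import Cfsg.Agent.Lib.helper8.ODNSISO

set_option autoImplicit false

/-!
# Project ODN (designer helper1), row CORNERABS (`odn_corner_abs`), CORE (helper8)

The statements of the rows CONG, CORNERFIX, EXCLS, SUBCARD, ORBABS (for the objects at hand) enter as hypotheses;
`o_split` and SISO are cited from main.
-/

namespace Cfsg.Agent.Lib.Helper1.ODN

open Polynomial Module Cfsg.Agent.Lib.Helper13.S5955 Cfsg.Agent.Lib.helper15.S5972 Cfsg.Agent.Lib.Helper18.ONE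

/-- restriction of a nondegenerate-on-`C` form: the comap of `W₁ ≤ C` is nondegenerate for `B.restrict C` -/
theorem odncornerabs_snd_comap {F : Type*} [Field F] {V : Type*} [AddCommGroup V] [Module F V]
    (B : LinearMap.BilinForm F V) (C W₁ : Submodule F V) (hW₁C : W₁ ≤ C) (hW₁ : SND B W₁) :
    SND (B.restrict C) (W₁.comap C.subtype) := by
  intro u hu hall
  have hu' : (u : V) ∈ W₁ := hu
  have h0 : (u : V) = 0 := by
    apply hW₁ _ hu'
    intro v hv
    have := hall ⟨v, hW₁C hv⟩ (by exact hv)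
    exact this
  exact Subtype.ext h0

theorem odncornerabs_finrank_comap {F : Type*} [Field F] {V : Type*} [AddCommGroup V] [Module F V]
    (C W₁ : Submodule F V) (hW₁C : W₁ ≤ C) :
    finrank F ↥(W₁.comap C.subtype) = finrank F W₁ :=
  LinearEquiv.finrank_eq (Submodule.comapSubtypeEquivOfLe hW₁C)

theorem odncornerabs_core {F : Type*} [Field F] [Fintype F] {p : ℕ} [Fact p.Prime] [CharP F p]
    (h2 : (2 : F) ≠ 0) {V : Type*} [AddCommGroup V] [Module F V] [FiniteDimensional F V]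
    {r : ℕ} [Fact r.Prime] (hrp : r ≠ p) (hr2 : r ≠ 2) {B : LinearMap.BilinForm F V}
    {x : Module.End F V} (h : OCtx r B x) (m i c : ℕ) (hm : 1 ≤ m)
    (hi : i = orderOf ((Fintype.card F : ℕ) : ZMod r)) (hc : c = if Even i then i else 2 * i)
    (hmk : m < finrank F (fixS x)) (hkc : finrank F (fixS x) < c)
    (W₀ : Submodule F V) (hW₀ : SND B W₀) (hW₀m : finrank F W₀ = m)
    (hcong : Nat.card (OmC B m W₀) ≡ Nat.card {W : OmC B m W₀ // SInv x W.1} [MOD r])
    (hcornerfix : ∀ W : Submodule F V, SInv x W → SND B W → finrank F W = m → W ≤ fixS x)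
    (hexcls : ∀ (N M W₀ : Submodule F V), SND B N → SND B M → SOrth B N M → SND B W₀ →
      ∀ e : ℕ, 1 ≤ e → e < finrank F N → finrank F W₀ = e + finrank F M →
      ∃ W₁ : Submodule F V, W₁ ≤ N ∧ SND B W₁ ∧ finrank F W₁ = e ∧ SND B (W₁ ⊔ M) ∧
        finrank F ↥(W₁ ⊔ M) = e + finrank F M ∧ SIso B (W₁ ⊔ M) W₀)
    (hsubcard : ∀ (C W₁ : Submodule F V), W₁ ≤ C →
      Nat.card {W : OmC B m W₁ // W.1 ≤ C} = Nat.card (OmC (B.restrict C) m (W₁.comap C.subtype)))
    (horb : (∀ u v, (B.restrict (fixS x)) u v = (B.restrict (fixS x)) v u) →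
      (∀ u, (∀ v, (B.restrict (fixS x)) u v = 0) → u = 0) → finrank F ↥(fixS x) < c →
      ∀ W₁ : Submodule F ↥(fixS x), SND (B.restrict (fixS x)) W₁ → finrank F W₁ = m →
        ¬ r ∣ Nat.card (OmC (B.restrict (fixS x)) m W₁)) :
    ¬ r ∣ Nat.card (OmC B m W₀) := by
  obtain ⟨-, -, hfixnd, -⟩ := o_split hrp h
  -- a member of the class inside `fixS x`
  have hbotnd : SND B (⊥ : Submodule F V) := fun u hu _ => (Submodule.mem_bot F).mp hu
  have hbotorth : SOrth B (fixS x) (⊥ : Submodule F V) := by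
    intro u _ w hw
    rw [(Submodule.mem_bot F).mp hw, map_zero]
  have hdim0 : finrank F W₀ = m + finrank F (⊥ : Submodule F V) := by
    rw [finrank_bot, add_zero, hW₀m]
  obtain ⟨W₁, hW₁le, hW₁nd, hW₁m, -, -, hsiso⟩ :=
    hexcls (fixS x) ⊥ W₀ hfixnd hbotnd hbotorth hW₀ m hm hmk hdim0
  rw [sup_bot_eq] at hsiso
  -- the fixed members of the class are the members of the class of `W₁` inside `fixS x`
  have hequiv : {W : OmC B m W₀ // SInv x W.1} ≃ {W : OmC B m W₁ // W.1 ≤ fixS x} :=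
    { toFun := fun W => ⟨⟨W.1.1, W.1.2.1, W.1.2.2.1, siso_trans W.1.2.2.2 (siso_symm hsiso)⟩,
        hcornerfix W.1.1 W.2 W.1.2.2.1 W.1.2.1⟩
      invFun := fun W => ⟨⟨W.1.1, W.1.2.1, W.1.2.2.1, siso_trans W.1.2.2.2 hsiso⟩,
        Cfsg.Agent.Lib.Helper24.el_inv_of_le_fix x W.1.1 W.2⟩
      left_inv := fun W => Subtype.ext (Subtype.ext rfl)
      right_inv := fun W => Subtype.ext (Subtype.ext rfl) }
  have hcard : Nat.card {W : OmC B m W₀ // SInv x W.1} =
      Nat.card (OmC (B.restrict (fixS x)) m (W₁.comap (fixS x).subtype)) := by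
    rw [Nat.card_congr hequiv]
    exact hsubcard (fixS x) W₁ hW₁le
  have hsymmC : ∀ u v, (B.restrict (fixS x)) u v = (B.restrict (fixS x)) v u :=
    fun u v => h.symm _ _
  have hndC : ∀ u, (∀ v, (B.restrict (fixS x)) u v = 0) → u = 0 := by
    intro u hu
    have := hfixnd (u : V) u.2 (fun v hv => hu ⟨v, hv⟩)
    exact Subtype.ext this
  have hnot := horb hsymmC hndC hkc (W₁.comap (fixS x).subtype)
    (odncornerabs_snd_comap B (fixS x) W₁ hW₁le hW₁nd)
    (by rw [odncornerabs_finrank_comap (fixS x) W₁ hW₁le, hW₁m])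
  intro hdvd
  apply hnot
  rw [← hcard]
  exact (Nat.modEq_zero_iff_dvd.mp ((hcong.symm).trans (Nat.modEq_zero_iff_dvd.mpr hdvd)))

end Cfsg.Agent.Lib.Helper1.ODN
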