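import Mathlib
import Cfsg.Agent.Lib.Helper1.SLN.Defs
import Cfsg.Agent.Lib.Helper1.SLN.Defs2
import Cfsg.Agent.Lib.Helper16.SLNG2core
import Cfsg.Agent.Lib.helper23.SL7G1p

/-!
# Project SL7 (designer helper1), skeleton 2, row G2p (`gX_low'`), VERBATIM (helper8)

= G2 (`gX_low`, helper16) under the weaker hypothesis `Glue3` (the same proof: only `H.g3` and G1p are used).
-/

set_option autoImplicit false

namespace Cfsg.Agent.Lib.Helper1.SLN

open Matrix Equiv
open Cfsg.Agent.Lib.helper17.SLP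

universe u v w

section Gp

variable {F : Type u} [Field F] {G : Type v} [Group G]

/-- G2p [S-M]  = G2 with `Glue3` (G1p, `H.g3`, `flip2_xU`). -/
theorem gX_low' (M : ℕ) (α : alternatingGroup (Fin (M + 4)) →* G)
    (β : Matrix.SpecialLinearGroup (Fin 3) F →* G) (H : Glue3 M α β)
    (σ : alternatingGroup (Fin (M + 4))) (i j : Fin (M + 4))
    (h0 : (σ : Equiv.Perm (Fin (M + 4))) (i0 M) = i) (h1 : (σ : Equiv.Perm (Fin (M + 4))) (i1 M) = j)
    (t : F) : gX M α β j i t = α σ * β (emb23 (xL t)) * (α σ)⁻¹ := by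
  have e0 : ((σ * t23 M : alternatingGroup (Fin (M + 4))) : Equiv.Perm (Fin (M + 4))) (i0 M) = j := by
    rw [Subgroup.coe_mul, Equiv.Perm.mul_apply, slng2_t23_i0, h1]
  have e1 : ((σ * t23 M : alternatingGroup (Fin (M + 4))) : Equiv.Perm (Fin (M + 4))) (i1 M) = i := by
    rw [Subgroup.coe_mul, Equiv.Perm.mul_apply, slng2_t23_i1, h0]
  rw [gX_eq' M α β H (σ * t23 M) j i e0 e1 t, map_mul, _root_.mul_inv_rev, ← slng2_flip2_xU, ← H.g3]
  simp only [mul_assoc]

end Gp

end Cfsg.Agent.Lib.Helper1.SLN
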