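import Mathlib
import Cfsg.Agent.Lib.helper17.SLP.Defs

/-!
# Project SLP (designer helper17), row B2 `exists_x_of_commute`: second write (helper8) under the own
name `slpb2_h8_exists_x_of_commute` (exact Skel statement).  Direct route with ordered list products.
-/

set_option autoImplicit false

namespace Cfsg.Agent.Lib.helper17.SLP

open Polynomial

section

variable {G : Type*} [Group G]

/-- the ordered product `∏_{j < N} V j ^ c j` -/
def slpb2h8_P (V : ℕ → G) (N : ℕ) (c : ℕ → ℕ) : G :=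
  ((List.range N).map fun j => V j ^ c j).prod

theorem slpb2h8_P_zero (V : ℕ → G) (c : ℕ → ℕ) : slpb2h8_P V 0 c = 1 := by
  simp [slpb2h8_P]

theorem slpb2h8_P_succ (V : ℕ → G) (N : ℕ) (c : ℕ → ℕ) :
    slpb2h8_P V (N + 1) c = slpb2h8_P V N c * V N ^ c N := by
  simp [slpb2h8_P, List.range_succ]

theorem slpb2h8_P_pad (V : ℕ → G) (N N' : ℕ) (c : ℕ → ℕ) (hN : N ≤ N')
    (h0 : ∀ j, N ≤ j → j < N' → V j ^ c j = 1) : slpb2h8_P V N' c = slpb2h8_P V N c := by
  induction N' with
  | zero =>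
    have : N = 0 := by omega
    subst this; rfl
  | succ n ih =>
    rcases Nat.eq_or_lt_of_le hN with h | h
    · rw [h]
    · rw [slpb2h8_P_succ, ih (by omega) (fun j h1 h2 => h0 j h1 (by omega)),
        h0 n (by omega) (by omega), mul_one]

theorem slpb2h8_P_comm (V : ℕ → G) (N : ℕ) (c : ℕ → ℕ) (g : G) (hg : ∀ j, Commute (V j) g) :
    Commute (slpb2h8_P V N c) g := by
  induction N with
  | zero => rw [slpb2h8_P_zero]; exact Commute.one_left g
  | succ n ih => rw [slpb2h8_P_succ]; exact ih.mul_left ((hg n).pow_left _)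

theorem slpb2h8_P_mul (V : ℕ → G) (hV : ∀ i j, Commute (V i) (V j)) (N : ℕ) (c d : ℕ → ℕ) :
    slpb2h8_P V N c * slpb2h8_P V N d = slpb2h8_P V N (fun j => c j + d j) := by
  induction N with
  | zero => simp [slpb2h8_P_zero]
  | succ n ih =>
    rw [slpb2h8_P_succ, slpb2h8_P_succ, slpb2h8_P_succ, ← ih, pow_add]
    have hc : Commute (slpb2h8_P V n d) (V n ^ c n) :=
      (slpb2h8_P_comm V n d (V n) (fun j => hV j n)).pow_right _
    calc slpb2h8_P V n c * V n ^ c n * (slpb2h8_P V n d * V n ^ d n)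
        = slpb2h8_P V n c * (V n ^ c n * slpb2h8_P V n d) * V n ^ d n := by group
      _ = slpb2h8_P V n c * (slpb2h8_P V n d * V n ^ c n) * V n ^ d n := by rw [hc.eq]
      _ = slpb2h8_P V n c * slpb2h8_P V n d * (V n ^ c n * V n ^ d n) := by group

theorem slpb2h8_P_congr (V : ℕ → G) (N : ℕ) (c d : ℕ → ℕ) (h : ∀ j < N, V j ^ c j = V j ^ d j) :
    slpb2h8_P V N c = slpb2h8_P V N d := by
  unfold slpb2h8_P
  congr 1
  apply List.map_congr_left
  intro j hj
  exact h j (List.mem_range.mp hj)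

theorem slpb2h8_pow_mod (g : G) (p : ℕ) (hg : g ^ p = 1) (a : ℕ) : g ^ (a % p) = g ^ a := by
  conv_rhs => rw [← Nat.div_add_mod a p, pow_add, pow_mul, hg, one_pow, one_mul]

theorem slpb2h8_conj_list (h : G) (L : List G) :
    h * L.prod * h⁻¹ = (L.map fun g => h * g * h⁻¹).prod := by
  induction L with
  | nil => simp
  | cons g L ih =>
    simp only [List.prod_cons, List.map_cons, ← ih]
    group

theorem slpb2h8_P_conj (V : ℕ → G) (T : G) (N : ℕ) (c : ℕ → ℕ) :
    T * slpb2h8_P V N c * T⁻¹ = slpb2h8_P (fun j => T * V j * T⁻¹) N c := by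
  unfold slpb2h8_P
  rw [slpb2h8_conj_list, List.map_map]
  congr 1
  apply List.map_congr_left
  intro j _
  simp only [Function.comp_apply, conj_pow]

theorem slpb2h8_P_shift (V : ℕ → G) (N : ℕ) (c : ℕ → ℕ) :
    slpb2h8_P V (N + 1) c = V 0 ^ c 0 * slpb2h8_P (fun j => V (j + 1)) N (fun j => c (j + 1)) := by
  unfold slpb2h8_P
  rw [List.range_succ_eq_map, List.map_cons, List.prod_cons, List.map_map]
  rfl

theorem slpb2h8_comm (T u : G) (hcomm : ∀ j : ℤ, Commute u (cj T u j)) (i j : ℤ) :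
    Commute (cj T u i) (cj T u j) := by
  have h := hcomm (j - i)
  have e2 : cj T u j = T ^ i * cj T u (j - i) * (T ^ i)⁻¹ := by
    rw [← zpow_neg, conj_cj]; congr 1; ring
  have e1 : cj T u i = T ^ i * u * (T ^ i)⁻¹ := by rw [← zpow_neg]; rfl
  rw [e1, e2]
  exact (Commute.conj_iff (T ^ i)).mpr h

end

section

variable {G : Type*} [Group G] (p : ℕ) [Fact p.Prime] (T u : G)

/-- the word of `f` as an ordered product -/
theorem slpb2h8_pw_eq (f : (ZMod p)[X]) :
    pw p T u 1 f = slpb2h8_P (fun j : ℕ => cj T u (j : ℤ)) (f.natDegree + 1)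
      (fun j => (f.coeff j).val) := by
  unfold pw slpb2h8_P
  simp only [one_mul]

theorem slpb2h8_pw_pad (f : (ZMod p)[X]) (N : ℕ) (hN : f.natDegree + 1 ≤ N) :
    pw p T u 1 f = slpb2h8_P (fun j : ℕ => cj T u (j : ℤ)) N (fun j => (f.coeff j).val) := by
  rw [slpb2h8_pw_eq]
  symm
  apply slpb2h8_P_pad _ _ _ _ hN
  intro j h1 _
  rw [coeff_eq_zero_of_natDegree_lt (by omega), ZMod.val_zero, pow_zero]

variable (hup : u ^ p = 1) (hcomm : ∀ j : ℤ, Commute u (cj T u j))

omit [Fact p.Prime] in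
include hup in
theorem slpb2h8_cj_pow (j : ℤ) : cj T u j ^ p = 1 := by
  rw [← cj_pow, hup]
  simp [cj]

include hup hcomm in
theorem slpb2h8_pw_add (f g : (ZMod p)[X]) : pw p T u 1 (f + g) = pw p T u 1 f * pw p T u 1 g := by
  set N := max f.natDegree g.natDegree + 1 with hN
  have h1 : (f + g).natDegree + 1 ≤ N := by
    have := natDegree_add_le f g
    omega
  rw [slpb2h8_pw_pad p T u (f + g) N h1, slpb2h8_pw_pad p T u f N (by omega),
    slpb2h8_pw_pad p T u g N (by omega),
    slpb2h8_P_mul _ (fun i j => slpb2h8_comm T u hcomm i j)]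
  apply slpb2h8_P_congr
  intro j _
  simp only [coeff_add]
  rw [ZMod.val_add, slpb2h8_pow_mod _ p (slpb2h8_cj_pow p T u hup _)]

theorem slpb2h8_pw_zero : pw p T u 1 (0 : (ZMod p)[X]) = 1 := by
  rw [slpb2h8_pw_eq]
  simp [slpb2h8_P]

theorem slpb2h8_pw_X_mul (f : (ZMod p)[X]) : pw p T u 1 (X * f) = T * pw p T u 1 f * T⁻¹ := by
  have h1 : (X * f).natDegree + 1 ≤ (f.natDegree + 1) + 1 := by
    have := natDegree_mul_le (p := (X : (ZMod p)[X])) (q := f)
    have h2 : (X : (ZMod p)[X]).natDegree ≤ 1 := natDegree_X_le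
    omega
  rw [slpb2h8_pw_pad p T u (X * f) _ h1, slpb2h8_pw_eq, slpb2h8_P_conj, slpb2h8_P_shift]
  simp only [coeff_X_mul_zero, ZMod.val_zero, pow_zero, one_mul, coeff_X_mul]
  apply congrArg (fun V => slpb2h8_P V (f.natDegree + 1) (fun j => (f.coeff j).val))
  funext j
  have := conj_cj T u (j : ℤ) 1
  simp only [zpow_one, zpow_neg] at this
  rw [this]
  congr 1
  push_cast
  ring

include hup hcomm in
theorem slpb2h8_pw_nsmul (f : (ZMod p)[X]) (n : ℕ) : pw p T u 1 (n • f) = pw p T u 1 f ^ n := by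
  induction n with
  | zero => simp [slpb2h8_pw_zero]
  | succ n ih => rw [succ_nsmul, slpb2h8_pw_add p T u hup hcomm, ih, pow_succ]

include hup hcomm in
theorem slpb2h8_ker_mul (f : (ZMod p)[X]) (hf : pw p T u 1 f = 1) (g : (ZMod p)[X]) :
    pw p T u 1 (g * f) = 1 := by
  induction g using Polynomial.induction_on with
  | C a =>
    have : C a * f = a.val • f := by
      rw [nsmul_eq_mul]
      congr 1
      rw [← map_natCast (C : ZMod p →+* (ZMod p)[X]), ZMod.natCast_zmod_val]
    rw [this, slpb2h8_pw_nsmul p T u hup hcomm, hf, one_pow]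
  | add g₁ g₂ h₁ h₂ => rw [add_mul, slpb2h8_pw_add p T u hup hcomm, h₁, h₂, one_mul]
  | monomial n a h =>
    have : C a * X ^ (n + 1) * f = X * (C a * X ^ n * f) := by ring
    rw [this, slpb2h8_pw_X_mul, h]
    group

end

/-- B2, second write: exact Skel statement of `exists_x_of_commute`. -/
theorem slpb2_h8_exists_x_of_commute {G : Type*} [Group G] {F : Type*} [Field F] [Finite F] (p : ℕ) [Fact p.Prime]
    [Algebra (ZMod p) F] (T u : G) (mu : F)
    (hsurj : Function.Surjective (fun f : (ZMod p)[X] => aeval mu f))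
    (hup : u ^ p = 1) (hcomm : ∀ j : ℤ, Commute u (cj T u j))
    (hmin : pw p T u 1 (minpoly (ZMod p) mu) = 1) :
    ∃ x : F → G, (∀ s t, x (s + t) = x s * x t) ∧ (∀ t, T * x t * T⁻¹ = x (mu * t)) ∧
      ∀ f : (ZMod p)[X], x (aeval mu f) = pw p T u 1 f := by
  classical
  have hker : ∀ f : (ZMod p)[X], aeval mu f = 0 → pw p T u 1 f = 1 := by
    intro f hf
    obtain ⟨g, rfl⟩ := minpoly.dvd (ZMod p) mu hf
    rw [mul_comm]
    exact slpb2h8_ker_mul p T u hup hcomm _ hmin g
  have hwd : ∀ f g : (ZMod p)[X], aeval mu f = aeval mu g → pw p T u 1 f = pw p T u 1 g := by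
    intro f g hfg
    have h1 : f = g + (f - g) := by ring
    rw [h1, slpb2h8_pw_add p T u hup hcomm, hker (f - g) (by rw [map_sub, hfg, sub_self]), mul_one]
  refine ⟨fun y => pw p T u 1 (Classical.choose (hsurj y)), ?_, ?_, ?_⟩
  · intro s t
    have hs := Classical.choose_spec (hsurj s)
    have ht := Classical.choose_spec (hsurj t)
    have hst := Classical.choose_spec (hsurj (s + t))
    simp only at hs ht hst
    show pw p T u 1 _ = pw p T u 1 _ * pw p T u 1 _
    rw [← slpb2h8_pw_add p T u hup hcomm]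
    apply hwd
    rw [hst, map_add, hs, ht]
  · intro t
    have ht := Classical.choose_spec (hsurj t)
    have hmt := Classical.choose_spec (hsurj (mu * t))
    simp only at ht hmt
    show T * pw p T u 1 _ * T⁻¹ = pw p T u 1 _
    rw [← slpb2h8_pw_X_mul]
    apply hwd
    rw [hmt, map_mul, aeval_X, ht]
  · intro f
    have hf := Classical.choose_spec (hsurj (aeval mu f))
    simp only at hf
    show pw p T u 1 _ = pw p T u 1 f
    exact hwd _ _ hf

end Cfsg.Agent.Lib.helper17.SLP
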