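import Mathlib
import Cfsg.Agent.Lib.helper17.SLP.Defs
import Cfsg.Agent.Lib.helper8.SLPB2h8

/-!
# Project SLP (designer helper17), row B2 `exists_x_of_commute` (helper8), verbatim
(= `slpb2_h8_exists_x_of_commute`).
-/

set_option autoImplicit false

namespace Cfsg.Agent.Lib.helper17.SLP

open Polynomial

universe u v

/-- B2 [M-L] (LONG POLE)  All `v_j = cj T u j` commute with each other (conjugate `hcomm`), `A := Subgroup.closure (Set.range (cj T u))` is commutative of exponent `p`;
`Ψ f := pw p T u 1 f` is additive in `f` (`(a + b).val ≡ a.val + b.val mod p`; extend the range of the product by zero coefficients) and `Ψ (X * f) = T * Ψ f * T⁻¹`; so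
`{f | Ψ f = 1}` is an ideal containing `minpoly`, hence contains every `f` with `aeval mu f = 0` (`minpoly.dvd`).  Define `x y := Ψ f` for a chosen `f` with `aeval mu f = y` (`hsurj`);
independent of the choice.  (E.g. work in `Additive ↥A` as a `ZMod p`-module, `AddCommGroup.zmodModule`, with `Polynomial.lsum`.) -/
theorem exists_x_of_commute {G : Type*} [Group G] {F : Type*} [Field F] [Finite F] (p : ℕ) [Fact p.Prime]
    [Algebra (ZMod p) F] (T u : G) (mu : F)
    (hsurj : Function.Surjective (fun f : (ZMod p)[X] => aeval mu f))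
    (hup : u ^ p = 1) (hcomm : ∀ j : ℤ, Commute u (cj T u j))
    (hmin : pw p T u 1 (minpoly (ZMod p) mu) = 1) :
    ∃ x : F → G, (∀ s t, x (s + t) = x s * x t) ∧ (∀ t, T * x t * T⁻¹ = x (mu * t)) ∧
      ∀ f : (ZMod p)[X], x (aeval mu f) = pw p T u 1 f :=
  slpb2_h8_exists_x_of_commute p T u mu hsurj hup hcomm hmin

end Cfsg.Agent.Lib.helper17.SLP
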