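import Mathlib
import Cfsg.Agent.Lib.helper17.SLP.Defs

/-!
# Project SLP (designer helper17), row B5 `exists_x_R`: the core (helper8).
`slpb5_core`: from the output of B2 for `T = h ^ l` to the conclusion of B5.
-/

set_option autoImplicit false

namespace Cfsg.Agent.Lib.helper17.SLP

open Polynomial

section

variable {G : Type*} [Group G] {F : Type*} [Field F]

/-- an additive map `x : F → G` as a monoid homomorphism -/
def slpb5_hom (x : F → G) (hadd : ∀ s t, x (s + t) = x s * x t) : Multiplicative F →* G where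
  toFun a := x a.toAdd
  map_one' := by
    have h := hadd 0 0
    rw [add_zero] at h
    have : x 0 * 1 = x 0 * x 0 := by rw [mul_one]; exact h
    exact (mul_left_cancel this).symm
  map_mul' a b := by simpa using hadd a.toAdd b.toAdd

theorem slpb5_zero (x : F → G) (hadd : ∀ s t, x (s + t) = x s * x t) : x 0 = 1 :=
  (slpb5_hom x hadd).map_one

theorem slpb5_nsmul (x : F → G) (hadd : ∀ s t, x (s + t) = x s * x t) (n : ℕ) (s : F) :
    x ((n : F) * s) = x s ^ n := by
  induction n with
  | zero => simp [slpb5_zero x hadd]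
  | succ n ih =>
    rw [Nat.cast_succ, add_mul, one_mul, hadd, ih, pow_succ]

theorem slpb5_list_sum (x : F → G) (hadd : ∀ s t, x (s + t) = x s * x t) (L : List ℕ) (a : ℕ → F) :
    x ((L.map a).sum) = (L.map fun j => x (a j)).prod := by
  induction L with
  | nil => simp [slpb5_zero x hadd]
  | cons j L ih => simp only [List.map_cons, List.sum_cons, List.prod_cons, hadd, ih]

theorem slpb5_conj_list (h : G) (L : List G) : h * L.prod * h⁻¹ = (L.map fun g => h * g * h⁻¹).prod := by
  induction L with
  | nil => simp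
  | cons g L ih =>
    simp only [List.prod_cons, List.map_cons, ← ih]
    group

theorem slpb5_T_pow (x : F → G) (T : G) (mu : F) (hT : ∀ t, T * x t * T⁻¹ = x (mu * t)) (j : ℕ) (t : F) :
    T ^ j * x t * (T ^ j)⁻¹ = x (mu ^ j * t) := by
  induction j generalizing t with
  | zero => simp
  | succ j ih =>
    have : T ^ (j + 1) * x t * (T ^ (j + 1))⁻¹ = T ^ j * (T * x t * T⁻¹) * (T ^ j)⁻¹ := by
      rw [pow_succ]; group
    rw [this, hT, ih, pow_succ]
    congr 1
    ring

end

theorem slpb5_range_sum {M : Type*} [AddCommMonoid M] (g : ℕ → M) (n : ℕ) :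
    ∑ i ∈ Finset.range n, g i = ((List.range n).map g).sum := by
  induction n with
  | zero => simp
  | succ n ih =>
    rw [Finset.sum_range_succ, List.range_succ, List.map_append, List.sum_append, ih]
    simp

theorem slpb5_algebraMap {F : Type*} [Field F] (p : ℕ) [Fact p.Prime] [Algebra (ZMod p) F]
    (c : ZMod p) : algebraMap (ZMod p) F c = ((c.val : ℕ) : F) := by
  conv_lhs => rw [← ZMod.natCast_zmod_val c]
  rw [map_natCast]

/-- the value of `aeval` as a list sum with natural number coefficients -/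
theorem slpb5_aeval {F : Type*} [Field F] (p : ℕ) [Fact p.Prime] [Algebra (ZMod p) F] (mu : F)
    (f : (ZMod p)[X]) :
    aeval mu f = ((List.range (f.natDegree + 1)).map fun j : ℕ =>
      (((f.coeff j).val : ℕ) : F) * mu ^ j).sum := by
  rw [aeval_eq_sum_range, slpb5_range_sum]
  congr 1
  apply List.map_congr_left
  intro j _
  rw [Algebra.smul_def, slpb5_algebraMap]

/-- B5 core: from the `x` of B2 for `T = h ^ l` to the conclusion of B5. -/
theorem slpb5_core {G : Type*} [Group G] {F : Type*} [Field F] (p : ℕ) [Fact p.Prime]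
    [Algebra (ZMod p) F] (u h : G) (l : ℤ) (lam mu : F) (fl : (ZMod p)[X]) (hfl : aeval mu fl = lam)
    (hsurj : Function.Surjective (fun f : (ZMod p)[X] => aeval mu f))
    (a5 : cj h u 1 = pw p h u l fl) (x : F → G)
    (hadd : ∀ s t, x (s + t) = x s * x t)
    (hT : ∀ t, h ^ l * x t * (h ^ l)⁻¹ = x (mu * t))
    (hpw : ∀ f : (ZMod p)[X], x (aeval mu f) = pw p h u l f) :
    (∀ s t, x (s + t) = x s * x t) ∧ (∀ t, h * x t * h⁻¹ = x (lam * t)) ∧ x 1 = u ∧
      ∀ f : (ZMod p)[X], x (aeval mu f) = pw p h u l f := by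
  have hp1 : Fact (1 < p) := ⟨(Fact.out : p.Prime).one_lt⟩
  refine ⟨hadd, ?_, ?_, hpw⟩
  · intro t
    obtain ⟨f, hf⟩ := hsurj t
    have hf' : aeval mu f = t := hf
    have hxlam : cj h u 1 = x lam := by rw [a5, ← hpw, hfl]
    -- the terms
    have hterm : ∀ j : ℕ, h * cj h u (l * (j : ℤ)) * h⁻¹ = x (mu ^ j * lam) := by
      intro j
      have e1 : h * cj h u (l * (j : ℤ)) * h⁻¹ = cj h u (1 + l * (j : ℤ)) := by
        have := conj_cj h u (l * (j : ℤ)) 1
        simpa using this
      have e2 : cj h u (1 + l * (j : ℤ)) = (h ^ l) ^ j * cj h u 1 * ((h ^ l) ^ j)⁻¹ := by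
        have := conj_cj h u 1 (l * (j : ℤ))
        rw [add_comm, ← this, zpow_neg, zpow_mul, zpow_natCast]
      rw [e1, e2, hxlam, slpb5_T_pow x (h ^ l) mu hT]
    rw [← hf', hpw, pw, slpb5_conj_list, List.map_map]
    have hsum : lam * aeval mu f = ((List.range (f.natDegree + 1)).map fun j : ℕ =>
        (((f.coeff j).val : ℕ) : F) * (mu ^ j * lam)).sum := by
      rw [slpb5_aeval, ← List.sum_map_mul_left]
      congr 1
      apply List.map_congr_left
      intro j _
      ring
    rw [hsum, slpb5_list_sum x hadd]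
    congr 1
    apply List.map_congr_left
    intro j _
    simp only [Function.comp_apply]
    rw [slpb5_nsmul x hadd, ← hterm j, conj_pow]
  · have h1 : aeval mu (1 : (ZMod p)[X]) = (1 : F) := by simp
    rw [← h1, hpw, pw]
    simp [cj_zero, ZMod.val_one]

end Cfsg.Agent.Lib.helper17.SLP
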