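import Mathlib
import Cfsg.Agent.Lib.helper8.SylowBasic
import Cfsg.Agent.Lib.helper8.SubgroupCard

set_option autoImplicit false

namespace Cfsg.Agent.Lib.helper8

open Subgroup

theorem h8_mem_smul_sylow {G : Type*} [Group G] (p : ℕ) (g x : G) (P : Sylow p G) :
    x ∈ ((g • P : Sylow p G) : Subgroup G) ↔ g⁻¹ * x * g ∈ (P : Subgroup G) := by
  rw [Sylow.coe_subgroup_smul, Subgroup.mem_pointwise_smul_iff_inv_smul_mem, MulAut.smul_def,
    MulAut.conj_inv_apply]

theorem h8_sylow_conj_in_subgroup {G : Type*} [Group G] [Finite G] (p : ℕ) [hp : Fact p.Prime]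
    (N : Subgroup G) (S : Sylow p G) (hS : (S : Subgroup G) ≤ N) (H : Subgroup G)
    (hH : IsPGroup p H) (hHN : H ≤ N) :
    ∃ n ∈ N, ∀ h ∈ H, n * h * n⁻¹ ∈ (S : Subgroup G) := by
  have hH' : IsPGroup p (H.subgroupOf N) := hH.comap_subtype
  obtain ⟨Q, hQ⟩ := hH'.exists_le_sylow
  obtain ⟨n, hn⟩ := MulAction.exists_smul_eq N Q (S.subtype hS)
  refine ⟨n.1, n.2, fun h hh => ?_⟩
  have h1 : (⟨h, hHN hh⟩ : N) ∈ (Q : Subgroup N) := hQ (by
    rw [Subgroup.mem_subgroupOf]; exact hh)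
  have h2 : n * ⟨h, hHN hh⟩ * n⁻¹ ∈ ((n • Q : Sylow p N) : Subgroup N) := by
    rw [h8_mem_smul_sylow]
    have : n⁻¹ * (n * ⟨h, hHN hh⟩ * n⁻¹) * n = ⟨h, hHN hh⟩ := by group
    rw [this]; exact h1
  rw [hn, Sylow.coe_subtype, Subgroup.mem_subgroupOf] at h2
  exact h2

end Cfsg.Agent.Lib.helper8

namespace Cfsg.Agent.Lib.helper8

open Subgroup

theorem h8_exists_normalizer_not_mem {G : Type*} [Group G] [Finite G] (p : ℕ) [hp : Fact p.Prime]
    (P D : Subgroup G) (hP : IsPGroup p P) (hDP : D ≤ P) (hne : D ≠ P) :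
    ∃ x ∈ P, x ∈ normalizer (D : Set G) ∧ x ∉ D := by
  haveI : Group.IsNilpotent P := hP.isNilpotent
  have hnc : NormalizerCondition P := Group.normalizerCondition_of_isNilpotent
  have hlt : D.subgroupOf P < ⊤ := by
    rw [lt_top_iff_ne_top]
    intro h
    rw [Subgroup.subgroupOf_eq_top] at h
    exact hne (le_antisymm hDP h)
  have h1 := hnc _ hlt
  rw [← Subgroup.subgroupOf_normalizer_eq hDP] at h1
  obtain ⟨x, hx1, hx2⟩ := SetLike.exists_of_lt h1
  exact ⟨x.1, x.2, Subgroup.mem_subgroupOf.mp hx1, fun h => hx2 (Subgroup.mem_subgroupOf.mpr h)⟩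

theorem h8_card_lt_of_lt {G : Type*} [Group G] [Finite G] (H K : Subgroup G) (hle : H ≤ K)
    (x : G) (hxK : x ∈ K) (hxH : x ∉ H) : Nat.card H < Nat.card K := by
  rcases Nat.lt_or_ge (Nat.card H) (Nat.card K) with h | h
  · exact h
  · exfalso
    have := Subgroup.eq_of_le_of_card_ge hle h
    exact hxH (this ▸ hxK)

theorem h8_sylow_card_eq {G : Type*} [Group G] [Finite G] (p : ℕ) [hp : Fact p.Prime]
    (S T : Sylow p G) : Nat.card (S : Subgroup G) = Nat.card (T : Subgroup G) := by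
  rw [S.card_eq_multiplicity, T.card_eq_multiplicity]

end Cfsg.Agent.Lib.helper8

namespace Cfsg.Agent.Lib.helper8

open Subgroup

theorem h8_zpowers_eq_of_prime_card {G : Type*} [Group G] [Finite G] (p : ℕ) (hp : p.Prime)
    (P : Subgroup G) (hP : Nat.card P = p) (u : G) (hu : u ∈ P) (hu1 : u ≠ 1) : zpowers u = P := by
  apply Subgroup.eq_of_le_of_card_ge
  · rw [zpowers_le]; exact hu
  · rw [Nat.card_zpowers, hP]
    have h1 : orderOf u ∣ p := by
      rw [← hP]; exact Subgroup.orderOf_dvd_natCard _ hu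
    rcases (Nat.dvd_prime hp).mp h1 with h | h
    · exact absurd (orderOf_eq_one_iff.mp h) hu1
    · rw [h]

theorem h8_le_sylow_of_le_normalizer {G : Type*} [Group G] [Finite G] (p : ℕ) [hp : Fact p.Prime]
    (P : Sylow p G) (H : Subgroup G) (hH : IsPGroup p H)
    (hHN : H ≤ normalizer ((P : Subgroup G) : Set G)) : H ≤ (P : Subgroup G) := by
  have h1 : IsPGroup p (H ⊔ (P : Subgroup G) : Subgroup G) := hH.to_sup_of_normal_right' P.2 hHN
  have h2 := P.3 h1 le_sup_right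
  rw [← h2]
  exact le_sup_left

theorem h8_mem_sylow_of_mem_normalizer {G : Type*} [Group G] [Finite G] (p : ℕ) [hp : Fact p.Prime]
    (P : Sylow p G) (x : G) (k : ℕ) (hx : orderOf x = p ^ k)
    (hxN : x ∈ normalizer ((P : Subgroup G) : Set G)) : x ∈ (P : Subgroup G) := by
  have h1 : IsPGroup p (zpowers x) := by
    apply IsPGroup.of_card (n := k)
    rw [Nat.card_zpowers, hx]
  have h2 : zpowers x ≤ normalizer ((P : Subgroup G) : Set G) := by
    rw [zpowers_le]; exact hxN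
  exact h8_le_sylow_of_le_normalizer p P _ h1 h2 (mem_zpowers x)

theorem h8_mem_normalizer_of_conj_le {G : Type*} [Group G] [Finite G] (p : ℕ) [hp : Fact p.Prime]
    (P : Sylow p G) (g : G) (h : ∀ x ∈ (P : Subgroup G), g⁻¹ * x * g ∈ (P : Subgroup G)) :
    g ∈ normalizer ((P : Subgroup G) : Set G) := by
  have h1 : (P : Subgroup G) ≤ ((g • P : Sylow p G) : Subgroup G) := by
    intro x hx
    rw [h8_mem_smul_sylow]
    exact h x hx
  have h2 := h8_sylow_eq_of_le p P (g • P) h1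
  exact Sylow.smul_eq_iff_mem_normalizer.mp h2.symm

end Cfsg.Agent.Lib.helper8

namespace Cfsg.Agent.Lib.helper8

theorem h8_orderOf_conj {G : Type*} [Group G] (g x : G) : orderOf (g⁻¹ * x * g) = orderOf x := by
  have h : SemiconjBy g⁻¹ x (g⁻¹ * x * g) := by
    unfold SemiconjBy
    group
  exact (h.orderOf_eq).symm

end Cfsg.Agent.Lib.helper8
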