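import Mathlib
import Cfsg.Agent.Lib.helper8.SylowBasic
import Cfsg.Agent.S1018

set_option autoImplicit false

namespace Cfsg.Agent.Lib.helper8

open MulAction

theorem h8_card_orbits_sylow_prime {G : Type*} [Group G] [Finite G] (p : ℕ) [hp : Fact p.Prime]
    (P : Sylow p G) (hP : Nat.card ↥(P : Subgroup G) = p) :
    Nat.card (MulAction.orbitRel.Quotient ↥(P : Subgroup G)
        (G ⧸ Subgroup.normalizer ((P : Subgroup G) : Set G))) * p =
      Nat.card (Sylow p G) + (p - 1) := by
  classical
  haveI : Fintype ↥(P : Subgroup G) := Fintype.ofFinite _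
  haveI : Fintype (G ⧸ Subgroup.normalizer ((P : Subgroup G) : Set G)) := Fintype.ofFinite _
  haveI : Fintype (Quotient (MulAction.orbitRel ↥(P : Subgroup G)
        (G ⧸ Subgroup.normalizer ((P : Subgroup G) : Set G)))) := Fintype.ofFinite _
  have hB := MulAction.sum_card_fixedBy_eq_card_orbits_mul_card_group ↥(P : Subgroup G)
    (G ⧸ Subgroup.normalizer ((P : Subgroup G) : Set G))
  rw [Nat.card_eq_fintype_card (α := MulAction.orbitRel.Quotient ↥(P : Subgroup G)
        (G ⧸ Subgroup.normalizer ((P : Subgroup G) : Set G)))]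
  have hPc : Fintype.card ↥(P : Subgroup G) = p := by rw [← Nat.card_eq_fintype_card]; exact hP
  rw [hPc] at hB
  unfold MulAction.orbitRel.Quotient
  rw [← hB]
  rw [← Finset.add_sum_erase Finset.univ _ (Finset.mem_univ (1 : ↥(P : Subgroup G)))]
  have h1 : Fintype.card (MulAction.fixedBy (G ⧸ Subgroup.normalizer ((P : Subgroup G) : Set G))
      (1 : ↥(P : Subgroup G))) = Nat.card (Sylow p G) := by
    rw [P.card_eq_card_quotient_normalizer, Nat.card_eq_fintype_card]
    apply Fintype.card_congr
    exact (Equiv.subtypeUnivEquiv (fun x => by simp [MulAction.mem_fixedBy]))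
  rw [h1]
  congr 1
  have h2 : ∀ u ∈ (Finset.univ : Finset ↥(P : Subgroup G)).erase 1,
      Fintype.card (MulAction.fixedBy (G ⧸ Subgroup.normalizer ((P : Subgroup G) : Set G)) u) = 1 := by
    intro u hu
    have hu1 : u ≠ 1 := (Finset.mem_erase.mp hu).1
    have hord : orderOf (u : G) = p := by
      have h3 : orderOf (u : G) ∣ p := by
        have := Subgroup.orderOf_dvd_natCard (P : Subgroup G) u.2
        rwa [hP] at this
      rcases (Nat.dvd_prime hp.out).mp h3 with h | h
      · exfalso; apply hu1
        have := orderOf_eq_one_iff.mp h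
        exact Subtype.ext this
      · exact h
    have := Cfsg.Agent.S1018.part_a p P hP (u : G) hord
    rw [Nat.card_eq_fintype_card] at this
    rw [← this]
    apply Fintype.card_congr
    exact Equiv.subtypeEquivRight (fun x => by
      rw [MulAction.mem_fixedBy, MulAction.mem_fixedBy]
      exact Iff.rfl)
  rw [Finset.sum_congr rfl h2]
  simp [hPc]

end Cfsg.Agent.Lib.helper8
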