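import Mathlib
import Cfsg.Agent.Lib.helper8.SylowBasic

set_option autoImplicit false

namespace Cfsg.Agent.Lib.helper8

open Equiv Equiv.Perm

theorem h8_sign_of_sq_eq_one {α : Type*} [Fintype α] [DecidableEq α] (σ : Perm α) (h : σ ^ 2 = 1) :
    sign σ = (-1) ^ (σ.support.card / 2) := by
  by_cases h1 : σ = 1
  · subst h1; simp
  · have ho : orderOf σ = 2 := orderOf_eq_prime h h1
    have hp : (orderOf σ).Prime := by rw [ho]; norm_num
    obtain ⟨n, hn⟩ := cycleType_prime_order hp
    rw [ho] at hn
    rw [sign_of_cycleType, ← sum_cycleType, hn]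
    simp only [Multiset.sum_replicate, Multiset.card_replicate, smul_eq_mul]
    have e1 : (n + 1) * 2 / 2 = n + 1 := by omega
    rw [e1]
    have e2 : (n + 1) * 2 + (n + 1) = 2 * (n + 1) + (n + 1) := by ring
    rw [e2, pow_add, pow_mul]
    simp

theorem h8_simple_sign_toPerm {G X : Type*} [Group G] [IsSimpleGroup G]
    (hG : ¬ IsMulCommutative G) [MulAction G X] [Fintype X] [DecidableEq X] (g : G) :
    sign (MulAction.toPerm g : Perm X) = 1 := by
  let ψ : G →* ℤˣ := sign.comp (MulAction.toPermHom G X)
  rcases IsSimpleGroup.eq_bot_or_eq_top_of_normal ψ.ker inferInstance with h | h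
  · exfalso
    apply hG
    have hψ : Function.Injective ψ := (MonoidHom.ker_eq_bot_iff ψ).mp h
    refine ⟨⟨fun a b => ?_⟩⟩
    apply hψ
    rw [map_mul, map_mul, mul_comm]
  · have : g ∈ ψ.ker := by rw [h]; trivial
    exact this

theorem h8_simple_involution_fixed {G X : Type*} [Group G] [IsSimpleGroup G]
    (hG : ¬ IsMulCommutative G) [MulAction G X] [Finite X] (t : G) (ht : t ^ 2 = 1) :
    4 ∣ Nat.card X - Nat.card (MulAction.fixedBy X t) := by
  classical
  haveI : Fintype X := Fintype.ofFinite X
  have h1 := h8_simple_sign_toPerm (X := X) hG t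
  have h2 : (MulAction.toPerm t : Perm X) ^ 2 = 1 := by
    have : (MulAction.toPermHom G X) (t ^ 2) = 1 := by rw [ht, map_one]
    rw [map_pow] at this
    exact this
  rw [h8_sign_of_sq_eq_one _ h2] at h1
  have h3 : Even ((MulAction.toPerm t : Perm X).support.card / 2) := by
    by_contra hodd
    rw [Nat.not_even_iff_odd] at hodd
    rw [hodd.neg_one_pow] at h1
    exact absurd h1 (by decide)
  have h4 : Even (MulAction.toPerm t : Perm X).support.card := by
    have h5 : (MulAction.toPerm t : Perm X).support.card =
        (MulAction.toPerm t : Perm X).cycleType.sum := (sum_cycleType _).symm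
    by_cases h6 : (MulAction.toPerm t : Perm X) = 1
    · rw [h6]; simp
    · have ho : orderOf (MulAction.toPerm t : Perm X) = 2 := orderOf_eq_prime h2 h6
      have hp : (orderOf (MulAction.toPerm t : Perm X)).Prime := by rw [ho]; norm_num
      obtain ⟨n, hn⟩ := cycleType_prime_order hp
      rw [h5, hn, ho]
      simp only [Multiset.sum_replicate, smul_eq_mul]
      exact ⟨n + 1, by ring⟩
  have h5 : Nat.card X - Nat.card (MulAction.fixedBy X t) =
      (MulAction.toPerm t : Perm X).support.card := by
    have h6 : Nat.card (MulAction.fixedBy X t) =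
        Fintype.card (Function.fixedPoints (MulAction.toPerm t : Perm X)) := by
      rw [Nat.card_eq_fintype_card]
      apply Fintype.card_congr
      exact Equiv.subtypeEquivRight (fun x => by
        simp [MulAction.mem_fixedBy, Function.mem_fixedPoints, Function.IsFixedPt])
    rw [h6, card_fixedPoints, sum_cycleType, Nat.card_eq_fintype_card]
    have := (MulAction.toPerm t : Perm X).support.card_le_univ
    omega
  rw [h5]
  obtain ⟨a, ha⟩ := h3
  obtain ⟨b, hb⟩ := h4
  exact ⟨a, by omega⟩

end Cfsg.Agent.Lib.helper8
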