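import Mathlib

set_option autoImplicit false

namespace Cfsg.Agent.Lib.helper8

open Matrix

variable {F : Type*} [Field F]

/-- upper unitriangular matrix -/
def h8slU (t : F) : SpecialLinearGroup (Fin 2) F :=
  ⟨!![1, t; 0, 1], by simp [Matrix.det_fin_two]⟩

/-- lower unitriangular matrix -/
def h8slL (t : F) : SpecialLinearGroup (Fin 2) F :=
  ⟨!![1, 0; t, 1], by simp [Matrix.det_fin_two]⟩

/-- the Weyl element -/
def h8slW : SpecialLinearGroup (Fin 2) F :=
  ⟨!![0, 1; -1, 0], by simp [Matrix.det_fin_two]⟩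

/-- diagonal matrix -/
def h8slD' (t : F) (ht : t ≠ 0) : SpecialLinearGroup (Fin 2) F :=
  ⟨!![t, 0; 0, t⁻¹], by simp [Matrix.det_fin_two, mul_inv_cancel₀ ht]⟩

/-- diagonal matrix (the identity for `t = 0`) -/
noncomputable def h8slD (t : F) : SpecialLinearGroup (Fin 2) F :=
  open Classical in
  if ht : t = 0 then 1 else h8slD' t ht

theorem h8slU_val (t : F) : (h8slU t : Matrix (Fin 2) (Fin 2) F) = !![1, t; 0, 1] := rfl

theorem h8slL_val (t : F) : (h8slL t : Matrix (Fin 2) (Fin 2) F) = !![1, 0; t, 1] := rfl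

theorem h8slW_val : ((h8slW : SpecialLinearGroup (Fin 2) F) : Matrix (Fin 2) (Fin 2) F) =
    !![0, 1; -1, 0] := rfl

theorem h8slD_val (t : F) (ht : t ≠ 0) :
    (h8slD t : Matrix (Fin 2) (Fin 2) F) = !![t, 0; 0, t⁻¹] := by
  unfold h8slD
  rw [dif_neg ht]
  rfl

theorem h8sl_ext (g g' : SpecialLinearGroup (Fin 2) F) (h00 : g 0 0 = g' 0 0)
    (h01 : g 0 1 = g' 0 1) (h10 : g 1 0 = g' 1 0) (h11 : g 1 1 = g' 1 1) : g = g' := by
  apply Subtype.ext
  ext i j
  fin_cases i <;> fin_cases j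
  · exact h00
  · exact h01
  · exact h10
  · exact h11

theorem h8sl_det (g : SpecialLinearGroup (Fin 2) F) : g 0 0 * g 1 1 - g 0 1 * g 1 0 = 1 := by
  rw [← Matrix.det_fin_two]
  exact g.2

/-- Bruhat decomposition in `SL₂` -/
theorem h8sl_decomp (g : SpecialLinearGroup (Fin 2) F) :
    (g 1 0 = 0 ∧ g 0 0 ≠ 0 ∧ g = h8slU (g 0 0 * g 0 1) * h8slD (g 0 0)) ∨
    (g 1 0 ≠ 0 ∧ g = h8slU (g 0 0 / g 1 0) * (h8slW * (h8slD (-(g 1 0)) * h8slU (g 1 1 / g 1 0)))) := by
  have hd := h8sl_det g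
  by_cases hc : g 1 0 = 0
  · left
    have ha : g 0 0 ≠ 0 := by
      intro h0
      rw [h0, hc] at hd
      simp at hd
    refine ⟨hc, ha, ?_⟩
    rw [hc, mul_zero, sub_zero] at hd
    have hdd : g 1 1 = (g 0 0)⁻¹ := eq_inv_of_mul_eq_one_right hd
    apply h8sl_ext
    · simp [h8slU_val, h8slD_val _ ha, Matrix.mul_apply]
    · simp [h8slU_val, h8slD_val _ ha, Matrix.mul_apply]
      field_simp
    · simp [h8slU_val, h8slD_val _ ha, Matrix.mul_apply, hc]
    · simp [h8slU_val, h8slD_val _ ha, Matrix.mul_apply, hdd]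
  · right
    refine ⟨hc, ?_⟩
    have hnc : -(g 1 0) ≠ 0 := neg_ne_zero.mpr hc
    apply h8sl_ext
    · simp [h8slU_val, h8slD_val _ hnc, h8slW_val, Matrix.mul_apply]
      field_simp
    · simp [h8slU_val, h8slD_val _ hnc, h8slW_val, Matrix.mul_apply]
      field_simp
      linear_combination (-1 : F) * hd
    · simp [h8slU_val, h8slD_val _ hnc, h8slW_val, Matrix.mul_apply]
    · simp [h8slU_val, h8slD_val _ hnc, h8slW_val, Matrix.mul_apply]
      field_simp

theorem h8slW_eq : (h8slW : SpecialLinearGroup (Fin 2) F) = h8slU 1 * h8slL (-1) * h8slU 1 := by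
  apply h8sl_ext <;>
    simp [h8slU_val, h8slL_val, h8slW_val, Matrix.mul_apply]

theorem h8slD_eq (t : F) (ht : t ≠ 0) :
    h8slD t * h8slW = h8slU t * h8slL (-t⁻¹) * h8slU t := by
  apply h8sl_ext <;>
    simp [h8slU_val, h8slL_val, h8slW_val, h8slD_val _ ht, Matrix.mul_apply, ht]

/-- `SL₂` is generated by the elementary matrices -/
theorem h8sl_gen (K : Subgroup (SpecialLinearGroup (Fin 2) F)) (hU : ∀ t, h8slU t ∈ K)
    (hL : ∀ t, h8slL t ∈ K) (g : SpecialLinearGroup (Fin 2) F) : g ∈ K := by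
  have hW : (h8slW : SpecialLinearGroup (Fin 2) F) ∈ K := by
    rw [h8slW_eq]
    exact K.mul_mem (K.mul_mem (hU _) (hL _)) (hU _)
  have hD : ∀ t : F, t ≠ 0 → h8slD t ∈ K := by
    intro t ht
    have h1 := h8slD_eq t ht
    have h2 : h8slD t = h8slU t * h8slL (-t⁻¹) * h8slU t * h8slW⁻¹ := by
      rw [← h1, mul_inv_cancel_right]
    rw [h2]
    exact K.mul_mem (K.mul_mem (K.mul_mem (hU _) (hL _)) (hU _)) (K.inv_mem hW)
  rcases h8sl_decomp g with ⟨_, ha, e⟩ | ⟨hc, e⟩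
  · rw [e]
    exact K.mul_mem (hU _) (hD _ ha)
  · rw [e]
    exact K.mul_mem (hU _) (K.mul_mem hW (K.mul_mem (hD _ (neg_ne_zero.mpr hc)) (hU _)))

theorem h8slU_map (θ : F →+* F) (t : F) :
    SpecialLinearGroup.map θ (h8slU t) = h8slU (θ t) := by
  apply h8sl_ext <;> simp [h8slU_val, SpecialLinearGroup.map_apply_coe, RingHom.mapMatrix_apply]

theorem h8slL_map (θ : F →+* F) (t : F) :
    SpecialLinearGroup.map θ (h8slL t) = h8slL (θ t) := by
  apply h8sl_ext <;> simp [h8slL_val, SpecialLinearGroup.map_apply_coe, RingHom.mapMatrix_apply]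

theorem h8slW_map (θ : F →+* F) :
    SpecialLinearGroup.map θ (h8slW : SpecialLinearGroup (Fin 2) F) = h8slW := by
  apply h8sl_ext <;> simp [h8slW_val, SpecialLinearGroup.map_apply_coe, RingHom.mapMatrix_apply]

theorem h8slD_map (θ : F →+* F) (t : F) (ht : t ≠ 0) :
    SpecialLinearGroup.map θ (h8slD t) = h8slD (θ t) := by
  have ht' : θ t ≠ 0 := (map_ne_zero θ).mpr ht
  apply h8sl_ext <;>
    simp [h8slD_val _ ht, h8slD_val _ ht', SpecialLinearGroup.map_apply_coe,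
      RingHom.mapMatrix_apply]

theorem h8slU_add (s t : F) : h8slU (s + t) = h8slU s * h8slU t := by
  apply h8sl_ext <;> simp [h8slU_val, Matrix.mul_apply, add_comm]

theorem h8slU_zero : h8slU (0 : F) = 1 := by
  apply h8sl_ext <;> simp [h8slU_val]

theorem h8slD_neg_one : h8slD (-1 : F) = -1 := by
  apply h8sl_ext <;>
    simp [h8slD_val _ (neg_ne_zero.mpr (one_ne_zero (α := F))), inv_neg]

theorem h8slD_one : h8slD (1 : F) = 1 := by
  apply h8sl_ext <;> simp [h8slD_val _ (one_ne_zero (α := F))]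

theorem h8slD_mul (s t : F) (hs : s ≠ 0) (ht : t ≠ 0) : h8slD (s * t) = h8slD s * h8slD t := by
  apply h8sl_ext <;>
    simp [h8slD_val _ hs, h8slD_val _ ht, h8slD_val _ (mul_ne_zero hs ht), Matrix.mul_apply,
      mul_comm]

theorem h8slWL (t : F) : h8slW * h8slL t = h8slU (-t) * h8slW := by
  apply h8sl_ext <;>
    simp [h8slU_val, h8slL_val, h8slW_val, Matrix.mul_apply]

theorem h8slL_eq (t : F) : h8slL t = h8slW⁻¹ * h8slU (-t) * h8slW := by
  rw [mul_assoc, ← h8slWL, inv_mul_cancel_left]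

end Cfsg.Agent.Lib.helper8
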