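import Mathlib

set_option autoImplicit false
set_option linter.unusedSectionVars false

namespace Cfsg.Agent.Lib.helper8

theorem h8card_GL_eq_card_SL_mul {F : Type*} [Field F] [Fintype F] (n : ℕ) (hn : 1 ≤ n) :
    Nat.card (GL (Fin n) F) = Nat.card (Matrix.SpecialLinearGroup (Fin n) F) * Nat.card Fˣ := by
  classical
  have : Nonempty (Fin n) := ⟨⟨0, by omega⟩⟩
  have hsurj : Function.Surjective (Matrix.GeneralLinearGroup.det : GL (Fin n) F →* Fˣ) :=
    Matrix.GeneralLinearGroup.det_surjective
  have hker : Nat.card (Matrix.GeneralLinearGroup.det : GL (Fin n) F →* Fˣ).ker =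
      Nat.card (Matrix.SpecialLinearGroup (Fin n) F) := by
    have h2 : ((Matrix.GeneralLinearGroup.det : GL (Fin n) F →* Fˣ).ker : Set (GL (Fin n) F)) =
        Set.range (Matrix.SpecialLinearGroup.toGL :
          Matrix.SpecialLinearGroup (Fin n) F → GL (Fin n) F) := by
      rw [Matrix.SpecialLinearGroup.range_toGL]
      ext x
      simp [MonoidHom.mem_ker]
    have h3 : Nat.card ((Matrix.GeneralLinearGroup.det : GL (Fin n) F →* Fˣ).ker :
        Set (GL (Fin n) F)) = Nat.card (Matrix.SpecialLinearGroup (Fin n) F) := by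
      rw [h2]
      exact Nat.card_range_of_injective Matrix.SpecialLinearGroup.toGL_injective
    exact h3
  have h1 := Subgroup.card_mul_index (Matrix.GeneralLinearGroup.det : GL (Fin n) F →* Fˣ).ker
  rw [Subgroup.index_ker, MonoidHom.range_eq_top.mpr hsurj, hker, Subgroup.card_top] at h1
  exact h1.symm

/-- `|SL₂(q)| = q (q² - 1)` -/
theorem h8card_sl2 {F : Type*} [Field F] [Fintype F] :
    Nat.card (Matrix.SpecialLinearGroup (Fin 2) F) =
      Fintype.card F * (Fintype.card F ^ 2 - 1) := by
  classical
  have h1 := h8card_GL_eq_card_SL_mul (F := F) 2 (by norm_num)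
  have h2 := Matrix.card_GL_field (𝔽 := F) 2
  rw [h2, Fin.prod_univ_two] at h1
  simp only [Fin.val_zero, Fin.val_one, pow_zero, pow_one] at h1
  have hq : 1 < Fintype.card F := Fintype.one_lt_card
  have hu : Nat.card Fˣ = Fintype.card F - 1 := by
    rw [Nat.card_eq_fintype_card, Fintype.card_units]
  rw [hu] at h1
  have h3 : Fintype.card F ^ 2 - Fintype.card F = Fintype.card F * (Fintype.card F - 1) := by
    rw [Nat.mul_sub, mul_one, sq]
  rw [h3] at h1
  have hpos : 0 < Fintype.card F - 1 := by omega
  apply Nat.eq_of_mul_eq_mul_right hpos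
  rw [← h1]
  ring

/-- the size of a conjugacy class is the index of the centralizer -/
theorem h8card_carrier_eq_index {G : Type*} [Group G] (g : G) :
    Nat.card (ConjClasses.mk g).carrier = (Subgroup.centralizer ({g} : Set G)).index := by
  have h1 : (Subgroup.centralizer ({g} : Set G)).index =
      (MulAction.stabilizer (ConjAct G) g).index := by
    rw [Subgroup.centralizer_eq_comap_stabilizer]
    exact Subgroup.index_comap_of_surjective (MulAction.stabilizer (ConjAct G) g)
      (f := (ConjAct.toConjAct (G := G)).toMonoidHom) ConjAct.toConjAct.surjective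
  rw [h1, MulAction.index_stabilizer, ConjAct.orbit_eq_carrier_conjClasses]
  rfl

end Cfsg.Agent.Lib.helper8
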