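import Mathlib
import Cfsg.Agent.Lib.helper7.REE.Defs
import Cfsg.Agent.Lib.Helper27.REEPE

/-!
# Project REE (designer helper7), row G4A (`L_basic`).
-/

set_option autoImplicit false

namespace Cfsg.Agent.Lib.helper7.REE

open Matrix Cfsg.Agent.Lib.helper8

universe u v

namespace ReeAx

variable {G : Type u} [Group G] [Finite G] {K : Type v} [Field K] [Fintype K] {m : ℕ}

/-- `psi x = psi y ↔ x = y ∨ x = -y` -/
theorem reeg4a_psi_eq (R : ReeAx G K m) (x y : SpecialLinearGroup (Fin 2) K) :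
    R.psi x = R.psi y ↔ x = y ∨ x = -y := by
  constructor
  · intro h
    have h1 : R.psi (x * y⁻¹) = 1 := by
      rw [map_mul, map_inv, h, mul_inv_cancel]
    rcases R.psi_ker _ h1 with h2 | h2
    · left
      exact mul_inv_eq_one.mp h2
    · right
      have : x = -1 * y := by
        rw [← h2, inv_mul_cancel_right]
      rw [this, neg_mul, one_mul]
  · rintro (rfl | rfl)
    · rfl
    · have : (-y : SpecialLinearGroup (Fin 2) K) = -1 * y := by rw [neg_mul, one_mul]
      rw [this, map_mul, R.psi_neg, one_mul]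

/-- the kernel of `psi` has exactly two elements -/
theorem reeg4a_ker_card (R : ReeAx G K m) : Nat.card R.psi.ker = 2 := by
  classical
  have hne : (-1 : SpecialLinearGroup (Fin 2) K) ≠ 1 := (sl2_basic R.hK).2.1
  have hmem1 : (1 : SpecialLinearGroup (Fin 2) K) ∈ R.psi.ker := one_mem _
  have hmemn : (-1 : SpecialLinearGroup (Fin 2) K) ∈ R.psi.ker := by
    rw [MonoidHom.mem_ker]; exact R.psi_neg
  have hset : (R.psi.ker : Set (SpecialLinearGroup (Fin 2) K)) = {1, -1} := by
    ext g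
    simp only [SetLike.mem_coe, MonoidHom.mem_ker, Set.mem_insert_iff, Set.mem_singleton_iff]
    constructor
    · exact R.psi_ker g
    · rintro (rfl | rfl)
      · exact map_one _
      · exact R.psi_neg
  have : Nat.card R.psi.ker = Nat.card ({1, -1} : Set (SpecialLinearGroup (Fin 2) K)) := by
    rw [← hset]; rfl
  rw [this, Nat.card_coe_set_eq, Set.ncard_pair hne.symm]

/-- `2 * |L| = q (q^2 - 1)` -/
theorem reeg4a_card_L (R : ReeAx G K m) : 2 * Nat.card R.L = qq m * (qq m ^ 2 - 1) := by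
  have h1 : Nat.card (SpecialLinearGroup (Fin 2) K ⧸ R.psi.ker) = Nat.card R.psi.range :=
    Nat.card_congr (QuotientGroup.quotientKerEquivRange R.psi).toEquiv
  have h2 : Nat.card (SpecialLinearGroup (Fin 2) K) =
      Nat.card (SpecialLinearGroup (Fin 2) K ⧸ R.psi.ker) * Nat.card R.psi.ker :=
    Subgroup.card_eq_card_quotient_mul_card_subgroup _
  rw [h1, reeg4a_ker_card, (sl2_basic R.hK).1] at h2
  show 2 * Nat.card R.psi.range = _
  omega

theorem L_basic (R : ReeAx G K m) :
    (∀ c : G, R.t * c = c * R.t ↔ c ∈ R.L ∨ ∃ l ∈ R.L, c = R.t * l) ∧ R.t ∉ R.L ∧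
    2 * Nat.card R.L = qq m * (qq m ^ 2 - 1) ∧
    Nat.card (Subgroup.centralizer {R.t}) = qq m * (qq m ^ 2 - 1) ∧
    R.n0 ∈ R.L ∧ (∀ l ∈ R.L, R.t * l = l * R.t) ∧
    (∀ x y : SpecialLinearGroup (Fin 2) K, R.psi x = R.psi y ↔ x = y ∨ x = -y) := by
  classical
  have hcomm : ∀ l ∈ R.L, R.t * l = l * R.t := by
    rintro l ⟨g, rfl⟩
    exact R.psi_comm g
  have hcent : ∀ c : G, R.t * c = c * R.t ↔ c ∈ R.L ∨ ∃ l ∈ R.L, c = R.t * l := by
    intro c
    constructor
    · intro h
      obtain ⟨g, hg | hg⟩ := R.psi_cent c h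
      · exact Or.inl ⟨g, hg.symm⟩
      · exact Or.inr ⟨R.psi g, ⟨g, rfl⟩, hg⟩
    · rintro (hl | ⟨l, hl, rfl⟩)
      · exact hcomm c hl
      · rw [mul_assoc, hcomm l hl]
  have htL : R.t ∉ R.L := by
    rintro ⟨g, hg⟩
    exact R.psi_ne_t g hg
  refine ⟨hcent, htL, reeg4a_card_L R, ?_, ⟨h8slW, R.psi_W⟩, hcomm, reeg4a_psi_eq R⟩
  -- |C(t)| = 2 |L|
  rw [← reeg4a_card_L R]
  have hLle : R.L ≤ Subgroup.centralizer {R.t} := by
    intro l hl
    rw [Subgroup.mem_centralizer_singleton_iff]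
    exact (hcomm l hl).symm
  have htC : R.t ∈ Subgroup.centralizer {R.t} := by
    rw [Subgroup.mem_centralizer_singleton_iff]
  -- index of L in C(t) is 2
  have hidx : (R.L.subgroupOf (Subgroup.centralizer {R.t})).index = 2 := by
    rw [Subgroup.index_eq_two_iff]
    refine ⟨⟨R.t, htC⟩, ?_⟩
    rintro ⟨b, hb⟩
    rw [Subgroup.mem_centralizer_singleton_iff] at hb
    have hb' := (hcent b).mp hb.symm
    simp only [Subgroup.mem_subgroupOf, Subgroup.coe_mul]
    rcases hb' with hbL | ⟨l, hl, rfl⟩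
    · -- b ∈ L: then b * t ∉ L
      refine Or.inr ⟨hbL, ?_⟩
      intro h
      apply htL
      have := R.L.mul_mem (R.L.inv_mem hbL) h
      rwa [inv_mul_cancel_left] at this
    · -- b = t * l
      refine Or.inl ⟨?_, ?_⟩
      · rw [hcomm l hl, mul_assoc, R.t_sq, mul_one]; exact hl
      · intro h
        apply htL
        have := R.L.mul_mem h (R.L.inv_mem hl)
        rwa [mul_inv_cancel_right] at this
  have h3 := Subgroup.index_mul_card (R.L.subgroupOf (Subgroup.centralizer {R.t}))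
  rw [hidx] at h3
  have h4 : Nat.card (R.L.subgroupOf (Subgroup.centralizer {R.t})) = Nat.card R.L :=
    Nat.card_congr (Subgroup.subgroupOfEquivOfLe hLle).toEquiv
  rw [h4] at h3
  exact h3.symm

end ReeAx

end Cfsg.Agent.Lib.helper7.REE
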