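import Mathlib
import Cfsg.Prelude.Def_Classical
import Cfsg.Prelude.Def_KGroupFacts
import Cfsg.Agent.Lib.Lead.SPN.Defs
import Cfsg.Agent.Lib.Lead.SPN.Defs2
import Cfsg.Agent.Lib.Lead.STDB1
import Cfsg.Agent.Lib.Helper16.STDH3

/-!
# Project SPN (designer lead), row T1B (helper8): `Cov.zz_swap` — the symmetries of the spin element.
VERBATIM vs `Lead/SPN/Skel.lean.txt`.
-/

set_option autoImplicit false

namespace Cfsg.Agent.Lib.Lead.SPN

open Cfsg.Agent.Lib.helper15.St2 Cfsg.Agent.Lib.helper3.STC Cfsg.Agent.Lib.Lead.STD Cfsg.Agent.Lib.Helper16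
  Cfsg.Agent.Lib.Helper1.OMP

universe u v w

section T

namespace Cov

variable {l : ℕ} {F : Type u} [Field F] [Fintype F] {G : Type v} [Group G] (C : Cov l F G)

/-- T1b [S-M] -/
theorem zz_swap {a b : Fin l ⊕ Fin l} (hab : a ≠ b) (hab' : a ≠ ng b) :
    C.S.h a b (-1) * C.S.h a (ng b) (-1) = C.S.h b a (-1) * C.S.h b (ng a) (-1) ∧
    C.S.h a b (-1) * C.S.h a (ng b) (-1) = C.S.h (ng a) b (-1) * C.S.h (ng a) (ng b) (-1) ∧
    C.S.h a b (-1) * C.S.h a (ng b) (-1) = C.S.h a (ng b) (-1) * C.S.h a b (-1) := by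
  have h1 : (-1 : F) ≠ 0 := neg_ne_zero.2 one_ne_zero
  have hinv : (-1 : F)⁻¹ = -1 := by rw [inv_neg, inv_one]
  -- the four basic inequalities
  have hba : b ≠ a := hab.symm
  have hba' : b ≠ ng a := by
    intro h
    apply hab'
    rw [h, ng_ng]
  have hanb : a ≠ ng b := hab'
  have hanb' : a ≠ ng (ng b) := by rw [ng_ng]; exact hab
  -- `h b a (-1) = h a b (-1)`
  have e1 : C.S.h b a (-1) = C.S.h a b (-1) := by
    rw [SysD.h_swap C.S hab hab' (-1) h1, hinv]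
  -- `h b (ng a) (-1) = h a (ng b) (-1)`
  have e2 : C.S.h b (ng a) (-1) = C.S.h a (ng b) (-1) := by
    have hb1 : b ≠ ng (ng a) := by rw [ng_ng]; exact hba
    rw [SysD.h_sym C.S hba' hb1 (-1) h1, ng_ng]
  -- `h (ng a) b (-1) = h a (ng b) (-1)`
  have e3 : C.S.h (ng a) b (-1) = C.S.h a (ng b) (-1) := by
    have hn1 : ng a ≠ b := fun h => hba' h.symm
    have hn2 : ng a ≠ ng b := fun h => hab (ng_inj.1 h)
    rw [SysD.h_sym C.S hn1 hn2 (-1) h1, ng_ng, SysD.h_swap C.S hanb hanb' (-1) h1, hinv]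
  -- `h (ng a) (ng b) (-1) = h a b (-1)`
  have e4 : C.S.h (ng a) (ng b) (-1) = C.S.h a b (-1) := by
    have hn2 : ng a ≠ ng b := fun h => hab (ng_inj.1 h)
    have hn3 : ng a ≠ ng (ng b) := by
      rw [ng_ng]
      exact fun h => hba' h.symm
    rw [SysD.h_sym C.S hn2 hn3 (-1) h1, ng_ng, ng_ng, e1]
  have e5 : C.S.h a b (-1) * C.S.h a (ng b) (-1) = C.S.h a (ng b) (-1) * C.S.h a b (-1) :=
    SysD.h_comm C.S hab hab' hanb hanb' (-1) (-1) h1 h1
  refine ⟨?_, ?_, e5⟩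
  · rw [e1, e2]
  · rw [e3, e4, e5]

end Cov

end T

end Cfsg.Agent.Lib.Lead.SPN
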