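import Mathlib
import Cfsg.Prelude.Def_Classical
import Cfsg.Prelude.Def_KGroupFacts
import Cfsg.Agent.Lib.Lead.SPN.Defs
import Cfsg.Agent.Lib.Lead.SPN.Defs2

/-!
# Project SPN (designer lead), row T7 (helper8): `Cov.perfect` — `G` is perfect.
VERBATIM vs `Lead/SPN/Skel.lean.txt`.
-/

set_option autoImplicit false

namespace Cfsg.Agent.Lib.Lead.SPN

open Cfsg.Agent.Lib.helper15.St2 Cfsg.Agent.Lib.helper3.STC Cfsg.Agent.Lib.Lead.STD Cfsg.Agent.Lib.Helper16
  Cfsg.Agent.Lib.Helper1.OMP

universe u v w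

open scoped commutatorElement

/-- a third index -/
theorem spnt7_exists_ne (l : ℕ) (hl : 3 ≤ l) (p q : Fin l) : ∃ i : Fin l, i ≠ p ∧ i ≠ q := by
  classical
  have hc : ({p, q} : Finset (Fin l)).card < (Finset.univ : Finset (Fin l)).card := by
    rw [Finset.card_univ, Fintype.card_fin]
    have := Finset.card_le_two (a := p) (b := q)
    omega
  obtain ⟨i, -, hi⟩ := Finset.exists_mem_notMem_of_card_lt_card hc
  refine ⟨i, ?_, ?_⟩
  · rintro rfl
    exact hi (by simp)
  · rintro rfl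
    exact hi (by simp)

/-- an index different from `± a` and `± c` -/
theorem spnt7_exists_b (l : ℕ) (hl : 3 ≤ l) (a c : Fin l ⊕ Fin l) :
    ∃ b : Fin l ⊕ Fin l, a ≠ b ∧ a ≠ ng b ∧ b ≠ c ∧ b ≠ ng c := by
  obtain ⟨i, hi1, hi2⟩ := spnt7_exists_ne l hl (ab a) (ab c)
  refine ⟨Sum.inl i, ?_, ?_, ?_, ?_⟩
  · rintro rfl
    exact hi1 rfl
  · intro h
    apply hi1
    rw [h]
    rfl
  · rintro rfl
    exact hi2 rfl
  · intro h
    apply hi2
    have := congrArg ab h
    rcases c with c | c <;> exact this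

section T

namespace Cov

variable {l : ℕ} {F : Type u} [Field F] [Fintype F] {G : Type v} [Group G] (C : Cov l F G)

include C in
/-- T7 [S-M]  (the Skel statement lacks `include C in`: without `C` it would claim that every group is perfect) -/
theorem perfect : commutator G = ⊤ := by
  rw [eq_top_iff, ← C.gen]
  unfold SysD.XQ
  rw [Subgroup.closure_le]
  rintro g ⟨a, c, t, hac, hac', -, rfl⟩
  obtain ⟨b, hab, hab', hbc, hbc'⟩ := spnt7_exists_b l (by have := C.hl; omega) a c
  have h := C.S.comm3 a b c hab hab' hbc hbc' hac hac' t 1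
  rw [mul_one] at h
  show C.S.x a c t ∈ commutator G
  rw [← h, commutator_def]
  have : C.S.x a b t * C.S.x b c 1 * (C.S.x a b t)⁻¹ * (C.S.x b c 1)⁻¹ =
      ⁅C.S.x a b t, C.S.x b c 1⁆ := (commutatorElement_def _ _).symm
  rw [this]
  exact Subgroup.commutator_mem_commutator (Subgroup.mem_top _) (Subgroup.mem_top _)

end Cov

end T

end Cfsg.Agent.Lib.Lead.SPN
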