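import Mathlib
import Cfsg.Prelude.Def_ChevStructure
import Cfsg.Agent.Lib.helper8.ChevReflConj

set_option autoImplicit false

namespace Cfsg.Agent.Lib.helper8

open Cfsg.Lie Cfsg.Lie.ChevalleyDatum

variable {F : Type*} [Field F]

structure H8Aut (D : ChevalleyDatum) (σ τ π ϖ : ℕ → ℕ) (η : ℕ → ℤ) : Prop where
  lt : ∀ s < D.nroots, σ s < D.nroots
  tlt : ∀ s < D.nroots, τ s < D.nroots
  st : ∀ s < D.nroots, σ (τ s) = s
  ts : ∀ s < D.nroots, τ (σ s) = s
  plt : ∀ j < D.rank, π j < D.rank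
  qlt : ∀ j < D.rank, ϖ j < D.rank
  pq : ∀ j < D.rank, π (ϖ j) = j
  qp : ∀ j < D.rank, ϖ (π j) = j
  negc : ∀ s < D.nroots, σ (D.negIdx.getD s 0) = D.negIdx.getD (σ s) 0
  neglt : ∀ s < D.nroots, D.negIdx.getD s 0 < D.nroots
  sorted : ∀ s < D.nroots, (((D.chain.getD s #[]).toList).map Prod.fst).Pairwise (· < ·)
  eta1 : ∀ s < D.nroots, η s = 1 ∨ η s = -1
  etaneg : ∀ s < D.nroots, η s * η (D.negIdx.getD s 0) = 1
  tc1 : ∀ j < D.rank, ∀ s < D.nroots, D.cartan (π j) (σ s) = D.cartan j s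
  tc2 : ∀ j < D.rank, ∀ s < D.nroots, (D.coroot.getD (σ s) #[]).getD (π j) 0 =
    (D.coroot.getD s #[]).getD j 0
  tc3 : ∀ s < D.nroots, ∀ e ∈ (D.chain.getD s #[]).toList, e.1 < D.nroots ∧
    (∀ q ∈ e.2.toList, q.1 < D.nroots) ∧
    D.chainEntry (σ s) (σ e.1) = h8mapEnt σ η (η s) (η e.1) 0 e.2.toList
  tc4 : ∀ s < D.nroots, ∀ e ∈ (D.chain.getD s #[]).toList, e.2.toList ≠ [] →
    D.chainEntry (τ s) (τ e.1) ≠ []

def h8PM (D : ChevalleyDatum) (F : Type*) [Field F] (σ π : ℕ → ℕ) (η : ℕ → ℤ) :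
    Matrix D.Idx D.Idx F :=
  Matrix.of (fun (row col : D.Idx) =>
    Sum.elim
      (fun j' : Fin D.rank => Sum.elim
        (fun j : Fin D.rank => if (j' : ℕ) = π j then (1 : F) else 0)
        (fun _ => (0 : F)) col)
      (fun s' : Fin D.nroots => Sum.elim
        (fun _ => (0 : F))
        (fun s : Fin D.nroots => if (s' : ℕ) = σ s then
          (((η s : ℤ)) : F) else 0) col)
      row)

section
variable (D : ChevalleyDatum) (σ τ π ϖ : ℕ → ℕ) (η : ℕ → ℤ) (hA : H8Aut D σ τ π ϖ η)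

include hA in
theorem h8aut_inj (a b : ℕ) (ha : a < D.nroots) (hb : b < D.nroots) (h : σ a = σ b) : a = b := by
  rw [← hA.ts a ha, ← hA.ts b hb, h]

include hA in
theorem h8aut_pinj (a b : ℕ) (ha : a < D.rank) (hb : b < D.rank) (h : π a = π b) : a = b := by
  rw [← hA.qp a ha, ← hA.qp b hb, h]

include hA in
theorem h8PM_mul_inr (M : Matrix D.Idx D.Idx F) (w : Fin D.nroots) (c : D.Idx) :
    (h8PM D F σ π η * M) (Sum.inr w) c =
      ((η (τ w.val) : ℤ) : F) * M (Sum.inr ⟨τ w.val, hA.tlt w.val w.2⟩) c := by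
  rw [Matrix.mul_apply, Fintype.sum_sum_type]
  simp only [h8PM, Matrix.of_apply, Sum.elim_inl, Sum.elim_inr, zero_mul, Finset.sum_const_zero,
    zero_add]
  rw [Finset.sum_eq_single (⟨τ w.val, hA.tlt w.val w.2⟩ : Fin D.nroots)]
  · rw [if_pos (hA.st w.val w.2).symm]
  · intro u _ hu
    rw [if_neg, zero_mul]
    intro hw
    apply hu
    apply Fin.ext
    show u.val = τ w.val
    rw [hw, hA.ts u.val u.2]
  · intro hh
    exact absurd (Finset.mem_univ _) hh

include hA in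
theorem h8PM_mul_inl (M : Matrix D.Idx D.Idx F) (j' : Fin D.rank) (c : D.Idx) :
    (h8PM D F σ π η * M) (Sum.inl j') c = M (Sum.inl ⟨ϖ j'.val, hA.qlt j'.val j'.2⟩) c := by
  rw [Matrix.mul_apply, Fintype.sum_sum_type]
  simp only [h8PM, Matrix.of_apply, Sum.elim_inl, Sum.elim_inr, zero_mul, Finset.sum_const_zero,
    add_zero]
  rw [Finset.sum_eq_single (⟨ϖ j'.val, hA.qlt j'.val j'.2⟩ : Fin D.rank)]
  · rw [if_pos (hA.pq j'.val j'.2).symm, one_mul]
  · intro u _ hu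
    rw [if_neg, zero_mul]
    intro hw
    apply hu
    apply Fin.ext
    show u.val = ϖ j'.val
    rw [hw, hA.qp u.val u.2]
  · intro hh
    exact absurd (Finset.mem_univ _) hh

include hA in
theorem h8mul_PM_inr (M : Matrix D.Idx D.Idx F) (r : D.Idx) (v : Fin D.nroots) :
    (M * h8PM D F σ π η) r (Sum.inr v) =
      M r (Sum.inr ⟨σ v.val, hA.lt v.val v.2⟩) * ((η v.val : ℤ) : F) := by
  rw [Matrix.mul_apply, Fintype.sum_sum_type]
  simp only [h8PM, Matrix.of_apply, Sum.elim_inl, Sum.elim_inr, mul_zero, Finset.sum_const_zero,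
    zero_add]
  rw [Finset.sum_eq_single (⟨σ v.val, hA.lt v.val v.2⟩ : Fin D.nroots)]
  · rw [if_pos rfl]
  · intro u _ hu
    rw [if_neg, mul_zero]
    intro hw
    apply hu
    exact Fin.ext hw
  · intro hh
    exact absurd (Finset.mem_univ _) hh

include hA in
theorem h8mul_PM_inl (M : Matrix D.Idx D.Idx F) (r : D.Idx) (j : Fin D.rank) :
    (M * h8PM D F σ π η) r (Sum.inl j) = M r (Sum.inl ⟨π j.val, hA.plt j.val j.2⟩) := by
  rw [Matrix.mul_apply, Fintype.sum_sum_type]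
  simp only [h8PM, Matrix.of_apply, Sum.elim_inl, Sum.elim_inr, mul_zero, Finset.sum_const_zero,
    add_zero]
  rw [Finset.sum_eq_single (⟨π j.val, hA.plt j.val j.2⟩ : Fin D.rank)]
  · rw [if_pos rfl, mul_one]
  · intro u _ hu
    rw [if_neg, mul_zero]
    intro hw
    apply hu
    exact Fin.ext hw
  · intro hh
    exact absurd (Finset.mem_univ _) hh

include hA in
theorem h8aut_chainEntry (s v : ℕ) (hs : s < D.nroots) (hv : v < D.nroots) :
    D.chainEntry (σ s) (σ v) = h8mapEnt σ η (η s) (η v) 0 (D.chainEntry s v) := by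
  rcases h8chainEntry_cases D s v with h0 | ⟨e, he, hev, hce⟩
  · rw [h0]
    rcases h8chainEntry_cases D (σ s) (σ v) with h1 | ⟨e', he', hev', hce'⟩
    · rw [h1]; rfl
    · by_cases hne : e'.2.toList = []
      · rw [hce', hne]; rfl
      · exfalso
        have h4 := hA.tc4 _ (hA.lt s hs) e' he' hne
        rw [hA.ts s hs, hev', hA.ts v hv] at h4
        exact h4 h0
  · have h3 := (hA.tc3 s hs e he).2.2
    rw [hev] at h3
    rw [h3, hce]

end

end Cfsg.Agent.Lib.helper8
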