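import Mathlib
import Cfsg.Prelude.Def_ChevStructure
import Cfsg.Agent.Lib.helper8.ChevAut1

set_option autoImplicit false

namespace Cfsg.Agent.Lib.helper8

open Cfsg.Lie Cfsg.Lie.ChevalleyDatum

variable {F : Type*} [Field F]

theorem h8aut_chainEntry_lt (D : ChevalleyDatum) (σ τ π ϖ : ℕ → ℕ) (η : ℕ → ℤ)
    (hR : H8Aut D σ τ π ϖ η) (s v : ℕ)
    (hs : s < D.nroots) : ∀ q ∈ D.chainEntry s v, q.1 < D.nroots := by
  rcases h8chainEntry_cases D s v with h0 | ⟨e, he, _, hce⟩
  · rw [h0]; intro q hq; cases hq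
  · rw [hce]
    exact (hR.tc3 s hs e he).2.1

theorem h8aut_conj_x (D : ChevalleyDatum) (σ τ π ϖ : ℕ → ℕ) (η : ℕ → ℤ)
    (hR : H8Aut D σ τ π ϖ η)
    (s : ℕ) (hs : s < D.nroots) (t : F) :
    h8PM D F σ π η * D.x F s t =
      D.x F (σ s) (((η s : ℤ) : F) * t) * h8PM D F σ π η := by
  unfold ChevalleyDatum.x
  rw [dif_pos hs, dif_pos (hR.lt s hs)]
  have hA : ∀ (a b : Fin D.nroots), ((⟨σ a.val, hR.lt a.val a.2⟩ : Fin D.nroots) =
      ⟨σ b.val, hR.lt b.val b.2⟩) ↔ a = b := by
    intro a b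
    constructor
    · intro h
      exact Fin.ext (h8aut_inj D σ τ π ϖ η hR a.val b.val a.2 b.2 (Fin.mk.inj h))
    · intro h; rw [h]
  have hB : ∀ (w a : Fin D.nroots), ((⟨τ w.val, hR.tlt w.val w.2⟩ : Fin D.nroots) = a) ↔
      w = ⟨σ a.val, hR.lt a.val a.2⟩ := by
    intro w a
    constructor
    · intro h
      apply Fin.ext
      show w.val = σ a.val
      rw [← h]
      exact (hR.st w.val w.2).symm
    · intro h
      apply Fin.ext
      show τ w.val = a.val
      rw [h]
      exact hR.ts a.val a.2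
  ext row col
  rcases row with j' | w <;> rcases col with j | v
  · rw [h8PM_mul_inl D σ τ π ϖ η hR, h8mul_PM_inl D σ τ π ϖ η hR]
    simp only [h8xMat_inl_inl]
    by_cases h : j' = ⟨π j.val, hR.plt j.val j.2⟩
    · rw [if_pos h, if_pos]
      apply Fin.ext
      show ϖ j'.val = j.val
      rw [h]
      exact hR.qp j.val j.2
    · rw [if_neg h, if_neg]
      intro hh
      apply h
      apply Fin.ext
      show j'.val = π j.val
      rw [← hh]
      exact (hR.pq j'.val j'.2).symm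
  · rw [h8PM_mul_inl D σ τ π ϖ η hR, h8mul_PM_inr D σ τ π ϖ η hR]
    simp only [h8xMat_inl_inr]
    by_cases h1 : v = ⟨s, hs⟩
    · rw [if_pos h1, if_pos ((hA v ⟨s, hs⟩).mpr h1)]
      simp
    · have h1' : ¬ ((⟨σ v.val, hR.lt v.val v.2⟩ : Fin D.nroots) =
          ⟨σ s, hR.lt s hs⟩) := fun h => h1 ((hA v ⟨s, hs⟩).mp h)
      simp only [h1, h1', if_false]
      by_cases h2 : v.val = D.negIdx.getD s 0
      · have h2' : σ v.val = D.negIdx.getD (σ s) 0 := by
          rw [h2, hR.negc s hs]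
        rw [if_pos h2, if_pos h2']
        have h5 := hR.tc2 (ϖ j'.val) (hR.qlt j'.val j'.2) s hs
        rw [hR.pq j'.val j'.2] at h5
        rw [h5, h2]
        have he : ((η s : ℤ) : F) * ((η (D.negIdx.getD s 0) : ℤ) : F) = 1 := by
          rw [← Int.cast_mul, hR.etaneg s hs, Int.cast_one]
        rw [mul_assoc _ (((η s : ℤ) : F) * t), mul_comm (((η s : ℤ) : F)) t, mul_assoc t, he, mul_one]
      · have h2' : ¬ σ v.val = D.negIdx.getD (σ s) 0 := by
          rw [← hR.negc s hs]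
          intro h
          exact h2 (h8aut_inj D σ τ π ϖ η hR _ _ v.2 (hR.neglt s hs) h)
        simp only [if_neg h2, if_neg h2', zero_mul]
  · rw [h8PM_mul_inr D σ τ π ϖ η hR, h8mul_PM_inl D σ τ π ϖ η hR]
    simp only [h8xMat_inr_inl]
    by_cases h1 : w = ⟨σ s, hR.lt s hs⟩
    · have h1' : (⟨τ w.val, hR.tlt w.val w.2⟩ : Fin D.nroots) = ⟨s, hs⟩ :=
        (hB w ⟨s, hs⟩).mpr h1
      have h3 : τ w.val = s := Fin.mk.inj h1'
      rw [if_pos h1', if_pos h1, h3]
      show _ = -((D.cartan (π j.val) (σ s) : ℤ) : F) * _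
      rw [hR.tc1 j.val j.2 s hs]
      ring
    · have h1' : ¬ (⟨τ w.val, hR.tlt w.val w.2⟩ : Fin D.nroots) = ⟨s, hs⟩ :=
        fun h => h1 ((hB w ⟨s, hs⟩).mp h)
      rw [if_neg h1', if_neg h1]
      simp
  · rw [h8PM_mul_inr D σ τ π ϖ η hR, h8mul_PM_inr D σ τ π ϖ η hR]
    rw [h8xMat_inr_inr D _ _ _ _ (hR.sorted s hs), h8xMat_inr_inr D _ _ _ _ (hR.sorted _ (hR.lt s hs))]
    have hw' : τ w.val < D.nroots := hR.tlt w.val w.2
    by_cases h1 : v = ⟨s, hs⟩
    · rw [if_pos h1, if_pos ((hA v ⟨s, hs⟩).mpr h1)]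
      by_cases h2 : w = ⟨σ s, hR.lt s hs⟩
      · have h2' : (⟨τ w.val, hR.tlt w.val w.2⟩ : Fin D.nroots) = ⟨s, hs⟩ :=
          (hB w ⟨s, hs⟩).mpr h2
        have h3 : τ w.val = s := Fin.mk.inj h2'
        rw [if_pos h2', if_pos h2, h3, h1, mul_one, one_mul]
      · have h2' : ¬ (⟨τ w.val, hR.tlt w.val w.2⟩ : Fin D.nroots) = ⟨s, hs⟩ :=
          fun h => h2 ((hB w ⟨s, hs⟩).mp h)
        rw [if_neg h2', if_neg h2]
        simp
    · have h1' : ¬ ((⟨σ v.val, hR.lt v.val v.2⟩ : Fin D.nroots) =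
          ⟨σ s, hR.lt s hs⟩) := fun h => h1 ((hA v ⟨s, hs⟩).mp h)
      rw [if_neg h1, if_neg h1']
      by_cases h2 : v.val = D.negIdx.getD s 0
      · have h2' : σ v.val = D.negIdx.getD (σ s) 0 := by
          rw [h2, hR.negc s hs]
        rw [if_pos h2, if_pos h2']
        have hev : η v.val = η s := by
          rw [h2]
          exact (h8eta_eq_of_mul _ _ (hR.eta1 s hs) (hR.eta1 _ (hR.neglt s hs)) (hR.etaneg s hs)).symm
        by_cases h3 : w = ⟨σ v.val, hR.lt v.val v.2⟩
        · have h3' : (⟨τ w.val, hR.tlt w.val w.2⟩ : Fin D.nroots) = v := (hB w v).mpr h3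
          have h4 : τ w.val = v.val := congrArg Fin.val h3'
          rw [if_pos h3', if_pos h3, h4, mul_one, one_mul]
        · have h3' : ¬ (⟨τ w.val, hR.tlt w.val w.2⟩ : Fin D.nroots) = v :=
            fun h => h3 ((hB w v).mp h)
          rw [if_neg h3', if_neg h3]
          by_cases h5 : w = ⟨σ s, hR.lt s hs⟩
          · have h5' : (⟨τ w.val, hR.tlt w.val w.2⟩ : Fin D.nroots) = ⟨s, hs⟩ :=
              (hB w ⟨s, hs⟩).mpr h5
            have h6 : τ w.val = s := Fin.mk.inj h5'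
            have hsq : (((η s : ℤ) : F)) ^ 2 = 1 := by
              rw [pow_two]
              exact h8eta_sq _ (hR.eta1 s hs)
            rw [if_pos h5', if_pos h5, h6, hev, mul_pow, hsq]
            ring
          · have h5' : ¬ (⟨τ w.val, hR.tlt w.val w.2⟩ : Fin D.nroots) = ⟨s, hs⟩ :=
              fun h => h5 ((hB w ⟨s, hs⟩).mp h)
            rw [if_neg h5', if_neg h5]
            simp
      · have h2' : ¬ σ v.val = D.negIdx.getD (σ s) 0 := by
          rw [← hR.negc s hs]
          intro h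
          exact h2 (h8aut_inj D σ τ π ϖ η hR _ _ v.2 (hR.neglt s hs) h)
        rw [if_neg h2, if_neg h2']
        show _ = (_ + h8chSum (((η s : ℤ) : F) * t) w.val 0
          (D.chainEntry (σ s) (σ v.val))) * _
        rw [h8aut_chainEntry D σ τ π ϖ η hR s v.val hs v.2]
        have hwinv : w.val = σ (τ w.val) := (hR.st w.val w.2).symm
        have hsum := h8chSum_mapEnt (F := F) σ η (η s) (η v.val) t
          (τ w.val) (hR.eta1 s hs) (D.chainEntry s v.val) 0
          (fun q hq h => h8aut_inj D σ τ π ϖ η hR _ _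
            (h8aut_chainEntry_lt D σ τ π ϖ η hR s v.val hs q hq) hw' h)
        rw [← hwinv] at hsum
        rw [hsum]
        show ((η (τ w.val) : ℤ) : F) * (_ + h8chSum t (τ w.val) 0
          (D.chainEntry s v.val)) = _
        by_cases h3 : w = ⟨σ v.val, hR.lt v.val v.2⟩
        · have h3' : (⟨τ w.val, hR.tlt w.val w.2⟩ : Fin D.nroots) = v := (hB w v).mpr h3
          have h4 : τ w.val = v.val := congrArg Fin.val h3'
          rw [if_pos h3', if_pos h3, h4]
          have := h8eta_sq (F := F) _ (hR.eta1 v.val v.2)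
          calc ((η v.val : ℤ) : F) * (1 + h8chSum t v.val 0 (D.chainEntry s v.val))
              = ((η v.val : ℤ) : F) + ((η v.val : ℤ) : F) * h8chSum t v.val 0 (D.chainEntry s v.val) := by
                ring
            _ = ((η v.val : ℤ) : F) + (((η v.val : ℤ) : F) * ((η v.val : ℤ) : F)) * (((η v.val : ℤ) : F) *
                  h8chSum t v.val 0 (D.chainEntry s v.val)) := by rw [this, one_mul]
            _ = _ := by ring
        · have h3' : ¬ (⟨τ w.val, hR.tlt w.val w.2⟩ : Fin D.nroots) = v :=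
            fun h => h3 ((hB w v).mp h)
          rw [if_neg h3', if_neg h3, zero_add, zero_add]
          have := h8eta_sq (F := F) _ (hR.eta1 v.val v.2)
          calc ((η (τ w.val) : ℤ) : F) * h8chSum t (τ w.val) 0 (D.chainEntry s v.val)
              = (((η v.val : ℤ) : F) * ((η v.val : ℤ) : F)) * (((η (τ w.val) : ℤ) : F) *
                  h8chSum t (τ w.val) 0 (D.chainEntry s v.val)) := by rw [this, one_mul]
            _ = _ := by ring

end Cfsg.Agent.Lib.helper8
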