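import Mathlib
import Cfsg.Prelude.Def_ChevStructure
import Cfsg.Agent.Lib.helper8.ChevAut2
import Cfsg.Agent.Lib.helper8.ChevPerf

set_option autoImplicit false

namespace Cfsg.Agent.Lib.helper8

open Cfsg.Lie Cfsg.Lie.ChevalleyDatum

universe u

variable {F : Type u} [Field F]

section
variable (D : ChevalleyDatum) (σ τ π ϖ : ℕ → ℕ) (η : ℕ → ℤ) (hA : H8Aut D σ τ π ϖ η)

include hA in
theorem h8PM_mul_inv :
    h8PM D F σ π η * h8PM D F τ ϖ (fun s => η (τ s)) = 1 := by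
  ext row col
  rcases row with j' | w <;> rcases col with j | v
  · rw [h8PM_mul_inl D σ τ π ϖ η hA]
    simp only [h8PM, Matrix.of_apply, Sum.elim_inl, Matrix.one_apply, Sum.inl.injEq]
    by_cases h : j' = j
    · rw [if_pos h, if_pos (by rw [h])]
    · rw [if_neg h, if_neg]
      intro hh
      apply h
      apply Fin.ext
      rw [← hA.pq j'.val j'.2, ← hA.pq j.val j.2]
      exact congrArg π hh
  · rw [h8PM_mul_inl D σ τ π ϖ η hA]
    simp [h8PM]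
  · rw [h8PM_mul_inr D σ τ π ϖ η hA]
    simp [h8PM]
  · rw [h8PM_mul_inr D σ τ π ϖ η hA]
    simp only [h8PM, Matrix.of_apply, Sum.elim_inr, Matrix.one_apply, Sum.inr.injEq]
    by_cases h : w = v
    · rw [if_pos h, if_pos (by rw [h]), h]
      exact h8eta_sq _ (hA.eta1 _ (hA.tlt v.val v.2))
    · rw [if_neg h, if_neg, mul_zero]
      intro hh
      apply h
      apply Fin.ext
      rw [← hA.st w.val w.2, ← hA.st v.val v.2]
      exact congrArg σ hh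

def h8PMu : GL D.Idx F :=
  ⟨h8PM D F σ π η, h8PM D F τ ϖ (fun s => η (τ s)), h8PM_mul_inv D σ τ π ϖ η hA,
    mul_eq_one_comm.mp (h8PM_mul_inv D σ τ π ϖ η hA)⟩

theorem h8PMu_val : ((h8PMu D σ τ π ϖ η hA : GL D.Idx F) : Matrix D.Idx D.Idx F) = h8PM D F σ π η :=
  rfl

theorem h8PMu_conj_x (g : GL D.Idx F) (s : ℕ) (hs : s < D.nroots) (t : F)
    (hg : (g : Matrix D.Idx D.Idx F) = D.x F s t) :
    ((MulAut.conj (h8PMu D σ τ π ϖ η hA) g : GL D.Idx F) : Matrix D.Idx D.Idx F) =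
      D.x F (σ s) (((η s : ℤ) : F) * t) := by
  rw [MulAut.conj_apply, Units.val_mul, Units.val_mul, hg, h8PMu_val,
    h8aut_conj_x D σ τ π ϖ η hA s hs t, mul_assoc, ← h8PMu_val D σ τ π ϖ η hA, ← Units.val_mul,
    mul_inv_cancel, Units.val_one, mul_one]

theorem h8PMu_map_le (hB : H8Base.{u} D) :
    (D.group F).map (MulAut.conj (h8PMu D σ τ π ϖ η hA)).toMonoidHom ≤ D.group F := by
  rw [Subgroup.map_le_iff_le_comap]
  unfold ChevalleyDatum.group
  rw [Subgroup.closure_le]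
  rintro g ⟨r, t, hg⟩
  show MulAut.conj (h8PMu D σ τ π ϖ η hA) g ∈ Subgroup.closure _
  have hg' : (g : Matrix D.Idx D.Idx F) = D.x F r.val t := by
    rw [hg]; unfold ChevalleyDatum.x; rw [dif_pos r.2]
  have h1 := h8PMu_conj_x D σ τ π ϖ η hA g r.val r.2 t hg'
  apply Subgroup.subset_closure
  refine ⟨⟨σ r.val, hA.lt r.val r.2⟩, ((η r.val : ℤ) : F) * t, ?_⟩
  rw [h1]; unfold ChevalleyDatum.x; rw [dif_pos (hA.lt r.val r.2)]

theorem h8PMu_le_map (hB : H8Base.{u} D) :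
    D.group F ≤ (D.group F).map (MulAut.conj (h8PMu D σ τ π ϖ η hA)).toMonoidHom := by
  conv_lhs => unfold ChevalleyDatum.group
  rw [Subgroup.closure_le]
  rintro g ⟨r, t, hg⟩
  have hg' : (g : Matrix D.Idx D.Idx F) = D.x F r.val t := by
    rw [hg]; unfold ChevalleyDatum.x; rw [dif_pos r.2]
  refine ⟨h8xU D hB (τ r.val) (((η (τ r.val) : ℤ) : F) * t), h8xU_mem_group D hB _ _, ?_⟩
  apply Units.ext
  show ((MulAut.conj (h8PMu D σ τ π ϖ η hA) _ : GL D.Idx F) : Matrix D.Idx D.Idx F) = _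
  rw [h8PMu_conj_x D σ τ π ϖ η hA _ (τ r.val) (hA.tlt r.val r.2) _ (h8xU_val D hB _ _), hg',
    hA.st r.val r.2, ← mul_assoc, h8eta_sq _ (hA.eta1 _ (hA.tlt r.val r.2)), one_mul]

theorem h8PMu_map_eq (hB : H8Base.{u} D) :
    (D.group F).map (MulAut.conj (h8PMu D σ τ π ϖ η hA)).toMonoidHom = D.group F :=
  le_antisymm (h8PMu_map_le D σ τ π ϖ η hA hB) (h8PMu_le_map D σ τ π ϖ η hA hB)

def h8autEquiv (hB : H8Base.{u} D) : ↥(D.group F) ≃* ↥(D.group F) :=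
  ((MulAut.conj (h8PMu D σ τ π ϖ η hA)).subgroupMap (D.group F)).trans
    (MulEquiv.subgroupCongr (h8PMu_map_eq D σ τ π ϖ η hA hB))

theorem h8autEquiv_val (hB : H8Base.{u} D) (g : ↥(D.group F)) :
    ((h8autEquiv D σ τ π ϖ η hA hB g : ↥(D.group F)) : GL D.Idx F) =
      MulAut.conj (h8PMu D σ τ π ϖ η hA) (g : GL D.Idx F) := rfl

theorem h8autEquiv_x (hB : H8Base.{u} D) (g : ↥(D.group F)) (s : ℕ) (hs : s < D.nroots) (t : F)
    (hg : ((g : GL D.Idx F) : Matrix D.Idx D.Idx F) = D.x F s t) :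
    (((h8autEquiv D σ τ π ϖ η hA hB g : ↥(D.group F)) : GL D.Idx F) : Matrix D.Idx D.Idx F) =
      D.x F (σ s) (((η s : ℤ) : F) * t) := by
  rw [h8autEquiv_val]
  exact h8PMu_conj_x D σ τ π ϖ η hA _ s hs t hg

end

end Cfsg.Agent.Lib.helper8
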