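import Mathlib
import Cfsg.Prelude.Def_ChevStructure
import Cfsg.Agent.Lib.helper8.ChevAut3
import Cfsg.Agent.Lib.helper8.ChevFix1
import Cfsg.Agent.Lib.helper8.ChevWeyl1

set_option autoImplicit false

namespace Cfsg.Agent.Lib.helper8

open Cfsg.Lie Cfsg.Lie.ChevalleyDatum

universe u

variable {K : Type u} [Field K]

section
variable (D : ChevalleyDatum) (σ τ π ϖ : ℕ → ℕ) (η : ℕ → ℤ) (hAut : H8Aut D σ τ π ϖ η)
  (f : K ≃+* K)

/-- the twisting endomorphism: a graph automorphism composed with a field automorphism -/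
noncomputable def h8Sig : GL D.Idx K →* GL D.Idx K :=
  (MulAut.conj (h8PMu D σ τ π ϖ η hAut)).toMonoidHom.comp (h8Psi D (f : K →+* K))

theorem h8Sig_xU (hB : H8Base.{u} D) (s : ℕ) (hs : s < D.nroots) (t : K) :
    h8Sig D σ τ π ϖ η hAut f (h8xU D hB s t) =
      h8xU D hB (σ s) (((η s : ℤ) : K) * f t) := by
  apply Units.ext
  show ((MulAut.conj (h8PMu D σ τ π ϖ η hAut) (h8Psi D (f : K →+* K) (h8xU D hB s t)) :
    GL D.Idx K) : Matrix D.Idx D.Idx K) = _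
  rw [h8Psi_xU D hB hB, h8PMu_conj_x D σ τ π ϖ η hAut _ s hs _ (h8xU_val D hB s _), h8xU_val]
  rfl

theorem h8Sig_act (hB : H8Base.{u} D) (n : GL D.Idx K) (r r' : ℕ) (hr : r < D.nroots)
    (hr' : r' < D.nroots) (h : H8Act D hB n r r') :
    H8Act D hB (h8Sig D σ τ π ϖ η hAut f n) (σ r) (σ r') := by
  obtain ⟨c, hc, h1⟩ := h
  have hη : ((η r : ℤ) : K) * ((η r : ℤ) : K) = 1 := h8eta_sq _ (hAut.eta1 r hr)
  have hη' : ((η r' : ℤ) : K) ≠ 0 := by
    rcases hAut.eta1 r' hr' with h | h <;> rw [h] <;> simp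
  have hη0 : ((η r : ℤ) : K) ≠ 0 := by
    rcases hAut.eta1 r hr with h | h <;> rw [h] <;> simp
  refine ⟨((η r' : ℤ) : K) * f c * ((η r : ℤ) : K),
    mul_ne_zero (mul_ne_zero hη' ((map_ne_zero f).mpr hc)) hη0, fun t => ?_⟩
  have h2 := congrArg (h8Sig D σ τ π ϖ η hAut f) (h1 (f.symm (((η r : ℤ) : K) * t)))
  rw [map_mul, map_mul, map_inv, h8Sig_xU D σ τ π ϖ η hAut f hB r hr,
    h8Sig_xU D σ τ π ϖ η hAut f hB r' hr', RingEquiv.apply_symm_apply, map_mul,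
    RingEquiv.apply_symm_apply, ← mul_assoc, hη, one_mul] at h2
  rw [h2]
  congr 1
  ring

end

end Cfsg.Agent.Lib.helper8
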