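import Mathlib
import Cfsg.Prelude.Def_ChevStructure
import Cfsg.Agent.Lib.helper8.ChevTw4
import Cfsg.Agent.Lib.helper8.ChevTw5

set_option autoImplicit false

namespace Cfsg.Agent.Lib.helper8

open Cfsg.Lie Cfsg.Lie.ChevalleyDatum Cfsg.Agent.Lib.helper8.H3

universe u

variable {K : Type u} [Field K]

/-- `N¹/H¹ ≅ W¹` for a subgroup fixed by the twisting endomorphism and containing the orbit
representatives `n_J` -/
theorem h8tw_weyl_main (D : ChevalleyDatum) (hB : H8Base.{u} D) (hB0 : H8Base.{0} D)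
    (hA : H8ReflAll D) (hBN : H8BN D) (hW : H8BN2 D) (hO2 : H8Ord2 D)
    (σ τ π ϖ : ℕ → ℕ) (η : ℕ → ℤ) (hAut : H8Aut D σ τ π ϖ η) (f : K ≃+* K)
    (ρ : Equiv.Perm (Fin D.nroots)) (hρ : ∀ r, (ρ r).val = σ r.val)
    (πF : Fin D.rank → Fin D.rank) (orbs : List (List (Fin D.rank)))
    (T : H8Tw D hA hBN ρ πF orbs)
    (G1 : Subgroup (GL D.Idx K))
    (hfix : ∀ g ∈ G1, h8Sig D σ τ π ϖ η hAut f g = g)
    (hnJ : ∀ J ∈ orbs, (h8nWU D hB (J.map Fin.val) : GL D.Idx K) ∈ G1)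
    (M : CoxeterMatrix (Fin orbs.length))
    (hM : ∀ k l, M k l = orderOf (h8wF D hA (orbs.get k) * h8wF D hA (orbs.get l))) :
    ∃ φ : ↥(D.monomialSubgroup K ⊓ G1) →* M.Group, Function.Surjective φ ∧
      φ.ker = (D.diagonalSubgroup K ⊓ G1).subgroupOf (D.monomialSubgroup K ⊓ G1) := by
  obtain ⟨cs, hcs⟩ := h8tw_cox D hB0 hA hBN hW hO2 ρ πF orbs T M hM
  have hmemN : ∀ n : ↥(D.monomialSubgroup K ⊓ G1), n.val ∈ D.monomialSubgroup K :=
    fun n => n.2.1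
  have hW1 : ∀ n : ↥(D.monomialSubgroup K ⊓ G1),
      h8Pi D hB hA hBN hW hO2 ⟨n.val, hmemN n⟩ ∈ h8W1 D hA orbs := by
    intro n
    have hWm := h8Pi_mem_W D hB hA hBN hW hO2 ⟨n.val, hmemN n⟩
    have hcomm : ∀ r, h8Pi D hB hA hBN hW hO2 ⟨n.val, hmemN n⟩ (ρ r) =
        ρ (h8Pi D hB hA hBN hW hO2 ⟨n.val, hmemN n⟩ r) := by
      intro r
      have h1 := h8Pi_act D hB hA hBN hW hO2 ⟨n.val, hmemN n⟩ r
      have h2 := h8Sig_act D σ τ π ϖ η hAut f hB n.val _ _ r.2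
        ((h8Pi D hB hA hBN hW hO2 ⟨n.val, hmemN n⟩) r).2 h1
      rw [hfix n.val n.2.2, ← hρ, ← hρ] at h2
      have h3 := h8Pi_act D hB hA hBN hW hO2 ⟨n.val, hmemN n⟩ (ρ r)
      apply Fin.ext
      exact h8act_unique D hB hA hBN hW hO2 n.val (ρ r).val _ _
        ((h8Pi D hB hA hBN hW hO2 ⟨n.val, hmemN n⟩) (ρ r)).2 (ρ _).2 h3 h2
    have hρc : ρ * h8Pi D hB hA hBN hW hO2 ⟨n.val, hmemN n⟩ * ρ⁻¹ =
        h8Pi D hB hA hBN hW hO2 ⟨n.val, hmemN n⟩ := by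
      apply Equiv.ext
      intro r
      rw [Equiv.Perm.mul_apply, Equiv.Perm.mul_apply, ← hcomm]
      simp
    exact h8tw_cent D hB0 hA hBN hW hO2 ρ πF orbs T _ _ hWm hρc rfl
  let Pr : ↥(D.monomialSubgroup K ⊓ G1) →* ↥(h8W1 D hA orbs) :=
    ((h8Pi D hB hA hBN hW hO2).comp (Subgroup.inclusion inf_le_left)).codRestrict
      (h8W1 D hA orbs) hW1
  have hPr : ∀ n, (Pr n).val = h8Pi D hB hA hBN hW hO2 ⟨n.val, hmemN n⟩ := fun n => rfl
  have hsurj : Function.Surjective Pr := by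
    intro x
    have : ∀ y ∈ h8W1 D hA orbs, ∃ n, (Pr n).val = y := by
      intro y hy
      unfold h8W1 at hy
      induction hy using Subgroup.closure_induction with
      | mem y hy =>
        obtain ⟨J, hJ, rfl⟩ := hy
        have hlt : ∀ i ∈ J.map Fin.val, i < D.rank := by
          intro i hi
          rw [List.mem_map] at hi
          obtain ⟨j, _, rfl⟩ := hi
          exact j.2
        have hN := h8nWU_mem_N (F := K) D hB hA (J.map Fin.val) hlt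
        refine ⟨⟨h8nWU D hB (J.map Fin.val), ⟨hN, hnJ J hJ⟩⟩, ?_⟩
        rw [hPr]
        exact h8Pi_nWU D hB hA hBN hW hO2 _ hlt
      | one => exact ⟨1, by rw [map_one]; rfl⟩
      | mul a b _ _ ha hb =>
        obtain ⟨na, hna⟩ := ha
        obtain ⟨nb, hnb⟩ := hb
        exact ⟨na * nb, by rw [map_mul, Subgroup.coe_mul, hna, hnb]⟩
      | inv a _ ha =>
        obtain ⟨na, hna⟩ := ha
        exact ⟨na⁻¹, by rw [map_inv, Subgroup.coe_inv, hna]⟩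
    obtain ⟨n, hn⟩ := this x.val x.2
    exact ⟨n, Subtype.ext hn⟩
  refine ⟨cs.mulEquiv.toMonoidHom.comp Pr, ?_, ?_⟩
  · intro x
    obtain ⟨n, hn⟩ := hsurj (cs.mulEquiv.symm x)
    refine ⟨n, ?_⟩
    show cs.mulEquiv (Pr n) = x
    rw [hn, MulEquiv.apply_symm_apply]
  · ext g
    rw [MonoidHom.mem_ker, Subgroup.mem_subgroupOf]
    show cs.mulEquiv (Pr g) = 1 ↔ _
    rw [map_eq_one_iff cs.mulEquiv cs.mulEquiv.injective]
    constructor
    · intro h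
      refine ⟨?_, g.2.2⟩
      apply h8Pi_ker D hB hA hBN hW hO2 ⟨g.val, hmemN g⟩
      rw [← hPr, h]
      rfl
    · intro h
      apply Subtype.ext
      rw [hPr, h8Pi_H D hB hA hBN hW hO2 ⟨g.val, hmemN g⟩ h.1]
      rfl

end Cfsg.Agent.Lib.helper8
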