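import Mathlib
import Cfsg.Prelude.Def_ChevStructure
import Cfsg.Agent.Lib.helper8.ChevTw6
import Cfsg.Agent.Lib.helper8.ChevCommOrb

set_option autoImplicit false

namespace Cfsg.Agent.Lib.helper8

open Cfsg.Lie Cfsg.Lie.ChevalleyDatum Cfsg.Agent.Lib.helper8.H3

universe u

variable {K : Type u} [Field K]

/-- the permutation of the roots belonging to graph automorphism data -/
def h8mkRho (D : ChevalleyDatum) (σ τ π ϖ : ℕ → ℕ) (η : ℕ → ℤ) (hAut : H8Aut D σ τ π ϖ η) :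
    Equiv.Perm (Fin D.nroots) where
  toFun r := ⟨σ r.val, hAut.lt r.val r.2⟩
  invFun r := ⟨τ r.val, hAut.tlt r.val r.2⟩
  left_inv r := Fin.ext (hAut.ts r.val r.2)
  right_inv r := Fin.ext (hAut.st r.val r.2)

theorem h8mkRho_val (D : ChevalleyDatum) (σ τ π ϖ : ℕ → ℕ) (η : ℕ → ℤ)
    (hAut : H8Aut D σ τ π ϖ η) (r : Fin D.nroots) :
    (h8mkRho D σ τ π ϖ η hAut r).val = σ r.val := rfl

theorem h8mkRho_inv_val (D : ChevalleyDatum) (σ τ π ϖ : ℕ → ℕ) (η : ℕ → ℤ)
    (hAut : H8Aut D σ τ π ϖ η) (r : Fin D.nroots) :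
    ((h8mkRho D σ τ π ϖ η hAut)⁻¹ r).val = τ r.val := rfl

theorem h8mkRho_conj (D : ChevalleyDatum) (hA : H8ReflAll D) (σ τ π ϖ : ℕ → ℕ) (η : ℕ → ℤ)
    (hAut : H8Aut D σ τ π ϖ η) (j k : ℕ) (hj : j < D.rank) (hk : k < D.rank)
    (h : ∀ r < D.nroots, σ (D.reflectRoot j r) = D.reflectRoot k (σ r)) :
    h8mkRho D σ τ π ϖ η hAut * h8sPerm D hA j * (h8mkRho D σ τ π ϖ η hAut)⁻¹ =
      h8sPerm D hA k := by
  apply Equiv.ext
  intro r
  apply Fin.ext
  rw [Equiv.Perm.mul_apply, Equiv.Perm.mul_apply, h8mkRho_val, h8sPerm_val D hA j hj,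
    h8mkRho_inv_val, h8sPerm_val D hA k hk, h _ (hAut.tlt r.val r.2), hAut.st r.val r.2]

/-- root elements of two roots with trivial commutator formula commute -/
theorem h8xU_commute (D : ChevalleyDatum) (hB : H8Base.{u} D) (hC : H8CommAll.{u} D) (r s : ℕ)
    (hr : r < D.nroots) (hs : s < D.nroots) (hne : s ≠ r) (hneg : s ≠ D.negIdx.getD r 0)
    (hterms : D.commTerms r s = []) (t u : K) :
    Commute (h8xU D hB r t) (h8xU D hB s u) := by
  have h := hC.all r hr s hs hne hneg K t u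
  have e : D.commWord K r s t u = [] := by
    unfold ChevalleyDatum.commWord
    rw [hterms]
    rfl
  rw [e, h8wordMat_nil, mul_one] at h
  show h8xU D hB r t * h8xU D hB s u = h8xU D hB s u * h8xU D hB r t
  apply Units.ext
  rw [Units.val_mul, Units.val_mul, h8xU_val, h8xU_val]
  exact h.symm

section
variable (D : ChevalleyDatum) (σ τ π ϖ : ℕ → ℕ) (η : ℕ → ℤ) (hAut : H8Aut D σ τ π ϖ η)
  (f : K ≃+* K)

theorem h8Sig_fix1 (hB : H8Base.{u} D) (r : ℕ) (hr : r < D.nroots) (hσ : σ r = r)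
    (hη : η r = 1) (t : K) (ht : f t = t) :
    h8Sig D σ τ π ϖ η hAut f (h8xU D hB r t) = h8xU D hB r t := by
  rw [h8Sig_xU D σ τ π ϖ η hAut f hB r hr, hσ, hη, ht, Int.cast_one, one_mul]

theorem h8Sig_fix2 (hB : H8Base.{u} D) (r r' : ℕ) (hr : r < D.nroots) (hr' : r' < D.nroots)
    (hσ : σ r = r') (hσ' : σ r' = r) (hη : η r = 1) (hη' : η r' = 1)
    (hcomm : ∀ a b : K, Commute (h8xU D hB r a) (h8xU D hB r' b)) (t : K) (ht : f (f t) = t) :
    h8Sig D σ τ π ϖ η hAut f (h8xU D hB r t * h8xU D hB r' (f t)) =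
      h8xU D hB r t * h8xU D hB r' (f t) := by
  rw [map_mul, h8Sig_xU D σ τ π ϖ η hAut f hB r hr, h8Sig_xU D σ τ π ϖ η hAut f hB r' hr', hσ,
    hσ', hη, hη', ht, Int.cast_one, one_mul, one_mul]
  exact ((hcomm t (f t)).eq).symm

theorem h8Sig_fix3 (hB : H8Base.{u} D) (r1 r2 r3 : ℕ) (h1 : r1 < D.nroots) (h2 : r2 < D.nroots)
    (h3 : r3 < D.nroots) (hσ1 : σ r1 = r2) (hσ2 : σ r2 = r3) (hσ3 : σ r3 = r1)
    (hη1 : η r1 = 1) (hη2 : η r2 = 1) (hη3 : η r3 = 1)
    (hc12 : ∀ a b : K, Commute (h8xU D hB r1 a) (h8xU D hB r2 b))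
    (hc13 : ∀ a b : K, Commute (h8xU D hB r1 a) (h8xU D hB r3 b))
    (t : K) (ht : f (f (f t)) = t) :
    h8Sig D σ τ π ϖ η hAut f (h8xU D hB r1 t * h8xU D hB r2 (f t) * h8xU D hB r3 (f (f t))) =
      h8xU D hB r1 t * h8xU D hB r2 (f t) * h8xU D hB r3 (f (f t)) := by
  rw [map_mul, map_mul, h8Sig_xU D σ τ π ϖ η hAut f hB r1 h1,
    h8Sig_xU D σ τ π ϖ η hAut f hB r2 h2, h8Sig_xU D σ τ π ϖ η hAut f hB r3 h3, hσ1, hσ2, hσ3,
    hη1, hη2, hη3, ht, Int.cast_one, one_mul, one_mul, one_mul]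
  have e1 := (hc12 t (f t)).eq
  have e2 := (hc13 t (f (f t))).eq
  calc h8xU D hB r2 (f t) * h8xU D hB r3 (f (f t)) * h8xU D hB r1 t
      = h8xU D hB r2 (f t) * (h8xU D hB r1 t * h8xU D hB r3 (f (f t))) := by
        rw [mul_assoc, e2]
    _ = h8xU D hB r1 t * h8xU D hB r2 (f t) * h8xU D hB r3 (f (f t)) := by
        rw [← mul_assoc, ← e1]

end

/-! ### the order of a word in the Weyl group -/

def h8repW (w : List ℕ) : ℕ → List ℕ
  | 0 => []
  | k + 1 => w ++ h8repW w k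

theorem h8repW_mem (w : List ℕ) (k : ℕ) (x : ℕ) (hx : x ∈ h8repW w k) : x ∈ w := by
  induction k with
  | zero => cases hx
  | succ k ih =>
    rw [h8repW] at hx
    rcases List.mem_append.mp hx with h | h
    · exact h
    · exact ih h

theorem h8wPerm_append (D : ChevalleyDatum) (hA : H8ReflAll D) (w1 w2 : List ℕ) :
    h8wPerm D hA (w1 ++ w2) = h8wPerm D hA w1 * h8wPerm D hA w2 := by
  unfold h8wPerm
  rw [List.map_append, List.prod_append]

theorem h8wPerm_repW (D : ChevalleyDatum) (hA : H8ReflAll D) (w : List ℕ) (k : ℕ) :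
    h8wPerm D hA (h8repW w k) = (h8wPerm D hA w) ^ k := by
  induction k with
  | zero => rfl
  | succ k ih => rw [h8repW, h8wPerm_append, ih, pow_succ']

def h8ordChkW (D : ChevalleyDatum) (w : List ℕ) (m : ℕ) : Bool :=
  decide (0 < m) &&
  ((List.range D.nroots).all fun r => decide (h8sgW D (h8repW w m) r = r)) &&
  ((List.range m).all fun k => decide (k = 0) ||
    (List.range D.nroots).any fun r => decide (h8sgW D (h8repW w k) r ≠ r))

theorem h8ordChkW_spec (D : ChevalleyDatum) (hA : H8ReflAll D) (h256 : D.nroots ≤ 256)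
    (w : List ℕ) (m : ℕ) (hw : ∀ i ∈ w, i < D.rank) (h : h8ordChkW D w m = true) :
    orderOf (h8wPerm D hA w) = m := by
  unfold h8ordChkW at h
  simp only [Bool.and_eq_true, Bool.or_eq_true, decide_eq_true_eq, List.all_eq_true,
    List.any_eq_true, List.mem_range] at h
  obtain ⟨⟨hm, h1⟩, h2⟩ := h
  have hrep : ∀ k, ∀ x ∈ h8repW w k, x < D.rank := fun k x hx => hw x (h8repW_mem w k x hx)
  have hval : ∀ k (r : Fin D.nroots),
      (((h8wPerm D hA w) ^ k) r).val = h8sgW D (h8repW w k) r.val := by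
    intro k r
    rw [← h8wPerm_repW, h8wPerm_val D hA _ (hrep k), h8sgW_eq D hA h256 _ (hrep k) _ r.2]
  rw [orderOf_eq_iff hm]
  refine ⟨?_, ?_⟩
  · apply Equiv.ext
    intro r
    apply Fin.ext
    rw [hval, Equiv.Perm.one_apply]
    exact h1 r.val r.2
  · intro k hk hk0 e
    rcases h2 k hk with h0 | ⟨r, hr, hne⟩
    · omega
    · apply hne
      have := hval k ⟨r, hr⟩
      rw [e, Equiv.Perm.one_apply] at this
      exact this.symm

def h8twOrdChk (D : ChevalleyDatum) (orbs : List (List (Fin D.rank)))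
    (M : CoxeterMatrix (Fin orbs.length)) : Bool :=
  decide (D.nroots ≤ 256) && (List.finRange orbs.length).all fun k =>
    (List.finRange orbs.length).all fun l =>
      h8ordChkW D ((orbs.get k).map Fin.val ++ (orbs.get l).map Fin.val) (M k l)

theorem h8twOrdChk_spec (D : ChevalleyDatum) (hA : H8ReflAll D)
    (orbs : List (List (Fin D.rank))) (M : CoxeterMatrix (Fin orbs.length))
    (h : h8twOrdChk D orbs M = true) (k l : Fin orbs.length) :
    M k l = orderOf (h8wF D hA (orbs.get k) * h8wF D hA (orbs.get l)) := by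
  unfold h8twOrdChk at h
  simp only [Bool.and_eq_true, decide_eq_true_eq, List.all_eq_true, List.mem_finRange,
    forall_const] at h
  obtain ⟨h256, hall⟩ := h
  have hlt : ∀ i ∈ (orbs.get k).map Fin.val ++ (orbs.get l).map Fin.val, i < D.rank := by
    intro i hi
    rcases List.mem_append.mp hi with hi | hi <;>
    · rw [List.mem_map] at hi
      obtain ⟨j, _, rfl⟩ := hi
      exact j.2
  have := h8ordChkW_spec D hA h256 _ (M k l) hlt (hall k l)
  rw [h8wPerm_append] at this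
  exact this.symm

end Cfsg.Agent.Lib.helper8
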