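import Mathlib
import Cfsg.Prelude.Def_ChevStructure
import Cfsg.Agent.Lib.helper8.ChevTw7
import Cfsg.Agent.Lib.helper8.ChevBr4

set_option autoImplicit false

namespace Cfsg.Agent.Lib.helper8

open Cfsg.Lie Cfsg.Lie.ChevalleyDatum

universe u

variable {K : Type u} [Field K]

section
variable (D : ChevalleyDatum) (hB : H8Base.{u} D) (hBN : H8BN D) (hO2 : H8Ord2 D)
  (σ τ π ϖ : ℕ → ℕ) (η : ℕ → ℤ) (hAut : H8Aut D σ τ π ϖ η) (f : K ≃+* K)
  (hσpos : ∀ r, D.IsPosRoot r → D.IsPosRoot (σ r))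

theorem h8Sig_nU (r : ℕ) (hr : r < D.nroots) (c : K) :
    h8Sig D σ τ π ϖ η hAut f (h8nU D hB r c) = h8nU D hB (σ r) (((η r : ℤ) : K) * f c) := by
  have hnr := hAut.neglt r hr
  have hηeq : η (D.negIdx.getD r 0) = η r :=
    (h8eta_eq_of_mul _ _ (hAut.eta1 r hr) (hAut.eta1 _ hnr) (hAut.etaneg r hr)).symm
  rw [h8nU_eq, h8nU_eq, map_mul, map_mul, h8Sig_xU D σ τ π ϖ η hAut f hB r hr,
    h8Sig_xU D σ τ π ϖ η hAut f hB _ hnr, hAut.negc r hr, hηeq]
  congr 3
  rw [map_neg, map_inv₀, mul_inv]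
  have : (((η r : ℤ) : K))⁻¹ = ((η r : ℤ) : K) := by
    rcases hAut.eta1 r hr with h | h <;> rw [h] <;> simp
  rw [this]
  ring

include hB in
theorem h8Sig_H (g : GL D.Idx K) (hg : g ∈ D.diagonalSubgroup K) :
    h8Sig D σ τ π ϖ η hAut f g ∈ D.diagonalSubgroup K := by
  have h : D.diagonalSubgroup K ≤ (D.diagonalSubgroup K).comap (h8Sig D σ τ π ϖ η hAut f) := by
    conv_lhs => unfold ChevalleyDatum.diagonalSubgroup
    rw [Subgroup.closure_le]
    rintro x ⟨r, c, hr, hc, hx⟩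
    have hx' : x = h8hU D hB r c := Units.ext (hx.trans (h8hU_val D hB r c).symm)
    show h8Sig D σ τ π ϖ η hAut f x ∈ D.diagonalSubgroup K
    have e : h8hU D hB r c = h8nU D hB r c * h8nU D hB r (-1) := by
      unfold h8hU ChevalleyDatum.hWord
      rw [h8wordU_append]
      rfl
    rw [hx', e, map_mul, h8Sig_nU D hB σ τ π ϖ η hAut f r hr, h8Sig_nU D hB σ τ π ϖ η hAut f r hr,
      map_neg, map_one]
    have hs := hAut.lt r hr
    have hfc : f c ≠ 0 := (map_ne_zero f).mpr hc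
    rcases hAut.eta1 r hr with h1 | h1
    · rw [h1, Int.cast_one, one_mul, one_mul]
      have e2 : h8hU D hB (σ r) (f c) = h8nU D hB (σ r) (f c) * h8nU D hB (σ r) (-1) := by
        unfold h8hU ChevalleyDatum.hWord
        rw [h8wordU_append]
        rfl
      rw [← e2]
      exact h8hU_mem_H D hB _ hs _ hfc
    · rw [h1, Int.cast_neg, Int.cast_one, neg_one_mul, neg_one_mul, neg_neg, h8nU_eq_hU,
        mul_assoc]
      exact Subgroup.mul_mem _ (h8hU_mem_H D hB _ hs _ (neg_ne_zero.mpr hfc))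
        (h8nU_sq_mem_H D hB _ hs)
  exact h hg

include hB in
theorem h8Sig_N (g : GL D.Idx K) (hg : g ∈ D.monomialSubgroup K) :
    h8Sig D σ τ π ϖ η hAut f g ∈ D.monomialSubgroup K := by
  have h : D.monomialSubgroup K ≤ (D.monomialSubgroup K).comap (h8Sig D σ τ π ϖ η hAut f) := by
    conv_lhs => unfold ChevalleyDatum.monomialSubgroup
    rw [sup_le_iff]
    constructor
    · intro x hx
      exact h8H_le_N D (h8Sig_H D hB σ τ π ϖ η hAut f x hx)
    · rw [Subgroup.closure_le]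
      rintro x ⟨r, hr, hx⟩
      have hx' : x = h8nU D hB r 1 := Units.ext (hx.trans (h8nU_val D hB r 1).symm)
      show h8Sig D σ τ π ϖ η hAut f x ∈ D.monomialSubgroup K
      rw [hx', h8Sig_nU D hB σ τ π ϖ η hAut f r hr, map_one, mul_one, h8nU_eq_hU]
      have hs := hAut.lt r hr
      refine Subgroup.mul_mem _ (h8H_le_N D (h8hU_mem_H D hB _ hs _ ?_)) (h8nU_mem_N D hB _ hs)
      rcases hAut.eta1 r hr with h1 | h1 <;> rw [h1] <;> simp
  exact h hg

include hB hσpos in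
theorem h8Sig_U (g : GL D.Idx K) (hg : g ∈ D.posUnipotent K) :
    h8Sig D σ τ π ϖ η hAut f g ∈ D.posUnipotent K := by
  have h : D.posUnipotent K ≤ (D.posUnipotent K).comap (h8Sig D σ τ π ϖ η hAut f) := by
    conv_lhs => unfold ChevalleyDatum.posUnipotent
    rw [Subgroup.closure_le]
    rintro x ⟨r, t, hr, hx⟩
    have hx' : x = h8xU D hB r t := Units.ext (hx.trans (h8xU_val D hB r t).symm)
    show h8Sig D σ τ π ϖ η hAut f x ∈ D.posUnipotent K
    rw [hx', h8Sig_xU D σ τ π ϖ η hAut f hB r hr.1 t]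
    exact h8xU_mem_U D hB _ (hσpos r hr) _
  exact h hg

include hB hBN hO2 hσpos hAut in
theorem h8sig_neg (r : ℕ) (hr : D.IsNegRoot r) : D.IsNegRoot (σ r) := by
  have h1 := h8pos_of_neg D hB hBN hO2 r hr
  have h2 := hσpos _ h1
  rw [hAut.negc r hr.1] at h2
  have h3 := h8neg_of_pos D hB hO2 _ h2
  rw [(hO2.negneg _ (hAut.lt r hr.1)).2] at h3
  exact h3

include hB hBN hO2 hσpos in
theorem h8Sig_V (g : GL D.Idx K) (hg : g ∈ D.negUnipotent K) :
    h8Sig D σ τ π ϖ η hAut f g ∈ D.negUnipotent K := by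
  have h : D.negUnipotent K ≤ (D.negUnipotent K).comap (h8Sig D σ τ π ϖ η hAut f) := by
    conv_lhs => unfold ChevalleyDatum.negUnipotent
    rw [Subgroup.closure_le]
    rintro x ⟨r, t, hr, hx⟩
    have hx' : x = h8xU D hB r t := Units.ext (hx.trans (h8xU_val D hB r t).symm)
    show h8Sig D σ τ π ϖ η hAut f x ∈ D.negUnipotent K
    rw [hx', h8Sig_xU D σ τ π ϖ η hAut f hB r hr.1 t]
    exact h8xU_mem_V D hB _ (h8sig_neg D hB hBN hO2 σ τ π ϖ η hAut hσpos r hr) _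
  exact h hg

include hB hBN hO2 hσpos in
theorem h8Sig_Um (n : GL D.Idx K) (g : GL D.Idx K) (hg : g ∈ Subgroup.closure (h8UmSet D K n)) :
    h8Sig D σ τ π ϖ η hAut f g ∈
      Subgroup.closure (h8UmSet D K (h8Sig D σ τ π ϖ η hAut f n)) := by
  have h : Subgroup.closure (h8UmSet D K n) ≤
      (Subgroup.closure (h8UmSet D K (h8Sig D σ τ π ϖ η hAut f n))).comap
        (h8Sig D σ τ π ϖ η hAut f) := by
    rw [Subgroup.closure_le]
    rintro x ⟨r, t, hr, hle, hx⟩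
    have hx' : x = h8xU D hB r t := Units.ext (hx.trans (h8xU_val D hB r t).symm)
    show h8Sig D σ τ π ϖ η hAut f x ∈
      Subgroup.closure (h8UmSet D K (h8Sig D σ τ π ϖ η hAut f n))
    rw [hx', h8Sig_xU D σ τ π ϖ η hAut f hB r hr.1 t]
    apply Subgroup.subset_closure
    refine ⟨σ r, _, hσpos r hr, ?_, h8xU_val D hB _ _⟩
    rintro y ⟨z, hz, rfl⟩
    obtain ⟨c, rfl⟩ := h8rootSubgroup_mem D hB _ (hAut.lt r hr.1) z hz
    have hη : ((η r : ℤ) : K) * ((η r : ℤ) : K) = 1 := h8eta_sq _ (hAut.eta1 r hr.1)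
    have e : h8xU D hB (σ r) c =
        h8Sig D σ τ π ϖ η hAut f (h8xU D hB r (f.symm (((η r : ℤ) : K) * c))) := by
      rw [h8Sig_xU D σ τ π ϖ η hAut f hB r hr.1, RingEquiv.apply_symm_apply, ← mul_assoc, hη,
        one_mul]
    show (MulAut.conj (h8Sig D σ τ π ϖ η hAut f n)) (h8xU D hB (σ r) c) ∈ D.negUnipotent K
    rw [e, MulAut.conj_apply, ← map_inv, ← map_mul, ← map_mul]
    apply h8Sig_V D hB hBN hO2 σ τ π ϖ η hAut f hσpos
    apply hle
    exact ⟨_, h8xU_mem_rootSubgroup D hB r _, by rw [MulEquiv.coe_toMonoidHom, MulAut.conj_apply]⟩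
  exact h hg

end

end Cfsg.Agent.Lib.helper8
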