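import Mathlib
import Cfsg.Prelude.Def_ChevStructure
import Cfsg.Agent.Lib.helper8.ChevTwB1
import Cfsg.Agent.Lib.helper8.ChevMono

set_option autoImplicit false

namespace Cfsg.Agent.Lib.helper8

open Cfsg.Lie Cfsg.Lie.ChevalleyDatum

universe u

variable {K : Type u} [Field K]

section
variable (D : ChevalleyDatum) (hB : H8Base.{u} D) (hA : H8ReflAll D) (hC : H8CommAll.{u} D)
  (hBN : H8BN D) (hW : H8BN2 D) (hO : H8Ord D) (hO2 : H8Ord2 D)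
  (σ τ π ϖ : ℕ → ℕ) (η : ℕ → ℤ) (hAut : H8Aut D σ τ π ϖ η) (f : K ≃+* K)
  (hσpos : ∀ r, D.IsPosRoot r → D.IsPosRoot (σ r))

include hB hA hC hBN hW hO hO2 hσpos in
/-- the Bruhat normal form of a fixed point of the twisting endomorphism has fixed components -/
theorem h8tw_normal (g : GL D.Idx K) (hg : g ∈ D.group K)
    (hfix : h8Sig D σ τ π ϖ η hAut f g = g) :
    ∃ u1 ∈ D.posUnipotent K, ∃ m ∈ D.monomialSubgroup K,
      ∃ u ∈ Subgroup.closure (h8UmSet D K m), g = u1 * m * u ∧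
        h8Sig D σ τ π ϖ η hAut f u1 = u1 ∧ h8Sig D σ τ π ϖ η hAut f m = m ∧
        h8Sig D σ τ π ϖ η hAut f u = u := by
  obtain ⟨b, hb, n, hn, u, hu, rfl⟩ := h8normal_exists D hB hA hC hBN hW hO g hg
  have hmemB : b ∈ ((D.posUnipotent K ⊔ D.diagonalSubgroup K : Subgroup (GL D.Idx K)) :
      Set (GL D.Idx K)) := hb
  rw [Subgroup.coe_mul_of_right_le_normalizer_left _ _ (h8_H_le_normalizer_U D hB)] at hmemB
  obtain ⟨u1, hu1, t, ht, rfl⟩ := hmemB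
  have hm : t * n * 1 ∈ D.monomialSubgroup K :=
    Subgroup.mul_mem _ (Subgroup.mul_mem _ (h8H_le_N D ht) hn) (Subgroup.one_mem _)
  have hu' : u ∈ Subgroup.closure (h8UmSet D K (t * n * 1)) :=
    Subgroup.closure_mono (h8UmSet_mono_H D hB n t 1 ht (Subgroup.one_mem _)) hu
  have e : u1 * t * n * u = u1 * (t * n * 1) * u := by group
  rw [e] at hfix ⊢
  rw [map_mul, map_mul] at hfix
  obtain ⟨h1, h2, h3⟩ := h8normal_unique_strong D hB hA hC hBN _ u1 _ (t * n * 1) _ u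
    (h8Sig_U D hB σ τ π ϖ η hAut f hσpos u1 hu1) hu1
    (h8Sig_N D hB σ τ π ϖ η hAut f _ hm) hm
    (h8Sig_Um D hB hBN hO2 σ τ π ϖ η hAut f hσpos _ u hu') hu' hfix
  exact ⟨u1, hu1, t * n * 1, hm, u, hu', rfl, h2, h1, h3⟩

include hB hA hC hBN hW hO hO2 hσpos in
/-- the Bruhat normal form inside a subgroup of fixed points containing the fixed points of `U` -/
theorem h8tw_normal_G1 (G1 : Subgroup (GL D.Idx K)) (hG1 : G1 ≤ D.group K)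
    (hfix : ∀ g ∈ G1, h8Sig D σ τ π ϖ η hAut f g = g)
    (hUfix : ∀ g ∈ D.posUnipotent K, h8Sig D σ τ π ϖ η hAut f g = g → g ∈ G1)
    (g : GL D.Idx K) (hg : g ∈ G1) :
    ∃ u1 ∈ D.posUnipotent K ⊓ G1, ∃ m ∈ D.monomialSubgroup K ⊓ G1,
      ∃ u ∈ Subgroup.closure (h8UmSet D K m), u ∈ G1 ∧ g = u1 * m * u := by
  obtain ⟨u1, hu1, m, hm, u, hu, e, f1, f2, f3⟩ := h8tw_normal D hB hA hC hBN hW hO hO2
    σ τ π ϖ η hAut f hσpos g (hG1 hg) (hfix g hg)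
  have h1 : u1 ∈ G1 := hUfix u1 hu1 f1
  have h3 : u ∈ G1 := hUfix u (h8Um_le_U D m hu) f3
  have h2 : m ∈ G1 := by
    have : m = u1⁻¹ * g * u⁻¹ := by rw [e]; group
    rw [this]
    exact Subgroup.mul_mem _ (Subgroup.mul_mem _ (Subgroup.inv_mem _ h1) hg) (Subgroup.inv_mem _ h3)
  exact ⟨u1, ⟨hu1, h1⟩, m, ⟨hm, h2⟩, u, hu, h3, e⟩

include hB hA hBN hσpos in
/-- `B ∩ G¹ = (U ∩ G¹)(H ∩ G¹)` -/
theorem h8tw_borel_G1 (G1 : Subgroup (GL D.Idx K))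
    (hfix : ∀ g ∈ G1, h8Sig D σ τ π ϖ η hAut f g = g)
    (hUfix : ∀ g ∈ D.posUnipotent K, h8Sig D σ τ π ϖ η hAut f g = g → g ∈ G1)
    (b : GL D.Idx K) (hb : b ∈ D.borelSubgroup K ⊓ G1) :
    ∃ u ∈ D.posUnipotent K ⊓ G1, ∃ h ∈ D.diagonalSubgroup K ⊓ G1, b = u * h := by
  obtain ⟨hb1, hb2⟩ := hb
  have hmemB : b ∈ ((D.posUnipotent K ⊔ D.diagonalSubgroup K : Subgroup (GL D.Idx K)) :
      Set (GL D.Idx K)) := hb1
  rw [Subgroup.coe_mul_of_right_le_normalizer_left _ _ (h8_H_le_normalizer_U D hB)] at hmemB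
  obtain ⟨u, hu, t, ht, rfl⟩ := hmemB
  have hf := hfix _ hb2
  rw [map_mul] at hf
  have hsu := h8Sig_U D hB σ τ π ϖ η hAut f hσpos u hu
  have hst := h8Sig_H D hB σ τ π ϖ η hAut f t ht
  obtain ⟨dep, par, horb⟩ := hBN.orb
  have hUN := h8_U_inf_N (F := K) D hB hA dep par horb
  have hmem : u⁻¹ * h8Sig D σ τ π ϖ η hAut f u ∈ D.posUnipotent K ⊓ D.monomialSubgroup K := by
    refine ⟨Subgroup.mul_mem _ (Subgroup.inv_mem _ hu) hsu, ?_⟩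
    have : u⁻¹ * h8Sig D σ τ π ϖ η hAut f u = t * (h8Sig D σ τ π ϖ η hAut f t)⁻¹ := by
      rw [inv_mul_eq_iff_eq_mul, ← mul_assoc, eq_mul_inv_iff_mul_eq]
      exact hf
    rw [this]
    exact h8H_le_N D (Subgroup.mul_mem _ ht (Subgroup.inv_mem _ hst))
  rw [hUN, Subgroup.mem_bot, inv_mul_eq_one] at hmem
  have hu1 : u ∈ G1 := hUfix u hu hmem.symm
  have ht1 : t ∈ G1 := by
    have : t = u⁻¹ * (u * t) := by group
    rw [this]
    exact Subgroup.mul_mem _ (Subgroup.inv_mem _ hu1) hb2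
  exact ⟨u, ⟨hu, hu1⟩, t, ⟨ht, ht1⟩, rfl⟩

end

end Cfsg.Agent.Lib.helper8
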