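import Mathlib
import Cfsg.Prelude.Def_ChevStructure
import Cfsg.Agent.Lib.helper8.ChevTwB2
import Cfsg.Agent.Lib.helper8.ChevTw6

set_option autoImplicit false

namespace Cfsg.Agent.Lib.helper8

open Cfsg.Lie Cfsg.Lie.ChevalleyDatum

universe u

variable {K : Type u} [Field K]

/-- the Bruhat cells met by `(B n_w B)(B n B)` -/
theorem h8bn_word (D : ChevalleyDatum) (hB : H8Base.{u} D) (hA : H8ReflAll D)
    (hC : H8CommAll.{u} D) (hBN : H8BN D) :
    ∀ (w : List ℕ), (∀ i ∈ w, i < D.rank) → ∀ (n : GL D.Idx K), n ∈ D.monomialSubgroup K →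
      ∀ b ∈ D.borelSubgroup K, ∃ sub : List ℕ, sub.Sublist w ∧
        ∃ b1 ∈ D.borelSubgroup K, ∃ b2 ∈ D.borelSubgroup K,
          h8nWU D hB w * b * n = b1 * (h8nWU D hB sub * n) * b2 := by
  intro w
  induction w with
  | nil =>
    intro _ n _ b hb
    refine ⟨[], List.Sublist.refl _, b, hb, 1, Subgroup.one_mem _, ?_⟩
    have : (h8nWU D hB [] : GL D.Idx K) = 1 := rfl
    rw [this, one_mul, one_mul, mul_one]
  | cons i w ih =>
    intro hw n hn b hb
    have hw' : ∀ j ∈ w, j < D.rank := fun j hj => hw j (List.mem_cons_of_mem _ hj)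
    have hi := hw i List.mem_cons_self
    obtain ⟨sub, hsub, b1, hb1, b2, hb2, e⟩ := ih hw' n hn b hb
    have hsubN : (h8nWU D hB sub : GL D.Idx K) * n ∈ D.monomialSubgroup K :=
      Subgroup.mul_mem _ (h8nWU_mem_N D hB hA sub (fun j hj => hw' j (hsub.subset hj))) hn
    have e1 : h8nWU D hB (i :: w) * b * n =
        (h8nU D hB (D.simple i) 1 * b1 * (h8nWU D hB sub * n)) * b2 := by
      rw [h8nWU_cons, mul_assoc, mul_assoc, ← mul_assoc (h8nWU D hB w), e]
      group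
    rcases h8bn_axiom D hB hA hC hBN i hi _ hsubN b1 hb1 with
      ⟨c1, hc1, c2, hc2, e2⟩ | ⟨c1, hc1, c2, hc2, e2⟩
    · refine ⟨i :: sub, hsub.cons₂ i, c1, hc1, c2 * b2, Subgroup.mul_mem _ hc2 hb2, ?_⟩
      rw [e1, e2, h8nWU_cons]
      group
    · refine ⟨sub, hsub.cons i, c1, hc1, c2 * b2, Subgroup.mul_mem _ hc2 hb2, ?_⟩
      rw [e1, e2]
      group

section
variable (D : ChevalleyDatum) (hB : H8Base.{u} D) (hB0 : H8Base.{0} D)
  (hA : H8ReflAll D) (hBN : H8BN D) (hW : H8BN2 D) (hO2 : H8Ord2 D)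
  (σ τ π ϖ : ℕ → ℕ) (η : ℕ → ℤ) (hAut : H8Aut D σ τ π ϖ η) (f : K ≃+* K)
  (ρ : Equiv.Perm (Fin D.nroots)) (hρ : ∀ r, (ρ r).val = σ r.val)
  (πF : Fin D.rank → Fin D.rank) (orbs : List (List (Fin D.rank)))
  (T : H8Tw D hA hBN ρ πF orbs)

include hρ in
/-- the permutation of a fixed point of the twisting endomorphism in `N` commutes with the
twist -/
theorem h8tw_Pi_comm (n : GL D.Idx K) (hn : n ∈ D.monomialSubgroup K)
    (hfix : h8Sig D σ τ π ϖ η hAut f n = n) :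
    ρ * h8Pi D hB hA hBN hW hO2 ⟨n, hn⟩ * ρ⁻¹ = h8Pi D hB hA hBN hW hO2 ⟨n, hn⟩ := by
  have hcomm : ∀ r, h8Pi D hB hA hBN hW hO2 ⟨n, hn⟩ (ρ r) =
      ρ (h8Pi D hB hA hBN hW hO2 ⟨n, hn⟩ r) := by
    intro r
    have h1 := h8Pi_act D hB hA hBN hW hO2 ⟨n, hn⟩ r
    have h2 := h8Sig_act D σ τ π ϖ η hAut f hB n _ _ r.2
      ((h8Pi D hB hA hBN hW hO2 ⟨n, hn⟩) r).2 h1
    rw [hfix, ← hρ, ← hρ] at h2
    have h3 := h8Pi_act D hB hA hBN hW hO2 ⟨n, hn⟩ (ρ r)
    apply Fin.ext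
    exact h8act_unique D hB hA hBN hW hO2 n (ρ r).val _ _
      ((h8Pi D hB hA hBN hW hO2 ⟨n, hn⟩) (ρ r)).2 (ρ _).2 h3 h2
  apply Equiv.ext
  intro r
  rw [Equiv.Perm.mul_apply, Equiv.Perm.mul_apply, ← hcomm]
  simp

include hB0 hW hO2 T in
/-- a product over part of an orbit which commutes with the twist is trivial or the whole
orbit product -/
theorem h8tw_sub_cent (J : List (Fin D.rank)) (hJ : J ∈ orbs) (J' : List (Fin D.rank))
    (hsub : J'.Sublist J) (hc : ρ * h8wF D hA J' * ρ⁻¹ = h8wF D hA J') : J' = [] ∨ J' = J := by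
  by_contra hcon
  push_neg at hcon
  obtain ⟨hne, hneJ⟩ := hcon
  have hndJ := T.orb_nodup J hJ
  have hnd' : J'.Nodup := hsub.nodup hndJ
  have hJ'J : ∀ x ∈ J', x ∈ J := fun x hx => hsub.subset hx
  -- an element of `J` outside `J'`
  have hk : ∃ k ∈ J, k ∉ J' := by
    by_contra hall
    push_neg at hall
    apply hneJ
    apply hsub.eq_of_length_le
    have : J.Subperm J' := List.subperm_of_subset hndJ hall
    exact this.length_le
  obtain ⟨k, hkJ, hkJ'⟩ := hk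
  obtain ⟨j, hj⟩ := List.exists_mem_of_ne_nil J' hne
  -- `J` is stable under `πF`
  have hπJ : ∀ x ∈ J, πF x ∈ J := by
    intro x hx
    exact (T.orb_perm J hJ).subset (List.mem_map_of_mem hx)
  -- an element of `J'` whose image is outside `J'`
  have hj' : ∃ j' ∈ J', πF j' ∉ J' := by
    by_contra hall
    push_neg at hall
    obtain ⟨i, hi⟩ := T.orb_trans J hJ j (hJ'J j hj) k hkJ
    have : ∀ i, πF^[i] j ∈ J' := by
      intro i
      induction i with
      | zero => exact hj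
      | succ i ih => rw [Function.iterate_succ_apply']; exact hall _ ih
    exact hkJ' (hi ▸ this i)
  obtain ⟨j', hj'J', hπj'⟩ := hj'
  -- evaluate both sides at the simple root of `πF j'`
  have h1 : D.IsPosRoot (h8wF D hA J' (h8simF D hBN (πF j'))).val := by
    apply h8tw_wJ_pos D hB0 hA hBN hW hO2 ρ πF orbs T J hJ J' hJ'J hnd' _
      (h8simple_pos D hBN _ (πF j').2)
    intro x hx hxe
    have := T.sim_inj hxe
    exact hπj' (this ▸ hx)
  have h2 : h8wF D hA J' (h8simF D hBN j') = h8negF D hW (h8simF D hBN j') := by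
    have hp := List.perm_cons_erase hj'J'
    rw [h8tw_perm_prod D hB0 hA hBN hW hO2 ρ πF orbs T J hJ J' _ hJ'J hp, h8wF_cons,
      Equiv.Perm.mul_apply, h8wF_fix D hA hBN (J'.erase j') j', h8sPerm_simF D hA hBN hW j']
    intro x hx
    have hxne : x ≠ j' := (hnd'.mem_erase_iff.mp hx).1
    exact T.orb_orth J hJ x (hJ'J x (List.mem_of_mem_erase hx)) j' (hJ'J j' hj'J') hxne
  have h3 : (ρ * h8wF D hA J' * ρ⁻¹) (h8simF D hBN (πF j')) =
      ρ (h8negF D hW (h8simF D hBN j')) := by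
    have hinv : ρ⁻¹ (ρ (h8simF D hBN j')) = h8simF D hBN j' := by simp
    rw [Equiv.Perm.mul_apply, Equiv.Perm.mul_apply, ← T.sim j', hinv, h2]
  rw [hc] at h3
  rw [h3, T.pos, h8negF_pos D hB0 hBN hW hO2] at h1
  exact h1 (h8simple_pos D hBN _ j'.2)

end

end Cfsg.Agent.Lib.helper8
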