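import Mathlib
import Cfsg.Prelude.Def_ChevStructure
import Cfsg.Prelude.Def_LieExceptional
import Cfsg.Agent.Lib.helper8.ChevTwB3
import Cfsg.Agent.Lib.helper8.ChevBorel

set_option autoImplicit false

namespace Cfsg.Agent.Lib.helper8

open Cfsg.Lie Cfsg.Lie.ChevalleyDatum

universe u

variable {K : Type u} [Field K]

section
variable (D : ChevalleyDatum) (hB : H8Base.{u} D) (hB0 : H8Base.{0} D)
  (hA : H8ReflAll D) (hC : H8CommAll.{u} D) (hBN : H8BN D) (hW : H8BN2 D) (hO : H8Ord D)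
  (hO2 : H8Ord2 D)
  (σ τ π ϖ : ℕ → ℕ) (η : ℕ → ℤ) (hAut : H8Aut D σ τ π ϖ η) (f : K ≃+* K)
  (ρ : Equiv.Perm (Fin D.nroots)) (hρ : ∀ r, (ρ r).val = σ r.val)
  (πF : Fin D.rank → Fin D.rank) (orbs : List (List (Fin D.rank)))
  (T : H8Tw D hA hBN ρ πF orbs)
  (hσpos : ∀ r, D.IsPosRoot r → D.IsPosRoot (σ r))
  (G1 : Subgroup (GL D.Idx K)) (hG1 : G1 ≤ D.group K)
  (hfix : ∀ g ∈ G1, h8Sig D σ τ π ϖ η hAut f g = g)
  (hUfix : ∀ g ∈ D.posUnipotent K, h8Sig D σ τ π ϖ η hAut f g = g → g ∈ G1)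
  (hnJ : ∀ J ∈ orbs, (h8nWU D hB (J.map Fin.val) : GL D.Idx K) ∈ G1)

theorem h8J_lt (J : List (Fin D.rank)) : ∀ i ∈ J.map Fin.val, i < D.rank := by
  intro i hi
  rw [List.mem_map] at hi
  obtain ⟨j, _, rfl⟩ := hi
  exact j.2

include hB0 hW hO2 hρ T hfix hnJ in
/-- every element of `N ∩ G¹` is a product of orbit representatives times an element of `H` -/
theorem h8tw_N_gen (n : GL D.Idx K) (hn : n ∈ D.monomialSubgroup K) (hn1 : n ∈ G1) :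
    ∃ n' ∈ Subgroup.closure {x : GL D.Idx K | ∃ J ∈ orbs, x = h8nWU D hB (J.map Fin.val)},
      n'⁻¹ * n ∈ D.diagonalSubgroup K := by
  have hWm := h8Pi_mem_W D hB hA hBN hW hO2 ⟨n, hn⟩
  have hρc := h8tw_Pi_comm D hB hA hBN hW hO2 σ τ π ϖ η hAut f ρ hρ n hn (hfix n hn1)
  have hW1 := h8tw_cent D hB0 hA hBN hW hO2 ρ πF orbs T _ _ hWm hρc rfl
  have lift : ∀ y ∈ h8W1 D hA orbs, ∃ n' ∈ Subgroup.closure
      {x : GL D.Idx K | ∃ J ∈ orbs, x = h8nWU D hB (J.map Fin.val)},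
      ∃ hn' : n' ∈ D.monomialSubgroup K, h8Pi D hB hA hBN hW hO2 ⟨n', hn'⟩ = y := by
    intro y hy
    unfold h8W1 at hy
    induction hy using Subgroup.closure_induction with
    | mem y hy =>
      obtain ⟨J, hJ, rfl⟩ := hy
      exact ⟨_, Subgroup.subset_closure ⟨J, hJ, rfl⟩, h8nWU_mem_N D hB hA _ (h8J_lt D J),
        h8Pi_nWU D hB hA hBN hW hO2 _ (h8J_lt D J)⟩
    | one => exact ⟨1, Subgroup.one_mem _, Subgroup.one_mem _, map_one _⟩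
    | mul a b _ _ ha hb =>
      obtain ⟨na, hna, hNa, ea⟩ := ha
      obtain ⟨nb, hnb, hNb, eb⟩ := hb
      refine ⟨na * nb, Subgroup.mul_mem _ hna hnb, Subgroup.mul_mem _ hNa hNb, ?_⟩
      rw [← ea, ← eb, ← map_mul]
      rfl
    | inv a _ ha =>
      obtain ⟨na, hna, hNa, ea⟩ := ha
      refine ⟨na⁻¹, Subgroup.inv_mem _ hna, Subgroup.inv_mem _ hNa, ?_⟩
      rw [← ea, ← map_inv]
      rfl
  obtain ⟨n', hn', hN', e⟩ := lift _ hW1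
  refine ⟨n', hn', ?_⟩
  have hmem : n'⁻¹ * n ∈ D.monomialSubgroup K := Subgroup.mul_mem _ (Subgroup.inv_mem _ hN') hn
  apply h8Pi_ker D hB hA hBN hW hO2 ⟨n'⁻¹ * n, hmem⟩
  have : (⟨n'⁻¹ * n, hmem⟩ : ↥(D.monomialSubgroup K)) = ⟨n', hN'⟩⁻¹ * ⟨n, hn⟩ := rfl
  rw [this, map_mul, map_inv, e, inv_mul_cancel]

end

end Cfsg.Agent.Lib.helper8
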