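import Mathlib
import Cfsg.Prelude.Def_ChevStructure
import Cfsg.Prelude.Def_LieExceptional
import Cfsg.Agent.Lib.helper8.ChevTwB4

set_option autoImplicit false

namespace Cfsg.Agent.Lib.helper8

open Cfsg.Lie Cfsg.Lie.ChevalleyDatum

universe u

variable {K : Type u} [Field K]

section
variable (D : ChevalleyDatum) (hB : H8Base.{u} D) (hB0 : H8Base.{0} D)
  (hA : H8ReflAll D) (hC : H8CommAll.{u} D) (hBN : H8BN D) (hW : H8BN2 D) (hO : H8Ord D)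
  (hO2 : H8Ord2 D)
  (σ τ π ϖ : ℕ → ℕ) (η : ℕ → ℤ) (hAut : H8Aut D σ τ π ϖ η) (f : K ≃+* K)
  (ρ : Equiv.Perm (Fin D.nroots)) (hρ : ∀ r, (ρ r).val = σ r.val)
  (πF : Fin D.rank → Fin D.rank) (orbs : List (List (Fin D.rank)))
  (T : H8Tw D hA hBN ρ πF orbs)
  (hσpos : ∀ r, D.IsPosRoot r → D.IsPosRoot (σ r))
  (G1 : Subgroup (GL D.Idx K)) (hG1 : G1 ≤ D.group K)
  (hfix : ∀ g ∈ G1, h8Sig D σ τ π ϖ η hAut f g = g)
  (hUfix : ∀ g ∈ D.posUnipotent K, h8Sig D σ τ π ϖ η hAut f g = g → g ∈ G1)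
  (hnJ : ∀ J ∈ orbs, (h8nWU D hB (J.map Fin.val) : GL D.Idx K) ∈ G1)

include hB0 hC hO hW hO2 hρ T hσpos hG1 hfix hUfix hnJ in
/-- the double coset axiom of the twisted group -/
theorem h8tw_bn_axiom (J : List (Fin D.rank)) (hJ : J ∈ orbs) (n : GL D.Idx K)
    (hn : n ∈ D.monomialSubgroup K) (hn1 : n ∈ G1) (b : GL D.Idx K)
    (hb : b ∈ D.borelSubgroup K) (hb1 : b ∈ G1) :
    (∃ b1 ∈ D.borelSubgroup K ⊓ G1, ∃ b2 ∈ D.borelSubgroup K ⊓ G1,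
      h8nWU D hB (J.map Fin.val) * b * n = b1 * (h8nWU D hB (J.map Fin.val) * n) * b2) ∨
    (∃ b1 ∈ D.borelSubgroup K ⊓ G1, ∃ b2 ∈ D.borelSubgroup K ⊓ G1,
      h8nWU D hB (J.map Fin.val) * b * n = b1 * n * b2) := by
  have hs1 := hnJ J hJ
  have hsN := h8nWU_mem_N (F := K) D hB hA _ (h8J_lt D J)
  have hg1 : h8nWU D hB (J.map Fin.val) * b * n ∈ G1 :=
    Subgroup.mul_mem _ (Subgroup.mul_mem _ hs1 hb1) hn1
  obtain ⟨sub, hsub, c1, hc1, c2, hc2, e⟩ :=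
    h8bn_word D hB hA hC hBN (J.map Fin.val) (h8J_lt D J) n hn b hb
  obtain ⟨u1, hu1, m, hm, u, hu, huG, e'⟩ := h8tw_normal_G1 D hB hA hC hBN hW hO hO2
    σ τ π ϖ η hAut f hσpos G1 hG1 hfix hUfix _ hg1
  have hsublt : ∀ i ∈ sub, i < D.rank := fun i hi => h8J_lt D J i (hsub.subset hi)
  have hsubN : (h8nWU D hB sub : GL D.Idx K) ∈ D.monomialSubgroup K :=
    h8nWU_mem_N D hB hA sub hsublt
  have hsnN : (h8nWU D hB sub : GL D.Idx K) * n ∈ D.monomialSubgroup K :=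
    Subgroup.mul_mem _ hsubN hn
  have huB : u ∈ D.borelSubgroup K := h8U_le_B D (h8Um_le_U D m hu)
  have hu1B : u1 ∈ D.borelSubgroup K := h8U_le_B D hu1.1
  have hcell : m⁻¹ * (h8nWU D hB sub * n) ∈ D.diagonalSubgroup K := by
    apply h8cell_disjoint D hB hA hC hBN m _ hm.1 hsnN
    refine ⟨u1⁻¹ * c1, Subgroup.mul_mem _ (Subgroup.inv_mem _ hu1B) hc1, c2 * u⁻¹,
      Subgroup.mul_mem _ hc2 (Subgroup.inv_mem _ huB), ?_⟩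
    have : m = u1⁻¹ * (u1 * m * u) * u⁻¹ := by group
    rw [this, ← e', e]
    group
  -- the permutation of `sub` commutes with the twist
  have hPm := h8tw_Pi_comm D hB hA hBN hW hO2 σ τ π ϖ η hAut f ρ hρ m hm.1 (hfix m hm.2)
  have hPn := h8tw_Pi_comm D hB hA hBN hW hO2 σ τ π ϖ η hAut f ρ hρ n hn (hfix n hn1)
  have hPi1 := h8Pi_H D hB hA hBN hW hO2
    ⟨m⁻¹ * (h8nWU D hB sub * n), Subgroup.mul_mem _ (Subgroup.inv_mem _ hm.1) hsnN⟩ hcell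
  have hsplit : (⟨m⁻¹ * (h8nWU D hB sub * n),
      Subgroup.mul_mem _ (Subgroup.inv_mem _ hm.1) hsnN⟩ : ↥(D.monomialSubgroup K)) =
      ⟨m, hm.1⟩⁻¹ * (⟨h8nWU D hB sub, hsubN⟩ * ⟨n, hn⟩) := rfl
  rw [hsplit, map_mul, map_mul, map_inv, h8Pi_nWU D hB hA hBN hW hO2 sub hsublt] at hPi1
  have hwsub : h8wPerm D hA sub = h8Pi D hB hA hBN hW hO2 ⟨m, hm.1⟩ *
      (h8Pi D hB hA hBN hW hO2 ⟨n, hn⟩)⁻¹ := by
    rw [eq_mul_inv_iff_mul_eq, ← mul_right_inj ((h8Pi D hB hA hBN hW hO2 ⟨m, hm.1⟩)⁻¹), hPi1,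
      inv_mul_cancel]
  have hsubc : ρ * h8wPerm D hA sub * ρ⁻¹ = h8wPerm D hA sub := by
    rw [hwsub]
    calc ρ * (h8Pi D hB hA hBN hW hO2 ⟨m, hm.1⟩ * (h8Pi D hB hA hBN hW hO2 ⟨n, hn⟩)⁻¹) * ρ⁻¹ =
        (ρ * h8Pi D hB hA hBN hW hO2 ⟨m, hm.1⟩ * ρ⁻¹) *
          (ρ * h8Pi D hB hA hBN hW hO2 ⟨n, hn⟩ * ρ⁻¹)⁻¹ := by group
      _ = _ := by rw [hPm, hPn]
  obtain ⟨J', hJ'sub, rfl⟩ := List.sublist_map_iff.mp hsub
  have hcases := h8tw_sub_cent D hB0 hA hBN hW hO2 ρ πF orbs T J hJ J' hJ'sub hsubc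
  have hmG : m⁻¹ * (h8nWU D hB (J'.map Fin.val) * n) ∈ G1 := by
    rcases hcases with rfl | rfl
    · exact Subgroup.mul_mem _ (Subgroup.inv_mem _ hm.2)
        (Subgroup.mul_mem _ (Subgroup.one_mem _) hn1)
    · exact Subgroup.mul_mem _ (Subgroup.inv_mem _ hm.2) (Subgroup.mul_mem _ hs1 hn1)
  have key : h8nWU D hB (J.map Fin.val) * b * n =
      u1 * (h8nWU D hB (J'.map Fin.val) * n) *
        ((m⁻¹ * (h8nWU D hB (J'.map Fin.val) * n))⁻¹ * u) := by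
    rw [e']
    group
  have hb2 : (m⁻¹ * (h8nWU D hB (J'.map Fin.val) * n))⁻¹ * u ∈ D.borelSubgroup K ⊓ G1 :=
    ⟨Subgroup.mul_mem _ (Subgroup.inv_mem _ (h8H_le_B D hcell)) huB,
      Subgroup.mul_mem _ (Subgroup.inv_mem _ hmG) huG⟩
  rcases hcases with rfl | rfl
  · right
    refine ⟨u1, ⟨hu1B, hu1.2⟩, _, hb2, ?_⟩
    rw [key]
    have : (h8nWU D hB (([] : List (Fin D.rank)).map Fin.val) : GL D.Idx K) = 1 := rfl
    rw [this, one_mul]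
  · left
    exact ⟨u1, ⟨hu1B, hu1.2⟩, _, hb2, key⟩

end

end Cfsg.Agent.Lib.helper8
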