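import Mathlib
import Cfsg.Prelude.Def_ChevStructure
import Cfsg.Prelude.Def_LieExceptional
import Cfsg.Agent.Lib.helper8.ChevTwB5

set_option autoImplicit false

namespace Cfsg.Agent.Lib.helper8

open Cfsg.Lie Cfsg.Lie.ChevalleyDatum

universe u

variable {K : Type u} [Field K]

section
variable (D : ChevalleyDatum) (hB : H8Base.{u} D) (hB0 : H8Base.{0} D)
  (hA : H8ReflAll D) (hC : H8CommAll.{u} D) (hBN : H8BN D) (hW : H8BN2 D) (hO : H8Ord D)
  (hO2 : H8Ord2 D)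
  (σ τ π ϖ : ℕ → ℕ) (η : ℕ → ℤ) (hAut : H8Aut D σ τ π ϖ η) (f : K ≃+* K)
  (ρ : Equiv.Perm (Fin D.nroots)) (hρ : ∀ r, (ρ r).val = σ r.val)
  (πF : Fin D.rank → Fin D.rank) (orbs : List (List (Fin D.rank)))
  (T : H8Tw D hA hBN ρ πF orbs)
  (hσpos : ∀ r, D.IsPosRoot r → D.IsPosRoot (σ r))
  (G1 : Subgroup (GL D.Idx K)) (hG1 : G1 ≤ D.group K)
  (hfix : ∀ g ∈ G1, h8Sig D σ τ π ϖ η hAut f g = g)
  (hUfix : ∀ g ∈ D.posUnipotent K, h8Sig D σ τ π ϖ η hAut f g = g → g ∈ G1)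
  (hnJ : ∀ J ∈ orbs, (h8nWU D hB (J.map Fin.val) : GL D.Idx K) ∈ G1)

include hB0 hW hO2 T in
/-- the orbit representative conjugates the simple root subgroups of its orbit into `V` -/
theorem h8tw_nJ_conj_V (J : List (Fin D.rank)) (hJ : J ∈ orbs) (x : GL D.Idx K)
    (hx : x ∈ Subgroup.closure {g : GL D.Idx K | ∃ j ∈ J, ∃ t : K,
      g = h8xU D hB (D.simple j.val) t}) :
    h8nWU D hB (J.map Fin.val) * x * (h8nWU D hB (J.map Fin.val))⁻¹ ∈ D.negUnipotent K := by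
  induction hx using Subgroup.closure_induction with
  | mem y hy =>
    obtain ⟨j, hj, t, rfl⟩ := hy
    have hp := h8simple_pos D hBN j.val j.2
    obtain ⟨c, _, hc, _⟩ := h8actN_word (F := K) D hB hA (J.map Fin.val) (h8J_lt D J)
      (D.simple j.val) hp.1
    rw [hc]
    have e1 : h8sW D (J.map Fin.val) (D.simple j.val) =
        (h8wF D hA J (h8simF D hBN j)).val :=
      (h8wPerm_val D hA (J.map Fin.val) (h8J_lt D J) (h8simF D hBN j)).symm
    rw [e1, h8tw_wJ_simple D hB0 hA hBN hW hO2 ρ πF orbs T J hJ j hj]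
    exact h8xU_mem_V D hB _ (h8neg_of_pos D hB hO2 _ hp) _
  | one =>
    have : h8nWU D hB (J.map Fin.val) * (1 : GL D.Idx K) * (h8nWU D hB (J.map Fin.val))⁻¹ = 1 := by
      group
    rw [this]
    exact Subgroup.one_mem _
  | mul a b _ _ ha hb =>
    have : h8nWU D hB (J.map Fin.val) * (a * b) * (h8nWU D hB (J.map Fin.val))⁻¹ =
        (h8nWU D hB (J.map Fin.val) * a * (h8nWU D hB (J.map Fin.val))⁻¹) *
          (h8nWU D hB (J.map Fin.val) * b * (h8nWU D hB (J.map Fin.val))⁻¹) := by group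
    rw [this]
    exact Subgroup.mul_mem _ ha hb
  | inv a _ ha =>
    have : h8nWU D hB (J.map Fin.val) * a⁻¹ * (h8nWU D hB (J.map Fin.val))⁻¹ =
        (h8nWU D hB (J.map Fin.val) * a * (h8nWU D hB (J.map Fin.val))⁻¹)⁻¹ := by group
    rw [this]
    exact Subgroup.inv_mem _ ha

include hB0 hC hO hW hO2 hρ T hσpos hG1 hfix hUfix hnJ in
/-- the `(B, N)`-pair of a twisted group -/
theorem h8tw_bnpair
    (hdisj : ∀ J ∈ orbs, ∀ J' ∈ orbs, ∀ j, j ∈ J → j ∈ J' → J = J')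
    (hxJ : ∀ J ∈ orbs, ∃ x ∈ G1, x ≠ 1 ∧ x ∈ Subgroup.closure {g : GL D.Idx K |
      ∃ j ∈ J, ∃ t : K, g = h8xU D hB (D.simple j.val) t}) :
    ∃ P : Cfsg.BNPair ↥G1,
      P.B = (D.borelSubgroup K ⊓ G1).subgroupOf G1 ∧
      P.N = (D.monomialSubgroup K ⊓ G1).subgroupOf G1 ∧
      P.S = {s : ↥G1 | ∃ J ∈ orbs, s.val = h8nWU D hB (J.map Fin.val)} := by
  obtain ⟨dep, par, horb⟩ := hBN.orb
  have hBNH := h8_B_inf_N (F := K) D hB hA dep par horb
  have hNnorm := h8N_le_normalizer_H (F := K) D hB hA dep par horb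
  have hHN := h8H_le_N (F := K) D
  have hBmem : ∀ x : ↥G1, x ∈ (D.borelSubgroup K ⊓ G1).subgroupOf G1 ↔
      x.val ∈ D.borelSubgroup K := by
    intro x
    rw [Subgroup.mem_subgroupOf, Subgroup.mem_inf]
    exact ⟨fun h => h.1, fun h => ⟨h, x.2⟩⟩
  have hNmem : ∀ x : ↥G1, x ∈ (D.monomialSubgroup K ⊓ G1).subgroupOf G1 ↔
      x.val ∈ D.monomialSubgroup K := by
    intro x
    rw [Subgroup.mem_subgroupOf, Subgroup.mem_inf]
    exact ⟨fun h => h.1, fun h => ⟨h, x.2⟩⟩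
  have hsN : ∀ J : List (Fin D.rank),
      (h8nWU D hB (J.map Fin.val) : GL D.Idx K) ∈ D.monomialSubgroup K :=
    fun J => h8nWU_mem_N D hB hA _ (h8J_lt D J)
  have hsq : ∀ J ∈ orbs, (h8nWU D hB (J.map Fin.val) : GL D.Idx K) *
      h8nWU D hB (J.map Fin.val) ∈ D.diagonalSubgroup K := by
    intro J hJ
    apply h8Pi_ker D hB hA hBN hW hO2 ⟨_, Subgroup.mul_mem _ (hsN J) (hsN J)⟩
    have : (⟨(h8nWU D hB (J.map Fin.val) : GL D.Idx K) * h8nWU D hB (J.map Fin.val),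
        Subgroup.mul_mem _ (hsN J) (hsN J)⟩ : ↥(D.monomialSubgroup K)) =
        ⟨_, hsN J⟩ * ⟨_, hsN J⟩ := rfl
    rw [this, map_mul, h8Pi_nWU D hB hA hBN hW hO2 _ (h8J_lt D J)]
    exact h8tw_wJ_sq D hB0 hA hBN hW hO2 ρ πF orbs T J hJ
  refine ⟨{ B := (D.borelSubgroup K ⊓ G1).subgroupOf G1
            N := (D.monomialSubgroup K ⊓ G1).subgroupOf G1
            S := {s : ↥G1 | ∃ J ∈ orbs, s.val = h8nWU D hB (J.map Fin.val)}
            sup_eq_top := ?_, conj_mem := ?_, subset := ?_, sq_mem := ?_, inj := ?_,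
            closure_sup := ?_, mul_mem_union := ?_, conj_ne := ?_ }, rfl, rfl, rfl⟩
  · -- sup_eq_top
    rw [eq_top_iff]
    intro g _
    obtain ⟨u1, hu1, m, hm, u, hu, huG, e⟩ := h8tw_normal_G1 D hB hA hC hBN hW hO hO2
      σ τ π ϖ η hAut f hσpos G1 hG1 hfix hUfix g.val g.2
    have hg : g = (⟨u1, hu1.2⟩ : ↥G1) * ⟨m, hm.2⟩ * ⟨u, huG⟩ := Subtype.ext e
    rw [hg]
    refine Subgroup.mul_mem _ (Subgroup.mul_mem _ (Subgroup.mem_sup_left ?_)
      (Subgroup.mem_sup_right ?_)) (Subgroup.mem_sup_left ?_)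
    · exact (hBmem _).mpr (h8U_le_B D hu1.1)
    · exact (hNmem _).mpr hm.1
    · exact (hBmem _).mpr (h8U_le_B D (h8Um_le_U D m hu))
  · -- conj_mem
    intro n hn t ht
    rw [hNmem] at hn
    rw [Subgroup.mem_inf, hBmem, hNmem] at ht
    rw [hBmem]
    have htH : t.val ∈ D.diagonalSubgroup K := by
      rw [← hBNH]
      exact Subgroup.mem_inf.mpr ht
    exact h8H_le_B D ((Subgroup.mem_normalizer_iff.mp (hNnorm hn) t.val).mp htH)
  · -- subset
    rintro s ⟨J, hJ, hs⟩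
    show s ∈ (D.monomialSubgroup K ⊓ G1).subgroupOf G1
    rw [hNmem, hs]
    exact hsN J
  · -- sq_mem
    rintro s ⟨J, hJ, hs⟩
    rw [hBmem]
    show s.val * s.val ∈ _
    rw [hs]
    exact h8H_le_B D (hsq J hJ)
  · -- inj
    rintro s ⟨J, hJ, hs⟩ s' ⟨J', hJ', hs'⟩ hmem
    rw [hBmem] at hmem
    have hmem' : s.val⁻¹ * s'.val ∈ D.borelSubgroup K := hmem
    rw [hs, hs'] at hmem'
    have hmN : (h8nWU D hB (J.map Fin.val) : GL D.Idx K)⁻¹ * h8nWU D hB (J'.map Fin.val) ∈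
        D.monomialSubgroup K := Subgroup.mul_mem _ (Subgroup.inv_mem _ (hsN J)) (hsN J')
    have hH : (h8nWU D hB (J.map Fin.val) : GL D.Idx K)⁻¹ * h8nWU D hB (J'.map Fin.val) ∈
        D.diagonalSubgroup K := by
      rw [← hBNH]
      exact Subgroup.mem_inf.mpr ⟨hmem', hmN⟩
    have hP := h8Pi_H D hB hA hBN hW hO2 ⟨_, hmN⟩ hH
    have hsp : (⟨(h8nWU D hB (J.map Fin.val) : GL D.Idx K)⁻¹ * h8nWU D hB (J'.map Fin.val),
        hmN⟩ : ↥(D.monomialSubgroup K)) = ⟨_, hsN J⟩⁻¹ * ⟨_, hsN J'⟩ := rfl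
    rw [hsp, map_mul, map_inv, h8Pi_nWU D hB hA hBN hW hO2 _ (h8J_lt D J),
      h8Pi_nWU D hB hA hBN hW hO2 _ (h8J_lt D J'), inv_mul_eq_one] at hP
    have hweq : h8wF D hA J = h8wF D hA J' := hP
    obtain ⟨j, hj⟩ := List.exists_mem_of_ne_nil J (T.orb_ne J hJ)
    have hjJ' : j ∈ J' := by
      by_contra hnot
      have h1 := h8tw_wJ_simple D hB0 hA hBN hW hO2 ρ πF orbs T J hJ j hj
      have h2 := h8tw_wJ_pos D hB0 hA hBN hW hO2 ρ πF orbs T J' hJ' J' (fun x hx => hx)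
        (T.orb_nodup J' hJ') (h8simF D hBN j) (h8simple_pos D hBN _ j.2) (by
          intro x hx hxe
          exact hnot (T.sim_inj hxe ▸ hx))
      rw [← hweq, h1, h8negF_pos D hB0 hBN hW hO2] at h2
      exact h2 (h8simple_pos D hBN _ j.2)
    have hJJ' := hdisj J hJ J' hJ' j hj hjJ'
    apply Subtype.ext
    rw [hs, hs', hJJ']
  · -- closure_sup
    apply le_antisymm
    · apply sup_le
      · rw [Subgroup.closure_le]
        rintro s ⟨J, hJ, hs⟩
        show s ∈ (D.monomialSubgroup K ⊓ G1).subgroupOf G1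
        rw [hNmem, hs]
        exact hsN J
      · exact inf_le_right
    · intro g hg
      rw [hNmem] at hg
      obtain ⟨n', hn', hH⟩ := h8tw_N_gen D hB hB0 hA hBN hW hO2 σ τ π ϖ η hAut f ρ hρ πF orbs T
        G1 hfix hnJ g.val hg g.2
      have hn'G : n' ∈ G1 := by
        have hle : Subgroup.closure {x : GL D.Idx K | ∃ J ∈ orbs,
            x = h8nWU D hB (J.map Fin.val)} ≤ G1 := by
          rw [Subgroup.closure_le]
          rintro x ⟨J, hJ, rfl⟩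
          exact hnJ J hJ
        exact hle hn'
      have hn'cl : (⟨n', hn'G⟩ : ↥G1) ∈ Subgroup.closure
          {s : ↥G1 | ∃ J ∈ orbs, s.val = h8nWU D hB (J.map Fin.val)} := by
        have hmap : Subgroup.closure {x : GL D.Idx K | ∃ J ∈ orbs,
            x = h8nWU D hB (J.map Fin.val)} ≤ (Subgroup.closure
              {s : ↥G1 | ∃ J ∈ orbs, s.val = h8nWU D hB (J.map Fin.val)}).map G1.subtype := by
          rw [Subgroup.closure_le]
          rintro x ⟨J, hJ, rfl⟩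
          exact ⟨⟨_, hnJ J hJ⟩, Subgroup.subset_closure ⟨J, hJ, rfl⟩, rfl⟩
        obtain ⟨y, hy, hyx⟩ := hmap hn'
        have : y = ⟨n', hn'G⟩ := Subtype.ext hyx
        rw [← this]
        exact hy
      have hg' : g = (⟨n', hn'G⟩ : ↥G1) * (⟨n', hn'G⟩⁻¹ * g) := by group
      rw [hg']
      refine Subgroup.mul_mem _ (Subgroup.mem_sup_left hn'cl) (Subgroup.mem_sup_right ?_)
      rw [Subgroup.mem_inf, hBmem, hNmem]
      exact ⟨h8H_le_B D hH, hHN hH⟩
  · -- mul_mem_union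
    rintro s ⟨J, hJ, hs⟩ n hn b hb
    rw [hNmem] at hn
    rw [hBmem] at hb
    rcases h8tw_bn_axiom D hB hB0 hA hC hBN hW hO hO2 σ τ π ϖ η hAut f ρ hρ πF orbs T hσpos
      G1 hG1 hfix hUfix hnJ J hJ n.val hn n.2 b.val hb b.2 with
      ⟨b1, hb1, b2, hb2, e⟩ | ⟨b1, hb1, b2, hb2, e⟩
    · left
      rw [DoubleCoset.mem_doubleCoset]
      refine ⟨⟨b1, hb1.2⟩, (hBmem _).mpr hb1.1, ⟨b2, hb2.2⟩, (hBmem _).mpr hb2.1, ?_⟩
      apply Subtype.ext
      show s.val * b.val * n.val = b1 * (s.val * n.val) * b2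
      rw [hs]
      exact e
    · right
      rw [DoubleCoset.mem_doubleCoset]
      refine ⟨⟨b1, hb1.2⟩, (hBmem _).mpr hb1.1, ⟨b2, hb2.2⟩, (hBmem _).mpr hb2.1, ?_⟩
      apply Subtype.ext
      show s.val * b.val * n.val = b1 * n.val * b2
      rw [hs]
      exact e
  · -- conj_ne
    rintro s ⟨J, hJ, hs⟩ heq
    obtain ⟨x, hxG, hx1, hxcl⟩ := hxJ J hJ
    have hxU : x ∈ D.posUnipotent K := by
      have hle : Subgroup.closure {g : GL D.Idx K | ∃ j ∈ J, ∃ t : K,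
          g = h8xU D hB (D.simple j.val) t} ≤ D.posUnipotent K := by
        rw [Subgroup.closure_le]
        rintro y ⟨j, _, t, rfl⟩
        exact h8xU_mem_U D hB _ (h8simple_pos D hBN _ j.2) _
      exact hle hxcl
    have hxB : (⟨x, hxG⟩ : ↥G1) ∈
        (((D.borelSubgroup K ⊓ G1).subgroupOf G1 : Subgroup ↥G1) : Set ↥G1) :=
      (hBmem _).mpr (h8U_le_B D hxU)
    have himg := Set.mem_image_of_mem (fun b : ↥G1 => s * b * s) hxB
    rw [heq] at himg
    have himg' : s.val * x * s.val ∈ D.borelSubgroup K := (hBmem _).mp himg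
    rw [hs] at himg'
    have hV := h8tw_nJ_conj_V D hB hB0 hA hBN hW hO2 ρ πF orbs T J hJ x hxcl
    have e2 : h8nWU D hB (J.map Fin.val) * x * (h8nWU D hB (J.map Fin.val))⁻¹ =
        (h8nWU D hB (J.map Fin.val) * x * h8nWU D hB (J.map Fin.val)) *
          (h8nWU D hB (J.map Fin.val) * h8nWU D hB (J.map Fin.val))⁻¹ := by group
    have hBm : h8nWU D hB (J.map Fin.val) * x * (h8nWU D hB (J.map Fin.val))⁻¹ ∈
        D.borelSubgroup K := by
      rw [e2]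
      exact Subgroup.mul_mem _ himg' (Subgroup.inv_mem _ (h8H_le_B D (hsq J hJ)))
    have hbot : h8nWU D hB (J.map Fin.val) * x * (h8nWU D hB (J.map Fin.val))⁻¹ ∈
        D.borelSubgroup K ⊓ D.negUnipotent K := ⟨hBm, hV⟩
    rw [h8_B_inf_V D hB hBN.negOK, Subgroup.mem_bot] at hbot
    apply hx1
    have : x = (h8nWU D hB (J.map Fin.val))⁻¹ *
        (h8nWU D hB (J.map Fin.val) * x * (h8nWU D hB (J.map Fin.val))⁻¹) *
          h8nWU D hB (J.map Fin.val) := by group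
    rw [this, hbot]
    group

end

end Cfsg.Agent.Lib.helper8
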