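import Mathlib
import Cfsg.Prelude.Def_ChevStructure
import Cfsg.Prelude.Def_ChevAutomorphisms
import Cfsg.Agent.Lib.helper8.ChevFix3
import Cfsg.Agent.Lib.helper8.ChevPerf

set_option autoImplicit false

namespace Cfsg.Agent.Lib.helper8

open Cfsg.Lie Cfsg.Lie.ChevalleyDatum

universe u v

variable {F : Type u} [Field F]

theorem h8small_copy (L : Type u) [Field L] [Fintype L] :
    ∃ (F₀ : Type) (_ : Field F₀) (_ : Fintype F₀),
      Fintype.card F₀ = Fintype.card L ∧ Nonempty (F₀ ≃+* L) := by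
  classical
  let e : Fin (Fintype.card L) ≃ L := (Fintype.equivFin L).symm
  exact ⟨Fin (Fintype.card L), e.field, inferInstance, Fintype.card_fin _, ⟨e.ringEquiv⟩⟩

theorem h8fixed_field_card [Fintype F] (σ : RingAut F) (r : ℕ) (hr : orderOf σ = r) :
    ∃ (F₀ : Type) (_ : Field F₀) (_ : Fintype F₀) (ι : F₀ →+* F),
      Fintype.card F = Fintype.card F₀ ^ r ∧ (∀ b : F₀, σ (ι b) = ι b) ∧
        ∀ a : F, σ a = a → ∃ b, ι b = a := by
  classical
  haveI : Finite (RingAut F) :=
    Finite.of_injective (fun e : RingAut F => (e : F → F)) DFunLike.coe_injective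
  haveI : Fintype ↥(Subgroup.zpowers σ) := Fintype.ofFinite _
  have hmem : ∀ a : F, a ∈ FixedPoints.subfield ↥(Subgroup.zpowers σ) F ↔ σ a = a := by
    intro a
    constructor
    · intro ha
      exact ha ⟨σ, Subgroup.mem_zpowers σ⟩
    · intro ha m
      have h1 : σ ∈ MulAction.stabilizer (RingAut F) a := ha
      have h2 : Subgroup.zpowers σ ≤ MulAction.stabilizer (RingAut F) a :=
        (Subgroup.zpowers_le).mpr h1
      exact h2 m.2
  have hfr := FixedPoints.finrank_eq_card ↥(Subgroup.zpowers σ) F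
  have hcz : Fintype.card ↥(Subgroup.zpowers σ) = r := by
    rw [← Nat.card_eq_fintype_card, Nat.card_zpowers, hr]
  haveI : Fintype ↥(FixedPoints.subfield ↥(Subgroup.zpowers σ) F) := Fintype.ofFinite _
  have hcard := Module.natCard_eq_pow_finrank
    (K := ↥(FixedPoints.subfield ↥(Subgroup.zpowers σ) F)) (V := F)
  rw [hfr, hcz, Nat.card_eq_fintype_card, Nat.card_eq_fintype_card] at hcard
  obtain ⟨F₀, iF, iFt, hc, ⟨e⟩⟩ := h8small_copy ↥(FixedPoints.subfield ↥(Subgroup.zpowers σ) F)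
  refine ⟨F₀, iF, iFt,
    (FixedPoints.subfield ↥(Subgroup.zpowers σ) F).subtype.comp (e : F₀ →+* _), ?_, ?_, ?_⟩
  · rw [hcard, hc]
  · intro b
    exact (hmem _).mp (e b).2
  · intro a ha
    refine ⟨e.symm ⟨a, (hmem a).mpr ha⟩, ?_⟩
    simp

theorem h8xU_inj_t (D : ChevalleyDatum) (hB : H8Base.{u} D) (hA : H8ReflAll D) (hW : H8BN2 D)
    (s : ℕ) (hs : s < D.nroots) (t t' : F) (h : h8xU D hB s t = h8xU D hB s t') : t = t' := by
  obtain ⟨w, hw⟩ := hW.w0
  obtain ⟨_, _, _, hne⟩ := h8w0Chk_spec D hA w hw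
  have h1 : h8xU D hB s (t + -t') = 1 := by
    rw [← h8xU_add D hB s hs, ← h8xU_inv, h, mul_inv_cancel]
  have h2 := h8x_eq_one D (fun s hs => ⟨hW.neglt s hs, hne s hs⟩) s hs (t + -t') (by
    rw [← h8xU_val D hB, h1]
    rfl)
  exact add_neg_eq_zero.mp h2

theorem h8Psi_iter_xU (D : ChevalleyDatum) (hB : H8Base.{u} D) (f : F →+* F) (s : ℕ) (t : F)
    (k : ℕ) : (h8Psi D f)^[k] (h8xU D hB s t) = h8xU D hB s (f^[k] t) := by
  induction k with
  | zero => rfl
  | succ k ih =>
    rw [Function.iterate_succ_apply', ih, h8Psi_xU D hB hB, Function.iterate_succ_apply']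

theorem h8fieldaut_main [Fintype F] (D : ChevalleyDatum)
    (hD : D ∈ [chevG2, chevB2, chevD4, chevF4, chevE6, chevE7, chevE8])
    (B : List (List ℤ)) (hU : h8unimodChk D B = true)
    (φ : MulAut ↥(D.group F)) (hφ : D.IsFieldAut φ) (r : ℕ) (hr : r.Prime)
    (ho : orderOf φ = r) :
    ∃ (F₀ : Type) (_ : Field F₀) (_ : Fintype F₀), Fintype.card F = Fintype.card F₀ ^ r ∧
      Nonempty (↥((MulEquiv.toMonoidHom φ).eqLocus (MonoidHom.id ↥(D.group F))) ≃*
        ↥(D.group F₀)) := by
  classical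
  have hB := h8base_all.{u} D hD
  have hB0 := h8base_all.{0} D hD
  have hA := h8reflAll D hD
  have hW := h8bn2_all D hD
  obtain ⟨σ, hσ⟩ := hφ
  have key : ∀ g : ↥(D.group F),
      ((φ g : ↥(D.group F)) : GL D.Idx F) = h8Psi D (σ : F →+* F) (g : GL D.Idx F) := by
    rintro ⟨g, hg⟩
    have : ∀ (x : GL D.Idx F) (hx : x ∈ D.group F),
        ((φ ⟨x, hx⟩ : ↥(D.group F)) : GL D.Idx F) = h8Psi D (σ : F →+* F) x := by
      intro x hx
      refine Subgroup.closure_induction
        (p := fun x hx => ((φ ⟨x, hx⟩ : ↥(D.group F)) : GL D.Idx F) = h8Psi D (σ : F →+* F) x)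
        ?_ ?_ ?_ ?_ hx
      · intro y hy
        obtain ⟨s, t, hy1⟩ := hy
        have hy' : (y : Matrix D.Idx D.Idx F) = D.x F s.val t := by
          rw [hy1]
          unfold ChevalleyDatum.x
          rw [dif_pos s.2]
        apply Units.ext
        have h5 : ((h8Psi D (σ : F →+* F) y : GL D.Idx F) : Matrix D.Idx D.Idx F) =
            D.x F s.val (σ t) := by
          rw [h8Psi_val, hy', h8x_map]
          rfl
        rw [h5]
        exact hσ ⟨y, _⟩ s.val t s.2 hy'
      · rw [map_one]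
        exact congrArg Subtype.val (map_one φ)
      · intro a b ha hb iha ihb
        rw [map_mul, ← iha, ← ihb]
        exact congrArg Subtype.val (map_mul φ ⟨a, ha⟩ ⟨b, hb⟩)
      · intro a ha iha
        rw [map_inv, ← iha]
        exact congrArg Subtype.val (map_inv φ ⟨a, ha⟩)
    exact this g hg
  have keyk : ∀ (k : ℕ) (g : ↥(D.group F)),
      (((φ ^ k) g : ↥(D.group F)) : GL D.Idx F) = (h8Psi D (σ : F →+* F))^[k] (g : GL D.Idx F) := by
    intro k
    induction k with
    | zero => intro g; rfl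
    | succ k ih =>
      intro g
      rw [pow_succ', MulAut.mul_apply, key, ih, Function.iterate_succ_apply']
  have h0 : 0 < D.nroots := by
    simp only [List.mem_cons, List.not_mem_nil, or_false] at hD
    rcases hD with rfl | rfl | rfl | rfl | rfl | rfl | rfl <;> decide
  haveI : Fact r.Prime := ⟨hr⟩
  have hσr : (σ : RingAut F) ^ r = 1 := by
    apply RingEquiv.ext
    intro t
    have h1 := keyk r ⟨h8xU D hB 0 t, h8xU_mem_group D hB 0 t⟩
    rw [← ho, pow_orderOf_eq_one] at h1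
    simp only [MulAut.one_apply] at h1
    rw [ho, h8Psi_iter_xU D hB] at h1
    have h2 := h8xU_inj_t D hB hA hW 0 h0 _ _ h1
    rw [RingAut.coe_pow]
    exact h2.symm
  have hσ1 : (σ : RingAut F) ≠ 1 := by
    intro h1
    have : φ = 1 := by
      apply MulEquiv.ext
      intro g
      apply Subtype.ext
      rw [key g, h1]
      apply Units.ext
      rw [h8Psi_val]
      ext i j
      rfl
    rw [this, orderOf_one] at ho
    exact hr.one_lt.ne' ho.symm
  have hoσ : orderOf (σ : RingAut F) = r := orderOf_eq_prime hσr hσ1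
  obtain ⟨F₀, iF, iFt, ι, hcard, hfix1, hfix2⟩ := h8fixed_field_card σ r hoσ
  refine ⟨F₀, iF, iFt, hcard, ?_⟩
  have hmemG : ∀ x : ↥(D.group F₀), h8Psi D ι (x : GL D.Idx F₀) ∈ D.group F := fun x =>
    h8Psi_group_le D hB0 hB ι (Subgroup.mem_map_of_mem _ x.2)
  have hfixed : ∀ x : ↥(D.group F₀),
      (⟨h8Psi D ι (x : GL D.Idx F₀), hmemG x⟩ : ↥(D.group F)) ∈
        (MulEquiv.toMonoidHom φ).eqLocus (MonoidHom.id ↥(D.group F)) := by
    intro x
    show φ _ = _
    apply Subtype.ext
    rw [key]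
    apply Units.ext
    rw [h8Psi_val, h8Psi_val]
    ext i j
    rw [Matrix.map_apply, Matrix.map_apply]
    exact hfix1 _
  let f : ↥(D.group F₀) →* ↥((MulEquiv.toMonoidHom φ).eqLocus (MonoidHom.id ↥(D.group F))) :=
    { toFun := fun x => ⟨⟨h8Psi D ι (x : GL D.Idx F₀), hmemG x⟩, hfixed x⟩
      map_one' := by
        apply Subtype.ext
        apply Subtype.ext
        exact map_one _
      map_mul' := by
        intro a b
        apply Subtype.ext
        apply Subtype.ext
        exact map_mul _ _ _ }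
  have hinj : Function.Injective f := by
    intro a b hab
    apply Subtype.ext
    apply h8Psi_injective D ι
    exact congrArg Subtype.val (congrArg Subtype.val hab)
  have hsurj : Function.Surjective f := by
    rintro ⟨⟨g, hg⟩, hgfix⟩
    have h1 : φ ⟨g, hg⟩ = ⟨g, hg⟩ := hgfix
    have h2 : h8Psi D (σ : F →+* F) g = g := by
      rw [← key ⟨g, hg⟩, h1]
    obtain ⟨x, hx, hxg⟩ := h8descent D hD B hU ι (σ : F →+* F) (σ.symm : F →+* F)
      (fun a => σ.apply_symm_apply a) hfix2 g hg h2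
    refine ⟨⟨x, hx⟩, ?_⟩
    apply Subtype.ext
    apply Subtype.ext
    exact hxg
  exact ⟨(MulEquiv.ofBijective f ⟨hinj, hsurj⟩).symm⟩

end Cfsg.Agent.Lib.helper8
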