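import Mathlib
import Cfsg.Prelude.Def_ChevStructure
import Cfsg.Agent.Lib.helper8.ChevTw7
import Cfsg.Agent.Lib.helper8.ChevOrd
import Cfsg.Agent.Lib.helper8.ChevLvl6

set_option autoImplicit false

namespace Cfsg.Agent.Lib.helper8

open Cfsg.Lie Cfsg.Lie.ChevalleyDatum

universe u

variable {K : Type u} [Field K]

/-- a block order on the positive roots: commutators go strictly up, roots of one block
commute -/
structure H8Blk (D : ChevalleyDatum) (posi : ℕ → ℕ) : Prop where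
  comm : ∀ r s, D.IsPosRoot r → D.IsPosRoot s → s ≠ r → ∀ c ∈ D.commTerms r s,
    D.IsPosRoot c.1 ∧ posi r < posi c.1 ∧ posi s < posi c.1
  orth : ∀ r s, D.IsPosRoot r → D.IsPosRoot s → s ≠ r → posi r = posi s → D.commTerms r s = []

/-- the generators of the `i`-th term of the filtration -/
def h8UbSet (D : ChevalleyDatum) (K : Type u) [Field K] (posi : ℕ → ℕ) (i : ℕ) :
    Set (GL D.Idx K) :=
  {g | ∃ (r : ℕ) (t : K), D.IsPosRoot r ∧ i ≤ posi r ∧ (g : Matrix D.Idx D.Idx K) = D.x K r t}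

/-- the `i`-th term of the filtration of `U` -/
def h8Ub (D : ChevalleyDatum) (K : Type u) [Field K] (posi : ℕ → ℕ) (i : ℕ) :
    Subgroup (GL D.Idx K) :=
  Subgroup.closure (h8UbSet D K posi i)

/-- the roots of the `i`-th block -/
def h8Lb (D : ChevalleyDatum) (posi : ℕ → ℕ) (i : ℕ) : List ℕ :=
  D.posRoots.filter fun r => decide (posi r = i)

theorem h8Lb_mem (D : ChevalleyDatum) (posi : ℕ → ℕ) (i r : ℕ) :
    r ∈ h8Lb D posi i ↔ D.IsPosRoot r ∧ posi r = i := by
  unfold h8Lb ChevalleyDatum.posRoots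
  simp only [List.mem_filter, List.mem_range, decide_eq_true_eq]
  constructor
  · rintro ⟨⟨_, h1⟩, h2⟩
    exact ⟨h1, h2⟩
  · rintro ⟨h1, h2⟩
    exact ⟨⟨h1.1, h1⟩, h2⟩

theorem h8Lb_nodup (D : ChevalleyDatum) (posi : ℕ → ℕ) (i : ℕ) : (h8Lb D posi i).Nodup := by
  unfold h8Lb ChevalleyDatum.posRoots
  exact (List.nodup_range.filter _).filter _

/-- the product of root elements over a list of roots -/
def h8Pb (D : ChevalleyDatum) (hB : H8Base.{u} D) (L : List ℕ) (t : ℕ → K) : GL D.Idx K :=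
  (L.map fun r => h8xU D hB r (t r)).prod

theorem h8Pb_nil (D : ChevalleyDatum) (hB : H8Base.{u} D) (t : ℕ → K) :
    h8Pb D hB [] t = 1 := rfl

theorem h8Pb_cons (D : ChevalleyDatum) (hB : H8Base.{u} D) (r : ℕ) (L : List ℕ) (t : ℕ → K) :
    h8Pb D hB (r :: L) t = h8xU D hB r (t r) * h8Pb D hB L t := by
  unfold h8Pb
  rw [List.map_cons, List.prod_cons]

theorem h8Ub_mono (D : ChevalleyDatum) (posi : ℕ → ℕ) (i : ℕ) :
    h8Ub D K posi (i + 1) ≤ h8Ub D K posi i := by
  apply Subgroup.closure_mono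
  rintro g ⟨r, t, hr, hi, hg⟩
  exact ⟨r, t, hr, by omega, hg⟩

theorem h8xU_mem_Ub (D : ChevalleyDatum) (hB : H8Base.{u} D) (posi : ℕ → ℕ) (i r : ℕ)
    (hr : D.IsPosRoot r) (hi : i ≤ posi r) (t : K) : h8xU D hB r t ∈ h8Ub D K posi i :=
  Subgroup.subset_closure ⟨r, t, hr, hi, h8xU_val D hB r t⟩

theorem h8Ub_zero (D : ChevalleyDatum) (posi : ℕ → ℕ) :
    h8Ub D K posi 0 = D.posUnipotent K := by
  unfold h8Ub h8UbSet ChevalleyDatum.posUnipotent
  congr 1
  ext g
  constructor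
  · rintro ⟨r, t, hr, _, hg⟩
    exact ⟨r, t, hr, hg⟩
  · rintro ⟨r, t, hr, hg⟩
    exact ⟨r, t, hr, Nat.zero_le _, hg⟩

theorem h8Ub_top (D : ChevalleyDatum) (posi : ℕ → ℕ) (M : ℕ)
    (hM : ∀ r, D.IsPosRoot r → posi r < M) : h8Ub D K posi M = ⊥ := by
  unfold h8Ub
  rw [Subgroup.closure_eq_bot_iff]
  rintro g ⟨r, t, hr, hi, _⟩
  have := hM r hr
  omega

theorem h8Pb_mem_Ub (D : ChevalleyDatum) (hB : H8Base.{u} D) (posi : ℕ → ℕ) (i : ℕ)
    (L : List ℕ) (hL : ∀ r ∈ L, D.IsPosRoot r ∧ i ≤ posi r) (t : ℕ → K) :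
    h8Pb D hB L t ∈ h8Ub D K posi i := by
  unfold h8Pb
  apply Subgroup.list_prod_mem
  intro g hg
  rw [List.mem_map] at hg
  obtain ⟨r, hr, rfl⟩ := hg
  exact h8xU_mem_Ub D hB posi i r (hL r hr).1 (hL r hr).2 _

section
variable (D : ChevalleyDatum) (hB : H8Base.{u} D) (hC : H8CommAll.{u} D) (hBN : H8BN D)
  (hO2 : H8Ord2 D) (posi : ℕ → ℕ) (hK : H8Blk D posi)

include hC hBN hO2 hK in
/-- conjugating a generator of the next term by a generator stays in the next term -/
theorem h8Ub_conj_gen (i r s : ℕ) (hr : D.IsPosRoot r) (hs : D.IsPosRoot s)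
    (hi : i + 1 ≤ posi s) (a c : K) :
    h8xU D hB r a * h8xU D hB s c * (h8xU D hB r a)⁻¹ ∈ h8Ub D K posi (i + 1) := by
  have hb : h8xU D hB s c ∈ h8Ub D K posi (i + 1) := h8xU_mem_Ub D hB posi _ s hs hi c
  by_cases hsr : s = r
  · subst hsr
    have : h8xU D hB s a * h8xU D hB s c * (h8xU D hB s a)⁻¹ = h8xU D hB s c := by
      rw [h8xU_add D hB s hs.1, add_comm, ← h8xU_add D hB s hs.1, mul_inv_cancel_right]
    rw [this]
    exact hb
  · have hsn : r ≠ D.negIdx.getD s 0 := by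
      intro h
      have hn := h8neg_of_pos D hB hO2 s hs
      rw [← h] at hn
      exact h8pos_not_neg D hB hBN r hr hn
    have hcomm := hC.all s hs.1 r hr.1 (Ne.symm hsr) hsn K c (-a)
    have hU : h8xU D hB r (-a) * h8xU D hB s c =
        h8xU D hB s c * h8xU D hB r (-a) * h8wordU D hB (D.commWord K s r c (-a)) := by
      apply Units.ext
      simp only [Units.val_mul, h8xU_val, h8wordU_val]
      exact hcomm
    have hWm : h8wordU D hB (D.commWord K s r c (-a)) ∈ h8Ub D K posi (i + 1) := by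
      unfold h8wordU
      apply Subgroup.list_prod_mem
      intro g hg
      rw [List.mem_map] at hg
      obtain ⟨p, hp, rfl⟩ := hg
      unfold ChevalleyDatum.commWord at hp
      rw [List.mem_map] at hp
      obtain ⟨cc, hcc, rfl⟩ := hp
      obtain ⟨h1, h2, _⟩ := hK.comm s r hs hr (Ne.symm hsr) cc hcc
      exact h8xU_mem_Ub D hB posi _ cc.1 h1 (by omega) _
    have e : h8xU D hB r a * h8xU D hB s c * (h8xU D hB r a)⁻¹ =
        h8xU D hB s c * (h8wordU D hB (D.commWord K s r c (-a)))⁻¹ := by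
      rw [h8xU_inv, eq_mul_inv_iff_mul_eq]
      have ha : h8xU D hB r a * h8xU D hB r (-a) = 1 := by
        rw [h8xU_add D hB r hr.1, add_neg_cancel]
        exact Units.ext (by rw [h8xU_val, hB.zero]; rfl)
      symm
      calc h8xU D hB s c = (h8xU D hB r a * h8xU D hB r (-a)) * h8xU D hB s c := by
            rw [ha, one_mul]
        _ = h8xU D hB r a * (h8xU D hB r (-a) * h8xU D hB s c) := by rw [mul_assoc]
        _ = h8xU D hB r a * (h8xU D hB s c * h8xU D hB r (-a) *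
              h8wordU D hB (D.commWord K s r c (-a))) := by rw [hU]
        _ = _ := by group
    rw [e]
    exact Subgroup.mul_mem _ hb (Subgroup.inv_mem _ hWm)

include hB hC hBN hO2 hK in
theorem h8Ub_le_normalizer (i : ℕ) :
    h8Ub D K posi i ≤ Subgroup.normalizer (h8Ub D K posi (i + 1) : Set (GL D.Idx K)) := by
  conv_lhs => unfold h8Ub
  rw [Subgroup.closure_le]
  rintro g ⟨r, a, hr, hi, hg⟩
  have hg' : g = h8xU D hB r a := Units.ext hg
  rw [hg']
  unfold h8Ub
  apply h8mem_normalizer_of_conj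
  · rintro x ⟨s, c, hs, hsi, hx⟩
    have hx' : x = h8xU D hB s c := Units.ext hx
    rw [hx']
    exact h8Ub_conj_gen D hB hC hBN hO2 posi hK i r s hr hs hsi a c
  · rintro x ⟨s, c, hs, hsi, hx⟩
    have hx' : x = h8xU D hB s c := Units.ext hx
    rw [hx']
    have := h8Ub_conj_gen D hB hC hBN hO2 posi hK i r s hr hs hsi (-a) c
    rw [← h8xU_inv, inv_inv] at this
    exact this

include hB hC hBN hO2 hK in
theorem h8Ub_normal (i : ℕ) (g : GL D.Idx K) (hg : g ∈ h8Ub D K posi i) (v : GL D.Idx K)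
    (hv : v ∈ h8Ub D K posi (i + 1)) : g * v * g⁻¹ ∈ h8Ub D K posi (i + 1) :=
  (Subgroup.mem_normalizer_iff.mp (h8Ub_le_normalizer D hB hC hBN hO2 posi hK i hg) v).mp hv

theorem h8Pb_congr (L : List ℕ) (t t' : ℕ → K) (h : ∀ r ∈ L, t r = t' r) :
    h8Pb D hB L t = h8Pb D hB L t' := by
  unfold h8Pb
  congr 1
  apply List.map_congr_left
  intro r hr
  rw [h r hr]

theorem h8Pb_zero (L : List ℕ) : h8Pb D hB L (fun _ => (0 : K)) = 1 := by
  induction L with
  | nil => rfl
  | cons r L ih => rw [h8Pb_cons, ih, h8xU_zero, one_mul]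

include hC hBN hO2 hK in
theorem h8blk_commute (r s : ℕ) (hr : D.IsPosRoot r) (hs : D.IsPosRoot s) (hrs : posi r = posi s)
    (a b : K) : Commute (h8xU D hB r a) (h8xU D hB s b) := by
  by_cases hsr : s = r
  · subst hsr
    show h8xU D hB s a * h8xU D hB s b = h8xU D hB s b * h8xU D hB s a
    rw [h8xU_add D hB s hs.1, h8xU_add D hB s hs.1, add_comm]
  · have hsn : s ≠ D.negIdx.getD r 0 := by
      intro h
      have hn := h8neg_of_pos D hB hO2 r hr
      rw [← h] at hn
      exact h8pos_not_neg D hB hBN s hs hn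
    exact h8xU_commute D hB hC r s hr.1 hs.1 hsr hsn (hK.orth r s hr hs hsr hrs) a b

include hC hBN hO2 hK in
/-- multiplying a block product by a root element of the same block -/
theorem h8Pb_mul_left (i : ℕ) (s : ℕ) (hs : D.IsPosRoot s) (hsi : posi s = i) (c : K) :
    ∀ (L : List ℕ), L.Nodup → (∀ r ∈ L, D.IsPosRoot r ∧ posi r = i) → s ∈ L → ∀ t : ℕ → K,
      h8xU D hB s c * h8Pb D hB L t = h8Pb D hB L (Function.update t s (c + t s)) := by
  intro L
  induction L with
  | nil => intro _ _ h; cases h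
  | cons r L ih =>
    intro hnd hL hsL t
    have hnd' := (List.nodup_cons.mp hnd).2
    have hrL := (List.nodup_cons.mp hnd).1
    have hL' : ∀ x ∈ L, D.IsPosRoot x ∧ posi x = i := fun x hx => hL x (List.mem_cons_of_mem _ hx)
    rw [h8Pb_cons, h8Pb_cons]
    by_cases hsr : s = r
    · subst hsr
      rw [Function.update_self, ← mul_assoc, h8xU_add D hB s hs.1]
      congr 1
      apply h8Pb_congr
      intro x hx
      rw [Function.update_of_ne]
      intro h
      exact hrL (h ▸ hx)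
    · have hsL' : s ∈ L := by
        rcases List.mem_cons.mp hsL with h | h
        · exact absurd h hsr
        · exact h
      have hr := hL r List.mem_cons_self
      have hc := h8blk_commute D hB hC hBN hO2 posi hK s r hs hr.1 (by rw [hsi, hr.2]) c (t r)
      rw [Function.update_of_ne (Ne.symm hsr), ← mul_assoc, hc.eq, mul_assoc, ih hnd' hL' hsL' t]

include hC hBN hO2 hK in
/-- every element of a term of the filtration is a block product times an element of the next
term -/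
theorem h8Ub_step (i : ℕ) (g : GL D.Idx K) (hg : g ∈ h8Ub D K posi i) :
    ∃ t : ℕ → K, ∃ v ∈ h8Ub D K posi (i + 1), g = h8Pb D hB (h8Lb D posi i) t * v := by
  have hLmem : ∀ r ∈ h8Lb D posi i, D.IsPosRoot r ∧ posi r = i := fun r hr =>
    (h8Lb_mem D posi i r).mp hr
  have hPmem : ∀ t : ℕ → K, h8Pb D hB (h8Lb D posi i) t ∈ h8Ub D K posi i := fun t =>
    h8Pb_mem_Ub D hB posi i _ (fun r hr => ⟨(hLmem r hr).1, le_of_eq (hLmem r hr).2.symm⟩) t
  have hstep : ∀ (s : ℕ) (c : K), D.IsPosRoot s → i ≤ posi s → ∀ (t : ℕ → K) (v : GL D.Idx K),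
      v ∈ h8Ub D K posi (i + 1) → ∃ t' : ℕ → K, ∃ v' ∈ h8Ub D K posi (i + 1),
        h8xU D hB s c * (h8Pb D hB (h8Lb D posi i) t * v) =
          h8Pb D hB (h8Lb D posi i) t' * v' := by
    intro s c hs hsi t v hv
    rcases Nat.eq_or_lt_of_le hsi with heq | hlt
    · refine ⟨Function.update t s (c + t s), v, hv, ?_⟩
      rw [← mul_assoc, h8Pb_mul_left D hB hC hBN hO2 posi hK i s hs heq.symm c _
        (h8Lb_nodup D posi i) hLmem ((h8Lb_mem D posi i s).mpr ⟨hs, heq.symm⟩) t]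
    · refine ⟨t, (h8Pb D hB (h8Lb D posi i) t)⁻¹ * h8xU D hB s c *
          ((h8Pb D hB (h8Lb D posi i) t)⁻¹)⁻¹ * v, ?_, ?_⟩
      · apply Subgroup.mul_mem _ _ hv
        exact h8Ub_normal D hB hC hBN hO2 posi hK i _ (Subgroup.inv_mem _ (hPmem t)) _
          (h8xU_mem_Ub D hB posi _ s hs hlt c)
      · group
  unfold h8Ub at hg
  induction hg using Subgroup.closure_induction_left with
  | one =>
    exact ⟨fun _ => 0, 1, Subgroup.one_mem _, by rw [h8Pb_zero, one_mul]⟩
  | mul_left x hx y _ ih =>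
    obtain ⟨t, v, hv, rfl⟩ := ih
    obtain ⟨s, c, hs, hsi, hxv⟩ := hx
    have hx' : x = h8xU D hB s c := Units.ext hxv
    rw [hx']
    exact hstep s c hs hsi t v hv
  | inv_mul_cancel x hx y _ ih =>
    obtain ⟨t, v, hv, rfl⟩ := ih
    obtain ⟨s, c, hs, hsi, hxv⟩ := hx
    have hx' : x = h8xU D hB s c := Units.ext hxv
    rw [hx', h8xU_inv]
    exact hstep s (-c) hs hsi t v hv

end

end Cfsg.Agent.Lib.helper8
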