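import Mathlib
import Cfsg.Prelude.Def_ChevStructure
import Cfsg.Agent.Lib.helper8.ChevTwU1
import Cfsg.Agent.Lib.helper8.ChevOrd2

set_option autoImplicit false

namespace Cfsg.Agent.Lib.helper8

open Cfsg.Lie Cfsg.Lie.ChevalleyDatum

universe u

variable {K : Type u} [Field K]

/-- the chain condition for reading off the coordinates of a block -/
structure H8BlkRead (D : ChevalleyDatum) (posi : ℕ → ℕ) : Prop where
  chainpos : ∀ k r, D.IsPosRoot k → D.IsPosRoot r → r ≠ k → posi k ≤ posi r →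
    ∀ e ∈ D.chainEntry r (D.negIdx.getD k 0), D.nroots / 2 ≤ e.1

/-- root elements of roots different from `k` which are not below `k` in the block order -/
def h8WkSet (D : ChevalleyDatum) (K : Type u) [Field K] (posi : ℕ → ℕ) (k : ℕ) :
    Set (GL D.Idx K) :=
  {g | ∃ (r : ℕ) (t : K), D.IsPosRoot r ∧ r ≠ k ∧ posi k ≤ posi r ∧
    (g : Matrix D.Idx D.Idx K) = D.x K r t}

theorem h8Q_x' (D : ChevalleyDatum) (hP : h8PosOK D = true) (hO : H8Ord2 D) (posi : ℕ → ℕ)
    (hR : H8BlkRead D posi) (k r : ℕ)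
    (hk : D.IsPosRoot k) (hr : D.IsPosRoot r) (hrk : r ≠ k) (hp : posi k ≤ posi r) (c : K) :
    h8Q D (D.negIdx.getD k 0) (D.x K r c) := by
  obtain ⟨hk1, hk2, _⟩ := h8PosOK_spec hP hk
  obtain ⟨hr1, hr2, _⟩ := h8PosOK_spec hP hr
  intro i v hv hne
  unfold ChevalleyDatum.x at hne
  rw [dif_pos hr.1] at hne
  have hvr : v ≠ ⟨r, hr.1⟩ := by
    intro h
    have := congrArg Fin.val h
    simp only at this
    omega
  have hvn : v.val ≠ D.negIdx.getD r 0 := by
    intro h
    have h1 := (hO.negneg k hk.1).2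
    have h2 := (hO.negneg r hr.1).2
    rw [← hv, h, h2] at h1
    exact hrk h1
  rcases i with a | u
  · rw [h8xMat_inl_inr, if_neg hvr, if_neg hvn] at hne
    exact absurd rfl hne
  · rw [h8xMat_inr_inr D ⟨r, hr.1⟩ c u v (hO.sorted r hr.1), if_neg hvr, if_neg hvn] at hne
    by_cases huv : u = v
    · left; rw [huv]
    · right
      rw [if_neg huv, zero_add] at hne
      obtain ⟨e, he, heu⟩ := h8chSum_ne_zero c u.val 0 _ hne
      have := hR.chainpos k r hk hr hrk hp e (hv ▸ he)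
      show D.rank + D.nroots / 2 ≤ (if u.val < D.nroots / 2 then u.val else D.rank + u.val)
      rw [if_neg (by omega)]
      omega

theorem h8Q_Wk (D : ChevalleyDatum) (hB : H8Base.{u} D) (hO : H8Ord2 D) (posi : ℕ → ℕ)
    (hR : H8BlkRead D posi) (k : ℕ)
    (hk : D.IsPosRoot k) (g : GL D.Idx K) (hg : g ∈ Subgroup.closure (h8WkSet D K posi k)) :
    h8Q D (D.negIdx.getD k 0) (g : Matrix D.Idx D.Idx K) := by
  induction hg using Subgroup.closure_induction_left with
  | one => exact h8Q_one D _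
  | mul_left x hx y _ ih =>
    obtain ⟨r, c, hr, hrk, hp, hxv⟩ := hx
    rw [Units.val_mul, hxv]
    exact h8Q_mul D _ _ _ (h8_x_unitri D hB.posOK r hr c)
      (h8Q_x' D hB.posOK hO posi hR k r hk hr hrk hp c) ih
  | inv_mul_cancel x hx y _ ih =>
    obtain ⟨r, c, hr, hrk, hp, hxv⟩ := hx
    have hx' : x = h8xU D hB r c := Units.ext hxv
    rw [hx', h8xU_inv, Units.val_mul, h8xU_val]
    exact h8Q_mul D _ _ _ (h8_x_unitri D hB.posOK r hr (-c))
      (h8Q_x' D hB.posOK hO posi hR k r hk hr hrk hp (-c)) ih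

/-- the reading lemma: a root element of the root `k` which is a product of root elements of
other roots not below `k` is trivial -/
theorem h8x_not_mem_Wk (D : ChevalleyDatum) (hB : H8Base.{u} D) (hO : H8Ord2 D) (posi : ℕ → ℕ)
    (hR : H8BlkRead D posi) (k : ℕ)
    (hk : D.IsPosRoot k) (τ : K)
    (h : h8xU D hB k τ ∈ Subgroup.closure (h8WkSet D K posi k)) : τ = 0 := by
  have hQ := h8Q_Wk D hB hO posi hR k hk _ h
  rw [h8xU_val] at hQ
  obtain ⟨hk1, hk2, _⟩ := h8PosOK_spec hB.posOK hk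
  have hnlt := (hO.negneg k hk.1).1
  have hent : ∀ a : Fin D.rank, (((D.coroot.getD k #[]).getD a.val 0 : ℤ) : K) * τ = 0 := by
    intro a
    by_contra hne
    have hval : D.x K k τ (Sum.inl a) (Sum.inr ⟨D.negIdx.getD k 0, hnlt⟩) =
        (((D.coroot.getD k #[]).getD a.val 0 : ℤ) : K) * τ := by
      unfold ChevalleyDatum.x
      rw [dif_pos hk.1, h8xMat_inl_inr, if_neg, if_pos rfl]
      intro h
      have := congrArg Fin.val h
      simp only at this
      omega
    rcases hQ (Sum.inl a) ⟨D.negIdx.getD k 0, hnlt⟩ rfl (by rw [hval]; exact hne) with h1 | h1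
    · cases h1
    · have : h8rho D (Sum.inl a) = D.nroots / 2 + a.val := rfl
      rw [this] at h1
      have := a.2
      omega
  have hz := h8gcdL_zero τ ((List.range D.rank).map fun a => (D.coroot.getD k #[]).getD a 0) (by
    intro c hc
    rw [List.mem_map] at hc
    obtain ⟨a, ha, rfl⟩ := hc
    exact hent ⟨a, List.mem_range.mp ha⟩)
  rw [hO.gcd k hk, Nat.cast_one, one_mul] at hz
  exact hz

theorem h8Ub_le_Wk (D : ChevalleyDatum) (posi : ℕ → ℕ) (k : ℕ) :
    h8Ub D K posi (posi k + 1) ≤ Subgroup.closure (h8WkSet D K posi k) := by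
  apply Subgroup.closure_mono
  rintro g ⟨r, t, hr, hi, hg⟩
  refine ⟨r, t, hr, ?_, by omega, hg⟩
  rintro rfl
  omega

theorem h8Pb_mem_Wk (D : ChevalleyDatum) (hB : H8Base.{u} D) (posi : ℕ → ℕ) (k : ℕ)
    (L : List ℕ) (hL : ∀ r ∈ L, D.IsPosRoot r ∧ posi r = posi k) (t : ℕ → K) (htk : t k = 0) :
    h8Pb D hB L t ∈ Subgroup.closure (h8WkSet D K posi k) := by
  unfold h8Pb
  apply Subgroup.list_prod_mem
  intro g hg
  rw [List.mem_map] at hg
  obtain ⟨r, hr, rfl⟩ := hg
  by_cases hrk : r = k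
  · rw [hrk, htk, h8xU_zero]
    exact Subgroup.one_mem _
  · exact Subgroup.subset_closure ⟨r, t r, (hL r hr).1, hrk, le_of_eq (hL r hr).2.symm,
      h8xU_val D hB r (t r)⟩

section
variable (D : ChevalleyDatum) (hB : H8Base.{u} D) (hC : H8CommAll.{u} D) (hBN : H8BN D)
  (hO2 : H8Ord2 D) (posi : ℕ → ℕ) (hK : H8Blk D posi) (hR : H8BlkRead D posi)

include hC hBN hO2 hK hR in
/-- the block coordinates of an element of a term of the filtration are unique -/
theorem h8Ub_unique (i : ℕ) (t t' : ℕ → K) (v v' : GL D.Idx K)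
    (hv : v ∈ h8Ub D K posi (i + 1)) (hv' : v' ∈ h8Ub D K posi (i + 1))
    (h : h8Pb D hB (h8Lb D posi i) t * v = h8Pb D hB (h8Lb D posi i) t' * v') :
    ∀ k ∈ h8Lb D posi i, t k = t' k := by
  intro k hk
  obtain ⟨hkp, hki⟩ := (h8Lb_mem D posi i k).mp hk
  have hLmem : ∀ r ∈ h8Lb D posi i, D.IsPosRoot r ∧ posi r = i := fun r hr =>
    (h8Lb_mem D posi i r).mp hr
  have hLmem' : ∀ r ∈ h8Lb D posi i, D.IsPosRoot r ∧ posi r = posi k := fun r hr =>
    ⟨(hLmem r hr).1, (hLmem r hr).2.trans hki.symm⟩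
  have hsplit : ∀ s : ℕ → K, h8Pb D hB (h8Lb D posi i) s =
      h8xU D hB k (s k) * h8Pb D hB (h8Lb D posi i) (Function.update s k 0) := by
    intro s
    rw [h8Pb_mul_left D hB hC hBN hO2 posi hK i k hkp hki (s k) _ (h8Lb_nodup D posi i) hLmem hk]
    apply h8Pb_congr
    intro r _
    by_cases hrk : r = k
    · rw [hrk, Function.update_self, Function.update_self, add_zero]
    · rw [Function.update_of_ne hrk, Function.update_of_ne hrk]
  have hB1 := h8Pb_mem_Wk D hB posi k (h8Lb D posi i) hLmem' (Function.update t k 0)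
    (Function.update_self ..)
  have hB2 := h8Pb_mem_Wk D hB posi k (h8Lb D posi i) hLmem' (Function.update t' k 0)
    (Function.update_self ..)
  have hvW : v ∈ Subgroup.closure (h8WkSet D K posi k) := h8Ub_le_Wk D posi k (hki ▸ hv)
  have hvW' : v' ∈ Subgroup.closure (h8WkSet D K posi k) := h8Ub_le_Wk D posi k (hki ▸ hv')
  rw [hsplit t, hsplit t'] at h
  have e : h8xU D hB k (t k - t' k) =
      h8Pb D hB (h8Lb D posi i) (Function.update t' k 0) * v' *
        (h8Pb D hB (h8Lb D posi i) (Function.update t k 0) * v)⁻¹ := by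
    rw [eq_mul_inv_iff_mul_eq, sub_eq_add_neg, add_comm, ← h8xU_add D hB k hkp.1, ← h8xU_inv,
      mul_assoc, ← mul_assoc (h8xU D hB k (t k)), h, ← mul_assoc, ← mul_assoc, inv_mul_cancel,
      one_mul]
  have hmem : h8xU D hB k (t k - t' k) ∈ Subgroup.closure (h8WkSet D K posi k) := by
    rw [e]
    exact Subgroup.mul_mem _ (Subgroup.mul_mem _ hB2 hvW')
      (Subgroup.inv_mem _ (Subgroup.mul_mem _ hB1 hvW))
  exact sub_eq_zero.mp (h8x_not_mem_Wk D hB hO2 posi hR k hkp _ hmem)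

end

end Cfsg.Agent.Lib.helper8
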