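import Mathlib
import Cfsg.Prelude.Def_ChevStructure
import Cfsg.Agent.Lib.helper8.ChevTwU2
import Cfsg.Agent.Lib.helper8.ChevTw5
import Cfsg.Agent.Lib.helper8.ChevFix4

set_option autoImplicit false

namespace Cfsg.Agent.Lib.helper8

open Cfsg.Lie Cfsg.Lie.ChevalleyDatum

universe u

variable {K : Type u} [Field K]

/-- the action of the twisting endomorphism on block coordinates -/
def h8tS (τ : ℕ → ℕ) (η : ℕ → ℤ) (f : K ≃+* K) (t : ℕ → K) : ℕ → K :=
  fun k => ((η (τ k) : ℤ) : K) * f (t (τ k))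

section
variable (D : ChevalleyDatum) (hB : H8Base.{u} D) (hC : H8CommAll.{u} D) (hBN : H8BN D)
  (hO2 : H8Ord2 D) (posi : ℕ → ℕ) (hK : H8Blk D posi) (hR : H8BlkRead D posi)
  (σ τ π ϖ : ℕ → ℕ) (η : ℕ → ℤ) (hAut : H8Aut D σ τ π ϖ η) (f : K ≃+* K)
  (hσp : ∀ r, D.IsPosRoot r → D.IsPosRoot (σ r) ∧ posi (σ r) = posi r)

include hB hσp in
/-- the twisting endomorphism preserves the terms of the filtration -/
theorem h8Sig_Ub (i : ℕ) (g : GL D.Idx K) (hg : g ∈ h8Ub D K posi i) :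
    h8Sig D σ τ π ϖ η hAut f g ∈ h8Ub D K posi i := by
  have h : h8Ub D K posi i ≤ (h8Ub D K posi i).comap (h8Sig D σ τ π ϖ η hAut f) := by
    conv_lhs => unfold h8Ub
    rw [Subgroup.closure_le]
    rintro x ⟨r, t, hr, hi, hx⟩
    have hx' : x = h8xU D hB r t := Units.ext (hx.trans (h8xU_val D hB r t).symm)
    show h8Sig D σ τ π ϖ η hAut f x ∈ h8Ub D K posi i
    rw [hx', h8Sig_xU D σ τ π ϖ η hAut f hB r hr.1 t]
    exact h8xU_mem_Ub D hB posi i (σ r) (hσp r hr).1 (by rw [(hσp r hr).2]; exact hi) _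
  exact h hg

theorem h8Sig_Pb (L : List ℕ) (hL : ∀ r ∈ L, r < D.nroots) (t : ℕ → K) :
    h8Sig D σ τ π ϖ η hAut f (h8Pb D hB L t) = h8Pb D hB (L.map σ) (h8tS τ η f t) := by
  induction L with
  | nil => rw [List.map_nil, h8Pb_nil, h8Pb_nil, map_one]
  | cons r L ih =>
    have hr := hL r List.mem_cons_self
    rw [h8Pb_cons, map_mul, List.map_cons, h8Pb_cons,
      ih (fun x hx => hL x (List.mem_cons_of_mem _ hx)), h8Sig_xU D σ τ π ϖ η hAut f hB r hr]
    congr 2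
    unfold h8tS
    rw [hAut.ts r hr]

include hC hBN hO2 hK in
theorem h8Pb_perm (i : ℕ) (L L' : List ℕ) (hp : L.Perm L')
    (hL : ∀ r ∈ L, D.IsPosRoot r ∧ posi r = i) (t : ℕ → K) :
    h8Pb D hB L t = h8Pb D hB L' t := by
  unfold h8Pb
  apply List.Perm.prod_eq' (hp.map _)
  rw [List.pairwise_map]
  apply List.pairwise_of_forall_mem_list
  intro a ha b hb
  exact h8blk_commute D hB hC hBN hO2 posi hK a b (hL a ha).1 (hL b hb).1
    ((hL a ha).2.trans (hL b hb).2.symm) _ _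

include hAut hσp in
theorem h8Lb_map_perm (i : ℕ) : ((h8Lb D posi i).map σ).Perm (h8Lb D posi i) := by
  apply (List.subperm_of_subset _ _).perm_of_length_le
  · rw [List.length_map]
  · apply (h8Lb_nodup D posi i).map_on
    intro x hx y hy hxy
    exact h8aut_inj D σ τ π ϖ η hAut x y ((h8Lb_mem D posi i x).mp hx).1.1
      ((h8Lb_mem D posi i y).mp hy).1.1 hxy
  · intro y hy
    rw [List.mem_map] at hy
    obtain ⟨x, hx, rfl⟩ := hy
    obtain ⟨h1, h2⟩ := (h8Lb_mem D posi i x).mp hx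
    exact (h8Lb_mem D posi i _).mpr ⟨(hσp x h1).1, (hσp x h1).2.trans h2⟩

include hC hBN hO2 hK hσp in
/-- the twisting endomorphism on a block product -/
theorem h8Sig_Pb_blk (i : ℕ) (t : ℕ → K) :
    h8Sig D σ τ π ϖ η hAut f (h8Pb D hB (h8Lb D posi i) t) =
      h8Pb D hB (h8Lb D posi i) (h8tS τ η f t) := by
  rw [h8Sig_Pb D hB σ τ π ϖ η hAut f _ (fun r hr => ((h8Lb_mem D posi i r).mp hr).1.1)]
  apply h8Pb_perm D hB hC hBN hO2 posi hK i _ _ (h8Lb_map_perm D posi σ τ π ϖ η hAut hσp i)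
  intro y hy
  rw [List.mem_map] at hy
  obtain ⟨x, hx, rfl⟩ := hy
  obtain ⟨h1, h2⟩ := (h8Lb_mem D posi i x).mp hx
  exact ⟨(hσp x h1).1, (hσp x h1).2.trans h2⟩

include hC hBN hO2 hK hR hσp in
/-- the block decomposition of a fixed element -/
theorem h8Sig_fix_split (i : ℕ) (t : ℕ → K) (v : GL D.Idx K) (hv : v ∈ h8Ub D K posi (i + 1))
    (hfix : h8Sig D σ τ π ϖ η hAut f (h8Pb D hB (h8Lb D posi i) t * v) =
      h8Pb D hB (h8Lb D posi i) t * v) :
    (∀ k ∈ h8Lb D posi i, h8tS τ η f t k = t k) ∧ h8Sig D σ τ π ϖ η hAut f v = v := by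
  rw [map_mul, h8Sig_Pb_blk D hB hC hBN hO2 posi hK σ τ π ϖ η hAut f hσp i t] at hfix
  have hv' := h8Sig_Ub D hB posi σ τ π ϖ η hAut f hσp (i + 1) v hv
  have h1 := h8Ub_unique D hB hC hBN hO2 posi hK hR i _ _ _ _ hv' hv hfix
  refine ⟨h1, ?_⟩
  rw [h8Pb_congr D hB _ _ _ h1] at hfix
  exact mul_left_cancel hfix

include hC hBN hO2 hK hR hσp in
theorem h8Sig_fix_Pb_iff (i : ℕ) (t : ℕ → K) :
    h8Sig D σ τ π ϖ η hAut f (h8Pb D hB (h8Lb D posi i) t) = h8Pb D hB (h8Lb D posi i) t ↔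
      ∀ k ∈ h8Lb D posi i, h8tS τ η f t k = t k := by
  constructor
  · intro h
    have h' : h8Sig D σ τ π ϖ η hAut f (h8Pb D hB (h8Lb D posi i) t * 1) =
        h8Pb D hB (h8Lb D posi i) t * 1 := by rw [mul_one]; exact h
    exact (h8Sig_fix_split D hB hC hBN hO2 posi hK hR σ τ π ϖ η hAut f hσp i t 1
      (Subgroup.one_mem _) h').1
  · intro h
    rw [h8Sig_Pb_blk D hB hC hBN hO2 posi hK σ τ π ϖ η hAut f hσp i t]
    exact h8Pb_congr D hB _ _ _ h

include hC hBN hO2 hK hR hσp in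
/-- Theorem A: the fixed points of the twisting endomorphism in `U` lie in any subgroup which
contains the fixed block products -/
theorem h8tw_U_le (G1 : Subgroup (GL D.Idx K)) (M : ℕ) (hM : ∀ r, D.IsPosRoot r → posi r < M)
    (hQ : ∀ i < M, ∀ t : ℕ → K, (∀ k ∈ h8Lb D posi i, h8tS τ η f t k = t k) →
      h8Pb D hB (h8Lb D posi i) t ∈ G1) :
    ∀ n i, i + n = M → ∀ g ∈ h8Ub D K posi i, h8Sig D σ τ π ϖ η hAut f g = g → g ∈ G1 := by
  intro n
  induction n with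
  | zero =>
    intro i hi g hg _
    have : i = M := by omega
    rw [this, h8Ub_top D posi M hM, Subgroup.mem_bot] at hg
    rw [hg]
    exact Subgroup.one_mem _
  | succ n ih =>
    intro i hi g hg hfix
    obtain ⟨t, v, hv, rfl⟩ := h8Ub_step D hB hC hBN hO2 posi hK i g hg
    obtain ⟨h1, h2⟩ := h8Sig_fix_split D hB hC hBN hO2 posi hK hR σ τ π ϖ η hAut f hσp i t v hv hfix
    exact Subgroup.mul_mem _ (hQ i (by omega) t h1) (ih (i + 1) (by omega) v hv h2)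

end

end Cfsg.Agent.Lib.helper8
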