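import Mathlib
import Cfsg.Prelude.Def_ChevStructure
import Cfsg.Agent.Lib.helper8.ChevTwU3

set_option autoImplicit false

namespace Cfsg.Agent.Lib.helper8

open Cfsg.Lie Cfsg.Lie.ChevalleyDatum

universe u

variable {K : Type u} [Field K]

/-- the compatible coordinates of a block -/
def H8Bt (D : ChevalleyDatum) (posi : ℕ → ℕ) (τ : ℕ → ℕ) (η : ℕ → ℤ) (f : K ≃+* K) (i : ℕ) :
    Type u :=
  {t : ℕ → K // (∀ r, r ∉ h8Lb D posi i → t r = 0) ∧
    ∀ k ∈ h8Lb D posi i, h8tS τ η f t k = t k}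

section
variable (D : ChevalleyDatum) (hB : H8Base.{u} D) (hC : H8CommAll.{u} D) (hBN : H8BN D)
  (hO2 : H8Ord2 D) (posi : ℕ → ℕ) (hK : H8Blk D posi) (hR : H8BlkRead D posi)
  (σ τ π ϖ : ℕ → ℕ) (η : ℕ → ℤ) (hAut : H8Aut D σ τ π ϖ η) (f : K ≃+* K)
  (hσp : ∀ r, D.IsPosRoot r → D.IsPosRoot (σ r) ∧ posi (σ r) = posi r)

/-- the fixed points of the twisting endomorphism in a term of the filtration -/
noncomputable def h8FixUb (i : ℕ) : Subgroup (GL D.Idx K) :=
  h8Ub D K posi i ⊓ (h8Sig D σ τ π ϖ η hAut f).eqLocus (MonoidHom.id _)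

theorem h8FixUb_mem (i : ℕ) (g : GL D.Idx K) :
    g ∈ h8FixUb D posi σ τ π ϖ η hAut f i ↔
      g ∈ h8Ub D K posi i ∧ h8Sig D σ τ π ϖ η hAut f g = g := Iff.rfl

include hB hC hBN hO2 hK hR hσp in
theorem h8FixUb_card_step (i : ℕ) :
    Nat.card ↥(h8FixUb D posi σ τ π ϖ η hAut f i) =
      Nat.card (H8Bt D posi τ η f i) * Nat.card ↥(h8FixUb D posi σ τ π ϖ η hAut f (i + 1)) := by
  rw [← Nat.card_prod]
  symm
  have hmem : ∀ (t : H8Bt D posi τ η f i) (v : ↥(h8FixUb D posi σ τ π ϖ η hAut f (i + 1))),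
      h8Pb D hB (h8Lb D posi i) t.1 * v.1 ∈ h8FixUb D posi σ τ π ϖ η hAut f i := by
    intro t v
    obtain ⟨hv1, hv2⟩ := (h8FixUb_mem D posi σ τ π ϖ η hAut f (i + 1) v.1).mp v.2
    rw [h8FixUb_mem]
    refine ⟨Subgroup.mul_mem _ ?_ (h8Ub_mono D posi i hv1), ?_⟩
    · exact h8Pb_mem_Ub D hB posi i _ (fun r hr =>
        ⟨((h8Lb_mem D posi i r).mp hr).1, le_of_eq ((h8Lb_mem D posi i r).mp hr).2.symm⟩) _
    · rw [map_mul, hv2,
        (h8Sig_fix_Pb_iff D hB hC hBN hO2 posi hK hR σ τ π ϖ η hAut f hσp i t.1).mpr t.2.2]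
  apply Nat.card_congr
  refine Equiv.ofBijective (fun p => ⟨h8Pb D hB (h8Lb D posi i) p.1.1 * p.2.1, hmem p.1 p.2⟩)
    ⟨?_, ?_⟩
  · rintro ⟨t, v⟩ ⟨t', v'⟩ h
    have h0 : h8Pb D hB (h8Lb D posi i) t.1 * v.1 = h8Pb D hB (h8Lb D posi i) t'.1 * v'.1 :=
      congrArg Subtype.val h
    have hv := ((h8FixUb_mem D posi σ τ π ϖ η hAut f (i + 1) v.1).mp v.2).1
    have hv' := ((h8FixUb_mem D posi σ τ π ϖ η hAut f (i + 1) v'.1).mp v'.2).1
    have h1 := h8Ub_unique D hB hC hBN hO2 posi hK hR i _ _ _ _ hv hv' h0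
    have ht : t = t' := by
      apply Subtype.ext
      funext r
      by_cases hr : r ∈ h8Lb D posi i
      · exact h1 r hr
      · rw [t.2.1 r hr, t'.2.1 r hr]
    subst ht
    have hvv : v = v' := Subtype.ext (mul_left_cancel h0)
    rw [hvv]
  · rintro ⟨g, hg⟩
    obtain ⟨hg1, hg2⟩ := (h8FixUb_mem D posi σ τ π ϖ η hAut f i g).mp hg
    obtain ⟨t, v, hv, rfl⟩ := h8Ub_step D hB hC hBN hO2 posi hK i g hg1
    obtain ⟨h1, h2⟩ := h8Sig_fix_split D hB hC hBN hO2 posi hK hR σ τ π ϖ η hAut f hσp i t v hv hg2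
    classical
    have hcong : ∀ r ∈ h8Lb D posi i,
        (fun r => if r ∈ h8Lb D posi i then t r else 0) r = t r := by
      intro r hr
      simp only [hr, if_true]
    have hLτ : ∀ k ∈ h8Lb D posi i, τ k ∈ h8Lb D posi i := by
      intro k hk
      have hp := h8Lb_map_perm D posi σ τ π ϖ η hAut hσp i
      have hk' : k ∈ (h8Lb D posi i).map σ := hp.mem_iff.mpr hk
      rw [List.mem_map] at hk'
      obtain ⟨x, hx, rfl⟩ := hk'
      rw [hAut.ts x ((h8Lb_mem D posi i x).mp hx).1.1]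
      exact hx
    refine ⟨⟨⟨fun r => if r ∈ h8Lb D posi i then t r else 0, ?_, ?_⟩, ⟨v, ?_⟩⟩, ?_⟩
    · intro r hr
      simp only [hr, if_false]
    · intro k hk
      have := h1 k hk
      unfold h8tS at this ⊢
      simp only [hk, hLτ k hk, if_true]
      exact this
    · exact (h8FixUb_mem D posi σ τ π ϖ η hAut f (i + 1) v).mpr ⟨hv, h2⟩
    · apply Subtype.ext
      show h8Pb D hB (h8Lb D posi i) (fun r => if r ∈ h8Lb D posi i then t r else 0) * v = _
      rw [h8Pb_congr D hB _ _ _ hcong]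

include hB hC hBN hO2 hK hR hσp in
/-- Theorem B: the number of fixed points of the twisting endomorphism in `U` -/
theorem h8FixUb_card (q M : ℕ) (hM : ∀ r, D.IsPosRoot r → posi r < M)
    (hcard : ∀ i < M, Nat.card (H8Bt D posi τ η f i) = q ^ (h8Lb D posi i).length) :
    ∀ n i, i + n = M → Nat.card ↥(h8FixUb D posi σ τ π ϖ η hAut f i) =
      q ^ ((List.range' i n).map fun j => (h8Lb D posi j).length).sum := by
  intro n
  induction n with
  | zero =>
    intro i hi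
    have hiM : i = M := by omega
    have : h8FixUb D posi σ τ π ϖ η hAut f i = ⊥ := by
      unfold h8FixUb
      rw [hiM, h8Ub_top D posi M hM, bot_inf_eq]
    rw [this, Subgroup.card_bot]
    simp
  | succ n ih =>
    intro i hi
    rw [h8FixUb_card_step D hB hC hBN hO2 posi hK hR σ τ π ϖ η hAut f hσp i,
      ih (i + 1) (by omega), hcard i (by omega), List.range'_succ, List.map_cons, List.sum_cons,
      pow_add]

end

end Cfsg.Agent.Lib.helper8
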