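import Mathlib
import Cfsg.Prelude.Def_ChevStructure
import Cfsg.Agent.Lib.helper8.ChevTwU4

set_option autoImplicit false

namespace Cfsg.Agent.Lib.helper8

open Cfsg.Lie Cfsg.Lie.ChevalleyDatum

universe u

variable {K : Type u} [Field K]

/-- the generators of the subgroup generated by the root subgroups of one block -/
def h8XbSet (D : ChevalleyDatum) (K : Type u) [Field K] (posi : ℕ → ℕ) (i : ℕ) :
    Set (GL D.Idx K) :=
  {g | ∃ (r : ℕ) (t : K), r ∈ h8Lb D posi i ∧ (g : Matrix D.Idx D.Idx K) = D.x K r t}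

section
variable (D : ChevalleyDatum) (hB : H8Base.{u} D) (hC : H8CommAll.{u} D) (hBN : H8BN D)
  (hO2 : H8Ord2 D) (posi : ℕ → ℕ) (hK : H8Blk D posi) (hR : H8BlkRead D posi)
  (σ τ π ϖ : ℕ → ℕ) (η : ℕ → ℤ) (hAut : H8Aut D σ τ π ϖ η) (f : K ≃+* K)
  (hσp : ∀ r, D.IsPosRoot r → D.IsPosRoot (σ r) ∧ posi (σ r) = posi r)

include hC hBN hO2 hK in
/-- the subgroup generated by the root subgroups of one block consists of the block products -/
theorem h8Xb_eq (i : ℕ) (g : GL D.Idx K) (hg : g ∈ Subgroup.closure (h8XbSet D K posi i)) :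
    ∃ t : ℕ → K, g = h8Pb D hB (h8Lb D posi i) t := by
  have hLmem : ∀ r ∈ h8Lb D posi i, D.IsPosRoot r ∧ posi r = i := fun r hr =>
    (h8Lb_mem D posi i r).mp hr
  induction hg using Subgroup.closure_induction_left with
  | one => exact ⟨fun _ => 0, by rw [h8Pb_zero]⟩
  | mul_left x hx y _ ih =>
    obtain ⟨t, rfl⟩ := ih
    obtain ⟨s, c, hs, hxv⟩ := hx
    have hx' : x = h8xU D hB s c := Units.ext (hxv.trans (h8xU_val D hB s c).symm)
    rw [hx']
    exact ⟨_, h8Pb_mul_left D hB hC hBN hO2 posi hK i s (hLmem s hs).1 (hLmem s hs).2 c _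
      (h8Lb_nodup D posi i) hLmem hs t⟩
  | inv_mul_cancel x hx y _ ih =>
    obtain ⟨t, rfl⟩ := ih
    obtain ⟨s, c, hs, hxv⟩ := hx
    have hx' : x = h8xU D hB s c := Units.ext (hxv.trans (h8xU_val D hB s c).symm)
    rw [hx', h8xU_inv]
    exact ⟨_, h8Pb_mul_left D hB hC hBN hO2 posi hK i s (hLmem s hs).1 (hLmem s hs).2 (-c) _
      (h8Lb_nodup D posi i) hLmem hs t⟩

include hC hBN hO2 hK hR hσp in
/-- transporting the containment of the fixed block products along a fixed element of `N` -/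
theorem h8tw_transport (G1 : Subgroup (GL D.Idx K)) (i j : ℕ) (n : GL D.Idx K) (hn : n ∈ G1)
    (hnfix : h8Sig D σ τ π ϖ η hAut f n = n)
    (hact : ∀ s ∈ h8Lb D posi j, ∃ s' ∈ h8Lb D posi i, H8Act D hB n s s')
    (hQi : ∀ t : ℕ → K, (∀ k ∈ h8Lb D posi i, h8tS τ η f t k = t k) →
      h8Pb D hB (h8Lb D posi i) t ∈ G1) :
    ∀ t : ℕ → K, (∀ k ∈ h8Lb D posi j, h8tS τ η f t k = t k) →
      h8Pb D hB (h8Lb D posi j) t ∈ G1 := by
  intro t ht
  have hfix := (h8Sig_fix_Pb_iff D hB hC hBN hO2 posi hK hR σ τ π ϖ η hAut f hσp j t).mpr ht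
  have hmem : MulAut.conj n (h8Pb D hB (h8Lb D posi j) t) ∈
      Subgroup.closure (h8XbSet D K posi i) := by
    unfold h8Pb
    rw [map_list_prod, List.map_map]
    apply Subgroup.list_prod_mem
    intro g hg
    rw [List.mem_map] at hg
    obtain ⟨s, hs, rfl⟩ := hg
    obtain ⟨s', hs', c, _, hc⟩ := hact s hs
    apply Subgroup.subset_closure
    refine ⟨s', c * t s, hs', ?_⟩
    show ((MulAut.conj n (h8xU D hB s (t s)) : GL D.Idx K) : Matrix D.Idx D.Idx K) = _
    rw [MulAut.conj_apply, hc, h8xU_val]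
  obtain ⟨t', ht'⟩ := h8Xb_eq D hB hC hBN hO2 posi hK i _ hmem
  have hfix' : h8Sig D σ τ π ϖ η hAut f (h8Pb D hB (h8Lb D posi i) t') =
      h8Pb D hB (h8Lb D posi i) t' := by
    rw [← ht', MulAut.conj_apply, map_mul, map_mul, map_inv, hnfix, hfix]
  have h1 := hQi t' ((h8Sig_fix_Pb_iff D hB hC hBN hO2 posi hK hR σ τ π ϖ η hAut f hσp i t').mp
    hfix')
  rw [← ht', MulAut.conj_apply] at h1
  have e : h8Pb D hB (h8Lb D posi j) t =
      n⁻¹ * (n * h8Pb D hB (h8Lb D posi j) t * n⁻¹) * n := by group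
  rw [e]
  exact Subgroup.mul_mem _ (Subgroup.mul_mem _ (Subgroup.inv_mem _ hn) h1) hn

include hC hBN hO2 hK hR hσp in
/-- all fixed block products lie in `G1`, given a certificate reaching every block from the
base blocks -/
theorem h8tw_Q_all (G1 : Subgroup (GL D.Idx K)) (M : ℕ) (dep par : ℕ → ℕ)
    (nJ : ℕ → GL D.Idx K)
    (hbase : ∀ i < M, dep i = 0 → ∀ t : ℕ → K, (∀ k ∈ h8Lb D posi i, h8tS τ η f t k = t k) →
      h8Pb D hB (h8Lb D posi i) t ∈ G1)
    (hstep : ∀ j < M, dep j ≠ 0 → par j < M ∧ dep (par j) < dep j ∧ nJ j ∈ G1 ∧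
      h8Sig D σ τ π ϖ η hAut f (nJ j) = nJ j ∧
      ∀ s ∈ h8Lb D posi j, ∃ s' ∈ h8Lb D posi (par j), H8Act D hB (nJ j) s s') :
    ∀ i < M, ∀ t : ℕ → K, (∀ k ∈ h8Lb D posi i, h8tS τ η f t k = t k) →
      h8Pb D hB (h8Lb D posi i) t ∈ G1 := by
  have key : ∀ d i, dep i = d → i < M → ∀ t : ℕ → K,
      (∀ k ∈ h8Lb D posi i, h8tS τ η f t k = t k) → h8Pb D hB (h8Lb D posi i) t ∈ G1 := by
    intro d
    induction d using Nat.strong_induction_on with
    | _ d ih =>
      intro i hd hi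
      by_cases h0 : dep i = 0
      · exact hbase i hi h0
      · obtain ⟨h1, h2, h3, h4, h5⟩ := hstep i hi h0
        exact h8tw_transport D hB hC hBN hO2 posi hK hR σ τ π ϖ η hAut f hσp G1 (par i) i (nJ i)
          h3 h4 h5 (ih (dep (par i)) (hd ▸ h2) (par i) rfl h1)
  intro i hi
  exact key (dep i) i rfl hi

include hAut in
/-- base case: a block consisting of one fixed root -/
theorem h8tw_base1 (G1 : Subgroup (GL D.Idx K)) (i r : ℕ) (hL : h8Lb D posi i = [r])
    (hr : r < D.nroots) (hσ : σ r = r) (hη : η r = 1)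
    (hgen : ∀ c : K, f c = c → h8xU D hB r c ∈ G1) :
    ∀ t : ℕ → K, (∀ k ∈ h8Lb D posi i, h8tS τ η f t k = t k) →
      h8Pb D hB (h8Lb D posi i) t ∈ G1 := by
  intro t ht
  have hτ : τ r = r := by
    have := hAut.ts r hr
    rw [hσ] at this
    exact this
  have h1 := ht r (by rw [hL]; exact List.mem_singleton_self r)
  unfold h8tS at h1
  rw [hτ, hη, Int.cast_one, one_mul] at h1
  rw [hL, h8Pb_cons, h8Pb_nil, mul_one]
  exact hgen _ h1

include hAut hC hBN hO2 hK in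
/-- base case: a block consisting of two interchanged roots -/
theorem h8tw_base2 (G1 : Subgroup (GL D.Idx K)) (i r r' : ℕ) (hL : h8Lb D posi i = [r, r'])
    (hσ' : σ r' = r) (hη' : η r' = 1)
    (hgen : ∀ c : K, h8xU D hB r' c * h8xU D hB r (f c) ∈ G1) :
    ∀ t : ℕ → K, (∀ k ∈ h8Lb D posi i, h8tS τ η f t k = t k) →
      h8Pb D hB (h8Lb D posi i) t ∈ G1 := by
  intro t ht
  have hrL : r ∈ h8Lb D posi i := by rw [hL]; exact List.mem_cons_self
  have hrL' : r' ∈ h8Lb D posi i := by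
    rw [hL]; exact List.mem_cons_of_mem _ (List.mem_singleton_self r')
  obtain ⟨hp, hpi⟩ := (h8Lb_mem D posi i r).mp hrL
  obtain ⟨hp', hpi'⟩ := (h8Lb_mem D posi i r').mp hrL'
  have hτ : τ r = r' := by
    have := hAut.ts r' hp'.1
    rw [hσ'] at this
    exact this
  have h1 := ht r hrL
  unfold h8tS at h1
  rw [hτ, hη', Int.cast_one, one_mul] at h1
  rw [hL, h8Pb_cons, h8Pb_cons, h8Pb_nil, mul_one, ← h1,
    (h8blk_commute D hB hC hBN hO2 posi hK r r' hp hp' (hpi.trans hpi'.symm) _ _).eq]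
  exact hgen _

include hAut hC hBN hO2 hK in
/-- base case: a block consisting of three cyclically permuted roots -/
theorem h8tw_base3 (G1 : Subgroup (GL D.Idx K)) (i a b c : ℕ) (hL : h8Lb D posi i = [a, b, c])
    (hσc : σ c = b) (hσb : σ b = a) (hηc : η c = 1) (hηb : η b = 1)
    (hgen : ∀ u : K, h8xU D hB c u * h8xU D hB b (f u) * h8xU D hB a (f (f u)) ∈ G1) :
    ∀ t : ℕ → K, (∀ k ∈ h8Lb D posi i, h8tS τ η f t k = t k) →
      h8Pb D hB (h8Lb D posi i) t ∈ G1 := by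
  intro t ht
  have haL : a ∈ h8Lb D posi i := by rw [hL]; simp
  have hbL : b ∈ h8Lb D posi i := by rw [hL]; simp
  have hcL : c ∈ h8Lb D posi i := by rw [hL]; simp
  obtain ⟨hpa, hia⟩ := (h8Lb_mem D posi i a).mp haL
  obtain ⟨hpb, hib⟩ := (h8Lb_mem D posi i b).mp hbL
  obtain ⟨hpc, hic⟩ := (h8Lb_mem D posi i c).mp hcL
  have hτb : τ b = c := by
    have := hAut.ts c hpc.1
    rw [hσc] at this
    exact this
  have hτa : τ a = b := by
    have := hAut.ts b hpb.1
    rw [hσb] at this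
    exact this
  have h1 := ht b hbL
  unfold h8tS at h1
  rw [hτb, hηc, Int.cast_one, one_mul] at h1
  have h2 := ht a haL
  unfold h8tS at h2
  rw [hτa, hηb, Int.cast_one, one_mul, ← h1] at h2
  have cab := h8blk_commute (K := K) D hB hC hBN hO2 posi hK a b hpa hpb (hia.trans hib.symm)
  have cac := h8blk_commute (K := K) D hB hC hBN hO2 posi hK a c hpa hpc (hia.trans hic.symm)
  have cbc := h8blk_commute (K := K) D hB hC hBN hO2 posi hK b c hpb hpc (hib.trans hic.symm)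
  rw [hL, h8Pb_cons, h8Pb_cons, h8Pb_cons, h8Pb_nil, mul_one, ← h2, ← h1]
  have e : h8xU D hB a (f (f (t c))) * (h8xU D hB b (f (t c)) * h8xU D hB c (t c)) =
      h8xU D hB c (t c) * h8xU D hB b (f (t c)) * h8xU D hB a (f (f (t c))) := by
    rw [(cbc _ _).eq, ← mul_assoc, (cac _ _).eq, mul_assoc, (cab _ _).eq, ← mul_assoc]
  rw [e]
  exact hgen _

end

end Cfsg.Agent.Lib.helper8
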