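import Mathlib
import Cfsg.Prelude.Def_ChevStructure
import Cfsg.Prelude.Def_ChevWords
import Cfsg.Agent.Lib.helper8.ChevTwB6
import Cfsg.Agent.Lib.helper8.ChevTwU5

set_option autoImplicit false

namespace Cfsg.Agent.Lib.helper8

open Cfsg.Lie Cfsg.Lie.ChevalleyDatum

universe u

variable {K : Type u} [Field K]

/-- a subgroup generated by words lies in the Chevalley group -/
theorem h8gen_le_group (D : ChevalleyDatum) (hB : H8Base.{u} D) (S : Set (List (ℕ × K))) :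
    D.genSubgroup K S ≤ D.group K := by
  unfold ChevalleyDatum.genSubgroup
  rw [Subgroup.closure_le]
  rintro g ⟨w, _, hg⟩
  have : g = h8wordU D hB w := Units.ext (hg.trans (h8wordU_val D hB w).symm)
  rw [this]
  exact h8wordU_mem_group D hB w

section
variable (D : ChevalleyDatum) (hB : H8Base.{u} D) (hC : H8CommAll.{u} D) (hBN : H8BN D)
  (hO2 : H8Ord2 D) (posi : ℕ → ℕ) (hK : H8Blk D posi) (hR : H8BlkRead D posi)
  (σ τ π ϖ : ℕ → ℕ) (η : ℕ → ℤ) (hAut : H8Aut D σ τ π ϖ η) (f : K ≃+* K)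
  (hσp : ∀ r, D.IsPosRoot r → D.IsPosRoot (σ r) ∧ posi (σ r) = posi r)

include hC hBN hO2 hK hR hσp in
/-- a non-trivial fixed element in the root subgroups of a simple orbit -/
theorem h8tw_xJ (G1 : Subgroup (GL D.Idx K))
    (hUfix : ∀ g ∈ D.posUnipotent K, h8Sig D σ τ π ϖ η hAut f g = g → g ∈ G1)
    (J : List (Fin D.rank)) (i : ℕ) (hne : h8Lb D posi i ≠ [])
    (hLJ : ∀ r ∈ h8Lb D posi i, (∃ j ∈ J, r = D.simple j.val) ∧ η (τ r) = 1) :
    ∃ x ∈ G1, x ≠ 1 ∧ x ∈ Subgroup.closure {g : GL D.Idx K |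
      ∃ j ∈ J, ∃ t : K, g = h8xU D hB (D.simple j.val) t} := by
  have hcompat : ∀ k ∈ h8Lb D posi i, h8tS τ η f (fun _ => (1 : K)) k = (fun _ => (1 : K)) k := by
    intro k hk
    unfold h8tS
    rw [(hLJ k hk).2, Int.cast_one, one_mul, map_one]
  have hfixx := (h8Sig_fix_Pb_iff D hB hC hBN hO2 posi hK hR σ τ π ϖ η hAut f hσp i
    (fun _ => (1 : K))).mpr hcompat
  have hU : h8Pb D hB (h8Lb D posi i) (fun _ => (1 : K)) ∈ D.posUnipotent K := by
    rw [← h8Ub_zero D posi]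
    exact h8Pb_mem_Ub D hB posi 0 _ (fun r hr =>
      ⟨((h8Lb_mem D posi i r).mp hr).1, Nat.zero_le _⟩) _
  refine ⟨_, hUfix _ hU hfixx, ?_, ?_⟩
  · intro h1
    obtain ⟨r, hr⟩ := List.exists_mem_of_ne_nil _ hne
    have h2 : h8Pb D hB (h8Lb D posi i) (fun _ => (1 : K)) * 1 =
        h8Pb D hB (h8Lb D posi i) (fun _ => (0 : K)) * 1 := by
      rw [h1, h8Pb_zero]
    have := h8Ub_unique D hB hC hBN hO2 posi hK hR i _ _ 1 1 (Subgroup.one_mem _)
      (Subgroup.one_mem _) h2 r hr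
    exact one_ne_zero this
  · unfold h8Pb
    apply Subgroup.list_prod_mem
    intro g hg
    rw [List.mem_map] at hg
    obtain ⟨r, hr, rfl⟩ := hg
    obtain ⟨j, hj, rfl⟩ := (hLJ r hr).1
    exact Subgroup.subset_closure ⟨j, hj, 1, rfl⟩

end

end Cfsg.Agent.Lib.helper8
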