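import Mathlib
import Cfsg.Prelude.Def_ChevStructure
import Cfsg.Agent.Lib.helper8.ChevTw7

set_option autoImplicit false

namespace Cfsg.Agent.Lib.helper8

open Cfsg.Lie Cfsg.Lie.ChevalleyDatum

universe u

/-- the `q`-power Frobenius automorphism of a finite field with `q ^ m` elements -/
theorem h8frob_exists {K : Type u} [Field K] [Fintype K] {q : ℕ} (hq : IsPrimePow q) (m : ℕ)
    (hm : 0 < m) (hK : Fintype.card K = q ^ m) :
    ∃ f : K ≃+* K, (∀ t, f t = t ^ q) ∧ (∀ t, (f^[m]) t = t) ∧ (-1 : K) ^ q = -1 := by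
  obtain ⟨p, k, hp, hk, rfl⟩ := (isPrimePow_nat_iff q).mp hq
  obtain ⟨p', hp'⟩ := CharP.exists K
  obtain ⟨n, hp'prime, hcard⟩ := FiniteField.card K p'
  have hpp : p' = p := by
    have h1 : p' ∣ (p ^ k) ^ m := by
      rw [← hK, hcard]
      exact dvd_pow_self p' n.ne_zero
    have h2 := hp'prime.dvd_of_dvd_pow (hp'prime.dvd_of_dvd_pow h1)
    exact (Nat.prime_dvd_prime_iff_eq hp'prime hp).mp h2
  subst hpp
  haveI : Fact p'.Prime := ⟨hp⟩
  haveI : ExpChar K p' := ExpChar.prime hp
  refine ⟨iterateFrobeniusEquiv K p' k, fun t => iterateFrobeniusEquiv_def K p' k t, ?_,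
    neg_one_pow_char_pow K p' k⟩
  intro t
  have hiter : ∀ j : ℕ, ((iterateFrobeniusEquiv K p' k)^[j]) t = t ^ ((p' ^ k) ^ j) := by
    intro j
    induction j with
    | zero => simp
    | succ j ih =>
      rw [Function.iterate_succ_apply', ih, iterateFrobeniusEquiv_def, ← pow_mul, pow_succ]
  rw [hiter, ← hK]
  exact FiniteField.pow_card t

theorem h8rearr2 {G : Type*} [Group G] (a b c a' b' c' : G) (h1 : Commute a' c)
    (h2 : Commute a' b) (h3 : Commute b' c) :
    a * b * c * (a' * b' * c') = (a * a') * (b * b') * (c * c') := by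
  calc a * b * c * (a' * b' * c') = a * b * (c * a') * b' * c' := by group
    _ = a * b * (a' * c) * b' * c' := by rw [h1.eq]
    _ = a * (b * a') * (c * b') * c' := by group
    _ = a * (a' * b) * (b' * c) * c' := by rw [h2.eq, h3.eq]
    _ = (a * a') * (b * b') * (c * c') := by group

theorem h8rearr3 {G : Type*} [Group G] (a b c a' b' c' a'' b'' c'' : G)
    (h1 : Commute a' c) (h2 : Commute a' b) (h3 : Commute b' c)
    (h4 : Commute a'' (c * c')) (h5 : Commute a'' (b * b')) (h6 : Commute b'' (c * c')) :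
    a * b * c * (a' * b' * c') * (a'' * b'' * c'') =
      (a * a' * a'') * (b * b' * b'') * (c * c' * c'') := by
  rw [h8rearr2 a b c a' b' c' h1 h2 h3]
  rw [h8rearr2 (a * a') (b * b') (c * c') a'' b'' c'' h4 h5 h6]

end Cfsg.Agent.Lib.helper8
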