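import Mathlib
import Cfsg.Prelude.Def_ChevStructure
import Cfsg.Agent.Lib.helper8.ChevAut3

set_option autoImplicit false

namespace Cfsg.Agent.Lib.helper8

open Cfsg.Lie Cfsg.Lie.ChevalleyDatum

def h8autRow (D : ChevalleyDatum) (σ τ π : ℕ → ℕ) (η : ℕ → ℤ) (s : ℕ) : Bool :=
  decide (σ s < D.nroots) && decide (τ s < D.nroots) && decide (σ (τ s) = s) &&
  decide (τ (σ s) = s) && decide (D.negIdx.getD s 0 < D.nroots) &&
  decide (σ (D.negIdx.getD s 0) = D.negIdx.getD (σ s) 0) &&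
  decide (η s = 1 ∨ η s = -1) && decide (η s * η (D.negIdx.getD s 0) = 1) &&
  ((List.range D.rank).all fun j =>
    decide (D.cartan (π j) (σ s) = D.cartan j s) &&
    decide ((D.coroot.getD (σ s) #[]).getD (π j) 0 = (D.coroot.getD s #[]).getD j 0)) &&
  ((D.chain.getD s #[]).toList.all fun e =>
    decide (e.1 < D.nroots) && e.2.toList.all (fun q => decide (q.1 < D.nroots)) &&
    decide (D.chainEntry (σ s) (σ e.1) = h8mapEnt σ η (η s) (η e.1) 0 e.2.toList) &&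
    (e.2.toList.isEmpty || !(D.chainEntry (τ s) (τ e.1)).isEmpty))

def h8autChk (D : ChevalleyDatum) (σ τ π ϖ : ℕ → ℕ) (η : ℕ → ℤ) : Bool :=
  ((List.range D.rank).all fun j =>
    decide (π j < D.rank) && decide (ϖ j < D.rank) && decide (π (ϖ j) = j) &&
      decide (ϖ (π j) = j)) &&
  (List.range D.nroots).all (h8autRow D σ τ π η)

theorem h8autChk_spec (D : ChevalleyDatum) (σ τ π ϖ : ℕ → ℕ) (η : ℕ → ℤ)
    (hce : h8ceChk D = true) (h : h8autChk D σ τ π ϖ η = true) : H8Aut D σ τ π ϖ η := by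
  unfold h8autChk at h
  simp only [Bool.and_eq_true, decide_eq_true_eq, List.all_eq_true, List.mem_range] at h
  obtain ⟨hp, hrow⟩ := h
  have hrow' : ∀ s < D.nroots, σ s < D.nroots ∧ τ s < D.nroots ∧ σ (τ s) = s ∧ τ (σ s) = s ∧
      D.negIdx.getD s 0 < D.nroots ∧ σ (D.negIdx.getD s 0) = D.negIdx.getD (σ s) 0 ∧
      (η s = 1 ∨ η s = -1) ∧ η s * η (D.negIdx.getD s 0) = 1 ∧
      (∀ j < D.rank, D.cartan (π j) (σ s) = D.cartan j s ∧
        (D.coroot.getD (σ s) #[]).getD (π j) 0 = (D.coroot.getD s #[]).getD j 0) ∧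
      (∀ e ∈ (D.chain.getD s #[]).toList, e.1 < D.nroots ∧ (∀ q ∈ e.2.toList, q.1 < D.nroots) ∧
        D.chainEntry (σ s) (σ e.1) = h8mapEnt σ η (η s) (η e.1) 0 e.2.toList ∧
        (e.2.toList ≠ [] → D.chainEntry (τ s) (τ e.1) ≠ [])) := by
    intro s hs
    have := hrow s hs
    unfold h8autRow at this
    simp only [Bool.and_eq_true, decide_eq_true_eq, List.all_eq_true, List.mem_range,
      Bool.or_eq_true, List.isEmpty_iff, Bool.not_eq_true', ] at this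
    obtain ⟨⟨⟨⟨⟨⟨⟨⟨⟨a1, a2⟩, a3⟩, a4⟩, a5⟩, a6⟩, a7⟩, a8⟩, a9⟩, a10⟩ := this
    refine ⟨a1, a2, a3, a4, a5, a6, a7, a8, a9, ?_⟩
    intro e he
    obtain ⟨⟨⟨b1, b2⟩, b3⟩, b4⟩ := a10 e he
    refine ⟨b1, b2, b3, ?_⟩
    intro hne
    rcases b4 with b4 | b4
    · exact absurd b4 hne
    · intro h0
      rw [h0] at b4
      simp at b4
  refine ⟨fun s hs => (hrow' s hs).1, fun s hs => (hrow' s hs).2.1, fun s hs => (hrow' s hs).2.2.1,
    fun s hs => (hrow' s hs).2.2.2.1, fun j hj => (hp j hj).1.1.1, fun j hj => (hp j hj).1.1.2,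
    fun j hj => (hp j hj).1.2, fun j hj => (hp j hj).2, fun s hs => (hrow' s hs).2.2.2.2.2.1,
    fun s hs => (hrow' s hs).2.2.2.2.1, fun s hs => h8ceChk_sorted D hce s hs,
    fun s hs => (hrow' s hs).2.2.2.2.2.2.1, fun s hs => (hrow' s hs).2.2.2.2.2.2.2.1,
    fun j hj s hs => ((hrow' s hs).2.2.2.2.2.2.2.2.1 j hj).1,
    fun j hj s hs => ((hrow' s hs).2.2.2.2.2.2.2.2.1 j hj).2, ?_, ?_⟩
  · intro s hs e he
    obtain ⟨c1, c2, c3, _⟩ := (hrow' s hs).2.2.2.2.2.2.2.2.2 e he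
    exact ⟨c1, c2, c3⟩
  · intro s hs e he
    exact ((hrow' s hs).2.2.2.2.2.2.2.2.2 e he).2.2.2

end Cfsg.Agent.Lib.helper8
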