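import Mathlib
import Cfsg.Prelude.Def_ChevStructure
import Cfsg.Prelude.Def_ChevAutomorphisms
import Cfsg.Agent.Lib.helper8.ChevAut4

set_option autoImplicit false

namespace Cfsg.Agent.Lib.helper8

open Cfsg.Lie Cfsg.Lie.ChevalleyDatum

universe u

variable {F : Type u} [Field F]

def h8permRootL (D : ChevalleyDatum) (π : ℕ → ℕ) (r : ℕ) : ℕ :=
  ((List.range D.nroots).find? fun s => (List.range D.rank).all fun i =>
      (D.coroot.getD s #[]).getD (π i) 0 == (D.coroot.getD r #[]).getD i 0).getD r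

theorem h8permRoot_eq (D : ChevalleyDatum) (p : Equiv.Perm (Fin D.rank)) (π : ℕ → ℕ)
    (h : ∀ i : Fin D.rank, (p i).val = π i.val) (r : ℕ) :
    D.permRoot p r = h8permRootL D π r := by
  unfold ChevalleyDatum.permRoot h8permRootL
  congr 2
  funext s
  rw [Bool.eq_iff_iff]
  simp only [List.all_eq_true, List.mem_finRange, true_imp_iff, List.mem_range, beq_iff_eq]
  constructor
  · intro hh i hi
    have := hh ⟨i, hi⟩
    rwa [h ⟨i, hi⟩] at this
  · intro hh i
    rw [h i]
    exact hh i.val i.2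

def h8autX (D : ChevalleyDatum) (σ π : ℕ → ℕ) (η : ℕ → ℤ) : Bool :=
  ((List.range D.rank).all fun i =>
    decide (D.simple i < D.nroots) && decide (D.neg (D.simple i) < D.nroots) &&
    decide (σ (D.simple i) = D.simple (π i)) && decide (η (D.simple i) = 1) &&
    decide (σ (D.neg (D.simple i)) = D.neg (D.simple (π i))) &&
    decide (η (D.neg (D.simple i)) = 1)) &&
  (List.range D.nroots).all fun r => decide (σ r = h8permRootL D π r)

theorem h8graph_aut (D : ChevalleyDatum) (hB : H8Base.{u} D) (hce : h8ceChk D = true)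
    (σ τ π ϖ : ℕ → ℕ) (η : ℕ → ℤ)
    (h1 : h8autChk D σ τ π ϖ η = true) (h2 : h8autX D σ π η = true) :
    ∃ α : ↥(D.group F) ≃* ↥(D.group F),
      (∀ (g : ↥(D.group F)) (i : ℕ) (t : F), i < D.rank →
        (((g : GL D.Idx F) : Matrix D.Idx D.Idx F) = D.x F (D.simple i) t →
          ((α g : GL D.Idx F) : Matrix D.Idx D.Idx F) = D.x F (D.simple (π i)) t) ∧
        (((g : GL D.Idx F) : Matrix D.Idx D.Idx F) = D.x F (D.neg (D.simple i)) t →
          ((α g : GL D.Idx F) : Matrix D.Idx D.Idx F) = D.x F (D.neg (D.simple (π i))) t)) ∧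
      (∀ (g : ↥(D.group F)) (r : ℕ) (t : F), r < D.nroots →
        ((g : GL D.Idx F) : Matrix D.Idx D.Idx F) = D.x F r t →
          ((α g : GL D.Idx F) : Matrix D.Idx D.Idx F) =
            D.x F (h8permRootL D π r) (((η r : ℤ) : F) * t)) := by
  have hA := h8autChk_spec D σ τ π ϖ η hce h1
  unfold h8autX at h2
  simp only [Bool.and_eq_true, decide_eq_true_eq, List.all_eq_true, List.mem_range] at h2
  obtain ⟨hs, hp⟩ := h2
  refine ⟨h8autEquiv D σ τ π ϖ η hA hB, ?_, ?_⟩
  · intro g i t hi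
    obtain ⟨⟨⟨⟨⟨a1, a2⟩, a3⟩, a4⟩, a5⟩, a6⟩ := hs i hi
    constructor
    · intro hg
      rw [h8autEquiv_x D σ τ π ϖ η hA hB g _ a1 t hg, a3, a4, Int.cast_one, one_mul]
    · intro hg
      rw [h8autEquiv_x D σ τ π ϖ η hA hB g _ a2 t hg, a5, a6, Int.cast_one, one_mul]
  · intro g r t hr hg
    rw [h8autEquiv_x D σ τ π ϖ η hA hB g _ hr t hg, hp r hr]

end Cfsg.Agent.Lib.helper8
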