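import Mathlib
import Cfsg.Prelude.Def_ChevD4
import Cfsg.Prelude.Def_ChevE6
import Cfsg.Agent.Lib.helper8.ChevAut5

set_option autoImplicit false

namespace Cfsg.Agent.Lib.helper8

open Cfsg.Lie Cfsg.Lie.ChevalleyDatum

def h8aS_D4_0 : List ℕ := [0, 1, 2, 3, 4, 5, 6, 7, 8, 9, 10, 11, 12, 13, 14, 15, 16, 17, 18, 19, 20, 21, 22, 23]

def h8aT_D4_0 : List ℕ := [0, 1, 2, 3, 4, 5, 6, 7, 8, 9, 10, 11, 12, 13, 14, 15, 16, 17, 18, 19, 20, 21, 22, 23]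

def h8aE_D4_0 : List ℤ := [1, 1, 1, 1, 1, 1, 1, 1, 1, 1, 1, 1, 1, 1, 1, 1, 1, 1, 1, 1, 1, 1, 1, 1]

def h8aP_D4_0 : List ℕ := [0, 1, 2, 3]

def h8aQ_D4_0 : List ℕ := [0, 1, 2, 3]

theorem h8aChk_D4_0 : h8autChk chevD4 (fun s => h8aS_D4_0.getD s 0) (fun s => h8aT_D4_0.getD s 0)
    (fun j => h8aP_D4_0.getD j 0) (fun j => h8aQ_D4_0.getD j 0) (fun s => h8aE_D4_0.getD s 0) = true := by
  decide +kernel

theorem h8aX_D4_0 : h8autX chevD4 (fun s => h8aS_D4_0.getD s 0)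
    (fun j => h8aP_D4_0.getD j 0) (fun s => h8aE_D4_0.getD s 0) = true := by
  decide +kernel

def h8aS_D4_1 : List ℕ := [0, 1, 3, 2, 4, 5, 6, 8, 7, 9, 11, 10, 13, 12, 14, 16, 15, 17, 18, 19, 21, 20, 22, 23]

def h8aT_D4_1 : List ℕ := [0, 1, 3, 2, 4, 5, 6, 8, 7, 9, 11, 10, 13, 12, 14, 16, 15, 17, 18, 19, 21, 20, 22, 23]

def h8aE_D4_1 : List ℤ := [1, 1, 1, 1, 1, 1, 1, 1, 1, 1, 1, 1, 1, 1, 1, 1, 1, 1, 1, 1, 1, 1, 1, 1]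

def h8aP_D4_1 : List ℕ := [0, 1, 3, 2]

def h8aQ_D4_1 : List ℕ := [0, 1, 3, 2]

theorem h8aChk_D4_1 : h8autChk chevD4 (fun s => h8aS_D4_1.getD s 0) (fun s => h8aT_D4_1.getD s 0)
    (fun j => h8aP_D4_1.getD j 0) (fun j => h8aQ_D4_1.getD j 0) (fun s => h8aE_D4_1.getD s 0) = true := by
  decide +kernel

theorem h8aX_D4_1 : h8autX chevD4 (fun s => h8aS_D4_1.getD s 0)
    (fun j => h8aP_D4_1.getD j 0) (fun s => h8aE_D4_1.getD s 0) = true := by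
  decide +kernel

def h8aS_D4_2 : List ℕ := [0, 1, 2, 6, 7, 10, 3, 4, 8, 9, 5, 11, 12, 18, 14, 15, 19, 20, 13, 16, 17, 21, 22, 23]

def h8aT_D4_2 : List ℕ := [0, 1, 2, 6, 7, 10, 3, 4, 8, 9, 5, 11, 12, 18, 14, 15, 19, 20, 13, 16, 17, 21, 22, 23]

def h8aE_D4_2 : List ℤ := [1, 1, 1, -1, -1, 1, -1, -1, 1, 1, 1, 1, 1, 1, 1, 1, -1, -1, 1, -1, -1, 1, 1, 1]

def h8aP_D4_2 : List ℕ := [2, 1, 0, 3]

def h8aQ_D4_2 : List ℕ := [2, 1, 0, 3]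

theorem h8aChk_D4_2 : h8autChk chevD4 (fun s => h8aS_D4_2.getD s 0) (fun s => h8aT_D4_2.getD s 0)
    (fun j => h8aP_D4_2.getD j 0) (fun j => h8aQ_D4_2.getD j 0) (fun s => h8aE_D4_2.getD s 0) = true := by
  decide +kernel

theorem h8aX_D4_2 : h8autX chevD4 (fun s => h8aS_D4_2.getD s 0)
    (fun j => h8aP_D4_2.getD j 0) (fun s => h8aE_D4_2.getD s 0) = true := by
  decide +kernel

def h8aS_D4_3 : List ℕ := [0, 1, 6, 2, 7, 10, 3, 8, 4, 9, 11, 5, 18, 12, 14, 19, 15, 20, 13, 16, 21, 17, 22, 23]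

def h8aT_D4_3 : List ℕ := [0, 1, 3, 6, 8, 11, 2, 4, 7, 9, 5, 10, 13, 18, 14, 16, 19, 21, 12, 15, 17, 20, 22, 23]

def h8aE_D4_3 : List ℤ := [1, 1, -1, 1, -1, 1, -1, 1, -1, 1, 1, 1, 1, 1, 1, -1, 1, -1, 1, -1, 1, -1, 1, 1]

def h8aP_D4_3 : List ℕ := [2, 1, 3, 0]

def h8aQ_D4_3 : List ℕ := [3, 1, 0, 2]

theorem h8aChk_D4_3 : h8autChk chevD4 (fun s => h8aS_D4_3.getD s 0) (fun s => h8aT_D4_3.getD s 0)
    (fun j => h8aP_D4_3.getD j 0) (fun j => h8aQ_D4_3.getD j 0) (fun s => h8aE_D4_3.getD s 0) = true := by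
  decide +kernel

theorem h8aX_D4_3 : h8autX chevD4 (fun s => h8aS_D4_3.getD s 0)
    (fun j => h8aP_D4_3.getD j 0) (fun s => h8aE_D4_3.getD s 0) = true := by
  decide +kernel

def h8aS_D4_4 : List ℕ := [0, 1, 3, 6, 8, 11, 2, 4, 7, 9, 5, 10, 13, 18, 14, 16, 19, 21, 12, 15, 17, 20, 22, 23]

def h8aT_D4_4 : List ℕ := [0, 1, 6, 2, 7, 10, 3, 8, 4, 9, 11, 5, 18, 12, 14, 19, 15, 20, 13, 16, 21, 17, 22, 23]

def h8aE_D4_4 : List ℤ := [1, 1, 1, -1, -1, 1, -1, -1, 1, 1, 1, 1, 1, 1, 1, 1, -1, -1, 1, -1, -1, 1, 1, 1]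

def h8aP_D4_4 : List ℕ := [3, 1, 0, 2]

def h8aQ_D4_4 : List ℕ := [2, 1, 3, 0]

theorem h8aChk_D4_4 : h8autChk chevD4 (fun s => h8aS_D4_4.getD s 0) (fun s => h8aT_D4_4.getD s 0)
    (fun j => h8aP_D4_4.getD j 0) (fun j => h8aQ_D4_4.getD j 0) (fun s => h8aE_D4_4.getD s 0) = true := by
  decide +kernel

theorem h8aX_D4_4 : h8autX chevD4 (fun s => h8aS_D4_4.getD s 0)
    (fun j => h8aP_D4_4.getD j 0) (fun s => h8aE_D4_4.getD s 0) = true := by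
  decide +kernel

def h8aS_D4_5 : List ℕ := [0, 1, 6, 3, 8, 11, 2, 7, 4, 9, 10, 5, 18, 13, 14, 19, 16, 21, 12, 15, 20, 17, 22, 23]

def h8aT_D4_5 : List ℕ := [0, 1, 6, 3, 8, 11, 2, 7, 4, 9, 10, 5, 18, 13, 14, 19, 16, 21, 12, 15, 20, 17, 22, 23]

def h8aE_D4_5 : List ℤ := [1, 1, -1, 1, -1, 1, -1, 1, -1, 1, 1, 1, 1, 1, 1, -1, 1, -1, 1, -1, 1, -1, 1, 1]

def h8aP_D4_5 : List ℕ := [3, 1, 2, 0]

def h8aQ_D4_5 : List ℕ := [3, 1, 2, 0]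

theorem h8aChk_D4_5 : h8autChk chevD4 (fun s => h8aS_D4_5.getD s 0) (fun s => h8aT_D4_5.getD s 0)
    (fun j => h8aP_D4_5.getD j 0) (fun j => h8aQ_D4_5.getD j 0) (fun s => h8aE_D4_5.getD s 0) = true := by
  decide +kernel

theorem h8aX_D4_5 : h8autX chevD4 (fun s => h8aS_D4_5.getD s 0)
    (fun j => h8aP_D4_5.getD j 0) (fun s => h8aE_D4_5.getD s 0) = true := by
  decide +kernel

def h8aS_E6_0 : List ℕ := [0, 1, 2, 3, 4, 5, 6, 7, 8, 9, 10, 11, 12, 13, 14, 15, 16, 17, 18, 19, 20, 21, 22, 23, 24, 25, 26, 27, 28, 29, 30, 31, 32, 33, 34, 35, 36, 37, 38, 39, 40, 41, 42, 43, 44, 45, 46, 47, 48, 49, 50, 51, 52, 53, 54, 55, 56, 57, 58, 59, 60, 61, 62, 63, 64, 65, 66, 67, 68, 69, 70, 71]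

def h8aT_E6_0 : List ℕ := [0, 1, 2, 3, 4, 5, 6, 7, 8, 9, 10, 11, 12, 13, 14, 15, 16, 17, 18, 19, 20, 21, 22, 23, 24, 25, 26, 27, 28, 29, 30, 31, 32, 33, 34, 35, 36, 37, 38, 39, 40, 41, 42, 43, 44, 45, 46, 47, 48, 49, 50, 51, 52, 53, 54, 55, 56, 57, 58, 59, 60, 61, 62, 63, 64, 65, 66, 67, 68, 69, 70, 71]

def h8aE_E6_0 : List ℤ := [1, 1, 1, 1, 1, 1, 1, 1, 1, 1, 1, 1, 1, 1, 1, 1, 1, 1, 1, 1, 1, 1, 1, 1, 1, 1, 1, 1, 1, 1, 1, 1, 1, 1, 1, 1, 1, 1, 1, 1, 1, 1, 1, 1, 1, 1, 1, 1, 1, 1, 1, 1, 1, 1, 1, 1, 1, 1, 1, 1, 1, 1, 1, 1, 1, 1, 1, 1, 1, 1, 1, 1]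

def h8aP_E6_0 : List ℕ := [0, 1, 2, 3, 4, 5]

def h8aQ_E6_0 : List ℕ := [0, 1, 2, 3, 4, 5]

theorem h8aChk_E6_0 : h8autChk chevE6 (fun s => h8aS_E6_0.getD s 0) (fun s => h8aT_E6_0.getD s 0)
    (fun j => h8aP_E6_0.getD j 0) (fun j => h8aQ_E6_0.getD j 0) (fun s => h8aE_E6_0.getD s 0) = true := by
  decide +kernel

theorem h8aX_E6_0 : h8autX chevE6 (fun s => h8aS_E6_0.getD s 0)
    (fun j => h8aP_E6_0.getD j 0) (fun s => h8aE_E6_0.getD s 0) = true := by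
  decide +kernel

def h8aS_E6_1 : List ℕ := [0, 1, 2, 5, 16, 3, 6, 17, 8, 19, 22, 11, 26, 30, 33, 35, 4, 7, 18, 9, 20, 23, 10, 21, 24, 25, 12, 27, 31, 34, 13, 28, 32, 14, 29, 15, 56, 42, 57, 39, 43, 58, 37, 40, 44, 59, 46, 47, 50, 61, 48, 51, 62, 53, 64, 67, 36, 38, 41, 45, 60, 49, 52, 63, 54, 65, 68, 55, 66, 69, 70, 71]

def h8aT_E6_1 : List ℕ := [0, 1, 2, 5, 16, 3, 6, 17, 8, 19, 22, 11, 26, 30, 33, 35, 4, 7, 18, 9, 20, 23, 10, 21, 24, 25, 12, 27, 31, 34, 13, 28, 32, 14, 29, 15, 56, 42, 57, 39, 43, 58, 37, 40, 44, 59, 46, 47, 50, 61, 48, 51, 62, 53, 64, 67, 36, 38, 41, 45, 60, 49, 52, 63, 54, 65, 68, 55, 66, 69, 70, 71]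

def h8aE_E6_1 : List ℤ := [1, 1, 1, 1, -1, 1, 1, -1, 1, -1, -1, 1, -1, 1, -1, 1, -1, -1, 1, -1, 1, 1, -1, 1, 1, 1, -1, 1, -1, 1, 1, -1, 1, -1, 1, 1, 1, 1, -1, 1, -1, 1, 1, -1, 1, -1, 1, 1, 1, -1, 1, 1, -1, 1, -1, -1, 1, -1, 1, -1, 1, -1, -1, 1, -1, 1, 1, -1, 1, 1, 1, 1]

def h8aP_E6_1 : List ℕ := [5, 1, 4, 3, 2, 0]

def h8aQ_E6_1 : List ℕ := [5, 1, 4, 3, 2, 0]

theorem h8aChk_E6_1 : h8autChk chevE6 (fun s => h8aS_E6_1.getD s 0) (fun s => h8aT_E6_1.getD s 0)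
    (fun j => h8aP_E6_1.getD j 0) (fun j => h8aQ_E6_1.getD j 0) (fun s => h8aE_E6_1.getD s 0) = true := by
  decide +kernel

theorem h8aX_E6_1 : h8autX chevE6 (fun s => h8aS_E6_1.getD s 0)
    (fun j => h8aP_E6_1.getD j 0) (fun s => h8aE_E6_1.getD s 0) = true := by
  decide +kernel

end Cfsg.Agent.Lib.helper8
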