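import Mathlib
import Cfsg.Prelude.Def_ChevStructure
import Cfsg.Prelude.Def_LieTwisted
import Cfsg.Agent.Lib.helper8.ChevTw7
import Cfsg.Agent.Lib.helper8.ChevAutTab

set_option autoImplicit false

namespace Cfsg.Agent.Lib.helper8

open Cfsg.Lie Cfsg.Lie.ChevalleyDatum Cfsg.Agent.Lib.helper8.H3

universe u

def h8sE6 (s : ℕ) : ℕ := h8aS_E6_1.getD s 0
def h8tE6 (s : ℕ) : ℕ := h8aT_E6_1.getD s 0
def h8pE6 (j : ℕ) : ℕ := h8aP_E6_1.getD j 0
def h8qE6 (j : ℕ) : ℕ := h8aQ_E6_1.getD j 0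
def h8eE6 (s : ℕ) : ℤ := h8aE_E6_1.getD s 0

theorem h8autE6 (hA : H8ReflAll chevE6) : H8Aut chevE6 h8sE6 h8tE6 h8pE6 h8qE6 h8eE6 :=
  h8autChk_spec chevE6 _ _ _ _ _ hA.ce h8aChk_E6_1

theorem h8piE6_lt : ∀ j : Fin chevE6.rank, h8pE6 j.val < chevE6.rank := by decide

def h8piE6 : Fin chevE6.rank → Fin chevE6.rank := fun j => ⟨h8pE6 j.val, h8piE6_lt j⟩

def h8orbsE6 : List (List (Fin chevE6.rank)) :=
  [[⟨1, by decide⟩], [⟨3, by decide⟩], [⟨2, by decide⟩, ⟨4, by decide⟩],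
    [⟨0, by decide⟩, ⟨5, by decide⟩]]

theorem h8twE6_pos : ∀ r < chevE6.nroots, chevE6.IsPosRoot (h8sE6 r) ↔ chevE6.IsPosRoot r := by
  decide +kernel

theorem h8twE6_sim : ∀ j : Fin chevE6.rank,
    h8sE6 (chevE6.simple j.val) = chevE6.simple (h8pE6 j.val) := by decide +kernel

theorem h8twE6_siminj : ∀ i j : Fin chevE6.rank,
    chevE6.simple i.val = chevE6.simple j.val → i = j := by decide +kernel

theorem h8twE6_conj : ∀ j : Fin chevE6.rank, ∀ r < chevE6.nroots,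
    h8sE6 (chevE6.reflectRoot j.val r) = chevE6.reflectRoot (h8pE6 j.val) (h8sE6 r) := by
  decide +kernel

theorem h8twE6_trans : ∀ J ∈ h8orbsE6, ∀ j ∈ J, ∀ k ∈ J, ∃ i < 3, h8piE6^[i] j = k := by
  decide +kernel

theorem h8twE6_orth : ∀ J ∈ h8orbsE6, ∀ j ∈ J, ∀ k ∈ J, j ≠ k →
    chevE6.reflectRoot j.val (chevE6.simple k.val) = chevE6.simple k.val := by decide +kernel

theorem h8twE6 (hA : H8ReflAll chevE6) (hBN : H8BN chevE6) :
    H8Tw chevE6 hA hBN (h8mkRho chevE6 h8sE6 h8tE6 h8pE6 h8qE6 h8eE6 (h8autE6 hA)) h8piE6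
      h8orbsE6 where
  pos := fun r => h8twE6_pos r.val r.2
  sim := fun j => Fin.ext (h8twE6_sim j)
  sim_inj := fun i j h => h8twE6_siminj i j (congrArg Fin.val h)
  conj := fun j => h8mkRho_conj chevE6 hA _ _ _ _ _ _ j.val (h8pE6 j.val) j.2 (h8piE6_lt j)
    (h8twE6_conj j)
  orb_ne := by decide
  orb_cover := by decide
  orb_perm := by decide
  orb_trans := fun J hJ j hj k hk => by
    obtain ⟨i, _, h⟩ := h8twE6_trans J hJ j hj k hk
    exact ⟨i, h⟩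
  orb_orth := h8twE6_orth
  orb_nodup := by decide

theorem h8twOrdE6 : h8twOrdChk chevE6 h8orbsE6 CoxeterMatrix.F₄ = true := by decide +kernel

end Cfsg.Agent.Lib.helper8
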