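import Mathlib
import Cfsg.Prelude.Def_ChevStructure
import Cfsg.Prelude.Def_LieTwisted
import Cfsg.Agent.Lib.helper8.ChevTwE6
import Cfsg.Agent.Lib.helper8.ChevTw8
import Cfsg.Agent.Lib.helper8.ChevBNAll2

set_option autoImplicit false

namespace Cfsg.Agent.Lib.helper8

open Cfsg.Lie Cfsg.Lie.ChevalleyDatum Cfsg.Agent.Lib.helper8.H3

universe u

variable {K : Type u} [Field K]

theorem h8wordU_one (D : ChevalleyDatum) (hB : H8Base.{u} D) (r : ℕ) (t : K) :
    h8wordU D hB [(r, t)] = h8xU D hB r t := by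
  unfold h8wordU
  simp

theorem h8wordU_two (D : ChevalleyDatum) (hB : H8Base.{u} D) (r r' : ℕ) (t t' : K) :
    h8wordU D hB [(r, t), (r', t')] = h8xU D hB r t * h8xU D hB r' t' := by
  unfold h8wordU
  simp

theorem h8wordU_three (D : ChevalleyDatum) (hB : H8Base.{u} D) (r r' r'' : ℕ) (t t' t'' : K) :
    h8wordU D hB [(r, t), (r', t'), (r'', t'')] =
      h8xU D hB r t * h8xU D hB r' t' * h8xU D hB r'' t'' := by
  unfold h8wordU
  simp [mul_assoc]

theorem h8gen_mem (D : ChevalleyDatum) (hB : H8Base.{u} D) (S : Set (List (ℕ × K)))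
    (w : List (ℕ × K)) (hw : w ∈ S) : h8wordU D hB w ∈ D.genSubgroup K S := by
  unfold ChevalleyDatum.genSubgroup
  apply Subgroup.subset_closure
  exact ⟨w, hw, h8wordU_val D hB w⟩

/-- the pairs of roots of `E₆` whose root subgroups commute, as needed below -/
theorem h8twE6_comm : ∀ p ∈ [(56, 36), (15, 35), (42, 37), (29, 34), (37, 42), (37, 29), (34, 42),
    (36, 56), (36, 15), (35, 56)], chevE6.commTerms p.1 p.2 = [] ∧ p.1 < chevE6.nroots ∧
      p.2 < chevE6.nroots ∧ p.2 ≠ p.1 ∧ p.2 ≠ chevE6.negIdx.getD p.1 0 := by decide +kernel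

theorem h8twE6_commute (hB : H8Base.{u} chevE6) (hC : H8CommAll.{u} chevE6) (r s : ℕ)
    (h : (r, s) ∈ [(56, 36), (15, 35), (42, 37), (29, 34), (37, 42), (37, 29), (34, 42),
      (36, 56), (36, 15), (35, 56)]) (a b : K) :
    Commute (h8xU chevE6 hB r a) (h8xU chevE6 hB s b) := by
  obtain ⟨h1, h2, h3, h4, h5⟩ := h8twE6_comm (r, s) h
  exact h8xU_commute chevE6 hB hC r s h2 h3 h4 h5 h1 a b

theorem h8twE6_fixdata : (∀ r ∈ [46, 25, 39, 32], r < chevE6.nroots ∧ h8sE6 r = r ∧ h8eE6 r = 1) ∧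
    (∀ p ∈ [(56, 36), (15, 35), (42, 37), (29, 34)], p.1 < chevE6.nroots ∧ p.2 < chevE6.nroots ∧
      h8sE6 p.1 = p.2 ∧ h8sE6 p.2 = p.1 ∧ h8eE6 p.1 = 1 ∧ h8eE6 p.2 = 1) := by decide +kernel

/-- the twisted group of type `²E₆` is fixed by the twisting endomorphism -/
theorem h8twE6_fix (hB : H8Base.{u} chevE6) (hC : H8CommAll.{u} chevE6)
    (hA : H8ReflAll chevE6) (q : ℕ) (f : K ≃+* K) (hf : ∀ t, f t = t ^ q)
    (hff : ∀ t, f (f t) = t) :
    ∀ g ∈ twistedE6 K q,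
      h8Sig chevE6 h8sE6 h8tE6 h8pE6 h8qE6 h8eE6 (h8autE6 hA) f g = g := by
  intro g hg
  unfold twistedE6 ChevalleyDatum.genSubgroup at hg
  induction hg using Subgroup.closure_induction with
  | mem x hx =>
    obtain ⟨w, hw, hxw⟩ := hx
    have hx' : x = h8wordU chevE6 hB w := Units.ext (hxw.trans (h8wordU_val chevE6 hB w).symm)
    rw [hx']
    rcases hw with ⟨t, ht, r, hr, rfl⟩ | ⟨t, rs, hrs, rfl⟩
    · obtain ⟨h1, h2, h3⟩ := h8twE6_fixdata.1 r (by
        simp only [e6p2, e6m2, e6p4, e6m4] at hr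
        exact hr)
      rw [h8wordU_one]
      exact h8Sig_fix1 chevE6 _ _ _ _ _ (h8autE6 hA) f hB r h1 h2 h3 t (by rw [hf, ht])
    · have hrs' : (rs.1, rs.2) ∈ [(56, 36), (15, 35), (42, 37), (29, 34)] := by
        simp only [e6p1, e6p6, e6m1, e6m6, e6p3, e6p5, e6m3, e6m5] at hrs
        exact hrs
      obtain ⟨h1, h2, h3, h4, h5, h6⟩ := h8twE6_fixdata.2 (rs.1, rs.2) hrs'
      rw [h8wordU_two, ← hf]
      refine h8Sig_fix2 chevE6 _ _ _ _ _ (h8autE6 hA) f hB rs.1 rs.2 h1 h2 h3 h4 h5 h6 ?_ t (hff t)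
      intro a b
      apply h8twE6_commute hB hC
      simp only [List.mem_cons, List.not_mem_nil, or_false] at hrs' ⊢
      rcases hrs' with h | h | h | h <;> simp [h]
  | one => exact map_one _
  | mul a b _ _ ha hb => rw [map_mul, ha, hb]
  | inv a _ ha => rw [map_inv, ha]

end Cfsg.Agent.Lib.helper8
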