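import Mathlib
import Cfsg.Prelude.Def_ChevStructure
import Cfsg.Prelude.Def_LieTwisted
import Cfsg.Agent.Lib.helper8.ChevTwE6b

set_option autoImplicit false

namespace Cfsg.Agent.Lib.helper8

open Cfsg.Lie Cfsg.Lie.ChevalleyDatum Cfsg.Agent.Lib.helper8.H3

universe u

variable {K : Type u} [Field K]

theorem h8nU_one_eq (D : ChevalleyDatum) (hB : H8Base.{u} D) (r : ℕ) :
    h8nU D hB r (1 : K) =
      h8xU D hB r 1 * h8xU D hB (D.neg r) (-1) * h8xU D hB r 1 := by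
  unfold h8nU ChevalleyDatum.nWord
  rw [h8wordU_three, inv_one]

theorem h8nWU_single (D : ChevalleyDatum) (hB : H8Base.{u} D) (j : ℕ) :
    (h8nWU D hB [j] : GL D.Idx K) = h8nU D hB (D.simple j) 1 := by
  unfold h8nWU
  simp

theorem h8nWU_pair (D : ChevalleyDatum) (hB : H8Base.{u} D) (j k : ℕ) :
    (h8nWU D hB [j, k] : GL D.Idx K) =
      h8nU D hB (D.simple j) 1 * h8nU D hB (D.simple k) 1 := by
  unfold h8nWU
  simp

theorem h8nWU_triple (D : ChevalleyDatum) (hB : H8Base.{u} D) (j k l : ℕ) :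
    (h8nWU D hB [j, k, l] : GL D.Idx K) =
      h8nU D hB (D.simple j) 1 * h8nU D hB (D.simple k) 1 * h8nU D hB (D.simple l) 1 := by
  unfold h8nWU
  simp [mul_assoc]

theorem h8twE6_simdata : chevE6.simple 0 = 56 ∧ chevE6.simple 1 = 46 ∧ chevE6.simple 2 = 42 ∧
    chevE6.simple 3 = 39 ∧ chevE6.simple 4 = 37 ∧ chevE6.simple 5 = 36 ∧
    chevE6.neg 56 = 15 ∧ chevE6.neg 46 = 25 ∧ chevE6.neg 42 = 29 ∧ chevE6.neg 39 = 32 ∧
    chevE6.neg 37 = 34 ∧ chevE6.neg 36 = 35 := by decide +kernel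

theorem h8twE6_x1 (hB : H8Base.{u} chevE6) (q : ℕ) (r : ℕ) (hr : r ∈ [46, 25, 39, 32]) (t : K)
    (ht : t ^ q = t) : h8xU chevE6 hB r t ∈ twistedE6 K q := by
  rw [← h8wordU_one]
  apply h8gen_mem
  left
  exact ⟨t, ht, r, hr, rfl⟩

theorem h8twE6_x2 (hB : H8Base.{u} chevE6) (q : ℕ) (r r' : ℕ)
    (hr : (r, r') ∈ [(56, 36), (15, 35), (42, 37), (29, 34)]) (t : K) :
    h8xU chevE6 hB r t * h8xU chevE6 hB r' (t ^ q) ∈ twistedE6 K q := by
  rw [← h8wordU_two]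
  apply h8gen_mem
  right
  exact ⟨t, (r, r'), hr, rfl⟩

/-- the orbit representatives `n_J` lie in the twisted group -/
theorem h8twE6_nJ (hB : H8Base.{u} chevE6) (hC : H8CommAll.{u} chevE6) (q : ℕ)
    (hneg : (-1 : K) ^ q = -1) :
    ∀ J ∈ h8orbsE6, (h8nWU chevE6 hB (J.map Fin.val) : GL chevE6.Idx K) ∈ twistedE6 K q := by
  obtain ⟨s0, s1, s2, s3, s4, s5, n0, n1, n2, n3, n4, n5⟩ := h8twE6_simdata
  have h1q : (1 : K) ^ q = 1 := one_pow q
  intro J hJ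
  simp only [h8orbsE6, List.mem_cons, List.not_mem_nil, or_false] at hJ
  rcases hJ with rfl | rfl | rfl | rfl
  · show (h8nWU chevE6 hB [1] : GL chevE6.Idx K) ∈ _
    rw [h8nWU_single, h8nU_one_eq, s1, n1]
    exact Subgroup.mul_mem _ (Subgroup.mul_mem _ (h8twE6_x1 hB q 46 (by simp) 1 h1q)
      (h8twE6_x1 hB q 25 (by simp) (-1) hneg)) (h8twE6_x1 hB q 46 (by simp) 1 h1q)
  · show (h8nWU chevE6 hB [3] : GL chevE6.Idx K) ∈ _
    rw [h8nWU_single, h8nU_one_eq, s3, n3]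
    exact Subgroup.mul_mem _ (Subgroup.mul_mem _ (h8twE6_x1 hB q 39 (by simp) 1 h1q)
      (h8twE6_x1 hB q 32 (by simp) (-1) hneg)) (h8twE6_x1 hB q 39 (by simp) 1 h1q)
  · show (h8nWU chevE6 hB [2, 4] : GL chevE6.Idx K) ∈ _
    rw [h8nWU_pair, h8nU_one_eq, h8nU_one_eq, s2, s4, n2, n4,
      h8rearr2 _ _ _ _ _ _ (h8twE6_commute hB hC 37 42 (by simp) _ _)
        (h8twE6_commute hB hC 37 29 (by simp) _ _) (h8twE6_commute hB hC 34 42 (by simp) _ _)]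
    have a1 := h8twE6_x2 (K := K) hB q 42 37 (by simp) 1
    have a2 := h8twE6_x2 (K := K) hB q 29 34 (by simp) (-1)
    rw [h1q] at a1
    rw [hneg] at a2
    exact Subgroup.mul_mem _ (Subgroup.mul_mem _ a1 a2) a1
  · show (h8nWU chevE6 hB [0, 5] : GL chevE6.Idx K) ∈ _
    rw [h8nWU_pair, h8nU_one_eq, h8nU_one_eq, s0, s5, n0, n5,
      h8rearr2 _ _ _ _ _ _ (h8twE6_commute hB hC 36 56 (by simp) _ _)
        (h8twE6_commute hB hC 36 15 (by simp) _ _) (h8twE6_commute hB hC 35 56 (by simp) _ _)]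
    have a1 := h8twE6_x2 (K := K) hB q 56 36 (by simp) 1
    have a2 := h8twE6_x2 (K := K) hB q 15 35 (by simp) (-1)
    rw [h1q] at a1
    rw [hneg] at a2
    exact Subgroup.mul_mem _ (Subgroup.mul_mem _ a1 a2) a1

/-- `N¹/H¹ ≅ W(F₄)` for `²E₆(q)` -/
theorem h8twE6_weyl [Fintype K] {q : ℕ} (hq : IsPrimePow q) (hK : Fintype.card K = q ^ 2) :
    ∃ φ : ↥(chevE6.monomialSubgroup K ⊓ twistedE6 K q) →* (CoxeterMatrix.F₄).Group,
      Function.Surjective φ ∧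
      φ.ker = (chevE6.diagonalSubgroup K ⊓ twistedE6 K q).subgroupOf
        (chevE6.monomialSubgroup K ⊓ twistedE6 K q) := by
  have hD : chevE6 ∈ [chevG2, chevB2, chevD4, chevF4, chevE6, chevE7, chevE8] := by simp
  have hB := h8base_all.{u} chevE6 hD
  have hB0 := h8base_all.{0} chevE6 hD
  have hA := h8reflAll chevE6 hD
  have hC := h8commAll.{u} chevE6 hD
  have hBN := h8bn_all chevE6 hD
  have hW := h8bn2_all chevE6 hD
  obtain ⟨hO, hO2⟩ := h8ord_all chevE6 hD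
  obtain ⟨f, hf, hff, hneg⟩ := h8frob_exists hq 2 (by norm_num) hK
  exact h8tw_weyl_main chevE6 hB hB0 hA hBN hW hO2 h8sE6 h8tE6 h8pE6 h8qE6 h8eE6 (h8autE6 hA) f
    (h8mkRho chevE6 h8sE6 h8tE6 h8pE6 h8qE6 h8eE6 (h8autE6 hA)) (fun r => rfl) h8piE6 h8orbsE6
    (h8twE6 hA hBN) (twistedE6 K q)
    (h8twE6_fix hB hC hA q f hf (fun t => hff t))
    (h8twE6_nJ hB hC q hneg) CoxeterMatrix.F₄
    (h8twOrdChk_spec chevE6 hA h8orbsE6 CoxeterMatrix.F₄ h8twOrdE6)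

end Cfsg.Agent.Lib.helper8
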