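import Mathlib
import Cfsg.Prelude.Def_ChevStructure
import Cfsg.Agent.Lib.helper8.ChevTwU4

set_option autoImplicit false

namespace Cfsg.Agent.Lib.helper8

open Cfsg.Lie Cfsg.Lie.ChevalleyDatum

universe u

variable {K : Type u} [Field K]

theorem h8eta_cast_mul (a b : ℤ) (h : a * b = 1) : ((a : ℤ) : K) * ((b : ℤ) : K) = 1 := by
  rw [← Int.cast_mul, h, Int.cast_one]

section
variable (D : ChevalleyDatum) (posi : ℕ → ℕ)
  (σ τ π ϖ : ℕ → ℕ) (η : ℕ → ℤ) (hAut : H8Aut D σ τ π ϖ η) (f : K ≃+* K)

include hAut in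
/-- the compatible coordinates of a block consisting of one fixed root -/
theorem h8Bt_card1 (i r : ℕ) (hL : h8Lb D posi i = [r]) (hr : r < D.nroots) (hσ : σ r = r)
    (hη : η r = 1) : Nat.card (H8Bt D posi τ η f i) = Nat.card {c : K // f c = c} := by
  have hτ : τ r = r := by
    have := hAut.ts r hr
    rw [hσ] at this
    exact this
  have hrL : r ∈ h8Lb D posi i := by rw [hL]; exact List.mem_singleton_self r
  have hLr : ∀ k ∈ h8Lb D posi i, k = r := by
    intro k hk
    rw [hL] at hk
    exact List.mem_singleton.mp hk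
  apply Nat.card_congr
  refine ⟨fun t => ⟨t.1 r, ?_⟩, fun c => ⟨fun s => if s = r then c.1 else 0, ?_, ?_⟩, ?_, ?_⟩
  · have := t.2.2 r hrL
    unfold h8tS at this
    rw [hτ, hη, Int.cast_one, one_mul] at this
    exact this
  · intro s hs
    have : s ≠ r := fun h => hs (h ▸ hrL)
    simp only [this, if_false]
  · intro k hk
    have hkr := hLr k hk
    subst hkr
    unfold h8tS
    simp only [hτ, if_true, hη, Int.cast_one, one_mul]
    exact c.2
  · intro t
    apply Subtype.ext
    funext s
    by_cases hs : s = r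
    · simp only [hs, if_true]
    · simp only [hs, if_false]
      exact (t.2.1 s (fun h => hs (hLr s h))).symm
  · intro c
    apply Subtype.ext
    simp only [if_true]

include hAut in
/-- the compatible coordinates of a block consisting of two interchanged roots -/
theorem h8Bt_card2 (i r r' : ℕ) (hL : h8Lb D posi i = [r, r']) (hr : r < D.nroots)
    (hr' : r' < D.nroots) (hne : r ≠ r') (hσ : σ r = r') (hσ' : σ r' = r)
    (hη : η r * η r' = 1) (hff : ∀ c, f (f c) = c) :
    Nat.card (H8Bt D posi τ η f i) = Nat.card K := by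
  have hτ' : τ r' = r := by
    have := hAut.ts r hr
    rw [hσ] at this
    exact this
  have hτ : τ r = r' := by
    have := hAut.ts r' hr'
    rw [hσ'] at this
    exact this
  have hrL : r ∈ h8Lb D posi i := by rw [hL]; exact List.mem_cons_self
  have hrL' : r' ∈ h8Lb D posi i := by
    rw [hL]; exact List.mem_cons_of_mem _ (List.mem_singleton_self r')
  have hLr : ∀ k ∈ h8Lb D posi i, k = r ∨ k = r' := by
    intro k hk
    rw [hL] at hk
    rcases List.mem_cons.mp hk with h | h
    · exact Or.inl h
    · exact Or.inr (List.mem_singleton.mp h)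
  have hηK : ((η r' : ℤ) : K) * ((η r : ℤ) : K) = 1 := by
    rw [mul_comm]; exact h8eta_cast_mul _ _ hη
  apply Nat.card_congr
  refine ⟨fun t => t.1 r, fun c => ⟨fun s => if s = r then c else
    if s = r' then ((η r : ℤ) : K) * f c else 0, ?_, ?_⟩, ?_, ?_⟩
  · intro s hs
    have h1 : s ≠ r := fun h => hs (h ▸ hrL)
    have h2 : s ≠ r' := fun h => hs (h ▸ hrL')
    simp only [h1, h2, if_false]
  · intro k hk
    unfold h8tS
    rcases hLr k hk with rfl | rfl
    · simp only [hτ, if_true, hne.symm, if_false, map_mul, map_intCast, hff]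
      rw [← mul_assoc, hηK, one_mul]
    · simp only [hτ', if_true, hne.symm, if_false]
  · intro t
    apply Subtype.ext
    funext s
    by_cases hs : s = r
    · simp only [hs, if_true]
    · by_cases hs' : s = r'
      · simp only [hs', hne.symm, if_false, if_true]
        have := t.2.2 r' hrL'
        unfold h8tS at this
        rw [hτ'] at this
        exact this
      · simp only [hs, hs', if_false]
        exact (t.2.1 s (fun h => by rcases hLr s h with h | h <;> contradiction)).symm
  · intro c
    simp only [if_true]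

include hAut in
/-- the compatible coordinates of a block consisting of three cyclically permuted roots -/
theorem h8Bt_card3 (i r r' r'' : ℕ)
    (hL : ∀ k, k ∈ h8Lb D posi i ↔ (k = r ∨ k = r' ∨ k = r''))
    (hr : r < D.nroots) (hr' : r' < D.nroots) (hr'' : r'' < D.nroots)
    (hne : r ≠ r') (hne' : r ≠ r'') (hne'' : r' ≠ r'')
    (hσ : σ r = r') (hσ' : σ r' = r'') (hσ'' : σ r'' = r)
    (hη : η r * η r' * η r'' = 1) (hfff : ∀ c, f (f (f c)) = c) :
    Nat.card (H8Bt D posi τ η f i) = Nat.card K := by
  have hτ' : τ r' = r := by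
    have := hAut.ts r hr
    rw [hσ] at this
    exact this
  have hτ'' : τ r'' = r' := by
    have := hAut.ts r' hr'
    rw [hσ'] at this
    exact this
  have hτ : τ r = r'' := by
    have := hAut.ts r'' hr''
    rw [hσ''] at this
    exact this
  have hrL : r ∈ h8Lb D posi i := (hL r).mpr (Or.inl rfl)
  have hrL' : r' ∈ h8Lb D posi i := (hL r').mpr (Or.inr (Or.inl rfl))
  have hrL'' : r'' ∈ h8Lb D posi i := (hL r'').mpr (Or.inr (Or.inr rfl))
  have hηK : ((η r'' : ℤ) : K) * (((η r' : ℤ) : K) * ((η r : ℤ) : K)) = 1 := by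
    rw [← Int.cast_mul, ← Int.cast_mul]
    have : η r'' * (η r' * η r) = 1 := by rw [← hη]; ring
    rw [this, Int.cast_one]
  apply Nat.card_congr
  refine ⟨fun t => t.1 r, fun c => ⟨fun s => if s = r then c else
    if s = r' then ((η r : ℤ) : K) * f c else
    if s = r'' then ((η r' : ℤ) : K) * f (((η r : ℤ) : K) * f c) else 0, ?_, ?_⟩, ?_, ?_⟩
  · intro s hs
    have h1 : s ≠ r := fun h => hs (h ▸ hrL)
    have h2 : s ≠ r' := fun h => hs (h ▸ hrL')
    have h3 : s ≠ r'' := fun h => hs (h ▸ hrL'')
    simp only [h1, h2, h3, if_false]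
  · intro k hk
    unfold h8tS
    rcases (hL k).mp hk with rfl | rfl | rfl
    · simp only [hτ, if_true, hne'.symm, hne''.symm, if_false, map_mul, map_intCast, hfff]
      rw [← mul_assoc, ← mul_assoc, mul_assoc ((η r'' : ℤ) : K), hηK, one_mul]
    · simp only [hτ', if_true, hne.symm, if_false]
    · simp only [hτ'', if_true, hne.symm, hne''.symm, hne'.symm, if_false]
  · intro t
    apply Subtype.ext
    funext s
    have h1 : t.1 r' = ((η r : ℤ) : K) * f (t.1 r) := by
      have := t.2.2 r' hrL'
      unfold h8tS at this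
      rw [hτ'] at this
      exact this.symm
    have h2 : t.1 r'' = ((η r' : ℤ) : K) * f (t.1 r') := by
      have := t.2.2 r'' hrL''
      unfold h8tS at this
      rw [hτ''] at this
      exact this.symm
    by_cases hs : s = r
    · simp only [hs, if_true]
    · by_cases hs' : s = r'
      · simp only [hs', hne.symm, if_false, if_true]
        exact h1.symm
      · by_cases hs'' : s = r''
        · simp only [hs'', hne'.symm, hne''.symm, if_false, if_true]
          rw [h2, h1]
        · simp only [hs, hs', hs'', if_false]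
          exact (t.2.1 s (fun h => by
            rcases (hL s).mp h with h | h | h <;> contradiction)).symm
  · intro c
    simp only [if_true]

end

/-- the number of fixed points of the `q`-power Frobenius automorphism -/
theorem h8frob_fix_card {F : Type u} [Field F] [Fintype F] {q m : ℕ} (hq : 1 < q) (hm : 0 < m)
    (hF : Fintype.card F = q ^ m) (f : F ≃+* F) (hf : ∀ t, f t = t ^ q)
    (hfm : ∀ t, (f^[m]) t = t) : Nat.card {c : F // f c = c} = q := by
  classical
  haveI : Finite (RingAut F) :=
    Finite.of_injective (fun e : RingAut F => (e : F → F)) DFunLike.coe_injective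
  let σ : RingAut F := f
  obtain ⟨F₀, iF, iFt, ι, hc, hfix, hsurj⟩ := h8fixed_field_card σ (orderOf σ) rfl
  have hpow : ∀ j : ℕ, ∀ t, (σ ^ j) t = (f^[j]) t := by
    intro j
    induction j with
    | zero => intro t; rfl
    | succ j ih =>
      intro t
      rw [pow_succ', Function.iterate_succ_apply']
      show σ ((σ ^ j) t) = _
      rw [ih]
  have hσm : σ ^ m = 1 := by
    ext t
    rw [hpow, hfm]
    rfl
  have hrm : orderOf σ ∣ m := orderOf_dvd_of_pow_eq_one hσm
  have hr1 : 0 < orderOf σ := orderOf_pos σ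
  have hrle : orderOf σ ≤ m := Nat.le_of_dvd hm hrm
  -- the fixed points are in bijection with `F₀`
  have hcardfix : Nat.card {c : F // f c = c} = Fintype.card F₀ := by
    rw [← Nat.card_eq_fintype_card]
    symm
    apply Nat.card_congr
    refine Equiv.ofBijective (fun b => ⟨ι b, hfix b⟩) ⟨?_, ?_⟩
    · intro a b h
      exact ι.injective (congrArg Subtype.val h)
    · rintro ⟨a, ha⟩
      obtain ⟨b, hb⟩ := hsurj a ha
      exact ⟨b, Subtype.ext hb⟩
  -- at most `q` fixed points
  have hle : Nat.card {c : F // f c = c} ≤ q := by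
    have hnd := FiniteField.X_pow_card_sub_X_natDegree_eq F hq
    have hne := FiniteField.X_pow_card_sub_X_ne_zero F hq
    rw [Nat.card_eq_fintype_card, Fintype.card_subtype]
    calc (Finset.univ.filter fun c : F => f c = c).card
        ≤ (Polynomial.X ^ q - Polynomial.X : Polynomial F).roots.toFinset.card := by
          apply Finset.card_le_card
          intro c hc
          rw [Finset.mem_filter] at hc
          rw [Multiset.mem_toFinset, Polynomial.mem_roots hne]
          simp only [Polynomial.IsRoot, Polynomial.eval_sub, Polynomial.eval_pow,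
            Polynomial.eval_X]
          rw [← hf, hc.2, sub_self]
      _ ≤ Multiset.card (Polynomial.X ^ q - Polynomial.X : Polynomial F).roots :=
          Multiset.toFinset_card_le _
      _ ≤ (Polynomial.X ^ q - Polynomial.X : Polynomial F).natDegree :=
          Polynomial.card_roots' _
      _ = q := hnd
  rw [hcardfix] at hle ⊢
  rw [hF] at hc
  by_contra hne
  have hlt : Fintype.card F₀ < q := lt_of_le_of_ne hle hne
  have h1 : Fintype.card F₀ ^ orderOf σ < q ^ orderOf σ :=
    Nat.pow_lt_pow_left hlt (by omega)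
  have h2 : q ^ orderOf σ ≤ q ^ m := Nat.pow_le_pow_right (by omega) hrle
  omega

/-- checker for the orbit structure of a block: a fixed root or two interchanged roots -/
def h8orbChk2 (n : ℕ) (σ : ℕ → ℕ) (η : ℕ → ℤ) : List ℕ → Bool
  | [r] => decide (r < n ∧ σ r = r ∧ η r = 1)
  | [r, r'] => decide (r < n ∧ r' < n ∧ r ≠ r' ∧ σ r = r' ∧ σ r' = r ∧ η r * η r' = 1)
  | _ => false

/-- checker for the orbit structure of a block: a fixed root or three cyclically permuted
roots -/
def h8orbChk3 (n : ℕ) (σ : ℕ → ℕ) (η : ℕ → ℤ) : List ℕ → Bool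
  | [r] => decide (r < n ∧ σ r = r ∧ η r = 1)
  | [a, b, c] => decide (a < n ∧ b < n ∧ c < n ∧ a ≠ b ∧ a ≠ c ∧ b ≠ c ∧
      η a * η b * η c = 1 ∧ ((σ a = b ∧ σ b = c ∧ σ c = a) ∨ (σ a = c ∧ σ c = b ∧ σ b = a)))
  | _ => false

section
variable (D : ChevalleyDatum) (posi : ℕ → ℕ)
  (σ τ π ϖ : ℕ → ℕ) (η : ℕ → ℤ) (hAut : H8Aut D σ τ π ϖ η) (f : K ≃+* K)

include hAut in
theorem h8Bt_card_chk2 (q i : ℕ) (hchk : h8orbChk2 D.nroots σ η (h8Lb D posi i) = true)
    (hff : ∀ c, f (f c) = c) (hfix : Nat.card {c : K // f c = c} = q)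
    (hK : Nat.card K = q ^ 2) :
    Nat.card (H8Bt D posi τ η f i) = q ^ (h8Lb D posi i).length := by
  generalize hL : h8Lb D posi i = L at hchk
  match L, hL, hchk with
  | [r], hL, hchk =>
    unfold h8orbChk2 at hchk
    obtain ⟨h1, h2, h3⟩ := of_decide_eq_true hchk
    rw [h8Bt_card1 D posi σ τ π ϖ η hAut f i r hL h1 h2 h3, hfix]
    simp
  | [r, r'], hL, hchk =>
    unfold h8orbChk2 at hchk
    obtain ⟨h1, h2, h3, h4, h5, h6⟩ := of_decide_eq_true hchk
    rw [h8Bt_card2 D posi σ τ π ϖ η hAut f i r r' hL h1 h2 h3 h4 h5 h6 hff, hK]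
    simp
  | [], _, hchk => simp [h8orbChk2] at hchk
  | _ :: _ :: _ :: _, _, hchk => simp [h8orbChk2] at hchk

include hAut in
theorem h8Bt_card_chk3 (q i : ℕ) (hchk : h8orbChk3 D.nroots σ η (h8Lb D posi i) = true)
    (hfff : ∀ c, f (f (f c)) = c) (hfix : Nat.card {c : K // f c = c} = q)
    (hK : Nat.card K = q ^ 3) :
    Nat.card (H8Bt D posi τ η f i) = q ^ (h8Lb D posi i).length := by
  generalize hL : h8Lb D posi i = L at hchk
  match L, hL, hchk with
  | [r], hL, hchk =>
    unfold h8orbChk3 at hchk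
    obtain ⟨h1, h2, h3⟩ := of_decide_eq_true hchk
    rw [h8Bt_card1 D posi σ τ π ϖ η hAut f i r hL h1 h2 h3, hfix]
    simp
  | [a, b, c], hL, hchk =>
    unfold h8orbChk3 at hchk
    obtain ⟨ha, hb, hc, hab, hac, hbc, hη, hσ⟩ := of_decide_eq_true hchk
    have hmem : ∀ k, k ∈ h8Lb D posi i ↔ (k = a ∨ k = b ∨ k = c) := by
      intro k
      rw [hL]
      simp
    rcases hσ with ⟨h1, h2, h3⟩ | ⟨h1, h2, h3⟩
    · rw [h8Bt_card3 D posi σ τ π ϖ η hAut f i a b c hmem ha hb hc hab hac hbc h1 h2 h3 hη hfff,
        hK]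
      simp
    · have hmem' : ∀ k, k ∈ h8Lb D posi i ↔ (k = a ∨ k = c ∨ k = b) := by
        intro k
        rw [hmem k]
        tauto
      have hη' : η a * η c * η b = 1 := by rw [← hη]; ring
      rw [h8Bt_card3 D posi σ τ π ϖ η hAut f i a c b hmem' ha hc hb hac hab (Ne.symm hbc)
        h1 h2 h3 hη' hfff, hK]
      simp
  | [], _, hchk => simp [h8orbChk3] at hchk
  | [_, _], _, hchk => simp [h8orbChk3] at hchk
  | _ :: _ :: _ :: _ :: _, _, hchk => simp [h8orbChk3] at hchk

end

end Cfsg.Agent.Lib.helper8
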