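import Mathlib
import Cfsg.Prelude.Def_ChevStructure
import Cfsg.Prelude.Def_LieTwisted
import Cfsg.Agent.Lib.helper8.ChevTwE6c
import Cfsg.Agent.Lib.helper8.ChevTwU5
import Cfsg.Agent.Lib.helper8.ChevTwU6
import Cfsg.Agent.Lib.helper8.ChevBNAll2
import Cfsg.Agent.Lib.helper8.ChevTw8

set_option autoImplicit false

namespace Cfsg.Agent.Lib.helper8

open Cfsg.Lie Cfsg.Lie.ChevalleyDatum

universe u

variable {K : Type u} [Field K]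

def h8posiE6L : List ℕ := [0, 0, 0, 0, 0, 0, 0, 0, 0, 0, 0, 0, 0, 0, 0, 0, 0, 0, 0, 0, 0, 0, 0, 0, 0, 0, 0, 0, 0, 0, 0, 0, 0, 0, 0, 0, 0, 1, 4, 2, 5, 7, 1, 5, 8, 10, 3, 6, 9, 11, 9, 12, 13, 14, 16, 18, 0, 4, 7, 10, 15, 11, 13, 17, 16, 19, 20, 18, 20, 21, 22, 23]

/-- the block order of the positive roots of `E₆`: orbits of the graph automorphism sorted by
height -/
def h8posiE6 (r : ℕ) : ℕ := h8posiE6L.getD r 0

def h8depE6 (i : ℕ) : ℕ :=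
  ([0, 0, 0, 0, 1, 1, 1, 2, 1, 2, 3, 3, 2, 4, 3, 2, 5, 3, 6, 4, 7, 5, 6, 7] : List ℕ).getD i 0

def h8parE6 (i : ℕ) : ℕ :=
  ([0, 1, 2, 3, 1, 1, 3, 5, 2, 5, 7, 9, 6, 11, 12, 8, 13, 12, 16, 14, 18, 19, 21, 22] :
    List ℕ).getD i 0

def h8porE6 (i : ℕ) : ℕ :=
  ([3, 2, 1, 0, 3, 1, 1, 3, 2, 0, 2, 3, 2, 2, 1, 3, 1, 3, 2, 3, 3, 2, 1, 0] : List ℕ).getD i 0

/-- the word of the orbit with index `k` -/
def h8wE6 (k : ℕ) : List ℕ := (h8orbsE6.getD k []).map Fin.val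

set_option synthInstance.maxSize 1000 in
set_option synthInstance.maxHeartbeats 200000 in
theorem h8uE6_blk1 : ∀ r < chevE6.nroots, ∀ s < chevE6.nroots, chevE6.IsPosRoot r →
    chevE6.IsPosRoot s → s ≠ r →
      (∀ c ∈ chevE6.commTerms r s, chevE6.IsPosRoot c.1 ∧ h8posiE6 r < h8posiE6 c.1 ∧
        h8posiE6 s < h8posiE6 c.1) ∧
      (h8posiE6 r = h8posiE6 s → chevE6.commTerms r s = []) := by decide +kernel

theorem h8uE6_blk : H8Blk chevE6 h8posiE6 :=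
  ⟨fun r s hr hs hsr => (h8uE6_blk1 r hr.1 s hs.1 hr hs hsr).1,
   fun r s hr hs hsr => (h8uE6_blk1 r hr.1 s hs.1 hr hs hsr).2⟩

set_option synthInstance.maxSize 1000 in
set_option synthInstance.maxHeartbeats 200000 in
theorem h8uE6_read1 : ∀ k < chevE6.nroots, ∀ r < chevE6.nroots, chevE6.IsPosRoot k →
    chevE6.IsPosRoot r → r ≠ k → h8posiE6 k ≤ h8posiE6 r →
      ∀ e ∈ chevE6.chainEntry r (chevE6.negIdx.getD k 0), chevE6.nroots / 2 ≤ e.1 := by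
  decide +kernel

theorem h8uE6_read : H8BlkRead chevE6 h8posiE6 :=
  ⟨fun k r hk hr => h8uE6_read1 k hk.1 r hr.1 hk hr⟩

theorem h8uE6_sig1 : ∀ r < chevE6.nroots, chevE6.IsPosRoot r →
    chevE6.IsPosRoot (h8sE6 r) ∧ h8posiE6 (h8sE6 r) = h8posiE6 r ∧ h8posiE6 r < 24 := by
  decide +kernel

theorem h8uE6_chk : ∀ i < 24,
    h8orbChk2 chevE6.nroots h8sE6 h8eE6 (h8Lb chevE6 h8posiE6 i) = true := by decide +kernel

theorem h8uE6_sum :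
    ((List.range' 0 24).map fun j => (h8Lb chevE6 h8posiE6 j).length).sum = 36 := by
  decide +kernel

theorem h8uE6_cert : ∀ j < 24, h8depE6 j ≠ 0 → h8parE6 j < 24 ∧ h8depE6 (h8parE6 j) < h8depE6 j ∧
    h8porE6 j < 4 ∧ ∀ s ∈ h8Lb chevE6 h8posiE6 j,
      h8sW chevE6 (h8wE6 (h8porE6 j)) s ∈ h8Lb chevE6 h8posiE6 (h8parE6 j) := by
  decide +kernel

theorem h8uE6_base : ∀ i < 24, h8depE6 i = 0 → i = 0 ∨ i = 1 ∨ i = 2 ∨ i = 3 := by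
  decide +kernel

theorem h8uE6_basedata : h8Lb chevE6 h8posiE6 0 = [36, 56] ∧ h8Lb chevE6 h8posiE6 1 = [37, 42] ∧
    h8Lb chevE6 h8posiE6 2 = [39] ∧ h8Lb chevE6 h8posiE6 3 = [46] ∧
    h8sE6 56 = 36 ∧ h8sE6 42 = 37 ∧ h8sE6 39 = 39 ∧ h8sE6 46 = 46 ∧
    h8eE6 56 = 1 ∧ h8eE6 42 = 1 ∧ h8eE6 39 = 1 ∧ h8eE6 46 = 1 := by decide +kernel

theorem h8uE6_wlt : ∀ k < 4, (h8orbsE6.getD k []) ∈ h8orbsE6 ∧ ∀ i ∈ h8wE6 k, i < chevE6.rank := by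
  decide +kernel

/-- the fixed points of the twisting endomorphism in `U` lie in `²E₆(q)` -/
theorem h8twE6_U_fix (hB : H8Base.{u} chevE6) (hC : H8CommAll.{u} chevE6)
    (hA : H8ReflAll chevE6) (hBN : H8BN chevE6) (hO2 : H8Ord2 chevE6) (q : ℕ) (f : K ≃+* K)
    (hf : ∀ t, f t = t ^ q) (hff : ∀ t, f (f t) = t) (hneg : (-1 : K) ^ q = -1) :
    ∀ g ∈ chevE6.posUnipotent K,
      h8Sig chevE6 h8sE6 h8tE6 h8pE6 h8qE6 h8eE6 (h8autE6 hA) f g = g → g ∈ twistedE6 K q := by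
  have hσp : ∀ r, chevE6.IsPosRoot r →
      chevE6.IsPosRoot (h8sE6 r) ∧ h8posiE6 (h8sE6 r) = h8posiE6 r :=
    fun r hr => ⟨(h8uE6_sig1 r hr.1 hr).1, (h8uE6_sig1 r hr.1 hr).2.1⟩
  have hM : ∀ r, chevE6.IsPosRoot r → h8posiE6 r < 24 := fun r hr => (h8uE6_sig1 r hr.1 hr).2.2
  have hfixG := h8twE6_fix hB hC hA q f hf hff
  have hnJ := h8twE6_nJ hB hC q hneg
  obtain ⟨hL0, hL1, hL2, hL3, hs0, hs1, hs2, hs3, he0, he1, he2, he3⟩ := h8uE6_basedata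
  have hQ := h8tw_Q_all chevE6 hB hC hBN hO2 h8posiE6 h8uE6_blk h8uE6_read h8sE6 h8tE6 h8pE6
    h8qE6 h8eE6 (h8autE6 hA) f hσp (twistedE6 K q) 24 h8depE6 h8parE6
    (fun j => h8nWU chevE6 hB (h8wE6 (h8porE6 j))) (by
      intro i hi hd
      rcases h8uE6_base i hi hd with rfl | rfl | rfl | rfl
      · apply h8tw_base2 chevE6 hB hC hBN hO2 h8posiE6 h8uE6_blk h8sE6 h8tE6 h8pE6 h8qE6 h8eE6
          (h8autE6 hA) f (twistedE6 K q) 0 36 56 hL0 hs0 he0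
        intro c
        rw [hf]
        exact h8twE6_x2 hB q 56 36 (by simp) c
      · apply h8tw_base2 chevE6 hB hC hBN hO2 h8posiE6 h8uE6_blk h8sE6 h8tE6 h8pE6 h8qE6 h8eE6
          (h8autE6 hA) f (twistedE6 K q) 1 37 42 hL1 hs1 he1
        intro c
        rw [hf]
        exact h8twE6_x2 hB q 42 37 (by simp) c
      · apply h8tw_base1 chevE6 hB h8posiE6 h8sE6 h8tE6 h8pE6 h8qE6 h8eE6
          (h8autE6 hA) f (twistedE6 K q) 2 39 hL2 (by decide) hs2 he2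
        intro c hc
        exact h8twE6_x1 hB q 39 (by simp) c (by rw [← hf, hc])
      · apply h8tw_base1 chevE6 hB h8posiE6 h8sE6 h8tE6 h8pE6 h8qE6 h8eE6
          (h8autE6 hA) f (twistedE6 K q) 3 46 hL3 (by decide) hs3 he3
        intro c hc
        exact h8twE6_x1 hB q 46 (by simp) c (by rw [← hf, hc])) (by
      intro j hj hd
      obtain ⟨h1, h2, h3, h4⟩ := h8uE6_cert j hj hd
      obtain ⟨hmem, hwlt⟩ := h8uE6_wlt _ h3
      refine ⟨h1, h2, hnJ _ hmem, hfixG _ (hnJ _ hmem), fun s hs => ⟨_, h4 s hs, ?_⟩⟩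
      exact h8actN_act _ _ _ _ _ (h8actN_word chevE6 hB hA (h8wE6 (h8porE6 j)) hwlt s
        ((h8Lb_mem chevE6 h8posiE6 j s).mp hs).1.1))
  intro g hg hfix
  rw [← h8Ub_zero chevE6 h8posiE6] at hg
  exact h8tw_U_le chevE6 hB hC hBN hO2 h8posiE6 h8uE6_blk h8uE6_read h8sE6 h8tE6 h8pE6
    h8qE6 h8eE6 (h8autE6 hA) f hσp (twistedE6 K q) 24 hM hQ 24 0 rfl g hg hfix

/-- `|U ∩ ²E₆(q)| = q ^ 36` -/
theorem h8twE6_U_card [Fintype K] {q : ℕ} (hq : IsPrimePow q) (hKc : Fintype.card K = q ^ 2) :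
    Nat.card ↥(chevE6.posUnipotent K ⊓ twistedE6 K q) = q ^ 36 := by
  have hD : chevE6 ∈ [chevG2, chevB2, chevD4, chevF4, chevE6, chevE7, chevE8] := by simp
  have hB := h8base_all.{u} chevE6 hD
  have hA := h8reflAll chevE6 hD
  have hC := h8commAll.{u} chevE6 hD
  have hBN := h8bn_all chevE6 hD
  obtain ⟨hO, hO2⟩ := h8ord_all chevE6 hD
  obtain ⟨f, hf, hff2, hneg⟩ := h8frob_exists hq 2 (by norm_num) hKc
  have hff : ∀ t, f (f t) = t := fun t => hff2 t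
  have hσp : ∀ r, chevE6.IsPosRoot r →
      chevE6.IsPosRoot (h8sE6 r) ∧ h8posiE6 (h8sE6 r) = h8posiE6 r :=
    fun r hr => ⟨(h8uE6_sig1 r hr.1 hr).1, (h8uE6_sig1 r hr.1 hr).2.1⟩
  have hM : ∀ r, chevE6.IsPosRoot r → h8posiE6 r < 24 := fun r hr => (h8uE6_sig1 r hr.1 hr).2.2
  have hfixG := h8twE6_fix hB hC hA q f hf hff
  have hfc : Nat.card {c : K // f c = c} = q :=
    h8frob_fix_card hq.one_lt (by norm_num) hKc f hf hff2
  have hK2 : Nat.card K = q ^ 2 := by rw [Nat.card_eq_fintype_card, hKc]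
  have hcard : ∀ i < 24, Nat.card (H8Bt chevE6 h8posiE6 h8tE6 h8eE6 f i) =
      q ^ (h8Lb chevE6 h8posiE6 i).length := fun i hi =>
    h8Bt_card_chk2 chevE6 h8posiE6 h8sE6 h8tE6 h8pE6 h8qE6 h8eE6 (h8autE6 hA) f q i
      (h8uE6_chk i hi) hff hfc hK2
  have hsub : chevE6.posUnipotent K ⊓ twistedE6 K q =
      h8FixUb chevE6 h8posiE6 h8sE6 h8tE6 h8pE6 h8qE6 h8eE6 (h8autE6 hA) f 0 := by
    ext g
    rw [Subgroup.mem_inf, h8FixUb_mem, h8Ub_zero]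
    constructor
    · rintro ⟨h1, h2⟩
      exact ⟨h1, hfixG g h2⟩
    · rintro ⟨h1, h2⟩
      exact ⟨h1, h8twE6_U_fix hB hC hA hBN hO2 q f hf hff hneg g h1 h2⟩
  rw [hsub, h8FixUb_card chevE6 hB hC hBN hO2 h8posiE6 h8uE6_blk h8uE6_read h8sE6 h8tE6 h8pE6
    h8qE6 h8eE6 (h8autE6 hA) f hσp q 24 hM hcard 24 0 rfl, h8uE6_sum]

end Cfsg.Agent.Lib.helper8
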