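import Mathlib
import Cfsg.Prelude.Def_ChevStructure
import Cfsg.Agent.Lib.helper8.ChevBN3

set_option autoImplicit false

namespace Cfsg.Agent.Lib.helper8

open Cfsg.Lie Cfsg.Lie.ChevalleyDatum

universe u

variable {F : Type u} [Field F]

theorem h8xorb_all (D : ChevalleyDatum) (hB : H8Base.{u} D) (hA : H8ReflAll D) (dep par : List ℕ)
    (h : h8orbChk D dep par = true)
    (M : Subgroup (GL D.Idx F))
    (hM : ∀ j < D.rank, ∀ t : F, h8xU D hB (D.simple j) t ∈ M)
    (hM' : ∀ j < D.rank, ∀ t : F, h8xU D hB (D.negIdx.getD (D.simple j) 0) t ∈ M) :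
    ∀ r < D.nroots, ∀ t : F, h8xU D hB r t ∈ M := by
  unfold h8orbChk at h
  simp only [Bool.and_eq_true, Bool.or_eq_true, decide_eq_true_eq, List.all_eq_true,
    List.any_eq_true, List.mem_range] at h
  obtain ⟨h256, h⟩ := h
  have hn : ∀ j < D.rank, h8nU D hB (D.simple j) (1 : F) ∈ M := by
    intro j hj
    rw [h8nU_eq]
    exact Subgroup.mul_mem _ (Subgroup.mul_mem _ (hM j hj _) (hM' j hj _)) (hM j hj _)
  have key : ∀ n : ℕ, ∀ r < D.nroots, dep.getD r 0 = n → ∀ t : F, h8xU D hB r t ∈ M := by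
    intro n
    induction n using Nat.strong_induction_on with
    | _ n ih =>
      intro r hr hn' t
      rcases h r hr with ⟨_, j, hj, hjr⟩ | ⟨i, hp, _, hd⟩
      · rw [← hjr]
        exact hM j hj t
      · obtain ⟨η, hR⟩ := h8reflAll_spec D hA i hp
        rw [h8sg_eq D _ hR.lt h256 r hr] at hd
        obtain ⟨c, hc, hact⟩ := h8act_nU (F := F) D hB hA i hp (D.reflectRoot i r)
          (hR.lt r hr)
        rw [hR.invol r hr] at hact
        have h1 := ih _ (hn' ▸ hd) _ (hR.lt r hr) rfl (c⁻¹ * t)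
        have h6 := hact (c⁻¹ * t)
        rw [← mul_assoc, mul_inv_cancel₀ hc, one_mul] at h6
        rw [← h6]
        exact Subgroup.mul_mem _ (Subgroup.mul_mem _ (hn _ hp) h1) (Subgroup.inv_mem _ (hn _ hp))
  intro r hr t
  exact key _ r hr rfl t

theorem h8group_le_of_simple (D : ChevalleyDatum) (hB : H8Base.{u} D) (hA : H8ReflAll D)
    (hBN : H8BN D) (M : Subgroup (GL D.Idx F))
    (hM : ∀ j < D.rank, ∀ t : F, h8xU D hB (D.simple j) t ∈ M)
    (hM' : ∀ j < D.rank, ∀ t : F, h8xU D hB (D.negIdx.getD (D.simple j) 0) t ∈ M) :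
    D.group F ≤ M := by
  obtain ⟨dep, par, horb⟩ := hBN.orb
  have hall := h8xorb_all D hB hA dep par horb M hM hM'
  unfold ChevalleyDatum.group
  rw [Subgroup.closure_le]
  rintro g ⟨r, t, hg⟩
  have hg' : g = h8xU D hB r.val t := by
    apply Units.ext
    rw [hg, h8xU_val]
    unfold ChevalleyDatum.x
    rw [dif_pos r.2]
  rw [hg']
  exact hall r.val r.2 t

end Cfsg.Agent.Lib.helper8
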