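import Mathlib
import Cfsg.Prelude.Def_ChevStructure
import Cfsg.Agent.Lib.helper8.ChevTwB7
import Cfsg.Agent.Lib.helper8.ChevCore
import Cfsg.Agent.Lib.helper8.ChevGen

set_option autoImplicit false

namespace Cfsg.Agent.Lib.helper8

open Cfsg.Lie Cfsg.Lie.ChevalleyDatum

universe u

variable {K : Type u} [Field K]

/-- an element all of whose conjugates under a subgroup containing a representative of the
longest element lie in `B` lies in `H` -/
theorem h8core_le_H' (D : ChevalleyDatum) (hB : H8Base.{u} D) (hA : H8ReflAll D)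
    (hNeg : h8NegOK D = true) (w : List ℕ) (hw0 : h8w0Chk D w = true)
    (G1 : Subgroup (GL D.Idx K)) (hn0 : (h8nWU D hB w : GL D.Idx K) ∈ G1) (k : GL D.Idx K)
    (hk : ∀ g ∈ G1, g * k * g⁻¹ ∈ D.borelSubgroup K) : k ∈ D.diagonalSubgroup K := by
  obtain ⟨hw, _, _, _⟩ := h8w0Chk_spec D hA w hw0
  have h1 : k ∈ D.borelSubgroup K := by
    have := hk 1 (Subgroup.one_mem _)
    simpa using this
  have h2 : (h8nWU D hB w)⁻¹ * k * ((h8nWU D hB w)⁻¹)⁻¹ ∈ D.borelSubgroup K :=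
    hk _ (Subgroup.inv_mem _ hn0)
  have h3 : k ∈ (D.borelSubgroup K).map (MulAut.conj (h8nWU D hB w : GL D.Idx K)).toMonoidHom := by
    rw [Subgroup.mem_map]
    refine ⟨_, h2, ?_⟩
    show h8nWU D hB w * ((h8nWU D hB w)⁻¹ * k * ((h8nWU D hB w)⁻¹)⁻¹) * (h8nWU D hB w)⁻¹ = k
    group
  have h4 : (D.borelSubgroup K).map (MulAut.conj (h8nWU D hB w : GL D.Idx K)).toMonoidHom =
      D.negUnipotent K ⊔ D.diagonalSubgroup K := by
    unfold ChevalleyDatum.borelSubgroup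
    rw [Subgroup.map_sup, h8_conj_U_eq_V D hB hA w hw0,
      h8map_conj_normalizer _ _ (h8nWU_mem_normalizer_H D hB hA w hw)]
  rw [h4] at h3
  have h5 : k ∈ D.borelSubgroup K ⊓ (D.negUnipotent K ⊔ D.diagonalSubgroup K) :=
    Subgroup.mem_inf.mpr ⟨h1, h3⟩
  rwa [h8_B_inf_VH D hB hNeg] at h5

/-- an element of `H` centralizing the Chevalley group is trivial -/
theorem h8H_central_trivial (D : ChevalleyDatum) (hB : H8Base.{u} D) (hA : H8ReflAll D)
    (hW : H8BN2 D) (hsc : h8scChk D = true) (k : GL D.Idx K) (hkH : k ∈ D.diagonalSubgroup K)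
    (hcent : ∀ s < D.nroots, k * h8xU D hB s 1 = h8xU D hB s 1 * k) : k = 1 := by
  obtain ⟨c, hc, hkd⟩ := h8_H_eq_Phi D hB k hkH
  have hPhi : ∀ s (hs : s < D.nroots), h8Phi D D.rank c (Sum.inr ⟨s, hs⟩) = 1 := by
    intro s hs
    have h1 := congrArg Units.val (hcent s hs)
    rw [Units.val_mul, Units.val_mul, h8xU_val, hkd,
      h8Phi_conj_x D hB hsc c hc s hs D.rank le_rfl 1, mul_one, ← hkd] at h1
    have h2 : h8xU D hB s (h8Phi D D.rank c (Sum.inr ⟨s, hs⟩)) * k = h8xU D hB s 1 * k := by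
      apply Units.ext
      rw [Units.val_mul, Units.val_mul, h8xU_val, h8xU_val]
      exact h1
    exact h8xU_inj_t D hB hA hW s hs _ _ (mul_right_cancel h2)
  apply Units.ext
  rw [hkd, Units.val_one, ← Matrix.diagonal_one]
  congr 1
  funext x
  rcases x with j | v
  · simp [h8Phi]
  · exact hPhi v.val v.2

section
variable (D : ChevalleyDatum) (hB : H8Base.{u} D) (hB0 : H8Base.{0} D)
  (hA : H8ReflAll D) (hC : H8CommAll.{u} D) (hBN : H8BN D) (hW : H8BN2 D)
  (hO2 : H8Ord2 D) (posi : ℕ → ℕ) (hK : H8Blk D posi) (hR : H8BlkRead D posi)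
  (σ τ π ϖ : ℕ → ℕ) (η : ℕ → ℤ) (hAut : H8Aut D σ τ π ϖ η) (f : K ≃+* K)
  (ρ : Equiv.Perm (Fin D.nroots))
  (πF : Fin D.rank → Fin D.rank) (orbs : List (List (Fin D.rank)))
  (T : H8Tw D hA hBN ρ πF orbs)
  (hσp : ∀ r, D.IsPosRoot r → D.IsPosRoot (σ r) ∧ posi (σ r) = posi r)
  (G1 : Subgroup (GL D.Idx K))
  (hUfix : ∀ g ∈ D.posUnipotent K, h8Sig D σ τ π ϖ η hAut f g = g → g ∈ G1)
  (hnJ : ∀ J ∈ orbs, (h8nWU D hB (J.map Fin.val) : GL D.Idx K) ∈ G1)

include hC hBN hO2 hK hR hσp hUfix in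
/-- an element of `H` whose conjugates under `G¹` lie in `H` centralizes the simple root
subgroups of a block with trivial signs -/
theorem h8tw_core_blk (k : GL D.Idx K)
    (hkH : ∀ g ∈ G1, g * k * g⁻¹ ∈ D.diagonalSubgroup K) (i : ℕ)
    (hη : ∀ r ∈ h8Lb D posi i, η (τ r) = 1) :
    ∀ r ∈ h8Lb D posi i, ∀ t : K, k * h8xU D hB r t * k⁻¹ = h8xU D hB r t := by
  have hk : k ∈ D.diagonalSubgroup K := by
    have := hkH 1 (Subgroup.one_mem _)
    simpa using this
  have hLlt : ∀ r ∈ h8Lb D posi i, r < D.nroots := fun r hr =>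
    ((h8Lb_mem D posi i r).mp hr).1.1
  -- the action of `k` on the root subgroups
  have hact := h8perm_H_id D hB k hk
  classical
  let c : ℕ → K := fun r => if hr : r < D.nroots then Classical.choose (hact r hr) else 0
  have hc : ∀ r (hr : r < D.nroots), ∀ t : K,
      k * h8xU D hB r t * k⁻¹ = h8xU D hB r (c r * t) := by
    intro r hr t
    have := (Classical.choose_spec (hact r hr)).2 t
    simp only [c, hr, dif_pos]
    exact this
  have hconj : ∀ (L : List ℕ), (∀ r ∈ L, r < D.nroots) → ∀ t : ℕ → K,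
      k * h8Pb D hB L t * k⁻¹ = h8Pb D hB L (fun r => c r * t r) := by
    intro L
    induction L with
    | nil => intro _ t; rw [h8Pb_nil, h8Pb_nil]; group
    | cons r L ih =>
      intro hL t
      rw [h8Pb_cons, h8Pb_cons, ← ih (fun x hx => hL x (List.mem_cons_of_mem _ hx)) t,
        ← hc r (hL r List.mem_cons_self)]
      group
  -- the fixed element of the block
  have hcompat : ∀ r ∈ h8Lb D posi i, h8tS τ η f (fun _ => (1 : K)) r = (fun _ => (1 : K)) r := by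
    intro r hr
    unfold h8tS
    rw [hη r hr, Int.cast_one, one_mul, map_one]
  have hfixx := (h8Sig_fix_Pb_iff D hB hC hBN hO2 posi hK hR σ τ π ϖ η hAut f hσp i
    (fun _ => (1 : K))).mpr hcompat
  have hU : h8Pb D hB (h8Lb D posi i) (fun _ => (1 : K)) ∈ D.posUnipotent K := by
    rw [← h8Ub_zero D posi]
    exact h8Pb_mem_Ub D hB posi 0 _ (fun r hr =>
      ⟨((h8Lb_mem D posi i r).mp hr).1, Nat.zero_le _⟩) _
  have hxG := hUfix _ hU hfixx
  set x := h8Pb D hB (h8Lb D posi i) (fun _ => (1 : K)) with hx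
  have h1 : x⁻¹ * k * x⁻¹⁻¹ ∈ D.diagonalSubgroup K := hkH _ (Subgroup.inv_mem _ hxG)
  have h2 : x⁻¹ * (k * x * k⁻¹) ∈ D.posUnipotent K ⊓ D.diagonalSubgroup K := by
    constructor
    · refine Subgroup.mul_mem _ (Subgroup.inv_mem _ hU) ?_
      exact (Subgroup.mem_normalizer_iff.mp (h8_H_le_normalizer_U D hB hk) x).mp hU
    · have : x⁻¹ * (k * x * k⁻¹) = (x⁻¹ * k * x⁻¹⁻¹) * k⁻¹ := by group
      rw [this]
      exact Subgroup.mul_mem _ h1 (Subgroup.inv_mem _ hk)
  rw [h8_U_inf_H D hB, Subgroup.mem_bot, inv_mul_eq_one] at h2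
  rw [hx, hconj _ hLlt] at h2
  have h3 : h8Pb D hB (h8Lb D posi i) (fun _ => (1 : K)) * 1 =
      h8Pb D hB (h8Lb D posi i) (fun r => c r * (1 : K)) * 1 := by rw [← h2]
  have h4 := h8Ub_unique D hB hC hBN hO2 posi hK hR i _ _ 1 1 (Subgroup.one_mem _)
    (Subgroup.one_mem _) h3
  intro r hr t
  rw [hc r (hLlt r hr)]
  have := h4 r hr
  simp only [mul_one] at this
  rw [← this, one_mul]

end

end Cfsg.Agent.Lib.helper8
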