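import Mathlib
import Cfsg.Prelude.Def_ChevStructure
import Cfsg.Agent.Lib.helper8.ChevTwC1

set_option autoImplicit false

namespace Cfsg.Agent.Lib.helper8

open Cfsg.Lie Cfsg.Lie.ChevalleyDatum

universe u

variable {K : Type u} [Field K]

section
variable (D : ChevalleyDatum) (hB : H8Base.{u} D) (hB0 : H8Base.{0} D)
  (hA : H8ReflAll D) (hC : H8CommAll.{u} D) (hBN : H8BN D) (hW : H8BN2 D)
  (hO2 : H8Ord2 D) (posi : ℕ → ℕ) (hK : H8Blk D posi) (hR : H8BlkRead D posi)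
  (σ τ π ϖ : ℕ → ℕ) (η : ℕ → ℤ) (hAut : H8Aut D σ τ π ϖ η) (f : K ≃+* K)
  (ρ : Equiv.Perm (Fin D.nroots))
  (πF : Fin D.rank → Fin D.rank) (orbs : List (List (Fin D.rank)))
  (T : H8Tw D hA hBN ρ πF orbs)
  (hσp : ∀ r, D.IsPosRoot r → D.IsPosRoot (σ r) ∧ posi (σ r) = posi r)
  (G1 : Subgroup (GL D.Idx K))
  (hUfix : ∀ g ∈ D.posUnipotent K, h8Sig D σ τ π ϖ η hAut f g = g → g ∈ G1)
  (hnJ : ∀ J ∈ orbs, (h8nWU D hB (J.map Fin.val) : GL D.Idx K) ∈ G1)

include hB0 hA hC hBN hW hO2 hK hR T hσp hUfix hnJ in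
/-- the normal core of `B ∩ G¹` in a twisted group `G¹` is trivial -/
theorem h8tw_core_trivial (hsc : h8scChk D = true)
    (w0 : List ℕ) (hw0 : h8w0Chk D w0 = true) (hn0 : (h8nWU D hB w0 : GL D.Idx K) ∈ G1)
    (hblk : ∀ J ∈ orbs, ∃ i, (∀ j ∈ J, D.simple j.val ∈ h8Lb D posi i) ∧
      ∀ r ∈ h8Lb D posi i, η (τ r) = 1)
    (k : GL D.Idx K) (hk : ∀ g ∈ G1, g * k * g⁻¹ ∈ D.borelSubgroup K) : k = 1 := by
  have hconjH : ∀ k' : GL D.Idx K, (∀ g ∈ G1, g * k' * g⁻¹ ∈ D.borelSubgroup K) →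
      ∀ g ∈ G1, g * k' * g⁻¹ ∈ D.diagonalSubgroup K := by
    intro k' hk' g hg
    apply h8core_le_H' D hB hA hBN.negOK w0 hw0 G1 hn0
    intro g' hg'
    have : g' * (g * k' * g⁻¹) * g'⁻¹ = (g' * g) * k' * (g' * g)⁻¹ := by group
    rw [this]
    exact hk' _ (Subgroup.mul_mem _ hg' hg)
  have hkH := hconjH k hk
  have hkHmem : k ∈ D.diagonalSubgroup K := by
    have := hkH 1 (Subgroup.one_mem _)
    simpa using this
  -- `k` centralizes the simple root subgroups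
  have hpos : ∀ j < D.rank, ∀ t : K, k * h8xU D hB (D.simple j) t * k⁻¹ = h8xU D hB (D.simple j) t := by
    intro j hj t
    obtain ⟨J, hJ, hjJ⟩ := T.orb_cover ⟨j, hj⟩
    obtain ⟨i, hi1, hi2⟩ := hblk J hJ
    exact h8tw_core_blk D hB hC hBN hO2 posi hK hR σ τ π ϖ η hAut f hσp G1 hUfix k hkH i hi2
      _ (hi1 ⟨j, hj⟩ hjJ) t
  have hneg : ∀ j < D.rank, ∀ t : K, k * h8xU D hB (D.negIdx.getD (D.simple j) 0) t * k⁻¹ =
      h8xU D hB (D.negIdx.getD (D.simple j) 0) t := by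
    intro j hj t
    obtain ⟨J, hJ, hjJ⟩ := T.orb_cover ⟨j, hj⟩
    obtain ⟨i, hi1, hi2⟩ := hblk J hJ
    have hn := hnJ J hJ
    set n := (h8nWU D hB (J.map Fin.val) : GL D.Idx K) with hndef
    have hk' : ∀ g ∈ G1, g * (n⁻¹ * k * n) * g⁻¹ ∈ D.borelSubgroup K := by
      intro g hg
      have : g * (n⁻¹ * k * n) * g⁻¹ = (g * n⁻¹) * k * (g * n⁻¹)⁻¹ := by group
      rw [this]
      exact hk _ (Subgroup.mul_mem _ hg (Subgroup.inv_mem _ hn))
    have h1 := h8tw_core_blk D hB hC hBN hO2 posi hK hR σ τ π ϖ η hAut f hσp G1 hUfix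
      (n⁻¹ * k * n) (hconjH _ hk') i hi2 _ (hi1 ⟨j, hj⟩ hjJ)
    have hp := h8simple_pos D hBN j hj
    obtain ⟨c, hc0, hc, _⟩ := h8actN_word (F := K) D hB hA (J.map Fin.val) (h8J_lt D J)
      (D.simple j) hp.1
    have e1 : h8sW D (J.map Fin.val) (D.simple j) =
        (h8wF D hA J (h8simF D hBN ⟨j, hj⟩)).val :=
      (h8wPerm_val D hA (J.map Fin.val) (h8J_lt D J) (h8simF D hBN ⟨j, hj⟩)).symm
    rw [e1, h8tw_wJ_simple D hB0 hA hBN hW hO2 ρ πF orbs T J hJ ⟨j, hj⟩ hjJ] at hc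
    have hc' : ∀ t : K, n * h8xU D hB (D.simple j) t * n⁻¹ =
        h8xU D hB (D.negIdx.getD (D.simple j) 0) (c * t) := hc
    have h2 := h1 (c⁻¹ * t)
    have h3 := hc' (c⁻¹ * t)
    rw [← mul_assoc, mul_inv_cancel₀ hc0, one_mul] at h3
    rw [← h3]
    calc k * (n * h8xU D hB (D.simple j) (c⁻¹ * t) * n⁻¹) * k⁻¹ =
        n * ((n⁻¹ * k * n) * h8xU D hB (D.simple j) (c⁻¹ * t) * (n⁻¹ * k * n)⁻¹) * n⁻¹ := by group
      _ = _ := by rw [h2]
  -- hence the whole Chevalley group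
  have hcentG : D.group K ≤ Subgroup.centralizer {k} := by
    apply h8group_le_of_simple D hB hA hBN
    · intro j hj t
      rw [Subgroup.mem_centralizer_iff]
      intro h hh
      rw [Set.mem_singleton_iff] at hh
      rw [hh]
      have := hpos j hj t
      rw [mul_inv_eq_iff_eq_mul] at this
      exact this
    · intro j hj t
      rw [Subgroup.mem_centralizer_iff]
      intro h hh
      rw [Set.mem_singleton_iff] at hh
      rw [hh]
      have := hneg j hj t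
      rw [mul_inv_eq_iff_eq_mul] at this
      exact this
  apply h8H_central_trivial D hB hA hW hsc k hkHmem
  intro s _
  have hxG : h8xU D hB s (1 : K) ∈ D.group K := by
    have : h8xU D hB s (1 : K) = h8wordU D hB [(s, 1)] := by
      unfold h8wordU
      simp
    rw [this]
    exact h8wordU_mem_group D hB _
  have := hcentG hxG
  rw [Subgroup.mem_centralizer_iff] at this
  exact this k (Set.mem_singleton k)

/-- products of orbit representatives lie in the twisted group -/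
theorem h8tw_nWU_flat (ks : List (List (Fin D.rank))) (hks : ∀ J ∈ ks, J ∈ orbs)
    (hnJ' : ∀ J ∈ orbs, (h8nWU D hB (J.map Fin.val) : GL D.Idx K) ∈ G1) :
    (h8nWU D hB ((ks.map fun J => J.map Fin.val).flatten) : GL D.Idx K) ∈ G1 := by
  induction ks with
  | nil => exact Subgroup.one_mem _
  | cons J ks ih =>
    rw [List.map_cons, List.flatten_cons, h8nWU_append]
    exact Subgroup.mul_mem _ (hnJ' J (hks J List.mem_cons_self))
      (ih (fun J' hJ' => hks J' (List.mem_cons_of_mem _ hJ')))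

end

end Cfsg.Agent.Lib.helper8
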