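import Mathlib
import Cfsg.Prelude.Def_ChevStructure
import Cfsg.Prelude.Def_LieTwisted
import Cfsg.Agent.Lib.helper8.ChevTwE6B
import Cfsg.Agent.Lib.helper8.ChevTwC2
import Cfsg.Agent.Lib.helper8.ChevTabSC

set_option autoImplicit false

namespace Cfsg.Agent.Lib.helper8

open Cfsg.Lie Cfsg.Lie.ChevalleyDatum

universe u

variable {K : Type u} [Field K]

/-- the longest element as a product of orbit products -/
def h8w0ksE6 : List (List (Fin chevE6.rank)) :=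
  ([3, 2, 1, 2, 0, 1, 2, 3, 2, 1, 2, 0, 1, 2, 3, 2, 1, 2, 0, 1, 2, 0, 1, 0] : List ℕ).map
    fun k => h8orbsE6.getD k []

theorem h8w0ksE6_mem : ∀ J ∈ h8w0ksE6, J ∈ h8orbsE6 := by decide

theorem h8w0ksE6_chk :
    h8w0Chk chevE6 ((h8w0ksE6.map fun J => J.map Fin.val).flatten) = true := by decide +kernel

theorem h8twE6_blkdata : ∀ J ∈ h8orbsE6, ∃ i < 4,
    (∀ j ∈ J, chevE6.simple j.val ∈ h8Lb chevE6 h8posiE6 i) ∧
      ∀ r ∈ h8Lb chevE6 h8posiE6 i, h8eE6 (h8tE6 r) = 1 := by decide +kernel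

/-- the normal core of `B¹` in `²E₆(q)` is trivial -/
theorem h8twE6_core [Fintype K] {q : ℕ} (hq : IsPrimePow q) (hKc : Fintype.card K = q ^ 2)
    (k : GL chevE6.Idx K)
    (hk : ∀ g ∈ twistedE6 K q, g * k * g⁻¹ ∈ chevE6.borelSubgroup K) : k = 1 := by
  have hD : chevE6 ∈ [chevG2, chevB2, chevD4, chevF4, chevE6, chevE7, chevE8] := by simp
  have hB := h8base_all.{u} chevE6 hD
  have hB0 := h8base_all.{0} chevE6 hD
  have hA := h8reflAll chevE6 hD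
  have hC := h8commAll.{u} chevE6 hD
  have hBN := h8bn_all chevE6 hD
  have hW := h8bn2_all chevE6 hD
  obtain ⟨hO, hO2⟩ := h8ord_all chevE6 hD
  obtain ⟨f, hf, hff2, hneg⟩ := h8frob_exists hq 2 (by norm_num) hKc
  have hff : ∀ t, f (f t) = t := fun t => hff2 t
  have hσp : ∀ r, chevE6.IsPosRoot r →
      chevE6.IsPosRoot (h8sE6 r) ∧ h8posiE6 (h8sE6 r) = h8posiE6 r :=
    fun r hr => ⟨(h8uE6_sig1 r hr.1 hr).1, (h8uE6_sig1 r hr.1 hr).2.1⟩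
  have hUfix := h8twE6_U_fix hB hC hA hBN hO2 q f hf hff hneg
  have hnJ := h8twE6_nJ (K := K) hB hC q hneg
  exact h8tw_core_trivial chevE6 hB hB0 hA hC hBN hW hO2 h8posiE6 h8uE6_blk h8uE6_read
    h8sE6 h8tE6 h8pE6 h8qE6 h8eE6 (h8autE6 hA) f
    (h8mkRho chevE6 h8sE6 h8tE6 h8pE6 h8qE6 h8eE6 (h8autE6 hA)) h8piE6 h8orbsE6
    (h8twE6 hA hBN) hσp (twistedE6 K q) hUfix hnJ (h8scChk_all chevE6 hD) _ h8w0ksE6_chk
    (h8tw_nWU_flat chevE6 hB h8orbsE6 (twistedE6 K q) h8w0ksE6 h8w0ksE6_mem hnJ)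
    (fun J hJ => by
      obtain ⟨i, _, h1, h2⟩ := h8twE6_blkdata J hJ
      exact ⟨i, h1, h2⟩) k hk

end Cfsg.Agent.Lib.helper8
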