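import Mathlib

set_option autoImplicit false

namespace Cfsg.Agent.Lib.helper8

universe u

variable {F : Type u} [Field F]

/-- evaluation of a polynomial given by its list of integer coefficients -/
def h8pEval (t : F) : List ℤ → F
  | [] => 0
  | c :: p => (c : F) + t * h8pEval t p

/-- sum of list polynomials -/
def h8pAdd : List ℤ → List ℤ → List ℤ
  | [], q => q
  | a :: p, [] => a :: p
  | a :: p, b :: q => (a + b) :: h8pAdd p q

theorem h8pEval_add (t : F) : ∀ p q : List ℤ,
    h8pEval t (h8pAdd p q) = h8pEval t p + h8pEval t q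
  | [], q => by simp [h8pAdd, h8pEval]
  | a :: p, [] => by simp [h8pAdd, h8pEval]
  | a :: p, b :: q => by
    simp only [h8pAdd, h8pEval, h8pEval_add t p q, Int.cast_add]
    ring

/-- multiple of a list polynomial -/
def h8pSmul (c : ℤ) (p : List ℤ) : List ℤ := p.map (c * ·)

theorem h8pEval_smul (t : F) (c : ℤ) : ∀ p : List ℤ,
    h8pEval t (h8pSmul c p) = (c : F) * h8pEval t p
  | [] => by simp [h8pSmul, h8pEval]
  | a :: p => by
    have ih := h8pEval_smul t c p
    unfold h8pSmul at ih ⊢
    simp only [List.map_cons, h8pEval, ih, Int.cast_mul]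
    ring

/-- product of list polynomials -/
def h8pMul : List ℤ → List ℤ → List ℤ
  | [], _ => []
  | a :: p, q => h8pAdd (h8pSmul a q) (0 :: h8pMul p q)

theorem h8pEval_mul (t : F) : ∀ p q : List ℤ,
    h8pEval t (h8pMul p q) = h8pEval t p * h8pEval t q
  | [], q => by simp [h8pMul, h8pEval]
  | a :: p, q => by
    simp only [h8pMul, h8pEval_add, h8pEval_smul, h8pEval, h8pEval_mul t p q, Int.cast_zero,
      zero_add]
    ring

/-- all coefficients vanish -/
def h8pZero (p : List ℤ) : Bool := p.all (· == 0)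

theorem h8pEval_zero (t : F) : ∀ p : List ℤ, h8pZero p = true → h8pEval t p = 0
  | [], _ => rfl
  | a :: p, h => by
    unfold h8pZero at h
    rw [List.all_cons, Bool.and_eq_true, beq_iff_eq] at h
    simp only [h8pEval, h.1, Int.cast_zero, zero_add, h8pEval_zero t p h.2, mul_zero]

/-- all coefficients are even -/
def h8pEven (p : List ℤ) : Bool := p.all (fun c => c % 2 == 0)

theorem h8pEval_even [CharP F 2] (t : F) : ∀ p : List ℤ, h8pEven p = true → h8pEval t p = 0
  | [], _ => rfl
  | a :: p, h => by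
    unfold h8pEven at h
    rw [List.all_cons, Bool.and_eq_true, beq_iff_eq] at h
    have ha : ((a : ℤ) : F) = 0 := by
      rw [CharP.intCast_eq_zero_iff F 2]
      exact Int.dvd_of_emod_eq_zero h.1
    simp only [h8pEval, ha, zero_add, h8pEval_even t p h.2, mul_zero]

theorem h8pEval_eq_of_sub (t : F) (p q : List ℤ)
    (h : h8pEval t (h8pAdd p (h8pSmul (-1) q)) = 0) : h8pEval t p = h8pEval t q := by
  rw [h8pEval_add, h8pEval_smul] at h
  have : h8pEval t p - h8pEval t q = 0 := by
    rw [← h]
    push_cast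
    ring
  exact sub_eq_zero.mp this

/-- sum of vectors of list polynomials -/
def h8vAdd : List (List ℤ) → List (List ℤ) → List (List ℤ)
  | [], v => v
  | p :: u, [] => p :: u
  | p :: u, q :: v => h8pAdd p q :: h8vAdd u v

theorem h8vAdd_getD (t : F) : ∀ (u v : List (List ℤ)) (j : ℕ),
    h8pEval t ((h8vAdd u v).getD j []) =
      h8pEval t (u.getD j []) + h8pEval t (v.getD j [])
  | [], v, j => by simp [h8vAdd, h8pEval]
  | p :: u, [], j => by simp [h8vAdd, h8pEval]
  | p :: u, q :: v, 0 => by simp [h8vAdd, h8pEval_add]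
  | p :: u, q :: v, j + 1 => by
    simp only [h8vAdd, List.getD_cons_succ]
    exact h8vAdd_getD t u v j

/-- a row vector times a matrix -/
def h8rowMul : List (List ℤ) → List (List (List ℤ)) → List (List ℤ)
  | [], _ => []
  | _ :: _, [] => []
  | p :: a, r :: B => if p.isEmpty then h8rowMul a B else h8vAdd (r.map (h8pMul p)) (h8rowMul a B)

theorem h8map_mul_getD (t : F) (p : List ℤ) (r : List (List ℤ)) (j : ℕ) :
    h8pEval t ((r.map (h8pMul p)).getD j []) = h8pEval t p * h8pEval t (r.getD j []) := by
  by_cases hj : j < r.length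
  · rw [List.getD_eq_getElem _ _ (by simpa using hj), List.getD_eq_getElem _ _ hj,
      List.getElem_map, h8pEval_mul]
  · rw [List.getD_eq_default _ _ (by simpa using hj), List.getD_eq_default _ _ (by omega)]
    simp [h8pEval]

theorem h8rowMul_getD (t : F) (j : ℕ) : ∀ (a : List (List ℤ)) (B : List (List (List ℤ))),
    h8pEval t ((h8rowMul a B).getD j []) =
      (List.zipWith (fun p r => h8pEval t p * h8pEval t (r.getD j [])) a B).sum
  | [], B => by simp [h8rowMul, h8pEval]
  | p :: a, [] => by simp [h8rowMul, h8pEval]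
  | p :: a, r :: B => by
    unfold h8rowMul
    split_ifs with hp
    · have : p = [] := List.isEmpty_iff.mp hp
      subst this
      rw [h8rowMul_getD t j a B]
      simp [h8pEval]
    · rw [h8vAdd_getD, h8map_mul_getD, h8rowMul_getD t j a B]
      simp

theorem h8zipWith_sum_range {α β : Type*} (f : α → β → F) (dA : α) (dB : β)
    (h1 : ∀ b, f dA b = 0) (h2 : ∀ a, f a dB = 0) :
    ∀ (a : List α) (B : List β) (n : ℕ), min a.length B.length ≤ n →
      (List.zipWith f a B).sum = ∑ k ∈ Finset.range n, f (a.getD k dA) (B.getD k dB)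
  | [], B, n, _ => by simp [h1]
  | x :: a, [], n, _ => by simp [h2]
  | x :: a, y :: B, 0, h => by simp at h
  | x :: a, y :: B, n + 1, h => by
    rw [Finset.sum_range_succ', List.zipWith_cons_cons, List.sum_cons,
      h8zipWith_sum_range f dA dB h1 h2 a B n (by simpa using h), add_comm]
    simp

/-- the entry of a matrix of list polynomials -/
def h8pmE (M : List (List (List ℤ))) (i j : ℕ) : List ℤ := (M.getD i []).getD j []

/-- product of matrices of list polynomials -/
def h8pmMul (A B : List (List (List ℤ))) : List (List (List ℤ)) := A.map fun a => h8rowMul a B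

theorem h8pmMul_entry (t : F) (A B : List (List (List ℤ))) (i j n : ℕ) (hn : B.length ≤ n) :
    h8pEval t (h8pmE (h8pmMul A B) i j) =
      ∑ k ∈ Finset.range n, h8pEval t (h8pmE A i k) * h8pEval t (h8pmE B k j) := by
  unfold h8pmE h8pmMul
  by_cases hi : i < A.length
  · have e1 : (A.map fun a => h8rowMul a B).getD i [] = h8rowMul (A.getD i []) B := by
      rw [List.getD_eq_getElem _ _ (by simpa using hi), List.getElem_map,
        List.getD_eq_getElem _ _ hi]
    rw [e1, h8rowMul_getD,
      h8zipWith_sum_range (fun p r => h8pEval t p * h8pEval t (r.getD j [])) [] []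
        (by intro b; simp [h8pEval]) (by intro a; simp [h8pEval]) _ _ n
        (le_trans (min_le_right _ _) hn)]
  · have e1 : (A.map fun a => h8rowMul a B).getD i [] = [] :=
      List.getD_eq_default _ _ (by simpa using hi)
    have e2 : A.getD i [] = [] := List.getD_eq_default _ _ (by omega)
    rw [e1, e2]
    simp [h8pEval]

/-- the matrix over a field of a matrix of list polynomials at a point -/
def h8pmMat {ι κ : Type*} (ei : ι → ℕ) (ek : κ → ℕ) (M : List (List (List ℤ))) (t : F) :
    Matrix ι κ F :=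
  Matrix.of fun i j => h8pEval t (h8pmE M (ei i) (ek j))

theorem h8pmMat_mul {ι κ μ : Type*} [Fintype κ] (ei : ι → ℕ) (ek : κ → ℕ) (em : μ → ℕ)
    (n : ℕ) (hek : ∀ g : ℕ → F, ∑ k : κ, g (ek k) = ∑ k ∈ Finset.range n, g k)
    (A B : List (List (List ℤ))) (hB : B.length ≤ n) (t : F) :
    h8pmMat ei em (h8pmMul A B) t = h8pmMat ei ek A t * h8pmMat ek em B t := by
  ext i j
  rw [Matrix.mul_apply]
  unfold h8pmMat
  simp only [Matrix.of_apply]
  rw [h8pmMul_entry t A B _ _ n hB,
    ← hek (fun k => h8pEval t (h8pmE A (ei i) k) * h8pEval t (h8pmE B k (em j)))]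

/-- the encoding of the index set of a Chevalley datum -/
def h8enc (a b : ℕ) : Fin a ⊕ Fin b → ℕ := Sum.elim (fun i => i.val) (fun s => a + s.val)

theorem h8enc_sum (a b : ℕ) (g : ℕ → F) :
    ∑ k : Fin a ⊕ Fin b, g (h8enc a b k) = ∑ k ∈ Finset.range (a + b), g k := by
  rw [Fintype.sum_sum_type, Finset.sum_range_add, ← Fin.sum_univ_eq_sum_range,
    ← Fin.sum_univ_eq_sum_range]
  rfl

theorem h8enc_lt (a b : ℕ) (k : Fin a ⊕ Fin b) : h8enc a b k < a + b := by
  rcases k with i | s
  · exact lt_of_lt_of_le i.2 (Nat.le_add_right _ _)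
  · exact Nat.add_lt_add_left s.2 _

/-- comparison of two matrices of list polynomials on a rectangle -/
def h8pmEqB (m n : ℕ) (A B : List (List (List ℤ))) : Bool :=
  (List.range m).all fun i => (List.range n).all fun j =>
    h8pZero (h8pAdd (h8pmE A i j) (h8pSmul (-1) (h8pmE B i j)))

theorem h8pmEqB_spec (m n : ℕ) (A B : List (List (List ℤ))) (h : h8pmEqB m n A B = true)
    (t : F) (i j : ℕ) (hi : i < m) (hj : j < n) :
    h8pEval t (h8pmE A i j) = h8pEval t (h8pmE B i j) := by
  unfold h8pmEqB at h
  rw [List.all_eq_true] at h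
  have h1 := h i (List.mem_range.2 hi)
  rw [List.all_eq_true] at h1
  exact h8pEval_eq_of_sub t _ _ (h8pEval_zero t _ (h1 j (List.mem_range.2 hj)))

/-- comparison modulo 2 -/
def h8pmEqB2 (m n : ℕ) (A B : List (List (List ℤ))) : Bool :=
  (List.range m).all fun i => (List.range n).all fun j =>
    h8pEven (h8pAdd (h8pmE A i j) (h8pSmul (-1) (h8pmE B i j)))

theorem h8pmEqB2_spec [CharP F 2] (m n : ℕ) (A B : List (List (List ℤ)))
    (h : h8pmEqB2 m n A B = true) (t : F) (i j : ℕ) (hi : i < m) (hj : j < n) :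
    h8pEval t (h8pmE A i j) = h8pEval t (h8pmE B i j) := by
  unfold h8pmEqB2 at h
  rw [List.all_eq_true] at h
  have h1 := h i (List.mem_range.2 hi)
  rw [List.all_eq_true] at h1
  exact h8pEval_eq_of_sub t _ _ (h8pEval_even t _ (h1 j (List.mem_range.2 hj)))

end Cfsg.Agent.Lib.helper8
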