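import Mathlib
import Cfsg.Prelude.Def_ChevStructure
import Cfsg.Agent.Lib.helper8.ChevGrP1

set_option autoImplicit false

namespace Cfsg.Agent.Lib.helper8

open Cfsg.Lie Cfsg.Lie.ChevalleyDatum

universe u

variable {F : Type u} [Field F]

/-- a monomial -/
def h8pMono (k : ℕ) (c : ℤ) : List ℤ := List.replicate k 0 ++ [c]

theorem h8pEval_mono (t : F) (c : ℤ) : ∀ k : ℕ, h8pEval t (h8pMono k c) = (c : F) * t ^ k
  | 0 => by simp [h8pMono, h8pEval]
  | k + 1 => by
    have ih := h8pEval_mono t c k
    unfold h8pMono at ih ⊢
    rw [List.replicate_succ, List.cons_append]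
    simp only [h8pEval, ih, Int.cast_zero, zero_add]
    ring

/-- the polynomial with the given terms -/
def h8pTerms (L : List (ℕ × ℤ)) : List ℤ :=
  L.foldr (fun km acc => h8pAdd (h8pMono km.1 km.2) acc) []

theorem h8pEval_terms (t : F) : ∀ L : List (ℕ × ℤ),
    h8pEval t (h8pTerms L) = (L.map fun km => ((km.2 : ℤ) : F) * t ^ km.1).sum
  | [] => by simp [h8pTerms, h8pEval]
  | km :: L => by
    have ih := h8pEval_terms t L
    unfold h8pTerms at ih ⊢
    rw [List.foldr_cons, h8pEval_add, h8pEval_mono, ih, List.map_cons, List.sum_cons]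

/-- the entries of the matrix of list polynomials of a root element -/
def h8xPe (D : ChevalleyDatum) (r i j : ℕ) : List ℤ :=
  if j < D.rank then
    (if i < D.rank then (if i = j then [1] else [])
     else (if i - D.rank = r then [0, -((D.cartanSR.getD j #[]).getD r 0)] else []))
  else
    if j - D.rank = r then (if i < D.rank then [] else if i - D.rank = r then [1] else [])
    else if j - D.rank = D.negIdx.getD r 0 then
      (if i < D.rank then [0, (D.coroot.getD r #[]).getD i 0]
       else if i - D.rank = j - D.rank then [1] else if i - D.rank = r then [0, 0, -1] else [])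
    else
      (if i < D.rank then []
       else h8pAdd (if i - D.rank = j - D.rank then [1] else [])
        (h8pTerms (D.chainCoeff r (j - D.rank) (i - D.rank))))

/-- the matrix of list polynomials of a root element -/
def h8xP (D : ChevalleyDatum) (r : ℕ) : List (List (List ℤ)) :=
  (List.range (D.rank + D.nroots)).map fun i =>
    (List.range (D.rank + D.nroots)).map fun j => h8xPe D r i j

theorem h8xP_length (D : ChevalleyDatum) (r : ℕ) : (h8xP D r).length = D.rank + D.nroots := by
  simp [h8xP]

theorem h8xP_entry (D : ChevalleyDatum) (r i j : ℕ) (hi : i < D.rank + D.nroots)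
    (hj : j < D.rank + D.nroots) : h8pmE (h8xP D r) i j = h8xPe D r i j := by
  unfold h8pmE h8xP
  have e1 : ((List.range (D.rank + D.nroots)).map fun i =>
      (List.range (D.rank + D.nroots)).map fun j => h8xPe D r i j).getD i [] =
      (List.range (D.rank + D.nroots)).map fun j => h8xPe D r i j := by
    rw [List.getD_eq_getElem _ _ (by simpa using hi), List.getElem_map, List.getElem_range]
  rw [e1, List.getD_eq_getElem _ _ (by simpa using hj), List.getElem_map, List.getElem_range]

theorem h8x_eq_pm (D : ChevalleyDatum) (r : ℕ) (hr : r < D.nroots) (t : F) :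
    D.x F r t = h8pmMat (h8enc D.rank D.nroots) (h8enc D.rank D.nroots) (h8xP D r) t := by
  ext row col
  unfold ChevalleyDatum.x
  rw [dif_pos hr]
  unfold h8pmMat
  rw [Matrix.of_apply, h8xP_entry D r _ _ (h8enc_lt _ _ _) (h8enc_lt _ _ _)]
  unfold ChevalleyDatum.xMat h8xPe
  dsimp only
  generalize D.negIdx.getD r 0 = m
  rcases col with i | s <;> rcases row with i' | u
  · simp only [h8enc, Sum.elim_inl, i.2, i'.2, if_true, Matrix.of_apply]
    by_cases h : i' = i
    · subst h
      simp [h8pEval]
    · have : i'.val ≠ i.val := fun e => h (Fin.ext e)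
      simp [h8pEval, h, this]
  · have hu : ¬ (D.rank + u.val < D.rank) := by omega
    simp only [h8enc, Sum.elim_inl, Sum.elim_inr, i.2, hu, if_true, if_false, Matrix.of_apply,
      Nat.add_sub_cancel_left]
    by_cases h : u = ⟨r, hr⟩
    · subst h
      simp [h8pEval, mul_comm]
    · have : u.val ≠ r := fun e => h (Fin.ext e)
      simp [h8pEval, h, this]
  · have hs : ¬ (D.rank + s.val < D.rank) := by omega
    simp only [h8enc, Sum.elim_inl, Sum.elim_inr, i'.2, hs, if_true, if_false, Matrix.of_apply,
      Nat.add_sub_cancel_left]
    by_cases h : s = ⟨r, hr⟩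
    · subst h
      simp [h8pEval]
    · have h' : s.val ≠ r := fun e => h (Fin.ext e)
      simp only [h, h', if_false]
      by_cases h2 : s.val = m
      · simp [h2, h8pEval, mul_comm]
      · simp [h2, h8pEval]
  · have hs : ¬ (D.rank + s.val < D.rank) := by omega
    have hu : ¬ (D.rank + u.val < D.rank) := by omega
    simp only [h8enc, Sum.elim_inr, hs, hu, if_false, Matrix.of_apply,
      Nat.add_sub_cancel_left]
    by_cases h : s = ⟨r, hr⟩
    · subst h
      by_cases h3 : u = ⟨r, hr⟩
      · subst h3
        simp [h8pEval]
      · have : u.val ≠ r := fun e => h3 (Fin.ext e)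
        simp [h8pEval, h3, this]
    · have h' : s.val ≠ r := fun e => h (Fin.ext e)
      simp only [h, h', if_false]
      by_cases h2 : s.val = m
      · simp only [h2, if_true]
        by_cases h3 : u = s
        · subst h3
          simp [h8pEval, h2]
        · have h3' : u.val ≠ s.val := fun e => h3 (Fin.ext e)
          rw [h2] at h3'
          by_cases h4 : u = ⟨r, hr⟩
          · subst h4
            simp [h8pEval, h3, h3', sq]
          · have : u.val ≠ r := fun e => h4 (Fin.ext e)
            simp [h8pEval, h3, h3', h4, this]
      · simp only [h2, if_false]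
        rw [h8pEval_add, h8pEval_terms]
        by_cases h3 : u = s
        · subst h3
          simp [h8pEval]
        · have h3' : u.val ≠ s.val := fun e => h3 (Fin.ext e)
          simp [h8pEval, h3, h3']

end Cfsg.Agent.Lib.helper8
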