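import Mathlib
import Cfsg.Prelude.Def_ChevStructure
import Cfsg.Agent.Lib.helper8.ChevGrP2
import Cfsg.Agent.Lib.helper8.ChevOrd

set_option autoImplicit false

namespace Cfsg.Agent.Lib.helper8

open Cfsg.Lie Cfsg.Lie.ChevalleyDatum

universe u

variable {F : Type u} [Field F]

/-- all the entries are constant polynomials -/
def h8pmConstB (M : List (List (List ℤ))) : Bool :=
  M.all fun row => row.all fun p => decide (p.length ≤ 1)

theorem h8pEval_const (t : F) : ∀ p : List ℤ, p.length ≤ 1 → h8pEval t p = h8pEval 0 p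
  | [], _ => rfl
  | [c], _ => by simp [h8pEval]
  | _ :: _ :: _, h => by simp at h

theorem h8pmE_const (M : List (List (List ℤ))) (h : h8pmConstB M = true) (i j : ℕ) :
    (h8pmE M i j).length ≤ 1 := by
  unfold h8pmE
  unfold h8pmConstB at h
  rw [List.all_eq_true] at h
  by_cases hi : i < M.length
  · have e : M.getD i [] = M[i] := List.getD_eq_getElem _ _ hi
    rw [e]
    have h1 := h _ (List.getElem_mem hi)
    rw [List.all_eq_true] at h1
    by_cases hj : j < M[i].length
    · rw [List.getD_eq_getElem _ _ hj]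
      exact of_decide_eq_true (h1 _ (List.getElem_mem hj))
    · rw [List.getD_eq_default _ _ (by omega)]
      simp
  · have e : M.getD i [] = [] := List.getD_eq_default _ _ (by omega)
    rw [e]
    simp

theorem h8pmMat_const {ι κ : Type*} (ei : ι → ℕ) (ek : κ → ℕ) (M : List (List (List ℤ)))
    (h : h8pmConstB M = true) (t : F) : h8pmMat ei ek M t = h8pmMat ei ek M 0 := by
  ext i j
  unfold h8pmMat
  simp only [Matrix.of_apply]
  exact h8pEval_const t _ (h8pmE_const M h _ _)

section restriction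

variable {ι κ : Type*} [Fintype ι] [Fintype κ] [DecidableEq ι] [DecidableEq κ]
  (Q : Matrix ι κ F) (P : Matrix κ ι F) (K : Subgroup (GL κ F))

/-- the invertible matrices inducing on the image of `Q` a matrix of the subgroup `K` -/
def h8resSub : Subgroup (GL ι F) where
  carrier := {g | ∃ g' ∈ K, (g : Matrix ι ι F) * Q = Q * (g' : Matrix κ κ F)}
  one_mem' := ⟨1, K.one_mem, by simp⟩
  mul_mem' := by
    rintro a b ⟨a', ha'K, ha⟩ ⟨b', hb'K, hb⟩
    refine ⟨a' * b', K.mul_mem ha'K hb'K, ?_⟩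
    rw [Units.val_mul, Units.val_mul, Matrix.mul_assoc, hb, ← Matrix.mul_assoc, ha,
      Matrix.mul_assoc]
  inv_mem' := by
    rintro a ⟨a', ha'K, ha⟩
    refine ⟨a'⁻¹, K.inv_mem ha'K, ?_⟩
    have h1 : ((a⁻¹ : GL ι F) : Matrix ι ι F) * (a : Matrix ι ι F) = 1 := by
      rw [← Units.val_mul, inv_mul_cancel, Units.val_one]
    have h2 : (a' : Matrix κ κ F) * ((a'⁻¹ : GL κ F) : Matrix κ κ F) = 1 := by
      rw [← Units.val_mul, mul_inv_cancel, Units.val_one]
    calc ((a⁻¹ : GL ι F) : Matrix ι ι F) * Q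
        = ((a⁻¹ : GL ι F) : Matrix ι ι F) * (Q * ((a' : Matrix κ κ F) *
            ((a'⁻¹ : GL κ F) : Matrix κ κ F))) := by rw [h2, Matrix.mul_one]
      _ = ((a⁻¹ : GL ι F) : Matrix ι ι F) * ((a : Matrix ι ι F) * Q) *
            ((a'⁻¹ : GL κ F) : Matrix κ κ F) := by
          rw [ha, Matrix.mul_assoc, Matrix.mul_assoc]
      _ = Q * ((a'⁻¹ : GL κ F) : Matrix κ κ F) := by
          rw [← Matrix.mul_assoc _ (a : Matrix ι ι F) Q, h1, Matrix.one_mul]

omit [DecidableEq ι] in
theorem h8res_unique (hPQ : P * Q = 1) (a b : GL κ F)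
    (h : Q * (a : Matrix κ κ F) = Q * (b : Matrix κ κ F)) : a = b := by
  apply Units.ext
  have := congrArg (fun M => P * M) h
  simp only [← Matrix.mul_assoc, hPQ, Matrix.one_mul] at this
  exact this

/-- the induced matrix -/
noncomputable def h8resFun (g : ↥(h8resSub Q K)) : ↥K :=
  ⟨Classical.choose g.2, (Classical.choose_spec g.2).1⟩

theorem h8resFun_spec (g : ↥(h8resSub Q K)) :
    (g.val : Matrix ι ι F) * Q = Q * ((h8resFun Q K g).val : Matrix κ κ F) :=
  (Classical.choose_spec g.2).2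

theorem h8resFun_eq (hPQ : P * Q = 1) (g : ↥(h8resSub Q K)) (g' : ↥K)
    (h : (g.val : Matrix ι ι F) * Q = Q * (g'.val : Matrix κ κ F)) : h8resFun Q K g = g' :=
  Subtype.ext (h8res_unique Q P hPQ _ _ ((h8resFun_spec Q K g).symm.trans h))

/-- the restriction homomorphism -/
noncomputable def h8resHom (hPQ : P * Q = 1) : ↥(h8resSub Q K) →* ↥K where
  toFun := h8resFun Q K
  map_one' := h8resFun_eq Q P K hPQ 1 1 (by simp)
  map_mul' := by
    intro a b
    apply h8resFun_eq Q P K hPQ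
    rw [Subgroup.coe_mul, Units.val_mul, Subgroup.coe_mul, Units.val_mul, Matrix.mul_assoc,
      h8resFun_spec Q K b, ← Matrix.mul_assoc, h8resFun_spec Q K a, Matrix.mul_assoc]

theorem h8resHom_eq (hPQ : P * Q = 1) (g : ↥(h8resSub Q K)) (g' : ↥K)
    (h : (g.val : Matrix ι ι F) * Q = Q * (g'.val : Matrix κ κ F)) :
    h8resHom Q P K hPQ g = g' :=
  h8resFun_eq Q P K hPQ g g' h

end restriction

/-- the product of the matrices of list polynomials of a list of root elements with a matrix -/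
def h8grL (D : ChevalleyDatum) (rs : List ℕ) (Qp : List (List (List ℤ))) :
    List (List (List ℤ)) :=
  rs.foldr (fun r acc => h8pmMul (h8xP D r) acc) Qp

theorem h8grL_length (D : ChevalleyDatum) (Qp : List (List (List ℤ)))
    (hQ : Qp.length ≤ D.rank + D.nroots) : ∀ rs : List ℕ,
    (h8grL D rs Qp).length ≤ D.rank + D.nroots
  | [] => hQ
  | r :: rs => by
    unfold h8grL
    rw [List.foldr_cons]
    unfold h8pmMul
    rw [List.length_map, h8xP_length]

theorem h8grL_mat (D E : ChevalleyDatum) (hBD : H8Base.{u} D) (Qp : List (List (List ℤ)))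
    (hQ : Qp.length ≤ D.rank + D.nroots) (t : F) : ∀ rs : List ℕ, (∀ r ∈ rs, r < D.nroots) →
    ((h8wordU D hBD (rs.map fun r => (r, t)) : GL D.Idx F) : Matrix D.Idx D.Idx F) *
        h8pmMat (h8enc D.rank D.nroots) (h8enc E.rank E.nroots) Qp t =
      h8pmMat (h8enc D.rank D.nroots) (h8enc E.rank E.nroots) (h8grL D rs Qp) t
  | [], _ => by
    simp [h8wordU, h8grL]
  | r :: rs, h => by
    have ih := h8grL_mat D E hBD Qp hQ t rs (fun x hx => h x (List.mem_cons_of_mem _ hx))
    rw [List.map_cons, h8wordU_cons, Units.val_mul, Matrix.mul_assoc, ih, h8xU_val]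
    dsimp only
    rw [h8x_eq_pm D r (h r List.mem_cons_self) t]
    unfold h8grL
    rw [List.foldr_cons]
    exact (h8pmMat_mul _ _ _ (D.rank + D.nroots) (h8enc_sum _ _) _ _
      (h8grL_length D Qp hQ rs) t).symm

/-- the intertwining relation of a product of root elements and a root element, from a
computation with list polynomials -/
theorem h8gr_gen (D E : ChevalleyDatum) (hBD : H8Base.{u} D) (hBE : H8Base.{u} E)
    (Qp : List (List (List ℤ))) (hQ : Qp.length ≤ D.rank + D.nroots)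
    (rs : List ℕ) (hrs : ∀ r ∈ rs, r < D.nroots) (γ : ℕ) (hγ : γ < E.nroots)
    (hchk : h8pmEqB (D.rank + D.nroots) (E.rank + E.nroots) (h8grL D rs Qp)
      (h8pmMul Qp (h8xP E γ)) = true) (t : F) :
    ((h8wordU D hBD (rs.map fun r => (r, t)) : GL D.Idx F) : Matrix D.Idx D.Idx F) *
        h8pmMat (h8enc D.rank D.nroots) (h8enc E.rank E.nroots) Qp t =
      h8pmMat (h8enc D.rank D.nroots) (h8enc E.rank E.nroots) Qp t *
        ((h8xU E hBE γ t : GL E.Idx F) : Matrix E.Idx E.Idx F) := by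
  rw [h8grL_mat D E hBD Qp hQ t rs hrs, h8xU_val, h8x_eq_pm E γ hγ t,
    ← h8pmMat_mul _ _ _ (E.rank + E.nroots) (h8enc_sum _ _) _ _ (le_of_eq (h8xP_length E γ)) t]
  ext i j
  unfold h8pmMat
  simp only [Matrix.of_apply]
  exact h8pmEqB_spec _ _ _ _ hchk t _ _ (h8enc_lt _ _ _) (h8enc_lt _ _ _)

/-- the same in characteristic 2 -/
theorem h8gr_gen2 [CharP F 2] (D E : ChevalleyDatum) (hBD : H8Base.{u} D) (hBE : H8Base.{u} E)
    (Qp : List (List (List ℤ))) (hQ : Qp.length ≤ D.rank + D.nroots)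
    (rs : List ℕ) (hrs : ∀ r ∈ rs, r < D.nroots) (γ : ℕ) (hγ : γ < E.nroots)
    (hchk : h8pmEqB2 (D.rank + D.nroots) (E.rank + E.nroots) (h8grL D rs Qp)
      (h8pmMul Qp (h8xP E γ)) = true) (t : F) :
    ((h8wordU D hBD (rs.map fun r => (r, t)) : GL D.Idx F) : Matrix D.Idx D.Idx F) *
        h8pmMat (h8enc D.rank D.nroots) (h8enc E.rank E.nroots) Qp t =
      h8pmMat (h8enc D.rank D.nroots) (h8enc E.rank E.nroots) Qp t *
        ((h8xU E hBE γ t : GL E.Idx F) : Matrix E.Idx E.Idx F) := by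
  rw [h8grL_mat D E hBD Qp hQ t rs hrs, h8xU_val, h8x_eq_pm E γ hγ t,
    ← h8pmMat_mul _ _ _ (E.rank + E.nroots) (h8enc_sum _ _) _ _ (le_of_eq (h8xP_length E γ)) t]
  ext i j
  unfold h8pmMat
  simp only [Matrix.of_apply]
  exact h8pmEqB2_spec _ _ _ _ hchk t _ _ (h8enc_lt _ _ _) (h8enc_lt _ _ _)

end Cfsg.Agent.Lib.helper8
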