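import Mathlib
import Cfsg.Prelude.Def_ChevStructure
import Cfsg.Agent.Lib.helper8.ChevGrP3

set_option autoImplicit false

namespace Cfsg.Agent.Lib.helper8

open Cfsg.Lie Cfsg.Lie.ChevalleyDatum

universe u

variable {F : Type u} [Field F]

/-- all coefficients are divisible by `p` -/
def h8pDivB (p : ℕ) (q : List ℤ) : Bool := q.all (fun c => c % (p : ℤ) == 0)

theorem h8pEval_div (p : ℕ) [CharP F p] (t : F) :
    ∀ q : List ℤ, h8pDivB p q = true → h8pEval t q = 0
  | [], _ => rfl
  | a :: q, h => by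
    unfold h8pDivB at h
    rw [List.all_cons, Bool.and_eq_true, beq_iff_eq] at h
    have ha : ((a : ℤ) : F) = 0 := by
      rw [CharP.intCast_eq_zero_iff F p]
      exact Int.dvd_of_emod_eq_zero h.1
    simp only [h8pEval, ha, zero_add, h8pEval_div p t q h.2, mul_zero]

/-- comparison modulo `p` -/
def h8pmEqBp (p m n : ℕ) (A B : List (List (List ℤ))) : Bool :=
  (List.range m).all fun i => (List.range n).all fun j =>
    h8pDivB p (h8pAdd (h8pmE A i j) (h8pSmul (-1) (h8pmE B i j)))

theorem h8pmEqBp_spec (p : ℕ) [CharP F p] (m n : ℕ) (A B : List (List (List ℤ)))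
    (h : h8pmEqBp p m n A B = true) (t : F) (i j : ℕ) (hi : i < m) (hj : j < n) :
    h8pEval t (h8pmE A i j) = h8pEval t (h8pmE B i j) := by
  unfold h8pmEqBp at h
  rw [List.all_eq_true] at h
  have h1 := h i (List.mem_range.2 hi)
  rw [List.all_eq_true] at h1
  exact h8pEval_eq_of_sub t _ _ (h8pEval_div p t _ (h1 j (List.mem_range.2 hj)))

theorem h8pEval_replicate (t : F) (q : List ℤ) : ∀ n : ℕ,
    h8pEval t (List.replicate n 0 ++ q) = t ^ n * h8pEval t q
  | 0 => by simp
  | n + 1 => by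
    rw [List.replicate_succ, List.cons_append]
    simp only [h8pEval, h8pEval_replicate t q n, Int.cast_zero, zero_add]
    ring

/-- the substitution of a power of the variable -/
def h8pSpread (k : ℕ) : List ℤ → List ℤ
  | [] => []
  | c :: q => c :: (List.replicate k 0 ++ h8pSpread k q)

theorem h8pEval_spread (k : ℕ) (t : F) : ∀ q : List ℤ,
    h8pEval t (h8pSpread k q) = h8pEval (t ^ (k + 1)) q
  | [] => rfl
  | c :: q => by
    simp only [h8pSpread, h8pEval, h8pEval_replicate, h8pEval_spread k t q]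
    ring

/-- the substitution of a power of the variable in a matrix -/
def h8pmSpread (k : ℕ) (M : List (List (List ℤ))) : List (List (List ℤ)) :=
  M.map fun row => row.map (h8pSpread k)

theorem h8pmSpread_entry (k : ℕ) (M : List (List (List ℤ))) (i j : ℕ) :
    h8pmE (h8pmSpread k M) i j = h8pSpread k (h8pmE M i j) := by
  unfold h8pmE h8pmSpread
  have e1 : (M.map fun row => row.map (h8pSpread k)).getD i [] =
      (M.getD i []).map (h8pSpread k) := by
    have := List.getD_map (f := fun row : List (List ℤ) => row.map (h8pSpread k)) (l := M)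
      (d := []) (n := i)
    simpa using this
  rw [e1]
  have := List.getD_map (f := h8pSpread k) (l := M.getD i []) (d := []) (n := j)
  simpa [h8pSpread] using this

theorem h8pmSpread_length (k : ℕ) (M : List (List (List ℤ))) :
    (h8pmSpread k M).length = M.length := by
  simp [h8pmSpread]

theorem h8pmMat_spread {ι κ : Type*} (ei : ι → ℕ) (ek : κ → ℕ) (k : ℕ)
    (M : List (List (List ℤ))) (t : F) :
    h8pmMat ei ek (h8pmSpread k M) t = h8pmMat ei ek M (t ^ (k + 1)) := by
  ext i j
  unfold h8pmMat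
  simp only [Matrix.of_apply]
  rw [h8pmSpread_entry, h8pEval_spread]

/-- the intertwining relation of two root elements, one with a power of the parameter, from a
computation with list polynomials modulo `p` -/
theorem h8ga_rel (p : ℕ) [CharP F p] (D : ChevalleyDatum) (Qp : List (List (List ℤ)))
    (hQ : Qp.length ≤ D.rank + D.nroots) (hQc : h8pmConstB Qp = true)
    (src dst : ℕ) (hs : src < D.nroots) (hd : dst < D.nroots) (k : ℕ)
    (hchk : h8pmEqBp p (D.rank + D.nroots) (D.rank + D.nroots)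
      (h8pmMul (h8pmSpread k (h8xP D dst)) Qp) (h8pmMul Qp (h8xP D src)) = true) (t : F) :
    D.x F dst (t ^ (k + 1)) *
        h8pmMat (h8enc D.rank D.nroots) (h8enc D.rank D.nroots) Qp (0 : F) =
      h8pmMat (h8enc D.rank D.nroots) (h8enc D.rank D.nroots) Qp (0 : F) * D.x F src t := by
  rw [← h8pmMat_const _ _ Qp hQc t, h8x_eq_pm D dst hd, h8x_eq_pm D src hs,
    ← h8pmMat_spread,
    ← h8pmMat_mul _ _ _ (D.rank + D.nroots) (h8enc_sum _ _) _ _ hQ t,
    ← h8pmMat_mul _ _ _ (D.rank + D.nroots) (h8enc_sum _ _) _ _ (le_of_eq (h8xP_length D src)) t]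
  ext i j
  unfold h8pmMat
  simp only [Matrix.of_apply]
  exact h8pmEqBp_spec p _ _ _ _ hchk t _ _ (h8enc_lt _ _ _) (h8enc_lt _ _ _)

theorem h8ga_entryL (D : ChevalleyDatum) (Qp : List (List (List ℤ)))
    (hQ : Qp.length ≤ D.rank + D.nroots) (hQc : h8pmConstB Qp = true)
    (r : ℕ) (hr : r < D.nroots) (t : F) (i j : D.Idx) :
    (D.x F r t * h8pmMat (h8enc D.rank D.nroots) (h8enc D.rank D.nroots) Qp (0 : F)) i j =
      h8pEval t (h8pmE (h8pmMul (h8xP D r) Qp) (h8enc D.rank D.nroots i)
        (h8enc D.rank D.nroots j)) := by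
  rw [← h8pmMat_const _ _ Qp hQc t, h8x_eq_pm D r hr,
    ← h8pmMat_mul _ _ _ (D.rank + D.nroots) (h8enc_sum _ _) _ _ hQ t]
  rfl

theorem h8ga_entryR (D : ChevalleyDatum) (Qp : List (List (List ℤ)))
    (hQc : h8pmConstB Qp = true)
    (r : ℕ) (hr : r < D.nroots) (t : F) (i j : D.Idx) :
    (h8pmMat (h8enc D.rank D.nroots) (h8enc D.rank D.nroots) Qp (0 : F) * D.x F r t) i j =
      h8pEval t (h8pmE (h8pmMul Qp (h8xP D r)) (h8enc D.rank D.nroots i)
        (h8enc D.rank D.nroots j)) := by
  rw [← h8pmMat_const _ _ Qp hQc t, h8x_eq_pm D r hr,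
    ← h8pmMat_mul _ _ _ (D.rank + D.nroots) (h8enc_sum _ _) _ _
      (le_of_eq (h8xP_length D r)) t]
  rfl

theorem h8ga_entryQ (D : ChevalleyDatum) (Qp : List (List (List ℤ))) (i j : D.Idx) :
    (h8pmMat (h8enc D.rank D.nroots) (h8enc D.rank D.nroots) Qp (0 : F)) i j =
      h8pEval 0 (h8pmE Qp (h8enc D.rank D.nroots i) (h8enc D.rank D.nroots j)) := rfl

end Cfsg.Agent.Lib.helper8
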