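import Mathlib
import Cfsg.Prelude.Def_ChevStructure
import Cfsg.Agent.Lib.helper8.ChevGen
import Cfsg.Agent.Lib.helper8.ChevPerf

set_option autoImplicit false

namespace Cfsg.Agent.Lib.helper8

open Cfsg.Lie Cfsg.Lie.ChevalleyDatum

universe u

variable {F : Type u} [Field F]

section

variable {ι : Type*} [Fintype ι] [DecidableEq ι] (G : Subgroup (GL ι F)) (Q : Matrix ι ι F)

/-- the pairs of elements of a matrix group intertwined by a matrix -/
def h8gaRel : Subgroup (↥G × ↥G) where
  carrier := {p | (p.2.val : Matrix ι ι F) * Q = Q * (p.1.val : Matrix ι ι F)}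
  one_mem' := by simp
  mul_mem' := by
    rintro a b ha hb
    simp only [Set.mem_setOf_eq] at ha hb ⊢
    rw [Prod.snd_mul, Prod.fst_mul, Subgroup.coe_mul, Subgroup.coe_mul, Units.val_mul,
      Units.val_mul, Matrix.mul_assoc, hb, ← Matrix.mul_assoc, ha, Matrix.mul_assoc]
  inv_mem' := by
    rintro a ha
    simp only [Set.mem_setOf_eq] at ha ⊢
    have h1 : ((a.2.val⁻¹ : GL ι F) : Matrix ι ι F) * (a.2.val : Matrix ι ι F) = 1 := by
      rw [← Units.val_mul, inv_mul_cancel, Units.val_one]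
    have h2 : (a.1.val : Matrix ι ι F) * ((a.1.val⁻¹ : GL ι F) : Matrix ι ι F) = 1 := by
      rw [← Units.val_mul, mul_inv_cancel, Units.val_one]
    rw [Prod.snd_inv, Prod.fst_inv, Subgroup.coe_inv, Subgroup.coe_inv]
    calc ((a.2.val⁻¹ : GL ι F) : Matrix ι ι F) * Q
        = ((a.2.val⁻¹ : GL ι F) : Matrix ι ι F) * (Q * ((a.1.val : Matrix ι ι F) *
            ((a.1.val⁻¹ : GL ι F) : Matrix ι ι F))) := by rw [h2, Matrix.mul_one]
      _ = ((a.2.val⁻¹ : GL ι F) : Matrix ι ι F) * ((a.2.val : Matrix ι ι F) * Q) *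
            ((a.1.val⁻¹ : GL ι F) : Matrix ι ι F) := by
          rw [ha, Matrix.mul_assoc, Matrix.mul_assoc]
      _ = Q * ((a.1.val⁻¹ : GL ι F) : Matrix ι ι F) := by
          rw [← Matrix.mul_assoc _ (a.2.val : Matrix ι ι F) Q, h1, Matrix.one_mul]

theorem h8gaRel_mem (p : ↥G × ↥G) :
    p ∈ h8gaRel G Q ↔ (p.2.val : Matrix ι ι F) * Q = Q * (p.1.val : Matrix ι ι F) := Iff.rfl

/-- a matrix intertwining a simple matrix group with itself, with both projections onto,
gives an automorphism -/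
theorem h8ga_equiv [IsSimpleGroup ↥G]
    (h1 : ∀ g : ↥G, ∃ g' : ↥G, (g'.val : Matrix ι ι F) * Q = Q * (g.val : Matrix ι ι F))
    (h2 : ∀ g' : ↥G, ∃ g : ↥G, (g'.val : Matrix ι ι F) * Q = Q * (g.val : Matrix ι ι F))
    (hne1 : ∃ g : ↥G, (g.val : Matrix ι ι F) * Q ≠ Q)
    (hne2 : ∃ g : ↥G, Q * (g.val : Matrix ι ι F) ≠ Q) :
    ∃ α : ↥G ≃* ↥G, ∀ g g' : ↥G,
      (g'.val : Matrix ι ι F) * Q = Q * (g.val : Matrix ι ι F) → α g = g' := by
  set R := h8gaRel G Q with hR
  -- the two kernels
  let N1 : Subgroup ↥G :=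
    { carrier := {n | ((1 : ↥G), n) ∈ R}
      one_mem' := R.one_mem
      mul_mem' := by
        intro a b ha hb
        have := R.mul_mem ha hb
        simpa using this
      inv_mem' := by
        intro a ha
        have := R.inv_mem ha
        simpa using this }
  let N2 : Subgroup ↥G :=
    { carrier := {n | (n, (1 : ↥G)) ∈ R}
      one_mem' := R.one_mem
      mul_mem' := by
        intro a b ha hb
        have := R.mul_mem ha hb
        simpa using this
      inv_mem' := by
        intro a ha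
        have := R.inv_mem ha
        simpa using this }
  have hN1n : N1.Normal := by
    refine ⟨fun n hn c => ?_⟩
    obtain ⟨c0, hc0⟩ := h2 c
    have hc : (c0, c) ∈ R := hc0
    have := R.mul_mem (R.mul_mem hc hn) (R.inv_mem hc)
    show ((1 : ↥G), c * n * c⁻¹) ∈ R
    simpa using this
  have hN2n : N2.Normal := by
    refine ⟨fun n hn c => ?_⟩
    obtain ⟨c0, hc0⟩ := h1 c
    have hc : (c, c0) ∈ R := hc0
    have := R.mul_mem (R.mul_mem hc hn) (R.inv_mem hc)
    show (c * n * c⁻¹, (1 : ↥G)) ∈ R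
    simpa using this
  have hN1 : N1 = ⊥ := by
    rcases hN1n.eq_bot_or_eq_top with h | h
    · exact h
    · exfalso
      obtain ⟨g, hg⟩ := hne1
      have : g ∈ N1 := by rw [h]; trivial
      have h3 : (g.val : Matrix ι ι F) * Q = Q * ((1 : ↥G).val : Matrix ι ι F) := this
      apply hg
      rw [h3]
      simp
  have hN2 : N2 = ⊥ := by
    rcases hN2n.eq_bot_or_eq_top with h | h
    · exact h
    · exfalso
      obtain ⟨g, hg⟩ := hne2
      have : g ∈ N2 := by rw [h]; trivial
      have h3 : (((1 : ↥G)).val : Matrix ι ι F) * Q = Q * (g.val : Matrix ι ι F) := this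
      apply hg
      rw [← h3]
      simp
  have hb1 : Function.Bijective (Prod.fst ∘ R.subtype) := by
    constructor
    · rintro ⟨⟨a, a'⟩, ha⟩ ⟨⟨b, b'⟩, hb⟩ hab
      simp only [Function.comp_apply, Subgroup.coe_subtype] at hab
      subst hab
      have : ((1 : ↥G), a'⁻¹ * b') ∈ R := by
        have := R.mul_mem (R.inv_mem ha) hb
        simpa using this
      have h3 : a'⁻¹ * b' ∈ N1 := this
      rw [hN1, Subgroup.mem_bot] at h3
      have : a' = b' := by
        rw [← mul_right_inj a'⁻¹, inv_mul_cancel, h3]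
      subst this
      rfl
    · intro g
      obtain ⟨g', hg'⟩ := h1 g
      exact ⟨⟨(g, g'), hg'⟩, rfl⟩
  have hb2 : Function.Bijective (Prod.snd ∘ R.subtype) := by
    constructor
    · rintro ⟨⟨a, a'⟩, ha⟩ ⟨⟨b, b'⟩, hb⟩ hab
      simp only [Function.comp_apply, Subgroup.coe_subtype] at hab
      subst hab
      have : (a⁻¹ * b, (1 : ↥G)) ∈ R := by
        have := R.mul_mem (R.inv_mem ha) hb
        simpa using this
      have h3 : a⁻¹ * b ∈ N2 := this
      rw [hN2, Subgroup.mem_bot] at h3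
      have : a = b := by
        rw [← mul_right_inj a⁻¹, inv_mul_cancel, h3]
      subst this
      rfl
    · intro g'
      obtain ⟨g, hg⟩ := h2 g'
      exact ⟨⟨(g, g'), hg⟩, rfl⟩
  obtain ⟨e, he⟩ := Subgroup.exists_mulEquiv_eq_graph hb1 hb2
  refine ⟨e, fun g g' h => ?_⟩
  have : (g, g') ∈ R := h
  rw [he] at this
  exact this

end

end Cfsg.Agent.Lib.helper8
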