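import Mathlib
import Cfsg.Prelude.Def_ChevStructure
import Cfsg.Agent.Lib.helper8.ChevGa2

set_option autoImplicit false

namespace Cfsg.Agent.Lib.helper8

open Cfsg.Lie Cfsg.Lie.ChevalleyDatum

universe u

variable {F : Type u} [Field F]

/-- the exceptional graph automorphism of a simple Chevalley group from an intertwining matrix -/
theorem h8ga_datum (D : ChevalleyDatum) (hB : H8Base.{u} D) (hA : H8ReflAll D) (hBN : H8BN D)
    [IsSimpleGroup ↥(D.group F)] (Q : Matrix D.Idx D.Idx F) (ρ lam : ℕ → ℕ)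
    (hρ : ∀ i < D.rank, ∃ j < D.rank, ρ j = i)
    (hperf : ∀ j < D.rank, ∀ x : F, ∃ y : F, y ^ (lam j) = x)
    (hrel : ∀ j < D.rank, ∀ t : F,
      D.x F (D.simple (ρ j)) (t ^ lam j) * Q = Q * D.x F (D.simple j) t)
    (hrel' : ∀ j < D.rank, ∀ t : F,
      D.x F (D.negIdx.getD (D.simple (ρ j)) 0) (t ^ lam j) * Q =
        Q * D.x F (D.negIdx.getD (D.simple j) 0) t)
    (hne1 : ∃ g : ↥(D.group F), (g.val : Matrix D.Idx D.Idx F) * Q ≠ Q)
    (hne2 : ∃ g : ↥(D.group F), Q * (g.val : Matrix D.Idx D.Idx F) ≠ Q) :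
    ∃ α : ↥(D.group F) ≃* ↥(D.group F), ∀ g g' : ↥(D.group F),
      (g'.val : Matrix D.Idx D.Idx F) * Q = Q * (g.val : Matrix D.Idx D.Idx F) → α g = g' := by
  set R := h8gaRel (D.group F) Q with hR
  have hmem : ∀ (r r' : ℕ) (t t' : F), D.x F r' t' * Q = Q * D.x F r t →
      ((⟨h8xU D hB r t, h8xU_mem_group D hB _ _⟩ : ↥(D.group F)),
        (⟨h8xU D hB r' t', h8xU_mem_group D hB _ _⟩ : ↥(D.group F))) ∈ R := by
    intro r r' t t' h
    exact h
  apply h8ga_equiv (D.group F) Q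
  · -- first projection onto
    have hle : D.group F ≤ (R.map (MonoidHom.fst _ _)).map (D.group F).subtype := by
      apply h8group_le_of_simple D hB hA hBN
      · intro j hj t
        exact ⟨_, ⟨_, hmem _ _ _ _ (hrel j hj t), rfl⟩, rfl⟩
      · intro j hj t
        exact ⟨_, ⟨_, hmem _ _ _ _ (hrel' j hj t), rfl⟩, rfl⟩
    intro g
    obtain ⟨x, ⟨p, hp, hpx⟩, hxg⟩ := hle g.2
    have e : p.1 = g := by
      apply Subtype.ext
      rw [← hxg, ← hpx]
      rfl
    refine ⟨p.2, ?_⟩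
    rw [← e]
    exact hp
  · -- second projection onto
    have hle : D.group F ≤ (R.map (MonoidHom.snd _ _)).map (D.group F).subtype := by
      apply h8group_le_of_simple D hB hA hBN
      · intro i hi u
        obtain ⟨j, hj, rfl⟩ := hρ i hi
        obtain ⟨y, rfl⟩ := hperf j hj u
        exact ⟨_, ⟨_, hmem _ _ _ _ (hrel j hj y), rfl⟩, rfl⟩
      · intro i hi u
        obtain ⟨j, hj, rfl⟩ := hρ i hi
        obtain ⟨y, rfl⟩ := hperf j hj u
        exact ⟨_, ⟨_, hmem _ _ _ _ (hrel' j hj y), rfl⟩, rfl⟩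
    intro g
    obtain ⟨x, ⟨p, hp, hpx⟩, hxg⟩ := hle g.2
    have e : p.2 = g := by
      apply Subtype.ext
      rw [← hxg, ← hpx]
      rfl
    refine ⟨p.1, ?_⟩
    rw [← e]
    exact hp
  · exact hne1
  · exact hne2

end Cfsg.Agent.Lib.helper8
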