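import Mathlib
import Cfsg.Prelude.Def_ChevStructure
import Cfsg.Prelude.Def_ChevG2
import Cfsg.Agent.Lib.helper8.ChevGa1
import Cfsg.Agent.Lib.helper8.ChevGa3
import Cfsg.Agent.Lib.helper8.ChevTits5

set_option autoImplicit false

namespace Cfsg.Agent.Lib.helper8

open Cfsg.Lie Cfsg.Lie.ChevalleyDatum

universe u

variable {F : Type u} [Field F]

/-- the matrix of the special isogeny of type G₂ in characteristic 3 -/
def h8gaQ_G2 : List (List (List ℤ)) :=
  [[[], [1], [], [], [], [], [], [], [], [], [], [], [], []],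
  [[], [], [], [], [], [], [], [], [], [], [], [], [], []],
  [[], [], [], [], [], [], [], [], [], [], [], [], [], []],
  [[], [], [], [], [], [], [], [], [], [], [], [], [], []],
  [[], [], [1], [], [], [], [], [], [], [], [], [], [], []],
  [[], [], [], [1], [], [], [], [], [], [], [], [], [], []],
  [[], [], [], [], [], [], [], [1], [], [], [], [], [], []],
  [[], [], [], [], [], [], [], [], [], [], [], [], [], []],
  [[], [], [], [], [], [], [], [], [], [], [], [], [], []],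
  [[], [], [], [], [], [], [], [], [1], [], [], [], [], []],
  [[], [], [], [], [], [], [], [], [], [], [], [], [1], []],
  [[], [], [], [], [], [], [], [], [], [], [], [], [], [1]],
  [[], [], [], [], [], [], [], [], [], [], [], [], [], []],
  [[], [], [], [], [], [], [], [], [], [], [], [], [], []]]

theorem h8gaG2_len : h8gaQ_G2.length ≤ chevG2.rank + chevG2.nroots := by decide

theorem h8gaG2_const : h8pmConstB h8gaQ_G2 = true := by decide

theorem h8gaG2_chk0 : h8pmEqBp 3 (chevG2.rank + chevG2.nroots) (chevG2.rank + chevG2.nroots)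
    (h8pmMul (h8pmSpread 2 (h8xP chevG2 6)) h8gaQ_G2) (h8pmMul h8gaQ_G2 (h8xP chevG2 7)) = true := by
  decide +kernel

theorem h8gaG2_chk1 : h8pmEqBp 3 (chevG2.rank + chevG2.nroots) (chevG2.rank + chevG2.nroots)
    (h8pmMul (h8pmSpread 0 (h8xP chevG2 7)) h8gaQ_G2) (h8pmMul h8gaQ_G2 (h8xP chevG2 6)) = true := by
  decide +kernel

theorem h8gaG2_chk2 : h8pmEqBp 3 (chevG2.rank + chevG2.nroots) (chevG2.rank + chevG2.nroots)
    (h8pmMul (h8pmSpread 2 (h8xP chevG2 5)) h8gaQ_G2) (h8pmMul h8gaQ_G2 (h8xP chevG2 4)) = true := by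
  decide +kernel

theorem h8gaG2_chk3 : h8pmEqBp 3 (chevG2.rank + chevG2.nroots) (chevG2.rank + chevG2.nroots)
    (h8pmMul (h8pmSpread 0 (h8xP chevG2 4)) h8gaQ_G2) (h8pmMul h8gaQ_G2 (h8xP chevG2 5)) = true := by
  decide +kernel

theorem h8gaG2_w1 : h8pmE (h8pmMul (h8xP chevG2 7) h8gaQ_G2) 0 7 = [0, 1] ∧
    h8pmE (h8pmMul h8gaQ_G2 (h8xP chevG2 6)) 0 7 = [0, 1] ∧ h8pmE h8gaQ_G2 0 7 = [] := by
  decide +kernel

/-- the matrix of the special isogeny over a field -/
def h8gaQm_G2 (F : Type u) [Field F] : Matrix chevG2.Idx chevG2.Idx F :=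
  h8pmMat (h8enc chevG2.rank chevG2.nroots) (h8enc chevG2.rank chevG2.nroots) h8gaQ_G2 (0 : F)

theorem h8gaG2_rel0 [CharP F 3] (t : F) :
    chevG2.x F 6 (t ^ 3) * h8gaQm_G2 F = h8gaQm_G2 F * chevG2.x F 7 t :=
  h8ga_rel 3 chevG2 h8gaQ_G2 h8gaG2_len h8gaG2_const 7 6 (by decide) (by decide) 2 h8gaG2_chk0 t

theorem h8gaG2_rel1 [CharP F 3] (t : F) :
    chevG2.x F 7 t * h8gaQm_G2 F = h8gaQm_G2 F * chevG2.x F 6 t := by
  have := h8ga_rel 3 chevG2 h8gaQ_G2 h8gaG2_len h8gaG2_const 6 7 (by decide) (by decide) 0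
    h8gaG2_chk1 t
  rwa [zero_add, pow_one] at this

theorem h8gaG2_rel2 [CharP F 3] (t : F) :
    chevG2.x F 5 (t ^ 3) * h8gaQm_G2 F = h8gaQm_G2 F * chevG2.x F 4 t :=
  h8ga_rel 3 chevG2 h8gaQ_G2 h8gaG2_len h8gaG2_const 4 5 (by decide) (by decide) 2 h8gaG2_chk2 t

theorem h8gaG2_rel3 [CharP F 3] (t : F) :
    chevG2.x F 4 t * h8gaQm_G2 F = h8gaQm_G2 F * chevG2.x F 5 t := by
  have := h8ga_rel 3 chevG2 h8gaQ_G2 h8gaG2_len h8gaG2_const 5 4 (by decide) (by decide) 0
    h8gaG2_chk3 t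
  rwa [zero_add, pow_one] at this

/-- the exceptional graph automorphism of type G₂ in characteristic 3 -/
theorem h8gaG2_main [CharP F 3] (hperf : ∀ x : F, ∃ y : F, y ^ 3 = x) :
    ∃ α : ↥(chevG2.group F) ≃* ↥(chevG2.group F), ∀ g g' : ↥(chevG2.group F),
      (g'.val : Matrix chevG2.Idx chevG2.Idx F) * h8gaQm_G2 F =
        h8gaQm_G2 F * (g.val : Matrix chevG2.Idx chevG2.Idx F) → α g = g' := by
  have hD : chevG2 ∈ [chevG2, chevB2, chevD4, chevF4, chevE6, chevE7, chevE8] := by simp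
  have hB := h8base_all.{u} chevG2 hD
  have hA := h8reflAll chevG2 hD
  have hBN := h8bn_all chevG2 hD
  have h2ne : (2 : F) ≠ 0 := by
    have h := (CharP.cast_eq_zero_iff F 3 2).not.2 (by norm_num)
    exact_mod_cast h
  have hsimple : IsSimpleGroup ↥(chevG2.group F) :=
    (h8simple_main chevG2 hD (fun _ => ⟨2, h2ne, by
      intro h
      have : (1 : F) = 0 := by linear_combination h
      exact one_ne_zero this⟩)).1
  have hs0 : chevG2.simple 0 = 7 := by decide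
  have hs1 : chevG2.simple 1 = 6 := by decide
  have hn0 : chevG2.negIdx.getD 7 0 = 4 := by decide
  have hn1 : chevG2.negIdx.getD 6 0 = 5 := by decide
  have hrk : chevG2.rank = 2 := rfl
  refine h8ga_datum chevG2 hB hA hBN (h8gaQm_G2 F) (fun j => 1 - j)
    (fun j => if j = 0 then 3 else 1) ?_ ?_ ?_ ?_ ?_ ?_
  · intro i hi
    rw [hrk] at hi
    interval_cases i
    · exact ⟨1, by decide, rfl⟩
    · exact ⟨0, by decide, rfl⟩
  · intro j hj x
    rw [hrk] at hj
    interval_cases j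
    · exact hperf x
    · exact ⟨x, by simp⟩
  · intro j hj t
    rw [hrk] at hj
    interval_cases j
    · simp only [hs0, hs1, if_true]
      exact h8gaG2_rel0 t
    · simp only [hs0, hs1, Nat.sub_self, one_ne_zero, if_false, pow_one]
      exact h8gaG2_rel1 t
  · intro j hj t
    rw [hrk] at hj
    interval_cases j
    · simp only [hs0, hs1, hn0, hn1, if_true]
      exact h8gaG2_rel2 t
    · simp only [hs0, hs1, hn0, hn1, Nat.sub_self, one_ne_zero, if_false, pow_one]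
      exact h8gaG2_rel3 t
  · refine ⟨⟨h8xU chevG2 hB 7 1, h8xU_mem_group chevG2 hB _ _⟩, fun h => ?_⟩
    have h1 := congrFun (congrFun h (Sum.inl ⟨0, by decide⟩)) (Sum.inr ⟨5, by decide⟩)
    unfold h8gaQm_G2 at h1
    rw [h8xU_val, h8ga_entryL chevG2 h8gaQ_G2 h8gaG2_len h8gaG2_const 7 (by decide),
      h8ga_entryQ] at h1
    have e1 : h8enc chevG2.rank chevG2.nroots (Sum.inl ⟨0, by decide⟩) = 0 := rfl
    have e2 : h8enc chevG2.rank chevG2.nroots (Sum.inr ⟨5, by decide⟩) = 7 := rfl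
    rw [e1, e2, h8gaG2_w1.1, h8gaG2_w1.2.2] at h1
    simp [h8pEval] at h1
  · refine ⟨⟨h8xU chevG2 hB 6 1, h8xU_mem_group chevG2 hB _ _⟩, fun h => ?_⟩
    have h1 := congrFun (congrFun h (Sum.inl ⟨0, by decide⟩)) (Sum.inr ⟨5, by decide⟩)
    unfold h8gaQm_G2 at h1
    rw [h8xU_val, h8ga_entryR chevG2 h8gaQ_G2 h8gaG2_const 6 (by decide),
      h8ga_entryQ] at h1
    have e1 : h8enc chevG2.rank chevG2.nroots (Sum.inl ⟨0, by decide⟩) = 0 := rfl
    have e2 : h8enc chevG2.rank chevG2.nroots (Sum.inr ⟨5, by decide⟩) = 7 := rfl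
    rw [e1, e2, h8gaG2_w1.2.1, h8gaG2_w1.2.2] at h1
    simp [h8pEval] at h1

end Cfsg.Agent.Lib.helper8
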