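import Mathlib
import Cfsg.Prelude.Def_ChevStructure
import Cfsg.Prelude.Def_ChevG2
import Cfsg.Agent.Lib.helper8.ChevGaG2

set_option autoImplicit false

namespace Cfsg.Agent.Lib.helper8

open Cfsg.Lie Cfsg.Lie.ChevalleyDatum

universe u

variable {F : Type u} [Field F]

/-- the permutation of the roots of type G₂ induced by the special isogeny -/
def h8reeRho (r : ℕ) : ℕ := ([2, 3, 0, 1, 5, 4, 7, 6, 10, 11, 8, 9] : List ℕ).getD r 0

/-- the exponent (minus one) of the special isogeny on the root subgroups -/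
def h8reeK (r : ℕ) : ℕ := ([0, 0, 2, 2, 2, 0, 0, 2, 2, 2, 0, 0] : List ℕ).getD r 0

theorem h8ree_chk : ∀ r < 12, h8pmEqBp 3 (chevG2.rank + chevG2.nroots)
    (chevG2.rank + chevG2.nroots)
    (h8pmMul (h8pmSpread (h8reeK r) (h8xP chevG2 (h8reeRho r))) h8gaQ_G2)
    (h8pmMul h8gaQ_G2 (h8xP chevG2 r)) = true := by
  decide +kernel

theorem h8reeRho_lt : ∀ r < 12, h8reeRho r < 12 := by decide

theorem h8reeRho_invol : ∀ r < 12, h8reeRho (h8reeRho r) = r := by decide

theorem h8reeK_rho : ∀ r < 12, h8reeK r + h8reeK (h8reeRho r) = 2 := by decide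

theorem h8reeRho_neg : ∀ r < 12, h8reeRho (chevG2.negIdx.getD r 0) =
    chevG2.negIdx.getD (h8reeRho r) 0 ∧ h8reeK (chevG2.negIdx.getD r 0) = h8reeK r ∧
    chevG2.negIdx.getD r 0 < 12 := by decide

set_option synthInstance.maxSize 1000 in
set_option synthInstance.maxHeartbeats 200000 in
theorem h8reeRho_pos : ∀ r < 12, (chevG2.IsPosRoot r → chevG2.IsPosRoot (h8reeRho r)) ∧
    (chevG2.IsNegRoot r → chevG2.IsNegRoot (h8reeRho r)) := by decide +kernel

/-- the relation of the special isogeny on every root subgroup -/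
theorem h8ree_rel [CharP F 3] (r : ℕ) (hr : r < 12) (t : F) :
    chevG2.x F (h8reeRho r) (t ^ (h8reeK r + 1)) * h8gaQm_G2 F =
      h8gaQm_G2 F * chevG2.x F r t :=
  h8ga_rel 3 chevG2 h8gaQ_G2 h8gaG2_len h8gaG2_const r (h8reeRho r) hr (h8reeRho_lt r hr)
    (h8reeK r) (h8ree_chk r hr) t

end Cfsg.Agent.Lib.helper8
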