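import Mathlib
import Cfsg.Prelude.Def_ChevStructure
import Cfsg.Prelude.Def_ChevG2
import Cfsg.Agent.Lib.helper8.ChevRee2
import Cfsg.Agent.Lib.helper8.ChevFix1

set_option autoImplicit false

namespace Cfsg.Agent.Lib.helper8

open Cfsg.Lie Cfsg.Lie.ChevalleyDatum

universe u

variable {K : Type u} [Field K]

/-- the automorphism of a Chevalley group induced by a field automorphism -/
noncomputable def h8PsiEquiv (D : ChevalleyDatum) (hB : H8Base.{u} D) (e : K ≃+* K) :
    ↥(D.group K) ≃* ↥(D.group K) :=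
  MonoidHom.toMulEquiv
    (((h8Psi D (e : K →+* K)).comp (D.group K).subtype).codRestrict (D.group K)
      (fun g => h8Psi_group_le D hB hB (e : K →+* K) ⟨g.val, g.2, rfl⟩))
    (((h8Psi D (e.symm : K →+* K)).comp (D.group K).subtype).codRestrict (D.group K)
      (fun g => h8Psi_group_le D hB hB (e.symm : K →+* K) ⟨g.val, g.2, rfl⟩))
    (by
      apply MonoidHom.ext
      intro g
      apply Subtype.ext
      apply Units.ext
      show ((g.val : Matrix D.Idx D.Idx K).map (e : K →+* K)).map (e.symm : K →+* K) = _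
      ext i j
      simp)
    (by
      apply MonoidHom.ext
      intro g
      apply Subtype.ext
      apply Units.ext
      show ((g.val : Matrix D.Idx D.Idx K).map (e.symm : K →+* K)).map (e : K →+* K) = _
      ext i j
      simp)

theorem h8PsiEquiv_val (D : ChevalleyDatum) (hB : H8Base.{u} D) (e : K ≃+* K)
    (g : ↥(D.group K)) :
    ((h8PsiEquiv D hB e g : ↥(D.group K)) : GL D.Idx K) = h8Psi D (e : K →+* K) g.val := rfl

theorem h8PsiEquiv_mat (D : ChevalleyDatum) (hB : H8Base.{u} D) (e : K ≃+* K)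
    (g : ↥(D.group K)) :
    (((h8PsiEquiv D hB e g : ↥(D.group K)) : GL D.Idx K) : Matrix D.Idx D.Idx K) =
      (g.val : Matrix D.Idx D.Idx K).map e := rfl

/-- the data of a Ree twist of the Chevalley group of type G₂ -/
structure H8Ree (K : Type u) [Field K] (hB : H8Base.{u} chevG2) where
  f : K ≃+* K
  σ : ↥(chevG2.group K) ≃* ↥(chevG2.group K)
  hf : ∀ t : K, f (f t) ^ 3 = t
  rel : ∀ g : ↥(chevG2.group K),
    ((σ g).val : Matrix chevG2.Idx chevG2.Idx K) * h8gaQm_G2 K =
      h8gaQm_G2 K * (g.val : Matrix chevG2.Idx chevG2.Idx K).map f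
  uniq : ∀ g g' : ↥(chevG2.group K),
    (g'.val : Matrix chevG2.Idx chevG2.Idx K) * h8gaQm_G2 K =
      h8gaQm_G2 K * (g.val : Matrix chevG2.Idx chevG2.Idx K).map f → σ g = g'

/-- a Ree twist exists for every automorphism whose square is the inverse of the Frobenius -/
theorem h8ree_exists' [CharP K 3] (hB : H8Base.{u} chevG2) (f : K ≃+* K)
    (hf : ∀ t : K, f (f t) ^ 3 = t) : ∃ R : H8Ree K hB, R.f = f := by
  have hD : chevG2 ∈ [chevG2, chevB2, chevD4, chevF4, chevE6, chevE7, chevE8] := by simp
  have hA := h8reflAll chevG2 hD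
  have hBN := h8bn_all chevG2 hD
  have hperf : ∀ x : K, ∃ y : K, y ^ 3 = x := fun x => ⟨f (f x), hf x⟩
  obtain ⟨α, hα⟩ := h8gaG2_main (F := K) hperf
  -- the relation holds for all elements
  have hall : ∀ g : ↥(chevG2.group K),
      ((α g).val : Matrix chevG2.Idx chevG2.Idx K) * h8gaQm_G2 K =
        h8gaQm_G2 K * (g.val : Matrix chevG2.Idx chevG2.Idx K) := by
    let S : Subgroup ↥(chevG2.group K) :=
      { carrier := {g | ((α g).val : Matrix chevG2.Idx chevG2.Idx K) * h8gaQm_G2 K =
          h8gaQm_G2 K * (g.val : Matrix chevG2.Idx chevG2.Idx K)}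
        one_mem' := by simp
        mul_mem' := by
          intro a b ha hb
          simp only [Set.mem_setOf_eq] at ha hb ⊢
          rw [map_mul, Subgroup.coe_mul, Subgroup.coe_mul, Units.val_mul, Units.val_mul,
            Matrix.mul_assoc, hb, ← Matrix.mul_assoc, ha, Matrix.mul_assoc]
        inv_mem' := by
          intro a ha
          simp only [Set.mem_setOf_eq] at ha ⊢
          have h1 : (((α a)⁻¹ : ↥(chevG2.group K)).val : Matrix chevG2.Idx chevG2.Idx K) *
              ((α a).val : Matrix chevG2.Idx chevG2.Idx K) = 1 := by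
            rw [← Units.val_mul, ← Subgroup.coe_mul, inv_mul_cancel]
            rfl
          have h2 : (a.val : Matrix chevG2.Idx chevG2.Idx K) *
              ((a⁻¹ : ↥(chevG2.group K)).val : Matrix chevG2.Idx chevG2.Idx K) = 1 := by
            rw [← Units.val_mul, ← Subgroup.coe_mul, mul_inv_cancel]
            rfl
          rw [map_inv]
          calc (((α a)⁻¹ : ↥(chevG2.group K)).val : Matrix chevG2.Idx chevG2.Idx K) * h8gaQm_G2 K
              = (((α a)⁻¹ : ↥(chevG2.group K)).val : Matrix chevG2.Idx chevG2.Idx K) *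
                  (h8gaQm_G2 K * ((a.val : Matrix chevG2.Idx chevG2.Idx K) *
                    ((a⁻¹ : ↥(chevG2.group K)).val : Matrix chevG2.Idx chevG2.Idx K))) := by
                rw [h2, Matrix.mul_one]
            _ = (((α a)⁻¹ : ↥(chevG2.group K)).val : Matrix chevG2.Idx chevG2.Idx K) *
                  (((α a).val : Matrix chevG2.Idx chevG2.Idx K) * h8gaQm_G2 K) *
                  ((a⁻¹ : ↥(chevG2.group K)).val : Matrix chevG2.Idx chevG2.Idx K) := by
                rw [ha, Matrix.mul_assoc, Matrix.mul_assoc]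
            _ = h8gaQm_G2 K *
                  ((a⁻¹ : ↥(chevG2.group K)).val : Matrix chevG2.Idx chevG2.Idx K) := by
                rw [← Matrix.mul_assoc _ ((α a).val : Matrix chevG2.Idx chevG2.Idx K), h1,
                  Matrix.one_mul] }
    have hle : chevG2.group K ≤ S.map (chevG2.group K).subtype := by
      unfold ChevalleyDatum.group
      rw [Subgroup.closure_le]
      rintro g ⟨r, t, hg⟩
      have hg' : g = h8xU chevG2 hB r.val t := by
        apply Units.ext
        rw [hg, h8xU_val]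
        unfold ChevalleyDatum.x
        rw [dif_pos r.2]
      rw [hg']
      refine ⟨⟨_, h8xU_mem_group chevG2 hB _ _⟩, ?_, rfl⟩
      have hr : r.val < 12 := r.2
      have h1 := hα ⟨h8xU chevG2 hB r.val t, h8xU_mem_group chevG2 hB _ _⟩
        ⟨h8xU chevG2 hB (h8reeRho r.val) (t ^ (h8reeK r.val + 1)), h8xU_mem_group chevG2 hB _ _⟩
        (h8ree_rel r.val hr t)
      have h2 : ((α ⟨h8xU chevG2 hB r.val t, h8xU_mem_group chevG2 hB _ _⟩).val :
          Matrix chevG2.Idx chevG2.Idx K) =
          chevG2.x K (h8reeRho r.val) (t ^ (h8reeK r.val + 1)) := by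
        rw [h1]
        rfl
      show ((α ⟨h8xU chevG2 hB r.val t, h8xU_mem_group chevG2 hB _ _⟩).val :
          Matrix chevG2.Idx chevG2.Idx K) * h8gaQm_G2 K = _
      rw [h2]
      exact h8ree_rel r.val hr t
    intro g
    obtain ⟨x, hx, hxg⟩ := hle g.2
    have : x = g := Subtype.ext hxg
    rw [← this]
    exact hx
  refine ⟨⟨f, (h8PsiEquiv chevG2 hB f).trans α, hf, ?_, ?_⟩, rfl⟩
  · intro g
    rw [MulEquiv.trans_apply, hall, h8PsiEquiv_mat]
  · intro g g' h
    rw [MulEquiv.trans_apply]
    apply hα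
    rw [h8PsiEquiv_mat]
    exact h

theorem h8ree_exists [CharP K 3] (hB : H8Base.{u} chevG2) (f : K ≃+* K)
    (hf : ∀ t : K, f (f t) ^ 3 = t) : Nonempty (H8Ree K hB) := by
  obtain ⟨R, _⟩ := h8ree_exists' hB f hf
  exact ⟨R⟩

end Cfsg.Agent.Lib.helper8
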