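import Mathlib
import Cfsg.Prelude.Def_ChevStructure
import Cfsg.Prelude.Def_ChevG2
import Cfsg.Agent.Lib.helper8.ChevRee4
import Cfsg.Agent.Lib.helper8.ChevBr4
import Cfsg.Agent.Lib.helper8.ChevWeyl1

set_option autoImplicit false

namespace Cfsg.Agent.Lib.helper8

open Cfsg.Lie Cfsg.Lie.ChevalleyDatum

universe u

variable {K : Type u} [Field K] {hB : H8Base.{u} chevG2}

theorem h8_V_le_group' (D : ChevalleyDatum) : D.negUnipotent K ≤ D.group K := by
  unfold ChevalleyDatum.negUnipotent ChevalleyDatum.group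
  apply Subgroup.closure_mono
  rintro g ⟨r, t, hr, hg⟩
  exact ⟨⟨r, hr.1⟩, t, by
    rw [hg]
    unfold ChevalleyDatum.x
    rw [dif_pos hr.1]⟩

theorem h8ree_eq_xU (D : ChevalleyDatum) (hB' : H8Base.{u} D) (g : GL D.Idx K) (r : ℕ) (t : K)
    (hg : (g : Matrix D.Idx D.Idx K) = D.x K r t) : g = h8xU D hB' r t := by
  apply Units.ext
  rw [hg, h8xU_val]

section
variable [CharP K 3] (R : H8Ree K hB)

theorem h8reeS_U (x : GL chevG2.Idx K) (hx : x ∈ chevG2.posUnipotent K) :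
    h8reeS R x ∈ chevG2.posUnipotent K := by
  unfold ChevalleyDatum.posUnipotent at hx
  refine h8reeS_closure R _ ?_ _ ?_ x hx
  · rintro g ⟨r, t, hr, hg⟩
    rw [h8ree_eq_xU chevG2 hB g r t hg]
    exact h8xU_mem_group chevG2 hB _ _
  · rintro g ⟨r, t, hr, hg⟩
    rw [h8ree_eq_xU chevG2 hB g r t hg, h8reeS_xU R r hr.1]
    unfold ChevalleyDatum.posUnipotent
    apply Subgroup.subset_closure
    exact ⟨h8reeRho r, _, (h8reeRho_pos r hr.1).1 hr, h8xU_val chevG2 hB _ _⟩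

theorem h8reeS_V (x : GL chevG2.Idx K) (hx : x ∈ chevG2.negUnipotent K) :
    h8reeS R x ∈ chevG2.negUnipotent K := by
  unfold ChevalleyDatum.negUnipotent at hx
  refine h8reeS_closure R _ ?_ _ ?_ x hx
  · rintro g ⟨r, t, hr, hg⟩
    rw [h8ree_eq_xU chevG2 hB g r t hg]
    exact h8xU_mem_group chevG2 hB _ _
  · rintro g ⟨r, t, hr, hg⟩
    rw [h8ree_eq_xU chevG2 hB g r t hg, h8reeS_xU R r hr.1]
    unfold ChevalleyDatum.negUnipotent
    apply Subgroup.subset_closure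
    exact ⟨h8reeRho r, _, (h8reeRho_pos r hr.1).2 hr, h8xU_val chevG2 hB _ _⟩

theorem h8reeS_H (x : GL chevG2.Idx K) (hx : x ∈ chevG2.diagonalSubgroup K) :
    h8reeS R x ∈ chevG2.diagonalSubgroup K := by
  unfold ChevalleyDatum.diagonalSubgroup at hx
  refine h8reeS_closure R _ ?_ _ ?_ x hx
  · rintro g ⟨r, t, hr, ht, hg⟩
    have : g = h8hU chevG2 hB r t := by
      apply Units.ext
      rw [hg, h8hU_val]
    rw [this]
    exact h8hU_mem_group chevG2 hB _ _
  · rintro g ⟨r, t, hr, ht, hg⟩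
    have : g = h8hU chevG2 hB r t := by
      apply Units.ext
      rw [hg, h8hU_val]
    rw [this, h8reeS_hU R r hr]
    exact h8hU_mem_H chevG2 hB _ (h8reeRho_lt r hr) _ (h8reeE_ne_zero R r t ht)

theorem h8reeS_N (x : GL chevG2.Idx K) (hx : x ∈ chevG2.monomialSubgroup K) :
    h8reeS R x ∈ chevG2.monomialSubgroup K := by
  unfold ChevalleyDatum.monomialSubgroup at hx
  rw [← Subgroup.closure_eq (chevG2.diagonalSubgroup K), ← Subgroup.closure_union] at hx
  refine h8reeS_closure R _ ?_ _ ?_ x hx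
  · rintro g (hg | ⟨r, hr, hg⟩)
    · exact h8_H_le_group chevG2 hB hg
    · have : g = h8nU chevG2 hB r 1 := by
        apply Units.ext
        rw [hg, h8nU_val]
      rw [this]
      exact h8nU_mem_group chevG2 hB _ _
  · rintro g (hg | ⟨r, hr, hg⟩)
    · exact h8H_le_N chevG2 (h8reeS_H R g hg)
    · have : g = h8nU chevG2 hB r 1 := by
        apply Units.ext
        rw [hg, h8nU_val]
      rw [this, h8reeS_nU R r hr, h8reeE_one]
      exact h8nU_mem_N chevG2 hB _ (h8reeRho_lt r hr)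

theorem h8reeS_Um (n : GL chevG2.Idx K) (hn : n ∈ chevG2.group K) (x : GL chevG2.Idx K)
    (hx : x ∈ Subgroup.closure (h8UmSet chevG2 K n)) :
    h8reeS R x ∈ Subgroup.closure (h8UmSet chevG2 K (h8reeS R n)) := by
  refine h8reeS_closure R _ ?_ _ ?_ x hx
  · rintro g ⟨r, t, hr, _, hg⟩
    rw [h8ree_eq_xU chevG2 hB g r t hg]
    exact h8xU_mem_group chevG2 hB _ _
  · rintro g ⟨r, t, hr, hle, hg⟩
    rw [h8ree_eq_xU chevG2 hB g r t hg, h8reeS_xU R r hr.1]
    apply Subgroup.subset_closure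
    refine ⟨h8reeRho r, _, (h8reeRho_pos r hr.1).1 hr, ?_, h8xU_val chevG2 hB _ _⟩
    unfold ChevalleyDatum.rootSubgroup
    rw [MonoidHom.map_closure, Subgroup.closure_le]
    rintro z ⟨y, ⟨s, hy⟩, rfl⟩
    have hy' : y = h8reeS R (h8xU chevG2 hB r (h8reeE R (h8reeRho r) s)) := by
      rw [h8reeS_xU R r hr.1, h8reeE_rho' R r hr.1]
      exact h8ree_eq_xU chevG2 hB y _ s hy
    have hxg := h8xU_mem_group chevG2 hB r (h8reeE R (h8reeRho r) s)
    have hconj : n * h8xU chevG2 hB r (h8reeE R (h8reeRho r) s) * n⁻¹ ∈ chevG2.negUnipotent K := by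
      apply hle
      exact ⟨_, h8xU_mem_rootSubgroup chevG2 hB r _, rfl⟩
    have := h8reeS_V R _ hconj
    rw [h8reeS_mul R _ _ (Subgroup.mul_mem _ hn hxg) (Subgroup.inv_mem _ hn),
      h8reeS_mul R _ _ hn hxg, h8reeS_inv R _ hn, ← hy'] at this
    exact this

/-- the Bruhat normal form of a fixed point of the Ree twist has fixed components -/
theorem h8ree_normal (hA : H8ReflAll chevG2) (hC : H8CommAll.{u} chevG2) (hBN : H8BN chevG2)
    (hW : H8BN2 chevG2) (hO : H8Ord chevG2) (g : GL chevG2.Idx K) (hg : g ∈ chevG2.group K)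
    (hfix : h8reeS R g = g) :
    ∃ u1 ∈ chevG2.posUnipotent K, ∃ m ∈ chevG2.monomialSubgroup K,
      ∃ u ∈ Subgroup.closure (h8UmSet chevG2 K m), g = u1 * m * u ∧
        h8reeS R u1 = u1 ∧ h8reeS R m = m ∧ h8reeS R u = u := by
  obtain ⟨b, hb, n, hn, u, hu, rfl⟩ := h8normal_exists chevG2 hB hA hC hBN hW hO g hg
  have hmemB : b ∈ ((chevG2.posUnipotent K ⊔ chevG2.diagonalSubgroup K :
      Subgroup (GL chevG2.Idx K)) : Set (GL chevG2.Idx K)) := hb
  rw [Subgroup.coe_mul_of_right_le_normalizer_left _ _ (h8_H_le_normalizer_U chevG2 hB)] at hmemB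
  obtain ⟨u1, hu1, t, ht, rfl⟩ := hmemB
  have hm : t * n * 1 ∈ chevG2.monomialSubgroup K :=
    Subgroup.mul_mem _ (Subgroup.mul_mem _ (h8H_le_N chevG2 ht) hn) (Subgroup.one_mem _)
  have hu' : u ∈ Subgroup.closure (h8UmSet chevG2 K (t * n * 1)) :=
    Subgroup.closure_mono (h8UmSet_mono_H chevG2 hB n t 1 ht (Subgroup.one_mem _)) hu
  have e : u1 * t * n * u = u1 * (t * n * 1) * u := by group
  rw [e] at hfix ⊢
  have hu1G := h8_U_le_group chevG2 hu1
  have hmG := h8_N_le_group chevG2 hB hm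
  have huG := h8_U_le_group chevG2 (h8Um_le_U chevG2 _ hu')
  rw [h8reeS_mul R _ _ (Subgroup.mul_mem _ hu1G hmG) huG, h8reeS_mul R _ _ hu1G hmG] at hfix
  obtain ⟨h1, h2, h3⟩ := h8normal_unique_strong chevG2 hB hA hC hBN _ u1 _ (t * n * 1) _ u
    (h8reeS_U R u1 hu1) hu1 (h8reeS_N R _ hm) hm (h8reeS_Um R _ hmG u hu') hu' hfix
  exact ⟨u1, hu1, t * n * 1, hm, u, hu', rfl, h2, h1, h3⟩

end

end Cfsg.Agent.Lib.helper8
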