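import Mathlib
import Cfsg.Prelude.Def_ChevStructure
import Cfsg.Agent.Lib.helper8.ChevWord

set_option autoImplicit false

namespace Cfsg.Agent.Lib.helper8

open Cfsg.Lie Cfsg.Lie.ChevalleyDatum

variable {F : Type*} [Field F]

namespace H8Poly

/-- all coefficients are divisible by `p` -/
def allZeroP (p : ℕ) (q : H8Poly) : Bool := q.all fun m => m.1 % (p : ℤ) == 0

/-- the polynomial vanishes modulo `p` -/
def isZeroP (p : ℕ) (q : H8Poly) : Bool := allZeroP p (norm q)

theorem ev_of_allZeroP (p : ℕ) [CharP F p] (a b : F) (q : H8Poly) (h : allZeroP p q = true) :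
    ev a b q = 0 := by
  induction q with
  | nil => rfl
  | cons m q ih =>
    unfold allZeroP at h
    rw [List.all_cons, Bool.and_eq_true] at h
    rw [ev_cons, ih h.2, add_zero]
    unfold mev
    have h1 : m.1 % (p : ℤ) = 0 := by simpa using h.1
    have : ((m.1 : ℤ) : F) = 0 := by
      rw [CharP.intCast_eq_zero_iff F p]
      exact Int.dvd_of_emod_eq_zero h1
    rw [this]
    simp

theorem ev_of_isZeroP (p : ℕ) [CharP F p] (a b : F) (q : H8Poly) (h : isZeroP p q = true) :
    ev a b q = 0 := by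
  rw [← ev_norm]
  exact ev_of_allZeroP p a b _ h

end H8Poly

/-- equality of sparse vectors modulo `p` -/
def h8vEqP (p : ℕ) (v w : H8SVec) : Bool :=
  (v ++ w).all fun e =>
    H8Poly.isZeroP p (H8Poly.add (h8coeffAt v e.1) (H8Poly.neg (h8coeffAt w e.1)))

theorem h8vEqP_sound (p : ℕ) [CharP F p] (D : ChevalleyDatum) (a b : F) (v w : H8SVec)
    (h : h8vEqP p v w = true) : h8vEval D a b v = h8vEval D a b w := by
  funext i
  rw [← h8ev_coeffAt, ← h8ev_coeffAt]
  unfold h8vEqP at h
  rw [List.all_eq_true] at h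
  by_cases hc : ∃ e ∈ v ++ w, e.1 = h8code D i
  · obtain ⟨e, he, hei⟩ := hc
    have := H8Poly.ev_of_isZeroP p a b _ (h e he)
    rw [H8Poly.ev_add, H8Poly.ev_neg, hei] at this
    exact sub_eq_zero.mp (by rw [sub_eq_add_neg]; exact this)
  · simp only [not_exists, not_and] at hc
    rw [h8coeffAt_eq_nil v _ (fun e he => hc e (List.mem_append_left _ he)),
      h8coeffAt_eq_nil w _ (fun e he => hc e (List.mem_append_right _ he))]

def h8wordEqColP (p : ℕ) (D : ChevalleyDatum) (w1 w2 : List (ℕ × H8Poly)) (c : ℕ) : Bool :=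
  h8vEqP p (h8wordAct D w1 [(c, H8Poly.const 1)]) (h8wordAct D w2 [(c, H8Poly.const 1)])

/-- equality of the matrices of two words modulo `p` -/
def h8wordEqP (p : ℕ) (D : ChevalleyDatum) (w1 w2 : List (ℕ × H8Poly)) : Bool :=
  (List.range (D.rank + D.nroots)).all fun c => h8wordEqColP p D w1 w2 c

theorem h8wordEqP_sound (p : ℕ) [CharP F p] (D : ChevalleyDatum) (a b : F) (ha : a ≠ 0)
    (hb : b ≠ 0) (w1 w2 : List (ℕ × H8Poly)) (h : h8wordEqP p D w1 w2 = true) :
    D.wordMat F (h8evWord a b w1) = D.wordMat F (h8evWord a b w2) := by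
  unfold h8wordEqP at h
  rw [List.all_eq_true] at h
  apply Matrix.ext_of_mulVec_single
  intro i
  have hi := h (h8code D i) (List.mem_range.mpr (h8code_lt D i))
  unfold h8wordEqColP at hi
  have := h8vEqP_sound p D a b _ _ hi
  rw [h8wordAct_sound D a b ha hb, h8wordAct_sound D a b ha hb] at this
  simp only [h8vEval_cons, h8vEval_nil, H8Poly.ev_const, Int.cast_one, one_smul, add_zero,
    h8bv_code] at this
  exact this

/-- an entry of the matrix of a word -/
theorem h8word_entry (D : ChevalleyDatum) (a b : F) (ha : a ≠ 0) (hb : b ≠ 0)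
    (w : List (ℕ × H8Poly)) (i j : D.Idx) :
    D.wordMat F (h8evWord a b w) i j =
      H8Poly.ev a b (h8coeffAt (h8wordAct D w [(h8code D j, H8Poly.const 1)]) (h8code D i)) := by
  rw [h8ev_coeffAt, h8wordAct_sound D a b ha hb]
  simp only [h8vEval_cons, h8vEval_nil, H8Poly.ev_const, Int.cast_one, one_smul, add_zero,
    h8bv_code]
  rw [Matrix.mulVec_single_one]
  rfl

end Cfsg.Agent.Lib.helper8
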