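import Mathlib
import Cfsg.Prelude.Def_ChevStructure
import Cfsg.Prelude.Def_ChevG2
import Cfsg.Agent.Lib.helper8.ChevRee1
import Cfsg.Agent.Lib.helper8.ChevCommBase
import Cfsg.Agent.Lib.helper8.ChevCommOrb
import Cfsg.Agent.Lib.helper8.ChevUnits
import Cfsg.Agent.Lib.helper8.ChevOrd

set_option autoImplicit false

namespace Cfsg.Agent.Lib.helper8

open Cfsg.Lie Cfsg.Lie.ChevalleyDatum

universe u

variable {K : Type u} [Field K]

/-- root elements commute when the constants of the commutator formula vanish in the field -/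
theorem h8comm_char (D : ChevalleyDatum) (hB : H8Base.{u} D) (hC : H8CommAll.{u} D) (r s : ℕ)
    (hr : r < D.nroots) (hs : s < D.nroots) (hsr : s ≠ r) (hsn : s ≠ D.negIdx.getD r 0)
    (h0 : ∀ c ∈ D.commTerms r s, ((c.2.1 : ℤ) : K) = 0) (t u : K) :
    Commute (h8xU D hB r t) (h8xU D hB s u) := by
  have h := hC.all r hr s hs hsr hsn K t u
  have hw : D.wordMat K (D.commWord K r s t u) = 1 := by
    apply h8wordMat_zero D hB
    intro p hp
    unfold ChevalleyDatum.commWord at hp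
    rw [List.mem_map] at hp
    obtain ⟨c, hc, rfl⟩ := hp
    simp only
    rw [h0 c hc, zero_mul, zero_mul]
  rw [hw, mul_one] at h
  show h8xU D hB r t * h8xU D hB s u = h8xU D hB s u * h8xU D hB r t
  apply Units.ext
  rw [Units.val_mul, Units.val_mul, h8xU_val, h8xU_val]
  exact h.symm

/-- pairs of roots of type G₂ whose root subgroups commute in characteristic 3 -/
theorem h8ree_commTab : ∀ r ∈ [8, 9, 10, 11], ∀ s ∈ [8, 9, 10, 11], s ≠ r →
    ∀ c ∈ chevG2.commTerms r s, c.2.1 % 3 = 0 := by decide +kernel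

theorem h8ree_commTab' : ∀ r ∈ [0, 1, 2, 3], ∀ s ∈ [0, 1, 2, 3], s ≠ r →
    ∀ c ∈ chevG2.commTerms r s, c.2.1 % 3 = 0 := by decide +kernel

theorem h8ree_comm_pos [CharP K 3] (hB : H8Base.{u} chevG2) (hC : H8CommAll.{u} chevG2)
    (r s : ℕ) (hr : r ∈ [8, 9, 10, 11]) (hs : s ∈ [8, 9, 10, 11]) (t u : K) :
    Commute (h8xU chevG2 hB r t) (h8xU chevG2 hB s u) := by
  by_cases hsr : s = r
  · subst hsr
    show h8xU chevG2 hB s t * h8xU chevG2 hB s u = h8xU chevG2 hB s u * h8xU chevG2 hB s t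
    have hs' : s < chevG2.nroots := by
      simp only [List.mem_cons, List.not_mem_nil, or_false] at hs
      rcases hs with rfl | rfl | rfl | rfl <;> decide
    rw [h8xU_add chevG2 hB s hs', h8xU_add chevG2 hB s hs', add_comm]
  · have hr' : r < chevG2.nroots ∧ s < chevG2.nroots ∧ s ≠ chevG2.negIdx.getD r 0 := by
      simp only [List.mem_cons, List.not_mem_nil, or_false] at hr hs
      rcases hr with rfl | rfl | rfl | rfl <;> rcases hs with rfl | rfl | rfl | rfl <;> decide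
    apply h8comm_char chevG2 hB hC r s hr'.1 hr'.2.1 hsr hr'.2.2
    intro c hc
    rw [CharP.intCast_eq_zero_iff K 3]
    exact Int.dvd_of_emod_eq_zero (h8ree_commTab r hr s hs hsr c hc)

theorem h8ree_comm_neg [CharP K 3] (hB : H8Base.{u} chevG2) (hC : H8CommAll.{u} chevG2)
    (r s : ℕ) (hr : r ∈ [0, 1, 2, 3]) (hs : s ∈ [0, 1, 2, 3]) (t u : K) :
    Commute (h8xU chevG2 hB r t) (h8xU chevG2 hB s u) := by
  by_cases hsr : s = r
  · subst hsr
    show h8xU chevG2 hB s t * h8xU chevG2 hB s u = h8xU chevG2 hB s u * h8xU chevG2 hB s t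
    have hs' : s < chevG2.nroots := by
      simp only [List.mem_cons, List.not_mem_nil, or_false] at hs
      rcases hs with rfl | rfl | rfl | rfl <;> decide
    rw [h8xU_add chevG2 hB s hs', h8xU_add chevG2 hB s hs', add_comm]
  · have hr' : r < chevG2.nroots ∧ s < chevG2.nroots ∧ s ≠ chevG2.negIdx.getD r 0 := by
      simp only [List.mem_cons, List.not_mem_nil, or_false] at hr hs
      rcases hr with rfl | rfl | rfl | rfl <;> rcases hs with rfl | rfl | rfl | rfl <;> decide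
    apply h8comm_char chevG2 hB hC r s hr'.1 hr'.2.1 hsr hr'.2.2
    intro c hc
    rw [CharP.intCast_eq_zero_iff K 3]
    exact Int.dvd_of_emod_eq_zero (h8ree_commTab' r hr s hs hsr c hc)

theorem h8ree_I1chk : h8wordEqP 3 chevG2
    [(6, [(1, 0, 1)]), (7, [(1, 1, 0)]), (10, [(1, 3, 1)]), (11, [(1, 3, 2)])]
    [(7, [(1, 1, 0)]), (6, [(1, 0, 1)]), (8, [(1, 1, 1)]), (9, [(1, 2, 1)])] = true := by
  decide +kernel

theorem h8ree_I1chk' : h8wordEqP 3 chevG2
    [(5, [(-1, 0, 1)]), (4, [(-1, 1, 0)]), (1, [(-1, 3, 1)]), (0, [(-1, 3, 2)])]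
    [(4, [(-1, 1, 0)]), (5, [(-1, 0, 1)]), (3, [(-1, 1, 1)]), (2, [(-1, 2, 1)])] = true := by
  decide +kernel

theorem h8ree_I1 [CharP K 3] (hB : H8Base.{u} chevG2) (a b : K) (ha : a ≠ 0) (hb : b ≠ 0) :
    h8xU chevG2 hB 6 b * h8xU chevG2 hB 7 a * h8xU chevG2 hB 10 (b * a ^ 3) *
        h8xU chevG2 hB 11 (b ^ 2 * a ^ 3) =
      h8xU chevG2 hB 7 a * h8xU chevG2 hB 6 b * h8xU chevG2 hB 8 (a * b) *
        h8xU chevG2 hB 9 (a ^ 2 * b) := by
  have h := h8wordEqP_sound 3 chevG2 a b ha hb _ _ h8ree_I1chk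
  apply Units.ext
  simp only [Units.val_mul, h8xU_val]
  simp only [h8evWord, List.map_cons, List.map_nil, H8Poly.ev, H8Poly.mev, List.sum_cons,
    List.sum_nil, add_zero, Int.cast_one, one_mul, zpow_zero, zpow_one, mul_one,
    h8wordMat_cons, h8wordMat_nil] at h
  have e3 : a ^ (3 : ℤ) = a ^ 3 := by norm_cast
  have e2 : a ^ (2 : ℤ) = a ^ 2 := by norm_cast
  have e2' : b ^ (2 : ℤ) = b ^ 2 := by norm_cast
  rw [e3, e2, e2'] at h
  rw [mul_comm (a ^ 3) b, mul_comm (a ^ 3) (b ^ 2)] at h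
  simpa [Matrix.mul_assoc] using h

theorem h8ree_I1' [CharP K 3] (hB : H8Base.{u} chevG2) (a b : K) (ha : a ≠ 0) (hb : b ≠ 0) :
    h8xU chevG2 hB 5 (-b) * h8xU chevG2 hB 4 (-a) * h8xU chevG2 hB 1 (-(b * a ^ 3)) *
        h8xU chevG2 hB 0 (-(b ^ 2 * a ^ 3)) =
      h8xU chevG2 hB 4 (-a) * h8xU chevG2 hB 5 (-b) * h8xU chevG2 hB 3 (-(a * b)) *
        h8xU chevG2 hB 2 (-(a ^ 2 * b)) := by
  have h := h8wordEqP_sound 3 chevG2 a b ha hb _ _ h8ree_I1chk'
  apply Units.ext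
  simp only [Units.val_mul, h8xU_val]
  simp only [h8evWord, List.map_cons, List.map_nil, H8Poly.ev, H8Poly.mev, List.sum_cons,
    List.sum_nil, add_zero, Int.cast_one, Int.cast_neg, neg_mul, one_mul, zpow_zero, zpow_one,
    mul_one, h8wordMat_cons, h8wordMat_nil] at h
  have e3 : a ^ (3 : ℤ) = a ^ 3 := by norm_cast
  have e2 : a ^ (2 : ℤ) = a ^ 2 := by norm_cast
  have e2' : b ^ (2 : ℤ) = b ^ 2 := by norm_cast
  rw [e3, e2, e2'] at h
  rw [mul_comm (a ^ 3) b, mul_comm (a ^ 3) (b ^ 2)] at h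
  simpa [Matrix.mul_assoc] using h

end Cfsg.Agent.Lib.helper8
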