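import Mathlib
import Cfsg.Prelude.Def_ChevStructure
import Cfsg.Prelude.Def_ChevG2
import Cfsg.Prelude.Def_LieTwisted
import Cfsg.Agent.Lib.helper8.ChevRee5
import Cfsg.Agent.Lib.helper8.ChevRee6

set_option autoImplicit false

namespace Cfsg.Agent.Lib.helper8

open Cfsg.Lie Cfsg.Lie.ChevalleyDatum

universe u

variable {K : Type u} [Field K] {hB : H8Base.{u} chevG2}

theorem h8xU_zero' (D : ChevalleyDatum) (hB' : H8Base.{u} D) (r : ℕ) :
    h8xU D hB' r (0 : K) = 1 := by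
  apply Units.ext
  rw [h8xU_val, hB'.zero]
  rfl

theorem h8reeE_short (R : H8Ree K hB) (r : ℕ) (hr : r ∈ [2, 3, 4, 7, 8, 9]) (s : K) :
    h8reeE R r s = (R.f s) ^ 3 := by
  simp only [List.mem_cons, List.not_mem_nil, or_false] at hr
  rcases hr with rfl | rfl | rfl | rfl | rfl | rfl <;> rfl

theorem h8reeE_long (R : H8Ree K hB) (r : ℕ) (hr : r ∈ [0, 1, 5, 6, 10, 11]) (s : K) :
    h8reeE R r s = R.f s := by
  simp only [List.mem_cons, List.not_mem_nil, or_false] at hr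
  rcases hr with rfl | rfl | rfl | rfl | rfl | rfl <;> exact pow_one _

section
variable [CharP K 3] (R : H8Ree K hB) (hC : H8CommAll.{u} chevG2)

theorem h8reeS_mul4 (a b c d : GL chevG2.Idx K) (ha : a ∈ chevG2.group K)
    (hb : b ∈ chevG2.group K) (hc : c ∈ chevG2.group K) (hd : d ∈ chevG2.group K) :
    h8reeS R (a * b * c * d) = h8reeS R a * h8reeS R b * h8reeS R c * h8reeS R d := by
  rw [h8reeS_mul R _ _ (Subgroup.mul_mem _ (Subgroup.mul_mem _ ha hb) hc) hd,
    h8reeS_mul R _ _ (Subgroup.mul_mem _ ha hb) hc, h8reeS_mul R _ _ ha hb]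

/-- the first factor of a fixed element of `U` -/
def h8reeW1 (R : H8Ree K hB) (ε : K) (r1 r2 r3 r4 : ℕ) (t : K) : GL chevG2.Idx K :=
  h8xU chevG2 hB r1 (ε * R.f t) * h8xU chevG2 hB r2 (ε * t) *
    h8xU chevG2 hB r3 (ε * (R.f t * t)) * h8xU chevG2 hB r4 (ε * ((R.f t) ^ 2 * t))

/-- the second factor of a fixed element of `U` -/
def h8reeP (R : H8Ree K hB) (ε : K) (r3 r4 r5 r6 : ℕ) (u v : K) : GL chevG2.Idx K :=
  h8xU chevG2 hB r3 (ε * R.f u) * h8xU chevG2 hB r4 (ε * R.f v) *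
    h8xU chevG2 hB r5 (ε * u) * h8xU chevG2 hB r6 (ε * v)

theorem h8reeW1_fix (t : K) : h8reeS R (h8reeW1 R 1 7 6 8 9 t) = h8reeW1 R 1 7 6 8 9 t := by
  unfold h8reeW1
  simp only [one_mul]
  rw [h8reeS_mul4 R _ _ _ _ (h8xU_mem_group chevG2 hB _ _) (h8xU_mem_group chevG2 hB _ _)
    (h8xU_mem_group chevG2 hB _ _) (h8xU_mem_group chevG2 hB _ _),
    h8reeS_xU R 7 (by decide), h8reeS_xU R 6 (by decide), h8reeS_xU R 8 (by decide),
    h8reeS_xU R 9 (by decide), h8reeE_short R 7 (by decide), h8reeE_long R 6 (by decide),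
    h8reeE_short R 8 (by decide), h8reeE_short R 9 (by decide)]
  have h7 : h8reeRho 7 = 6 := rfl
  have h6 : h8reeRho 6 = 7 := rfl
  have h8 : h8reeRho 8 = 10 := rfl
  have h9 : h8reeRho 9 = 11 := rfl
  rw [h7, h6, h8, h9, R.hf, map_mul, map_mul, map_pow, mul_pow, mul_pow, R.hf, ← pow_mul]
  by_cases ht : t = 0
  · subst ht
    simp [h8xU_zero']
  · have hft : R.f t ≠ 0 := (map_ne_zero R.f).2 ht
    have := h8ree_I1 hB (R.f t) t hft ht
    have e1 : (R.f (R.f t)) ^ (2 * 3) = t ^ 2 := by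
      rw [mul_comm, pow_mul, R.hf]
    rw [e1]
    exact this

theorem h8reeW1_fix' (t : K) :
    h8reeS R (h8reeW1 R (-1) 4 5 3 2 t) = h8reeW1 R (-1) 4 5 3 2 t := by
  unfold h8reeW1
  simp only [neg_one_mul]
  rw [h8reeS_mul4 R _ _ _ _ (h8xU_mem_group chevG2 hB _ _) (h8xU_mem_group chevG2 hB _ _)
    (h8xU_mem_group chevG2 hB _ _) (h8xU_mem_group chevG2 hB _ _),
    h8reeS_xU R 4 (by decide), h8reeS_xU R 5 (by decide), h8reeS_xU R 3 (by decide),
    h8reeS_xU R 2 (by decide), h8reeE_short R 4 (by decide), h8reeE_long R 5 (by decide),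
    h8reeE_short R 3 (by decide), h8reeE_short R 2 (by decide)]
  have h4 : h8reeRho 4 = 5 := rfl
  have h5 : h8reeRho 5 = 4 := rfl
  have h3 : h8reeRho 3 = 1 := rfl
  have h2 : h8reeRho 2 = 0 := rfl
  have hodd : ∀ x : K, (-x) ^ 3 = -(x ^ 3) := fun x => by ring
  rw [h4, h5, h3, h2, map_neg, map_neg, map_neg, map_neg, hodd, hodd, hodd, R.hf, map_mul,
    map_mul, map_pow, mul_pow, mul_pow, R.hf, ← pow_mul]
  by_cases ht : t = 0
  · subst ht
    simp [h8xU_zero']
  · have hft : R.f t ≠ 0 := (map_ne_zero R.f).2 ht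
    have := h8ree_I1' hB (R.f t) t hft ht
    have e1 : (R.f (R.f t)) ^ (2 * 3) = t ^ 2 := by
      rw [mul_comm, pow_mul, R.hf]
    rw [e1]
    exact this

theorem h8comm4 {G : Type*} [Group G] (a b c d : G) (hac : Commute a c) (had : Commute a d)
    (hbc : Commute b c) (hbd : Commute b d) : a * b * c * d = c * d * a * b := by
  have h1 : Commute (a * b) (c * d) := (hac.mul_left hbc).mul_right (had.mul_left hbd)
  calc a * b * c * d = (a * b) * (c * d) := by group
    _ = (c * d) * (a * b) := h1.eq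
    _ = c * d * a * b := by group

include hC in
theorem h8reeP_fix (u v : K) :
    h8reeS R (h8reeP R 1 8 9 10 11 u v) = h8reeP R 1 8 9 10 11 u v := by
  unfold h8reeP
  simp only [one_mul]
  rw [h8reeS_mul4 R _ _ _ _ (h8xU_mem_group chevG2 hB _ _) (h8xU_mem_group chevG2 hB _ _)
    (h8xU_mem_group chevG2 hB _ _) (h8xU_mem_group chevG2 hB _ _),
    h8reeS_xU R 8 (by decide), h8reeS_xU R 9 (by decide), h8reeS_xU R 10 (by decide),
    h8reeS_xU R 11 (by decide), h8reeE_short R 8 (by decide), h8reeE_short R 9 (by decide),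
    h8reeE_long R 10 (by decide), h8reeE_long R 11 (by decide)]
  have h8 : h8reeRho 8 = 10 := rfl
  have h9 : h8reeRho 9 = 11 := rfl
  have h10 : h8reeRho 10 = 8 := rfl
  have h11 : h8reeRho 11 = 9 := rfl
  rw [h8, h9, h10, h11, R.hf, R.hf]
  exact h8comm4 _ _ _ _ (h8ree_comm_pos hB hC _ _ (by decide) (by decide) _ _)
    (h8ree_comm_pos hB hC _ _ (by decide) (by decide) _ _)
    (h8ree_comm_pos hB hC _ _ (by decide) (by decide) _ _)
    (h8ree_comm_pos hB hC _ _ (by decide) (by decide) _ _)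

include hC in
theorem h8reeP_fix' (u v : K) :
    h8reeS R (h8reeP R (-1) 3 2 1 0 u v) = h8reeP R (-1) 3 2 1 0 u v := by
  unfold h8reeP
  simp only [neg_one_mul]
  rw [h8reeS_mul4 R _ _ _ _ (h8xU_mem_group chevG2 hB _ _) (h8xU_mem_group chevG2 hB _ _)
    (h8xU_mem_group chevG2 hB _ _) (h8xU_mem_group chevG2 hB _ _),
    h8reeS_xU R 3 (by decide), h8reeS_xU R 2 (by decide), h8reeS_xU R 1 (by decide),
    h8reeS_xU R 0 (by decide), h8reeE_short R 3 (by decide), h8reeE_short R 2 (by decide),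
    h8reeE_long R 1 (by decide), h8reeE_long R 0 (by decide)]
  have h3 : h8reeRho 3 = 1 := rfl
  have h2 : h8reeRho 2 = 0 := rfl
  have h1 : h8reeRho 1 = 3 := rfl
  have h0 : h8reeRho 0 = 2 := rfl
  have hodd : ∀ x : K, (-x) ^ 3 = -(x ^ 3) := fun x => by ring
  rw [h3, h2, h1, h0, map_neg, map_neg, map_neg, map_neg, hodd, hodd, R.hf, R.hf]
  exact h8comm4 _ _ _ _ (h8ree_comm_neg hB hC _ _ (by decide) (by decide) _ _)
    (h8ree_comm_neg hB hC _ _ (by decide) (by decide) _ _)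
    (h8ree_comm_neg hB hC _ _ (by decide) (by decide) _ _)
    (h8ree_comm_neg hB hC _ _ (by decide) (by decide) _ _)

theorem h8ree_split {G : Type*} [Group G] (p q a a' b b' c d : G) (h : Commute a' b) :
    p * (q * (a * a' * (b * b' * (c * (d * 1))))) = p * q * a * b * (a' * b' * c * d) := by
  calc p * (q * (a * a' * (b * b' * (c * (d * 1)))))
      = p * q * a * (a' * b) * b' * c * d := by group
    _ = p * q * a * (b * a') * b' * c * d := by rw [h.eq]
    _ = p * q * a * b * (a' * b' * c * d) := by group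

include hC in
/-- a word of the first kind is a product of the two factors -/
theorem h8reeWordU_eq (e : ℕ) (hfe : ∀ t : K, R.f t = t ^ e) (t u v : K) :
    h8wordU chevG2 hB (reeWordU e t u v) =
      h8reeW1 R 1 7 6 8 9 t * h8reeP R 1 8 9 10 11 u v := by
  unfold reeWordU g2a g2b g2ab g2aab g2aaab g2aaabb h8reeW1 h8reeP
  simp only [h8wordU_cons, one_mul]
  have e0 : h8wordU chevG2 hB ([] : List (ℕ × K)) = 1 := rfl
  have e1 : t ^ (e + 1) = R.f t * t := by rw [pow_succ, hfe]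
  have e2 : t ^ (2 * e + 1) = R.f t ^ 2 * t := by rw [pow_succ, pow_mul', hfe]
  rw [e0, e1, e2, ← hfe t, ← hfe u, ← hfe v,
    ← h8xU_add chevG2 hB 8 (by decide), ← h8xU_add chevG2 hB 9 (by decide)]
  exact h8ree_split _ _ _ _ _ _ _ _ (h8ree_comm_pos hB hC _ _ (by decide) (by decide) _ _)

include hC in
/-- a word of the second kind is a product of the two factors -/
theorem h8reeWordV_eq (e : ℕ) (hfe : ∀ t : K, R.f t = t ^ e) (t u v : K) :
    h8wordU chevG2 hB (reeWordV e t u v) =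
      h8reeW1 R (-1) 4 5 3 2 t * h8reeP R (-1) 3 2 1 0 u v := by
  unfold reeWordV ChevalleyDatum.negWord reeWordU g2a g2b g2ab g2aab g2aaab g2aaabb h8reeW1
    h8reeP
  simp only [List.map_cons, List.map_nil, h8wordU_cons, neg_one_mul]
  have e0 : h8wordU chevG2 hB ([] : List (ℕ × K)) = 1 := rfl
  have e1 : t ^ (e + 1) = R.f t * t := by rw [pow_succ, hfe]
  have e2 : t ^ (2 * e + 1) = R.f t ^ 2 * t := by rw [pow_succ, pow_mul', hfe]
  have n7 : chevG2.negIdx.getD 7 0 = 4 := rfl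
  have n6 : chevG2.negIdx.getD 6 0 = 5 := rfl
  have n8 : chevG2.negIdx.getD 8 0 = 3 := rfl
  have n9 : chevG2.negIdx.getD 9 0 = 2 := rfl
  have n10 : chevG2.negIdx.getD 10 0 = 1 := rfl
  have n11 : chevG2.negIdx.getD 11 0 = 0 := rfl
  rw [e0, e1, e2, ← hfe t, ← hfe u, ← hfe v, n7, n6, n8, n9, n10, n11, neg_add, neg_add,
    ← h8xU_add chevG2 hB 3 (by decide), ← h8xU_add chevG2 hB 2 (by decide)]
  exact h8ree_split _ _ _ _ _ _ _ _ (h8ree_comm_neg hB hC _ _ (by decide) (by decide) _ _)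

include hC in
/-- the Ree group consists of fixed points of the Ree twist -/
theorem h8ree_G1_fix (e : ℕ) (hfe : ∀ t : K, R.f t = t ^ e) (g : GL chevG2.Idx K)
    (hg : g ∈ twistedG2 K e) : g ∈ chevG2.group K ∧ h8reeS R g = g := by
  unfold twistedG2 ChevalleyDatum.genSubgroup at hg
  have hgens : ∀ x ∈ {g : GL chevG2.Idx K | ∃ w ∈ g2Words K e,
      (g : Matrix chevG2.Idx chevG2.Idx K) = chevG2.wordMat K w},
      x ∈ chevG2.group K ∧ h8reeS R x = x := by
    rintro x ⟨w, ⟨t, u, v, hw⟩, hx⟩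
    have hxw : x = h8wordU chevG2 hB w := by
      apply Units.ext
      rw [hx, h8wordU_val]
    refine ⟨hxw ▸ h8wordU_mem_group chevG2 hB w, ?_⟩
    rw [hxw]
    rcases hw with rfl | rfl
    · rw [h8reeWordU_eq R hC e hfe]
      have h1 : h8reeW1 R 1 7 6 8 9 t ∈ chevG2.group K := by
        unfold h8reeW1
        exact Subgroup.mul_mem _ (Subgroup.mul_mem _ (Subgroup.mul_mem _
          (h8xU_mem_group chevG2 hB _ _) (h8xU_mem_group chevG2 hB _ _))
          (h8xU_mem_group chevG2 hB _ _)) (h8xU_mem_group chevG2 hB _ _)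
      have h2 : h8reeP R 1 8 9 10 11 u v ∈ chevG2.group K := by
        unfold h8reeP
        exact Subgroup.mul_mem _ (Subgroup.mul_mem _ (Subgroup.mul_mem _
          (h8xU_mem_group chevG2 hB _ _) (h8xU_mem_group chevG2 hB _ _))
          (h8xU_mem_group chevG2 hB _ _)) (h8xU_mem_group chevG2 hB _ _)
      rw [h8reeS_mul R _ _ h1 h2, h8reeW1_fix R, h8reeP_fix R hC]
    · rw [h8reeWordV_eq R hC e hfe]
      have h1 : h8reeW1 R (-1) 4 5 3 2 t ∈ chevG2.group K := by
        unfold h8reeW1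
        exact Subgroup.mul_mem _ (Subgroup.mul_mem _ (Subgroup.mul_mem _
          (h8xU_mem_group chevG2 hB _ _) (h8xU_mem_group chevG2 hB _ _))
          (h8xU_mem_group chevG2 hB _ _)) (h8xU_mem_group chevG2 hB _ _)
      have h2 : h8reeP R (-1) 3 2 1 0 u v ∈ chevG2.group K := by
        unfold h8reeP
        exact Subgroup.mul_mem _ (Subgroup.mul_mem _ (Subgroup.mul_mem _
          (h8xU_mem_group chevG2 hB _ _) (h8xU_mem_group chevG2 hB _ _))
          (h8xU_mem_group chevG2 hB _ _)) (h8xU_mem_group chevG2 hB _ _)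
      rw [h8reeS_mul R _ _ h1 h2, h8reeW1_fix' R, h8reeP_fix' R hC]
  induction hg using Subgroup.closure_induction with
  | mem x hx => exact hgens x hx
  | one => exact ⟨Subgroup.one_mem _, h8reeS_one R⟩
  | mul x y _ _ ihx ihy =>
    exact ⟨Subgroup.mul_mem _ ihx.1 ihy.1, by rw [h8reeS_mul R x y ihx.1 ihy.1, ihx.2, ihy.2]⟩
  | inv x _ ih =>
    exact ⟨Subgroup.inv_mem _ ih.1, by rw [h8reeS_inv R x ih.1, ih.2]⟩

end

end Cfsg.Agent.Lib.helper8
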