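import Mathlib
import Cfsg.Prelude.Def_ChevStructure
import Cfsg.Prelude.Def_ChevF4
import Cfsg.Agent.Lib.helper8.ChevGaF4
import Cfsg.Agent.Lib.helper8.ChevGa3
import Cfsg.Agent.Lib.helper8.ChevTits5

set_option autoImplicit false

namespace Cfsg.Agent.Lib.helper8

open Cfsg.Lie Cfsg.Lie.ChevalleyDatum

universe u

variable {F : Type u} [Field F]

/-- the matrix of the special isogeny over a field -/
def h8gaQm_F4 (F : Type u) [Field F] : Matrix chevF4.Idx chevF4.Idx F :=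
  h8pmMat (h8enc chevF4.rank chevF4.nroots) (h8enc chevF4.rank chevF4.nroots) h8gaQ_F4 (0 : F)

theorem h8gaF4_rel0 [CharP F 2] (t : F) :
    chevF4.x F 24 (t ^ 2) * h8gaQm_F4 F = h8gaQm_F4 F * chevF4.x F 33 t :=
  h8ga_rel 2 chevF4 h8gaQ_F4 h8gaF4_len h8gaF4_const 33 24 (by decide) (by decide) 1 h8gaF4_chk0 t

theorem h8gaF4_rel1 [CharP F 2] (t : F) :
    chevF4.x F 25 (t ^ 2) * h8gaQm_F4 F = h8gaQm_F4 F * chevF4.x F 27 t :=
  h8ga_rel 2 chevF4 h8gaQ_F4 h8gaF4_len h8gaF4_const 27 25 (by decide) (by decide) 1 h8gaF4_chk1 t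

theorem h8gaF4_rel2 [CharP F 2] (t : F) :
    chevF4.x F 27 t * h8gaQm_F4 F = h8gaQm_F4 F * chevF4.x F 25 t := by
  have := h8ga_rel 2 chevF4 h8gaQ_F4 h8gaF4_len h8gaF4_const 25 27 (by decide) (by decide) 0
    h8gaF4_chk2 t
  rwa [zero_add, pow_one] at this

theorem h8gaF4_rel3 [CharP F 2] (t : F) :
    chevF4.x F 33 t * h8gaQm_F4 F = h8gaQm_F4 F * chevF4.x F 24 t := by
  have := h8ga_rel 2 chevF4 h8gaQ_F4 h8gaF4_len h8gaF4_const 24 33 (by decide) (by decide) 0
    h8gaF4_chk3 t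
  rwa [zero_add, pow_one] at this

theorem h8gaF4_rel4 [CharP F 2] (t : F) :
    chevF4.x F 23 (t ^ 2) * h8gaQm_F4 F = h8gaQm_F4 F * chevF4.x F 14 t :=
  h8ga_rel 2 chevF4 h8gaQ_F4 h8gaF4_len h8gaF4_const 14 23 (by decide) (by decide) 1 h8gaF4_chk4 t

theorem h8gaF4_rel5 [CharP F 2] (t : F) :
    chevF4.x F 22 (t ^ 2) * h8gaQm_F4 F = h8gaQm_F4 F * chevF4.x F 20 t :=
  h8ga_rel 2 chevF4 h8gaQ_F4 h8gaF4_len h8gaF4_const 20 22 (by decide) (by decide) 1 h8gaF4_chk5 t

theorem h8gaF4_rel6 [CharP F 2] (t : F) :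
    chevF4.x F 20 t * h8gaQm_F4 F = h8gaQm_F4 F * chevF4.x F 22 t := by
  have := h8ga_rel 2 chevF4 h8gaQ_F4 h8gaF4_len h8gaF4_const 22 20 (by decide) (by decide) 0
    h8gaF4_chk6 t
  rwa [zero_add, pow_one] at this

theorem h8gaF4_rel7 [CharP F 2] (t : F) :
    chevF4.x F 14 t * h8gaQm_F4 F = h8gaQm_F4 F * chevF4.x F 23 t := by
  have := h8ga_rel 2 chevF4 h8gaQ_F4 h8gaF4_len h8gaF4_const 23 14 (by decide) (by decide) 0
    h8gaF4_chk7 t
  rwa [zero_add, pow_one] at this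

/-- the exceptional graph automorphism of type F₄ in characteristic 2 -/
theorem h8gaF4_main [CharP F 2] (hperf : ∀ x : F, ∃ y : F, y ^ 2 = x) :
    ∃ α : ↥(chevF4.group F) ≃* ↥(chevF4.group F), ∀ g g' : ↥(chevF4.group F),
      (g'.val : Matrix chevF4.Idx chevF4.Idx F) * h8gaQm_F4 F =
        h8gaQm_F4 F * (g.val : Matrix chevF4.Idx chevF4.Idx F) → α g = g' := by
  have hD : chevF4 ∈ [chevG2, chevB2, chevD4, chevF4, chevE6, chevE7, chevE8] := by simp
  have hB := h8base_all.{u} chevF4 hD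
  have hA := h8reflAll chevF4 hD
  have hBN := h8bn_all chevF4 hD
  have hsimple : IsSimpleGroup ↥(chevF4.group F) :=
    (h8simple_main chevF4 hD (fun h => by
      exfalso
      rcases h with h | h
      · exact absurd (congrArg ChevalleyDatum.rank h) (by decide)
      · exact absurd (congrArg ChevalleyDatum.rank h) (by decide))).1
  have hs0 : chevF4.simple 0 = 33 := by decide
  have hs1 : chevF4.simple 1 = 27 := by decide
  have hs2 : chevF4.simple 2 = 25 := by decide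
  have hs3 : chevF4.simple 3 = 24 := by decide
  have hn0 : chevF4.negIdx.getD 33 0 = 14 := by decide
  have hn1 : chevF4.negIdx.getD 27 0 = 20 := by decide
  have hn2 : chevF4.negIdx.getD 25 0 = 22 := by decide
  have hn3 : chevF4.negIdx.getD 24 0 = 23 := by decide
  have hrk : chevF4.rank = 4 := rfl
  refine h8ga_datum chevF4 hB hA hBN (h8gaQm_F4 F) (fun j => 3 - j)
    (fun j => if j < 2 then 2 else 1) ?_ ?_ ?_ ?_ ?_ ?_
  · intro i hi
    rw [hrk] at hi
    interval_cases i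
    · exact ⟨3, by decide, rfl⟩
    · exact ⟨2, by decide, rfl⟩
    · exact ⟨1, by decide, rfl⟩
    · exact ⟨0, by decide, rfl⟩
  · intro j hj x
    rw [hrk] at hj
    interval_cases j
    · exact hperf x
    · exact hperf x
    · exact ⟨x, by simp⟩
    · exact ⟨x, by simp⟩
  · intro j hj t
    rw [hrk] at hj
    interval_cases j
    · simp only [hs0, hs3, Nat.sub_zero, Nat.ofNat_pos, if_true]
      exact h8gaF4_rel0 t
    · simp only [hs1, hs2, Nat.add_one_sub_one, Nat.one_lt_ofNat, if_true]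
      exact h8gaF4_rel1 t
    · simp only [hs1, hs2, Nat.add_one_sub_one, lt_self_iff_false, if_false, pow_one]
      exact h8gaF4_rel2 t
    · have e : ¬ (3 < 2) := by decide
      simp only [hs0, hs3, Nat.sub_self, e, if_false, pow_one]
      exact h8gaF4_rel3 t
  · intro j hj t
    rw [hrk] at hj
    interval_cases j
    · simp only [hs0, hs3, hn0, hn3, Nat.sub_zero, Nat.ofNat_pos, if_true]
      exact h8gaF4_rel4 t
    · simp only [hs1, hs2, hn1, hn2, Nat.add_one_sub_one, Nat.one_lt_ofNat, if_true]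
      exact h8gaF4_rel5 t
    · simp only [hs1, hs2, hn1, hn2, Nat.add_one_sub_one, lt_self_iff_false, if_false, pow_one]
      exact h8gaF4_rel6 t
    · have e : ¬ (3 < 2) := by decide
      simp only [hs0, hs3, hn0, hn3, Nat.sub_self, e, if_false, pow_one]
      exact h8gaF4_rel7 t
  · refine ⟨⟨h8xU chevF4 hB 33 1, h8xU_mem_group chevF4 hB _ _⟩, fun h => ?_⟩
    have h1 := congrFun (congrFun h (Sum.inl ⟨0, by decide⟩)) (Sum.inr ⟨23, by decide⟩)
    unfold h8gaQm_F4 at h1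
    rw [h8xU_val, h8ga_entryL chevF4 h8gaQ_F4 h8gaF4_len h8gaF4_const 33 (by decide),
      h8ga_entryQ] at h1
    have e1 : h8enc chevF4.rank chevF4.nroots (Sum.inl ⟨0, by decide⟩) = 0 := rfl
    have e2 : h8enc chevF4.rank chevF4.nroots (Sum.inr ⟨23, by decide⟩) = 27 := rfl
    rw [e1, e2, h8gaF4_w1.1, h8gaF4_w1.2.2] at h1
    simp [h8pEval] at h1
  · refine ⟨⟨h8xU chevF4 hB 24 1, h8xU_mem_group chevF4 hB _ _⟩, fun h => ?_⟩
    have h1 := congrFun (congrFun h (Sum.inl ⟨0, by decide⟩)) (Sum.inr ⟨23, by decide⟩)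
    unfold h8gaQm_F4 at h1
    rw [h8xU_val, h8ga_entryR chevF4 h8gaQ_F4 h8gaF4_const 24 (by decide),
      h8ga_entryQ] at h1
    have e1 : h8enc chevF4.rank chevF4.nroots (Sum.inl ⟨0, by decide⟩) = 0 := rfl
    have e2 : h8enc chevF4.rank chevF4.nroots (Sum.inr ⟨23, by decide⟩) = 27 := rfl
    rw [e1, e2, h8gaF4_w1.2.1, h8gaF4_w1.2.2] at h1
    simp [h8pEval] at h1

end Cfsg.Agent.Lib.helper8
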