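import Mathlib
import Cfsg.Prelude.Def_ChevStructure
import Cfsg.Prelude.Def_ChevF4
import Cfsg.Agent.Lib.helper8.ChevGaF4b

set_option autoImplicit false

namespace Cfsg.Agent.Lib.helper8

open Cfsg.Lie Cfsg.Lie.ChevalleyDatum

theorem h8tf_chk0 : h8pmEqBp 2 (chevF4.rank + chevF4.nroots) (chevF4.rank + chevF4.nroots)
    (h8pmMul (h8pmSpread 0 (h8xP chevF4 3)) h8gaQ_F4) (h8pmMul h8gaQ_F4 (h8xP chevF4 0)) = true := by
  decide +kernel

theorem h8tf_chk1 : h8pmEqBp 2 (chevF4.rank + chevF4.nroots) (chevF4.rank + chevF4.nroots)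
    (h8pmMul (h8pmSpread 0 (h8xP chevF4 7)) h8gaQ_F4) (h8pmMul h8gaQ_F4 (h8xP chevF4 1)) = true := by
  decide +kernel

theorem h8tf_chk2 : h8pmEqBp 2 (chevF4.rank + chevF4.nroots) (chevF4.rank + chevF4.nroots)
    (h8pmMul (h8pmSpread 0 (h8xP chevF4 8)) h8gaQ_F4) (h8pmMul h8gaQ_F4 (h8xP chevF4 2)) = true := by
  decide +kernel

theorem h8tf_chk3 : h8pmEqBp 2 (chevF4.rank + chevF4.nroots) (chevF4.rank + chevF4.nroots)
    (h8pmMul (h8pmSpread 1 (h8xP chevF4 0)) h8gaQ_F4) (h8pmMul h8gaQ_F4 (h8xP chevF4 3)) = true := by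
  decide +kernel

theorem h8tf_chk4 : h8pmEqBp 2 (chevF4.rank + chevF4.nroots) (chevF4.rank + chevF4.nroots)
    (h8pmMul (h8pmSpread 0 (h8xP chevF4 9)) h8gaQ_F4) (h8pmMul h8gaQ_F4 (h8xP chevF4 4)) = true := by
  decide +kernel

theorem h8tf_chk5 : h8pmEqBp 2 (chevF4.rank + chevF4.nroots) (chevF4.rank + chevF4.nroots)
    (h8pmMul (h8pmSpread 0 (h8xP chevF4 11)) h8gaQ_F4) (h8pmMul h8gaQ_F4 (h8xP chevF4 5)) = true := by
  decide +kernel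

theorem h8tf_chk6 : h8pmEqBp 2 (chevF4.rank + chevF4.nroots) (chevF4.rank + chevF4.nroots)
    (h8pmMul (h8pmSpread 0 (h8xP chevF4 18)) h8gaQ_F4) (h8pmMul h8gaQ_F4 (h8xP chevF4 6)) = true := by
  decide +kernel

theorem h8tf_chk7 : h8pmEqBp 2 (chevF4.rank + chevF4.nroots) (chevF4.rank + chevF4.nroots)
    (h8pmMul (h8pmSpread 1 (h8xP chevF4 1)) h8gaQ_F4) (h8pmMul h8gaQ_F4 (h8xP chevF4 7)) = true := by
  decide +kernel

theorem h8tf_chk8 : h8pmEqBp 2 (chevF4.rank + chevF4.nroots) (chevF4.rank + chevF4.nroots)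
    (h8pmMul (h8pmSpread 1 (h8xP chevF4 2)) h8gaQ_F4) (h8pmMul h8gaQ_F4 (h8xP chevF4 8)) = true := by
  decide +kernel

theorem h8tf_chk9 : h8pmEqBp 2 (chevF4.rank + chevF4.nroots) (chevF4.rank + chevF4.nroots)
    (h8pmMul (h8pmSpread 1 (h8xP chevF4 4)) h8gaQ_F4) (h8pmMul h8gaQ_F4 (h8xP chevF4 9)) = true := by
  decide +kernel

theorem h8tf_chk10 : h8pmEqBp 2 (chevF4.rank + chevF4.nroots) (chevF4.rank + chevF4.nroots)
    (h8pmMul (h8pmSpread 1 (h8xP chevF4 15)) h8gaQ_F4) (h8pmMul h8gaQ_F4 (h8xP chevF4 10)) = true := by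
  decide +kernel

theorem h8tf_chk11 : h8pmEqBp 2 (chevF4.rank + chevF4.nroots) (chevF4.rank + chevF4.nroots)
    (h8pmMul (h8pmSpread 1 (h8xP chevF4 5)) h8gaQ_F4) (h8pmMul h8gaQ_F4 (h8xP chevF4 11)) = true := by
  decide +kernel

end Cfsg.Agent.Lib.helper8
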