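import Mathlib
import Cfsg.Prelude.Def_ChevStructure
import Cfsg.Prelude.Def_ChevF4
import Cfsg.Agent.Lib.helper8.ChevGaF4b

set_option autoImplicit false

namespace Cfsg.Agent.Lib.helper8

open Cfsg.Lie Cfsg.Lie.ChevalleyDatum

theorem h8tf_chk12 : h8pmEqBp 2 (chevF4.rank + chevF4.nroots) (chevF4.rank + chevF4.nroots)
    (h8pmMul (h8pmSpread 1 (h8xP chevF4 16)) h8gaQ_F4) (h8pmMul h8gaQ_F4 (h8xP chevF4 12)) = true := by
  decide +kernel

theorem h8tf_chk13 : h8pmEqBp 2 (chevF4.rank + chevF4.nroots) (chevF4.rank + chevF4.nroots)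
    (h8pmMul (h8pmSpread 1 (h8xP chevF4 21)) h8gaQ_F4) (h8pmMul h8gaQ_F4 (h8xP chevF4 13)) = true := by
  decide +kernel

theorem h8tf_chk14 : h8pmEqBp 2 (chevF4.rank + chevF4.nroots) (chevF4.rank + chevF4.nroots)
    (h8pmMul (h8pmSpread 1 (h8xP chevF4 23)) h8gaQ_F4) (h8pmMul h8gaQ_F4 (h8xP chevF4 14)) = true := by
  decide +kernel

theorem h8tf_chk15 : h8pmEqBp 2 (chevF4.rank + chevF4.nroots) (chevF4.rank + chevF4.nroots)
    (h8pmMul (h8pmSpread 0 (h8xP chevF4 10)) h8gaQ_F4) (h8pmMul h8gaQ_F4 (h8xP chevF4 15)) = true := by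
  decide +kernel

theorem h8tf_chk16 : h8pmEqBp 2 (chevF4.rank + chevF4.nroots) (chevF4.rank + chevF4.nroots)
    (h8pmMul (h8pmSpread 0 (h8xP chevF4 12)) h8gaQ_F4) (h8pmMul h8gaQ_F4 (h8xP chevF4 16)) = true := by
  decide +kernel

theorem h8tf_chk17 : h8pmEqBp 2 (chevF4.rank + chevF4.nroots) (chevF4.rank + chevF4.nroots)
    (h8pmMul (h8pmSpread 0 (h8xP chevF4 19)) h8gaQ_F4) (h8pmMul h8gaQ_F4 (h8xP chevF4 17)) = true := by
  decide +kernel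

theorem h8tf_chk18 : h8pmEqBp 2 (chevF4.rank + chevF4.nroots) (chevF4.rank + chevF4.nroots)
    (h8pmMul (h8pmSpread 1 (h8xP chevF4 6)) h8gaQ_F4) (h8pmMul h8gaQ_F4 (h8xP chevF4 18)) = true := by
  decide +kernel

theorem h8tf_chk19 : h8pmEqBp 2 (chevF4.rank + chevF4.nroots) (chevF4.rank + chevF4.nroots)
    (h8pmMul (h8pmSpread 1 (h8xP chevF4 17)) h8gaQ_F4) (h8pmMul h8gaQ_F4 (h8xP chevF4 19)) = true := by
  decide +kernel

theorem h8tf_chk20 : h8pmEqBp 2 (chevF4.rank + chevF4.nroots) (chevF4.rank + chevF4.nroots)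
    (h8pmMul (h8pmSpread 1 (h8xP chevF4 22)) h8gaQ_F4) (h8pmMul h8gaQ_F4 (h8xP chevF4 20)) = true := by
  decide +kernel

theorem h8tf_chk21 : h8pmEqBp 2 (chevF4.rank + chevF4.nroots) (chevF4.rank + chevF4.nroots)
    (h8pmMul (h8pmSpread 0 (h8xP chevF4 13)) h8gaQ_F4) (h8pmMul h8gaQ_F4 (h8xP chevF4 21)) = true := by
  decide +kernel

theorem h8tf_chk22 : h8pmEqBp 2 (chevF4.rank + chevF4.nroots) (chevF4.rank + chevF4.nroots)
    (h8pmMul (h8pmSpread 0 (h8xP chevF4 20)) h8gaQ_F4) (h8pmMul h8gaQ_F4 (h8xP chevF4 22)) = true := by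
  decide +kernel

theorem h8tf_chk23 : h8pmEqBp 2 (chevF4.rank + chevF4.nroots) (chevF4.rank + chevF4.nroots)
    (h8pmMul (h8pmSpread 0 (h8xP chevF4 14)) h8gaQ_F4) (h8pmMul h8gaQ_F4 (h8xP chevF4 23)) = true := by
  decide +kernel

end Cfsg.Agent.Lib.helper8
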