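import Mathlib
import Cfsg.Prelude.Def_ChevStructure
import Cfsg.Prelude.Def_ChevF4
import Cfsg.Agent.Lib.helper8.ChevGaF4b

set_option autoImplicit false

namespace Cfsg.Agent.Lib.helper8

open Cfsg.Lie Cfsg.Lie.ChevalleyDatum

theorem h8tf_chk24 : h8pmEqBp 2 (chevF4.rank + chevF4.nroots) (chevF4.rank + chevF4.nroots)
    (h8pmMul (h8pmSpread 0 (h8xP chevF4 33)) h8gaQ_F4) (h8pmMul h8gaQ_F4 (h8xP chevF4 24)) = true := by
  decide +kernel

theorem h8tf_chk25 : h8pmEqBp 2 (chevF4.rank + chevF4.nroots) (chevF4.rank + chevF4.nroots)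
    (h8pmMul (h8pmSpread 0 (h8xP chevF4 27)) h8gaQ_F4) (h8pmMul h8gaQ_F4 (h8xP chevF4 25)) = true := by
  decide +kernel

theorem h8tf_chk26 : h8pmEqBp 2 (chevF4.rank + chevF4.nroots) (chevF4.rank + chevF4.nroots)
    (h8pmMul (h8pmSpread 0 (h8xP chevF4 34)) h8gaQ_F4) (h8pmMul h8gaQ_F4 (h8xP chevF4 26)) = true := by
  decide +kernel

theorem h8tf_chk27 : h8pmEqBp 2 (chevF4.rank + chevF4.nroots) (chevF4.rank + chevF4.nroots)
    (h8pmMul (h8pmSpread 1 (h8xP chevF4 25)) h8gaQ_F4) (h8pmMul h8gaQ_F4 (h8xP chevF4 27)) = true := by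
  decide +kernel

theorem h8tf_chk28 : h8pmEqBp 2 (chevF4.rank + chevF4.nroots) (chevF4.rank + chevF4.nroots)
    (h8pmMul (h8pmSpread 1 (h8xP chevF4 30)) h8gaQ_F4) (h8pmMul h8gaQ_F4 (h8xP chevF4 28)) = true := by
  decide +kernel

theorem h8tf_chk29 : h8pmEqBp 2 (chevF4.rank + chevF4.nroots) (chevF4.rank + chevF4.nroots)
    (h8pmMul (h8pmSpread 1 (h8xP chevF4 41)) h8gaQ_F4) (h8pmMul h8gaQ_F4 (h8xP chevF4 29)) = true := by
  decide +kernel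

theorem h8tf_chk30 : h8pmEqBp 2 (chevF4.rank + chevF4.nroots) (chevF4.rank + chevF4.nroots)
    (h8pmMul (h8pmSpread 0 (h8xP chevF4 28)) h8gaQ_F4) (h8pmMul h8gaQ_F4 (h8xP chevF4 30)) = true := by
  decide +kernel

theorem h8tf_chk31 : h8pmEqBp 2 (chevF4.rank + chevF4.nroots) (chevF4.rank + chevF4.nroots)
    (h8pmMul (h8pmSpread 0 (h8xP chevF4 35)) h8gaQ_F4) (h8pmMul h8gaQ_F4 (h8xP chevF4 31)) = true := by
  decide +kernel

theorem h8tf_chk32 : h8pmEqBp 2 (chevF4.rank + chevF4.nroots) (chevF4.rank + chevF4.nroots)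
    (h8pmMul (h8pmSpread 0 (h8xP chevF4 37)) h8gaQ_F4) (h8pmMul h8gaQ_F4 (h8xP chevF4 32)) = true := by
  decide +kernel

theorem h8tf_chk33 : h8pmEqBp 2 (chevF4.rank + chevF4.nroots) (chevF4.rank + chevF4.nroots)
    (h8pmMul (h8pmSpread 1 (h8xP chevF4 24)) h8gaQ_F4) (h8pmMul h8gaQ_F4 (h8xP chevF4 33)) = true := by
  decide +kernel

theorem h8tf_chk34 : h8pmEqBp 2 (chevF4.rank + chevF4.nroots) (chevF4.rank + chevF4.nroots)
    (h8pmMul (h8pmSpread 1 (h8xP chevF4 26)) h8gaQ_F4) (h8pmMul h8gaQ_F4 (h8xP chevF4 34)) = true := by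
  decide +kernel

theorem h8tf_chk35 : h8pmEqBp 2 (chevF4.rank + chevF4.nroots) (chevF4.rank + chevF4.nroots)
    (h8pmMul (h8pmSpread 1 (h8xP chevF4 31)) h8gaQ_F4) (h8pmMul h8gaQ_F4 (h8xP chevF4 35)) = true := by
  decide +kernel

end Cfsg.Agent.Lib.helper8
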