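import Mathlib
import Cfsg.Prelude.Def_ChevStructure
import Cfsg.Prelude.Def_ChevF4
import Cfsg.Agent.Lib.helper8.ChevGaF4b

set_option autoImplicit false

namespace Cfsg.Agent.Lib.helper8

open Cfsg.Lie Cfsg.Lie.ChevalleyDatum

theorem h8tf_chk36 : h8pmEqBp 2 (chevF4.rank + chevF4.nroots) (chevF4.rank + chevF4.nroots)
    (h8pmMul (h8pmSpread 1 (h8xP chevF4 42)) h8gaQ_F4) (h8pmMul h8gaQ_F4 (h8xP chevF4 36)) = true := by
  decide +kernel

theorem h8tf_chk37 : h8pmEqBp 2 (chevF4.rank + chevF4.nroots) (chevF4.rank + chevF4.nroots)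
    (h8pmMul (h8pmSpread 1 (h8xP chevF4 32)) h8gaQ_F4) (h8pmMul h8gaQ_F4 (h8xP chevF4 37)) = true := by
  decide +kernel

theorem h8tf_chk38 : h8pmEqBp 2 (chevF4.rank + chevF4.nroots) (chevF4.rank + chevF4.nroots)
    (h8pmMul (h8pmSpread 1 (h8xP chevF4 43)) h8gaQ_F4) (h8pmMul h8gaQ_F4 (h8xP chevF4 38)) = true := by
  decide +kernel

theorem h8tf_chk39 : h8pmEqBp 2 (chevF4.rank + chevF4.nroots) (chevF4.rank + chevF4.nroots)
    (h8pmMul (h8pmSpread 1 (h8xP chevF4 45)) h8gaQ_F4) (h8pmMul h8gaQ_F4 (h8xP chevF4 39)) = true := by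
  decide +kernel

theorem h8tf_chk40 : h8pmEqBp 2 (chevF4.rank + chevF4.nroots) (chevF4.rank + chevF4.nroots)
    (h8pmMul (h8pmSpread 1 (h8xP chevF4 46)) h8gaQ_F4) (h8pmMul h8gaQ_F4 (h8xP chevF4 40)) = true := by
  decide +kernel

theorem h8tf_chk41 : h8pmEqBp 2 (chevF4.rank + chevF4.nroots) (chevF4.rank + chevF4.nroots)
    (h8pmMul (h8pmSpread 0 (h8xP chevF4 29)) h8gaQ_F4) (h8pmMul h8gaQ_F4 (h8xP chevF4 41)) = true := by
  decide +kernel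

theorem h8tf_chk42 : h8pmEqBp 2 (chevF4.rank + chevF4.nroots) (chevF4.rank + chevF4.nroots)
    (h8pmMul (h8pmSpread 0 (h8xP chevF4 36)) h8gaQ_F4) (h8pmMul h8gaQ_F4 (h8xP chevF4 42)) = true := by
  decide +kernel

theorem h8tf_chk43 : h8pmEqBp 2 (chevF4.rank + chevF4.nroots) (chevF4.rank + chevF4.nroots)
    (h8pmMul (h8pmSpread 0 (h8xP chevF4 38)) h8gaQ_F4) (h8pmMul h8gaQ_F4 (h8xP chevF4 43)) = true := by
  decide +kernel

theorem h8tf_chk44 : h8pmEqBp 2 (chevF4.rank + chevF4.nroots) (chevF4.rank + chevF4.nroots)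
    (h8pmMul (h8pmSpread 1 (h8xP chevF4 47)) h8gaQ_F4) (h8pmMul h8gaQ_F4 (h8xP chevF4 44)) = true := by
  decide +kernel

theorem h8tf_chk45 : h8pmEqBp 2 (chevF4.rank + chevF4.nroots) (chevF4.rank + chevF4.nroots)
    (h8pmMul (h8pmSpread 0 (h8xP chevF4 39)) h8gaQ_F4) (h8pmMul h8gaQ_F4 (h8xP chevF4 45)) = true := by
  decide +kernel

theorem h8tf_chk46 : h8pmEqBp 2 (chevF4.rank + chevF4.nroots) (chevF4.rank + chevF4.nroots)
    (h8pmMul (h8pmSpread 0 (h8xP chevF4 40)) h8gaQ_F4) (h8pmMul h8gaQ_F4 (h8xP chevF4 46)) = true := by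
  decide +kernel

theorem h8tf_chk47 : h8pmEqBp 2 (chevF4.rank + chevF4.nroots) (chevF4.rank + chevF4.nroots)
    (h8pmMul (h8pmSpread 0 (h8xP chevF4 44)) h8gaQ_F4) (h8pmMul h8gaQ_F4 (h8xP chevF4 47)) = true := by
  decide +kernel

end Cfsg.Agent.Lib.helper8
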