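import Mathlib
import Cfsg.Prelude.Def_ChevStructure
import Cfsg.Prelude.Def_ChevF4
import Cfsg.Agent.Lib.helper8.ChevGaF4b
import Cfsg.Agent.Lib.helper8.ChevTF1a
import Cfsg.Agent.Lib.helper8.ChevTF1b
import Cfsg.Agent.Lib.helper8.ChevTF1c
import Cfsg.Agent.Lib.helper8.ChevTF1d

set_option autoImplicit false

namespace Cfsg.Agent.Lib.helper8

open Cfsg.Lie Cfsg.Lie.ChevalleyDatum

universe u

variable {F : Type u} [Field F]

/-- the permutation of the roots of type F₄ induced by the special isogeny -/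
def h8tfRho (r : ℕ) : ℕ := ([3, 7, 8, 0, 9, 11, 18, 1, 2, 4, 15, 5, 16, 21, 23, 10, 12, 19, 6,
  17, 22, 13, 20, 14, 33, 27, 34, 25, 30, 41, 28, 35, 37, 24, 26, 31, 42, 32, 43, 45, 46, 29, 36,
  38, 47, 39, 40, 44] : List ℕ).getD r 0

/-- the exponent (minus one) of the special isogeny on the root subgroups: one on the short
roots, zero on the long roots -/
def h8tfK (r : ℕ) : ℕ := ([0, 0, 0, 1, 0, 0, 0, 1, 1, 1, 1, 1, 1, 1, 1, 0, 0, 0, 1, 1, 1, 0, 0, 0,
  0, 0, 0, 1, 1, 1, 0, 0, 0, 1, 1, 1, 1, 1, 1, 1, 1, 0, 0, 0, 1, 0, 0, 0] : List ℕ).getD r 0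

theorem h8tf_chk : ∀ r < 48, h8pmEqBp 2 (chevF4.rank + chevF4.nroots)
    (chevF4.rank + chevF4.nroots)
    (h8pmMul (h8pmSpread (h8tfK r) (h8xP chevF4 (h8tfRho r))) h8gaQ_F4)
    (h8pmMul h8gaQ_F4 (h8xP chevF4 r)) = true := by
  intro r hr
  interval_cases r
  · exact h8tf_chk0
  · exact h8tf_chk1
  · exact h8tf_chk2
  · exact h8tf_chk3
  · exact h8tf_chk4
  · exact h8tf_chk5
  · exact h8tf_chk6
  · exact h8tf_chk7
  · exact h8tf_chk8
  · exact h8tf_chk9
  · exact h8tf_chk10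
  · exact h8tf_chk11
  · exact h8tf_chk12
  · exact h8tf_chk13
  · exact h8tf_chk14
  · exact h8tf_chk15
  · exact h8tf_chk16
  · exact h8tf_chk17
  · exact h8tf_chk18
  · exact h8tf_chk19
  · exact h8tf_chk20
  · exact h8tf_chk21
  · exact h8tf_chk22
  · exact h8tf_chk23
  · exact h8tf_chk24
  · exact h8tf_chk25
  · exact h8tf_chk26
  · exact h8tf_chk27
  · exact h8tf_chk28
  · exact h8tf_chk29
  · exact h8tf_chk30
  · exact h8tf_chk31
  · exact h8tf_chk32
  · exact h8tf_chk33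
  · exact h8tf_chk34
  · exact h8tf_chk35
  · exact h8tf_chk36
  · exact h8tf_chk37
  · exact h8tf_chk38
  · exact h8tf_chk39
  · exact h8tf_chk40
  · exact h8tf_chk41
  · exact h8tf_chk42
  · exact h8tf_chk43
  · exact h8tf_chk44
  · exact h8tf_chk45
  · exact h8tf_chk46
  · exact h8tf_chk47

theorem h8tfRho_lt : ∀ r < 48, h8tfRho r < 48 := by decide

theorem h8tfRho_invol : ∀ r < 48, h8tfRho (h8tfRho r) = r := by decide

theorem h8tfK_rho : ∀ r < 48, h8tfK r + h8tfK (h8tfRho r) = 1 := by decide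

theorem h8tfK_le : ∀ r < 48, h8tfK r = 0 ∨ h8tfK r = 1 := by decide

theorem h8tfRho_neg : ∀ r < 48, h8tfRho (chevF4.negIdx.getD r 0) =
    chevF4.negIdx.getD (h8tfRho r) 0 ∧ h8tfK (chevF4.negIdx.getD r 0) = h8tfK r ∧
    chevF4.negIdx.getD r 0 < 48 := by decide +kernel

set_option synthInstance.maxSize 1000 in
set_option synthInstance.maxHeartbeats 200000 in
theorem h8tfRho_pos : ∀ r < 48, (chevF4.IsPosRoot r → chevF4.IsPosRoot (h8tfRho r)) ∧
    (chevF4.IsNegRoot r → chevF4.IsNegRoot (h8tfRho r)) := by decide +kernel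

/-- the relation of the special isogeny on every root subgroup -/
theorem h8tf_rel [CharP F 2] (r : ℕ) (hr : r < 48) (t : F) :
    chevF4.x F (h8tfRho r) (t ^ (h8tfK r + 1)) * h8gaQm_F4 F =
      h8gaQm_F4 F * chevF4.x F r t :=
  h8ga_rel 2 chevF4 h8gaQ_F4 h8gaF4_len h8gaF4_const r (h8tfRho r) hr (h8tfRho_lt r hr)
    (h8tfK r) (h8tf_chk r hr) t

end Cfsg.Agent.Lib.helper8
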