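import Mathlib
import Cfsg.Prelude.Def_ChevStructure
import Cfsg.Prelude.Def_ChevF4
import Cfsg.Agent.Lib.helper8.ChevTF2
import Cfsg.Agent.Lib.helper8.ChevRee3

set_option autoImplicit false

namespace Cfsg.Agent.Lib.helper8

open Cfsg.Lie Cfsg.Lie.ChevalleyDatum

universe u

variable {K : Type u} [Field K]

/-- the data of a twist of type ²F₄ of the Chevalley group of type F₄ -/
structure H8TF (K : Type u) [Field K] (hB : H8Base.{u} chevF4) where
  f : K ≃+* K
  σ : ↥(chevF4.group K) ≃* ↥(chevF4.group K)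
  hf : ∀ t : K, f (f t) ^ 2 = t
  rel : ∀ g : ↥(chevF4.group K),
    ((σ g).val : Matrix chevF4.Idx chevF4.Idx K) * h8gaQm_F4 K =
      h8gaQm_F4 K * (g.val : Matrix chevF4.Idx chevF4.Idx K).map f
  uniq : ∀ g g' : ↥(chevF4.group K),
    (g'.val : Matrix chevF4.Idx chevF4.Idx K) * h8gaQm_F4 K =
      h8gaQm_F4 K * (g.val : Matrix chevF4.Idx chevF4.Idx K).map f → σ g = g'

/-- a twist of type ²F₄ exists for every automorphism whose square is the inverse of the Frobenius -/
theorem h8tf_exists' [CharP K 2] (hB : H8Base.{u} chevF4) (f : K ≃+* K)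
    (hf : ∀ t : K, f (f t) ^ 2 = t) : ∃ R : H8TF K hB, R.f = f := by
  have hD : chevF4 ∈ [chevG2, chevB2, chevD4, chevF4, chevE6, chevE7, chevE8] := by simp
  have hA := h8reflAll chevF4 hD
  have hBN := h8bn_all chevF4 hD
  have hperf : ∀ x : K, ∃ y : K, y ^ 2 = x := fun x => ⟨f (f x), hf x⟩
  obtain ⟨α, hα⟩ := h8gaF4_main (F := K) hperf
  -- the relation holds for all elements
  have hall : ∀ g : ↥(chevF4.group K),
      ((α g).val : Matrix chevF4.Idx chevF4.Idx K) * h8gaQm_F4 K =
        h8gaQm_F4 K * (g.val : Matrix chevF4.Idx chevF4.Idx K) := by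
    let S : Subgroup ↥(chevF4.group K) :=
      { carrier := {g | ((α g).val : Matrix chevF4.Idx chevF4.Idx K) * h8gaQm_F4 K =
          h8gaQm_F4 K * (g.val : Matrix chevF4.Idx chevF4.Idx K)}
        one_mem' := by simp
        mul_mem' := by
          intro a b ha hb
          simp only [Set.mem_setOf_eq] at ha hb ⊢
          rw [map_mul, Subgroup.coe_mul, Subgroup.coe_mul, Units.val_mul, Units.val_mul,
            Matrix.mul_assoc, hb, ← Matrix.mul_assoc, ha, Matrix.mul_assoc]
        inv_mem' := by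
          intro a ha
          simp only [Set.mem_setOf_eq] at ha ⊢
          have h1 : (((α a)⁻¹ : ↥(chevF4.group K)).val : Matrix chevF4.Idx chevF4.Idx K) *
              ((α a).val : Matrix chevF4.Idx chevF4.Idx K) = 1 := by
            rw [← Units.val_mul, ← Subgroup.coe_mul, inv_mul_cancel]
            rfl
          have h2 : (a.val : Matrix chevF4.Idx chevF4.Idx K) *
              ((a⁻¹ : ↥(chevF4.group K)).val : Matrix chevF4.Idx chevF4.Idx K) = 1 := by
            rw [← Units.val_mul, ← Subgroup.coe_mul, mul_inv_cancel]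
            rfl
          rw [map_inv]
          calc (((α a)⁻¹ : ↥(chevF4.group K)).val : Matrix chevF4.Idx chevF4.Idx K) * h8gaQm_F4 K
              = (((α a)⁻¹ : ↥(chevF4.group K)).val : Matrix chevF4.Idx chevF4.Idx K) *
                  (h8gaQm_F4 K * ((a.val : Matrix chevF4.Idx chevF4.Idx K) *
                    ((a⁻¹ : ↥(chevF4.group K)).val : Matrix chevF4.Idx chevF4.Idx K))) := by
                rw [h2, Matrix.mul_one]
            _ = (((α a)⁻¹ : ↥(chevF4.group K)).val : Matrix chevF4.Idx chevF4.Idx K) *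
                  (((α a).val : Matrix chevF4.Idx chevF4.Idx K) * h8gaQm_F4 K) *
                  ((a⁻¹ : ↥(chevF4.group K)).val : Matrix chevF4.Idx chevF4.Idx K) := by
                rw [ha, Matrix.mul_assoc, Matrix.mul_assoc]
            _ = h8gaQm_F4 K *
                  ((a⁻¹ : ↥(chevF4.group K)).val : Matrix chevF4.Idx chevF4.Idx K) := by
                rw [← Matrix.mul_assoc _ ((α a).val : Matrix chevF4.Idx chevF4.Idx K), h1,
                  Matrix.one_mul] }
    have hle : chevF4.group K ≤ S.map (chevF4.group K).subtype := by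
      unfold ChevalleyDatum.group
      rw [Subgroup.closure_le]
      rintro g ⟨r, t, hg⟩
      have hg' : g = h8xU chevF4 hB r.val t := by
        apply Units.ext
        rw [hg, h8xU_val]
        unfold ChevalleyDatum.x
        rw [dif_pos r.2]
      rw [hg']
      refine ⟨⟨_, h8xU_mem_group chevF4 hB _ _⟩, ?_, rfl⟩
      have hr : r.val < 48 := r.2
      have h1 := hα ⟨h8xU chevF4 hB r.val t, h8xU_mem_group chevF4 hB _ _⟩
        ⟨h8xU chevF4 hB (h8tfRho r.val) (t ^ (h8tfK r.val + 1)), h8xU_mem_group chevF4 hB _ _⟩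
        (h8tf_rel r.val hr t)
      have h2 : ((α ⟨h8xU chevF4 hB r.val t, h8xU_mem_group chevF4 hB _ _⟩).val :
          Matrix chevF4.Idx chevF4.Idx K) =
          chevF4.x K (h8tfRho r.val) (t ^ (h8tfK r.val + 1)) := by
        rw [h1]
        rfl
      show ((α ⟨h8xU chevF4 hB r.val t, h8xU_mem_group chevF4 hB _ _⟩).val :
          Matrix chevF4.Idx chevF4.Idx K) * h8gaQm_F4 K = _
      rw [h2]
      exact h8tf_rel r.val hr t
    intro g
    obtain ⟨x, hx, hxg⟩ := hle g.2
    have : x = g := Subtype.ext hxg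
    rw [← this]
    exact hx
  refine ⟨⟨f, (h8PsiEquiv chevF4 hB f).trans α, hf, ?_, ?_⟩, rfl⟩
  · intro g
    rw [MulEquiv.trans_apply, hall, h8PsiEquiv_mat]
  · intro g g' h
    rw [MulEquiv.trans_apply]
    apply hα
    rw [h8PsiEquiv_mat]
    exact h

theorem h8tf_exists [CharP K 2] (hB : H8Base.{u} chevF4) (f : K ≃+* K)
    (hf : ∀ t : K, f (f t) ^ 2 = t) : Nonempty (H8TF K hB) := by
  obtain ⟨R, _⟩ := h8tf_exists' hB f hf
  exact ⟨R⟩

end Cfsg.Agent.Lib.helper8
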