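import Mathlib
import Cfsg.Prelude.Def_ChevStructure
import Cfsg.Prelude.Def_ChevF4
import Cfsg.Agent.Lib.helper8.ChevTF3
import Cfsg.Agent.Lib.helper8.ChevRee4
import Cfsg.Agent.Lib.helper8.ChevBN2

set_option autoImplicit false

namespace Cfsg.Agent.Lib.helper8

open Cfsg.Lie Cfsg.Lie.ChevalleyDatum

universe u

variable {K : Type u} [Field K] {hB : H8Base.{u} chevF4}

/-- the parameter map of the twist of type ²F₄ on the root subgroup `r` -/
def h8tfE (R : H8TF K hB) (r : ℕ) (t : K) : K := (R.f t) ^ (h8tfK r + 1)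

/-- the twist of type ²F₄ as a function on the general linear group -/
noncomputable def h8tfS (R : H8TF K hB) (x : GL chevF4.Idx K) : GL chevF4.Idx K := by
  classical
  exact if h : x ∈ chevF4.group K then ((R.σ ⟨x, h⟩ : ↥(chevF4.group K)) : GL chevF4.Idx K) else 1

theorem h8tfS_of_mem (R : H8TF K hB) (x : GL chevF4.Idx K) (h : x ∈ chevF4.group K) :
    h8tfS R x = ((R.σ ⟨x, h⟩ : ↥(chevF4.group K)) : GL chevF4.Idx K) := by
  unfold h8tfS
  rw [dif_pos h]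

theorem h8tfS_mem (R : H8TF K hB) (x : GL chevF4.Idx K) : h8tfS R x ∈ chevF4.group K := by
  unfold h8tfS
  split_ifs with h
  · exact (R.σ ⟨x, h⟩).2
  · exact Subgroup.one_mem _

theorem h8tfS_mul (R : H8TF K hB) (x y : GL chevF4.Idx K) (hx : x ∈ chevF4.group K)
    (hy : y ∈ chevF4.group K) : h8tfS R (x * y) = h8tfS R x * h8tfS R y := by
  rw [h8tfS_of_mem R _ hx, h8tfS_of_mem R _ hy,
    h8tfS_of_mem R _ (Subgroup.mul_mem _ hx hy), ← Subgroup.coe_mul, ← map_mul]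
  rfl

theorem h8tfS_one (R : H8TF K hB) : h8tfS R 1 = 1 := by
  rw [h8tfS_of_mem R _ (Subgroup.one_mem _)]
  have : (⟨1, Subgroup.one_mem _⟩ : ↥(chevF4.group K)) = 1 := rfl
  rw [this, map_one]
  rfl

theorem h8tfS_inv (R : H8TF K hB) (x : GL chevF4.Idx K) (hx : x ∈ chevF4.group K) :
    h8tfS R x⁻¹ = (h8tfS R x)⁻¹ := by
  have h := h8tfS_mul R x x⁻¹ hx (Subgroup.inv_mem _ hx)
  rw [mul_inv_cancel, h8tfS_one] at h
  exact (inv_eq_of_mul_eq_one_right h.symm).symm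

theorem h8tfS_injective (R : H8TF K hB) (x y : GL chevF4.Idx K) (hx : x ∈ chevF4.group K)
    (hy : y ∈ chevF4.group K) (h : h8tfS R x = h8tfS R y) : x = y := by
  rw [h8tfS_of_mem R _ hx, h8tfS_of_mem R _ hy] at h
  have := R.σ.injective (Subtype.ext h)
  exact congrArg Subtype.val this

/-- the fixed points of the twist of type ²F₄ -/
theorem h8tfS_fix_iff (R : H8TF K hB) (x : GL chevF4.Idx K) (hx : x ∈ chevF4.group K) :
    h8tfS R x = x ↔ (x : Matrix chevF4.Idx chevF4.Idx K) * h8gaQm_F4 K =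
      h8gaQm_F4 K * (x : Matrix chevF4.Idx chevF4.Idx K).map R.f := by
  rw [h8tfS_of_mem R _ hx]
  constructor
  · intro h
    have := R.rel ⟨x, hx⟩
    rw [h] at this
    exact this
  · intro h
    have := R.uniq ⟨x, hx⟩ ⟨x, hx⟩ h
    rw [this]

theorem h8tfS_xU [CharP K 2] (R : H8TF K hB) (r : ℕ) (hr : r < 48) (t : K) :
    h8tfS R (h8xU chevF4 hB r t) = h8xU chevF4 hB (h8tfRho r) (h8tfE R r t) := by
  rw [h8tfS_of_mem R _ (h8xU_mem_group chevF4 hB r t)]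
  have := R.uniq ⟨h8xU chevF4 hB r t, h8xU_mem_group chevF4 hB r t⟩
    ⟨h8xU chevF4 hB (h8tfRho r) (h8tfE R r t), h8xU_mem_group chevF4 hB _ _⟩ (by
      show chevF4.x K (h8tfRho r) (h8tfE R r t) * h8gaQm_F4 K =
        h8gaQm_F4 K * (chevF4.x K r t).map R.f
      have e : (chevF4.x K r t).map R.f = chevF4.x K r (R.f t) :=
        h8x_map chevF4 (R.f : K →+* K) r t
      rw [e]
      exact h8tf_rel r hr (R.f t))
  rw [this]

theorem h8tfE_rho (R : H8TF K hB) (r : ℕ) (hr : r < 48) (t : K) :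
    h8tfE R (h8tfRho r) (h8tfE R r t) = t := by
  unfold h8tfE
  rw [map_pow, ← pow_mul]
  have h1 := h8tfK_rho r hr
  have h2 : (h8tfK r + 1) * (h8tfK (h8tfRho r) + 1) = 2 := by
    rcases h8tfK_le r hr with h3 | h3
    · rw [h3] at h1 ⊢
      have : h8tfK (h8tfRho r) = 1 := by omega
      rw [this]
    · rw [h3] at h1 ⊢
      have : h8tfK (h8tfRho r) = 0 := by omega
      rw [this]
  rw [h2]
  exact R.hf t

theorem h8tfE_rho' (R : H8TF K hB) (r : ℕ) (hr : r < 48) (t : K) :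
    h8tfE R r (h8tfE R (h8tfRho r) t) = t := by
  have := h8tfE_rho R (h8tfRho r) (h8tfRho_lt r hr) t
  rwa [h8tfRho_invol r hr] at this

theorem h8tfE_zero (R : H8TF K hB) (r : ℕ) : h8tfE R r 0 = 0 := by
  unfold h8tfE
  rw [map_zero, zero_pow (by omega)]

theorem h8tfE_one (R : H8TF K hB) (r : ℕ) : h8tfE R r 1 = 1 := by
  unfold h8tfE
  rw [map_one, one_pow]

theorem h8tfE_mul (R : H8TF K hB) (r : ℕ) (s t : K) :
    h8tfE R r (s * t) = h8tfE R r s * h8tfE R r t := by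
  unfold h8tfE
  rw [map_mul, mul_pow]

theorem h8tfE_inv (R : H8TF K hB) (r : ℕ) (t : K) :
    h8tfE R r t⁻¹ = (h8tfE R r t)⁻¹ := by
  unfold h8tfE
  rw [map_inv₀, inv_pow]

theorem h8tfE_neg [CharP K 2] (R : H8TF K hB) (r : ℕ) (hr : r < 48) (t : K) :
    h8tfE R r (-t) = - h8tfE R r t := by
  rw [CharTwo.neg_eq, CharTwo.neg_eq]

theorem h8tfE_ne_zero (R : H8TF K hB) (r : ℕ) (t : K) (ht : t ≠ 0) : h8tfE R r t ≠ 0 := by
  unfold h8tfE
  exact pow_ne_zero _ ((map_ne_zero R.f).2 ht)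

theorem h8tfE_negidx (R : H8TF K hB) (r : ℕ) (hr : r < 48) (t : K) :
    h8tfE R (chevF4.negIdx.getD r 0) t = h8tfE R r t := by
  unfold h8tfE
  rw [(h8tfRho_neg r hr).2.1]

theorem h8tfS_nU [CharP K 2] (R : H8TF K hB) (r : ℕ) (hr : r < 48) (t : K) :
    h8tfS R (h8nU chevF4 hB r t) = h8nU chevF4 hB (h8tfRho r) (h8tfE R r t) := by
  obtain ⟨hn1, hn2, hn3⟩ := h8tfRho_neg r hr
  rw [h8nU_eq, h8nU_eq,
    h8tfS_mul R _ _ (Subgroup.mul_mem _ (h8xU_mem_group chevF4 hB _ _)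
      (h8xU_mem_group chevF4 hB _ _)) (h8xU_mem_group chevF4 hB _ _),
    h8tfS_mul R _ _ (h8xU_mem_group chevF4 hB _ _) (h8xU_mem_group chevF4 hB _ _),
    h8tfS_xU R r hr, h8tfS_xU R _ hn3, hn1, h8tfE_negidx R r hr, h8tfE_neg R r hr,
    h8tfE_inv]

theorem h8tfS_hU [CharP K 2] (R : H8TF K hB) (r : ℕ) (hr : r < 48) (t : K) :
    h8tfS R (h8hU chevF4 hB r t) = h8hU chevF4 hB (h8tfRho r) (h8tfE R r t) := by
  rw [h8hU_eq_nn', h8hU_eq_nn',
    h8tfS_mul R _ _ (h8nU_mem_group chevF4 hB _ _)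
      (Subgroup.inv_mem _ (h8nU_mem_group chevF4 hB _ _)),
    h8tfS_inv R _ (h8nU_mem_group chevF4 hB _ _), h8tfS_nU R r hr, h8tfS_nU R r hr,
    h8tfE_one]

/-- the image of a subgroup generated inside the Chevalley group -/
theorem h8tfS_closure (R : H8TF K hB) (gens : Set (GL chevF4.Idx K))
    (hgens : gens ⊆ chevF4.group K) (T : Subgroup (GL chevF4.Idx K))
    (h : ∀ x ∈ gens, h8tfS R x ∈ T) : ∀ x ∈ Subgroup.closure gens, h8tfS R x ∈ T := by
  have hle : Subgroup.closure gens ≤ chevF4.group K := (Subgroup.closure_le _).2 hgens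
  intro x hx
  induction hx using Subgroup.closure_induction with
  | mem x hx => exact h x hx
  | one => rw [h8tfS_one]; exact Subgroup.one_mem _
  | mul x y hx hy ihx ihy =>
    rw [h8tfS_mul R x y (hle hx) (hle hy)]
    exact Subgroup.mul_mem _ ihx ihy
  | inv x hx ih =>
    rw [h8tfS_inv R x (hle hx)]
    exact Subgroup.inv_mem _ ih

end Cfsg.Agent.Lib.helper8
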