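import Mathlib
import Cfsg.Prelude.Def_ChevStructure
import Cfsg.Prelude.Def_ChevF4
import Cfsg.Agent.Lib.helper8.ChevTF5
import Cfsg.Agent.Lib.helper8.ChevTw7
import Cfsg.Agent.Lib.helper8.ChevRee7

set_option autoImplicit false

namespace Cfsg.Agent.Lib.helper8

open Cfsg.Lie Cfsg.Lie.ChevalleyDatum

universe u

variable {K : Type u} [Field K]

/-- the commutator formula for root elements, in the general linear group -/
theorem h8xU_comm_formula (D : ChevalleyDatum) (hB : H8Base.{u} D) (hC : H8CommAll.{u} D)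
    (r s : ℕ) (hr : r < D.nroots) (hs : s < D.nroots) (hne : s ≠ r)
    (hneg : s ≠ D.negIdx.getD r 0) (t v : K) :
    h8xU D hB s v * h8xU D hB r t =
      h8xU D hB r t * h8xU D hB s v * h8wordU D hB (D.commWord K r s t v) := by
  apply Units.ext
  simp only [Units.val_mul, h8xU_val, h8wordU_val]
  exact hC.all r hr s hs hne hneg K t v

theorem h8tf_ct1 : chevF4.commTerms 27 25 = [(28, -1, 1, 1), (30, -1, 2, 1)] := by decide +kernel

theorem h8tf_ct2 : chevF4.commTerms 20 22 = [(19, 1, 1, 1), (17, -1, 2, 1)] := by decide +kernel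

theorem h8tf_ct3 : chevF4.commTerms 33 24 = [] := by decide +kernel

theorem h8tf_ct4 : chevF4.commTerms 14 23 = [] := by decide +kernel

theorem h8tf_ct5 : chevF4.commTerms 28 30 = [] := by decide +kernel

theorem h8tf_ct6 : chevF4.commTerms 19 17 = [] := by decide +kernel

section
variable [CharP K 2] (hB : H8Base.{u} chevF4) (hC : H8CommAll.{u} chevF4)

include hC in
/-- the commutator formula for the fundamental roots `a`, `b` of the subsystem of type `B₂` -/
theorem h8tf_I1 (a b : K) :
    h8xU chevF4 hB 25 b * h8xU chevF4 hB 27 a =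
      h8xU chevF4 hB 27 a * h8xU chevF4 hB 25 b * h8xU chevF4 hB 28 (a * b) *
        h8xU chevF4 hB 30 (a ^ 2 * b) := by
  have h := h8xU_comm_formula chevF4 hB hC 27 25 (by decide) (by decide) (by decide) (by decide)
    a b
  unfold ChevalleyDatum.commWord at h
  rw [h8tf_ct1] at h
  simp only [List.map_cons, List.map_nil, h8wordU_cons] at h
  have e0 : h8wordU chevF4 hB ([] : List (ℕ × K)) = 1 := rfl
  rw [e0, mul_one] at h
  have e1 : (((-1 : ℤ) : ℤ) : K) * (-a) ^ 1 * b ^ 1 = a * b := by
    simp only [Int.cast_neg, Int.cast_one, CharTwo.neg_eq, pow_one, one_mul]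
  have e2 : (((-1 : ℤ) : ℤ) : K) * (-a) ^ 2 * b ^ 1 = a ^ 2 * b := by
    simp only [Int.cast_neg, Int.cast_one, CharTwo.neg_eq, pow_one, one_mul]
  rw [e1, e2] at h
  rw [h]
  group

include hC in
/-- the commutator formula for the negative fundamental roots of the subsystem of type `B₂` -/
theorem h8tf_I1' (a b : K) :
    h8xU chevF4 hB 22 b * h8xU chevF4 hB 20 a =
      h8xU chevF4 hB 20 a * h8xU chevF4 hB 22 b * h8xU chevF4 hB 19 (a * b) *
        h8xU chevF4 hB 17 (a ^ 2 * b) := by
  have h := h8xU_comm_formula chevF4 hB hC 20 22 (by decide) (by decide) (by decide) (by decide)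
    a b
  unfold ChevalleyDatum.commWord at h
  rw [h8tf_ct2] at h
  simp only [List.map_cons, List.map_nil, h8wordU_cons] at h
  have e0 : h8wordU chevF4 hB ([] : List (ℕ × K)) = 1 := rfl
  rw [e0, mul_one] at h
  have e1 : (((1 : ℤ) : ℤ) : K) * (-a) ^ 1 * b ^ 1 = a * b := by
    simp only [Int.cast_one, CharTwo.neg_eq, pow_one, one_mul]
  have e2 : (((-1 : ℤ) : ℤ) : K) * (-a) ^ 2 * b ^ 1 = a ^ 2 * b := by
    simp only [Int.cast_neg, Int.cast_one, CharTwo.neg_eq, pow_one, one_mul]
  rw [e1, e2] at h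
  rw [h]
  group

include hC in
theorem h8tf_comm_33_24 (a b : K) : Commute (h8xU chevF4 hB 33 a) (h8xU chevF4 hB 24 b) :=
  h8xU_commute chevF4 hB hC 33 24 (by decide) (by decide) (by decide) (by decide) h8tf_ct3 a b

include hC in
theorem h8tf_comm_14_23 (a b : K) : Commute (h8xU chevF4 hB 14 a) (h8xU chevF4 hB 23 b) :=
  h8xU_commute chevF4 hB hC 14 23 (by decide) (by decide) (by decide) (by decide) h8tf_ct4 a b

include hC in
theorem h8tf_comm_28_30 (a b : K) : Commute (h8xU chevF4 hB 28 a) (h8xU chevF4 hB 30 b) :=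
  h8xU_commute chevF4 hB hC 28 30 (by decide) (by decide) (by decide) (by decide) h8tf_ct5 a b

include hC in
theorem h8tf_comm_19_17 (a b : K) : Commute (h8xU chevF4 hB 19 a) (h8xU chevF4 hB 17 b) :=
  h8xU_commute chevF4 hB hC 19 17 (by decide) (by decide) (by decide) (by decide) h8tf_ct6 a b

end

end Cfsg.Agent.Lib.helper8
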