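import Mathlib
import Cfsg.Prelude.Def_ChevStructure
import Cfsg.Prelude.Def_ChevWords
import Cfsg.Agent.Lib.helper8.ChevTwB7
import Cfsg.Agent.Lib.helper8.ChevTwE6c
import Cfsg.Agent.Lib.helper8.ChevPerf

set_option autoImplicit false

namespace Cfsg.Agent.Lib.helper8

open Cfsg.Lie Cfsg.Lie.ChevalleyDatum

open scoped commutatorElement

universe u

variable {K : Type u} [Field K]

/-- conjugation by an element of `G1` preserves the derived subgroup of `G1` -/
theorem h8comm_conj_mem {G : Type*} [Group G] (G1 : Subgroup G) (g : G) (hg : g ∈ G1) (x : G)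
    (hx : x ∈ ⁅G1, G1⁆) : g * x * g⁻¹ ∈ ⁅G1, G1⁆ := by
  rw [Subgroup.commutator_def] at hx ⊢
  induction hx using Subgroup.closure_induction with
  | mem y hy =>
    obtain ⟨a, ha, b, hb, rfl⟩ := hy
    apply Subgroup.subset_closure
    refine ⟨g * a * g⁻¹, G1.mul_mem (G1.mul_mem hg ha) (G1.inv_mem hg), g * b * g⁻¹,
      G1.mul_mem (G1.mul_mem hg hb) (G1.inv_mem hg), ?_⟩
    rw [commutatorElement_def, commutatorElement_def]
    group
  | one =>
    rw [mul_one, mul_inv_cancel]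
    exact Subgroup.one_mem _
  | mul a b _ _ ha hb =>
    have e : g * (a * b) * g⁻¹ = (g * a * g⁻¹) * (g * b * g⁻¹) := by group
    rw [e]
    exact Subgroup.mul_mem _ ha hb
  | inv a _ ha =>
    have e : g * a⁻¹ * g⁻¹ = (g * a * g⁻¹)⁻¹ := by group
    rw [e]
    exact Subgroup.inv_mem _ ha

/-- a subgroup generated by words is perfect as soon as the generating words are products of
commutators -/
theorem h8perf_gen (D : ChevalleyDatum) (hB : H8Base.{u} D) (S : Set (List (ℕ × K)))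
    (h : ∀ w ∈ S, h8wordU D hB w ∈ ⁅D.genSubgroup K S, D.genSubgroup K S⁆) :
    commutator ↥(D.genSubgroup K S) = ⊤ := by
  have hle : D.genSubgroup K S ≤ ⁅D.genSubgroup K S, D.genSubgroup K S⁆ := by
    conv_lhs => unfold ChevalleyDatum.genSubgroup
    rw [Subgroup.closure_le]
    rintro g ⟨w, hw, hg⟩
    have hg' : g = h8wordU D hB w := Units.ext (hg.trans (h8wordU_val D hB w).symm)
    rw [hg']
    exact h w hw
  have heq : ⁅D.genSubgroup K S, D.genSubgroup K S⁆ = D.genSubgroup K S :=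
    le_antisymm (Subgroup.commutator_le.mpr (fun a ha b hb => by
      rw [commutatorElement_def]
      exact Subgroup.mul_mem _ (Subgroup.mul_mem _ (Subgroup.mul_mem _ ha hb)
        (Subgroup.inv_mem _ ha)) (Subgroup.inv_mem _ hb))) hle
  apply Subgroup.map_injective (D.genSubgroup K S).subtype_injective
  rw [Subgroup.map_subtype_commutator, heq, ← MonoidHom.range_eq_map, Subgroup.range_subtype]

/-- the torus trick: an additive family scaled by a factor different from `1` under conjugation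
by an element of the group consists of commutators -/
theorem h8tor_trick {G : Type*} [Group G] (G1 : Subgroup G) (y : K → G)
    (hadd : ∀ a b, y (a + b) = y a * y b) (hy : ∀ t, y t ∈ G1) (h : G) (hh : h ∈ G1) (lam : K)
    (hlam : lam ≠ 1) (hconj : ∀ t, h * y t * h⁻¹ = y (lam * t)) : ∀ t, y t ∈ ⁅G1, G1⁆ := by
  have h0 : y 0 = 1 := by
    have := hadd 0 0
    rw [add_zero] at this
    exact (mul_eq_left (a := y 0) (b := y 0)).mp this.symm
  have hneg : ∀ t, y (-t) = (y t)⁻¹ := by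
    intro t
    apply eq_inv_of_mul_eq_one_left
    rw [← hadd, neg_add_cancel, h0]
  have hne : lam - 1 ≠ 0 := sub_ne_zero.mpr hlam
  intro t
  have e : t = lam * (t / (lam - 1)) + -(t / (lam - 1)) := by
    field_simp
    ring
  have h3 : y t = ⁅h, y (t / (lam - 1))⁆ := by
    rw [commutatorElement_def, hconj, ← hneg, ← hadd, ← e]
  rw [h3]
  exact Subgroup.commutator_mem_commutator hh (hy _)

/-- conjugation of a root element by `h_s(c)` -/
theorem h8hU_conj (D : ChevalleyDatum) (hB : H8Base.{u} D) (s r : ℕ) (hs : s < D.nroots)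
    (hr : r < D.nroots) (c : K) (hc : c ≠ 0) (t : K) :
    h8hU D hB s c * h8xU D hB r t * (h8hU D hB s c)⁻¹ =
      h8xU D hB r (c ^ (h8K D s r) * t) := by
  rw [mul_inv_eq_iff_eq_mul]
  apply Units.ext
  rw [Units.val_mul, Units.val_mul, h8hU_val, h8xU_val, h8xU_val]
  exact h8hMat_conj_x D hB.ca s r hr c hc t (hB.hdiag K s hs c hc)

/-- `h_r(c) = n_r(c) n_r(1)⁻¹` -/
theorem h8hU_eq_nn (D : ChevalleyDatum) (hB : H8Base.{u} D) (r : ℕ) (c : K) :
    h8hU D hB r c = h8nU D hB r c * (h8nU D hB r 1)⁻¹ := by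
  rw [h8nU_eq_hU D hB r c, mul_inv_cancel_right]

/-- the elements `n_r(a)` and `n_{r'}(b)` commute when the root subgroups do -/
theorem h8nU_commute (D : ChevalleyDatum) (hB : H8Base.{u} D) (r r' : ℕ)
    (hcomm : ∀ a ∈ [r, D.negIdx.getD r 0], ∀ b ∈ [r', D.negIdx.getD r' 0], ∀ t u : K,
      Commute (h8xU D hB a t) (h8xU D hB b u)) (a b : K) :
    Commute (h8nU D hB r a) (h8nU D hB r' b) := by
  rw [h8nU_eq, h8nU_eq]
  have h1 := hcomm r (by simp) r' (by simp)
  have h2 := hcomm r (by simp) (D.negIdx.getD r' 0) (by simp)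
  have h3 := hcomm (D.negIdx.getD r 0) (by simp) r' (by simp)
  have h4 := hcomm (D.negIdx.getD r 0) (by simp) (D.negIdx.getD r' 0) (by simp)
  have e1 : ∀ t, Commute (h8xU D hB r t)
      (h8xU D hB r' b * h8xU D hB (D.negIdx.getD r' 0) (-b⁻¹) * h8xU D hB r' b) := fun t =>
    ((h1 t _).mul_right (h2 t _)).mul_right (h1 t _)
  have e2 : ∀ t, Commute (h8xU D hB (D.negIdx.getD r 0) t)
      (h8xU D hB r' b * h8xU D hB (D.negIdx.getD r' 0) (-b⁻¹) * h8xU D hB r' b) := fun t =>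
    ((h3 t _).mul_right (h4 t _)).mul_right (h3 t _)
  exact ((e1 _).mul_left (e2 _)).mul_left (e1 _)

section
variable (D : ChevalleyDatum) (hB : H8Base.{u} D) (G1 : Subgroup (GL D.Idx K))

/-- the product `n_r(a) n_{r'}(a')` for two commuting pairs of opposite root subgroups -/
theorem h8tw_nn2 (r r' : ℕ)
    (hcomm : ∀ a ∈ [r, D.negIdx.getD r 0], ∀ b ∈ [r', D.negIdx.getD r' 0], ∀ t u : K,
      Commute (h8xU D hB a t) (h8xU D hB b u)) (a a' : K)
    (h1 : h8xU D hB r a * h8xU D hB r' a' ∈ G1)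
    (h2 : h8xU D hB (D.negIdx.getD r 0) (-a⁻¹) * h8xU D hB (D.negIdx.getD r' 0) (-a'⁻¹) ∈ G1) :
    h8nU D hB r a * h8nU D hB r' a' ∈ G1 := by
  have c1 := hcomm r (by simp) r' (by simp)
  have c2 := hcomm r (by simp) (D.negIdx.getD r' 0) (by simp)
  have c3 := hcomm (D.negIdx.getD r 0) (by simp) r' (by simp)
  rw [h8nU_eq, h8nU_eq, h8rearr2 _ _ _ _ _ _ (c1 _ _).symm (c3 _ _).symm (c2 _ _).symm]
  exact Subgroup.mul_mem _ (Subgroup.mul_mem _ h1 h2) h1

/-- the product `h_r(c) h_{r'}(c')` for two commuting pairs of opposite root subgroups -/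
theorem h8tw_hh2 (r r' : ℕ)
    (hcomm : ∀ a ∈ [r, D.negIdx.getD r 0], ∀ b ∈ [r', D.negIdx.getD r' 0], ∀ t u : K,
      Commute (h8xU D hB a t) (h8xU D hB b u)) (c c' : K)
    (h1 : h8nU D hB r c * h8nU D hB r' c' ∈ G1)
    (h2 : h8nU D hB r (1 : K) * h8nU D hB r' (1 : K) ∈ G1) :
    h8hU D hB r c * h8hU D hB r' c' ∈ G1 := by
  have e : h8hU D hB r c * h8hU D hB r' c' =
      (h8nU D hB r c * h8nU D hB r' c') * (h8nU D hB r (1 : K) * h8nU D hB r' (1 : K))⁻¹ := by
    rw [h8hU_eq_nn, h8hU_eq_nn]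
    have k1 : Commute (h8nU D hB r (1 : K))⁻¹ (h8nU D hB r' c') :=
      (h8nU_commute D hB r r' hcomm 1 c').inv_left
    have k2 : Commute (h8nU D hB r (1 : K)) (h8nU D hB r' (1 : K)) :=
      h8nU_commute D hB r r' hcomm 1 1
    rw [k2.eq, mul_inv_rev]
    calc h8nU D hB r c * (h8nU D hB r 1)⁻¹ * (h8nU D hB r' c' * (h8nU D hB r' 1)⁻¹)
        = h8nU D hB r c * ((h8nU D hB r 1)⁻¹ * h8nU D hB r' c') * (h8nU D hB r' 1)⁻¹ := by group
      _ = h8nU D hB r c * (h8nU D hB r' c' * (h8nU D hB r 1)⁻¹) * (h8nU D hB r' 1)⁻¹ := by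
          rw [k1.eq]
      _ = h8nU D hB r c * h8nU D hB r' c' * ((h8nU D hB r 1)⁻¹ * (h8nU D hB r' 1)⁻¹) := by
          group
  rw [e]
  exact Subgroup.mul_mem _ h1 (Subgroup.inv_mem _ h2)

/-- the torus trick for a pair of interchanged orthogonal roots -/
theorem h8perf_tor2 (hCA : h8CAchk D = true) (f : K ≃+* K) (r r' : ℕ)
    (hr : r < D.nroots) (hr' : r' < D.nroots)
    (hcomm : ∀ a ∈ [r, D.negIdx.getD r 0], ∀ b ∈ [r', D.negIdx.getD r' 0], ∀ t u : K,
      Commute (h8xU D hB a t) (h8xU D hB b u))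
    (hKF : h8KF D r r = 2 ∧ h8KF D r' r' = 2 ∧ h8KF D r r' = 0 ∧ h8KF D r' r = 0)
    (hP : ∀ t, h8xU D hB r t * h8xU D hB r' (f t) ∈ G1)
    (hM : ∀ t, h8xU D hB (D.negIdx.getD r 0) t * h8xU D hB (D.negIdx.getD r' 0) (f t) ∈ G1)
    (c : K) (hc0 : c ≠ 0) (hc2 : c ^ 2 ≠ 1) :
    ∀ t, h8xU D hB r t * h8xU D hB r' (f t) ∈ ⁅G1, G1⁆ := by
  obtain ⟨k1, k2, k3, k4⟩ := hKF
  rw [h8KF_eq D hCA r r hr] at k1
  rw [h8KF_eq D hCA r' r' hr'] at k2
  rw [h8KF_eq D hCA r r' hr'] at k3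
  rw [h8KF_eq D hCA r' r hr] at k4
  have hfc0 : f c ≠ 0 := (map_ne_zero f).mpr hc0
  have hN : ∀ a : K, a ≠ 0 → h8nU D hB r a * h8nU D hB r' (f a) ∈ G1 := by
    intro a _
    apply h8tw_nn2 D hB G1 r r' hcomm a (f a) (hP a)
    have := hM (-a⁻¹)
    rwa [map_neg, map_inv₀] at this
  have hh : h8hU D hB r c * h8hU D hB r' (f c) ∈ G1 := by
    apply h8tw_hh2 D hB G1 r r' hcomm c (f c) (hN c hc0)
    have := hN 1 one_ne_zero
    rwa [map_one] at this
  have c1 := hcomm r (by simp) r' (by simp)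
  apply h8tor_trick G1 (fun t => h8xU D hB r t * h8xU D hB r' (f t)) ?_ hP _ hh (c ^ 2) hc2
  · intro t
    show h8hU D hB r c * h8hU D hB r' (f c) * (h8xU D hB r t * h8xU D hB r' (f t)) *
      (h8hU D hB r c * h8hU D hB r' (f c))⁻¹ = _
    have e : h8hU D hB r c * h8hU D hB r' (f c) * (h8xU D hB r t * h8xU D hB r' (f t)) *
        (h8hU D hB r c * h8hU D hB r' (f c))⁻¹ =
        h8hU D hB r c * (h8hU D hB r' (f c) * h8xU D hB r t * (h8hU D hB r' (f c))⁻¹) *
          (h8hU D hB r c)⁻¹ *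
        (h8hU D hB r c * (h8hU D hB r' (f c) * h8xU D hB r' (f t) * (h8hU D hB r' (f c))⁻¹) *
          (h8hU D hB r c)⁻¹) := by group
    rw [e, h8hU_conj D hB r' r hr' hr _ hfc0, h8hU_conj D hB r' r' hr' hr' _ hfc0,
      h8hU_conj D hB r r hr hr _ hc0, h8hU_conj D hB r r' hr hr' _ hc0, k1, k2, k3, k4]
    simp only [zpow_zero, one_mul, map_mul, map_pow]
    norm_cast
  · intro a b
    show h8xU D hB r (a + b) * h8xU D hB r' (f (a + b)) = _
    rw [map_add, ← h8xU_add D hB r hr, ← h8xU_add D hB r' hr']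
    calc h8xU D hB r a * h8xU D hB r b * (h8xU D hB r' (f a) * h8xU D hB r' (f b))
        = h8xU D hB r a * (h8xU D hB r b * h8xU D hB r' (f a)) * h8xU D hB r' (f b) := by group
      _ = h8xU D hB r a * (h8xU D hB r' (f a) * h8xU D hB r b) * h8xU D hB r' (f b) := by
          rw [(c1 b (f a)).eq]
      _ = _ := by group

end

end Cfsg.Agent.Lib.helper8
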