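import Mathlib
import Cfsg.Prelude.Def_ChevStructure
import Cfsg.Prelude.Def_ChevWords
import Cfsg.Agent.Lib.helper8.ChevTwP1

set_option autoImplicit false

namespace Cfsg.Agent.Lib.helper8

open Cfsg.Lie Cfsg.Lie.ChevalleyDatum

open scoped commutatorElement

universe u

variable {K : Type u} [Field K]

theorem h8hh3_aux {G : Type*} [Group G] (A a B b C d : G) (h1 : Commute a B) (h2 : Commute a C)
    (h3 : Commute b C) (h4 : Commute a b) (h5 : Commute a d) (h6 : Commute b d) :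
    A * a⁻¹ * (B * b⁻¹) * (C * d⁻¹) = A * B * C * (a * b * d)⁻¹ := by
  have k1 : a⁻¹ * B = B * a⁻¹ := h1.inv_left.eq
  have k2 : a⁻¹ * C = C * a⁻¹ := h2.inv_left.eq
  have k3 : b⁻¹ * C = C * b⁻¹ := h3.inv_left.eq
  have k4 : d⁻¹ * b⁻¹ = b⁻¹ * d⁻¹ := (h6.inv_left.inv_right).symm.eq
  have k5 : d⁻¹ * a⁻¹ = a⁻¹ * d⁻¹ := (h5.inv_left.inv_right).symm.eq
  have k6 : b⁻¹ * a⁻¹ = a⁻¹ * b⁻¹ := (h4.inv_left.inv_right).symm.eq
  calc A * a⁻¹ * (B * b⁻¹) * (C * d⁻¹) = A * (a⁻¹ * B) * b⁻¹ * C * d⁻¹ := by group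
    _ = A * B * a⁻¹ * (b⁻¹ * C) * d⁻¹ := by rw [k1]; group
    _ = A * B * (a⁻¹ * C) * b⁻¹ * d⁻¹ := by rw [k3]; group
    _ = A * B * C * (a⁻¹ * b⁻¹ * d⁻¹) := by rw [k2]; group
    _ = A * B * C * (d⁻¹ * b⁻¹ * a⁻¹) := by
        congr 1
        symm
        calc d⁻¹ * b⁻¹ * a⁻¹ = b⁻¹ * (d⁻¹ * a⁻¹) := by rw [k4, mul_assoc]
          _ = (b⁻¹ * a⁻¹) * d⁻¹ := by rw [k5, mul_assoc]
          _ = a⁻¹ * b⁻¹ * d⁻¹ := by rw [k6]
    _ = A * B * C * (a * b * d)⁻¹ := by group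

section
variable (D : ChevalleyDatum) (hB : H8Base.{u} D) (G1 : Subgroup (GL D.Idx K))

/-- conjugation of a root element by a product of three torus elements -/
theorem h8hU_conj3 (s1 s2 s3 r : ℕ) (h1 : s1 < D.nroots) (h2 : s2 < D.nroots)
    (h3 : s3 < D.nroots) (hr : r < D.nroots) (c1 c2 c3 : K) (hc1 : c1 ≠ 0) (hc2 : c2 ≠ 0)
    (hc3 : c3 ≠ 0) (t : K) :
    (h8hU D hB s1 c1 * h8hU D hB s2 c2 * h8hU D hB s3 c3) * h8xU D hB r t *
      (h8hU D hB s1 c1 * h8hU D hB s2 c2 * h8hU D hB s3 c3)⁻¹ =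
      h8xU D hB r (c1 ^ (h8K D s1 r) * (c2 ^ (h8K D s2 r) * (c3 ^ (h8K D s3 r) * t))) := by
  have e : (h8hU D hB s1 c1 * h8hU D hB s2 c2 * h8hU D hB s3 c3) * h8xU D hB r t *
      (h8hU D hB s1 c1 * h8hU D hB s2 c2 * h8hU D hB s3 c3)⁻¹ =
      h8hU D hB s1 c1 * (h8hU D hB s2 c2 * (h8hU D hB s3 c3 * h8xU D hB r t *
        (h8hU D hB s3 c3)⁻¹) * (h8hU D hB s2 c2)⁻¹) * (h8hU D hB s1 c1)⁻¹ := by group
  rw [e, h8hU_conj D hB s3 r h3 hr c3 hc3, h8hU_conj D hB s2 r h2 hr c2 hc2,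
    h8hU_conj D hB s1 r h1 hr c1 hc1]

/-- the product `n_{r1}(a) n_{r2}(a') n_{r3}(a'')` for three commuting pairs of opposite root
subgroups -/
theorem h8tw_nn3 (r1 r2 r3 : ℕ)
    (hc12 : ∀ a ∈ [r1, D.negIdx.getD r1 0], ∀ b ∈ [r2, D.negIdx.getD r2 0], ∀ t u : K,
      Commute (h8xU D hB a t) (h8xU D hB b u))
    (hc13 : ∀ a ∈ [r1, D.negIdx.getD r1 0], ∀ b ∈ [r3, D.negIdx.getD r3 0], ∀ t u : K,
      Commute (h8xU D hB a t) (h8xU D hB b u))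
    (hc23 : ∀ a ∈ [r2, D.negIdx.getD r2 0], ∀ b ∈ [r3, D.negIdx.getD r3 0], ∀ t u : K,
      Commute (h8xU D hB a t) (h8xU D hB b u)) (a a' a'' : K)
    (h1 : h8xU D hB r1 a * h8xU D hB r2 a' * h8xU D hB r3 a'' ∈ G1)
    (h2 : h8xU D hB (D.negIdx.getD r1 0) (-a⁻¹) * h8xU D hB (D.negIdx.getD r2 0) (-a'⁻¹) *
      h8xU D hB (D.negIdx.getD r3 0) (-a''⁻¹) ∈ G1) :
    h8nU D hB r1 a * h8nU D hB r2 a' * h8nU D hB r3 a'' ∈ G1 := by
  have p12 := hc12 r1 (by simp) r2 (by simp)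
  have p12' := hc12 r1 (by simp) (D.negIdx.getD r2 0) (by simp)
  have m12 := hc12 (D.negIdx.getD r1 0) (by simp) r2 (by simp)
  have p13 := hc13 r1 (by simp) r3 (by simp)
  have p13' := hc13 r1 (by simp) (D.negIdx.getD r3 0) (by simp)
  have m13 := hc13 (D.negIdx.getD r1 0) (by simp) r3 (by simp)
  have p23 := hc23 r2 (by simp) r3 (by simp)
  have p23' := hc23 r2 (by simp) (D.negIdx.getD r3 0) (by simp)
  have m23 := hc23 (D.negIdx.getD r2 0) (by simp) r3 (by simp)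
  rw [h8nU_eq, h8nU_eq, h8nU_eq, h8rearr3 _ _ _ _ _ _ _ _ _ (p12 _ _).symm (m12 _ _).symm
    (p12' _ _).symm ((p13 _ _).symm.mul_right (p23 _ _).symm)
    ((m13 _ _).symm.mul_right (m23 _ _).symm) ((p13' _ _).symm.mul_right (p23' _ _).symm)]
  exact Subgroup.mul_mem _ (Subgroup.mul_mem _ h1 h2) h1

/-- the product `h_{r1}(c) h_{r2}(c') h_{r3}(c'')` for three commuting pairs of opposite root
subgroups -/
theorem h8tw_hh3 (r1 r2 r3 : ℕ)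
    (hc12 : ∀ a ∈ [r1, D.negIdx.getD r1 0], ∀ b ∈ [r2, D.negIdx.getD r2 0], ∀ t u : K,
      Commute (h8xU D hB a t) (h8xU D hB b u))
    (hc13 : ∀ a ∈ [r1, D.negIdx.getD r1 0], ∀ b ∈ [r3, D.negIdx.getD r3 0], ∀ t u : K,
      Commute (h8xU D hB a t) (h8xU D hB b u))
    (hc23 : ∀ a ∈ [r2, D.negIdx.getD r2 0], ∀ b ∈ [r3, D.negIdx.getD r3 0], ∀ t u : K,
      Commute (h8xU D hB a t) (h8xU D hB b u)) (c c' c'' : K)
    (h1 : h8nU D hB r1 c * h8nU D hB r2 c' * h8nU D hB r3 c'' ∈ G1)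
    (h2 : h8nU D hB r1 (1 : K) * h8nU D hB r2 (1 : K) * h8nU D hB r3 (1 : K) ∈ G1) :
    h8hU D hB r1 c * h8hU D hB r2 c' * h8hU D hB r3 c'' ∈ G1 := by
  have e : h8hU D hB r1 c * h8hU D hB r2 c' * h8hU D hB r3 c'' =
      (h8nU D hB r1 c * h8nU D hB r2 c' * h8nU D hB r3 c'') *
        (h8nU D hB r1 (1 : K) * h8nU D hB r2 (1 : K) * h8nU D hB r3 (1 : K))⁻¹ := by
    rw [h8hU_eq_nn, h8hU_eq_nn, h8hU_eq_nn]
    exact h8hh3_aux _ _ _ _ _ _ (h8nU_commute D hB r1 r2 hc12 1 c')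
      (h8nU_commute D hB r1 r3 hc13 1 c'') (h8nU_commute D hB r2 r3 hc23 1 c'')
      (h8nU_commute D hB r1 r2 hc12 1 1) (h8nU_commute D hB r1 r3 hc13 1 1)
      (h8nU_commute D hB r2 r3 hc23 1 1)
  rw [e]
  exact Subgroup.mul_mem _ h1 (Subgroup.inv_mem _ h2)

/-- the torus trick for three cyclically permuted orthogonal roots -/
theorem h8perf_tor3 (hCA : h8CAchk D = true) (f : K ≃+* K) (r1 r2 r3 : ℕ)
    (hr1 : r1 < D.nroots) (hr2 : r2 < D.nroots) (hr3 : r3 < D.nroots)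
    (hc12 : ∀ a ∈ [r1, D.negIdx.getD r1 0], ∀ b ∈ [r2, D.negIdx.getD r2 0], ∀ t u : K,
      Commute (h8xU D hB a t) (h8xU D hB b u))
    (hc13 : ∀ a ∈ [r1, D.negIdx.getD r1 0], ∀ b ∈ [r3, D.negIdx.getD r3 0], ∀ t u : K,
      Commute (h8xU D hB a t) (h8xU D hB b u))
    (hc23 : ∀ a ∈ [r2, D.negIdx.getD r2 0], ∀ b ∈ [r3, D.negIdx.getD r3 0], ∀ t u : K,
      Commute (h8xU D hB a t) (h8xU D hB b u))
    (hKF : ∀ a ∈ [r1, r2, r3], ∀ b ∈ [r1, r2, r3], h8KF D a b = if a = b then 2 else 0)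
    (hne : r1 ≠ r2 ∧ r1 ≠ r3 ∧ r2 ≠ r3)
    (hP : ∀ t, h8xU D hB r1 t * h8xU D hB r2 (f t) * h8xU D hB r3 (f (f t)) ∈ G1)
    (hM : ∀ t, h8xU D hB (D.negIdx.getD r1 0) t * h8xU D hB (D.negIdx.getD r2 0) (f t) *
      h8xU D hB (D.negIdx.getD r3 0) (f (f t)) ∈ G1)
    (c : K) (hc0 : c ≠ 0) (hc2 : c ^ 2 ≠ 1) :
    ∀ t, h8xU D hB r1 t * h8xU D hB r2 (f t) * h8xU D hB r3 (f (f t)) ∈ ⁅G1, G1⁆ := by
  obtain ⟨n12, n13, n23⟩ := hne
  have hlt : ∀ a ∈ [r1, r2, r3], a < D.nroots := by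
    intro a ha
    simp only [List.mem_cons, List.not_mem_nil, or_false] at ha
    rcases ha with rfl | rfl | rfl <;> assumption
  have hKK : ∀ a ∈ [r1, r2, r3], ∀ b ∈ [r1, r2, r3], h8K D a b = if a = b then 2 else 0 := by
    intro a ha b hb
    rw [← h8KF_eq D hCA a b (hlt b hb)]
    exact hKF a ha b hb
  have k11 := hKK r1 (by simp) r1 (by simp)
  have k12 := hKK r1 (by simp) r2 (by simp)
  have k13 := hKK r1 (by simp) r3 (by simp)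
  have k21 := hKK r2 (by simp) r1 (by simp)
  have k22 := hKK r2 (by simp) r2 (by simp)
  have k23 := hKK r2 (by simp) r3 (by simp)
  have k31 := hKK r3 (by simp) r1 (by simp)
  have k32 := hKK r3 (by simp) r2 (by simp)
  have k33 := hKK r3 (by simp) r3 (by simp)
  rw [if_pos rfl] at k11 k22 k33
  rw [if_neg n12] at k12
  rw [if_neg n13] at k13
  rw [if_neg n12.symm] at k21
  rw [if_neg n23] at k23
  rw [if_neg n13.symm] at k31
  rw [if_neg n23.symm] at k32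
  have hfc0 : f c ≠ 0 := (map_ne_zero f).mpr hc0
  have hffc0 : f (f c) ≠ 0 := (map_ne_zero f).mpr hfc0
  have hN : ∀ a : K, a ≠ 0 →
      h8nU D hB r1 a * h8nU D hB r2 (f a) * h8nU D hB r3 (f (f a)) ∈ G1 := by
    intro a _
    apply h8tw_nn3 D hB G1 r1 r2 r3 hc12 hc13 hc23 a (f a) (f (f a)) (hP a)
    have := hM (-a⁻¹)
    rwa [map_neg, map_inv₀, map_neg, map_inv₀] at this
  have hh : h8hU D hB r1 c * h8hU D hB r2 (f c) * h8hU D hB r3 (f (f c)) ∈ G1 := by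
    apply h8tw_hh3 D hB G1 r1 r2 r3 hc12 hc13 hc23 c (f c) (f (f c)) (hN c hc0)
    have := hN 1 one_ne_zero
    rwa [map_one, map_one] at this
  have c12 := hc12 r1 (by simp) r2 (by simp)
  have c13 := hc13 r1 (by simp) r3 (by simp)
  have c23 := hc23 r2 (by simp) r3 (by simp)
  apply h8tor_trick G1
    (fun t => h8xU D hB r1 t * h8xU D hB r2 (f t) * h8xU D hB r3 (f (f t))) ?_ hP _ hh (c ^ 2) hc2
  · intro t
    show h8hU D hB r1 c * h8hU D hB r2 (f c) * h8hU D hB r3 (f (f c)) *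
      (h8xU D hB r1 t * h8xU D hB r2 (f t) * h8xU D hB r3 (f (f t))) *
      (h8hU D hB r1 c * h8hU D hB r2 (f c) * h8hU D hB r3 (f (f c)))⁻¹ = _
    have e : ∀ (h x1 x2 x3 : GL D.Idx K), h * (x1 * x2 * x3) * h⁻¹ =
        (h * x1 * h⁻¹) * (h * x2 * h⁻¹) * (h * x3 * h⁻¹) := by
      intro h x1 x2 x3
      group
    rw [e, h8hU_conj3 D hB r1 r2 r3 r1 hr1 hr2 hr3 hr1 _ _ _ hc0 hfc0 hffc0,
      h8hU_conj3 D hB r1 r2 r3 r2 hr1 hr2 hr3 hr2 _ _ _ hc0 hfc0 hffc0,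
      h8hU_conj3 D hB r1 r2 r3 r3 hr1 hr2 hr3 hr3 _ _ _ hc0 hfc0 hffc0,
      k11, k12, k13, k21, k22, k23, k31, k32, k33]
    simp only [zpow_zero, one_mul, map_mul, map_pow]
    norm_cast
  · intro a b
    show h8xU D hB r1 (a + b) * h8xU D hB r2 (f (a + b)) * h8xU D hB r3 (f (f (a + b))) = _
    rw [map_add, map_add, ← h8xU_add D hB r1 hr1, ← h8xU_add D hB r2 hr2,
      ← h8xU_add D hB r3 hr3]
    have e1 := (c12 b (f a)).eq
    have e2 := (c13 b (f (f a))).eq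
    have e3 := (c23 (f b) (f (f a))).eq
    calc h8xU D hB r1 a * h8xU D hB r1 b * (h8xU D hB r2 (f a) * h8xU D hB r2 (f b)) *
          (h8xU D hB r3 (f (f a)) * h8xU D hB r3 (f (f b)))
        = h8xU D hB r1 a * (h8xU D hB r1 b * h8xU D hB r2 (f a)) *
            (h8xU D hB r2 (f b) * h8xU D hB r3 (f (f a))) * h8xU D hB r3 (f (f b)) := by group
      _ = h8xU D hB r1 a * h8xU D hB r2 (f a) * (h8xU D hB r1 b * h8xU D hB r3 (f (f a))) *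
            h8xU D hB r2 (f b) * h8xU D hB r3 (f (f b)) := by
          rw [e1, e3]
          group
      _ = _ := by
          rw [e2]
          group

end

end Cfsg.Agent.Lib.helper8
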