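import Mathlib
import Cfsg.Prelude.Def_ChevStructure
import Cfsg.Prelude.Def_ChevWords
import Cfsg.Agent.Lib.helper8.ChevTwP2

set_option autoImplicit false

namespace Cfsg.Agent.Lib.helper8

open Cfsg.Lie Cfsg.Lie.ChevalleyDatum

open scoped commutatorElement

universe u

variable {K : Type u} [Field K]

/-! ### commuting up to a correction term -/

/-- `A` and `B` commute up to the correction term `Z` -/
def H8R {G : Type*} [Group G] (A B Z : G) : Prop := A * B = B * A * Z

theorem h8R_of_commute {G : Type*} [Group G] (A B : G) (h : Commute A B) : H8R A B 1 := by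
  unfold H8R
  rw [mul_one]
  exact h.eq

theorem h8R_mul_left {G : Type*} [Group G] (A A' B Z Z' : G) (h : H8R A B Z) (h' : H8R A' B Z')
    (hc : Commute Z A') : H8R (A * A') B (Z * Z') := by
  unfold H8R at *
  calc A * A' * B = A * (A' * B) := mul_assoc _ _ _
    _ = A * (B * A' * Z') := by rw [h']
    _ = (A * B) * A' * Z' := by group
    _ = B * A * (Z * A') * Z' := by rw [h]; group
    _ = B * A * (A' * Z) * Z' := by rw [hc.eq]
    _ = B * (A * A') * (Z * Z') := by group

theorem h8R_mul_right {G : Type*} [Group G] (A B B' Z Z' : G) (h : H8R A B Z) (h' : H8R A B' Z')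
    (hc : Commute Z B') : H8R A (B * B') (Z' * Z) := by
  unfold H8R at *
  calc A * (B * B') = (A * B) * B' := (mul_assoc _ _ _).symm
    _ = B * A * (Z * B') := by rw [h]; group
    _ = B * A * (B' * Z) := by rw [hc.eq]
    _ = B * (A * B') * Z := by group
    _ = B * (B' * A * Z') * Z := by rw [h']
    _ = B * B' * A * (Z' * Z) := by group

theorem h8R_comm_elt {G : Type*} [Group G] (A B Z : G) (h : H8R A B Z) : Z = ⁅A⁻¹, B⁻¹⁆ := by
  unfold H8R at h
  rw [commutatorElement_def, inv_inv, inv_inv]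
  have : A⁻¹ * B⁻¹ * A * B = A⁻¹ * B⁻¹ * (A * B) := by group
  rw [this, h]
  group

theorem h8mem_centralizer_mul {G : Type*} [Group G] (S : Set G) (a b : G)
    (ha : a ∈ Subgroup.centralizer S) (hb : b ∈ Subgroup.centralizer S) :
    a * b ∈ Subgroup.centralizer S := Subgroup.mul_mem _ ha hb

theorem h8commute_of_centralizer {G : Type*} [Group G] (S : Set G) (z g : G)
    (hz : z ∈ Subgroup.centralizer S) (hg : g ∈ S) : Commute z g :=
  (Subgroup.mem_centralizer_iff.mp hz g hg).symm

theorem h8R_22 {G : Type*} [Group G] (A1 A2 B1 B2 Z11 Z12 Z21 Z22 : G)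
    (r11 : H8R A1 B1 Z11) (r12 : H8R A1 B2 Z12) (r21 : H8R A2 B1 Z21) (r22 : H8R A2 B2 Z22)
    (hZ : ∀ z ∈ [Z11, Z12, Z21, Z22], z ∈ Subgroup.centralizer ({A1, A2, B1, B2} : Set G)) :
    H8R (A1 * A2) (B1 * B2) ((Z12 * Z11) * (Z22 * Z21)) := by
  have z11 := hZ Z11 (by simp)
  have z12 := hZ Z12 (by simp)
  have z21 := hZ Z21 (by simp)
  apply h8R_mul_left
  · exact h8R_mul_right _ _ _ _ _ r11 r12 (h8commute_of_centralizer _ _ _ z11 (by simp))
  · exact h8R_mul_right _ _ _ _ _ r21 r22 (h8commute_of_centralizer _ _ _ z21 (by simp))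
  · exact h8commute_of_centralizer _ _ _ (Subgroup.mul_mem _ z12 z11) (by simp)

theorem h8R_33 {G : Type*} [Group G] (A1 A2 A3 B1 B2 B3 Z11 Z12 Z13 Z21 Z22 Z23 Z31 Z32 Z33 : G)
    (r11 : H8R A1 B1 Z11) (r12 : H8R A1 B2 Z12) (r13 : H8R A1 B3 Z13)
    (r21 : H8R A2 B1 Z21) (r22 : H8R A2 B2 Z22) (r23 : H8R A2 B3 Z23)
    (r31 : H8R A3 B1 Z31) (r32 : H8R A3 B2 Z32) (r33 : H8R A3 B3 Z33)
    (hZ : ∀ z ∈ [Z11, Z12, Z13, Z21, Z22, Z23, Z31, Z32, Z33],
      z ∈ Subgroup.centralizer ({A1, A2, A3, B1, B2, B3} : Set G)) :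
    H8R (A1 * A2 * A3) (B1 * B2 * B3)
      ((Z13 * (Z12 * Z11)) * (Z23 * (Z22 * Z21)) * (Z33 * (Z32 * Z31))) := by
  have z11 := hZ Z11 (by simp)
  have z12 := hZ Z12 (by simp)
  have z13 := hZ Z13 (by simp)
  have z21 := hZ Z21 (by simp)
  have z22 := hZ Z22 (by simp)
  have z23 := hZ Z23 (by simp)
  have z31 := hZ Z31 (by simp)
  have z32 := hZ Z32 (by simp)
  have row : ∀ (A Za Zb Zc : G), H8R A B1 Za → H8R A B2 Zb → H8R A B3 Zc →
      Za ∈ Subgroup.centralizer ({A1, A2, A3, B1, B2, B3} : Set G) →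
      Zb ∈ Subgroup.centralizer ({A1, A2, A3, B1, B2, B3} : Set G) →
      H8R A (B1 * B2 * B3) (Zc * (Zb * Za)) := by
    intro A Za Zb Zc ra rb rc ha hb
    apply h8R_mul_right _ _ _ _ _ _ rc
    · exact h8commute_of_centralizer _ _ _ (Subgroup.mul_mem _ hb ha) (by simp)
    · exact h8R_mul_right _ _ _ _ _ ra rb (h8commute_of_centralizer _ _ _ ha (by simp))
  have w1 := row A1 Z11 Z12 Z13 r11 r12 r13 z11 z12
  have w2 := row A2 Z21 Z22 Z23 r21 r22 r23 z21 z22
  have w3 := row A3 Z31 Z32 Z33 r31 r32 r33 z31 z32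
  have c1 : Z13 * (Z12 * Z11) ∈ Subgroup.centralizer ({A1, A2, A3, B1, B2, B3} : Set G) :=
    Subgroup.mul_mem _ z13 (Subgroup.mul_mem _ z12 z11)
  have c2 : Z23 * (Z22 * Z21) ∈ Subgroup.centralizer ({A1, A2, A3, B1, B2, B3} : Set G) :=
    Subgroup.mul_mem _ z23 (Subgroup.mul_mem _ z22 z21)
  apply h8R_mul_left _ _ _ _ _ _ w3
  · exact h8commute_of_centralizer _ _ _ (Subgroup.mul_mem _ c1 c2) (by simp)
  · exact h8R_mul_left _ _ _ _ _ w1 w2 (h8commute_of_centralizer _ _ _ c1 (by simp))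

/-! ### polynomials without too many roots -/

theorem h8exists_sq_ne_one [Fintype K] (hcard : 4 ≤ Fintype.card K) :
    ∃ c : K, c ≠ 0 ∧ c ^ 2 ≠ 1 := by
  have hnd := FiniteField.X_pow_card_sub_X_natDegree_eq K (p := 3) (by norm_num)
  have hne := FiniteField.X_pow_card_sub_X_ne_zero K (p := 3) (by norm_num)
  obtain ⟨c, hc⟩ := Polynomial.exists_eval_ne_zero_of_natDegree_lt_card
    (Polynomial.X ^ 3 - Polynomial.X : Polynomial K) hne (by
      rw [hnd, Cardinal.mk_fintype]
      exact_mod_cast (by omega : 3 < Fintype.card K))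
  simp only [Polynomial.eval_sub, Polynomial.eval_pow, Polynomial.eval_X] at hc
  refine ⟨c, ?_, ?_⟩
  · rintro rfl
    apply hc
    ring
  · intro h2
    apply hc
    have : c ^ 3 = c ^ 2 * c := by ring
    rw [this, h2, one_mul, sub_self]

theorem h8nonroot2 [Fintype K] (b : ℕ) (h1 : 1 < b) (hb : b < Fintype.card K) (α γ : K)
    (hγ : γ ≠ 0) : ∃ t : K, α * t + γ * t ^ b ≠ 0 := by
  let p : Polynomial K := Polynomial.C α * Polynomial.X + Polynomial.C γ * Polynomial.X ^ b
  have hcoeff : p.coeff b = γ := by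
    simp only [p, Polynomial.coeff_add, Polynomial.coeff_C_mul, Polynomial.coeff_X,
      Polynomial.coeff_X_pow, if_true]
    have : (1 : ℕ) ≠ b := by omega
    simp [this]
  have hp : p ≠ 0 := by
    intro h0
    rw [h0, Polynomial.coeff_zero] at hcoeff
    exact hγ hcoeff.symm
  have hdeg : p.natDegree ≤ b := by
    apply (Polynomial.natDegree_add_le _ _).trans
    apply max_le
    · exact (Polynomial.natDegree_C_mul_le _ _).trans (by
        rw [Polynomial.natDegree_X]; omega)
    · exact (Polynomial.natDegree_C_mul_le _ _).trans (by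
        rw [Polynomial.natDegree_X_pow])
  obtain ⟨t, ht⟩ := Polynomial.exists_eval_ne_zero_of_natDegree_lt_card p hp (by
    rw [Cardinal.mk_fintype]
    exact_mod_cast (by omega : p.natDegree < Fintype.card K))
  refine ⟨t, ?_⟩
  simpa [p] using ht

theorem h8nonroot3 [Fintype K] (a b : ℕ) (h1 : 1 < a) (hab : a < b) (hb : b < Fintype.card K)
    (α β γ : K) (hγ : γ ≠ 0) : ∃ t : K, α * t + β * t ^ a + γ * t ^ b ≠ 0 := by
  let p : Polynomial K := Polynomial.C α * Polynomial.X + Polynomial.C β * Polynomial.X ^ a +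
    Polynomial.C γ * Polynomial.X ^ b
  have hcoeff : p.coeff b = γ := by
    simp only [p, Polynomial.coeff_add, Polynomial.coeff_C_mul, Polynomial.coeff_X,
      Polynomial.coeff_X_pow, if_true]
    have e1 : (1 : ℕ) ≠ b := by omega
    have e2 : b ≠ a := by omega
    simp [e1, e2]
  have hp : p ≠ 0 := by
    intro h0
    rw [h0, Polynomial.coeff_zero] at hcoeff
    exact hγ hcoeff.symm
  have hdeg : p.natDegree ≤ b := by
    apply (Polynomial.natDegree_add_le _ _).trans
    apply max_le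
    · apply (Polynomial.natDegree_add_le _ _).trans
      apply max_le
      · exact (Polynomial.natDegree_C_mul_le _ _).trans (by
          rw [Polynomial.natDegree_X]; omega)
      · exact (Polynomial.natDegree_C_mul_le _ _).trans (by
          rw [Polynomial.natDegree_X_pow]; omega)
    · exact (Polynomial.natDegree_C_mul_le _ _).trans (by
        rw [Polynomial.natDegree_X_pow])
  obtain ⟨t, ht⟩ := Polynomial.exists_eval_ne_zero_of_natDegree_lt_card p hp (by
    rw [Cardinal.mk_fintype]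
    exact_mod_cast (by omega : p.natDegree < Fintype.card K))
  refine ⟨t, ?_⟩
  simpa [p] using ht

/-! ### root elements -/

section
variable (D : ChevalleyDatum) (hB : H8Base.{u} D) (hC : H8CommAll.{u} D)

include hC in
/-- two root elements commute up to a root element when the commutator formula has one term -/
theorem h8R_pair (a b r : ℕ) (ha : a < D.nroots) (hb : b < D.nroots) (hab : b ≠ a)
    (habn : b ≠ D.negIdx.getD a 0) (ε : ℤ) (hct : D.commTerms a b = [(r, ε, 1, 1)]) (t u : K) :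
    H8R (h8xU D hB b u) (h8xU D hB a t) (h8xU D hB r (((ε : ℤ) : K) * (-t) * u)) := by
  have h1 := hC.all a ha b hb hab habn K t u
  unfold ChevalleyDatum.commWord at h1
  rw [hct, List.map_cons, List.map_nil, h8wordMat_cons, h8wordMat_nil, mul_one] at h1
  simp only [pow_one] at h1
  unfold H8R
  apply Units.ext
  rw [Units.val_mul, Units.val_mul, Units.val_mul, h8xU_val, h8xU_val, h8xU_val]
  exact h1

include hC in
theorem h8R_pair_comm (a b : ℕ) (ha : a < D.nroots) (hb : b < D.nroots) (hab : b ≠ a)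
    (habn : b ≠ D.negIdx.getD a 0) (hct : D.commTerms a b = []) (t u : K) :
    H8R (h8xU D hB b u) (h8xU D hB a t) 1 :=
  h8R_of_commute _ _ (h8xU_commute D hB hC a b ha hb hab habn hct t u).symm

/-- the table entry: the sign of the commutator of the root subgroups of `a` and `b` in the
root subgroup of `r` -/
def h8cz (D : ChevalleyDatum) (a b r : ℕ) : ℤ :=
  match D.commTerms a b with
  | [(r', ε, 1, 1)] => if r' = r then ε else 0
  | _ => 0

/-- the pair `(a, b)` has a commutator formula with at most one term, in the root subgroup of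
`r` -/
def h8czOK (D : ChevalleyDatum) (a b r : ℕ) : Bool :=
  decide (a < D.nroots) && decide (b < D.nroots) && decide (b ≠ a) &&
    decide (b ≠ D.negIdx.getD a 0) &&
    (decide (D.commTerms a b = []) || decide (D.commTerms a b = [(r, h8cz D a b r, 1, 1)]))

include hC in
theorem h8R_cz (a b r : ℕ) (h : h8czOK D a b r = true) (t u : K) :
    H8R (h8xU D hB b u) (h8xU D hB a t) (h8xU D hB r (((h8cz D a b r : ℤ) : K) * (-t) * u)) := by
  unfold h8czOK at h
  simp only [Bool.and_eq_true, Bool.or_eq_true, decide_eq_true_eq] at h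
  obtain ⟨⟨⟨⟨h1, h2⟩, h3⟩, h4⟩, h5⟩ := h
  rcases h5 with h5 | h5
  · have e : h8cz D a b r = 0 := by
      unfold h8cz
      rw [h5]
    rw [e, Int.cast_zero, zero_mul, zero_mul, h8xU_zero]
    exact h8R_pair_comm D hB hC a b h1 h2 h3 h4 h5 t u
  · exact h8R_pair D hB hC a b r h1 h2 h3 h4 _ h5 t u

end

end Cfsg.Agent.Lib.helper8
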