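import Mathlib
import Cfsg.Prelude.Def_ChevStructure
import Cfsg.Prelude.Def_ChevWords
import Cfsg.Agent.Lib.helper8.ChevTwP3

set_option autoImplicit false

namespace Cfsg.Agent.Lib.helper8

open Cfsg.Lie Cfsg.Lie.ChevalleyDatum

open scoped commutatorElement

universe u

variable {K : Type u} [Field K]

theorem h8comm_le_self {G : Type*} [Group G] (G1 : Subgroup G) : ⁅G1, G1⁆ ≤ G1 :=
  Subgroup.commutator_le.mpr (fun a ha b hb => by
    rw [commutatorElement_def]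
    exact Subgroup.mul_mem _ (Subgroup.mul_mem _ (Subgroup.mul_mem _ ha hb)
      (Subgroup.inv_mem _ ha)) (Subgroup.inv_mem _ hb))

section
variable (D : ChevalleyDatum) (hB : H8Base.{u} D) (hC : H8CommAll.{u} D)
  (G1 : Subgroup (GL D.Idx K))

/-- the torus element of a fixed root lies in the twisted group -/
theorem h8tw_h1_mem (f : K ≃+* K) (p : ℕ)
    (hx : ∀ t : K, f t = t → h8xU D hB p t ∈ G1)
    (hxm : ∀ t : K, f t = t → h8xU D hB (D.negIdx.getD p 0) t ∈ G1)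
    (c : K) (hc : f c = c) : h8hU D hB p c ∈ G1 := by
  have hN : ∀ a : K, f a = a → h8nU D hB p a ∈ G1 := by
    intro a ha
    rw [h8nU_eq]
    have : f (-a⁻¹) = -a⁻¹ := by rw [map_neg, map_inv₀, ha]
    exact Subgroup.mul_mem _ (Subgroup.mul_mem _ (hx a ha) (hxm _ this)) (hx a ha)
  rw [h8hU_eq_nn]
  exact Subgroup.mul_mem _ (hN c hc) (Subgroup.inv_mem _ (hN 1 (map_one f)))

/-- transport of the statement "fixed root elements are products of commutators" along an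
element of the twisted group acting on the root subgroups -/
theorem h8perf_transport (rs p : ℕ) (n : GL D.Idx K) (hn : n ∈ G1) (hact : H8Act D hB n rs p)
    (h : ∀ w : K, h8xU D hB rs w ∈ G1 → h8xU D hB rs w ∈ ⁅G1, G1⁆) :
    ∀ t : K, h8xU D hB p t ∈ G1 → h8xU D hB p t ∈ ⁅G1, G1⁆ := by
  obtain ⟨c, hc, h1⟩ := hact
  intro t ht
  have e : h8xU D hB p t = n * h8xU D hB rs (c⁻¹ * t) * n⁻¹ := by
    rw [h1, ← mul_assoc, mul_inv_cancel₀ hc, one_mul]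
  have e' : h8xU D hB rs (c⁻¹ * t) = n⁻¹ * h8xU D hB p t * n := by
    rw [e]
    group
  rw [e]
  apply h8comm_conj_mem G1 n hn
  apply h
  rw [e']
  exact Subgroup.mul_mem _ (Subgroup.mul_mem _ (Subgroup.inv_mem _ hn) ht) hn

end

section
variable (D : ChevalleyDatum) (hB : H8Base.{u} D) (hA : H8ReflAll D) (hW : H8BN2 D)
  (σ τ π ϖ : ℕ → ℕ) (η : ℕ → ℤ) (hAut : H8Aut D σ τ π ϖ η) (f : K ≃+* K)
  (G1 : Subgroup (GL D.Idx K))

include hA hW in
/-- all fixed elements of the root subgroup of a fixed root are products of commutators as soon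
as one non-trivial one is -/
theorem h8perf_fixed (rs p : ℕ) (hrs : rs < D.nroots) (hp : p < D.nroots) (hσ : σ rs = rs)
    (hKF : h8KF D p rs = 1 ∨ h8KF D p rs = -1)
    (hh : ∀ c : K, f c = c → h8hU D hB p c ∈ G1)
    (hfixG : ∀ g ∈ G1, h8Sig D σ τ π ϖ η hAut f g = g)
    (w0 : K) (hw0 : w0 ≠ 0) (h0 : h8xU D hB rs w0 ∈ ⁅G1, G1⁆) :
    ∀ w : K, h8xU D hB rs w ∈ G1 → h8xU D hB rs w ∈ ⁅G1, G1⁆ := by
  have hη0 : ((η rs : ℤ) : K) ≠ 0 := by
    rcases hAut.eta1 rs hrs with h | h <;> rw [h] <;> simp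
  have hfixw : ∀ w : K, h8xU D hB rs w ∈ G1 → ((η rs : ℤ) : K) * f w = w := by
    intro w hw
    have h1 := hfixG _ hw
    rw [h8Sig_xU D σ τ π ϖ η hAut f hB rs hrs, hσ] at h1
    exact h8xU_inj_t D hB hA hW rs hrs _ _ h1
  have e0 := hfixw w0 (h8comm_le_self G1 h0)
  intro w hw
  have e1 := hfixw w hw
  have hfc : f (w / w0) = w / w0 := by
    rw [map_div₀]
    have a1 : f w = w / ((η rs : ℤ) : K) := by
      rw [eq_div_iff hη0, mul_comm]
      exact e1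
    have a0 : f w0 = w0 / ((η rs : ℤ) : K) := by
      rw [eq_div_iff hη0, mul_comm]
      exact e0
    rw [a1, a0]
    field_simp
  rw [h8KF_eq D hA.ca p rs hrs] at hKF
  by_cases hwz : w = 0
  · rw [hwz, h8xU_zero]
    exact Subgroup.one_mem _
  have hc0 : w / w0 ≠ 0 := div_ne_zero hwz hw0
  rcases hKF with hk | hk
  · have := h8hU_conj D hB p rs hp hrs (w / w0) hc0 w0
    rw [hk, zpow_one, div_mul_cancel₀ _ hw0] at this
    rw [← this]
    exact h8comm_conj_mem G1 _ (hh _ hfc) _ h0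
  · have hfc' : f (w / w0)⁻¹ = (w / w0)⁻¹ := by rw [map_inv₀, hfc]
    have := h8hU_conj D hB p rs hp hrs (w / w0)⁻¹ (inv_ne_zero hc0) w0
    rw [hk, zpow_neg_one, inv_inv, div_mul_cancel₀ _ hw0] at this
    rw [← this]
    exact h8comm_conj_mem G1 _ (hh _ hfc') _ h0

end

section
variable (D : ChevalleyDatum) (hB : H8Base.{u} D) (hC : H8CommAll.{u} D)
  (G1 : Subgroup (GL D.Idx K))

include hC in
/-- a non-trivial commutator in the root subgroup of `r`: orbits of length two -/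
theorem h8perf_c1_2 [Fintype K] (q : ℕ) (hq1 : 1 < q) (hqK : q < Fintype.card K) (f : K ≃+* K)
    (hf : ∀ t, f t = t ^ q) (a1 a2 b1 b2 r : ℕ) (n : GL D.Idx K) (hn : n ∈ G1)
    (hact1 : H8Act D hB n a1 b1) (hact2 : H8Act D hB n a2 b2)
    (hP : ∀ t, h8xU D hB a1 t * h8xU D hB a2 (f t) ∈ G1)
    (hOK : ∀ a ∈ [a1, a2], ∀ b ∈ [b1, b2], h8czOK D b a r = true)
    (hcen : ∀ x ∈ [a1, a2, b1, b2], x < D.nroots ∧ x ≠ r ∧ x ≠ D.negIdx.getD r 0 ∧
      D.commTerms r x = [])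
    (hr : r < D.nroots)
    (hcz : h8cz D b2 a2 r = 0 ∧ (h8cz D b1 a2 r = 1 ∨ h8cz D b1 a2 r = -1)) :
    ∃ w0 : K, w0 ≠ 0 ∧ h8xU D hB r w0 ∈ ⁅G1, G1⁆ := by
  obtain ⟨c1, hc1, e1⟩ := hact1
  obtain ⟨c2, hc2, e2⟩ := hact2
  have hT : h8xU D hB b1 (c1 * 1) * h8xU D hB b2 (c2 * f 1) ∈ G1 := by
    rw [← e1, ← e2]
    have e : n * h8xU D hB a1 1 * n⁻¹ * (n * h8xU D hB a2 (f 1) * n⁻¹) =
        n * (h8xU D hB a1 1 * h8xU D hB a2 (f 1)) * n⁻¹ := by group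
    rw [e]
    exact Subgroup.mul_mem _ (Subgroup.mul_mem _ hn (hP 1)) (Subgroup.inv_mem _ hn)
  have hzc : ∀ (s : K) (x : ℕ), x ∈ [a1, a2, b1, b2] → ∀ v : K,
      Commute (h8xU D hB r s) (h8xU D hB x v) := by
    intro s x hx v
    obtain ⟨h1, h2, h3, h4⟩ := hcen x hx
    exact h8xU_commute D hB hC r x hr h1 h2 h3 h4 s v
  have hR : ∀ t : K, H8R (h8xU D hB a1 t * h8xU D hB a2 (f t))
      (h8xU D hB b1 (c1 * 1) * h8xU D hB b2 (c2 * f 1))
      (h8xU D hB r (((h8cz D b2 a1 r : ℤ) : K) * (-(c2 * f 1)) * t +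
        ((h8cz D b1 a1 r : ℤ) : K) * (-(c1 * 1)) * t +
        (((h8cz D b2 a2 r : ℤ) : K) * (-(c2 * f 1)) * f t +
          ((h8cz D b1 a2 r : ℤ) : K) * (-(c1 * 1)) * f t))) := by
    intro t
    have r11 := h8R_cz D hB hC b1 a1 r (hOK a1 (by simp) b1 (by simp)) (c1 * 1) t
    have r12 := h8R_cz D hB hC b2 a1 r (hOK a1 (by simp) b2 (by simp)) (c2 * f 1) t
    have r21 := h8R_cz D hB hC b1 a2 r (hOK a2 (by simp) b1 (by simp)) (c1 * 1) (f t)
    have r22 := h8R_cz D hB hC b2 a2 r (hOK a2 (by simp) b2 (by simp)) (c2 * f 1) (f t)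
    have := h8R_22 _ _ _ _ _ _ _ _ r11 r12 r21 r22 (by
      intro z hz
      rw [Subgroup.mem_centralizer_iff]
      intro g hg
      simp only [Set.mem_insert_iff, Set.mem_singleton_iff] at hg
      simp only [List.mem_cons, List.not_mem_nil, or_false] at hz
      rcases hz with rfl | rfl | rfl | rfl <;> rcases hg with rfl | rfl | rfl | rfl <;>
        exact ((hzc _ _ (by simp) _).eq).symm)
    rwa [h8xU_add D hB r hr, h8xU_add D hB r hr, h8xU_add D hB r hr] at this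
  obtain ⟨hz22, hz21⟩ := hcz
  have hγ : ((h8cz D b1 a2 r : ℤ) : K) * (-(c1 * 1)) ≠ 0 := by
    rcases hz21 with h | h <;> rw [h] <;> simp [hc1]
  obtain ⟨t, ht⟩ := h8nonroot2 q hq1 hqK
    (((h8cz D b2 a1 r : ℤ) : K) * (-(c2 * f 1)) + ((h8cz D b1 a1 r : ℤ) : K) * (-(c1 * 1)))
    (((h8cz D b1 a2 r : ℤ) : K) * (-(c1 * 1))) hγ
  have hmem := Subgroup.commutator_mem_commutator (Subgroup.inv_mem _ (hP t))
    (Subgroup.inv_mem _ hT)
  rw [← h8R_comm_elt _ _ _ (hR t)] at hmem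
  refine ⟨_, ?_, hmem⟩
  rw [hz22, hf t]
  intro h0
  apply ht
  rw [← h0]
  simp only [Int.cast_zero, zero_mul, zero_add]
  ring

include hC in
/-- a non-trivial commutator in the root subgroup of `r`: orbits of length three -/
theorem h8perf_c1_3 [Fintype K] (q : ℕ) (hq1 : 1 < q) (hqK : q ^ 2 < Fintype.card K)
    (f : K ≃+* K) (hf : ∀ t, f t = t ^ q) (a1 a2 a3 b1 b2 b3 r : ℕ) (n : GL D.Idx K)
    (hn : n ∈ G1)
    (hact1 : H8Act D hB n a1 b1) (hact2 : H8Act D hB n a2 b2) (hact3 : H8Act D hB n a3 b3)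
    (hP : ∀ t, h8xU D hB a1 t * h8xU D hB a2 (f t) * h8xU D hB a3 (f (f t)) ∈ G1)
    (hOK : ∀ a ∈ [a1, a2, a3], ∀ b ∈ [b1, b2, b3], h8czOK D b a r = true)
    (hcen : ∀ x ∈ [a1, a2, a3, b1, b2, b3], x < D.nroots ∧ x ≠ r ∧ x ≠ D.negIdx.getD r 0 ∧
      D.commTerms r x = [])
    (hr : r < D.nroots)
    (hcz : h8cz D b1 a3 r = 0 ∧ h8cz D b2 a3 r = 0 ∧
      (h8cz D b3 a3 r = 1 ∨ h8cz D b3 a3 r = -1)) :
    ∃ w0 : K, w0 ≠ 0 ∧ h8xU D hB r w0 ∈ ⁅G1, G1⁆ := by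
  obtain ⟨c1, hc1, e1⟩ := hact1
  obtain ⟨c2, hc2, e2⟩ := hact2
  obtain ⟨c3, hc3, e3⟩ := hact3
  have hT : h8xU D hB b1 (c1 * 1) * h8xU D hB b2 (c2 * f 1) * h8xU D hB b3 (c3 * f (f 1)) ∈
      G1 := by
    rw [← e1, ← e2, ← e3]
    have e : n * h8xU D hB a1 1 * n⁻¹ * (n * h8xU D hB a2 (f 1) * n⁻¹) *
        (n * h8xU D hB a3 (f (f 1)) * n⁻¹) =
        n * (h8xU D hB a1 1 * h8xU D hB a2 (f 1) * h8xU D hB a3 (f (f 1))) * n⁻¹ := by group
    rw [e]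
    exact Subgroup.mul_mem _ (Subgroup.mul_mem _ hn (hP 1)) (Subgroup.inv_mem _ hn)
  have hzc : ∀ (s : K) (x : ℕ), x ∈ [a1, a2, a3, b1, b2, b3] → ∀ v : K,
      Commute (h8xU D hB r s) (h8xU D hB x v) := by
    intro s x hx v
    obtain ⟨h1, h2, h3, h4⟩ := hcen x hx
    exact h8xU_commute D hB hC r x hr h1 h2 h3 h4 s v
  have hR : ∀ t : K, H8R (h8xU D hB a1 t * h8xU D hB a2 (f t) * h8xU D hB a3 (f (f t)))
      (h8xU D hB b1 (c1 * 1) * h8xU D hB b2 (c2 * f 1) * h8xU D hB b3 (c3 * f (f 1)))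
      (h8xU D hB r
        (((h8cz D b3 a1 r : ℤ) : K) * (-(c3 * f (f 1))) * t +
          (((h8cz D b2 a1 r : ℤ) : K) * (-(c2 * f 1)) * t +
            ((h8cz D b1 a1 r : ℤ) : K) * (-(c1 * 1)) * t) +
        (((h8cz D b3 a2 r : ℤ) : K) * (-(c3 * f (f 1))) * f t +
          (((h8cz D b2 a2 r : ℤ) : K) * (-(c2 * f 1)) * f t +
            ((h8cz D b1 a2 r : ℤ) : K) * (-(c1 * 1)) * f t)) +
        (((h8cz D b3 a3 r : ℤ) : K) * (-(c3 * f (f 1))) * f (f t) +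
          (((h8cz D b2 a3 r : ℤ) : K) * (-(c2 * f 1)) * f (f t) +
            ((h8cz D b1 a3 r : ℤ) : K) * (-(c1 * 1)) * f (f t))))) := by
    intro t
    have r11 := h8R_cz D hB hC b1 a1 r (hOK a1 (by simp) b1 (by simp)) (c1 * 1) t
    have r12 := h8R_cz D hB hC b2 a1 r (hOK a1 (by simp) b2 (by simp)) (c2 * f 1) t
    have r13 := h8R_cz D hB hC b3 a1 r (hOK a1 (by simp) b3 (by simp)) (c3 * f (f 1)) t
    have r21 := h8R_cz D hB hC b1 a2 r (hOK a2 (by simp) b1 (by simp)) (c1 * 1) (f t)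
    have r22 := h8R_cz D hB hC b2 a2 r (hOK a2 (by simp) b2 (by simp)) (c2 * f 1) (f t)
    have r23 := h8R_cz D hB hC b3 a2 r (hOK a2 (by simp) b3 (by simp)) (c3 * f (f 1)) (f t)
    have r31 := h8R_cz D hB hC b1 a3 r (hOK a3 (by simp) b1 (by simp)) (c1 * 1) (f (f t))
    have r32 := h8R_cz D hB hC b2 a3 r (hOK a3 (by simp) b2 (by simp)) (c2 * f 1) (f (f t))
    have r33 := h8R_cz D hB hC b3 a3 r (hOK a3 (by simp) b3 (by simp)) (c3 * f (f 1))
      (f (f t))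
    have := h8R_33 _ _ _ _ _ _ _ _ _ _ _ _ _ _ _ r11 r12 r13 r21 r22 r23 r31 r32 r33 (by
      intro z hz
      rw [Subgroup.mem_centralizer_iff]
      intro g hg
      simp only [Set.mem_insert_iff, Set.mem_singleton_iff] at hg
      simp only [List.mem_cons, List.not_mem_nil, or_false] at hz
      rcases hz with rfl | rfl | rfl | rfl | rfl | rfl | rfl | rfl | rfl <;>
        rcases hg with rfl | rfl | rfl | rfl | rfl | rfl <;>
        exact ((hzc _ _ (by simp) _).eq).symm)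
    simpa only [h8xU_add D hB r hr] using this
  obtain ⟨hz31, hz32, hz33⟩ := hcz
  have hγ : ((h8cz D b3 a3 r : ℤ) : K) * (-(c3 * f (f 1))) ≠ 0 := by
    rw [map_one, map_one]
    rcases hz33 with h | h <;> rw [h] <;> simp [hc3]
  have hq2 : q < q ^ 2 := by nlinarith
  obtain ⟨t, ht⟩ := h8nonroot3 q (q ^ 2) hq1 hq2 hqK
    (((h8cz D b3 a1 r : ℤ) : K) * (-(c3 * f (f 1))) +
      (((h8cz D b2 a1 r : ℤ) : K) * (-(c2 * f 1)) + ((h8cz D b1 a1 r : ℤ) : K) * (-(c1 * 1))))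
    (((h8cz D b3 a2 r : ℤ) : K) * (-(c3 * f (f 1))) +
      (((h8cz D b2 a2 r : ℤ) : K) * (-(c2 * f 1)) + ((h8cz D b1 a2 r : ℤ) : K) * (-(c1 * 1))))
    (((h8cz D b3 a3 r : ℤ) : K) * (-(c3 * f (f 1)))) hγ
  have hmem := Subgroup.commutator_mem_commutator (Subgroup.inv_mem _ (hP t))
    (Subgroup.inv_mem _ hT)
  rw [← h8R_comm_elt _ _ _ (hR t)] at hmem
  refine ⟨_, ?_, hmem⟩
  have hfft : f (f t) = t ^ (q ^ 2) := by rw [hf, hf, ← pow_mul, sq]
  rw [hz31, hz32, hfft, hf t]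
  intro h0
  apply ht
  rw [← h0]
  simp only [Int.cast_zero, zero_mul, add_zero]
  ring

end

end Cfsg.Agent.Lib.helper8
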