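import Mathlib
import Cfsg.Prelude.Def_ChevStructure
import Cfsg.Prelude.Def_ChevWords
import Cfsg.Agent.Lib.helper8.ChevTwP4

set_option autoImplicit false

namespace Cfsg.Agent.Lib.helper8

open Cfsg.Lie Cfsg.Lie.ChevalleyDatum

universe u

variable {K : Type u} [Field K]

section
variable (D : ChevalleyDatum) (hB : H8Base.{u} D)

open Classical in
/-- the scalar by which an element normalizing the root subgroup of `r` acts on it -/
noncomputable def h8chi (k : GL D.Idx K) (r : ℕ) : K :=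
  if h : ∃ c : K, c ≠ 0 ∧ ∀ t, k * h8xU D hB r t * k⁻¹ = h8xU D hB r (c * t) then
    Classical.choose h else 1

theorem h8chi_spec (k : GL D.Idx K) (hk : k ∈ D.diagonalSubgroup K) (r : ℕ) (hr : r < D.nroots) :
    h8chi D hB k r ≠ 0 ∧ ∀ t, k * h8xU D hB r t * k⁻¹ = h8xU D hB r (h8chi D hB k r * t) := by
  have h : ∃ c : K, c ≠ 0 ∧ ∀ t, k * h8xU D hB r t * k⁻¹ = h8xU D hB r (c * t) :=
    h8perm_H_id D hB k hk r hr
  unfold h8chi
  rw [dif_pos h]
  exact Classical.choose_spec h

variable (hA : H8ReflAll D) (hW : H8BN2 D)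

include hA hW in
theorem h8chi_unique (k : GL D.Idx K) (hk : k ∈ D.diagonalSubgroup K) (r : ℕ) (hr : r < D.nroots)
    (c : K) (hc : k * h8xU D hB r 1 * k⁻¹ = h8xU D hB r c) : h8chi D hB k r = c := by
  have h := (h8chi_spec D hB k hk r hr).2 1
  rw [hc, mul_one] at h
  exact (h8xU_inj_t D hB hA hW r hr _ _ h).symm

include hA hW in
theorem h8chi_mul (k k' : GL D.Idx K) (hk : k ∈ D.diagonalSubgroup K)
    (hk' : k' ∈ D.diagonalSubgroup K) (r : ℕ) (hr : r < D.nroots) :
    h8chi D hB (k * k') r = h8chi D hB k r * h8chi D hB k' r := by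
  apply h8chi_unique D hB hA hW _ (Subgroup.mul_mem _ hk hk') r hr
  have e : k * k' * h8xU D hB r 1 * (k * k')⁻¹ = k * (k' * h8xU D hB r 1 * k'⁻¹) * k⁻¹ := by
    group
  rw [e, (h8chi_spec D hB k' hk' r hr).2, (h8chi_spec D hB k hk r hr).2, mul_one]

include hA hW in
theorem h8chi_one (r : ℕ) (hr : r < D.nroots) : h8chi D hB (1 : GL D.Idx K) r = 1 := by
  apply h8chi_unique D hB hA hW _ (Subgroup.one_mem _) r hr
  group

include hA hW in
theorem h8chi_inv (k : GL D.Idx K) (hk : k ∈ D.diagonalSubgroup K) (r : ℕ) (hr : r < D.nroots) :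
    h8chi D hB k⁻¹ r = (h8chi D hB k r)⁻¹ := by
  have h := h8chi_mul D hB hA hW k k⁻¹ hk (Subgroup.inv_mem _ hk) r hr
  rw [mul_inv_cancel, h8chi_one D hB hA hW r hr] at h
  exact eq_inv_of_mul_eq_one_right h.symm

include hA hW in
theorem h8chi_neg (k : GL D.Idx K) (hk : k ∈ D.diagonalSubgroup K) (r : ℕ) (hr : r < D.nroots) :
    h8chi D hB k (D.negIdx.getD r 0) = (h8chi D hB k r)⁻¹ := by
  obtain ⟨c, hc, h1, h2⟩ := h8actN_T D hB hW.neglt k hk r hr
  have e1 := h8chi_unique D hB hA hW k hk r hr (c * 1) (h1 1)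
  have e2 := h8chi_unique D hB hA hW k hk _ (hW.neglt r hr) (c⁻¹ * 1) (h2 1)
  rw [e1, e2, mul_one, mul_one]

include hA hW in
theorem h8chi_hU (s : ℕ) (hs : s < D.nroots) (c : K) (hc : c ≠ 0) (r : ℕ) (hr : r < D.nroots) :
    h8chi D hB (h8hU D hB s c) r = c ^ (h8K D s r) := by
  apply h8chi_unique D hB hA hW _ (h8hU_mem_H D hB s hs c hc) r hr
  rw [h8hU_conj D hB s r hs hr c hc, mul_one]

variable (σ τ π ϖ : ℕ → ℕ) (η : ℕ → ℤ) (hAut : H8Aut D σ τ π ϖ η) (f : K ≃+* K)

include hA hW in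
/-- the characters of a fixed element of `H` are compatible with the twist -/
theorem h8chi_sig (k : GL D.Idx K) (hk : k ∈ D.diagonalSubgroup K)
    (hfix : h8Sig D σ τ π ϖ η hAut f k = k) (r : ℕ) (hr : r < D.nroots) :
    h8chi D hB k (σ r) = f (h8chi D hB k r) := by
  have hη0 : ((η r : ℤ) : K) ≠ 0 := by
    rcases hAut.eta1 r hr with h | h <;> rw [h] <;> simp
  have hσr : σ r < D.nroots := hAut.lt r hr
  have h1 := congrArg (h8Sig D σ τ π ϖ η hAut f) ((h8chi_spec D hB k hk r hr).2 (f.symm (((η r : ℤ) : K)⁻¹)))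
  rw [map_mul, map_mul, map_inv, hfix, h8Sig_xU D σ τ π ϖ η hAut f hB r hr,
    h8Sig_xU D σ τ π ϖ η hAut f hB r hr, map_mul, RingEquiv.apply_symm_apply,
    mul_inv_cancel₀ hη0] at h1
  apply h8chi_unique D hB hA hW k hk (σ r) hσr
  rw [h1]
  congr 1
  rw [mul_comm (f _), ← mul_assoc, mul_inv_cancel₀ hη0, one_mul]

end

/-- the centre of a non-commutative simple group is trivial -/
theorem h8center_trivial {G : Type*} [Group G] (hs : IsSimpleGroup G) (hnc : ¬ IsMulCommutative G)
    (z : G) (hz : ∀ g : G, z * g = g * z) : z = 1 := by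
  have hzc : z ∈ Subgroup.center G := by
    rw [Subgroup.mem_center_iff]
    intro g
    exact (hz g).symm
  rcases hs.eq_bot_or_eq_top_of_normal (Subgroup.center G) inferInstance with h | h
  · rw [h, Subgroup.mem_bot] at hzc
    exact hzc
  · exfalso
    apply hnc
    rw [isMulCommutative_iff]
    intro a b
    have ha : a ∈ Subgroup.center G := by rw [h]; exact Subgroup.mem_top a
    exact (Subgroup.mem_center_iff.mp ha b).symm

/-- an element of a subgroup generated by words which commutes with the generating words and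
lies in the subgroup is central -/
theorem h8gen_central (D : ChevalleyDatum) (hB : H8Base.{u} D) (S : Set (List (ℕ × K)))
    (z : GL D.Idx K) (hz : ∀ w ∈ S, z * h8wordU D hB w = h8wordU D hB w * z) :
    ∀ g ∈ D.genSubgroup K S, z * g = g * z := by
  have hle : D.genSubgroup K S ≤ Subgroup.centralizer ({z} : Set (GL D.Idx K)) := by
    conv_lhs => unfold ChevalleyDatum.genSubgroup
    rw [Subgroup.closure_le]
    rintro g ⟨w, hw, hg⟩
    have hg' : g = h8wordU D hB w := Units.ext (hg.trans (h8wordU_val D hB w).symm)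
    rw [hg']
    show h8wordU D hB w ∈ Subgroup.centralizer ({z} : Set (GL D.Idx K))
    rw [Subgroup.mem_centralizer_iff]
    intro x hx
    rw [Set.mem_singleton_iff] at hx
    rw [hx]
    exact hz w hw
  intro g hg
  have := hle hg
  rw [Subgroup.mem_centralizer_iff] at this
  exact this z rfl

end Cfsg.Agent.Lib.helper8
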