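import Mathlib
import Cfsg.Prelude.Def_LieExceptional
import Cfsg.Agent.Lib.helper8.H3WLen

set_option autoImplicit false

namespace Cfsg.Agent.Lib.helper8.H3

open DoubleCoset

variable {G : Type*} [Group G] (P : Cfsg.BNPair G)

def dc (g : G) : Set G := doubleCoset g (P.B : Set G) (P.B : Set G)

variable {P}

theorem mem_dc {g x : G} : x ∈ dc P g ↔ ∃ b ∈ P.B, ∃ b' ∈ P.B, x = b * g * b' := by
  unfold dc
  rw [mem_doubleCoset]
  rfl

theorem dc_self (g : G) : g ∈ dc P g := mem_doubleCoset_self _ _ g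

theorem dc_eq_of_mem {g x : G} (h : x ∈ dc P g) : dc P x = dc P g := doubleCoset_eq_of_mem h

theorem mem_dc_of_dc_eq {g x : G} (h : dc P x = dc P g) : x ∈ dc P g := h ▸ dc_self x

theorem dc_mul_left {g x b : G} (hb : b ∈ P.B) (h : x ∈ dc P g) : b * x ∈ dc P g := by
  obtain ⟨b₁, h₁, b₂, h₂, rfl⟩ := mem_dc.1 h
  exact mem_dc.2 ⟨b * b₁, P.B.mul_mem hb h₁, b₂, h₂, by group⟩

theorem dc_mul_right {g x b : G} (hb : b ∈ P.B) (h : x ∈ dc P g) : x * b ∈ dc P g := by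
  obtain ⟨b₁, h₁, b₂, h₂, rfl⟩ := mem_dc.1 h
  exact mem_dc.2 ⟨b₁, h₁, b₂ * b, P.B.mul_mem h₂ hb, by group⟩

theorem dc_inv {g x : G} (h : x ∈ dc P g) : x⁻¹ ∈ dc P g⁻¹ := by
  obtain ⟨b₁, h₁, b₂, h₂, rfl⟩ := mem_dc.1 h
  exact mem_dc.2 ⟨b₂⁻¹, P.B.inv_mem h₂, b₁⁻¹, P.B.inv_mem h₁, by group⟩

theorem dc_of_mem_B {b : G} (hb : b ∈ P.B) : dc P b = (P.B : Set G) := by
  ext x
  constructor
  · intro h
    obtain ⟨b₁, h₁, b₂, h₂, rfl⟩ := mem_dc.1 h
    exact P.B.mul_mem (P.B.mul_mem h₁ hb) h₂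
  · intro h
    exact mem_dc.2 ⟨x * b⁻¹, P.B.mul_mem h (P.B.inv_mem hb), 1, P.B.one_mem, by group⟩

theorem dc_one : dc P (1 : G) = (P.B : Set G) := dc_of_mem_B P.B.one_mem

theorem dc_mul_B {g b : G} (hb : b ∈ P.B) : dc P (g * b) = dc P g :=
  dc_eq_of_mem (dc_mul_right hb (dc_self g))

theorem dc_B_mul {g b : G} (hb : b ∈ P.B) : dc P (b * g) = dc P g :=
  dc_eq_of_mem (dc_mul_left hb (dc_self g))

theorem dc_subset_of_mem {M : Subgroup G} (hM : P.B ≤ M) {g x : G} (hx : x ∈ dc P g) (hxM : x ∈ M) :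
    g ∈ M := by
  obtain ⟨b₁, h₁, b₂, h₂, rfl⟩ := mem_dc.1 hx
  have : g = b₁⁻¹ * (b₁ * g * b₂) * b₂⁻¹ := by group
  rw [this]
  exact M.mul_mem (M.mul_mem (M.inv_mem (hM h₁)) hxM) (M.inv_mem (hM h₂))

theorem mem_of_mem_dc {M : Subgroup G} (hM : P.B ≤ M) {g x : G} (hx : x ∈ dc P g) (hg : g ∈ M) :
    x ∈ M := by
  obtain ⟨b₁, h₁, b₂, h₂, rfl⟩ := mem_dc.1 hx
  exact M.mul_mem (M.mul_mem (hM h₁) hg) (hM h₂)

/-! ### basic facts about `S`, `H = B ⊓ N` -/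

theorem S_mem_N {s : G} (hs : s ∈ P.S) : s ∈ P.N := P.subset hs

theorem sq_mem_H {s : G} (hs : s ∈ P.S) : s * s ∈ P.B ⊓ P.N :=
  ⟨P.sq_mem s hs, P.N.mul_mem (S_mem_N hs) (S_mem_N hs)⟩

theorem conj_mem_B {n t : G} (hn : n ∈ P.N) (ht : t ∈ P.B) (ht' : t ∈ P.N) : n * t * n⁻¹ ∈ P.B :=
  P.conj_mem n hn t ⟨ht, ht'⟩

theorem conj_mem_B' {n t : G} (hn : n ∈ P.N) (ht : t ∈ P.B) (ht' : t ∈ P.N) : n⁻¹ * t * n ∈ P.B := by
  have := P.conj_mem n⁻¹ (P.N.inv_mem hn) t ⟨ht, ht'⟩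
  simpa using this

theorem dc_sinv_mul {s n : G} (hs : s ∈ P.S) (hn : n ∈ P.N) : dc P (s⁻¹ * n) = dc P (s * n) := by
  have h1 : s⁻¹ * n = s * n * (n⁻¹ * (s * s)⁻¹ * n) := by group
  rw [h1]
  apply dc_mul_B
  exact conj_mem_B' hn (P.B.inv_mem (sq_mem_H hs).1) (P.N.inv_mem (sq_mem_H hs).2)

theorem dc_mul_sinv {s n : G} (hs : s ∈ P.S) : dc P (n * s⁻¹) = dc P (n * s) := by
  have h1 : n * s⁻¹ = n * s * (s * s)⁻¹ := by group
  rw [h1]
  exact dc_mul_B (P.B.inv_mem (sq_mem_H hs).1)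

theorem t3 {s n b : G} (hs : s ∈ P.S) (hn : n ∈ P.N) (hb : b ∈ P.B) :
    s * b * n ∈ dc P (s * n) ∪ dc P n := P.mul_mem_union s hs n hn b hb

theorem t3_inv {s n b : G} (hs : s ∈ P.S) (hn : n ∈ P.N) (hb : b ∈ P.B) :
    s⁻¹ * b * n ∈ dc P (s⁻¹ * n) ∪ dc P n := by
  have h1 : s⁻¹ * b * n = s * ((s * s)⁻¹ * b) * n := by group
  rw [h1, dc_sinv_mul hs hn]
  exact t3 hs hn (P.B.mul_mem (P.B.inv_mem (sq_mem_H hs).1) hb)

theorem t3_right {s n b : G} (hs : s ∈ P.S) (hn : n ∈ P.N) (hb : b ∈ P.B) :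
    n * b * s ∈ dc P (n * s) ∪ dc P n := by
  have h := t3_inv hs (P.N.inv_mem hn) (P.B.inv_mem hb)
  rcases h with h | h
  · left
    have := dc_inv h
    simpa [mul_assoc] using this
  · right
    have := dc_inv h
    simpa [mul_assoc] using this

theorem t3_right_inv {s n b : G} (hs : s ∈ P.S) (hn : n ∈ P.N) (hb : b ∈ P.B) :
    n * b * s⁻¹ ∈ dc P (n * s⁻¹) ∪ dc P n := by
  have h := t3 hs (P.N.inv_mem hn) (P.B.inv_mem hb)
  rcases h with h | h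
  · left
    have := dc_inv h
    simpa [mul_assoc] using this
  · right
    have := dc_inv h
    simpa [mul_assoc] using this

/-- closure-stability lemma -/
theorem closure_mul_mem {X : Set G} {T : Set G}
    (h : ∀ t ∈ T, ∀ x ∈ X, t * x ∈ X ∧ t⁻¹ * x ∈ X) {g : G} (hg : g ∈ Subgroup.closure T) :
    ∀ x ∈ X, g * x ∈ X ∧ g⁻¹ * x ∈ X := by
  induction hg using Subgroup.closure_induction with
  | mem t ht => exact h t ht
  | one => intro x hx; simpa using hx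
  | mul a b _ _ ha hb =>
    intro x hx
    constructor
    · rw [mul_assoc]; exact (ha _ (hb x hx).1).1
    · rw [mul_inv_rev, mul_assoc]; exact (hb _ (ha x hx).2).2
  | inv a _ ha =>
    intro x hx
    rw [inv_inv]
    exact ⟨(ha x hx).2, (ha x hx).1⟩

theorem N_eq_closure : Subgroup.closure (P.S ∪ ((P.B ⊓ P.N : Subgroup G) : Set G)) = P.N := by
  rw [Subgroup.closure_union, Subgroup.closure_eq]
  exact P.closure_sup

theorem top_eq_closure : Subgroup.closure ((P.B : Set G) ∪ P.S) = ⊤ := by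
  rw [eq_top_iff, ← P.sup_eq_top]
  apply sup_le
  · rw [Subgroup.closure_union, Subgroup.closure_eq]; exact le_sup_left
  · rw [← P.closure_sup]
    apply sup_le
    · exact Subgroup.closure_mono Set.subset_union_right
    · refine le_trans inf_le_left ?_
      rw [Subgroup.closure_union, Subgroup.closure_eq]; exact le_sup_left

/-- `⋃ n ∈ closure J, B n B` is stable under left multiplication by `B` and `J`. -/
theorem union_dc_stable {J : Set G} (hJ : J ⊆ P.S) :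
    ∀ t ∈ (P.B : Set G) ∪ J, ∀ x ∈ {x : G | ∃ n ∈ Subgroup.closure J, x ∈ dc P n},
      t * x ∈ {x : G | ∃ n ∈ Subgroup.closure J, x ∈ dc P n} ∧
      t⁻¹ * x ∈ {x : G | ∃ n ∈ Subgroup.closure J, x ∈ dc P n} := by
  have hJN : Subgroup.closure J ≤ P.N := by
    rw [Subgroup.closure_le]; exact fun s hs => P.subset (hJ hs)
  intro t ht x hx
  obtain ⟨n, hn, hxn⟩ := hx
  rcases ht with ht | ht
  · exact ⟨⟨n, hn, dc_mul_left ht hxn⟩, ⟨n, hn, dc_mul_left (P.B.inv_mem ht) hxn⟩⟩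
  · obtain ⟨b₁, h₁, b₂, h₂, rfl⟩ := mem_dc.1 hxn
    constructor
    · have := t3 (hJ ht) (hJN hn) h₁
      have e : t * (b₁ * n * b₂) = (t * b₁ * n) * b₂ := by group
      rw [e]
      rcases this with h | h
      · exact ⟨t * n, Subgroup.mul_mem _ (Subgroup.subset_closure ht) hn, dc_mul_right h₂ h⟩
      · exact ⟨n, hn, dc_mul_right h₂ h⟩
    · have := t3_inv (hJ ht) (hJN hn) h₁
      have e : t⁻¹ * (b₁ * n * b₂) = (t⁻¹ * b₁ * n) * b₂ := by group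
      rw [e]
      rcases this with h | h
      · exact ⟨t⁻¹ * n, Subgroup.mul_mem _ (Subgroup.inv_mem _ (Subgroup.subset_closure ht)) hn,
          dc_mul_right h₂ h⟩
      · exact ⟨n, hn, dc_mul_right h₂ h⟩

theorem mem_parabolic_iff {J : Set G} (hJ : J ⊆ P.S) (g : G) :
    g ∈ P.parabolic J ↔ ∃ n ∈ Subgroup.closure J, g ∈ dc P n := by
  constructor
  · intro hg
    have hg' : g ∈ Subgroup.closure ((P.B : Set G) ∪ J) := by
      rw [Subgroup.closure_union, Subgroup.closure_eq]; exact hg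
    have := (closure_mul_mem (union_dc_stable hJ) hg' 1
      ⟨1, Subgroup.one_mem _, by rw [dc_one]; exact P.B.one_mem⟩).1
    simpa using this
  · rintro ⟨n, hn, hg⟩
    obtain ⟨b₁, h₁, b₂, h₂, rfl⟩ := mem_dc.1 hg
    have hB : P.B ≤ P.parabolic J := le_sup_left
    have hn' : n ∈ P.parabolic J := (le_sup_right : Subgroup.closure J ≤ P.parabolic J) hn
    exact Subgroup.mul_mem _ (Subgroup.mul_mem _ (hB h₁) hn') (hB h₂)

theorem parabolic_S : P.parabolic P.S = ⊤ := by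
  rw [eq_top_iff, ← P.sup_eq_top]
  apply sup_le le_sup_left
  rw [← P.closure_sup]
  exact sup_le le_sup_right (le_trans inf_le_left le_sup_left)

theorem closure_S_le_N {J : Set G} (hJ : J ⊆ P.S) : Subgroup.closure J ≤ P.N := by
  rw [Subgroup.closure_le]; exact fun s hs => P.subset (hJ hs)

theorem bruhat (g : G) : ∃ n ∈ P.N, g ∈ dc P n := by
  have : g ∈ P.parabolic P.S := by rw [parabolic_S]; trivial
  obtain ⟨n, hn, hg⟩ := (mem_parabolic_iff (le_refl _) g).1 this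
  exact ⟨n, closure_S_le_N (le_refl _) hn, hg⟩

end Cfsg.Agent.Lib.helper8.H3
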