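import Mathlib
import Cfsg.Prelude.Def_LieExceptional
import Cfsg.Agent.Lib.helper8.H3WLen
import Cfsg.Agent.Lib.helper8.H3BNPair

set_option autoImplicit false

namespace Cfsg.Agent.Lib.helper8.H3

open DoubleCoset Classical

variable {G : Type*} [Group G] (P : Cfsg.BNPair G)

instance instNormalH : ((P.B ⊓ P.N).subgroupOf P.N).Normal := by
  constructor
  intro n hn g
  rw [Subgroup.mem_subgroupOf] at hn ⊢
  refine ⟨?_, (g * n * g⁻¹).2⟩
  have := P.conj_mem g g.2 n hn
  simpa using this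

abbrev Weyl : Type _ := P.N ⧸ (P.B ⊓ P.N).subgroupOf P.N

noncomputable def projG (g : G) : Weyl P :=
  if h : g ∈ P.N then (QuotientGroup.mk (⟨g, h⟩ : P.N) : Weyl P) else 1

variable {P}

theorem projG_of_mem {g : G} (h : g ∈ P.N) : projG P g = (QuotientGroup.mk (⟨g, h⟩ : P.N) : Weyl P) := by
  unfold projG
  rw [dif_pos h]

theorem projG_one : projG P (1 : G) = 1 := by
  rw [projG_of_mem P.N.one_mem]
  rfl

theorem projG_mul {g g' : G} (hg : g ∈ P.N) (hg' : g' ∈ P.N) :
    projG P (g * g') = projG P g * projG P g' := by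
  rw [projG_of_mem hg, projG_of_mem hg', projG_of_mem (P.N.mul_mem hg hg')]
  rfl

theorem projG_inv {g : G} (hg : g ∈ P.N) : projG P g⁻¹ = (projG P g)⁻¹ := by
  rw [projG_of_mem hg, projG_of_mem (P.N.inv_mem hg)]
  rfl

theorem projG_eq_iff {g g' : G} (hg : g ∈ P.N) (hg' : g' ∈ P.N) :
    projG P g = projG P g' ↔ g⁻¹ * g' ∈ P.B := by
  rw [projG_of_mem hg, projG_of_mem hg', QuotientGroup.eq, Subgroup.mem_subgroupOf]
  constructor
  · intro h; exact h.1
  · intro h; exact ⟨h, P.N.mul_mem (P.N.inv_mem hg) hg'⟩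

theorem projG_eq_one_iff {g : G} (hg : g ∈ P.N) : projG P g = 1 ↔ g ∈ P.B := by
  rw [← projG_one, projG_eq_iff hg P.N.one_mem]
  constructor
  · intro h
    have := P.B.inv_mem h
    simpa using this
  · intro h
    simpa using P.B.inv_mem h

theorem projG_surj (w : Weyl P) : ∃ n ∈ P.N, projG P n = w := by
  obtain ⟨⟨n, hn⟩, rfl⟩ := QuotientGroup.mk_surjective w
  exact ⟨n, hn, projG_of_mem hn⟩

variable (P) in
def TW : Set (Weyl P) := projG P '' P.S

theorem TW_sq : ∀ t ∈ TW P, t * t = 1 := by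
  rintro t ⟨s, hs, rfl⟩
  rw [← projG_mul (S_mem_N hs) (S_mem_N hs), projG_eq_one_iff (P.N.mul_mem (S_mem_N hs) (S_mem_N hs))]
  exact P.sq_mem s hs

theorem projG_mem_closure {g : G} (hg : g ∈ Subgroup.closure (P.S ∪ ((P.B ⊓ P.N : Subgroup G) : Set G))) :
    projG P g ∈ Subgroup.closure (TW P) := by
  induction hg using Subgroup.closure_induction with
  | mem x hx =>
    rcases hx with hx | hx
    · exact Subgroup.subset_closure ⟨x, hx, rfl⟩
    · have : projG P x = 1 := (projG_eq_one_iff hx.2).2 hx.1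
      rw [this]; exact Subgroup.one_mem _
  | one => rw [projG_one]; exact Subgroup.one_mem _
  | mul x y hx hy ihx ihy =>
    rw [N_eq_closure] at hx hy
    rw [projG_mul hx hy]
    exact Subgroup.mul_mem _ ihx ihy
  | inv x hx ihx =>
    rw [N_eq_closure] at hx
    rw [projG_inv hx]
    exact Subgroup.inv_mem _ ihx

theorem TW_closure : Subgroup.closure (TW P) = ⊤ := by
  rw [eq_top_iff]
  intro w _
  obtain ⟨n, hn, rfl⟩ := projG_surj w
  apply projG_mem_closure
  rw [N_eq_closure]; exact hn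

theorem projG_mem_closure_image {J : Set G} (hJ : J ⊆ P.S) {g : G} (hg : g ∈ Subgroup.closure J) :
    projG P g ∈ Subgroup.closure (projG P '' J) := by
  induction hg using Subgroup.closure_induction with
  | mem x hx => exact Subgroup.subset_closure ⟨x, hx, rfl⟩
  | one => rw [projG_one]; exact Subgroup.one_mem _
  | mul x y hx hy ihx ihy =>
    rw [projG_mul (closure_S_le_N hJ hx) (closure_S_le_N hJ hy)]
    exact Subgroup.mul_mem _ ihx ihy
  | inv x hx ihx =>
    rw [projG_inv (closure_S_le_N hJ hx)]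
    exact Subgroup.inv_mem _ ihx

theorem dc_eq_of_projG_eq {n n' : G} (hn : n ∈ P.N) (hn' : n' ∈ P.N) (h : projG P n = projG P n') :
    dc P n = dc P n' := by
  have h' := (projG_eq_iff hn hn').1 h
  have : n' = n * (n⁻¹ * n') := by group
  rw [this, dc_mul_B h']

theorem projG_inj_S {s s' : G} (hs : s ∈ P.S) (hs' : s' ∈ P.S) (h : projG P s = projG P s') : s = s' :=
  P.inj s hs s' hs' ((projG_eq_iff (S_mem_N hs) (S_mem_N hs')).1 h)

theorem projG_sinv {s : G} (hs : s ∈ P.S) : projG P s⁻¹ = projG P s := by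
  rw [projG_inv (S_mem_N hs)]
  exact inv_eq_of_mul_eq_one_left (TW_sq _ ⟨s, hs, rfl⟩)

variable (P) in
noncomputable def lenN (n : G) : ℕ := wlen (TW P) (projG P n)

theorem list_prod_mem_N {L : List G} (hL : ∀ s ∈ L, s ∈ P.S) : L.prod ∈ P.N :=
  Subgroup.list_prod_mem _ (fun s hs => S_mem_N (hL s hs))

theorem projG_list_prod {L : List G} (hL : ∀ s ∈ L, s ∈ P.S) :
    projG P L.prod = (L.map (projG P)).prod := by
  induction L with
  | nil => simp [projG_one]
  | cons a L ih =>
    have hL' : ∀ s ∈ L, s ∈ P.S := fun s hs => hL s (List.mem_cons_of_mem _ hs)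
    rw [List.prod_cons, projG_mul (S_mem_N (hL a List.mem_cons_self)) (list_prod_mem_N hL'),
      List.map_cons, List.prod_cons, ih hL']

theorem exists_lift {J : Set G} (Lw : List (Weyl P)) (h : ∀ x ∈ Lw, x ∈ projG P '' J) :
    ∃ L : List G, (∀ s ∈ L, s ∈ J) ∧ L.map (projG P) = Lw := by
  induction Lw with
  | nil => exact ⟨[], by simp, rfl⟩
  | cons a Lw ih =>
    obtain ⟨L, hL, hm⟩ := ih (fun x hx => h x (List.mem_cons_of_mem _ hx))
    obtain ⟨s, hs, rfl⟩ := h a List.mem_cons_self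
    refine ⟨s :: L, ?_, by simp [hm]⟩
    intro x hx
    rcases List.mem_cons.1 hx with h | h
    · exact h ▸ hs
    · exact hL x h

theorem exists_reduced_word {n : G} (hn : n ∈ P.N) :
    ∃ L : List G, (∀ s ∈ L, s ∈ P.S) ∧ projG P L.prod = projG P n ∧ L.length = lenN P n := by
  obtain ⟨Lw, hLw, hp, hlen⟩ := exists_reduced TW_sq TW_closure (projG P n)
  obtain ⟨L, hL, rfl⟩ := exists_lift Lw hLw
  refine ⟨L, hL, ?_, by unfold lenN; simpa using hlen⟩
  rw [projG_list_prod hL, hp]

theorem S_not_mem_B {s : G} (hs : s ∈ P.S) : s ∉ P.B := by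
  intro h
  apply P.conj_ne s hs
  ext x
  constructor
  · rintro ⟨b, hb, rfl⟩
    exact P.B.mul_mem (P.B.mul_mem h hb) h
  · intro hx
    exact ⟨s⁻¹ * x * s⁻¹, P.B.mul_mem (P.B.mul_mem (P.B.inv_mem h) hx) (P.B.inv_mem h), by group⟩

theorem exists_not_mem_B {s : G} (hs : s ∈ P.S) : ∃ b ∈ P.B, s * b * s ∉ P.B := by
  by_contra hcon
  push Not at hcon
  apply P.conj_ne s hs
  ext x
  constructor
  · rintro ⟨b, hb, rfl⟩
    exact hcon b hb
  · intro hx
    refine ⟨s⁻¹ * x * s⁻¹, ?_, by group⟩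
    have h1 : s⁻¹ * x * s⁻¹ = (s * s)⁻¹ * (s * x * s) * (s * s)⁻¹ := by group
    rw [h1]
    have hh := P.B.inv_mem (P.sq_mem s hs)
    exact P.B.mul_mem (P.B.mul_mem hh (hcon x hx)) hh

theorem projG_S_ne_one {s : G} (hs : s ∈ P.S) : projG P s ≠ 1 := by
  intro h
  exact S_not_mem_B hs ((projG_eq_one_iff (S_mem_N hs)).1 h)

/-! ### Theorem 1 : uniqueness in the Bruhat decomposition -/

theorem projG_eq_of_dc_eq_aux (q : ℕ) : ∀ n n' : G, n ∈ P.N → n' ∈ P.N → lenN P n = q →
    q ≤ lenN P n' → dc P n = dc P n' → projG P n = projG P n' := by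
  induction q with
  | zero =>
    intro n n' hn hn' hq _ hdc
    have h1 : projG P n = 1 := eq_one_of_wlen_eq_zero TW_sq TW_closure hq
    have hnB : n ∈ P.B := (projG_eq_one_iff hn).1 h1
    rw [dc_of_mem_B hnB] at hdc
    have : n' ∈ (P.B : Set G) := hdc ▸ dc_self n'
    rw [h1, ((projG_eq_one_iff hn').2 this)]
  | succ q ih =>
    intro n n' hn hn' hq hle hdc
    obtain ⟨Lw, hLw, hp, hlen⟩ := exists_reduced TW_sq TW_closure (projG P n)
    change Lw.length = lenN P n at hlen
    rw [hq] at hlen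
    match Lw, hLw, hp, hlen with
    | [], _, _, hlen => simp at hlen
    | t :: Lw', hLw, hp, hlen =>
      obtain ⟨s, hs, rfl⟩ := hLw _ List.mem_cons_self
      have hsN := S_mem_N hs
      have hLw' : ∀ x ∈ Lw', x ∈ TW P := fun x hx => hLw x (List.mem_cons_of_mem _ hx)
      rw [List.prod_cons] at hp
      have hlen' : Lw'.length = q := by simpa using hlen
      have hv1 : wlen (TW P) Lw'.prod ≤ q := hlen' ▸ wlen_le hLw' rfl
      have hv2 : wlen (TW P) (projG P s * Lw'.prod) ≤ wlen (TW P) Lw'.prod + 1 :=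
        wlen_mul_le TW_sq TW_closure ⟨s, hs, rfl⟩ _
      rw [hp] at hv2
      change lenN P n ≤ _ at hv2
      have hu : projG P (s * n) = Lw'.prod := by
        rw [projG_mul hsN hn, ← hp, ← mul_assoc, TW_sq _ ⟨s, hs, rfl⟩, one_mul]
      have hulen : lenN P (s * n) = q := by
        unfold lenN; rw [hu]; omega
      have hsn : s * n ∈ P.N := P.N.mul_mem hsN hn
      have hsn' : s * n' ∈ P.N := P.N.mul_mem hsN hn'
      have hmem : n ∈ dc P n' := hdc ▸ dc_self n
      obtain ⟨b₁, h₁, b₂, h₂, e⟩ := mem_dc.1 hmem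
      have h3 := t3 hs hn' h₁
      have e' : s * n = (s * b₁ * n') * b₂ := by rw [e]; group
      have hle2 : lenN P n' ≤ lenN P (s * n') + 1 := by
        unfold lenN
        rw [projG_mul hsN hn']
        exact wlen_le_mul TW_sq TW_closure ⟨s, hs, rfl⟩ _
      rcases h3 with h3 | h3
      · have hd : dc P (s * n) = dc P (s * n') := by
          apply dc_eq_of_mem; rw [e']; exact dc_mul_right h₂ h3
        have := ih (s * n) (s * n') hsn hsn' hulen (by omega) hd
        rw [projG_mul hsN hn, projG_mul hsN hn'] at this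
        exact mul_left_cancel this
      · exfalso
        have hd : dc P (s * n) = dc P n' := by
          apply dc_eq_of_mem; rw [e']; exact dc_mul_right h₂ h3
        have := ih (s * n) n' hsn hn' hulen (by omega) hd
        have h4 : lenN P n' = q := by unfold lenN; rw [← this]; exact hulen
        omega

theorem projG_eq_of_dc_eq {n n' : G} (hn : n ∈ P.N) (hn' : n' ∈ P.N) (h : dc P n = dc P n') :
    projG P n = projG P n' := by
  rcases le_total (lenN P n) (lenN P n') with hle | hle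
  · exact projG_eq_of_dc_eq_aux _ n n' hn hn' rfl hle h
  · exact (projG_eq_of_dc_eq_aux _ n' n hn' hn rfl hle h.symm).symm

theorem dc_eq_iff {n n' : G} (hn : n ∈ P.N) (hn' : n' ∈ P.N) :
    dc P n = dc P n' ↔ n⁻¹ * n' ∈ P.B := by
  rw [← projG_eq_iff hn hn']
  exact ⟨projG_eq_of_dc_eq hn hn', dc_eq_of_projG_eq hn hn'⟩

end Cfsg.Agent.Lib.helper8.H3
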