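import Mathlib
import Cfsg.Prelude.Def_LieExceptional
import Cfsg.Agent.Lib.helper8.H3BNLen

set_option autoImplicit false

namespace Cfsg.Agent.Lib.helper8

open H3

/-- the key point of the counting lemma: two factorisations of an element of `B s n B` differ by
an element of `B` -/
theorem h8dc_fiber_mem {G : Type*} [Group G] (P : Cfsg.BNPair G) {s n : G}
    (hs : s ∈ P.S) (hn : n ∈ P.N) (hp : Pp P s n) (x x₀ y y₀ : G)
    (hx : x ∈ dc P s) (hx₀ : x₀ ∈ dc P s) (hy : y ∈ dc P n) (hy₀ : y₀ ∈ dc P n)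
    (e : x * y = x₀ * y₀) : x⁻¹ * x₀ ∈ P.B := by
  obtain ⟨b1, h1, b2, h2, rfl⟩ := mem_dc.1 hx
  obtain ⟨b1', h1', b2', h2', rfl⟩ := mem_dc.1 hx₀
  obtain ⟨b5, h5, b6, h6, rfl⟩ := mem_dc.1 hy
  obtain ⟨b7, h7, b8, h8, rfl⟩ := mem_dc.1 hy₀
  have hβ : b1⁻¹ * b1' ∈ P.B := P.B.mul_mem (P.B.inv_mem h1) h1'
  have ec : (b1 * s * b2)⁻¹ * (b1' * s * b2') = b2⁻¹ * (s⁻¹ * (b1⁻¹ * b1') * s) * b2' := by group
  rcases t3_inv hs (S_mem_N hs) hβ with h | h
  · rw [inv_mul_cancel, dc_one] at h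
    rw [ec]
    exact P.B.mul_mem (P.B.mul_mem (P.B.inv_mem h2) h) h2'
  · exfalso
    obtain ⟨b3, h3, b4, h4, e3⟩ := mem_dc.1 h
    -- c = b2⁻¹ b3 s b4 b2' and also c = y y₀⁻¹
    have e2 : (b1 * s * b2)⁻¹ * (b1' * s * b2') = (b5 * n * b6) * (b7 * n * b8)⁻¹ := by
      rw [inv_mul_eq_iff_eq_mul, ← mul_assoc, e]
      group
    rw [ec, e3] at e2
    -- s * (b4 * b2' * b7) * n = b3⁻¹ * b2 * b5 * n * (b6 * b8⁻¹)
    have e4 : s * (b4 * b2' * b7) * n = (b3⁻¹ * b2 * b5) * n * (b6 * b8⁻¹) := by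
      have : s * (b4 * b2' * b7) * n =
          b3⁻¹ * b2 * (b2⁻¹ * (b3 * s * b4) * b2') * (b7 * n) := by group
      rw [this, e2]
      group
    have m1 : s * (b4 * b2' * b7) * n ∈ dc P (s * n) :=
      hp _ (P.B.mul_mem (P.B.mul_mem h4 h2') h7)
    have m2 : s * (b4 * b2' * b7) * n ∈ dc P n := by
      rw [e4]
      exact mem_dc.2 ⟨_, P.B.mul_mem (P.B.mul_mem (P.B.inv_mem h3) h2) h5, _,
        P.B.mul_mem h6 (P.B.inv_mem h8), rfl⟩
    exact dc_s_mul_ne hs hn ((dc_eq_of_mem m1).symm.trans (dc_eq_of_mem m2))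

/-- the counting lemma for a `(B, N)`-pair: `|B s n B| |B| = |B s B| |B n B|` whenever
`s B n ⊆ B s n B` -/
theorem h8dc_card_mul {G : Type*} [Group G] [Finite G] (P : Cfsg.BNPair G) {s n : G}
    (hs : s ∈ P.S) (hn : n ∈ P.N) (hp : Pp P s n) :
    Nat.card (dc P (s * n)) * Nat.card P.B = Nat.card (dc P s) * Nat.card (dc P n) := by
  classical
  have hmul : ∀ p : ↥(dc P s) × ↥(dc P n), p.1.val * p.2.val ∈ dc P (s * n) := by
    rintro ⟨⟨x, hx⟩, ⟨y, hy⟩⟩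
    obtain ⟨b1, h1, b2, h2, rfl⟩ := mem_dc.1 hx
    obtain ⟨b3, h3, b4, h4, rfl⟩ := mem_dc.1 hy
    have e : b1 * s * b2 * (b3 * n * b4) = b1 * (s * (b2 * b3) * n) * b4 := by group
    change b1 * s * b2 * (b3 * n * b4) ∈ dc P (s * n)
    rw [e]
    exact dc_mul_right h4 (dc_mul_left h1 (hp _ (P.B.mul_mem h2 h3)))
  let μ : ↥(dc P s) × ↥(dc P n) → ↥(dc P (s * n)) := fun p => ⟨p.1.val * p.2.val, hmul p⟩
  have hfib : ∀ g : ↥(dc P (s * n)), Nat.card {p // μ p = g} = Nat.card P.B := by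
    rintro ⟨g, hg⟩
    obtain ⟨b1, h1, b2, h2, rfl⟩ := mem_dc.1 hg
    -- base point
    have hx₀ : b1 * s ∈ dc P s := mem_dc.2 ⟨b1, h1, 1, P.B.one_mem, by group⟩
    have hy₀ : n * b2 ∈ dc P n := mem_dc.2 ⟨1, P.B.one_mem, b2, h2, by group⟩
    symm
    apply Nat.card_congr
    refine Equiv.ofBijective (fun c : P.B =>
      (⟨(⟨b1 * s * (c.val)⁻¹, dc_mul_right (P.B.inv_mem c.2) hx₀⟩,
        ⟨c.val * (n * b2), dc_mul_left c.2 hy₀⟩), by
          apply Subtype.ext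
          change b1 * s * (c.val)⁻¹ * (c.val * (n * b2)) = b1 * (s * n) * b2
          group⟩ : {p // μ p = ⟨b1 * (s * n) * b2, hg⟩})) ⟨?_, ?_⟩
    · intro c c' hcc
      have := congrArg (fun p : {p // μ p = ⟨b1 * (s * n) * b2, hg⟩} => p.val.2.val) hcc
      simp only at this
      exact Subtype.ext (mul_right_cancel this)
    · rintro ⟨⟨⟨x, hx⟩, ⟨y, hy⟩⟩, hxy⟩
      have e : x * y = (b1 * s) * (n * b2) := by
        have := congrArg Subtype.val hxy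
        simp only [μ] at this
        rw [this]
        group
      have hc := h8dc_fiber_mem P hs hn hp x (b1 * s) y (n * b2) hx hx₀ hy hy₀ e
      refine ⟨⟨x⁻¹ * (b1 * s), hc⟩, ?_⟩
      apply Subtype.ext
      apply Prod.ext
      · apply Subtype.ext
        change b1 * s * (x⁻¹ * (b1 * s))⁻¹ = x
        group
      · apply Subtype.ext
        change x⁻¹ * (b1 * s) * (n * b2) = y
        rw [mul_assoc, ← e]
        group
  haveI : Fintype ↥(dc P (s * n)) := Fintype.ofFinite _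
  have h1 : Nat.card (↥(dc P s) × ↥(dc P n)) = Nat.card ↥(dc P (s * n)) * Nat.card P.B := by
    rw [← Nat.card_congr (Equiv.sigmaFiberEquiv μ), Nat.card_sigma]
    simp only [hfib, Finset.sum_const, Finset.card_univ, smul_eq_mul, Nat.card_eq_fintype_card]
  rw [← h1, Nat.card_prod]

end Cfsg.Agent.Lib.helper8
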