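import Mathlib
import Cfsg.Prelude.Def_ChevStructure
import Cfsg.Prelude.Def_LieExceptional
import Cfsg.Agent.Lib.helper8.ChevTwO1
import Cfsg.Agent.Lib.helper8.ChevTwB7

set_option autoImplicit false

namespace Cfsg.Agent.Lib.helper8

open Cfsg.Lie Cfsg.Lie.ChevalleyDatum H3

universe u

variable {K : Type u} [Field K]

/-- the length-increasing case of the `(B, N)`-axiom of the ambient group -/
theorem h8bn_pos (D : ChevalleyDatum) (hB : H8Base.{u} D) (hA : H8ReflAll D)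
    (hC : H8CommAll.{u} D) (hBN : H8BN D)
    (i : ℕ) (hi : i < D.rank) (n : GL D.Idx K) (hn : n ∈ D.monomialSubgroup K) (r' : ℕ)
    (hr' : D.IsPosRoot r') (hact : H8Act D hB n⁻¹ (D.simple i) r') (b : GL D.Idx K)
    (hb : b ∈ D.borelSubgroup K) :
    ∃ b1 ∈ D.borelSubgroup K, ∃ b2 ∈ D.borelSubgroup K,
      h8nU D hB (D.simple i) 1 * b * n = b1 * (h8nU D hB (D.simple i) 1 * n) * b2 := by
  obtain ⟨dep, par, horb⟩ := hBN.orb
  obtain ⟨hg, hrow⟩ := hBN.up i hi
  obtain ⟨hnorm, hsup⟩ := h8up_main (F := K) D hB hC i hg hrow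
  have hpp := h8simple_pos D hBN i hi
  have hmemB : b ∈ ((D.posUnipotent K ⊔ D.diagonalSubgroup K : Subgroup (GL D.Idx K)) :
      Set (GL D.Idx K)) := hb
  rw [Subgroup.coe_mul_of_right_le_normalizer_left _ _ (h8_H_le_normalizer_U D hB)] at hmemB
  obtain ⟨u, hu, h, hh, rfl⟩ := hmemB
  have hu' : u ∈ ((Subgroup.closure (h8UpSet D K (D.simple i)) ⊔ D.rootSubgroup K (D.simple i) :
      Subgroup (GL D.Idx K)) : Set (GL D.Idx K)) := by
    rw [hsup]
    exact hu
  rw [Subgroup.coe_mul_of_right_le_normalizer_left _ _ (le_trans le_sup_left hnorm)] at hu'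
  obtain ⟨u', hu'm, x, hx, rfl⟩ := hu'
  obtain ⟨t, rfl⟩ := h8rootSubgroup_mem D hB _ hpp.1 x hx
  have hsn := h8nU_normalizes_up (F := K) D hB hA i hi (hBN.sp i hi)
  have hu'' := (Subgroup.mem_normalizer_iff.mp hsn u').mp hu'm
  have hUpB : Subgroup.closure (h8UpSet D K (D.simple i)) ≤ D.borelSubgroup K := by
    refine le_trans ?_ (h8U_le_B D)
    rw [← hsup]
    exact le_sup_left
  have hninv : n⁻¹ ∈ Subgroup.normalizer (D.diagonalSubgroup K : Set (GL D.Idx K)) :=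
    h8N_le_normalizer_H D hB hA dep par horb (Subgroup.inv_mem _ hn)
  have hh'' := (Subgroup.mem_normalizer_iff.mp hninv h).mp hh
  obtain ⟨c, _, hc⟩ := hact
  have key : h8nU D hB (D.simple i) 1 * (u' * h8xU D hB (D.simple i) t * h) * n =
      (h8nU D hB (D.simple i) 1 * u' * (h8nU D hB (D.simple i) 1)⁻¹) *
        (h8nU D hB (D.simple i) 1 * n) *
        ((n⁻¹ * h8xU D hB (D.simple i) t * n⁻¹⁻¹) * (n⁻¹ * h * n⁻¹⁻¹)) := by
    group
  refine ⟨_, hUpB hu'', _, Subgroup.mul_mem _ ?_ (h8H_le_B D hh''), key⟩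
  rw [hc t]
  exact h8U_le_B D (h8xU_mem_U D hB _ hr' _)

/-- checker: the word `w` is length-increasing on the left of the word `v` -/
def h8posW (D : ChevalleyDatum) : List ℕ → List ℕ → Bool
  | [], _ => true
  | i :: w', v => decide (D.IsPosRoot (h8sW D (w' ++ v).reverse (D.simple i))) && h8posW D w' v

theorem h8bn_pos_word (D : ChevalleyDatum) (hB : H8Base.{u} D) (hA : H8ReflAll D)
    (hC : H8CommAll.{u} D) (hBN : H8BN D) (v : List ℕ) (hv : ∀ i ∈ v, i < D.rank) :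
    ∀ (w : List ℕ), (∀ i ∈ w, i < D.rank) → h8posW D w v = true →
      ∀ b ∈ D.borelSubgroup K, ∃ b1 ∈ D.borelSubgroup K, ∃ b2 ∈ D.borelSubgroup K,
        h8nWU D hB w * b * h8nWU D hB v = b1 * h8nWU D hB (w ++ v) * b2 := by
  intro w
  induction w with
  | nil =>
    intro _ _ b hb
    refine ⟨b, hb, 1, Subgroup.one_mem _, ?_⟩
    rw [List.nil_append]
    unfold h8nWU
    simp
  | cons i w' ih =>
    intro hw hpos b hb
    have hw' : ∀ j ∈ w', j < D.rank := fun j hj => hw j (List.mem_cons_of_mem _ hj)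
    have hi : i < D.rank := hw i List.mem_cons_self
    unfold h8posW at hpos
    rw [Bool.and_eq_true, decide_eq_true_eq] at hpos
    obtain ⟨b1, hb1, b2, hb2, e⟩ := ih hw' hpos.2 b hb
    have hwv : ∀ j ∈ w' ++ v, j < D.rank := by
      intro j hj
      rw [List.mem_append] at hj
      rcases hj with hj | hj
      · exact hw' j hj
      · exact hv j hj
    have hact := h8actN_act D hB _ _ _ (h8actN_word_inv (F := K) D hB hA (w' ++ v) hwv
      (D.simple i) (h8simple_pos D hBN i hi).1)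
    obtain ⟨c1, hc1, c2, hc2, e2⟩ := h8bn_pos D hB hA hC hBN i hi (h8nWU D hB (w' ++ v))
      (h8nWU_mem_N D hB hA _ hwv) _ hpos.1 hact b1 hb1
    refine ⟨c1, hc1, c2 * b2, Subgroup.mul_mem _ hc2 hb2, ?_⟩
    rw [List.cons_append, h8nWU_cons, h8nWU_cons, mul_assoc (h8nU D hB (D.simple i) 1),
      mul_assoc (h8nU D hB (D.simple i) 1), e, ← mul_assoc, ← mul_assoc, e2]
    group

/-- the criterion for `s B n ⊆ B s n B` in a subgroup with a `(B, N)`-pair cut out of the one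
of the ambient group -/
theorem h8tw_Pp (D : ChevalleyDatum) (hB : H8Base.{u} D) (hA : H8ReflAll D)
    (hC : H8CommAll.{u} D) (hBN : H8BN D) (G1 : Subgroup (GL D.Idx K)) (P : Cfsg.BNPair ↥G1)
    (hPB : P.B = (D.borelSubgroup K ⊓ G1).subgroupOf G1) (s n : ↥G1) (hs : s ∈ P.S)
    (hn : n ∈ P.N) (hsN : s.val ∈ D.monomialSubgroup K) (hnN : n.val ∈ D.monomialSubgroup K)
    (hamb : ∀ b ∈ D.borelSubgroup K, ∃ b1 ∈ D.borelSubgroup K, ∃ b2 ∈ D.borelSubgroup K,
      s.val * b * n.val = b1 * (s.val * n.val) * b2) : Pp P s n := by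
  intro b hb
  rcases t3 hs hn hb with h | h
  · exact h
  · exfalso
    obtain ⟨c1, hc1, c2, hc2, e⟩ := mem_dc.1 h
    have hmemB : ∀ c : ↥G1, c ∈ P.B → c.val ∈ D.borelSubgroup K := by
      intro c hc
      rw [hPB, Subgroup.mem_subgroupOf] at hc
      exact hc.1
    obtain ⟨b1, hb1, b2, hb2, e2⟩ := hamb b.val (hmemB b hb)
    have e' : s.val * b.val * n.val = c1.val * n.val * c2.val := congrArg Subtype.val e
    have hcell : ∃ d1 ∈ D.borelSubgroup K, ∃ d2 ∈ D.borelSubgroup K,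
        s.val * n.val = d1 * n.val * d2 := by
      refine ⟨b1⁻¹ * c1.val, Subgroup.mul_mem _ (Subgroup.inv_mem _ hb1) (hmemB c1 hc1),
        c2.val * b2⁻¹, Subgroup.mul_mem _ (hmemB c2 hc2) (Subgroup.inv_mem _ hb2), ?_⟩
      have : s.val * n.val = b1⁻¹ * (b1 * (s.val * n.val) * b2) * b2⁻¹ := by group
      rw [this, ← e2, e']
      group
    have hH := h8cell_disjoint D hB hA hC hBN (s.val * n.val) n.val
      (Subgroup.mul_mem _ hsN hnN) hnN hcell
    have hmem : (s * n)⁻¹ * n ∈ P.B := by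
      rw [hPB, Subgroup.mem_subgroupOf]
      exact ⟨h8H_le_B D hH, ((s * n)⁻¹ * n).2⟩
    exact dc_s_mul_ne hs hn ((dc_eq_iff (P.N.mul_mem (S_mem_N hs) hn) hn).2 hmem)

end Cfsg.Agent.Lib.helper8
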