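import Mathlib
import Cfsg.Prelude.Def_ChevStructure
import Cfsg.Prelude.Def_LieExceptional
import Cfsg.Agent.Lib.helper8.ChevTwO2
import Cfsg.Agent.Lib.helper8.ChevTwU5

set_option autoImplicit false

namespace Cfsg.Agent.Lib.helper8

open Cfsg.Lie Cfsg.Lie.ChevalleyDatum H3

universe u

variable {K : Type u} [Field K]

section
variable (D : ChevalleyDatum) (hB : H8Base.{u} D) (hA : H8ReflAll D) (hC : H8CommAll.{u} D)
  (hBN : H8BN D) (hW : H8BN2 D) (hO : H8Ord D) (hO2 : H8Ord2 D)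
  (posi : ℕ → ℕ) (hK : H8Blk D posi) (hR : H8BlkRead D posi)
  (σ τ π ϖ : ℕ → ℕ) (η : ℕ → ℤ) (hAut : H8Aut D σ τ π ϖ η) (f : K ≃+* K)
  (hσp : ∀ r, D.IsPosRoot r → D.IsPosRoot (σ r) ∧ posi (σ r) = posi r)
  (G1 : Subgroup (GL D.Idx K)) (hG1 : G1 ≤ D.group K)
  (hfix : ∀ g ∈ G1, h8Sig D σ τ π ϖ η hAut f g = g)
  (hUfix : ∀ g ∈ D.posUnipotent K, h8Sig D σ τ π ϖ η hAut f g = g → g ∈ G1)

include hA in
/-- products of root elements whose roots are made negative by `w` lie in `U_w⁻` -/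
theorem h8Pb_mem_Um (w : List ℕ) (hw : ∀ j ∈ w, j < D.rank) (t : ℕ → K) :
    ∀ (L : List ℕ), (∀ r ∈ L, D.IsPosRoot r ∧ D.IsNegRoot (h8sW D w r)) →
      h8Pb D hB L t ∈ Subgroup.closure (h8UmSet D K (h8nWU D hB w)) := by
  intro L
  induction L with
  | nil =>
    intro _
    rw [h8Pb_nil]
    exact Subgroup.one_mem _
  | cons r L ih =>
    intro hL
    rw [h8Pb_cons]
    refine Subgroup.mul_mem _ ?_ (ih fun s hs => hL s (List.mem_cons_of_mem _ hs))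
    obtain ⟨hr, hneg⟩ := hL r List.mem_cons_self
    apply Subgroup.subset_closure
    refine ⟨r, t r, hr, ?_, h8xU_val D hB r (t r)⟩
    intro z hz
    rw [Subgroup.mem_map] at hz
    obtain ⟨y, hy, rfl⟩ := hz
    obtain ⟨s, rfl⟩ := h8rootSubgroup_mem D hB r hr.1 y hy
    obtain ⟨c', _, hact⟩ := h8actN_act D hB _ _ _ (h8actN_word (F := K) D hB hA w hw r hr.1)
    show h8nWU D hB w * h8xU D hB r s * (h8nWU D hB w)⁻¹ ∈ D.negUnipotent K
    rw [hact]
    exact h8xU_mem_V D hB _ hneg _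

include hA hBN hW in
/-- `U_w⁻` is generated by the root subgroups of the block `i` if `w` makes exactly the roots
of this block negative -/
theorem h8Um_le_Xb (w : List ℕ) (hw : ∀ j ∈ w, j < D.rank) (i : ℕ)
    (hpos : ∀ r, D.IsPosRoot r → r ∉ h8Lb D posi i → D.IsPosRoot (h8sW D w r)) :
    Subgroup.closure (h8UmSet D K (h8nWU D hB w)) ≤ Subgroup.closure (h8XbSet D K posi i) := by
  apply Subgroup.closure_mono
  rintro x ⟨r, t, hr, hle, hx⟩
  refine ⟨r, t, ?_, hx⟩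
  by_contra hnot
  have hp := hpos r hr hnot
  obtain ⟨c, hc, hact⟩ := h8actN_act D hB _ _ _ (h8actN_word (F := K) D hB hA w hw r hr.1)
  have hV : h8nWU D hB w * h8xU D hB r 1 * (h8nWU D hB w)⁻¹ ∈ D.negUnipotent K := by
    apply hle
    rw [Subgroup.mem_map]
    exact ⟨_, h8xU_mem_rootSubgroup D hB r 1, rfl⟩
  rw [hact] at hV
  have hbot : h8xU D hB (h8sW D w r) (c * 1) ∈ D.borelSubgroup K ⊓ D.negUnipotent K :=
    ⟨h8U_le_B D (h8xU_mem_U D hB _ hp _), hV⟩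
  rw [h8_B_inf_V D hB hBN.negOK, Subgroup.mem_bot, ← h8xU_zero D hB (h8sW D w r)] at hbot
  have := h8xU_inj_t D hB hA hW _ hp.1 _ _ hbot
  rw [mul_one] at this
  exact hc this

include hA hC hBN hW hO hO2 hK hR hσp hG1 hfix hUfix in
/-- the size of a rank one double coset of the twisted group -/
theorem h8tw_dc_card (P : Cfsg.BNPair ↥G1)
    (hPB : P.B = (D.borelSubgroup K ⊓ G1).subgroupOf G1)
    (w : List ℕ) (hw : ∀ j ∈ w, j < D.rank) (hn1 : (h8nWU D hB w : GL D.Idx K) ∈ G1) (i : ℕ)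
    (hneg : ∀ r ∈ h8Lb D posi i, D.IsNegRoot (h8sW D w r))
    (hpos : ∀ r, D.IsPosRoot r → r ∉ h8Lb D posi i → D.IsPosRoot (h8sW D w r)) :
    Nat.card ↥(dc P (⟨h8nWU D hB w, hn1⟩ : ↥G1)) =
      Nat.card ↥P.B * Nat.card (H8Bt D posi τ η f i) := by
  classical
  obtain ⟨dep, par, horb⟩ := hBN.orb
  have hnN : (h8nWU D hB w : GL D.Idx K) ∈ D.monomialSubgroup K := h8nWU_mem_N D hB hA w hw
  have hLmem : ∀ r ∈ h8Lb D posi i, D.IsPosRoot r ∧ posi r = i := fun r hr =>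
    (h8Lb_mem D posi i r).mp hr
  have hPbU : ∀ t : ℕ → K, h8Pb D hB (h8Lb D posi i) t ∈ D.posUnipotent K := by
    intro t
    rw [← h8Ub_zero D posi]
    exact h8Pb_mem_Ub D hB posi 0 _ (fun r hr => ⟨(hLmem r hr).1, Nat.zero_le _⟩) t
  have hPbG : ∀ t : H8Bt D posi τ η f i, h8Pb D hB (h8Lb D posi i) t.1 ∈ G1 := by
    intro t
    exact hUfix _ (hPbU t.1)
      ((h8Sig_fix_Pb_iff D hB hC hBN hO2 posi hK hR σ τ π ϖ η hAut f hσp i t.1).mpr t.2.2)
  have hmemB : ∀ c : ↥G1, c ∈ P.B ↔ c.val ∈ D.borelSubgroup K := by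
    intro c
    rw [hPB, Subgroup.mem_subgroupOf]
    exact ⟨fun h => h.1, fun h => ⟨h, c.2⟩⟩
  have hmem : ∀ (b : ↥P.B) (t : H8Bt D posi τ η f i),
      (b.val * ⟨h8nWU D hB w, hn1⟩ * ⟨h8Pb D hB (h8Lb D posi i) t.1, hPbG t⟩ : ↥G1) ∈
        dc P (⟨h8nWU D hB w, hn1⟩ : ↥G1) := by
    intro b t
    exact mem_dc.2 ⟨b.val, b.2, _, (hmemB _).2 (h8U_le_B D (hPbU t.1)), rfl⟩
  rw [← Nat.card_prod]
  symm
  apply Nat.card_congr
  refine Equiv.ofBijective (fun p : ↥P.B × H8Bt D posi τ η f i => ⟨_, hmem p.1 p.2⟩) ⟨?_, ?_⟩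
  · rintro ⟨b, t⟩ ⟨b', t'⟩ h
    have h0 : b.val.val * h8nWU D hB w * h8Pb D hB (h8Lb D posi i) t.1 =
        b'.val.val * h8nWU D hB w * h8Pb D hB (h8Lb D posi i) t'.1 :=
      congrArg (fun x : ↥(dc P (⟨h8nWU D hB w, hn1⟩ : ↥G1)) => x.val.val) h
    have hx := h8Pb_mem_Um D hB hA w hw t.1 (h8Lb D posi i)
      (fun r hr => ⟨(hLmem r hr).1, hneg r hr⟩)
    have hx' := h8Pb_mem_Um D hB hA w hw t'.1 (h8Lb D posi i)
      (fun r hr => ⟨(hLmem r hr).1, hneg r hr⟩)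
    obtain ⟨hbb, hxx⟩ := (h8normal_unique D hB hA hC hBN _ _ _ _ _ _ ((hmemB _).1 b.2)
      ((hmemB _).1 b'.2) hnN hnN hx hx' h0).2 rfl
    have h1 := h8Ub_unique D hB hC hBN hO2 posi hK hR i t.1 t'.1 1 1 (Subgroup.one_mem _)
      (Subgroup.one_mem _) (by rw [mul_one, mul_one, hxx])
    have ht : t = t' := by
      apply Subtype.ext
      funext r
      by_cases hr : r ∈ h8Lb D posi i
      · exact h1 r hr
      · rw [t.2.1 r hr, t'.2.1 r hr]
    have hb : b = b' := Subtype.ext (Subtype.ext hbb)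
    rw [ht, hb]
  · rintro ⟨g, hg⟩
    obtain ⟨c1, hc1, c2, hc2, eg⟩ := mem_dc.1 hg
    obtain ⟨u1, hu1, m, hm, u, hu, huG, e⟩ := h8tw_normal_G1 D hB hA hC hBN hW hO hO2
      σ τ π ϖ η hAut f (fun r hr => (hσp r hr).1) G1 hG1 hfix hUfix g.val g.2
    have eg' : g.val = c1.val * h8nWU D hB w * c2.val := congrArg Subtype.val eg
    -- `m` and `n_w` lie in the same cell
    have hcell : ∃ d1 ∈ D.borelSubgroup K, ∃ d2 ∈ D.borelSubgroup K,
        h8nWU D hB w = d1 * m * d2 := by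
      refine ⟨c1.val⁻¹ * u1, Subgroup.mul_mem _ (Subgroup.inv_mem _ ((hmemB _).1 hc1))
        (h8U_le_B D hu1.1), u * c2.val⁻¹, Subgroup.mul_mem _ (h8U_le_B D (h8Um_le_U D m hu))
        (Subgroup.inv_mem _ ((hmemB _).1 hc2)), ?_⟩
      have : h8nWU D hB w = c1.val⁻¹ * (c1.val * h8nWU D hB w * c2.val) * c2.val⁻¹ := by group
      rw [this, ← eg', e]
      group
    have hH := h8cell_disjoint D hB hA hC hBN _ m hnN hm.1 hcell
    have hHG : (h8nWU D hB w)⁻¹ * m ∈ G1 := Subgroup.mul_mem _ (Subgroup.inv_mem _ hn1) hm.2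
    -- `u` lies in the block
    have hu' : u ∈ Subgroup.closure (h8UmSet D K (h8nWU D hB w)) := by
      have h1 := h8UmSet_mono_H D hB m 1 ((h8nWU D hB w)⁻¹ * m)⁻¹ (Subgroup.one_mem _)
        (Subgroup.inv_mem _ hH)
      have e1 : 1 * m * ((h8nWU D hB w)⁻¹ * m)⁻¹ = h8nWU D hB w := by group
      rw [e1] at h1
      exact Subgroup.closure_mono h1 hu
    obtain ⟨t, rfl⟩ := h8Xb_eq D hB hC hBN hO2 posi hK i u
      (h8Um_le_Xb D hB hA hBN hW posi w hw i hpos hu')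
    have hcomp := (h8Sig_fix_Pb_iff D hB hC hBN hO2 posi hK hR σ τ π ϖ η hAut f hσp i t).mp
      (hfix _ huG)
    have hcong : ∀ r ∈ h8Lb D posi i,
        (fun r => if r ∈ h8Lb D posi i then t r else 0) r = t r := by
      intro r hr
      simp only [hr, if_true]
    have hLτ : ∀ k ∈ h8Lb D posi i, τ k ∈ h8Lb D posi i := by
      intro k hk
      have hp := h8Lb_map_perm D posi σ τ π ϖ η hAut hσp i
      have hk' : k ∈ (h8Lb D posi i).map σ := hp.mem_iff.mpr hk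
      rw [List.mem_map] at hk'
      obtain ⟨x, hx, rfl⟩ := hk'
      rw [hAut.ts x ((h8Lb_mem D posi i x).mp hx).1.1]
      exact hx
    have hbB : u1 * (h8nWU D hB w * ((h8nWU D hB w)⁻¹ * m) * (h8nWU D hB w)⁻¹) ∈
        D.borelSubgroup K := by
      refine Subgroup.mul_mem _ (h8U_le_B D hu1.1) (h8H_le_B D ?_)
      have hnorm : h8nWU D hB w ∈ Subgroup.normalizer (D.diagonalSubgroup K : Set (GL D.Idx K)) :=
        h8N_le_normalizer_H D hB hA dep par horb hnN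
      exact (Subgroup.mem_normalizer_iff.mp hnorm _).mp hH
    have hbG : u1 * (h8nWU D hB w * ((h8nWU D hB w)⁻¹ * m) * (h8nWU D hB w)⁻¹) ∈ G1 :=
      Subgroup.mul_mem _ hu1.2 (Subgroup.mul_mem _ (Subgroup.mul_mem _ hn1 hHG)
        (Subgroup.inv_mem _ hn1))
    refine ⟨(⟨⟨_, hbG⟩, (hmemB _).2 hbB⟩,
      ⟨fun r => if r ∈ h8Lb D posi i then t r else 0, ?_, ?_⟩), ?_⟩
    · intro r hr
      simp only [hr, if_false]
    · intro k hk
      have := hcomp k hk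
      unfold h8tS at this ⊢
      simp only [hk, hLτ k hk, if_true]
      exact this
    · apply Subtype.ext
      apply Subtype.ext
      show u1 * (h8nWU D hB w * ((h8nWU D hB w)⁻¹ * m) * (h8nWU D hB w)⁻¹) * h8nWU D hB w *
        h8Pb D hB (h8Lb D posi i) (fun r => if r ∈ h8Lb D posi i then t r else 0) = g.val
      rw [h8Pb_congr D hB _ _ _ hcong, e]
      group

end

end Cfsg.Agent.Lib.helper8
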