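import Mathlib
import Cfsg.Prelude.Def_ChevStructure
import Cfsg.Agent.Lib.helper8.ChevTwU5

set_option autoImplicit false

namespace Cfsg.Agent.Lib.helper8

open Cfsg.Lie Cfsg.Lie.ChevalleyDatum

universe u

variable {K : Type u} [Field K]

/-- the generators of the subgroup generated by the root subgroups outside a block -/
def h8UhSet (D : ChevalleyDatum) (K : Type u) [Field K] (posi : ℕ → ℕ) (b : ℕ) :
    Set (GL D.Idx K) :=
  {g | ∃ (r : ℕ) (t : K), D.IsPosRoot r ∧ posi r ≠ b ∧ (g : Matrix D.Idx D.Idx K) = D.x K r t}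

/-- the subgroup generated by the positive root subgroups outside the block `b` -/
def h8Uh (D : ChevalleyDatum) (K : Type u) [Field K] (posi : ℕ → ℕ) (b : ℕ) :
    Subgroup (GL D.Idx K) :=
  Subgroup.closure (h8UhSet D K posi b)

theorem h8xU_mem_Uh (D : ChevalleyDatum) (hB : H8Base.{u} D) (posi : ℕ → ℕ) (b r : ℕ)
    (hr : D.IsPosRoot r) (hb : posi r ≠ b) (t : K) : h8xU D hB r t ∈ h8Uh D K posi b :=
  Subgroup.subset_closure ⟨r, t, hr, hb, h8xU_val D hB r t⟩

theorem h8Ub_le_Uh (D : ChevalleyDatum) (posi : ℕ → ℕ) (b i : ℕ) (h : b < i) :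
    h8Ub D K posi i ≤ h8Uh D K posi b := by
  unfold h8Ub h8Uh
  apply Subgroup.closure_mono
  rintro g ⟨r, t, hr, hi, hg⟩
  exact ⟨r, t, hr, by omega, hg⟩

theorem h8Uh_le_U (D : ChevalleyDatum) (posi : ℕ → ℕ) (b : ℕ) :
    h8Uh D K posi b ≤ D.posUnipotent K := by
  unfold h8Uh ChevalleyDatum.posUnipotent
  apply Subgroup.closure_mono
  rintro g ⟨r, t, hr, _, hg⟩
  exact ⟨r, t, hr, hg⟩

theorem h8Pb_mem_Uh (D : ChevalleyDatum) (hB : H8Base.{u} D) (posi : ℕ → ℕ) (b : ℕ)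
    (L : List ℕ) (hL : ∀ r ∈ L, D.IsPosRoot r ∧ posi r ≠ b) (t : ℕ → K) :
    h8Pb D hB L t ∈ h8Uh D K posi b := by
  unfold h8Pb
  apply Subgroup.list_prod_mem
  intro g hg
  rw [List.mem_map] at hg
  obtain ⟨r, hr, rfl⟩ := hg
  exact h8xU_mem_Uh D hB posi b r (hL r hr).1 (hL r hr).2 _

section
variable (D : ChevalleyDatum) (hB : H8Base.{u} D) (hC : H8CommAll.{u} D) (hBN : H8BN D)
  (hO2 : H8Ord2 D) (posi : ℕ → ℕ) (hK : H8Blk D posi) (hR : H8BlkRead D posi)
  (σ τ π ϖ : ℕ → ℕ) (η : ℕ → ℤ) (hAut : H8Aut D σ τ π ϖ η) (f : K ≃+* K)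
  (hσp : ∀ r, D.IsPosRoot r → D.IsPosRoot (σ r) ∧ posi (σ r) = posi r)

include hC hBN hO2 hK in
/-- conjugating a generator outside the block by a root element of the block -/
theorem h8Uh_conj_gen (b r s : ℕ) (hr : D.IsPosRoot r) (hrb : posi r = b) (hs : D.IsPosRoot s)
    (hsb : posi s ≠ b) (a c : K) :
    h8xU D hB r a * h8xU D hB s c * (h8xU D hB r a)⁻¹ ∈ h8Uh D K posi b := by
  have hb : h8xU D hB s c ∈ h8Uh D K posi b := h8xU_mem_Uh D hB posi b s hs hsb c
  have hsr : s ≠ r := by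
    intro h
    rw [h] at hsb
    exact hsb hrb
  have hsn : r ≠ D.negIdx.getD s 0 := by
    intro h
    have hn := h8neg_of_pos D hB hO2 s hs
    rw [← h] at hn
    exact h8pos_not_neg D hB hBN r hr hn
  have hcomm := hC.all s hs.1 r hr.1 (Ne.symm hsr) hsn K c (-a)
  have hU : h8xU D hB r (-a) * h8xU D hB s c =
      h8xU D hB s c * h8xU D hB r (-a) * h8wordU D hB (D.commWord K s r c (-a)) := by
    apply Units.ext
    simp only [Units.val_mul, h8xU_val, h8wordU_val]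
    exact hcomm
  have hWm : h8wordU D hB (D.commWord K s r c (-a)) ∈ h8Uh D K posi b := by
    unfold h8wordU
    apply Subgroup.list_prod_mem
    intro g hg
    rw [List.mem_map] at hg
    obtain ⟨p, hp, rfl⟩ := hg
    unfold ChevalleyDatum.commWord at hp
    rw [List.mem_map] at hp
    obtain ⟨cc, hcc, rfl⟩ := hp
    obtain ⟨h1, _, h3⟩ := hK.comm s r hs hr (Ne.symm hsr) cc hcc
    exact h8xU_mem_Uh D hB posi b cc.1 h1 (by omega) _
  have e : h8xU D hB r a * h8xU D hB s c * (h8xU D hB r a)⁻¹ =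
      h8xU D hB s c * (h8wordU D hB (D.commWord K s r c (-a)))⁻¹ := by
    rw [h8xU_inv, eq_mul_inv_iff_mul_eq]
    have ha : h8xU D hB r a * h8xU D hB r (-a) = 1 := by
      rw [h8xU_add D hB r hr.1, add_neg_cancel]
      exact Units.ext (by rw [h8xU_val, hB.zero]; rfl)
    symm
    calc h8xU D hB s c = (h8xU D hB r a * h8xU D hB r (-a)) * h8xU D hB s c := by
          rw [ha, one_mul]
      _ = h8xU D hB r a * (h8xU D hB r (-a) * h8xU D hB s c) := by rw [mul_assoc]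
      _ = h8xU D hB r a * (h8xU D hB s c * h8xU D hB r (-a) *
            h8wordU D hB (D.commWord K s r c (-a))) := by rw [hU]
      _ = _ := by group
  rw [e]
  exact Subgroup.mul_mem _ hb (Subgroup.inv_mem _ hWm)

include hC hBN hO2 hK in
/-- the root elements of the block normalize the subgroup generated by the other root
subgroups -/
theorem h8xU_mem_normalizer_Uh (b r : ℕ) (hr : D.IsPosRoot r) (hrb : posi r = b) (a : K) :
    h8xU D hB r a ∈ Subgroup.normalizer (h8Uh D K posi b : Set (GL D.Idx K)) := by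
  unfold h8Uh
  apply h8mem_normalizer_of_conj
  · rintro x ⟨s, c, hs, hsb, hx⟩
    have hx' : x = h8xU D hB s c := Units.ext hx
    rw [hx']
    exact h8Uh_conj_gen D hB hC hBN hO2 posi hK b r s hr hrb hs hsb a c
  · rintro x ⟨s, c, hs, hsb, hx⟩
    have hx' : x = h8xU D hB s c := Units.ext hx
    rw [hx']
    have := h8Uh_conj_gen D hB hC hBN hO2 posi hK b r s hr hrb hs hsb (-a) c
    rw [← h8xU_inv, inv_inv] at this
    exact this

include hC hBN hO2 hK in
theorem h8Pb_mem_normalizer_Uh (b : ℕ) (t : ℕ → K) :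
    h8Pb D hB (h8Lb D posi b) t ∈ Subgroup.normalizer (h8Uh D K posi b : Set (GL D.Idx K)) := by
  unfold h8Pb
  apply Subgroup.list_prod_mem
  intro g hg
  rw [List.mem_map] at hg
  obtain ⟨r, hr, rfl⟩ := hg
  obtain ⟨h1, h2⟩ := (h8Lb_mem D posi b r).mp hr
  exact h8xU_mem_normalizer_Uh D hB hC hBN hO2 posi hK b r h1 h2 _

include hC hBN hO2 hK hR hσp in
/-- splitting off the block `b` on the right of a fixed element of `U` -/
theorem h8tw_split (b : ℕ) : ∀ d i, i + d = b → ∀ v ∈ h8Ub D K posi i,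
    h8Sig D σ τ π ϖ η hAut f v = v →
    ∃ v' ∈ h8Uh D K posi b, h8Sig D σ τ π ϖ η hAut f v' = v' ∧ ∃ t : ℕ → K,
      (∀ k ∈ h8Lb D posi b, h8tS τ η f t k = t k) ∧ v = v' * h8Pb D hB (h8Lb D posi b) t := by
  intro d
  induction d with
  | zero =>
    intro i hi v hv hfix
    have hib : i = b := by omega
    subst hib
    obtain ⟨t, w, hw, rfl⟩ := h8Ub_step D hB hC hBN hO2 posi hK i v hv
    obtain ⟨h1, h2⟩ := h8Sig_fix_split D hB hC hBN hO2 posi hK hR σ τ π ϖ η hAut f hσp i t w hw hfix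
    have hPfix := (h8Sig_fix_Pb_iff D hB hC hBN hO2 posi hK hR σ τ π ϖ η hAut f hσp i t).mpr h1
    have hwU : w ∈ h8Uh D K posi i := h8Ub_le_Uh D posi i (i + 1) (by omega) hw
    refine ⟨h8Pb D hB (h8Lb D posi i) t * w * (h8Pb D hB (h8Lb D posi i) t)⁻¹, ?_, ?_, t, h1, ?_⟩
    · exact (Subgroup.mem_normalizer_iff.mp
        (h8Pb_mem_normalizer_Uh D hB hC hBN hO2 posi hK i t) w).mp hwU
    · rw [map_mul, map_mul, map_inv, hPfix, h2]
    · group
  | succ d ih =>
    intro i hi v hv hfix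
    obtain ⟨t, w, hw, rfl⟩ := h8Ub_step D hB hC hBN hO2 posi hK i v hv
    obtain ⟨h1, h2⟩ := h8Sig_fix_split D hB hC hBN hO2 posi hK hR σ τ π ϖ η hAut f hσp i t w hw hfix
    have hPfix := (h8Sig_fix_Pb_iff D hB hC hBN hO2 posi hK hR σ τ π ϖ η hAut f hσp i t).mpr h1
    obtain ⟨w', hw', hw'fix, t', ht', rfl⟩ := ih (i + 1) (by omega) w hw h2
    refine ⟨h8Pb D hB (h8Lb D posi i) t * w', ?_, ?_, t', ht', ?_⟩
    · refine Subgroup.mul_mem _ ?_ hw'
      apply h8Pb_mem_Uh D hB posi b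
      intro r hr
      obtain ⟨h3, h4⟩ := (h8Lb_mem D posi i r).mp hr
      exact ⟨h3, by omega⟩
    · rw [map_mul, hPfix, hw'fix]
    · rw [mul_assoc]

end

end Cfsg.Agent.Lib.helper8
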