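import Mathlib
import Cfsg.Prelude.Def_ChevStructure
import Cfsg.Agent.Lib.helper8.ChevTwQ1
import Cfsg.Agent.Lib.helper8.ChevTwP1

set_option autoImplicit false

namespace Cfsg.Agent.Lib.helper8

open Cfsg.Lie Cfsg.Lie.ChevalleyDatum

universe u

variable {K : Type u} [Field K]

theorem h8shuffle4 {G : Type*} [Group G] (x y z A B C : G) (c1 : Commute A y)
    (c2 : Commute (A * B) z) (c3 : Commute (A * B * C) x) :
    (x * A) * (y * B) * (z * C) * (x * A) = (x * y * z * x) * (A * B * C * A) := by
  calc (x * A) * (y * B) * (z * C) * (x * A) = x * (A * y) * B * (z * C) * (x * A) := by group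
    _ = x * (y * A) * B * (z * C) * (x * A) := by rw [c1.eq]
    _ = x * y * ((A * B) * z) * C * (x * A) := by group
    _ = x * y * (z * (A * B)) * C * (x * A) := by rw [c2.eq]
    _ = x * y * z * ((A * B * C) * x) * A := by group
    _ = x * y * z * (x * (A * B * C)) * A := by rw [c3.eq]
    _ = (x * y * z * x) * (A * B * C * A) := by group

/-- strong orthogonality of two roots: the root subgroups of `± r` commute with those of
`± r'` -/
def H8SO (D : ChevalleyDatum) (hB : H8Base.{u} D) (K : Type u) [Field K] (r r' : ℕ) : Prop :=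
  ∀ a ∈ [r, D.negIdx.getD r 0], ∀ b ∈ [r', D.negIdx.getD r' 0], ∀ t u : K,
    Commute (h8xU D hB a t) (h8xU D hB b u)

/-- the rank one subgroup of a root -/
def h8C (D : ChevalleyDatum) (hB : H8Base.{u} D) (K : Type u) [Field K] (r : ℕ) :
    Subgroup (GL D.Idx K) :=
  Subgroup.closure {g | ∃ t : K, g = h8xU D hB r t ∨ g = h8xU D hB (D.negIdx.getD r 0) t}

theorem h8xU_mem_C (D : ChevalleyDatum) (hB : H8Base.{u} D) (r : ℕ) (t : K) :
    h8xU D hB r t ∈ h8C D hB K r := Subgroup.subset_closure ⟨t, Or.inl rfl⟩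

theorem h8xUneg_mem_C (D : ChevalleyDatum) (hB : H8Base.{u} D) (r : ℕ) (t : K) :
    h8xU D hB (D.negIdx.getD r 0) t ∈ h8C D hB K r := Subgroup.subset_closure ⟨t, Or.inr rfl⟩

theorem h8nU_mem_C (D : ChevalleyDatum) (hB : H8Base.{u} D) (r : ℕ) (t : K) :
    h8nU D hB r t ∈ h8C D hB K r := by
  rw [h8nU_eq]
  exact Subgroup.mul_mem _ (Subgroup.mul_mem _ (h8xU_mem_C D hB r t) (h8xUneg_mem_C D hB r _))
    (h8xU_mem_C D hB r t)

theorem h8hU_mem_C (D : ChevalleyDatum) (hB : H8Base.{u} D) (r : ℕ) (t : K) :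
    h8hU D hB r t ∈ h8C D hB K r := by
  rw [h8hU_eq_nn]
  exact Subgroup.mul_mem _ (h8nU_mem_C D hB r t) (Subgroup.inv_mem _ (h8nU_mem_C D hB r 1))

theorem h8C_commute (D : ChevalleyDatum) (hB : H8Base.{u} D) (r r' : ℕ) (h : H8SO D hB K r r')
    (g : GL D.Idx K) (hg : g ∈ h8C D hB K r) (g' : GL D.Idx K) (hg' : g' ∈ h8C D hB K r') :
    Commute g g' := by
  have h1 : h8C D hB K r' ≤ Subgroup.centralizer (h8C D hB K r : Set (GL D.Idx K)) := by
    conv_lhs => unfold h8C
    rw [Subgroup.closure_le]
    intro y hy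
    rw [SetLike.mem_coe, Subgroup.mem_centralizer_iff]
    intro x hx
    have h2 : h8C D hB K r ≤ Subgroup.centralizer ({y} : Set (GL D.Idx K)) := by
      conv_lhs => unfold h8C
      rw [Subgroup.closure_le]
      intro x' hx'
      rw [SetLike.mem_coe, Subgroup.mem_centralizer_iff]
      intro y' hy'
      rw [Set.mem_singleton_iff] at hy'
      subst hy'
      obtain ⟨t, ht⟩ := hx'
      obtain ⟨u, hu⟩ := hy
      rcases ht with rfl | rfl <;> rcases hu with rfl | rfl
      · exact (h r (by simp) r' (by simp) t u).eq.symm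
      · exact (h r (by simp) _ (by simp) t u).eq.symm
      · exact (h _ (by simp) r' (by simp) t u).eq.symm
      · exact (h _ (by simp) _ (by simp) t u).eq.symm
    have := h2 hx
    rw [Subgroup.mem_centralizer_iff] at this
    exact (this y rfl).symm
  have := h1 hg'
  rw [Subgroup.mem_centralizer_iff] at this
  exact (this g hg)

/-- the rank one Bruhat decomposition for a product over strongly orthogonal roots -/
theorem h8rank1_prod (D : ChevalleyDatum) (hB : H8Base.{u} D) (a : ℕ → K) :
    ∀ (L : List ℕ), L.Pairwise (H8SO D hB K) → (∀ r ∈ L, a r ≠ 0) →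
      (L.map fun r => h8xU D hB (D.negIdx.getD r 0) (a r)).prod =
        (L.map fun r => h8xU D hB r (a r)⁻¹).prod *
        (L.map fun r => h8hU D hB r (-(a r)⁻¹)).prod *
        (L.map fun r => h8nU D hB r (1 : K)).prod *
        (L.map fun r => h8xU D hB r (a r)⁻¹).prod := by
  intro L
  induction L with
  | nil => intro _ _; simp
  | cons r L ih =>
    intro hp ha
    rw [List.pairwise_cons] at hp
    have ih' := ih hp.2 (fun s hs => ha s (List.mem_cons_of_mem _ hs))
    simp only [List.map_cons, List.prod_cons]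
    rw [ih', h8x_neg_eq D hB r (a r) (ha r List.mem_cons_self)]
    symm
    have hc : ∀ (F : ℕ → GL D.Idx K), (∀ s, F s ∈ h8C D hB K s) → ∀ g ∈ h8C D hB K r,
        Commute (L.map F).prod g := by
      intro F hF g hg
      apply Commute.list_prod_left
      intro y hy
      rw [List.mem_map] at hy
      obtain ⟨s, hs, rfl⟩ := hy
      exact (h8C_commute D hB r s (hp.1 s hs) g hg _ (hF s)).symm
    have hA := hc (fun s => h8xU D hB s (a s)⁻¹) (fun s => h8xU_mem_C D hB s _)
    have hH := hc (fun s => h8hU D hB s (-(a s)⁻¹)) (fun s => h8hU_mem_C D hB s _)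
    have hN := hc (fun s => h8nU D hB s (1 : K)) (fun s => h8nU_mem_C D hB s _)
    exact h8shuffle4 _ _ _ _ _ _ (hA _ (h8hU_mem_C D hB r _))
      ((hA _ (h8nU_mem_C D hB r _)).mul_left (hH _ (h8nU_mem_C D hB r _)))
      (((hA _ (h8xU_mem_C D hB r _)).mul_left (hH _ (h8xU_mem_C D hB r _))).mul_left
        (hN _ (h8xU_mem_C D hB r _)))

/-- conjugating a product of root elements by an element permuting the root subgroups -/
theorem h8conj_Pb (D : ChevalleyDatum) (hB : H8Base.{u} D) (g : GL D.Idx K) (ρ' : ℕ → ℕ)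
    (t : ℕ → K) : ∀ (L : List ℕ), L.Nodup → (∀ r ∈ L, H8Act D hB g r (ρ' r)) →
      ∃ a : ℕ → K, (∀ r ∈ L, (a r = 0 ↔ t r = 0)) ∧
        g * h8Pb D hB L t * g⁻¹ = (L.map fun r => h8xU D hB (ρ' r) (a r)).prod := by
  intro L
  induction L with
  | nil =>
    intro _ _
    refine ⟨fun _ => 0, fun r hr => absurd hr List.not_mem_nil, ?_⟩
    rw [h8Pb_nil]
    simp
  | cons r L ih =>
    intro hnd hact
    rw [List.nodup_cons] at hnd
    obtain ⟨a, ha, e⟩ := ih hnd.2 (fun s hs => hact s (List.mem_cons_of_mem _ hs))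
    obtain ⟨c, hc, hcr⟩ := hact r List.mem_cons_self
    refine ⟨Function.update a r (c * t r), ?_, ?_⟩
    · intro s hs
      by_cases hsr : s = r
      · subst hsr
        rw [Function.update_self]
        constructor
        · intro h
          rcases mul_eq_zero.mp h with h | h
          · exact absurd h hc
          · exact h
        · intro h
          rw [h, mul_zero]
      · rw [Function.update_of_ne hsr]
        rcases List.mem_cons.mp hs with h | h
        · exact absurd h hsr
        · exact ha s h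
    · rw [h8Pb_cons, List.map_cons, List.prod_cons, Function.update_self]
      have e1 : g * (h8xU D hB r (t r) * h8Pb D hB L t) * g⁻¹ =
          (g * h8xU D hB r (t r) * g⁻¹) * (g * h8Pb D hB L t * g⁻¹) := by group
      rw [e1, hcr, e]
      congr 1
      congr 1
      apply List.map_congr_left
      intro s hs
      rw [Function.update_of_ne]
      intro h
      exact hnd.1 (h ▸ hs)

end Cfsg.Agent.Lib.helper8
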