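import Mathlib
import Cfsg.Prelude.Def_ChevStructure
import Cfsg.Agent.Lib.helper8.ChevTwQ2
import Cfsg.Agent.Lib.helper8.ChevTwO3

set_option autoImplicit false

namespace Cfsg.Agent.Lib.helper8

open Cfsg.Lie Cfsg.Lie.ChevalleyDatum

universe u

variable {K : Type u} [Field K]

section
variable (D : ChevalleyDatum) (hB : H8Base.{u} D) (hA : H8ReflAll D) (hC : H8CommAll.{u} D)
  (hBN : H8BN D) (hW : H8BN2 D) (hO : H8Ord D) (hO2 : H8Ord2 D)
  (posi : ℕ → ℕ) (hK : H8Blk D posi) (hR : H8BlkRead D posi)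
  (σ τ π ϖ : ℕ → ℕ) (η : ℕ → ℤ) (hAut : H8Aut D σ τ π ϖ η) (f : K ≃+* K)
  (hσp : ∀ r, D.IsPosRoot r → D.IsPosRoot (σ r) ∧ posi (σ r) = posi r)
  (G1 : Subgroup (GL D.Idx K)) (hG1 : G1 ≤ D.group K)
  (hfix : ∀ g ∈ G1, h8Sig D σ τ π ϖ η hAut f g = g)
  (hUfix : ∀ g ∈ D.posUnipotent K, h8Sig D σ τ π ϖ η hAut f g = g → g ∈ G1)

/-- the fixed points of the twisting endomorphism in the torus of a list of roots -/
def h8HJ (L : List ℕ) : Set (GL D.Idx K) :=
  {h | h8Sig D σ τ π ϖ η hAut f h = h ∧ ∃ d : ℕ → K, (∀ r ∈ L, d r ≠ 0) ∧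
    h = (L.map fun r => h8hU D hB r (d r)).prod}

include hA in
/-- conjugation by an orbit product maps the root subgroups outside the block into `U` -/
theorem h8nWU_conj_Uh (w : List ℕ) (hw : ∀ i ∈ w, i < D.rank) (b : ℕ)
    (h2 : ∀ s, D.IsPosRoot s → posi s ≠ b → D.IsPosRoot (h8sW D w s))
    (x : GL D.Idx K) (hx : x ∈ h8Uh D K posi b) :
    h8nWU D hB w * x * (h8nWU D hB w)⁻¹ ∈ D.posUnipotent K := by
  unfold h8Uh at hx
  induction hx using Subgroup.closure_induction with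
  | mem y hy =>
    obtain ⟨s, c, hs, hsb, hy⟩ := hy
    have hy' : y = h8xU D hB s c := Units.ext hy
    obtain ⟨c', _, hact⟩ := h8actN_act D hB _ _ _ (h8actN_word (F := K) D hB hA w hw s hs.1)
    rw [hy', hact]
    exact h8xU_mem_U D hB _ (h2 s hs hsb) _
  | one =>
    have : h8nWU D hB w * 1 * (h8nWU D hB w : GL D.Idx K)⁻¹ = 1 := by group
    rw [this]
    exact Subgroup.one_mem _
  | mul a b' _ _ ha hb =>
    have : h8nWU D hB w * (a * b') * (h8nWU D hB w : GL D.Idx K)⁻¹ =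
        (h8nWU D hB w * a * (h8nWU D hB w)⁻¹) * (h8nWU D hB w * b' * (h8nWU D hB w)⁻¹) := by group
    rw [this]
    exact Subgroup.mul_mem _ ha hb
  | inv a _ ha =>
    have : h8nWU D hB w * a⁻¹ * (h8nWU D hB w : GL D.Idx K)⁻¹ =
        (h8nWU D hB w * a * (h8nWU D hB w)⁻¹)⁻¹ := by group
    rw [this]
    exact Subgroup.inv_mem _ ha

/-- conjugating a product of root elements into `U` -/
theorem h8conj_Pb_mem_U (g : GL D.Idx K) (ρ' : ℕ → ℕ) (t : ℕ → K) (L : List ℕ) (hnd : L.Nodup)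
    (hact : ∀ r ∈ L, H8Act D hB g r (ρ' r)) (hpos : ∀ r ∈ L, D.IsPosRoot (ρ' r)) :
    g * h8Pb D hB L t * g⁻¹ ∈ D.posUnipotent K := by
  obtain ⟨a, _, e⟩ := h8conj_Pb D hB g ρ' t L hnd hact
  rw [e]
  apply Subgroup.list_prod_mem
  intro y hy
  rw [List.mem_map] at hy
  obtain ⟨r, hr, rfl⟩ := hy
  exact h8xU_mem_U D hB _ (hpos r hr) _

include hA hC hBN hW hO hO2 hK hR hσp hG1 hfix hUfix in
/-- the key step of the closure argument: `n_J U¹ n ⊆ U¹ n_J n U¹ ∪ U¹ H_J n_J² n U¹` -/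
theorem h8tw_R2 (w : List ℕ) (hw : ∀ i ∈ w, i < D.rank)
    (hn1 : (h8nWU D hB w : GL D.Idx K) ∈ G1) (b : ℕ)
    (hLp : (w.map D.simple).Perm (h8Lb D posi b))
    (h1 : ∀ r ∈ w.map D.simple, h8sW D w r = D.negIdx.getD r 0 ∧
      h8sW D w.reverse r = D.negIdx.getD r 0)
    (h2 : ∀ s, D.IsPosRoot s → posi s ≠ b → D.IsPosRoot (h8sW D w s))
    (hso : (w.map D.simple).Pairwise (H8SO D hB K))
    (hconn : ∀ r ∈ w.map D.simple, ∀ r' ∈ w.map D.simple, r' = r ∨ r' = σ r ∨ r' = σ (σ r))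
    (v : GL D.Idx K) (hv : v ∈ D.posUnipotent K ⊓ G1) (n : GL D.Idx K)
    (hn : n ∈ D.monomialSubgroup K ⊓ G1) :
    ∃ u₁ ∈ D.posUnipotent K ⊓ G1, ∃ m : GL D.Idx K, ∃ u₂ ∈ D.posUnipotent K ⊓ G1,
      h8nWU D hB w * v * n = u₁ * m * u₂ ∧
      (m = h8nWU D hB w * n ∨ ∃ h ∈ h8HJ D hB σ τ π ϖ η hAut f (w.map D.simple),
        m = h * h8nWU D hB w * h8nWU D hB w * n) := by
  classical
  have hσpos : ∀ r, D.IsPosRoot r → D.IsPosRoot (σ r) := fun r hr => (hσp r hr).1
  have hLmem : ∀ r ∈ w.map D.simple, D.IsPosRoot r ∧ posi r = b := fun r hr =>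
    (h8Lb_mem D posi b r).mp (hLp.mem_iff.mp hr)
  have hLnd : (w.map D.simple).Nodup := hLp.nodup_iff.mpr (h8Lb_nodup D posi b)
  have hnwfix := hfix _ hn1
  have hnfix := hfix _ hn.2
  have hnwN : (h8nWU D hB w : GL D.Idx K) ∈ D.monomialSubgroup K := h8nWU_mem_N D hB hA w hw
  -- splitting `v`
  have hv0 : v ∈ h8Ub D K posi 0 := by rw [h8Ub_zero]; exact hv.1
  obtain ⟨v', hv', hv'fix, t, ht, rfl⟩ := h8tw_split D hB hC hBN hO2 posi hK hR σ τ π ϖ η hAut f hσp
    b b 0 (by omega) v hv0 (hfix v hv.2)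
  rw [← h8Pb_perm D hB hC hBN hO2 posi hK b _ _ hLp hLmem t] at hv ⊢
  have hxfix : h8Sig D σ τ π ϖ η hAut f (h8Pb D hB (w.map D.simple) t) =
      h8Pb D hB (w.map D.simple) t := by
    have := hfix _ hv.2
    rw [map_mul, hv'fix] at this
    exact mul_left_cancel this
  have hxU : ∀ s : ℕ → K, h8Pb D hB (w.map D.simple) s ∈ D.posUnipotent K := by
    intro s
    rw [← h8Ub_zero D posi]
    exact h8Pb_mem_Ub D hB posi 0 _ (fun r hr => ⟨(hLmem r hr).1, Nat.zero_le _⟩) s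
  have hxG : h8Pb D hB (w.map D.simple) t ∈ G1 := hUfix _ (hxU t) hxfix
  have hv'G : v' ∈ G1 := by
    have : v' = (v' * h8Pb D hB (w.map D.simple) t) * (h8Pb D hB (w.map D.simple) t)⁻¹ := by group
    rw [this]
    exact Subgroup.mul_mem _ hv.2 (Subgroup.inv_mem _ hxG)
  -- the first factor
  have huaU := h8nWU_conj_Uh D hB hA posi w hw b h2 v' hv'
  have huaG : h8nWU D hB w * v' * (h8nWU D hB w)⁻¹ ∈ G1 :=
    Subgroup.mul_mem _ (Subgroup.mul_mem _ hn1 hv'G) (Subgroup.inv_mem _ hn1)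
  -- the action of `n⁻¹`
  obtain ⟨σn, τn, a1, a2, a3, a4, a5, a6, a7⟩ := h8permN D hB hA hBN n⁻¹
    (Subgroup.inv_mem _ hn.1)
  have hninvfix : h8Sig D σ τ π ϖ η hAut f n⁻¹ = n⁻¹ := by rw [map_inv, hnfix]
  have hequiv : ∀ r < D.nroots, σn (σ r) = σ (σn r) := by
    intro r hr
    have h3 := h8Sig_act D σ τ π ϖ η hAut f hB n⁻¹ r (σn r) hr (a1 r hr) (a7 r hr)
    rw [hninvfix] at h3
    exact h8act_unique D hB hA hBN hW hO2 n⁻¹ (σ r) _ _ (a1 _ (hAut.lt r hr))
      (hAut.lt _ (a1 r hr)) (a7 _ (hAut.lt r hr)) h3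
  have hσiff : ∀ r < D.nroots, (D.IsPosRoot (σ r) ↔ D.IsPosRoot r) := by
    intro r hr
    constructor
    · intro h
      rcases hB.posneg r hr with hp | hneg
      · exact hp
      · exact absurd (h8sig_neg D hB hBN hO2 σ τ π ϖ η hAut hσpos r hneg)
          (fun hn' => h8pos_not_neg D hB hBN _ h hn')
    · exact hσpos r
  have hsign : ∀ r ∈ w.map D.simple, ∀ r' ∈ w.map D.simple,
      (D.IsPosRoot (σn r') ↔ D.IsPosRoot (σn r)) := by
    intro r hr r' hr'
    have hrlt := (hLmem r hr).1.1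
    rcases hconn r hr r' hr' with rfl | rfl | rfl
    · exact Iff.rfl
    · rw [hequiv r hrlt, hσiff _ (a1 r hrlt)]
    · rw [hequiv _ (hAut.lt r hrlt), hequiv r hrlt, hσiff _ (hAut.lt _ (a1 r hrlt)),
        hσiff _ (a1 r hrlt)]
  have key : h8nWU D hB w * (v' * h8Pb D hB (w.map D.simple) t) * n =
      (h8nWU D hB w * v' * (h8nWU D hB w)⁻¹) *
        (h8nWU D hB w * h8Pb D hB (w.map D.simple) t * n) := by group
  by_cases hpos : ∀ r ∈ w.map D.simple, D.IsPosRoot (σn r)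
  · -- the length increasing case
    have hx'U : n⁻¹ * h8Pb D hB (w.map D.simple) t * n⁻¹⁻¹ ∈ D.posUnipotent K :=
      h8conj_Pb_mem_U D hB n⁻¹ σn t _ hLnd (fun r hr => a7 r (hLmem r hr).1.1) hpos
    have hx'G : n⁻¹ * h8Pb D hB (w.map D.simple) t * n⁻¹⁻¹ ∈ G1 :=
      Subgroup.mul_mem _ (Subgroup.mul_mem _ (Subgroup.inv_mem _ hn.2) hxG)
        (Subgroup.inv_mem _ (Subgroup.inv_mem _ hn.2))
    refine ⟨_, ⟨huaU, huaG⟩, h8nWU D hB w * n, _, ⟨hx'U, hx'G⟩, ?_, Or.inl rfl⟩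
    rw [key]
    group
  · -- the length decreasing case
    push Not at hpos
    obtain ⟨r₀, hr₀, hr₀n⟩ := hpos
    have hneg : ∀ r ∈ w.map D.simple, D.IsNegRoot (σn r) := by
      intro r hr
      rcases hB.posneg _ (a1 r (hLmem r hr).1.1) with hp | hneg
      · exact absurd ((hsign r hr r₀ hr₀).mpr hp) hr₀n
      · exact hneg
    by_cases hz : ∀ r ∈ w.map D.simple, t r = 0
    · -- the block component is trivial
      have hx1 : h8Pb D hB (w.map D.simple) t = 1 := by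
        rw [h8Pb_congr D hB _ t (fun _ => 0) hz, h8Pb_zero]
      refine ⟨_, ⟨huaU, huaG⟩, h8nWU D hB w * n, 1, Subgroup.one_mem _, ?_, Or.inl rfl⟩
      rw [key, hx1]
      group
    · push Not at hz
      obtain ⟨r₁, hr₁, hr₁t⟩ := hz
      -- all coordinates are non-zero
      have hηne : ∀ r < D.nroots, ((η r : ℤ) : K) ≠ 0 := by
        intro r hr
        rcases hAut.eta1 r hr with h | h <;> rw [h] <;> simp
      have htσ : ∀ r ∈ w.map D.simple, σ r ∈ w.map D.simple → (t (σ r) = 0 ↔ t r = 0) := by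
        intro r hr hσr
        have hc := ht (σ r) (hLp.mem_iff.mp hσr)
        unfold h8tS at hc
        rw [hAut.ts r (hLmem r hr).1.1] at hc
        rw [← hc]
        constructor
        · intro h
          rcases mul_eq_zero.mp h with h | h
          · exact absurd h (hηne r (hLmem r hr).1.1)
          · exact (map_eq_zero f).mp h
        · intro h
          rw [h, map_zero, mul_zero]
      have hσmem : ∀ r ∈ w.map D.simple, σ r ∈ w.map D.simple := by
        intro r hr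
        have hp := h8Lb_map_perm D posi σ τ π ϖ η hAut hσp b
        have : σ r ∈ (h8Lb D posi b).map σ := List.mem_map.mpr ⟨r, hLp.mem_iff.mp hr, rfl⟩
        exact hLp.mem_iff.mpr (hp.mem_iff.mp this)
      have htne : ∀ r ∈ w.map D.simple, t r ≠ 0 := by
        intro r hr
        rcases hconn r₁ hr₁ r hr with rfl | rfl | rfl
        · exact hr₁t
        · exact fun h => hr₁t ((htσ r₁ hr₁ (hσmem r₁ hr₁)).mp h)
        · intro h
          have h' := (htσ _ (hσmem r₁ hr₁) (hσmem _ (hσmem r₁ hr₁))).mp h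
          exact hr₁t ((htσ r₁ hr₁ (hσmem r₁ hr₁)).mp h')
      -- the conjugate of the block component
      obtain ⟨a, ha, ey⟩ := h8conj_Pb D hB (h8nWU D hB w) (h8sW D w) t _ hLnd
        (fun r hr => h8actN_act D hB _ _ _ (h8actN_word (F := K) D hB hA w hw r (hLmem r hr).1.1))
      have hane : ∀ r ∈ w.map D.simple, a r ≠ 0 := fun r hr h => htne r hr ((ha r hr).mp h)
      have ey' : h8nWU D hB w * h8Pb D hB (w.map D.simple) t * (h8nWU D hB w)⁻¹ =
          ((w.map D.simple).map fun r => h8xU D hB (D.negIdx.getD r 0) (a r)).prod := by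
        rw [ey]
        congr 1
        apply List.map_congr_left
        intro r hr
        rw [(h1 r hr).1]
      rw [h8rank1_prod D hB a _ hso hane] at ey'
      have eN : ((w.map D.simple).map fun r => h8nU D hB r (1 : K)).prod = h8nWU D hB w := by
        unfold h8nWU
        rw [List.map_map]
        rfl
      rw [eN] at ey'
      have eA : ((w.map D.simple).map fun r => h8xU D hB r (a r)⁻¹).prod =
          h8Pb D hB (w.map D.simple) (fun r => (a r)⁻¹) := rfl
      rw [eA] at ey'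
      -- the torus part
      have hHh : ((w.map D.simple).map fun r => h8hU D hB r (-(a r)⁻¹)).prod ∈
          D.diagonalSubgroup K := by
        apply Subgroup.list_prod_mem
        intro y hy
        rw [List.mem_map] at hy
        obtain ⟨r, hr, rfl⟩ := hy
        exact h8hU_mem_H D hB r (hLmem r hr).1.1 _ (neg_ne_zero.mpr (inv_ne_zero (hane r hr)))
      have hAm := h8Pb_mem_Um D hB hA w hw (fun r => (a r)⁻¹) (w.map D.simple) (fun r hr =>
        ⟨(hLmem r hr).1, by rw [(h1 r hr).1]; exact h8neg_of_pos D hB hO2 r (hLmem r hr).1⟩)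
      set A := h8Pb D hB (w.map D.simple) (fun r => (a r)⁻¹) with hAdef
      set Hh := ((w.map D.simple).map fun r => h8hU D hB r (-(a r)⁻¹)).prod with hHdef
      have hAm' : A ∈ Subgroup.closure (h8UmSet D K (Hh * h8nWU D hB w * 1)) :=
        Subgroup.closure_mono (h8UmSet_mono_H D hB _ Hh 1 hHh (Subgroup.one_mem _)) hAm
      have hmN : Hh * h8nWU D hB w * 1 ∈ D.monomialSubgroup K :=
        Subgroup.mul_mem _ (Subgroup.mul_mem _ (h8H_le_N D hHh) hnwN) (Subgroup.one_mem _)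
      have hyG : h8nWU D hB w * h8Pb D hB (w.map D.simple) t * (h8nWU D hB w)⁻¹ ∈ G1 :=
        Subgroup.mul_mem _ (Subgroup.mul_mem _ hn1 hxG) (Subgroup.inv_mem _ hn1)
      obtain ⟨u1, hu1, m', hm', u', hu', e', f1, f2, f3⟩ := h8tw_normal D hB hA hC hBN hW hO hO2
        σ τ π ϖ η hAut f hσpos _ (hG1 hyG) (hfix _ hyG)
      have ey'' : A * (Hh * h8nWU D hB w * 1) * A = u1 * m' * u' := by
        rw [← e', ey']
        group
      obtain ⟨g1, g2, g3⟩ := h8normal_unique_strong D hB hA hC hBN A u1 _ m' A u'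
        (h8Um_le_U D _ hAm) hu1 hmN hm' hAm' hu' ey''
      have hAfix : h8Sig D σ τ π ϖ η hAut f A = A := by rw [g2]; exact f1
      have hHfix : h8Sig D σ τ π ϖ η hAut f Hh = Hh := by
        have : h8Sig D σ τ π ϖ η hAut f (Hh * h8nWU D hB w * 1) = Hh * h8nWU D hB w * 1 := by
          rw [g1]; exact f2
        rw [map_mul, map_mul, map_one, hnwfix, mul_one, mul_one] at this
        exact mul_right_cancel this
      have hAG : A ∈ G1 := hUfix A (h8Um_le_U D _ hAm) hAfix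
      have hHJ : Hh ∈ h8HJ D hB σ τ π ϖ η hAut f (w.map D.simple) :=
        ⟨hHfix, fun r => -(a r)⁻¹,
          fun r hr => neg_ne_zero.mpr (inv_ne_zero (hane r hr)), rfl⟩
      -- the last factor
      have hlast : (h8nWU D hB w * n)⁻¹ * A * (h8nWU D hB w * n)⁻¹⁻¹ ∈ D.posUnipotent K := by
        rw [hAdef]
        apply h8conj_Pb_mem_U D hB _ (fun r => D.negIdx.getD (σn r) 0) _ _ hLnd
        · intro r hr
          have hrlt := (hLmem r hr).1.1
          have hw1 := h8actN_act D hB _ _ _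
            (h8actN_word_inv (F := K) D hB hA w hw r hrlt)
          rw [(h1 r hr).2] at hw1
          have hw2 := a7 _ (hO2.negneg r hrlt).1
          rw [a5 r hrlt] at hw2
          have := h8act_mul D hB n⁻¹ (h8nWU D hB w)⁻¹ r _ _ hw1 hw2
          rw [mul_inv_rev]
          exact this
        · intro r hr
          exact h8pos_of_neg D hB hBN hO2 _ (hneg r hr)
      have hlastG : (h8nWU D hB w * n)⁻¹ * A * (h8nWU D hB w * n)⁻¹⁻¹ ∈ G1 := by
        have hnn : h8nWU D hB w * n ∈ G1 := Subgroup.mul_mem _ hn1 hn.2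
        exact Subgroup.mul_mem _ (Subgroup.mul_mem _ (Subgroup.inv_mem _ hnn) hAG)
          (Subgroup.inv_mem _ (Subgroup.inv_mem _ hnn))
      refine ⟨(h8nWU D hB w * v' * (h8nWU D hB w)⁻¹) * A,
        ⟨Subgroup.mul_mem _ huaU (h8Um_le_U D _ hAm), Subgroup.mul_mem _ huaG hAG⟩,
        Hh * h8nWU D hB w * h8nWU D hB w * n, _, ⟨hlast, hlastG⟩, ?_, Or.inr ⟨Hh, hHJ, rfl⟩⟩
      rw [key]
      have e3 : h8nWU D hB w * h8Pb D hB (w.map D.simple) t * n =
          (h8nWU D hB w * h8Pb D hB (w.map D.simple) t * (h8nWU D hB w)⁻¹) *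
            (h8nWU D hB w * n) := by group
      rw [e3, ey']
      group

end

end Cfsg.Agent.Lib.helper8
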