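import Mathlib
import Cfsg.Prelude.Def_ChevStructure
import Cfsg.Agent.Lib.helper8.ChevTwQ3
import Cfsg.Agent.Lib.helper8.ChevBr1

set_option autoImplicit false

namespace Cfsg.Agent.Lib.helper8

open Cfsg.Lie Cfsg.Lie.ChevalleyDatum

universe u

/-- the abstract closure argument behind the Bruhat decomposition of a twisted group: the set
`U¹ H₀ ⟨n_J⟩ U¹` is stable under left multiplication by the generators -/
theorem h8closure_abs {G : Type*} [Group G] {ι : Type*} (U1 N1 : Subgroup G) (H0 : Set G)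
    (ns : ι → G) (h0one : (1 : G) ∈ H0) (h0mul : ∀ a ∈ H0, ∀ b ∈ H0, a * b ∈ H0)
    (h0U : ∀ h ∈ H0, ∀ x ∈ U1, h * x * h⁻¹ ∈ U1) (h0N : ∀ h ∈ H0, h ∈ N1)
    (hnsN : ∀ k, ns k ∈ N1)
    (hconj : ∀ k, ∀ h ∈ H0, ns k * h * (ns k)⁻¹ ∈ H0)
    (hsq : ∀ k, ns k * ns k ∈ H0)
    (hR : ∀ k, ∀ v ∈ U1, ∀ n ∈ N1, ∃ u₁ ∈ U1, ∃ m : G, ∃ u₂ ∈ U1, ns k * v * n = u₁ * m * u₂ ∧
      (m = ns k * n ∨ ∃ h ∈ H0, m = h * ns k * ns k * n))
    (S : Set G)
    (hS : ∀ x ∈ S, ∀ y ∈ ({x, x⁻¹} : Set G), y ∈ U1 ∨ ∃ k, ∃ A ∈ U1, ∃ A' ∈ U1, ∃ h ∈ H0,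
      y = A * h * ns k * A')
    (g : G) (hg : g ∈ Subgroup.closure S) :
    ∃ u ∈ U1, ∃ h ∈ H0, ∃ ks : List ι, ∃ u' ∈ U1, g = u * h * (ks.map ns).prod * u' := by
  have hnks : ∀ ks : List ι, (ks.map ns).prod ∈ N1 := by
    intro ks
    apply Subgroup.list_prod_mem
    intro y hy
    rw [List.mem_map] at hy
    obtain ⟨k, _, rfl⟩ := hy
    exact hnsN k
  have step : ∀ x : G, (x ∈ U1 ∨ ∃ k, ∃ A ∈ U1, ∃ A' ∈ U1, ∃ h ∈ H0, x = A * h * ns k * A') →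
      ∀ y : G, (∃ u ∈ U1, ∃ h ∈ H0, ∃ ks : List ι, ∃ u' ∈ U1,
        y = u * h * (ks.map ns).prod * u') →
      ∃ u ∈ U1, ∃ h ∈ H0, ∃ ks : List ι, ∃ u' ∈ U1, x * y = u * h * (ks.map ns).prod * u' := by
    intro x hx y hy
    obtain ⟨u, hu, h, hh, ks, u', hu', rfl⟩ := hy
    rcases hx with hx | ⟨k, A, hA, A', hA', h₁, hh₁, rfl⟩
    · refine ⟨x * u, Subgroup.mul_mem _ hx hu, h, hh, ks, u', hu', ?_⟩
      group
    · obtain ⟨u₁, hu₁, m, u₂, hu₂, e, hm⟩ := hR k (A' * u) (Subgroup.mul_mem _ hA' hu)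
        (h * (ks.map ns).prod) (Subgroup.mul_mem _ (h0N h hh) (hnks ks))
      have e1 : A * h₁ * ns k * A' * (u * h * (ks.map ns).prod * u') =
          A * h₁ * (ns k * (A' * u) * (h * (ks.map ns).prod)) * u' := by group
      rw [e1, e]
      rcases hm with rfl | ⟨h', hh', rfl⟩
      · refine ⟨A * (h₁ * u₁ * h₁⁻¹), Subgroup.mul_mem _ hA (h0U h₁ hh₁ u₁ hu₁),
          h₁ * (ns k * h * (ns k)⁻¹), h0mul _ hh₁ _ (hconj k h hh), k :: ks,
          u₂ * u', Subgroup.mul_mem _ hu₂ hu', ?_⟩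
        rw [List.map_cons, List.prod_cons]
        group
      · refine ⟨A * (h₁ * u₁ * h₁⁻¹), Subgroup.mul_mem _ hA (h0U h₁ hh₁ u₁ hu₁),
          h₁ * h' * (ns k * ns k) * h,
          h0mul _ (h0mul _ (h0mul _ hh₁ _ hh') _ (hsq k)) _ hh, ks,
          u₂ * u', Subgroup.mul_mem _ hu₂ hu', ?_⟩
        group
  induction hg using Subgroup.closure_induction_left with
  | one =>
    refine ⟨1, Subgroup.one_mem _, 1, h0one, [], 1, Subgroup.one_mem _, ?_⟩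
    simp
  | mul_left x hx y _ ih =>
    exact step x (hS x hx x (by simp)) y ih
  | inv_mul_cancel x hx y _ ih =>
    exact step x⁻¹ (hS x hx x⁻¹ (by simp)) y ih

variable {K : Type u} [Field K]

/-- an element `u n u'` of a Bruhat cell which lies in `H` equals `n` -/
theorem h8cell_H (D : ChevalleyDatum) (hB : H8Base.{u} D) (hA : H8ReflAll D)
    (hC : H8CommAll.{u} D) (hBN : H8BN D) (g x n x' : GL D.Idx K)
    (hg : g ∈ D.diagonalSubgroup K) (hx : x ∈ D.posUnipotent K) (hn : n ∈ D.monomialSubgroup K)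
    (hx' : x' ∈ D.posUnipotent K) (e : g = x * n * x') : g = n := by
  have h1 : g⁻¹ * n ∈ D.diagonalSubgroup K :=
    h8cell_disjoint D hB hA hC hBN g n (h8H_le_N D hg) hn
      ⟨x, h8U_le_B D hx, x', h8U_le_B D hx', e⟩
  have hnH : n ∈ D.diagonalSubgroup K := by
    have : n = g * (g⁻¹ * n) := by group
    rw [this]
    exact Subgroup.mul_mem _ hg h1
  have hnorm := h8_H_le_normalizer_U (F := K) D hB hnH
  have h2 : n * x' * n⁻¹ ∈ D.posUnipotent K := (Subgroup.mem_normalizer_iff.mp hnorm x').mp hx'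
  have h3 : g * n⁻¹ ∈ D.posUnipotent K ⊓ D.diagonalSubgroup K := by
    refine Subgroup.mem_inf.mpr ⟨?_, Subgroup.mul_mem _ hg (Subgroup.inv_mem _ hnH)⟩
    have : g * n⁻¹ = x * (n * x' * n⁻¹) := by rw [e]; group
    rw [this]
    exact Subgroup.mul_mem _ hx h2
  rw [h8_U_inf_H D hB, Subgroup.mem_bot] at h3
  exact mul_inv_eq_one.mp h3

end Cfsg.Agent.Lib.helper8
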