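import Mathlib
import Cfsg.Prelude.Def_ChevStructure
import Cfsg.Agent.Lib.helper8.ChevTwQ4
import Cfsg.Agent.Lib.helper8.ChevHProd
import Cfsg.Agent.Lib.helper8.ChevCore
import Cfsg.Agent.Lib.helper8.ChevTwH1
import Cfsg.Agent.Lib.helper8.ChevNH2
import Cfsg.Agent.Lib.helper8.ChevCent2

set_option autoImplicit false

namespace Cfsg.Agent.Lib.helper8

open Cfsg.Lie Cfsg.Lie.ChevalleyDatum

universe u

variable {K : Type u} [Field K]

section
variable (D : ChevalleyDatum) (hB : H8Base.{u} D)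

/-- the torus element with coordinates `c` with respect to the simple coroots -/
def h8Tor (c : ℕ → K) : GL D.Idx K :=
  ((List.range D.rank).map fun i => h8hU D hB (D.simple i) (c i)).prod

theorem h8Tor_val_aux (hsc : h8scChk D = true) (c : ℕ → K) (hc : ∀ i < D.rank, c i ≠ 0)
    (n : ℕ) (hn : n ≤ D.rank) :
    ((((List.range n).map fun i => h8hU D hB (D.simple i) (c i)).prod : GL D.Idx K) :
      Matrix D.Idx D.Idx K) = Matrix.diagonal (h8Phi D n c) := by
  induction n with
  | zero =>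
    rw [List.range_zero, List.map_nil, List.prod_nil, Units.val_one, ← Matrix.diagonal_one]
    congr 1
    funext x
    rcases x with k | v <;> simp [h8Phi]
  | succ n ih =>
    have hn' : n < D.rank := hn
    rw [List.range_succ, List.map_append, List.prod_append, Units.val_mul, ih (Nat.le_of_lt hn')]
    simp only [List.map_cons, List.map_nil, List.prod_cons, List.prod_nil, mul_one]
    have hsp := h8scChk_spec D hsc n hn'
    rw [h8hU_val, hB.hdiag K (D.simple n) hsp.1 (c n) (hc n hn'), Matrix.diagonal_mul_diagonal]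
    congr 1
    funext x
    rcases x with k | v
    · simp [h8Phi, h8dvec]
    · simp only [h8Phi, h8dvec, Sum.elim_inr]
      rw [Finset.prod_range_succ, h8K_simple D hsc n hn']

theorem h8Tor_val (hsc : h8scChk D = true) (c : ℕ → K) (hc : ∀ i < D.rank, c i ≠ 0) :
    ((h8Tor D hB c : GL D.Idx K) : Matrix D.Idx D.Idx K) =
      Matrix.diagonal (h8Phi D D.rank c) :=
  h8Tor_val_aux D hB hsc c hc D.rank le_rfl

theorem h8Tor_mem_H (hsc : h8scChk D = true) (c : ℕ → K) (hc : ∀ i < D.rank, c i ≠ 0) :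
    h8Tor D hB c ∈ D.diagonalSubgroup K := by
  unfold h8Tor
  apply Subgroup.list_prod_mem
  intro y hy
  rw [List.mem_map] at hy
  obtain ⟨i, hi, rfl⟩ := hy
  rw [List.mem_range] at hi
  exact h8hU_mem_H D hB _ (h8scChk_spec D hsc i hi).1 _ (hc i hi)

theorem h8Tor_congr (c c' : ℕ → K) (h : ∀ i < D.rank, c i = c' i) :
    h8Tor D hB c = h8Tor D hB c' := by
  unfold h8Tor
  congr 1
  apply List.map_congr_left
  intro i hi
  rw [h i (List.mem_range.mp hi)]

theorem h8Tor_mul (hsc : h8scChk D = true) (c c' : ℕ → K) (hc : ∀ i < D.rank, c i ≠ 0)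
    (hc' : ∀ i < D.rank, c' i ≠ 0) :
    h8Tor D hB c * h8Tor D hB c' = h8Tor D hB (fun i => c i * c' i) := by
  apply Units.ext
  rw [Units.val_mul, h8Tor_val D hB hsc c hc, h8Tor_val D hB hsc c' hc',
    h8Tor_val D hB hsc _ (fun i hi => mul_ne_zero (hc i hi) (hc' i hi)),
    Matrix.diagonal_mul_diagonal]
  congr 1
  funext x
  rcases x with k | v
  · simp [h8Phi]
  · simp only [h8Phi, Sum.elim_inr]
    rw [← Finset.prod_mul_distrib]
    apply Finset.prod_congr rfl
    intro i _
    rw [mul_zpow]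

theorem h8Tor_one : h8Tor D hB (fun _ => (1 : K)) = 1 := by
  unfold h8Tor
  apply List.prod_eq_one
  intro y hy
  rw [List.mem_map] at hy
  obtain ⟨i, _, rfl⟩ := hy
  exact h8hU_one D hB _

/-- every element of `H` is a torus element -/
theorem h8H_eq_Tor (hsc : h8scChk D = true) (z : GL D.Idx K) (hz : z ∈ D.diagonalSubgroup K) :
    ∃ c : ℕ → K, (∀ i, c i ≠ 0) ∧ z = h8Tor D hB c := by
  obtain ⟨c, hc, hkd⟩ := h8_H_eq_Phi D hB z hz
  refine ⟨c, hc, ?_⟩
  apply Units.ext
  rw [hkd, h8Tor_val D hB hsc c (fun i _ => hc i)]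

theorem h8Tor_conj_x (hsc : h8scChk D = true) (c : ℕ → K) (hc : ∀ i, c i ≠ 0) (s : ℕ)
    (hs : s < D.nroots) (t : K) :
    h8Tor D hB c * h8xU D hB s t * (h8Tor D hB c)⁻¹ =
      h8xU D hB s (h8Phi D D.rank c (Sum.inr ⟨s, hs⟩) * t) := by
  rw [mul_inv_eq_iff_eq_mul]
  apply Units.ext
  rw [Units.val_mul, Units.val_mul, h8xU_val, h8xU_val, h8Tor_val D hB hsc c (fun i _ => hc i)]
  exact h8Phi_conj_x D hB hsc c hc s hs D.rank le_rfl t

variable (hA : H8ReflAll D) (hW : H8BN2 D)

include hA hW in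
theorem h8chi_Tor (hsc : h8scChk D = true) (c : ℕ → K) (hc : ∀ i, c i ≠ 0) (s : ℕ)
    (hs : s < D.nroots) :
    h8chi D hB (h8Tor D hB c) s = h8Phi D D.rank c (Sum.inr ⟨s, hs⟩) := by
  apply h8chi_unique D hB hA hW _ (h8Tor_mem_H D hB hsc c (fun i _ => hc i)) s hs
  rw [h8Tor_conj_x D hB hsc c hc s hs, mul_one]

include hA hW in
/-- an element of `H` is determined by its characters on the simple roots -/
theorem h8H_ext_simple (hsc : h8scChk D = true) (coef : ℕ → ℕ → ℤ)
    (hcoef : ∀ v < D.nroots, ∀ i < D.rank, D.cartan i v =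
      ∑ j ∈ Finset.range D.rank, coef v j * D.cartan i (D.simple j))
    (z : GL D.Idx K) (hz : z ∈ D.diagonalSubgroup K)
    (h1 : ∀ j < D.rank, h8chi D hB z (D.simple j) = 1) : z = 1 := by
  obtain ⟨c, hc, rfl⟩ := h8H_eq_Tor D hB hsc z hz
  have hs1 : ∀ j (hj : j < D.rank),
      ∏ i ∈ Finset.range D.rank, c i ^ D.cartan i (D.simple j) = 1 := by
    intro j hj
    have := h1 j hj
    rw [h8chi_Tor D hB hA hW hsc c hc _ (h8scChk_spec D hsc j hj).1] at this
    exact this
  have hall : ∀ v (hv : v < D.nroots), h8Phi D D.rank c (Sum.inr ⟨v, hv⟩) = 1 := by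
    intro v hv
    show ∏ i ∈ Finset.range D.rank, c i ^ D.cartan i v = 1
    have e1 : ∀ i ∈ Finset.range D.rank, c i ^ D.cartan i v =
        ∏ j ∈ Finset.range D.rank, (c i ^ D.cartan i (D.simple j)) ^ coef v j := by
      intro i hi
      rw [hcoef v hv i (Finset.mem_range.mp hi), h8zpow_sum_range _ (hc i)]
      apply Finset.prod_congr rfl
      intro j _
      rw [mul_comm, zpow_mul]
    rw [Finset.prod_congr rfl e1, Finset.prod_comm]
    apply Finset.prod_eq_one
    intro j hj
    rw [Finset.prod_zpow, hs1 j (Finset.mem_range.mp hj), one_zpow]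
  apply Units.ext
  rw [h8Tor_val D hB hsc c (fun i _ => hc i), Units.val_one, ← Matrix.diagonal_one]
  congr 1
  funext x
  rcases x with j | v
  · simp [h8Phi]
  · exact hall v.val v.2

/-- a coroot element of a simple root in torus coordinates -/
theorem h8hU_simple_eq_Tor (hsc : h8scChk D = true) (i : ℕ) (hi : i < D.rank) (d : K)
    (hd : d ≠ 0) :
    h8hU D hB (D.simple i) d = h8Tor D hB (fun k => if k = i then d else 1) := by
  have hne : ∀ k < D.rank, (fun k => if k = i then d else (1 : K)) k ≠ 0 := by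
    intro k _
    show (if k = i then d else (1 : K)) ≠ 0
    split_ifs
    · exact hd
    · exact one_ne_zero
  apply Units.ext
  rw [h8hU_val, hB.hdiag K _ (h8scChk_spec D hsc i hi).1 d hd, h8Tor_val D hB hsc _ hne]
  congr 1
  funext x
  rcases x with k | v
  · simp [h8Phi, h8dvec]
  · simp only [h8Phi, h8dvec, Sum.elim_inr]
    rw [h8K_simple D hsc i hi, Finset.prod_eq_single i]
    · rw [if_pos rfl]
    · intro k _ hki
      rw [if_neg hki, one_zpow]
    · intro h
      exact absurd (Finset.mem_range.mpr hi) h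

include hA in
/-- the action of a simple reflection on torus coordinates -/
theorem h8Tor_conj_n (hsc : h8scChk D = true) (i : ℕ) (hi : i < D.rank) (c : ℕ → K)
    (hc : ∀ k, c k ≠ 0) :
    h8nU D hB (D.simple i) (1 : K) * h8Tor D hB c * (h8nU D hB (D.simple i) (1 : K))⁻¹ =
      h8Tor D hB (fun k => c k *
        (if k = i then (∏ j ∈ Finset.range D.rank, c j ^ D.cartan j (D.simple i))⁻¹ else 1)) := by
  obtain ⟨eta, hN, hE, hRc⟩ := hA.refl i hi
  have hR := h8reflChk_spec D i hi eta hN hE hA.ce hA.ca hRc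
  set χ : K := ∏ j ∈ Finset.range D.rank, c j ^ D.cartan j (D.simple i) with hχ
  have hχ0 : χ ≠ 0 := by
    rw [hχ]
    apply Finset.prod_ne_zero_iff.mpr
    intro j _
    exact zpow_ne_zero _ (hc j)
  have hne : ∀ k < D.rank, (fun k => c k * (if k = i then χ⁻¹ else 1)) k ≠ 0 := by
    intro k _
    show c k * (if k = i then χ⁻¹ else 1) ≠ 0
    split_ifs
    · exact mul_ne_zero (hc k) (inv_ne_zero hχ0)
    · exact mul_ne_zero (hc k) one_ne_zero
  rw [mul_inv_eq_iff_eq_mul]
  apply Units.ext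
  rw [Units.val_mul, Units.val_mul, h8nU_val, h8Tor_val D hB hsc c (fun k _ => hc k),
    h8Tor_val D hB hsc _ hne, h8nMat_eq_NM D i hi eta hN]
  apply h8NM_mul_diag D i _ hR.lt
  · intro j; rfl
  · intro j; rfl
  · intro v
    show ∏ k ∈ Finset.range D.rank, (c k * (if k = i then χ⁻¹ else 1)) ^
        D.cartan k (D.reflectRoot i v.val) = ∏ k ∈ Finset.range D.rank, c k ^ D.cartan k v.val
    have e1 : ∀ k ∈ Finset.range D.rank, c k ^ D.cartan k v.val =
        c k ^ D.cartan k (D.reflectRoot i v.val) *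
          ((c k ^ D.cartan k (D.simple i)) ^ D.cartan i (D.reflectRoot i v.val))⁻¹ := by
      intro k hk
      rw [hR.tc1 k (Finset.mem_range.mp hk) v.val v.2, zpow_sub₀ (hc k), zpow_mul, div_eq_mul_inv]
    rw [Finset.prod_congr rfl e1, Finset.prod_mul_distrib, Finset.prod_inv_distrib,
      Finset.prod_zpow, ← hχ]
    have e2 : ∀ k ∈ Finset.range D.rank, (c k * (if k = i then χ⁻¹ else 1)) ^
        D.cartan k (D.reflectRoot i v.val) = c k ^ D.cartan k (D.reflectRoot i v.val) *
          (if k = i then (χ⁻¹) ^ D.cartan i (D.reflectRoot i v.val) else 1) := by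
      intro k _
      rw [mul_zpow]
      split_ifs with h
      · rw [h]
      · rw [one_zpow]
    rw [Finset.prod_congr rfl e2, Finset.prod_mul_distrib,
      Finset.prod_ite_eq' (Finset.range D.rank) i, if_pos (Finset.mem_range.mpr hi), inv_zpow]

end

end Cfsg.Agent.Lib.helper8
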