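import Mathlib
import Cfsg.Prelude.Def_ChevStructure
import Cfsg.Agent.Lib.helper8.ChevTwQ5
import Cfsg.Agent.Lib.helper8.ChevTits1
import Cfsg.Agent.Lib.helper8.ChevCnt1

set_option autoImplicit false

namespace Cfsg.Agent.Lib.helper8

open Cfsg.Lie Cfsg.Lie.ChevalleyDatum

universe u

variable {K : Type u} [Field K]

/-- the element `g` maps the root subgroup of `r` to that of `r'` with a sign -/
def H8ActS (D : ChevalleyDatum) (hB : H8Base.{u} D) (g : GL D.Idx K) (r r' : ℕ) : Prop :=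
  ∃ c : K, (c = 1 ∨ c = -1) ∧ ∀ t : K, g * h8xU D hB r t * g⁻¹ = h8xU D hB r' (c * t)

theorem h8actS_act (D : ChevalleyDatum) (hB : H8Base.{u} D) (g : GL D.Idx K) (r r' : ℕ)
    (h : H8ActS D hB g r r') : H8Act D hB g r r' := by
  obtain ⟨c, hc, h1⟩ := h
  refine ⟨c, ?_, h1⟩
  rcases hc with rfl | rfl
  · exact one_ne_zero
  · exact neg_ne_zero.mpr one_ne_zero

theorem h8actS_one (D : ChevalleyDatum) (hB : H8Base.{u} D) (r : ℕ) :
    H8ActS D hB (1 : GL D.Idx K) r r := by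
  refine ⟨1, Or.inl rfl, fun t => ?_⟩
  rw [one_mul, inv_one, mul_one, one_mul]

theorem h8actS_mul (D : ChevalleyDatum) (hB : H8Base.{u} D) (g g' : GL D.Idx K) (r r' r'' : ℕ)
    (h' : H8ActS D hB g' r r') (h : H8ActS D hB g r' r'') : H8ActS D hB (g * g') r r'' := by
  obtain ⟨c', hc', h1⟩ := h'
  obtain ⟨c, hc, h2⟩ := h
  refine ⟨c * c', ?_, fun t => ?_⟩
  · rcases hc with rfl | rfl <;> rcases hc' with rfl | rfl <;> simp
  · have : g * g' * h8xU D hB r t * (g * g')⁻¹ = g * (g' * h8xU D hB r t * g'⁻¹) * g⁻¹ := by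
      group
    rw [this, h1, h2, mul_assoc]

theorem h8actS_nU (D : ChevalleyDatum) (hB : H8Base.{u} D) (hA : H8ReflAll D) (i : ℕ)
    (hi : i < D.rank) (s : ℕ) (hs : s < D.nroots) :
    H8ActS D hB (h8nU D hB (D.simple i) (1 : K)) s (D.reflectRoot i s) := by
  obtain ⟨eta, hN, hE, hRc⟩ := hA.refl i hi
  have hR := h8reflChk_spec D i hi eta hN hE hA.ce hA.ca hRc
  have hc := h8n_simple_conj (F := K) D i hi eta hN hE hA.ce hA.ca hRc
  refine ⟨((eta.getD s 0 : ℤ) : K), ?_, fun t => ?_⟩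
  · rcases hR.eta1 s hs with h | h <;> rw [h] <;> simp
  · rw [mul_inv_eq_iff_eq_mul]
    apply Units.ext
    rw [Units.val_mul, Units.val_mul, h8nU_val, h8xU_val, h8xU_val]
    exact hc s hs t

theorem h8actS_word (D : ChevalleyDatum) (hB : H8Base.{u} D) (hA : H8ReflAll D) (w : List ℕ)
    (hw : ∀ i ∈ w, i < D.rank) (s : ℕ) (hs : s < D.nroots) :
    H8ActS D hB (h8nWU D hB w : GL D.Idx K) s (h8sW D w s) := by
  induction w with
  | nil => exact h8actS_one D hB s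
  | cons i w ih =>
    have hw' : ∀ j ∈ w, j < D.rank := fun j hj => hw j (List.mem_cons_of_mem _ hj)
    rw [h8nWU_cons]
    exact h8actS_mul D hB _ _ _ _ _ (ih hw')
      (h8actS_nU D hB hA i (hw i List.mem_cons_self) _ (h8sW_lt D hA w hw' s hs))

/-- the characters of a product of the `n_i(1)` lying in `H` are signs -/
theorem h8sign_chi (D : ChevalleyDatum) (hB : H8Base.{u} D) (hA : H8ReflAll D) (hBN : H8BN D)
    (hW : H8BN2 D) (hO2 : H8Ord2 D) (w : List ℕ) (hw : ∀ i ∈ w, i < D.rank)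
    (hH : (h8nWU D hB w : GL D.Idx K) ∈ D.diagonalSubgroup K) (s : ℕ) (hs : s < D.nroots) :
    h8chi D hB (h8nWU D hB w : GL D.Idx K) s = 1 ∨
      h8chi D hB (h8nWU D hB w : GL D.Idx K) s = -1 := by
  have h1 := h8actS_word (K := K) D hB hA w hw s hs
  have h2 := h8perm_H_id D hB _ hH s hs
  have e : h8sW D w s = s :=
    h8act_unique D hB hA hBN hW hO2 _ s _ _ (h8sW_lt D hA w hw s hs) hs
      (h8actS_act D hB _ _ _ h1) h2
  rw [e] at h1
  obtain ⟨c, hc, h3⟩ := h1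
  have := h8chi_unique D hB hA hW _ hH s hs (c * 1) (h3 1)
  rw [mul_one] at this
  rw [this]
  exact hc

end Cfsg.Agent.Lib.helper8
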