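import Mathlib
import Cfsg.Prelude.Def_ChevStructure
import Cfsg.Prelude.Def_LieTwisted
import Cfsg.Agent.Lib.helper8.ChevTwE6C
import Cfsg.Agent.Lib.helper8.ChevTwP4

set_option autoImplicit false

namespace Cfsg.Agent.Lib.helper8

open Cfsg.Lie Cfsg.Lie.ChevalleyDatum

open scoped commutatorElement

universe u

variable {K : Type u} [Field K]

theorem h8pE6_tor : ∀ p ∈ [(56, 36), (15, 35), (42, 37), (29, 34)],
    p.1 < chevE6.nroots ∧ p.2 < chevE6.nroots ∧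
    (∀ a ∈ [p.1, chevE6.negIdx.getD p.1 0], ∀ b ∈ [p.2, chevE6.negIdx.getD p.2 0],
      chevE6.commTerms a b = [] ∧ a < chevE6.nroots ∧ b < chevE6.nroots ∧ b ≠ a ∧
        b ≠ chevE6.negIdx.getD a 0) ∧
    (h8KF chevE6 p.1 p.1 = 2 ∧ h8KF chevE6 p.2 p.2 = 2 ∧ h8KF chevE6 p.1 p.2 = 0 ∧
      h8KF chevE6 p.2 p.1 = 0) ∧
    (chevE6.negIdx.getD p.1 0, chevE6.negIdx.getD p.2 0) ∈
      [(56, 36), (15, 35), (42, 37), (29, 34)] := by decide +kernel

theorem h8pE6_c1 : (∀ a ∈ [42, 37], ∀ b ∈ [43, 40], h8czOK chevE6 b a 44 = true) ∧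
    (∀ x ∈ [42, 37, 43, 40], x < chevE6.nroots ∧ x ≠ 44 ∧ x ≠ chevE6.negIdx.getD 44 0 ∧
      chevE6.commTerms 44 x = []) ∧
    (h8cz chevE6 40 37 44 = 0 ∧ (h8cz chevE6 43 37 44 = 1 ∨ h8cz chevE6 43 37 44 = -1)) ∧
    h8sW chevE6 [3] 42 = 43 ∧ h8sW chevE6 [3] 37 = 40 := by decide +kernel

theorem h8pE6_c2 : h8sE6 44 = 44 ∧ (h8KF chevE6 46 44 = 1 ∨ h8KF chevE6 46 44 = -1) ∧
    chevE6.negIdx.getD 46 0 = 25 := by decide +kernel

/-- the words conjugating the root `44` to the fixed simple roots and their negatives -/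
def h8pE6_word (p : ℕ) : List (List (Fin chevE6.rank)) :=
  if p = 39 then [[⟨2, by decide⟩, ⟨4, by decide⟩]]
  else if p = 32 then [[⟨3, by decide⟩], [⟨2, by decide⟩, ⟨4, by decide⟩]]
  else if p = 46 then [[⟨3, by decide⟩], [⟨1, by decide⟩], [⟨2, by decide⟩, ⟨4, by decide⟩]]
  else [[⟨1, by decide⟩], [⟨3, by decide⟩], [⟨1, by decide⟩], [⟨2, by decide⟩, ⟨4, by decide⟩]]

theorem h8pE6_c3 : ∀ p ∈ [46, 25, 39, 32], (∀ J ∈ h8pE6_word p, J ∈ h8orbsE6) ∧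
    h8sW chevE6 (((h8pE6_word p).map fun J => J.map Fin.val).flatten) 44 = p := by
  decide +kernel

/-- `²E₆(q)` is perfect -/
theorem h8twE6_perfect [Fintype K] {q : ℕ} (hq : IsPrimePow q) (hKc : Fintype.card K = q ^ 2) :
    commutator ↥(twistedE6 K q) = ⊤ := by
  have hD : chevE6 ∈ [chevG2, chevB2, chevD4, chevF4, chevE6, chevE7, chevE8] := by simp
  have hB := h8base_all.{u} chevE6 hD
  have hA := h8reflAll chevE6 hD
  have hC := h8commAll.{u} chevE6 hD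
  have hW := h8bn2_all chevE6 hD
  obtain ⟨f, hf, hff2, hneg⟩ := h8frob_exists hq 2 (by norm_num) hKc
  have hff : ∀ t, f (f t) = t := fun t => hff2 t
  have hq1 : 1 < q := hq.one_lt
  have hqK : q < Fintype.card K := by rw [hKc]; nlinarith
  have hK4 : 4 ≤ Fintype.card K := by rw [hKc]; nlinarith
  have hfixG := h8twE6_fix hB hC hA q f hf hff
  have hnJ := h8twE6_nJ (K := K) hB hC q hneg
  have h44 : 44 < chevE6.nroots := by decide
  have h46 : 46 < chevE6.nroots := by decide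
  -- the generators
  have hx1 : ∀ r ∈ [46, 25, 39, 32], ∀ t : K, f t = t → h8xU chevE6 hB r t ∈ twistedE6 K q :=
    fun r hr t ht => h8twE6_x1 hB q r hr t (by rw [← hf, ht])
  have hx2 : ∀ p ∈ [(56, 36), (15, 35), (42, 37), (29, 34)], ∀ t : K,
      h8xU chevE6 hB p.1 t * h8xU chevE6 hB p.2 (f t) ∈ twistedE6 K q := by
    intro p hp t
    rw [hf]
    exact h8twE6_x2 hB q p.1 p.2 hp t
  -- the non-fixed orbits
  obtain ⟨c, hc0, hc2⟩ := h8exists_sq_ne_one (K := K) hK4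
  have hA2 : ∀ p ∈ [(56, 36), (15, 35), (42, 37), (29, 34)], ∀ t : K,
      h8xU chevE6 hB p.1 t * h8xU chevE6 hB p.2 (f t) ∈ ⁅twistedE6 K q, twistedE6 K q⁆ := by
    intro p hp
    obtain ⟨h1, h2, h3, h4, h5⟩ := h8pE6_tor p hp
    refine h8perf_tor2 chevE6 hB (twistedE6 K q) hA.ca f p.1 p.2 h1 h2 ?_ h4 (hx2 p hp)
      (hx2 _ h5) c hc0 hc2
    intro a ha b hb t u
    obtain ⟨k1, k2, k3, k4, k5⟩ := h3 a ha b hb
    exact h8xU_commute chevE6 hB hC a b k2 k3 k4 k5 k1 t u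
  -- the fixed roots
  obtain ⟨hOK, hcen, hcz, hs1, hs2⟩ := h8pE6_c1
  obtain ⟨hσ44, hKF44, hn46⟩ := h8pE6_c2
  have hn3 : (h8nWU chevE6 hB [3] : GL chevE6.Idx K) ∈ twistedE6 K q :=
    hnJ [⟨3, by decide⟩] (by simp [h8orbsE6])
  have hw3 : ∀ i ∈ ([3] : List ℕ), i < chevE6.rank := by decide
  have hact1 : H8Act chevE6 hB (h8nWU chevE6 hB [3] : GL chevE6.Idx K) 42 43 := by
    have := h8actN_act _ _ _ _ _ (h8actN_word (F := K) chevE6 hB hA [3] hw3 42 (by decide))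
    rwa [hs1] at this
  have hact2 : H8Act chevE6 hB (h8nWU chevE6 hB [3] : GL chevE6.Idx K) 37 40 := by
    have := h8actN_act _ _ _ _ _ (h8actN_word (F := K) chevE6 hB hA [3] hw3 37 (by decide))
    rwa [hs2] at this
  obtain ⟨w0, hw0, h0⟩ := h8perf_c1_2 chevE6 hB hC (twistedE6 K q) q hq1 hqK f hf 42 37 43 40 44
    _ hn3 hact1 hact2 (hx2 (42, 37) (by simp)) hOK hcen h44 hcz
  have hh : ∀ c : K, f c = c → h8hU chevE6 hB 46 c ∈ twistedE6 K q := by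
    apply h8tw_h1_mem chevE6 hB (twistedE6 K q) f 46 (hx1 46 (by simp))
    rw [hn46]
    exact hx1 25 (by simp)
  have hfix44 := h8perf_fixed chevE6 hB hA hW h8sE6 h8tE6 h8pE6 h8qE6 h8eE6 (h8autE6 hA) f
    (twistedE6 K q) 44 46 h44 h46 hσ44 hKF44 hh hfixG w0 hw0 h0
  have hC3 : ∀ p ∈ [46, 25, 39, 32], ∀ t : K, h8xU chevE6 hB p t ∈ twistedE6 K q →
      h8xU chevE6 hB p t ∈ ⁅twistedE6 K q, twistedE6 K q⁆ := by
    intro p hp
    obtain ⟨hmem, hsw⟩ := h8pE6_c3 p hp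
    have hn := h8tw_nWU_flat chevE6 hB h8orbsE6 (twistedE6 K q) (h8pE6_word p) hmem hnJ
    have hlt : ∀ i ∈ (((h8pE6_word p).map fun J => J.map Fin.val).flatten), i < chevE6.rank := by
      intro i hi
      rw [List.mem_flatten] at hi
      obtain ⟨l, hl, hil⟩ := hi
      rw [List.mem_map] at hl
      obtain ⟨J, _, rfl⟩ := hl
      rw [List.mem_map] at hil
      obtain ⟨j, _, rfl⟩ := hil
      exact j.2
    have hact := h8actN_act _ _ _ _ _ (h8actN_word (F := K) chevE6 hB hA _ hlt 44 h44)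
    rw [hsw] at hact
    exact h8perf_transport chevE6 hB (twistedE6 K q) 44 p _ hn hact hfix44
  -- conclusion
  unfold twistedE6
  apply h8perf_gen chevE6 hB
  intro w hw
  show h8wordU chevE6 hB w ∈ ⁅twistedE6 K q, twistedE6 K q⁆
  rcases hw with ⟨t, ht, r, hr, rfl⟩ | ⟨t, rs, hrs, rfl⟩
  · have hr' : r ∈ [46, 25, 39, 32] := by
      simp only [e6p2, e6m2, e6p4, e6m4] at hr
      exact hr
    rw [h8wordU_one]
    exact hC3 r hr' t (hx1 r hr' t (by rw [hf, ht]))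
  · have hrs' : (rs.1, rs.2) ∈ [(56, 36), (15, 35), (42, 37), (29, 34)] := by
      simp only [e6p1, e6p6, e6m1, e6m6, e6p3, e6p5, e6m3, e6m5] at hrs
      exact hrs
    rw [h8wordU_two, ← hf]
    exact hA2 (rs.1, rs.2) hrs' t

end Cfsg.Agent.Lib.helper8
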