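import Mathlib
import Cfsg.Prelude.Def_ChevStructure
import Cfsg.Prelude.Def_LieExceptional
import Cfsg.Agent.Lib.helper8.ChevTwB7
import Cfsg.Agent.Lib.helper8.ChevSolv
import Cfsg.Agent.Lib.helper8.H3BNSimple

set_option autoImplicit false

namespace Cfsg.Agent.Lib.helper8

open Cfsg.Lie Cfsg.Lie.ChevalleyDatum

universe u

variable {K : Type u} [Field K]

/-- along a chain, a property which holds somewhere and fails somewhere changes at some step -/
theorem h8chain_switch (p : ℕ → Prop) (n a b : ℕ) (ha : a < n) (hb : b < n) (hpa : p a)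
    (hpb : ¬ p b) : ∃ i, i + 1 < n ∧ ¬ (p i ↔ p (i + 1)) := by
  by_contra hcon
  push_neg at hcon
  have h0 : ∀ i, i < n → (p i ↔ p 0) := by
    intro i
    induction i with
    | zero => intro _; exact Iff.rfl
    | succ i ih =>
      intro hi
      exact (hcon i hi).symm.trans (ih (by omega))
  exact hpb ((h0 b hb).mpr ((h0 a ha).mp hpa))

section
variable (D : ChevalleyDatum) (hB : H8Base.{u} D) (hA : H8ReflAll D) (hBN : H8BN D)
  (hW : H8BN2 D) (hO2 : H8Ord2 D)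

include hA hBN hW hO2 in
/-- the commutator of two representatives whose Weyl group elements do not commute is not in
`B` -/
theorem h8tw_comm_notin_B (w1 w2 : List ℕ) (h1 : ∀ i ∈ w1, i < D.rank)
    (h2 : ∀ i ∈ w2, i < D.rank) (r : Fin D.nroots)
    (hne : h8sW D (w1 ++ w2) r.val ≠ h8sW D (w2 ++ w1) r.val) :
    (h8nWU D hB w1 : GL D.Idx K) * h8nWU D hB w2 * (h8nWU D hB w1)⁻¹ * (h8nWU D hB w2)⁻¹ ∉
      D.borelSubgroup K := by
  intro hmem
  obtain ⟨dep, par, horb⟩ := hBN.orb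
  have hBNH := h8_B_inf_N (F := K) D hB hA dep par horb
  have n1 := h8nWU_mem_N (F := K) D hB hA w1 h1
  have n2 := h8nWU_mem_N (F := K) D hB hA w2 h2
  have hN : (h8nWU D hB w1 : GL D.Idx K) * h8nWU D hB w2 * (h8nWU D hB w1)⁻¹ *
      (h8nWU D hB w2)⁻¹ ∈ D.monomialSubgroup K :=
    Subgroup.mul_mem _ (Subgroup.mul_mem _ (Subgroup.mul_mem _ n1 n2) (Subgroup.inv_mem _ n1))
      (Subgroup.inv_mem _ n2)
  have hH : (h8nWU D hB w1 : GL D.Idx K) * h8nWU D hB w2 * (h8nWU D hB w1)⁻¹ *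
      (h8nWU D hB w2)⁻¹ ∈ D.diagonalSubgroup K := by
    rw [← hBNH]
    exact Subgroup.mem_inf.mpr ⟨hmem, hN⟩
  have hP := h8Pi_H D hB hA hBN hW hO2 ⟨_, hN⟩ hH
  have hsp : (⟨(h8nWU D hB w1 : GL D.Idx K) * h8nWU D hB w2 * (h8nWU D hB w1)⁻¹ *
      (h8nWU D hB w2)⁻¹, hN⟩ : ↥(D.monomialSubgroup K)) =
      ⟨_, n1⟩ * ⟨_, n2⟩ * ⟨_, n1⟩⁻¹ * ⟨_, n2⟩⁻¹ := rfl
  rw [hsp, map_mul, map_mul, map_mul, map_inv, map_inv, h8Pi_nWU D hB hA hBN hW hO2 w1 h1,
    h8Pi_nWU D hB hA hBN hW hO2 w2 h2] at hP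
  have hcomm : h8wPerm D hA w1 * h8wPerm D hA w2 = h8wPerm D hA w2 * h8wPerm D hA w1 := by
    have := hP
    rw [mul_inv_eq_one, mul_inv_eq_iff_eq_mul] at this
    exact this
  apply hne
  have h12 : ∀ i ∈ w1 ++ w2, i < D.rank := by
    intro i hi
    rcases List.mem_append.mp hi with h | h
    · exact h1 i h
    · exact h2 i h
  have h21 : ∀ i ∈ w2 ++ w1, i < D.rank := by
    intro i hi
    rcases List.mem_append.mp hi with h | h
    · exact h2 i h
    · exact h1 i h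
  rw [← h8wPerm_val D hA (w1 ++ w2) h12 r, ← h8wPerm_val D hA (w2 ++ w1) h21 r,
    h8wPerm_append, h8wPerm_append, hcomm]

include hA hBN hW hO2 in
/-- simplicity of a twisted group from its `(B, N)`-pair -/
theorem h8tw_simple (orbs : List (List (Fin D.rank))) (G1 : Subgroup (GL D.Idx K))
    (hnJ : ∀ J ∈ orbs, (h8nWU D hB (J.map Fin.val) : GL D.Idx K) ∈ G1)
    (P : Cfsg.BNPair ↥G1) (hPB : P.B = (D.borelSubgroup K ⊓ G1).subgroupOf G1)
    (hPS : P.S = {s : ↥G1 | ∃ J ∈ orbs, s.val = h8nWU D hB (J.map Fin.val)})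
    (hchain : ∀ i, (h : i + 1 < orbs.length) → ∃ r : Fin D.nroots,
      h8sW D ((orbs[i]).map Fin.val ++ (orbs[i + 1]).map Fin.val) r.val ≠
        h8sW D ((orbs[i + 1]).map Fin.val ++ (orbs[i]).map Fin.val) r.val)
    (hperf : commutator ↥G1 = ⊤)
    (hcore : ∀ k : GL D.Idx K, (∀ g ∈ G1, g * k * g⁻¹ ∈ D.borelSubgroup K) → k = 1)
    (hnt : ∃ x ∈ G1, x ≠ 1) :
    IsSimpleGroup ↥G1 ∧ ¬ IsMulCommutative ↥G1 := by
  haveI : Nontrivial ↥G1 := by
    obtain ⟨x, hx, hx1⟩ := hnt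
    exact ⟨⟨⟨x, hx⟩, 1, fun h => hx1 (congrArg Subtype.val h)⟩⟩
  have hBmem : ∀ x : ↥G1, x ∈ P.B ↔ x.val ∈ D.borelSubgroup K := by
    intro x
    rw [hPB, Subgroup.mem_subgroupOf, Subgroup.mem_inf]
    exact ⟨fun h => h.1, fun h => ⟨h, x.2⟩⟩
  have hcoreP : P.B.normalCore = ⊥ := by
    rw [eq_bot_iff]
    intro a ha
    rw [Subgroup.mem_bot]
    apply Subtype.ext
    apply hcore a.val
    intro g hg
    have := ha ⟨g, hg⟩
    exact (hBmem _).mp this
  have hsolv : Group.IsSolvable P.B := by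
    haveI := h8_B_solvable (F := K) D hB
    let φ : ↥P.B →* ↥(D.borelSubgroup K) :=
      (G1.subtype.comp P.B.subtype).codRestrict (D.borelSubgroup K)
        (fun x => (hBmem x.val).mp x.2)
    apply Group.isSolvable_of_isSolvable_injective (f := φ)
    intro a b hab
    have h1 : (φ a).val = (φ b).val := congrArg Subtype.val hab
    exact Subtype.ext (Subtype.ext h1)
  have hirr : P.Irreducible := by
    intro J hJS hJne hJc
    obtain ⟨s, hs⟩ := hJne
    obtain ⟨s', hs'⟩ := hJc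
    have hsS := hJS hs
    rw [hPS] at hsS
    obtain ⟨Ja, hJa, hsa⟩ := hsS
    have hs'S := hs'.1
    rw [hPS] at hs'S
    obtain ⟨Jb, hJb, hsb⟩ := hs'S
    obtain ⟨a, ha, rfl⟩ := List.getElem_of_mem hJa
    obtain ⟨b, hb, rfl⟩ := List.getElem_of_mem hJb
    -- the property along the chain
    let nn : ∀ i, i < orbs.length → ↥G1 := fun i hi =>
      ⟨h8nWU D hB ((orbs[i]).map Fin.val), hnJ _ (List.getElem_mem hi)⟩
    have hnS : ∀ i (hi : i < orbs.length), nn i hi ∈ P.S := by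
      intro i hi
      rw [hPS]
      exact ⟨_, List.getElem_mem hi, rfl⟩
    have hsa' : s = nn a ha := Subtype.ext hsa
    have hsb' : s' = nn b hb := Subtype.ext hsb
    obtain ⟨i, hi, hsw⟩ := h8chain_switch (fun i => ∃ hi : i < orbs.length, nn i hi ∈ J)
      orbs.length a b ha hb ⟨ha, hsa' ▸ hs⟩ (by
        rintro ⟨_, hmem⟩
        exact hs'.2 (hsb' ▸ hmem))
    obtain ⟨r, hr⟩ := hchain i hi
    have hi0 : i < orbs.length := by omega
    have key1 := h8tw_comm_notin_B (K := K) D hB hA hBN hW hO2 ((orbs[i]).map Fin.val)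
      ((orbs[i + 1]).map Fin.val) (h8J_lt D _) (h8J_lt D _) r hr
    have key2 := h8tw_comm_notin_B (K := K) D hB hA hBN hW hO2 ((orbs[i + 1]).map Fin.val)
      ((orbs[i]).map Fin.val) (h8J_lt D _) (h8J_lt D _) r hr.symm
    by_cases hin : nn i hi0 ∈ J
    · have hout : nn (i + 1) hi ∉ J := by
        intro h
        exact hsw ⟨fun _ => ⟨hi, h⟩, fun _ => ⟨hi0, hin⟩⟩
      refine ⟨nn i hi0, hin, nn (i + 1) hi, ⟨hnS _ hi, hout⟩, ?_⟩
      rw [hBmem]
      exact key1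
    · have hin' : nn (i + 1) hi ∈ J := by
        by_contra h
        apply hsw
        constructor
        · rintro ⟨_, h1⟩
          exact absurd h1 hin
        · rintro ⟨_, h1⟩
          exact absurd h1 h
      refine ⟨nn (i + 1) hi, hin', nn i hi0, ⟨hnS _ hi0, hin⟩, ?_⟩
      rw [hBmem]
      exact key2
  refine ⟨H3.isSimpleGroup_of_irreducible hirr hsolv hperf hcoreP, ?_⟩
  intro hc
  have hbot : commutator ↥G1 = ⊥ := by
    rw [commutator_def, Subgroup.commutator_eq_bot_iff_le_centralizer]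
    intro x _
    rw [Subgroup.mem_centralizer_iff]
    intro y _
    exact (isMulCommutative_iff.mp hc) y x
  rw [hperf] at hbot
  exact top_ne_bot hbot

end

end Cfsg.Agent.Lib.helper8
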