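import Mathlib
import Cfsg.Prelude.Def_ChevStructure
import Cfsg.Prelude.Def_LieTwisted
import Cfsg.Prelude.Def_LieExceptional
import Cfsg.Agent.Lib.helper8.ChevTwE6P
import Cfsg.Agent.Lib.helper8.ChevTwS1

set_option autoImplicit false

namespace Cfsg.Agent.Lib.helper8

open Cfsg.Lie Cfsg.Lie.ChevalleyDatum

universe u

variable {K : Type u} [Field K]

/-- the `(B, N)`-pair of `²E₆(q)`, with its distinguished generators -/
theorem h8twE6_bnpairS [Fintype K] {q : ℕ} (hq : IsPrimePow q) (hKc : Fintype.card K = q ^ 2)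
    (hB : H8Base.{u} chevE6) :
    ∃ P : Cfsg.BNPair ↥(twistedE6 K q),
      P.B = (chevE6.borelSubgroup K ⊓ twistedE6 K q).subgroupOf (twistedE6 K q) ∧
      P.S = {s : ↥(twistedE6 K q) | ∃ J ∈ h8orbsE6, s.val = h8nWU chevE6 hB (J.map Fin.val)} := by
  have hD : chevE6 ∈ [chevG2, chevB2, chevD4, chevF4, chevE6, chevE7, chevE8] := by simp
  have hB0 := h8base_all.{0} chevE6 hD
  have hA := h8reflAll chevE6 hD
  have hC := h8commAll.{u} chevE6 hD
  have hBN := h8bn_all chevE6 hD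
  have hW := h8bn2_all chevE6 hD
  obtain ⟨hO, hO2⟩ := h8ord_all chevE6 hD
  obtain ⟨f, hf, hff2, hneg⟩ := h8frob_exists hq 2 (by norm_num) hKc
  have hff : ∀ t, f (f t) = t := fun t => hff2 t
  have hσp : ∀ r, chevE6.IsPosRoot r →
      chevE6.IsPosRoot (h8sE6 r) ∧ h8posiE6 (h8sE6 r) = h8posiE6 r :=
    fun r hr => ⟨(h8uE6_sig1 r hr.1 hr).1, (h8uE6_sig1 r hr.1 hr).2.1⟩
  have hUfix := h8twE6_U_fix hB hC hA hBN hO2 q f hf hff hneg
  obtain ⟨P, h1, _, h3⟩ := h8tw_bnpair chevE6 hB hB0 hA hC hBN hW hO hO2 h8sE6 h8tE6 h8pE6 h8qE6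
    h8eE6 (h8autE6 hA) f (h8mkRho chevE6 h8sE6 h8tE6 h8pE6 h8qE6 h8eE6 (h8autE6 hA))
    (fun r => rfl) h8piE6 h8orbsE6 (h8twE6 hA hBN) (fun r hr => (hσp r hr).1) (twistedE6 K q)
    (h8gen_le_group chevE6 hB _) (h8twE6_fix hB hC hA q f hf hff) hUfix
    (h8twE6_nJ hB hC q hneg) h8twE6_disj (by
      intro J hJ
      have hk : ∃ k < 4, J = h8orbsE6.getD k [] := by
        simp only [h8orbsE6, List.mem_cons, List.not_mem_nil, or_false] at hJ
        rcases hJ with rfl | rfl | rfl | rfl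
        · exact ⟨0, by norm_num, rfl⟩
        · exact ⟨1, by norm_num, rfl⟩
        · exact ⟨2, by norm_num, rfl⟩
        · exact ⟨3, by norm_num, rfl⟩
      obtain ⟨k, hk4, rfl⟩ := hk
      obtain ⟨hne, hdata⟩ := h8twE6_xdata k hk4
      exact h8tw_xJ chevE6 hB hC hBN hO2 h8posiE6 h8uE6_blk h8uE6_read h8sE6 h8tE6 h8pE6 h8qE6
        h8eE6 (h8autE6 hA) f hσp (twistedE6 K q) hUfix _ (h8blkOfE6 k) hne hdata)
  exact ⟨P, h1, h3⟩

theorem h8sE6_chain : ∀ i, (h : i + 1 < h8orbsE6.length) → ∃ r : Fin chevE6.nroots,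
    h8sW chevE6 ((h8orbsE6[i]).map Fin.val ++ (h8orbsE6[i + 1]).map Fin.val) r.val ≠
      h8sW chevE6 ((h8orbsE6[i + 1]).map Fin.val ++ (h8orbsE6[i]).map Fin.val) r.val := by
  intro i hi
  have h3 : i < 3 := by
    have : h8orbsE6.length = 4 := rfl
    omega
  interval_cases i
  · exact ⟨⟨46, by decide⟩, by decide +kernel +revert⟩
  · exact ⟨⟨39, by decide⟩, by decide +kernel +revert⟩
  · exact ⟨⟨42, by decide⟩, by decide +kernel +revert⟩

/-- `²E₆(q)` is simple -/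
theorem h8twE6_simple [Fintype K] {q : ℕ} (hq : IsPrimePow q) (hKc : Fintype.card K = q ^ 2) :
    IsSimpleGroup ↥(twistedE6 K q) ∧ ¬ IsMulCommutative ↥(twistedE6 K q) := by
  have hD : chevE6 ∈ [chevG2, chevB2, chevD4, chevF4, chevE6, chevE7, chevE8] := by simp
  have hB := h8base_all.{u} chevE6 hD
  have hA := h8reflAll chevE6 hD
  have hC := h8commAll.{u} chevE6 hD
  have hBN := h8bn_all chevE6 hD
  have hW := h8bn2_all chevE6 hD
  obtain ⟨hO, hO2⟩ := h8ord_all chevE6 hD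
  obtain ⟨f, hf, hff2, hneg⟩ := h8frob_exists hq 2 (by norm_num) hKc
  obtain ⟨P, hPB, hPS⟩ := h8twE6_bnpairS hq hKc hB
  refine h8tw_simple chevE6 hB hA hBN hW hO2 h8orbsE6 (twistedE6 K q)
    (h8twE6_nJ hB hC q hneg) P hPB hPS h8sE6_chain (h8twE6_perfect hq hKc)
    (h8twE6_core hq hKc) ⟨h8xU chevE6 hB 46 1, h8twE6_x1 hB q 46 (by simp) 1 (one_pow q), ?_⟩
  intro h1
  rw [← h8xU_zero chevE6 hB 46] at h1
  exact one_ne_zero (h8xU_inj_t chevE6 hB hA hW 46 (by decide) _ _ h1)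

end Cfsg.Agent.Lib.helper8
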