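import Mathlib
import Cfsg.Prelude.Def_ChevStructure
import Cfsg.Prelude.Def_LieTwisted
import Cfsg.Agent.Lib.helper8.ChevTwQ6
import Cfsg.Agent.Lib.helper8.ChevTwE6S

set_option autoImplicit false

namespace Cfsg.Agent.Lib.helper8

open Cfsg.Lie Cfsg.Lie.ChevalleyDatum

universe u

variable {K : Type u} [Field K]

/-- the coordinates of the roots of `E₆` with respect to the simple roots -/
def h8coefE6 : List (List ℤ) := [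
  [-1, -2, -2, -3, -2, -1],
  [-1, -1, -2, -3, -2, -1],
  [-1, -1, -2, -2, -2, -1],
  [-1, -1, -2, -2, -1, -1],
  [-1, -1, -2, -2, -1, 0],
  [-1, -1, -1, -2, -2, -1],
  [-1, -1, -1, -2, -1, -1],
  [-1, -1, -1, -2, -1, 0],
  [-1, -1, -1, -1, -1, -1],
  [-1, -1, -1, -1, -1, 0],
  [-1, -1, -1, -1, 0, 0],
  [-1, 0, -1, -1, -1, -1],
  [-1, 0, -1, -1, -1, 0],
  [-1, 0, -1, -1, 0, 0],
  [-1, 0, -1, 0, 0, 0],
  [-1, 0, 0, 0, 0, 0],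
  [0, -1, -1, -2, -2, -1],
  [0, -1, -1, -2, -1, -1],
  [0, -1, -1, -2, -1, 0],
  [0, -1, -1, -1, -1, -1],
  [0, -1, -1, -1, -1, 0],
  [0, -1, -1, -1, 0, 0],
  [0, -1, 0, -1, -1, -1],
  [0, -1, 0, -1, -1, 0],
  [0, -1, 0, -1, 0, 0],
  [0, -1, 0, 0, 0, 0],
  [0, 0, -1, -1, -1, -1],
  [0, 0, -1, -1, -1, 0],
  [0, 0, -1, -1, 0, 0],
  [0, 0, -1, 0, 0, 0],
  [0, 0, 0, -1, -1, -1],
  [0, 0, 0, -1, -1, 0],
  [0, 0, 0, -1, 0, 0],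
  [0, 0, 0, 0, -1, -1],
  [0, 0, 0, 0, -1, 0],
  [0, 0, 0, 0, 0, -1],
  [0, 0, 0, 0, 0, 1],
  [0, 0, 0, 0, 1, 0],
  [0, 0, 0, 0, 1, 1],
  [0, 0, 0, 1, 0, 0],
  [0, 0, 0, 1, 1, 0],
  [0, 0, 0, 1, 1, 1],
  [0, 0, 1, 0, 0, 0],
  [0, 0, 1, 1, 0, 0],
  [0, 0, 1, 1, 1, 0],
  [0, 0, 1, 1, 1, 1],
  [0, 1, 0, 0, 0, 0],
  [0, 1, 0, 1, 0, 0],
  [0, 1, 0, 1, 1, 0],
  [0, 1, 0, 1, 1, 1],
  [0, 1, 1, 1, 0, 0],
  [0, 1, 1, 1, 1, 0],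
  [0, 1, 1, 1, 1, 1],
  [0, 1, 1, 2, 1, 0],
  [0, 1, 1, 2, 1, 1],
  [0, 1, 1, 2, 2, 1],
  [1, 0, 0, 0, 0, 0],
  [1, 0, 1, 0, 0, 0],
  [1, 0, 1, 1, 0, 0],
  [1, 0, 1, 1, 1, 0],
  [1, 0, 1, 1, 1, 1],
  [1, 1, 1, 1, 0, 0],
  [1, 1, 1, 1, 1, 0],
  [1, 1, 1, 1, 1, 1],
  [1, 1, 1, 2, 1, 0],
  [1, 1, 1, 2, 1, 1],
  [1, 1, 1, 2, 2, 1],
  [1, 1, 2, 2, 1, 0],
  [1, 1, 2, 2, 1, 1],
  [1, 1, 2, 2, 2, 1],
  [1, 1, 2, 3, 2, 1],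
  [1, 2, 2, 3, 2, 1]]

theorem h8coefE6_ok : ∀ v < chevE6.nroots, ∀ i < chevE6.rank, chevE6.cartan i v =
    ∑ j ∈ Finset.range chevE6.rank,
      (h8coefE6.getD v []).getD j 0 * chevE6.cartan i (chevE6.simple j) := by decide +kernel

theorem h8scE6 : h8scChk chevE6 = true := by decide +kernel

theorem h8cartE6 :
    (chevE6.cartan 0 56 = 2 ∧ chevE6.cartan 1 56 = 0 ∧ chevE6.cartan 2 56 = -1 ∧
      chevE6.cartan 3 56 = 0 ∧ chevE6.cartan 4 56 = 0 ∧ chevE6.cartan 5 56 = 0) ∧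
    (chevE6.cartan 0 46 = 0 ∧ chevE6.cartan 1 46 = 2 ∧ chevE6.cartan 2 46 = 0 ∧
      chevE6.cartan 3 46 = -1 ∧ chevE6.cartan 4 46 = 0 ∧ chevE6.cartan 5 46 = 0) ∧
    (chevE6.cartan 0 42 = -1 ∧ chevE6.cartan 1 42 = 0 ∧ chevE6.cartan 2 42 = 2 ∧
      chevE6.cartan 3 42 = -1 ∧ chevE6.cartan 4 42 = 0 ∧ chevE6.cartan 5 42 = 0) ∧
    (chevE6.cartan 0 39 = 0 ∧ chevE6.cartan 1 39 = -1 ∧ chevE6.cartan 2 39 = -1 ∧
      chevE6.cartan 3 39 = 2 ∧ chevE6.cartan 4 39 = -1 ∧ chevE6.cartan 5 39 = 0) ∧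
    (chevE6.cartan 0 37 = 0 ∧ chevE6.cartan 1 37 = 0 ∧ chevE6.cartan 2 37 = 0 ∧
      chevE6.cartan 3 37 = -1 ∧ chevE6.cartan 4 37 = 2 ∧ chevE6.cartan 5 37 = -1) ∧
    (chevE6.cartan 0 36 = 0 ∧ chevE6.cartan 1 36 = 0 ∧ chevE6.cartan 2 36 = 0 ∧
      chevE6.cartan 3 36 = 0 ∧ chevE6.cartan 4 36 = -1 ∧ chevE6.cartan 5 36 = 2) := by
  decide +kernel

section
variable (hB : H8Base.{u} chevE6) (hA : H8ReflAll chevE6) (hW : H8BN2 chevE6)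

include hA hW in
/-- an element of `H` with trivial characters on the simple roots is trivial -/
theorem h8E6_ext (z : GL chevE6.Idx K) (hz : z ∈ chevE6.diagonalSubgroup K)
    (h : ∀ r ∈ [56, 46, 42, 39, 37, 36], h8chi chevE6 hB z r = 1) : z = 1 := by
  apply h8H_ext_simple chevE6 hB hA hW h8scE6 (fun v j => (h8coefE6.getD v []).getD j 0)
    h8coefE6_ok z hz
  intro j hj
  have hj' : j < 6 := hj
  interval_cases j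
  · exact h 56 (by simp)
  · exact h 46 (by simp)
  · exact h 42 (by simp)
  · exact h 39 (by simp)
  · exact h 37 (by simp)
  · exact h 36 (by simp)

include hA hW in
/-- the characters of a torus element on the simple roots -/
theorem h8E6_chars (c : ℕ → K) (hc : ∀ i, c i ≠ 0) :
    h8chi chevE6 hB (h8Tor chevE6 hB c) 56 = c 0 ^ 2 * (c 2)⁻¹ ∧
    h8chi chevE6 hB (h8Tor chevE6 hB c) 46 = c 1 ^ 2 * (c 3)⁻¹ ∧
    h8chi chevE6 hB (h8Tor chevE6 hB c) 42 = (c 0)⁻¹ * c 2 ^ 2 * (c 3)⁻¹ ∧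
    h8chi chevE6 hB (h8Tor chevE6 hB c) 39 = (c 1)⁻¹ * (c 2)⁻¹ * c 3 ^ 2 * (c 4)⁻¹ ∧
    h8chi chevE6 hB (h8Tor chevE6 hB c) 37 = (c 3)⁻¹ * c 4 ^ 2 * (c 5)⁻¹ ∧
    h8chi chevE6 hB (h8Tor chevE6 hB c) 36 = (c 4)⁻¹ * c 5 ^ 2 := by
  obtain ⟨⟨a1, a2, a3, a4, a5, a6⟩, ⟨b1, b2, b3, b4, b5, b6⟩, ⟨c1, c2, c3, c4, c5, c6⟩,
    ⟨d1, d2, d3, d4, d5, d6⟩, ⟨e1, e2, e3, e4, e5, e6⟩, ⟨f1, f2, f3, f4, f5, f6⟩⟩ := h8cartE6
  have key : ∀ s (hs : s < chevE6.nroots), h8chi chevE6 hB (h8Tor chevE6 hB c) s =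
      c 0 ^ chevE6.cartan 0 s * c 1 ^ chevE6.cartan 1 s * c 2 ^ chevE6.cartan 2 s *
        c 3 ^ chevE6.cartan 3 s * c 4 ^ chevE6.cartan 4 s * c 5 ^ chevE6.cartan 5 s := by
    intro s hs
    rw [h8chi_Tor chevE6 hB hA hW h8scE6 c hc s hs]
    show ∏ k ∈ Finset.range 6, c k ^ chevE6.cartan k s = _
    simp only [Finset.prod_range_succ, Finset.prod_range_zero, one_mul]
  refine ⟨?_, ?_, ?_, ?_, ?_, ?_⟩
  · rw [key 56 (by decide), a1, a2, a3, a4, a5, a6]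
    simp only [zpow_zero, mul_one, one_mul, zpow_neg, zpow_one, zpow_ofNat, pow_zero, pow_one]
  · rw [key 46 (by decide), b1, b2, b3, b4, b5, b6]
    simp only [zpow_zero, mul_one, one_mul, zpow_neg, zpow_one, zpow_ofNat, pow_zero, pow_one]
  · rw [key 42 (by decide), c1, c2, c3, c4, c5, c6]
    simp only [zpow_zero, mul_one, one_mul, zpow_neg, zpow_one, zpow_ofNat, pow_zero, pow_one]
  · rw [key 39 (by decide), d1, d2, d3, d4, d5, d6]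
    simp only [zpow_zero, mul_one, one_mul, zpow_neg, zpow_one, zpow_ofNat, pow_zero, pow_one]
  · rw [key 37 (by decide), e1, e2, e3, e4, e5, e6]
    simp only [zpow_zero, mul_one, one_mul, zpow_neg, zpow_one, zpow_ofNat, pow_zero, pow_one]
  · rw [key 36 (by decide), f1, f2, f3, f4, f5, f6]
    simp only [zpow_zero, mul_one, one_mul, zpow_neg, zpow_one, zpow_ofNat, pow_zero, pow_one]

end

end Cfsg.Agent.Lib.helper8
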