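import Mathlib
import Cfsg.Prelude.Def_ChevStructure
import Cfsg.Prelude.Def_ChevWords
import Cfsg.Agent.Lib.helper8.ChevTwH1

set_option autoImplicit false

namespace Cfsg.Agent.Lib.helper8

open Cfsg.Lie Cfsg.Lie.ChevalleyDatum

universe u

variable {K : Type u} [Field K]

section
variable (D : ChevalleyDatum) (hB : H8Base.{u} D) (G1 : Subgroup (GL D.Idx K))

/-- the torus element of an orbit of two orthogonal roots lies in the twisted group -/
theorem h8tw_hJ2_mem (f : K ≃+* K) (r r' : ℕ)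
    (hcomm : ∀ a ∈ [r, D.negIdx.getD r 0], ∀ b ∈ [r', D.negIdx.getD r' 0], ∀ t u : K,
      Commute (h8xU D hB a t) (h8xU D hB b u))
    (hP : ∀ t, h8xU D hB r t * h8xU D hB r' (f t) ∈ G1)
    (hM : ∀ t, h8xU D hB (D.negIdx.getD r 0) t * h8xU D hB (D.negIdx.getD r' 0) (f t) ∈ G1)
    (c : K) (hc0 : c ≠ 0) : h8hU D hB r c * h8hU D hB r' (f c) ∈ G1 := by
  have hN : ∀ a : K, a ≠ 0 → h8nU D hB r a * h8nU D hB r' (f a) ∈ G1 := by
    intro a _
    apply h8tw_nn2 D hB G1 r r' hcomm a (f a) (hP a)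
    have := hM (-a⁻¹)
    rwa [map_neg, map_inv₀] at this
  apply h8tw_hh2 D hB G1 r r' hcomm c (f c) (hN c hc0)
  have := hN 1 one_ne_zero
  rwa [map_one] at this

/-- the torus element of an orbit of three orthogonal roots lies in the twisted group -/
theorem h8tw_hJ3_mem (f : K ≃+* K) (r1 r2 r3 : ℕ)
    (hc12 : ∀ a ∈ [r1, D.negIdx.getD r1 0], ∀ b ∈ [r2, D.negIdx.getD r2 0], ∀ t u : K,
      Commute (h8xU D hB a t) (h8xU D hB b u))
    (hc13 : ∀ a ∈ [r1, D.negIdx.getD r1 0], ∀ b ∈ [r3, D.negIdx.getD r3 0], ∀ t u : K,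
      Commute (h8xU D hB a t) (h8xU D hB b u))
    (hc23 : ∀ a ∈ [r2, D.negIdx.getD r2 0], ∀ b ∈ [r3, D.negIdx.getD r3 0], ∀ t u : K,
      Commute (h8xU D hB a t) (h8xU D hB b u))
    (hP : ∀ t, h8xU D hB r1 t * h8xU D hB r2 (f t) * h8xU D hB r3 (f (f t)) ∈ G1)
    (hM : ∀ t, h8xU D hB (D.negIdx.getD r1 0) t * h8xU D hB (D.negIdx.getD r2 0) (f t) *
      h8xU D hB (D.negIdx.getD r3 0) (f (f t)) ∈ G1)
    (c : K) (hc0 : c ≠ 0) :
    h8hU D hB r1 c * h8hU D hB r2 (f c) * h8hU D hB r3 (f (f c)) ∈ G1 := by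
  have hN : ∀ a : K, a ≠ 0 →
      h8nU D hB r1 a * h8nU D hB r2 (f a) * h8nU D hB r3 (f (f a)) ∈ G1 := by
    intro a _
    apply h8tw_nn3 D hB G1 r1 r2 r3 hc12 hc13 hc23 a (f a) (f (f a)) (hP a)
    have := hM (-a⁻¹)
    rwa [map_neg, map_inv₀, map_neg, map_inv₀] at this
  apply h8tw_hh3 D hB G1 r1 r2 r3 hc12 hc13 hc23 c (f c) (f (f c)) (hN c hc0)
  have := hN 1 one_ne_zero
  rwa [map_one, map_one] at this

end

/-- the number of non-zero elements of a finite field -/
theorem h8card_ne_zero [Fintype K] : Nat.card {x : K // x ≠ 0} = Fintype.card K - 1 := by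
  classical
  rw [← Nat.card_congr (unitsEquivNeZero (G₀ := K)), Nat.card_eq_fintype_card, Fintype.card_units]

/-- the number of non-zero fixed points of a field automorphism -/
theorem h8card_fix_ne_zero [Finite K] (f : K ≃+* K) (q : ℕ)
    (hfc : Nat.card {c : K // f c = c} = q) :
    Nat.card {y : K // y ≠ 0 ∧ f y = y} = q - 1 := by
  classical
  have e : Option {y : K // y ≠ 0 ∧ f y = y} ≃ {c : K // f c = c} :=
    { toFun := fun o => match o with
        | none => ⟨0, map_zero f⟩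
        | some y => ⟨y.1, y.2.2⟩
      invFun := fun c => if h : c.1 = 0 then none else some ⟨c.1, h, c.2⟩
      left_inv := by
        intro o
        cases o with
        | none => simp
        | some y => simp [y.2.1]
      right_inv := by
        intro c
        by_cases h : c.1 = 0
        · simp only [h, dif_pos]
          exact Subtype.ext h.symm
        · simp only [h, dif_neg, not_false_eq_true] }
  have := Nat.card_congr e
  rw [Finite.card_option, hfc] at this
  omega

/-- an auxiliary computation in a cubic extension -/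
theorem h8d4_inj_aux (f : K ≃+* K) (γ α : K) (hγ : γ ≠ 0) (hα : f α = α) (h1 : γ ^ 2 = α)
    (h2 : α ^ 2 = γ * f γ * f (f γ)) : γ = 1 := by
  have e1 : (f γ) ^ 2 = γ ^ 2 := by rw [← map_pow, h1, hα]
  have e2 : (f γ - γ) * (f γ + γ) = 0 := by ring_nf; rw [e1]; ring
  rcases mul_eq_zero.mp e2 with h | h
  · have hf : f γ = γ := sub_eq_zero.mp h
    rw [hf, hf, ← h1] at h2
    have : γ ^ 3 * (γ - 1) = 0 := by ring_nf; ring_nf at h2; linear_combination h2
    rcases mul_eq_zero.mp this with h3 | h3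
    · exact absurd ((pow_eq_zero_iff (n := 3) (by norm_num)).mp h3) hγ
    · exact sub_eq_zero.mp h3
  · have hf : f γ = -γ := eq_neg_of_add_eq_zero_left h
    have hff : f (f γ) = γ := by rw [hf, map_neg, hf, neg_neg]
    rw [hff, hf, ← h1] at h2
    have : γ ^ 3 * (γ + 1) = 0 := by ring_nf; ring_nf at h2; linear_combination h2
    rcases mul_eq_zero.mp this with h3 | h3
    · exact absurd ((pow_eq_zero_iff (n := 3) (by norm_num)).mp h3) hγ
    · have hm : γ = -1 := eq_neg_of_add_eq_zero_left h3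
      have : f γ = γ := by rw [hm, map_neg, map_one]
      rw [hf, hm, neg_neg] at this
      rw [hm, ← this]

end Cfsg.Agent.Lib.helper8
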