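import Mathlib
import Cfsg.Prelude.Def_ChevStructure
import Cfsg.Prelude.Def_LieTwisted
import Cfsg.Agent.Lib.helper8.ChevTwE6H1
import Cfsg.Agent.Lib.helper8.ChevTwH2
import Cfsg.Agent.Lib.helper8.ChevSolv

set_option autoImplicit false

namespace Cfsg.Agent.Lib.helper8

open Cfsg.Lie Cfsg.Lie.ChevalleyDatum

universe u

variable {K : Type u} [Field K]

/-- compatibility of torus coordinates with the twist of `E₆` -/
def H8CompE6 (f : K ≃+* K) (c : ℕ → K) : Prop :=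
  (∀ i, c i ≠ 0) ∧ c 5 = f (c 0) ∧ c 4 = f (c 2) ∧ f (c 1) = c 1 ∧ f (c 3) = c 3

/-- the torus `H₀` of `²E₆(q)` -/
def h8H0E6 (hB : H8Base.{u} chevE6) (f : K ≃+* K) : Set (GL chevE6.Idx K) :=
  {g | ∃ c, H8CompE6 f c ∧ g = h8Tor chevE6 hB c}

theorem h8six_mem {G : Type*} [Group G] (S : Subgroup G) (a b c d e g : G) (hab : Commute a b)
    (hcd : Commute c d) (had : Commute a d) (hg : Commute (c * e) g) (hb : b ∈ S) (hd : d ∈ S)
    (hce : c * e ∈ S) (hag : a * g ∈ S) : a * b * c * d * e * g ∈ S := by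
  have : a * b * c * d * e * g = b * d * ((a * g) * (c * e)) := by
    calc a * b * c * d * e * g = (a * b) * (c * d) * e * g := by group
      _ = (b * a) * (d * c) * e * g := by rw [hab.eq, hcd.eq]
      _ = b * (a * d) * c * e * g := by group
      _ = b * (d * a) * c * e * g := by rw [had.eq]
      _ = b * d * (a * ((c * e) * g)) := by group
      _ = b * d * (a * (g * (c * e))) := by rw [hg.eq]
      _ = b * d * ((a * g) * (c * e)) := by group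
  rw [this]
  exact Subgroup.mul_mem _ (Subgroup.mul_mem _ hb hd) (Subgroup.mul_mem _ hag hce)

theorem h8simpleE6 : chevE6.simple 0 = 56 ∧ chevE6.simple 1 = 46 ∧ chevE6.simple 2 = 42 ∧
    chevE6.simple 3 = 39 ∧ chevE6.simple 4 = 37 ∧ chevE6.simple 5 = 36 := by decide

section
variable (hB : H8Base.{u} chevE6) (f : K ≃+* K)

theorem h8Tor_E6 (c : ℕ → K) :
    h8Tor chevE6 hB c = h8hU chevE6 hB 56 (c 0) * h8hU chevE6 hB 46 (c 1) *
      h8hU chevE6 hB 42 (c 2) * h8hU chevE6 hB 39 (c 3) * h8hU chevE6 hB 37 (c 4) *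
      h8hU chevE6 hB 36 (c 5) := by
  obtain ⟨s0, s1, s2, s3, s4, s5⟩ := h8simpleE6
  unfold h8Tor
  show ((List.range 6).map fun i => h8hU chevE6 hB (chevE6.simple i) (c i)).prod = _
  simp only [List.range_succ, List.range_zero, List.nil_append, List.cons_append, List.map_cons,
    List.map_nil, List.prod_cons, List.prod_nil, mul_one, s0, s1, s2, s3, s4, s5]
  simp only [mul_assoc]

theorem h8H0E6_one : (1 : GL chevE6.Idx K) ∈ h8H0E6 hB f :=
  ⟨fun _ => 1, ⟨fun _ => one_ne_zero, (map_one f).symm, (map_one f).symm, map_one f, map_one f⟩,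
    (h8Tor_one chevE6 hB).symm⟩

theorem h8H0E6_mul (a : GL chevE6.Idx K) (ha : a ∈ h8H0E6 hB f) (b : GL chevE6.Idx K)
    (hb : b ∈ h8H0E6 hB f) : a * b ∈ h8H0E6 hB f := by
  obtain ⟨c, ⟨hc0, hc1, hc2, hc3, hc4⟩, rfl⟩ := ha
  obtain ⟨c', ⟨hc0', hc1', hc2', hc3', hc4'⟩, rfl⟩ := hb
  refine ⟨fun i => c i * c' i, ⟨fun i => mul_ne_zero (hc0 i) (hc0' i), ?_, ?_, ?_, ?_⟩, ?_⟩
  · show c 5 * c' 5 = f (c 0 * c' 0)
    rw [map_mul, hc1, hc1']
  · show c 4 * c' 4 = f (c 2 * c' 2)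
    rw [map_mul, hc2, hc2']
  · show f (c 1 * c' 1) = c 1 * c' 1
    rw [map_mul, hc3, hc3']
  · show f (c 3 * c' 3) = c 3 * c' 3
    rw [map_mul, hc4, hc4']
  · exact h8Tor_mul chevE6 hB h8scE6 c c' (fun i _ => hc0 i) (fun i _ => hc0' i)

theorem h8H0E6_le_H (a : GL chevE6.Idx K) (ha : a ∈ h8H0E6 hB f) :
    a ∈ chevE6.diagonalSubgroup K := by
  obtain ⟨c, ⟨hc0, _⟩, rfl⟩ := ha
  exact h8Tor_mem_H chevE6 hB h8scE6 c (fun i _ => hc0 i)

theorem h8H0E6_le_G (G1 : Subgroup (GL chevE6.Idx K))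
    (h46 : ∀ c : K, f c = c → h8hU chevE6 hB 46 c ∈ G1)
    (h39 : ∀ c : K, f c = c → h8hU chevE6 hB 39 c ∈ G1)
    (h56 : ∀ c : K, c ≠ 0 → h8hU chevE6 hB 56 c * h8hU chevE6 hB 36 (f c) ∈ G1)
    (h42 : ∀ c : K, c ≠ 0 → h8hU chevE6 hB 42 c * h8hU chevE6 hB 37 (f c) ∈ G1)
    (a : GL chevE6.Idx K) (ha : a ∈ h8H0E6 hB f) : a ∈ G1 := by
  obtain ⟨c, ⟨hc0, hc1, hc2, hc3, hc4⟩, rfl⟩ := ha
  rw [h8Tor_E6]
  have hm : ∀ r < chevE6.nroots, ∀ i, h8hU chevE6 hB r (c i) ∈ chevE6.diagonalSubgroup K :=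
    fun r hr i => h8hU_mem_H chevE6 hB r hr _ (hc0 i)
  have cm : ∀ x y : GL chevE6.Idx K, x ∈ chevE6.diagonalSubgroup K →
      y ∈ chevE6.diagonalSubgroup K → Commute x y := fun x y hx hy => h8_H_comm chevE6 hB x y hx hy
  apply h8six_mem G1
  · exact cm _ _ (hm 56 (by decide) 0) (hm 46 (by decide) 1)
  · exact cm _ _ (hm 42 (by decide) 2) (hm 39 (by decide) 3)
  · exact cm _ _ (hm 56 (by decide) 0) (hm 39 (by decide) 3)
  · exact cm _ _ (Subgroup.mul_mem _ (hm 42 (by decide) 2) (hm 37 (by decide) 4))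
      (hm 36 (by decide) 5)
  · exact h46 _ hc3
  · exact h39 _ hc4
  · rw [hc2]
    exact h42 _ (hc0 2)
  · rw [hc1]
    exact h56 _ (hc0 0)

end

end Cfsg.Agent.Lib.helper8
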