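import Mathlib
import Cfsg.Prelude.Def_ChevStructure
import Cfsg.Prelude.Def_LieTwisted
import Cfsg.Agent.Lib.helper8.ChevTwE6H2

set_option autoImplicit false

namespace Cfsg.Agent.Lib.helper8

open Cfsg.Lie Cfsg.Lie.ChevalleyDatum

universe u

variable {K : Type u} [Field K]

theorem h8KE6_vals : h8KF chevE6 46 39 = -1 ∧ h8KF chevE6 39 46 = -1 ∧ h8KF chevE6 42 56 = -1 ∧
    h8KF chevE6 37 56 = 0 ∧ h8KF chevE6 42 36 = 0 ∧ h8KF chevE6 37 36 = -1 ∧
    h8KF chevE6 56 42 = -1 ∧ h8KF chevE6 36 42 = 0 ∧ h8KF chevE6 56 37 = 0 ∧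
    h8KF chevE6 36 37 = -1 := by decide +kernel

theorem h8sigE6_vals : h8sE6 39 = 39 ∧ h8sE6 46 = 46 ∧ h8sE6 56 = 36 ∧ h8sE6 42 = 37 := by
  decide +kernel

theorem h8mapsE6 : List.map chevE6.simple [1] = [46] ∧ List.map chevE6.simple [3] = [39] ∧
    List.map chevE6.simple [2, 4] = [42, 37] ∧ List.map chevE6.simple [0, 5] = [56, 36] := by
  decide

section
variable (hB : H8Base.{u} chevE6) (hA : H8ReflAll chevE6) (hW : H8BN2 chevE6) (f : K ≃+* K)

theorem h8inv_fix (d : K) (h : d⁻¹ = f d⁻¹) : f d = d := by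
  rw [map_inv₀] at h
  exact (inv_injective h).symm

/-- a one-parameter torus element of a fixed simple root with fixed parameter lies in `H₀` -/
theorem h8H0E6_single (i : ℕ) (hi : i = 1 ∨ i = 3) (d : K) (hd : d ≠ 0) (hfd : f d = d) :
    h8hU chevE6 hB (chevE6.simple i) d ∈ h8H0E6 hB f := by
  refine ⟨fun k => if k = i then d else 1, ⟨?_, ?_, ?_, ?_, ?_⟩, ?_⟩
  · intro k
    show (if k = i then d else (1 : K)) ≠ 0
    split_ifs
    · exact hd
    · exact one_ne_zero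
  · rcases hi with rfl | rfl <;> simp
  · rcases hi with rfl | rfl <;> simp
  · rcases hi with rfl | rfl <;> simp [hfd]
  · rcases hi with rfl | rfl <;> simp [hfd]
  · have hi' : i < chevE6.rank := by
      rcases hi with rfl | rfl <;> decide
    exact h8hU_simple_eq_Tor chevE6 hB h8scE6 i hi' d hd

/-- a torus element of a non-fixed simple orbit lies in `H₀` -/
theorem h8H0E6_pair (i j : ℕ) (hij : (i = 2 ∧ j = 4) ∨ (i = 0 ∧ j = 5)) (d : K) (hd : d ≠ 0) :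
    h8hU chevE6 hB (chevE6.simple i) d * h8hU chevE6 hB (chevE6.simple j) (f d) ∈
      h8H0E6 hB f := by
  have hfd : f d ≠ 0 := (map_ne_zero f).mpr hd
  have hi' : i < chevE6.rank := by
    rcases hij with ⟨rfl, rfl⟩ | ⟨rfl, rfl⟩ <;> decide
  have hj' : j < chevE6.rank := by
    rcases hij with ⟨rfl, rfl⟩ | ⟨rfl, rfl⟩ <;> decide
  have hne : i ≠ j := by
    rcases hij with ⟨rfl, rfl⟩ | ⟨rfl, rfl⟩ <;> decide
  refine ⟨fun k => (if k = i then d else 1) * (if k = j then f d else 1),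
    ⟨?_, ?_, ?_, ?_, ?_⟩, ?_⟩
  · intro k
    show (if k = i then d else (1 : K)) * (if k = j then f d else 1) ≠ 0
    apply mul_ne_zero
    · split_ifs
      · exact hd
      · exact one_ne_zero
    · split_ifs
      · exact hfd
      · exact one_ne_zero
  · rcases hij with ⟨rfl, rfl⟩ | ⟨rfl, rfl⟩ <;> simp
  · rcases hij with ⟨rfl, rfl⟩ | ⟨rfl, rfl⟩ <;> simp
  · rcases hij with ⟨rfl, rfl⟩ | ⟨rfl, rfl⟩ <;> simp
  · rcases hij with ⟨rfl, rfl⟩ | ⟨rfl, rfl⟩ <;> simp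
  · rw [h8hU_simple_eq_Tor chevE6 hB h8scE6 i hi' d hd,
      h8hU_simple_eq_Tor chevE6 hB h8scE6 j hj' (f d) hfd, h8Tor_mul chevE6 hB h8scE6]
    · intro k _
      show (if k = i then d else (1 : K)) ≠ 0
      split_ifs
      · exact hd
      · exact one_ne_zero
    · intro k _
      show (if k = j then f d else (1 : K)) ≠ 0
      split_ifs
      · exact hfd
      · exact one_ne_zero

variable (hff : ∀ t, f (f t) = t)

include hA hW in
/-- the fixed elements of the torus of a fixed simple root lie in `H₀` -/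
theorem h8HJ_E6_single (p p' i : ℕ) (hp : (p = 46 ∧ p' = 39 ∧ i = 1) ∨ (p = 39 ∧ p' = 46 ∧ i = 3))
    (h : GL chevE6.Idx K)
    (hh : h ∈ h8HJ chevE6 hB h8sE6 h8tE6 h8pE6 h8qE6 h8eE6 (h8autE6 hA) f [p]) :
    h ∈ h8H0E6 hB f := by
  obtain ⟨k1, k2, _⟩ := h8KE6_vals
  obtain ⟨s39, s46, _⟩ := h8sigE6_vals
  obtain ⟨_, t1, _, t3, _, _⟩ := h8simpleE6
  have l46 : 46 < chevE6.nroots := by decide
  have l39 : 39 < chevE6.nroots := by decide
  rw [h8KF_eq chevE6 hA.ca _ _ l39] at k1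
  rw [h8KF_eq chevE6 hA.ca _ _ l46] at k2
  obtain ⟨hfix, d, hd, rfl⟩ := hh
  have hd0 : d p ≠ 0 := hd p (by simp)
  have hplt : p < chevE6.nroots := by
    rcases hp with ⟨rfl, _, _⟩ | ⟨rfl, _, _⟩ <;> decide
  have hp'lt : p' < chevE6.nroots := by
    rcases hp with ⟨_, rfl, _⟩ | ⟨_, rfl, _⟩ <;> decide
  simp only [List.map_cons, List.map_nil, List.prod_cons, List.prod_nil, mul_one] at hfix ⊢
  have hmem := h8hU_mem_H chevE6 hB p hplt (d p) hd0
  have hsig := h8chi_sig chevE6 hB hA hW h8sE6 h8tE6 h8pE6 h8qE6 h8eE6 (h8autE6 hA) f _ hmem hfix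
    p' hp'lt
  rw [h8chi_hU chevE6 hB hA hW p hplt (d p) hd0 p' hp'lt] at hsig
  have hK : h8K chevE6 p p' = -1 := by
    rcases hp with ⟨rfl, rfl, _⟩ | ⟨rfl, rfl, _⟩
    · exact k1
    · exact k2
  have hs : h8sE6 p' = p' := by
    rcases hp with ⟨_, rfl, _⟩ | ⟨_, rfl, _⟩
    · exact s39
    · exact s46
  rw [hs, h8chi_hU chevE6 hB hA hW p hplt (d p) hd0 p' hp'lt, hK, zpow_neg, zpow_one] at hsig
  have hfd := h8inv_fix f _ hsig
  have hpi : p = chevE6.simple i := by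
    rcases hp with ⟨rfl, _, rfl⟩ | ⟨rfl, _, rfl⟩
    · exact t1.symm
    · exact t3.symm
  rw [hpi] at hfd ⊢
  apply h8H0E6_single hB f i _ _ _ hfd
  · rcases hp with ⟨_, _, rfl⟩ | ⟨_, _, rfl⟩ <;> simp
  · rw [← hpi]; exact hd0

end

end Cfsg.Agent.Lib.helper8
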