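import Mathlib
import Cfsg.Prelude.Def_ChevStructure
import Cfsg.Prelude.Def_LieTwisted
import Cfsg.Agent.Lib.helper8.ChevTwE6H3

set_option autoImplicit false

namespace Cfsg.Agent.Lib.helper8

open Cfsg.Lie Cfsg.Lie.ChevalleyDatum

universe u

variable {K : Type u} [Field K]

section
variable (hB : H8Base.{u} chevE6) (hA : H8ReflAll chevE6) (hW : H8BN2 chevE6) (f : K ≃+* K)

include hA hW in
/-- the fixed elements of the torus of a non-fixed simple orbit lie in `H₀` -/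
theorem h8HJ_E6_pair (p p' a b i j : ℕ)
    (hp : (p = 42 ∧ p' = 37 ∧ a = 56 ∧ b = 36 ∧ i = 2 ∧ j = 4) ∨
      (p = 56 ∧ p' = 36 ∧ a = 42 ∧ b = 37 ∧ i = 0 ∧ j = 5))
    (h : GL chevE6.Idx K)
    (hh : h ∈ h8HJ chevE6 hB h8sE6 h8tE6 h8pE6 h8qE6 h8eE6 (h8autE6 hA) f [p, p']) :
    h ∈ h8H0E6 hB f := by
  obtain ⟨_, _, k3, k4, k5, k6, k7, k8, k9, k10⟩ := h8KE6_vals
  obtain ⟨_, _, s56, s42⟩ := h8sigE6_vals
  obtain ⟨t0, _, t2, _, t4, t5⟩ := h8simpleE6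
  have l56 : 56 < chevE6.nroots := by decide
  have l36 : 36 < chevE6.nroots := by decide
  have l42 : 42 < chevE6.nroots := by decide
  have l37 : 37 < chevE6.nroots := by decide
  rw [h8KF_eq chevE6 hA.ca _ _ l56] at k3 k4
  rw [h8KF_eq chevE6 hA.ca _ _ l36] at k5 k6
  rw [h8KF_eq chevE6 hA.ca _ _ l42] at k7 k8
  rw [h8KF_eq chevE6 hA.ca _ _ l37] at k9 k10
  obtain ⟨hfix, d, hd, rfl⟩ := hh
  have hd0 : d p ≠ 0 := hd p (by simp)
  have hd0' : d p' ≠ 0 := hd p' (by simp)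
  have hplt : p < chevE6.nroots := by
    rcases hp with ⟨rfl, _⟩ | ⟨rfl, _⟩ <;> decide
  have hp'lt : p' < chevE6.nroots := by
    rcases hp with ⟨_, rfl, _⟩ | ⟨_, rfl, _⟩ <;> decide
  have halt : a < chevE6.nroots := by
    rcases hp with ⟨_, _, rfl, _⟩ | ⟨_, _, rfl, _⟩ <;> decide
  have hblt : b < chevE6.nroots := by
    rcases hp with ⟨_, _, _, rfl, _⟩ | ⟨_, _, _, rfl, _⟩ <;> decide
  simp only [List.map_cons, List.map_nil, List.prod_cons, List.prod_nil, mul_one] at hfix ⊢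
  have hm1 := h8hU_mem_H chevE6 hB p hplt (d p) hd0
  have hm2 := h8hU_mem_H chevE6 hB p' hp'lt (d p') hd0'
  have hmem := Subgroup.mul_mem _ hm1 hm2
  have hsig := h8chi_sig chevE6 hB hA hW h8sE6 h8tE6 h8pE6 h8qE6 h8eE6 (h8autE6 hA) f _ hmem hfix
    a halt
  have hs : h8sE6 a = b := by
    rcases hp with ⟨_, _, rfl, rfl, _⟩ | ⟨_, _, rfl, rfl, _⟩
    · exact s56
    · exact s42
  have hK : h8K chevE6 p a = -1 ∧ h8K chevE6 p' a = 0 ∧ h8K chevE6 p b = 0 ∧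
      h8K chevE6 p' b = -1 := by
    rcases hp with ⟨rfl, rfl, rfl, rfl, _⟩ | ⟨rfl, rfl, rfl, rfl, _⟩
    · exact ⟨k3, k4, k5, k6⟩
    · exact ⟨k7, k8, k9, k10⟩
  rw [hs, h8chi_mul chevE6 hB hA hW _ _ hm1 hm2 b hblt,
    h8chi_mul chevE6 hB hA hW _ _ hm1 hm2 a halt,
    h8chi_hU chevE6 hB hA hW p hplt (d p) hd0 b hblt,
    h8chi_hU chevE6 hB hA hW p' hp'lt (d p') hd0' b hblt,
    h8chi_hU chevE6 hB hA hW p hplt (d p) hd0 a halt,
    h8chi_hU chevE6 hB hA hW p' hp'lt (d p') hd0' a halt,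
    hK.1, hK.2.1, hK.2.2.1, hK.2.2.2, zpow_zero, zpow_zero, one_mul, mul_one, zpow_neg, zpow_neg,
    zpow_one, zpow_one, map_inv₀] at hsig
  have hdd : d p' = f (d p) := inv_injective hsig
  have hpi : p = chevE6.simple i ∧ p' = chevE6.simple j := by
    rcases hp with ⟨rfl, rfl, _, _, rfl, rfl⟩ | ⟨rfl, rfl, _, _, rfl, rfl⟩
    · exact ⟨t2.symm, t4.symm⟩
    · exact ⟨t0.symm, t5.symm⟩
  rw [hdd, hpi.1, hpi.2]
  apply h8H0E6_pair hB f i j _ _ _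
  · rcases hp with ⟨_, _, _, _, rfl, rfl⟩ | ⟨_, _, _, _, rfl, rfl⟩ <;> simp
  · rw [← hpi.1]; exact hd0

end

end Cfsg.Agent.Lib.helper8
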