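import Mathlib
import Cfsg.Prelude.Def_ChevStructure
import Cfsg.Prelude.Def_LieTwisted
import Cfsg.Agent.Lib.helper8.ChevTwE6H4

set_option autoImplicit false

namespace Cfsg.Agent.Lib.helper8

open Cfsg.Lie Cfsg.Lie.ChevalleyDatum

universe u

variable {K : Type u} [Field K]

theorem h8E6_prods (c : ℕ → K) :
    (∏ j ∈ Finset.range chevE6.rank, c j ^ chevE6.cartan j (chevE6.simple 0) =
      c 0 ^ 2 * (c 2)⁻¹) ∧
    (∏ j ∈ Finset.range chevE6.rank, c j ^ chevE6.cartan j (chevE6.simple 1) =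
      c 1 ^ 2 * (c 3)⁻¹) ∧
    (∏ j ∈ Finset.range chevE6.rank, c j ^ chevE6.cartan j (chevE6.simple 2) =
      (c 0)⁻¹ * c 2 ^ 2 * (c 3)⁻¹) ∧
    (∏ j ∈ Finset.range chevE6.rank, c j ^ chevE6.cartan j (chevE6.simple 3) =
      (c 1)⁻¹ * (c 2)⁻¹ * c 3 ^ 2 * (c 4)⁻¹) ∧
    (∏ j ∈ Finset.range chevE6.rank, c j ^ chevE6.cartan j (chevE6.simple 4) =
      (c 3)⁻¹ * c 4 ^ 2 * (c 5)⁻¹) ∧
    (∏ j ∈ Finset.range chevE6.rank, c j ^ chevE6.cartan j (chevE6.simple 5) =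
      (c 4)⁻¹ * c 5 ^ 2) := by
  obtain ⟨⟨a1, a2, a3, a4, a5, a6⟩, ⟨b1, b2, b3, b4, b5, b6⟩, ⟨c1, c2, c3, c4, c5, c6⟩,
    ⟨d1, d2, d3, d4, d5, d6⟩, ⟨e1, e2, e3, e4, e5, e6⟩, ⟨f1, f2, f3, f4, f5, f6⟩⟩ := h8cartE6
  obtain ⟨s0, s1, s2, s3, s4, s5⟩ := h8simpleE6
  have key : ∀ s, ∏ k ∈ Finset.range chevE6.rank, c k ^ chevE6.cartan k s =
      c 0 ^ chevE6.cartan 0 s * c 1 ^ chevE6.cartan 1 s * c 2 ^ chevE6.cartan 2 s *
        c 3 ^ chevE6.cartan 3 s * c 4 ^ chevE6.cartan 4 s * c 5 ^ chevE6.cartan 5 s := by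
    intro s
    show ∏ k ∈ Finset.range 6, c k ^ chevE6.cartan k s = _
    simp only [Finset.prod_range_succ, Finset.prod_range_zero, one_mul]
  refine ⟨?_, ?_, ?_, ?_, ?_, ?_⟩
  · rw [key, s0, a1, a2, a3, a4, a5, a6]
    simp only [zpow_zero, mul_one, one_mul, zpow_neg, zpow_one, zpow_ofNat, pow_zero, pow_one]
  · rw [key, s1, b1, b2, b3, b4, b5, b6]
    simp only [zpow_zero, mul_one, one_mul, zpow_neg, zpow_one, zpow_ofNat, pow_zero, pow_one]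
  · rw [key, s2, c1, c2, c3, c4, c5, c6]
    simp only [zpow_zero, mul_one, one_mul, zpow_neg, zpow_one, zpow_ofNat, pow_zero, pow_one]
  · rw [key, s3, d1, d2, d3, d4, d5, d6]
    simp only [zpow_zero, mul_one, one_mul, zpow_neg, zpow_one, zpow_ofNat, pow_zero, pow_one]
  · rw [key, s4, e1, e2, e3, e4, e5, e6]
    simp only [zpow_zero, mul_one, one_mul, zpow_neg, zpow_one, zpow_ofNat, pow_zero, pow_one]
  · rw [key, s5, f1, f2, f3, f4, f5, f6]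
    simp only [zpow_zero, mul_one, one_mul, zpow_neg, zpow_one, zpow_ofNat, pow_zero, pow_one]

section
variable (hB : H8Base.{u} chevE6) (hA : H8ReflAll chevE6) (f : K ≃+* K)
  (hff : ∀ t, f (f t) = t)

include hA hff in
/-- `n_J` normalizes `H₀`, for the fixed simple roots -/
theorem h8H0E6_conj1 (i : ℕ) (hi : i = 1 ∨ i = 3) (a : GL chevE6.Idx K)
    (ha : a ∈ h8H0E6 hB f) :
    h8nWU chevE6 hB [i] * a * (h8nWU chevE6 hB [i] : GL chevE6.Idx K)⁻¹ ∈ h8H0E6 hB f := by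
  obtain ⟨c, ⟨hc0, hc1, hc2, hc3, hc4⟩, rfl⟩ := ha
  have hi' : i < chevE6.rank := by
    rcases hi with rfl | rfl <;> decide
  have e : (h8nWU chevE6 hB [i] : GL chevE6.Idx K) = h8nU chevE6 hB (chevE6.simple i) 1 := by
    unfold h8nWU
    simp
  rw [e, h8Tor_conj_n chevE6 hB hA h8scE6 i hi' c hc0]
  obtain ⟨_, p1, _, p3, _, _⟩ := h8E6_prods c
  have hf4 : f (c 4) = c 2 := by rw [hc2, hff]
  refine ⟨_, ⟨?_, ?_, ?_, ?_, ?_⟩, rfl⟩
  · intro k
    show c k * (if k = i then _ else 1) ≠ 0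
    split_ifs
    · apply mul_ne_zero (hc0 k)
      apply inv_ne_zero
      apply Finset.prod_ne_zero_iff.mpr
      intro j _
      exact zpow_ne_zero _ (hc0 j)
    · exact mul_ne_zero (hc0 k) one_ne_zero
  · rcases hi with rfl | rfl <;> simp [hc1]
  · rcases hi with rfl | rfl <;> simp [hc2]
  · rcases hi with rfl | rfl
    · simp only [if_true, p1]
      simp [hc3, hc4]
    · simp [hc3]
  · rcases hi with rfl | rfl
    · simp [hc4]
    · simp only [if_true, p3]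
      simp only [map_mul, map_inv₀, map_pow, hc3, hc4, hf4, ← hc2]
      ring

end

end Cfsg.Agent.Lib.helper8
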