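import Mathlib
import Cfsg.Prelude.Def_ChevStructure
import Cfsg.Prelude.Def_LieTwisted
import Cfsg.Agent.Lib.helper8.ChevTwE6H5

set_option autoImplicit false

namespace Cfsg.Agent.Lib.helper8

open Cfsg.Lie Cfsg.Lie.ChevalleyDatum

universe u

variable {K : Type u} [Field K]

section
variable (hB : H8Base.{u} chevE6) (hA : H8ReflAll chevE6) (f : K ≃+* K)
  (hff : ∀ t, f (f t) = t)

include hA hff in
/-- `n_J` normalizes `H₀`, for the non-fixed simple orbits -/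
theorem h8H0E6_conj2 (i j : ℕ) (hij : (i = 2 ∧ j = 4) ∨ (i = 0 ∧ j = 5)) (a : GL chevE6.Idx K)
    (ha : a ∈ h8H0E6 hB f) :
    h8nWU chevE6 hB [i, j] * a * (h8nWU chevE6 hB [i, j] : GL chevE6.Idx K)⁻¹ ∈
      h8H0E6 hB f := by
  obtain ⟨c, ⟨hc0, hc1, hc2, hc3, hc4⟩, rfl⟩ := ha
  have hi' : i < chevE6.rank := by
    rcases hij with ⟨rfl, rfl⟩ | ⟨rfl, rfl⟩ <;> decide
  have hj' : j < chevE6.rank := by
    rcases hij with ⟨rfl, rfl⟩ | ⟨rfl, rfl⟩ <;> decide
  have e : (h8nWU chevE6 hB [i, j] : GL chevE6.Idx K) =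
      h8nU chevE6 hB (chevE6.simple i) 1 * h8nU chevE6 hB (chevE6.simple j) 1 := by
    unfold h8nWU
    simp
  have e2 : ∀ (x y t : GL chevE6.Idx K), x * y * t * (x * y)⁻¹ = x * (y * t * y⁻¹) * x⁻¹ := by
    intro x y t
    group
  have hprod0 : ∀ (c' : ℕ → K), (∀ k, c' k ≠ 0) → ∀ s,
      (∏ m ∈ Finset.range chevE6.rank, c' m ^ chevE6.cartan m s)⁻¹ ≠ 0 := by
    intro c' hc' s
    apply inv_ne_zero
    apply Finset.prod_ne_zero_iff.mpr
    intro m _
    exact zpow_ne_zero _ (hc' m)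
  rw [e, e2, h8Tor_conj_n chevE6 hB hA h8scE6 j hj' c hc0]
  set c' : ℕ → K := fun k => c k * (if k = j then
    (∏ m ∈ Finset.range chevE6.rank, c m ^ chevE6.cartan m (chevE6.simple j))⁻¹ else 1) with hc'
  have hc'0 : ∀ k, c' k ≠ 0 := by
    intro k
    show c k * (if k = j then _ else 1) ≠ 0
    split_ifs
    · exact mul_ne_zero (hc0 k) (hprod0 c hc0 _)
    · exact mul_ne_zero (hc0 k) one_ne_zero
  rw [h8Tor_conj_n chevE6 hB hA h8scE6 i hi' c' hc'0]
  obtain ⟨p0, _, p2, _, p4, p5⟩ := h8E6_prods c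
  obtain ⟨q0, _, q2, _, _, _⟩ := h8E6_prods c'
  have hf4 : f (c 4) = c 2 := by rw [hc2, hff]
  have hf5 : f (c 5) = c 0 := by rw [hc1, hff]
  refine ⟨_, ⟨?_, ?_, ?_, ?_, ?_⟩, rfl⟩
  · intro k
    show c' k * (if k = i then _ else 1) ≠ 0
    split_ifs
    · exact mul_ne_zero (hc'0 k) (hprod0 c' hc'0 _)
    · exact mul_ne_zero (hc'0 k) one_ne_zero
  · rcases hij with ⟨rfl, rfl⟩ | ⟨rfl, rfl⟩
    · simp [hc', hc1]
    · simp only [if_true, q0, p5]
      simp only [hc', if_true, p5]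
      simp only [show ((0 : ℕ) = 5) = False from by simp, show ((2 : ℕ) = 5) = False from by simp,
        show ((5 : ℕ) = 0) = False from by simp, if_false, mul_one, map_mul, map_inv₀, map_pow,
        ← hc1, ← hc2]
      rw [mul_comm ((c 4)⁻¹)]
  · rcases hij with ⟨rfl, rfl⟩ | ⟨rfl, rfl⟩
    · simp only [if_true, q2, p4]
      simp only [hc', if_true, p4]
      simp only [show ((0 : ℕ) = 4) = False from by simp, show ((2 : ℕ) = 4) = False from by simp,
        show ((3 : ℕ) = 4) = False from by simp, show ((4 : ℕ) = 2) = False from by simp,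
        if_false, mul_one, map_mul, map_inv₀, map_pow, ← hc1, ← hc2, hc4]
      ring
    · simp [hc', hc2]
  · rcases hij with ⟨rfl, rfl⟩ | ⟨rfl, rfl⟩ <;> simp [hc', hc3]
  · rcases hij with ⟨rfl, rfl⟩ | ⟨rfl, rfl⟩ <;> simp [hc', hc4]

end

end Cfsg.Agent.Lib.helper8
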