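import Mathlib
import Cfsg.Prelude.Def_ChevStructure
import Cfsg.Prelude.Def_LieTwisted
import Cfsg.Agent.Lib.helper8.ChevTwE6H6

set_option autoImplicit false

namespace Cfsg.Agent.Lib.helper8

open Cfsg.Lie Cfsg.Lie.ChevalleyDatum

universe u

variable {K : Type u} [Field K]

theorem h8sign_aux (e0 e1 e2 e3 : K) (g0 : e0 = 1 ∨ e0 = -1) (g1 : e1 = 1 ∨ e1 = -1)
    (g2 : e2 = 1 ∨ e2 = -1) (g3 : e3 = 1 ∨ e3 = -1) :
    e0 * ((e1 * e2) ^ 2 * e0⁻¹)⁻¹ = 1 ∧ e1 * ((e0 * e3 * e0) ^ 2 * e1⁻¹)⁻¹ = 1 ∧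
    e2 * ((e1 * e2)⁻¹ * e0 ^ 2 * e1⁻¹)⁻¹ = 1 ∧
    e3 * ((e0 * e3 * e0)⁻¹ * e0⁻¹ * e1 ^ 2 * e0⁻¹)⁻¹ = 1 ∧
    e2 * (e1⁻¹ * e0 ^ 2 * (e1 * e2)⁻¹)⁻¹ = 1 ∧ e0 * (e0⁻¹ * (e1 * e2) ^ 2)⁻¹ = 1 := by
  rcases g0 with rfl | rfl <;> rcases g1 with rfl | rfl <;> rcases g2 with rfl | rfl <;>
    rcases g3 with rfl | rfl <;> norm_num

section
variable (hB : H8Base.{u} chevE6) (hA : H8ReflAll chevE6) (hW : H8BN2 chevE6) (f : K ≃+* K)

include hA hW in
/-- a fixed element of `H` all of whose characters are signs lies in `H₀` -/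
theorem h8H0E6_sign (z : GL chevE6.Idx K) (hz : z ∈ chevE6.diagonalSubgroup K)
    (hfix : h8Sig chevE6 h8sE6 h8tE6 h8pE6 h8qE6 h8eE6 (h8autE6 hA) f z = z)
    (hs : ∀ s < chevE6.nroots, h8chi chevE6 hB z s = 1 ∨ h8chi chevE6 hB z s = -1) :
    z ∈ h8H0E6 hB f := by
  obtain ⟨s39, s46, s56, s42⟩ := h8sigE6_vals
  have l56 : 56 < chevE6.nroots := by decide
  have l46 : 46 < chevE6.nroots := by decide
  have l42 : 42 < chevE6.nroots := by decide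
  have l39 : 39 < chevE6.nroots := by decide
  have l37 : 37 < chevE6.nroots := by decide
  have l36 : 36 < chevE6.nroots := by decide
  have hsig := h8chi_sig chevE6 hB hA hW h8sE6 h8tE6 h8pE6 h8qE6 h8eE6 (h8autE6 hA) f z hz hfix
  have h5 := hsig 56 l56
  have h4 := hsig 42 l42
  rw [s56] at h5
  rw [s42] at h4
  have g0 := hs 56 l56
  have g1 := hs 46 l46
  have g2 := hs 42 l42
  have g3 := hs 39 l39
  have fsign : ∀ e : K, (e = 1 ∨ e = -1) → f e = e := by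
    intro e he
    rcases he with rfl | rfl
    · exact map_one f
    · rw [map_neg, map_one]
  have sgn0 : ∀ e : K, (e = 1 ∨ e = -1) → e ≠ 0 := by
    intro e he
    rcases he with rfl | rfl
    · exact one_ne_zero
    · exact neg_ne_zero.mpr one_ne_zero
  rw [fsign _ g0] at h5
  rw [fsign _ g2] at h4
  obtain ⟨e0, he0⟩ : ∃ e, h8chi chevE6 hB z 56 = e := ⟨_, rfl⟩
  obtain ⟨e1, he1⟩ : ∃ e, h8chi chevE6 hB z 46 = e := ⟨_, rfl⟩
  obtain ⟨e2, he2⟩ : ∃ e, h8chi chevE6 hB z 42 = e := ⟨_, rfl⟩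
  obtain ⟨e3, he3⟩ : ∃ e, h8chi chevE6 hB z 39 = e := ⟨_, rfl⟩
  rw [he0] at h5 g0
  rw [he2] at h4 g2
  rw [he1] at g1
  rw [he3] at g3
  obtain ⟨c', hdef⟩ : ∃ c' : ℕ → K, c' = fun k : ℕ => if k = 0 then e1 * e2
      else if k = 1 then e0 * e3 * e0
      else if k = 2 then e0 else if k = 3 then e1 else if k = 4 then e0
      else if k = 5 then e1 * e2 else (1 : K) := ⟨_, rfl⟩
  have v0 : c' 0 = e1 * e2 := by rw [hdef]; simp
  have v1 : c' 1 = e0 * e3 * e0 := by rw [hdef]; simp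
  have v2 : c' 2 = e0 := by rw [hdef]; simp
  have v3 : c' 3 = e1 := by rw [hdef]; simp
  have v4 : c' 4 = e0 := by rw [hdef]; simp
  have v5 : c' 5 = e1 * e2 := by rw [hdef]; simp
  have hc'0 : ∀ k, c' k ≠ 0 := by
    intro k
    rw [hdef]
    show (if k = 0 then e1 * e2 else if k = 1 then e0 * e3 * e0
      else if k = 2 then e0 else if k = 3 then e1 else if k = 4 then e0
      else if k = 5 then e1 * e2 else (1 : K)) ≠ 0
    split_ifs
    · exact mul_ne_zero (sgn0 _ g1) (sgn0 _ g2)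
    · exact mul_ne_zero (mul_ne_zero (sgn0 _ g0) (sgn0 _ g3)) (sgn0 _ g0)
    · exact sgn0 _ g0
    · exact sgn0 _ g1
    · exact sgn0 _ g0
    · exact mul_ne_zero (sgn0 _ g1) (sgn0 _ g2)
    · exact one_ne_zero
  have hmem := h8Tor_mem_H chevE6 hB h8scE6 c' (fun k _ => hc'0 k)
  refine ⟨c', ⟨hc'0, ?_, ?_, ?_, ?_⟩, ?_⟩
  · rw [v5, v0, map_mul, fsign _ g1, fsign _ g2]
  · rw [v4, v2, fsign _ g0]
  · rw [v1, map_mul, map_mul, fsign _ g0, fsign _ g3]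
  · rw [v3, fsign _ g1]
  · obtain ⟨x0, x1, x2, x3, x4, x5⟩ := h8E6_chars hB hA hW c' hc'0
    rw [v0, v2] at x0
    rw [v1, v3] at x1
    rw [v0, v2, v3] at x2
    rw [v1, v2, v3, v4] at x3
    rw [v3, v4, v5] at x4
    rw [v4, v5] at x5
    obtain ⟨y0, y1, y2, y3, y4, y5⟩ := h8sign_aux e0 e1 e2 e3 g0 g1 g2 g3
    have hchar : ∀ r < chevE6.nroots, h8chi chevE6 hB (z * (h8Tor chevE6 hB c')⁻¹) r =
        h8chi chevE6 hB z r * (h8chi chevE6 hB (h8Tor chevE6 hB c') r)⁻¹ := by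
      intro r hr
      rw [h8chi_mul chevE6 hB hA hW _ _ hz (Subgroup.inv_mem _ hmem) r hr,
        h8chi_inv chevE6 hB hA hW _ hmem r hr]
    have h1 : z * (h8Tor chevE6 hB c')⁻¹ = 1 := by
      apply h8E6_ext hB hA hW _ (Subgroup.mul_mem _ hz (Subgroup.inv_mem _ hmem))
      intro r hr
      simp only [List.mem_cons, List.not_mem_nil, or_false] at hr
      rcases hr with rfl | rfl | rfl | rfl | rfl | rfl
      · rw [hchar 56 l56, he0, x0]; exact y0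
      · rw [hchar 46 l46, he1, x1]; exact y1
      · rw [hchar 42 l42, he2, x2]; exact y2
      · rw [hchar 39 l39, he3, x3]; exact y3
      · rw [hchar 37 l37, h4, x4]; exact y4
      · rw [hchar 36 l36, h5, x5]; exact y5
    exact mul_inv_eq_one.mp h1

end

end Cfsg.Agent.Lib.helper8
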