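import Mathlib
import Cfsg.Prelude.Def_ChevStructure
import Cfsg.Prelude.Def_LieTwisted
import Cfsg.Agent.Lib.helper8.ChevTwE6H7
import Cfsg.Agent.Lib.helper8.ChevTwE6U

set_option autoImplicit false

namespace Cfsg.Agent.Lib.helper8

open Cfsg.Lie Cfsg.Lie.ChevalleyDatum

universe u

variable {K : Type u} [Field K]

set_option synthInstance.maxSize 1000 in
set_option synthInstance.maxHeartbeats 200000 in
theorem h8r2E6 : ∀ k < 4,
    (∀ i ∈ h8wE6 k, i < chevE6.rank) ∧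
    ((h8wE6 k).map chevE6.simple).Perm (h8Lb chevE6 h8posiE6 (h8blkOfE6 k)) ∧
    (∀ r ∈ (h8wE6 k).map chevE6.simple, h8sW chevE6 (h8wE6 k) r = chevE6.negIdx.getD r 0 ∧
      h8sW chevE6 (h8wE6 k).reverse r = chevE6.negIdx.getD r 0) ∧
    (∀ s < chevE6.nroots, chevE6.IsPosRoot s → h8posiE6 s ≠ h8blkOfE6 k →
      chevE6.IsPosRoot (h8sW chevE6 (h8wE6 k) s)) ∧
    (∀ r ∈ (h8wE6 k).map chevE6.simple, ∀ r' ∈ (h8wE6 k).map chevE6.simple,
      r' = r ∨ r' = h8sE6 r ∨ r' = h8sE6 (h8sE6 r)) ∧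
    (∀ r < chevE6.nroots, h8sW chevE6 (h8wE6 k ++ h8wE6 k) r = h8sW chevE6 [] r) := by
  decide +kernel

theorem h8wE6_vals : h8wE6 0 = [1] ∧ h8wE6 1 = [3] ∧ h8wE6 2 = [2, 4] ∧ h8wE6 3 = [0, 5] := by
  decide

end Cfsg.Agent.Lib.helper8
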