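import Mathlib
import Cfsg.Prelude.Def_ChevStructure
import Cfsg.Prelude.Def_LieExceptional
import Cfsg.Agent.Lib.helper8.ChevTwO3

set_option autoImplicit false

namespace Cfsg.Agent.Lib.helper8

open Cfsg.Lie Cfsg.Lie.ChevalleyDatum H3

universe u

variable {K : Type u} [Field K]

/-- words acting in the same way on the roots give elements of `N` which agree modulo `H` -/
theorem h8nWU_same_H (D : ChevalleyDatum) (hB : H8Base.{u} D) (hA : H8ReflAll D) (hBN : H8BN D)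
    (hW : H8BN2 D) (hO2 : H8Ord2 D) (w w' : List ℕ) (hw : ∀ i ∈ w, i < D.rank)
    (hw' : ∀ i ∈ w', i < D.rank) (h : ∀ r < D.nroots, h8sW D w r = h8sW D w' r) :
    (h8nWU D hB w : GL D.Idx K)⁻¹ * h8nWU D hB w' ∈ D.diagonalSubgroup K := by
  have e1 := h8Pi_nWU (F := K) D hB hA hBN hW hO2 w hw
  have e2 := h8Pi_nWU (F := K) D hB hA hBN hW hO2 w' hw'
  have e3 : h8wPerm D hA w = h8wPerm D hA w' := by
    apply Equiv.ext
    intro r
    apply Fin.ext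
    rw [h8wPerm_val D hA w hw, h8wPerm_val D hA w' hw']
    exact h r.val r.2
  have e4 : h8Pi D hB hA hBN hW hO2
      ((⟨(h8nWU D hB w : GL D.Idx K), h8nWU_mem_N D hB hA w hw⟩ :
        ↥(D.monomialSubgroup K))⁻¹ * ⟨h8nWU D hB w', h8nWU_mem_N D hB hA w' hw'⟩) = 1 := by
    rw [map_mul, map_inv, e1, e2, e3, inv_mul_cancel]
  exact h8Pi_ker D hB hA hBN hW hO2 _ e4

/-- words giving elements of `N` which agree modulo `H` act in the same way on the roots -/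
theorem h8nWU_H_same (D : ChevalleyDatum) (hB : H8Base.{u} D) (hA : H8ReflAll D) (hBN : H8BN D)
    (hW : H8BN2 D) (hO2 : H8Ord2 D) (w w' : List ℕ) (hw : ∀ i ∈ w, i < D.rank)
    (hw' : ∀ i ∈ w', i < D.rank)
    (h : (h8nWU D hB w : GL D.Idx K)⁻¹ * h8nWU D hB w' ∈ D.diagonalSubgroup K) :
    ∀ r < D.nroots, h8sW D w r = h8sW D w' r := by
  have e1 := h8Pi_nWU (F := K) D hB hA hBN hW hO2 w hw
  have e2 := h8Pi_nWU (F := K) D hB hA hBN hW hO2 w' hw'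
  have e4 := h8Pi_H D hB hA hBN hW hO2
      ((⟨(h8nWU D hB w : GL D.Idx K), h8nWU_mem_N D hB hA w hw⟩ :
        ↥(D.monomialSubgroup K))⁻¹ * ⟨h8nWU D hB w', h8nWU_mem_N D hB hA w' hw'⟩) h
  rw [map_mul, map_inv, e1, e2, inv_mul_eq_one] at e4
  intro r hr
  have := congrArg (fun p : Equiv.Perm (Fin D.nroots) => (p ⟨r, hr⟩).val) e4
  beta_reduce at this
  rw [h8wPerm_val D hA w hw, h8wPerm_val D hA w' hw'] at this
  exact this

section
variable (D : ChevalleyDatum) (hB : H8Base.{u} D) (hA : H8ReflAll D) (hC : H8CommAll.{u} D)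
  (hBN : H8BN D) (hW : H8BN2 D) (hO : H8Ord D) (hO2 : H8Ord2 D)
  (σ τ π ϖ : ℕ → ℕ) (η : ℕ → ℤ) (hAut : H8Aut D σ τ π ϖ η) (f : K ≃+* K)
  (hσpos : ∀ r, D.IsPosRoot r → D.IsPosRoot (σ r))
  (G1 : Subgroup (GL D.Idx K))
  (hfix : ∀ g ∈ G1, h8Sig D σ τ π ϖ η hAut f g = g)
  (hUfix : ∀ g ∈ D.posUnipotent K, h8Sig D σ τ π ϖ η hAut f g = g → g ∈ G1)

include hB hA hBN hσpos hfix hUfix in
/-- `|B¹| = |U¹| |H¹|` -/
theorem h8tw_B_card [Finite K] (P : Cfsg.BNPair ↥G1)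
    (hPB : P.B = (D.borelSubgroup K ⊓ G1).subgroupOf G1) :
    Nat.card ↥P.B = Nat.card ↥(D.posUnipotent K ⊓ G1) * Nat.card ↥(D.diagonalSubgroup K ⊓ G1) := by
  classical
  have hmemB : ∀ c : ↥G1, c ∈ P.B ↔ c.val ∈ D.borelSubgroup K := by
    intro c
    rw [hPB, Subgroup.mem_subgroupOf]
    exact ⟨fun h => h.1, fun h => ⟨h, c.2⟩⟩
  rw [← Nat.card_prod]
  symm
  apply Nat.card_congr
  refine Equiv.ofBijective
    (fun p : ↥(D.posUnipotent K ⊓ G1) × ↥(D.diagonalSubgroup K ⊓ G1) =>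
      (⟨⟨p.1.val * p.2.val, Subgroup.mul_mem _ p.1.2.2 p.2.2.2⟩, (hmemB _).2
        (Subgroup.mul_mem _ (h8U_le_B D p.1.2.1) (h8H_le_B D p.2.2.1))⟩ : ↥P.B)) ⟨?_, ?_⟩
  · rintro ⟨⟨u, hu⟩, ⟨t, ht⟩⟩ ⟨⟨u', hu'⟩, ⟨t', ht'⟩⟩ e
    have e' : u * t = u' * t' := congrArg (fun x : ↥P.B => x.val.val) e
    have h1 : u'⁻¹ * u ∈ D.posUnipotent K ⊓ D.diagonalSubgroup K := by
      rw [Subgroup.mem_inf]
      refine ⟨Subgroup.mul_mem _ (Subgroup.inv_mem _ hu'.1) hu.1, ?_⟩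
      have : u'⁻¹ * u = t' * t⁻¹ := by
        have : u'⁻¹ * u = u'⁻¹ * (u * t) * t⁻¹ := by group
        rw [this, e']; group
      rw [this]
      exact Subgroup.mul_mem _ ht'.1 (Subgroup.inv_mem _ ht.1)
    rw [h8_U_inf_H D hB, Subgroup.mem_bot] at h1
    have huu : u = u' := by
      have : u = u' * (u'⁻¹ * u) := by group
      rw [this, h1, mul_one]
    subst huu
    have htt : t = t' := mul_left_cancel e'
    subst htt
    rfl
  · rintro ⟨⟨b, hbG⟩, hbB⟩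
    obtain ⟨u, hu, t, ht, e⟩ := h8tw_borel_G1 D hB hA hBN σ τ π ϖ η hAut f hσpos G1 hfix hUfix b
      ⟨(hmemB _).1 hbB, hbG⟩
    refine ⟨(⟨u, hu⟩, ⟨t, ht⟩), ?_⟩
    apply Subtype.ext
    apply Subtype.ext
    exact e.symm

end

end Cfsg.Agent.Lib.helper8
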