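import Mathlib
import Cfsg.Prelude.Def_ChevStructure
import Cfsg.Prelude.Def_LieTwisted
import Cfsg.Agent.Lib.helper8.ChevTwE6H8
import Cfsg.Agent.Lib.helper8.ChevTwE6P
import Cfsg.Agent.Lib.helper8.ChevTwO4

set_option autoImplicit false

namespace Cfsg.Agent.Lib.helper8

open Cfsg.Lie Cfsg.Lie.ChevalleyDatum

universe u

variable {K : Type u} [Field K]

section
variable (hB : H8Base.{u} chevE6) (hA : H8ReflAll chevE6) (hC : H8CommAll.{u} chevE6)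
  (hBN : H8BN chevE6) (hW : H8BN2 chevE6) (hO : H8Ord chevE6) (hO2 : H8Ord2 chevE6)
  (q : ℕ) (f : K ≃+* K) (hf : ∀ t, f t = t ^ q) (hff : ∀ t, f (f t) = t)
  (hneg : (-1 : K) ^ q = -1)

include hC in
theorem h8SO_E6 : H8SO chevE6 hB K 42 37 ∧ H8SO chevE6 hB K 56 36 := by
  constructor
  · obtain ⟨_, _, h3, _, _⟩ := h8pE6_tor (42, 37) (by simp)
    intro a ha b hb t u
    obtain ⟨k1, k2, k3, k4, k5⟩ := h3 a ha b hb
    exact h8xU_commute chevE6 hB hC a b k2 k3 k4 k5 k1 t u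
  · obtain ⟨_, _, h3, _, _⟩ := h8pE6_tor (56, 36) (by simp)
    intro a ha b hb t u
    obtain ⟨k1, k2, k3, k4, k5⟩ := h3 a ha b hb
    exact h8xU_commute chevE6 hB hC a b k2 k3 k4 k5 k1 t u

include hA hC hBN hW hO hO2 hf hff hneg in
/-- the closure step for `²E₆(q)` -/
theorem h8twE6_hR (k : Fin 4) (v : GL chevE6.Idx K)
    (hv : v ∈ chevE6.posUnipotent K ⊓ twistedE6 K q) (n : GL chevE6.Idx K)
    (hn : n ∈ chevE6.monomialSubgroup K ⊓ twistedE6 K q) :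
    ∃ u₁ ∈ chevE6.posUnipotent K ⊓ twistedE6 K q, ∃ m : GL chevE6.Idx K,
      ∃ u₂ ∈ chevE6.posUnipotent K ⊓ twistedE6 K q,
      h8nWU chevE6 hB (h8wE6 k.val) * v * n = u₁ * m * u₂ ∧
      (m = h8nWU chevE6 hB (h8wE6 k.val) * n ∨ ∃ h ∈ h8H0E6 hB f,
        m = h * h8nWU chevE6 hB (h8wE6 k.val) * h8nWU chevE6 hB (h8wE6 k.val) * n) := by
  have hσp : ∀ r, chevE6.IsPosRoot r →
      chevE6.IsPosRoot (h8sE6 r) ∧ h8posiE6 (h8sE6 r) = h8posiE6 r :=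
    fun r hr => ⟨(h8uE6_sig1 r hr.1 hr).1, (h8uE6_sig1 r hr.1 hr).2.1⟩
  have hUfix := h8twE6_U_fix hB hC hA hBN hO2 q f hf hff hneg
  have hfixG := h8twE6_fix hB hC hA q f hf hff
  have hnJ := h8twE6_nJ (K := K) hB hC q hneg
  obtain ⟨hw, hLp, h1, h2, hconn, _⟩ := h8r2E6 k.val k.2
  obtain ⟨hmemJ, _⟩ := h8uE6_wlt k.val k.2
  have hn1 : (h8nWU chevE6 hB (h8wE6 k.val) : GL chevE6.Idx K) ∈ twistedE6 K q := hnJ _ hmemJ
  obtain ⟨so1, so2⟩ := h8SO_E6 (K := K) hB hC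
  obtain ⟨w0, w1, w2, w3⟩ := h8wE6_vals
  obtain ⟨m0, m1, m2, m3⟩ := h8mapsE6
  have hso : ((h8wE6 k.val).map chevE6.simple).Pairwise (H8SO chevE6 hB K) := by
    obtain ⟨k, hk⟩ := k
    interval_cases k
    · show ((h8wE6 0).map chevE6.simple).Pairwise _
      rw [w0, m0]; exact List.pairwise_singleton _ _
    · show ((h8wE6 1).map chevE6.simple).Pairwise _
      rw [w1, m1]; exact List.pairwise_singleton _ _
    · show ((h8wE6 2).map chevE6.simple).Pairwise _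
      rw [w2, m2]
      exact List.pairwise_pair.mpr so1
    · show ((h8wE6 3).map chevE6.simple).Pairwise _
      rw [w3, m3]
      exact List.pairwise_pair.mpr so2
  obtain ⟨u₁, hu₁, m, u₂, hu₂, e, hm⟩ := h8tw_R2 chevE6 hB hA hC hBN hW hO hO2 h8posiE6
    h8uE6_blk h8uE6_read h8sE6 h8tE6 h8pE6 h8qE6 h8eE6 (h8autE6 hA) f hσp (twistedE6 K q)
    (h8gen_le_group chevE6 hB _) hfixG hUfix (h8wE6 k.val) hw hn1 (h8blkOfE6 k.val) hLp h1
    (fun s hs hb => h2 s hs.1 hs hb) hso hconn v hv n hn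
  refine ⟨u₁, hu₁, m, u₂, hu₂, e, ?_⟩
  rcases hm with hm | ⟨h, hh, hm⟩
  · exact Or.inl hm
  · refine Or.inr ⟨h, ?_, hm⟩
    obtain ⟨k, hk⟩ := k
    interval_cases k
    · have hh' : h ∈ h8HJ chevE6 hB h8sE6 h8tE6 h8pE6 h8qE6 h8eE6 (h8autE6 hA) f [46] := by
        have : (h8wE6 0).map chevE6.simple = [46] := by rw [w0, m0]
        rw [← this]; exact hh
      exact h8HJ_E6_single hB hA hW f 46 39 1 (Or.inl ⟨rfl, rfl, rfl⟩) h hh'
    · have hh' : h ∈ h8HJ chevE6 hB h8sE6 h8tE6 h8pE6 h8qE6 h8eE6 (h8autE6 hA) f [39] := by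
        have : (h8wE6 1).map chevE6.simple = [39] := by rw [w1, m1]
        rw [← this]; exact hh
      exact h8HJ_E6_single hB hA hW f 39 46 3 (Or.inr ⟨rfl, rfl, rfl⟩) h hh'
    · have hh' : h ∈ h8HJ chevE6 hB h8sE6 h8tE6 h8pE6 h8qE6 h8eE6 (h8autE6 hA) f [42, 37] := by
        have : (h8wE6 2).map chevE6.simple = [42, 37] := by rw [w2, m2]
        rw [← this]; exact hh
      exact h8HJ_E6_pair hB hA hW f 42 37 56 36 2 4 (Or.inl ⟨rfl, rfl, rfl, rfl, rfl, rfl⟩) h hh'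
    · have hh' : h ∈ h8HJ chevE6 hB h8sE6 h8tE6 h8pE6 h8qE6 h8eE6 (h8autE6 hA) f [56, 36] := by
        have : (h8wE6 3).map chevE6.simple = [56, 36] := by rw [w3, m3]
        rw [← this]; exact hh
      exact h8HJ_E6_pair hB hA hW f 56 36 42 37 0 5 (Or.inr ⟨rfl, rfl, rfl, rfl, rfl, rfl⟩) h hh'

end

end Cfsg.Agent.Lib.helper8
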