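import Mathlib
import Cfsg.Prelude.Def_ChevStructure
import Cfsg.Prelude.Def_LieTwisted
import Cfsg.Agent.Lib.helper8.ChevTwE6H9

set_option autoImplicit false

namespace Cfsg.Agent.Lib.helper8

open Cfsg.Lie Cfsg.Lie.ChevalleyDatum

universe u

variable {K : Type u} [Field K]

/-- the generators of `²E₆(q)` and their inverses lie in `U¹` or in a rank one cell -/
def H8PgenE6 (hB : H8Base.{u} chevE6) (q : ℕ) (f : K ≃+* K) (y : GL chevE6.Idx K) : Prop :=
  y ∈ chevE6.posUnipotent K ⊓ twistedE6 K q ∨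
    ∃ k : Fin 4, ∃ A ∈ chevE6.posUnipotent K ⊓ twistedE6 K q,
      ∃ A' ∈ chevE6.posUnipotent K ⊓ twistedE6 K q, ∃ h ∈ h8H0E6 hB f,
        y = A * h * h8nWU chevE6 hB (h8wE6 k.val) * A'

theorem h8negE6_vals : chevE6.negIdx.getD 46 0 = 25 ∧ chevE6.negIdx.getD 39 0 = 32 ∧
    chevE6.negIdx.getD 56 0 = 15 ∧ chevE6.negIdx.getD 36 0 = 35 ∧
    chevE6.negIdx.getD 42 0 = 29 ∧ chevE6.negIdx.getD 37 0 = 34 := by decide

set_option synthInstance.maxSize 1000 in
set_option synthInstance.maxHeartbeats 200000 in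
theorem h8posE6_vals : chevE6.IsPosRoot 46 ∧ chevE6.IsPosRoot 39 ∧ chevE6.IsPosRoot 56 ∧
    chevE6.IsPosRoot 36 ∧ chevE6.IsPosRoot 42 ∧ chevE6.IsPosRoot 37 := by decide +kernel

section
variable (hB : H8Base.{u} chevE6) (q : ℕ) (f : K ≃+* K) (hf : ∀ t, f t = t ^ q)

include hf in
theorem h8PgenE6_x1 (r : ℕ) (hr : r ∈ [46, 25, 39, 32]) (s : K) (hs : f s = s) :
    H8PgenE6 hB q f (h8xU chevE6 hB r s) := by
  obtain ⟨n46, n39, _⟩ := h8negE6_vals
  obtain ⟨p46, p39, _⟩ := h8posE6_vals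
  obtain ⟨_, t1, _, t3, _, _⟩ := h8simpleE6
  obtain ⟨w0, w1, _, _⟩ := h8wE6_vals
  have hx1 : ∀ r ∈ [46, 25, 39, 32], ∀ t : K, f t = t → h8xU chevE6 hB r t ∈ twistedE6 K q :=
    fun r hr t ht => h8twE6_x1 hB q r hr t (by rw [← hf, ht])
  have hcase : ∀ (p np i : ℕ) (k : Fin 4), chevE6.negIdx.getD p 0 = np → chevE6.IsPosRoot p →
      p ∈ [46, 25, 39, 32] → chevE6.simple i = p → (i = 1 ∨ i = 3) → h8wE6 k.val = [i] →
      H8PgenE6 hB q f (h8xU chevE6 hB np s) := by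
    intro p np i k hnp hpos hp hsim hi hw
    by_cases hs0 : s = 0
    · left
      rw [hs0, h8xU_zero]
      exact Subgroup.one_mem _
    · right
      have hfi : f s⁻¹ = s⁻¹ := by rw [map_inv₀, hs]
      have hA : h8xU chevE6 hB p s⁻¹ ∈ chevE6.posUnipotent K ⊓ twistedE6 K q :=
        ⟨h8xU_mem_U chevE6 hB p hpos _, hx1 p hp _ hfi⟩
      refine ⟨k, _, hA, _, hA, h8hU chevE6 hB p (-s⁻¹), ?_, ?_⟩
      · rw [← hsim]
        apply h8H0E6_single hB f i hi _ (neg_ne_zero.mpr (inv_ne_zero hs0))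
        rw [map_neg, hfi]
      · rw [← hnp, h8x_neg_eq chevE6 hB p s hs0, hw]
        unfold h8nWU
        simp only [List.map_cons, List.map_nil, List.prod_cons, List.prod_nil, mul_one, hsim]
  simp only [List.mem_cons, List.not_mem_nil, or_false] at hr
  rcases hr with rfl | rfl | rfl | rfl
  · left
    exact ⟨h8xU_mem_U chevE6 hB 46 p46 _, hx1 46 (by simp) s hs⟩
  · exact hcase 46 25 1 ⟨0, by norm_num⟩ n46 p46 (by simp) t1 (Or.inl rfl) w0
  · left
    exact ⟨h8xU_mem_U chevE6 hB 39 p39 _, hx1 39 (by simp) s hs⟩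
  · exact hcase 39 32 3 ⟨1, by norm_num⟩ n39 p39 (by simp) t3 (Or.inr rfl) w1

variable (hC : H8CommAll.{u} chevE6)

include hf hC in
theorem h8PgenE6_x2 (p : ℕ × ℕ) (hp : p ∈ [(56, 36), (15, 35), (42, 37), (29, 34)]) (s : K) :
    H8PgenE6 hB q f (h8xU chevE6 hB p.1 s * h8xU chevE6 hB p.2 (f s)) := by
  obtain ⟨_, _, n56, n36, n42, n37⟩ := h8negE6_vals
  obtain ⟨_, _, p56, p36, p42, p37⟩ := h8posE6_vals
  obtain ⟨t0, _, t2, _, t4, t5⟩ := h8simpleE6
  obtain ⟨_, _, w2, w3⟩ := h8wE6_vals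
  obtain ⟨so1, so2⟩ := h8SO_E6 (K := K) hB hC
  have hx2 : ∀ p ∈ [(56, 36), (15, 35), (42, 37), (29, 34)], ∀ t : K,
      h8xU chevE6 hB p.1 t * h8xU chevE6 hB p.2 (f t) ∈ twistedE6 K q := by
    intro p hp t
    rw [hf]
    exact h8twE6_x2 hB q p.1 p.2 hp t
  have hcase : ∀ (a b na nb i j : ℕ) (k : Fin 4), chevE6.negIdx.getD a 0 = na →
      chevE6.negIdx.getD b 0 = nb → chevE6.IsPosRoot a → chevE6.IsPosRoot b → a ≠ b →
      (a, b) ∈ [(56, 36), (15, 35), (42, 37), (29, 34)] → chevE6.simple i = a →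
      chevE6.simple j = b → ((i = 2 ∧ j = 4) ∨ (i = 0 ∧ j = 5)) → h8wE6 k.val = [i, j] →
      H8SO chevE6 hB K a b →
      H8PgenE6 hB q f (h8xU chevE6 hB na s * h8xU chevE6 hB nb (f s)) := by
    intro a b na nb i j k hna hnb hpa hpb hab hmem hsi hsj hij hw hso
    by_cases hs0 : s = 0
    · left
      rw [hs0, map_zero, h8xU_zero, h8xU_zero, mul_one]
      exact Subgroup.one_mem _
    · right
      have hfs0 : f s ≠ 0 := (map_ne_zero f).mpr hs0
      have hA : h8xU chevE6 hB a s⁻¹ * h8xU chevE6 hB b (f s)⁻¹ ∈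
          chevE6.posUnipotent K ⊓ twistedE6 K q := by
        refine ⟨Subgroup.mul_mem _ (h8xU_mem_U chevE6 hB a hpa _) (h8xU_mem_U chevE6 hB b hpb _), ?_⟩
        have := hx2 (a, b) hmem s⁻¹
        rwa [map_inv₀] at this
      refine ⟨k, _, hA, _, hA, h8hU chevE6 hB a (-s⁻¹) * h8hU chevE6 hB b (f (-s⁻¹)), ?_, ?_⟩
      · rw [← hsi, ← hsj]
        exact h8H0E6_pair hB f i j hij _ (neg_ne_zero.mpr (inv_ne_zero hs0))
      · have e := h8rank1_prod chevE6 hB (fun r => if r = a then s else f s) [a, b]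
          (List.pairwise_pair.mpr hso) (by
            intro r _
            show (if r = a then s else f s) ≠ 0
            split_ifs
            · exact hs0
            · exact hfs0)
        have hba : (b = a) = False := by
          simp only [eq_iff_iff, iff_false]
          exact fun h => hab h.symm
        simp only [List.map_cons, List.map_nil, List.prod_cons, List.prod_nil, mul_one, if_true,
          hba, if_false, hna, hnb] at e
        rw [e, hw, map_neg, map_inv₀]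
        unfold h8nWU
        simp only [List.map_cons, List.map_nil, List.prod_cons, List.prod_nil, mul_one, hsi, hsj]
  simp only [List.mem_cons, List.not_mem_nil, or_false] at hp
  rcases hp with rfl | rfl | rfl | rfl
  · left
    exact ⟨Subgroup.mul_mem _ (h8xU_mem_U chevE6 hB 56 p56 _) (h8xU_mem_U chevE6 hB 36 p36 _),
      hx2 (56, 36) (by simp) s⟩
  · exact hcase 56 36 15 35 0 5 ⟨3, by norm_num⟩ n56 n36 p56 p36 (by norm_num) (by simp) t0 t5
      (Or.inr ⟨rfl, rfl⟩) w3 so2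
  · left
    exact ⟨Subgroup.mul_mem _ (h8xU_mem_U chevE6 hB 42 p42 _) (h8xU_mem_U chevE6 hB 37 p37 _),
      hx2 (42, 37) (by simp) s⟩
  · exact hcase 42 37 29 34 2 4 ⟨2, by norm_num⟩ n42 n37 p42 p37 (by norm_num) (by simp) t2 t4
      (Or.inl ⟨rfl, rfl⟩) w2 so1

end

end Cfsg.Agent.Lib.helper8
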