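import Mathlib
import Cfsg.Prelude.Def_ChevStructure
import Cfsg.Prelude.Def_LieTwisted
import Cfsg.Agent.Lib.helper8.ChevTwE6H10

set_option autoImplicit false

namespace Cfsg.Agent.Lib.helper8

open Cfsg.Lie Cfsg.Lie.ChevalleyDatum

universe u

variable {K : Type u} [Field K]

theorem h8nWU_flat_prod (D : ChevalleyDatum) (hB : H8Base.{u} D) {ι : Type*} (w : ι → List ℕ)
    (ks : List ι) :
    ((ks.map fun k => (h8nWU D hB (w k) : GL D.Idx K)).prod) =
      h8nWU D hB ((ks.map w).flatten) := by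
  induction ks with
  | nil => rfl
  | cons k ks ih =>
    rw [List.map_cons, List.prod_cons, ih, List.map_cons, List.flatten_cons, h8nWU_append]

section
variable (hB : H8Base.{u} chevE6) (hA : H8ReflAll chevE6) (hC : H8CommAll.{u} chevE6)
  (hBN : H8BN chevE6) (hW : H8BN2 chevE6) (hO : H8Ord chevE6) (hO2 : H8Ord2 chevE6)
  (q : ℕ) (f : K ≃+* K) (hf : ∀ t, f t = t ^ q) (hff : ∀ t, f (f t) = t)
  (hneg : (-1 : K) ^ q = -1)

include hC hf in
/-- `H₀` lies in `²E₆(q)` -/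
theorem h8H0E6_le_tw (a : GL chevE6.Idx K) (ha : a ∈ h8H0E6 hB f) : a ∈ twistedE6 K q := by
  obtain ⟨n46, n39, n56, n36, n42, n37⟩ := h8negE6_vals
  obtain ⟨so1, so2⟩ := h8SO_E6 (K := K) hB hC
  have hx1 : ∀ r ∈ [46, 25, 39, 32], ∀ t : K, f t = t → h8xU chevE6 hB r t ∈ twistedE6 K q :=
    fun r hr t ht => h8twE6_x1 hB q r hr t (by rw [← hf, ht])
  have hx2 : ∀ p ∈ [(56, 36), (15, 35), (42, 37), (29, 34)], ∀ t : K,
      h8xU chevE6 hB p.1 t * h8xU chevE6 hB p.2 (f t) ∈ twistedE6 K q := by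
    intro p hp t
    rw [hf]
    exact h8twE6_x2 hB q p.1 p.2 hp t
  apply h8H0E6_le_G hB f (twistedE6 K q) _ _ _ _ a ha
  · apply h8tw_h1_mem chevE6 hB (twistedE6 K q) f 46 (hx1 46 (by simp))
    rw [n46]
    exact hx1 25 (by simp)
  · apply h8tw_h1_mem chevE6 hB (twistedE6 K q) f 39 (hx1 39 (by simp))
    rw [n39]
    exact hx1 32 (by simp)
  · apply h8tw_hJ2_mem chevE6 hB (twistedE6 K q) f 56 36 so2 (hx2 (56, 36) (by simp))
    rw [n56, n36]
    exact hx2 (15, 35) (by simp)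
  · apply h8tw_hJ2_mem chevE6 hB (twistedE6 K q) f 42 37 so1 (hx2 (42, 37) (by simp))
    rw [n42, n37]
    exact hx2 (29, 34) (by simp)

include hA hC hBN hW hO hO2 hf hff hneg in
/-- `H ∩ ²E₆(q) ⊆ H₀` -/
theorem h8twE6_H_sub (g : GL chevE6.Idx K)
    (hg : g ∈ chevE6.diagonalSubgroup K ⊓ twistedE6 K q) : g ∈ h8H0E6 hB f := by
  have hfixG := h8twE6_fix hB hC hA q f hf hff
  have hnJ := h8twE6_nJ (K := K) hB hC q hneg
  have hH0G := h8H0E6_le_tw hB hC q f hf
  obtain ⟨w0, w1, w2, w3⟩ := h8wE6_vals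
  have hwlt : ∀ k : Fin 4, ∀ i ∈ h8wE6 k.val, i < chevE6.rank := fun k => (h8r2E6 k.val k.2).1
  have hnk : ∀ k : Fin 4, (h8nWU chevE6 hB (h8wE6 k.val) : GL chevE6.Idx K) ∈ twistedE6 K q :=
    fun k => hnJ _ (h8uE6_wlt k.val k.2).1
  -- words in the `n_J` lying in `H` lie in `H₀`
  have hsignw : ∀ w : List ℕ, (∀ i ∈ w, i < chevE6.rank) →
      (h8nWU chevE6 hB w : GL chevE6.Idx K) ∈ twistedE6 K q →
      (h8nWU chevE6 hB w : GL chevE6.Idx K) ∈ chevE6.diagonalSubgroup K →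
      (h8nWU chevE6 hB w : GL chevE6.Idx K) ∈ h8H0E6 hB f := by
    intro w hw hwG hwH
    exact h8H0E6_sign hB hA hW f _ hwH (hfixG _ hwG)
      (fun s hs => h8sign_chi chevE6 hB hA hBN hW hO2 w hw hwH s hs)
  have hcl := h8closure_abs (chevE6.posUnipotent K ⊓ twistedE6 K q)
    (chevE6.monomialSubgroup K ⊓ twistedE6 K q) (h8H0E6 hB f)
    (fun k : Fin 4 => (h8nWU chevE6 hB (h8wE6 k.val) : GL chevE6.Idx K))
    (h8H0E6_one hB f) (h8H0E6_mul hB f)
    (by
      intro h hh x hx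
      have hhH := h8H0E6_le_H hB f h hh
      have hhG := hH0G h hh
      refine ⟨?_, Subgroup.mul_mem _ (Subgroup.mul_mem _ hhG hx.2) (Subgroup.inv_mem _ hhG)⟩
      exact (Subgroup.mem_normalizer_iff.mp (h8_H_le_normalizer_U (F := K) chevE6 hB hhH) x).mp
        hx.1)
    (fun h hh => ⟨h8H_le_N chevE6 (h8H0E6_le_H hB f h hh), hH0G h hh⟩)
    (fun k => ⟨h8nWU_mem_N chevE6 hB hA _ (hwlt k), hnk k⟩)
    (by
      intro k h hh
      obtain ⟨k, hk⟩ := k
      interval_cases k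
      · show h8nWU chevE6 hB (h8wE6 0) * h * (h8nWU chevE6 hB (h8wE6 0))⁻¹ ∈ _
        rw [w0]
        exact h8H0E6_conj1 hB hA f hff 1 (Or.inl rfl) h hh
      · show h8nWU chevE6 hB (h8wE6 1) * h * (h8nWU chevE6 hB (h8wE6 1))⁻¹ ∈ _
        rw [w1]
        exact h8H0E6_conj1 hB hA f hff 3 (Or.inr rfl) h hh
      · show h8nWU chevE6 hB (h8wE6 2) * h * (h8nWU chevE6 hB (h8wE6 2))⁻¹ ∈ _
        rw [w2]
        exact h8H0E6_conj2 hB hA f hff 2 4 (Or.inl ⟨rfl, rfl⟩) h hh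
      · show h8nWU chevE6 hB (h8wE6 3) * h * (h8nWU chevE6 hB (h8wE6 3))⁻¹ ∈ _
        rw [w3]
        exact h8H0E6_conj2 hB hA f hff 0 5 (Or.inr ⟨rfl, rfl⟩) h hh)
    (by
      intro k
      show (h8nWU chevE6 hB (h8wE6 k.val) : GL chevE6.Idx K) * h8nWU chevE6 hB (h8wE6 k.val) ∈ _
      rw [← h8nWU_append]
      have hww : ∀ i ∈ h8wE6 k.val ++ h8wE6 k.val, i < chevE6.rank := by
        intro i hi
        rcases List.mem_append.mp hi with h | h <;> exact hwlt k i h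
      apply hsignw _ hww
      · rw [h8nWU_append]
        exact Subgroup.mul_mem _ (hnk k) (hnk k)
      · have h1 := h8nWU_same_H (K := K) chevE6 hB hA hBN hW hO2 (h8wE6 k.val ++ h8wE6 k.val) []
          hww (by simp) (h8r2E6 k.val k.2).2.2.2.2.2
        have h2 : (h8nWU chevE6 hB ([] : List ℕ) : GL chevE6.Idx K) = 1 := rfl
        rw [h2, mul_one] at h1
        have := Subgroup.inv_mem _ h1
        rwa [inv_inv] at this)
    (fun k v hv n hn => h8twE6_hR hB hA hC hBN hW hO hO2 q f hf hff hneg k v hv n hn)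
    {g | ∃ w ∈ e6Words K q, (g : Matrix chevE6.Idx chevE6.Idx K) = chevE6.wordMat K w}
    (by
      intro x hx y hy
      obtain ⟨w, hw, hxw⟩ := hx
      have hxe : x = h8wordU chevE6 hB w := Units.ext (hxw.trans (h8wordU_val chevE6 hB w).symm)
      have key : H8PgenE6 hB q f y := by
        rcases hw with ⟨t, ht, r, hr, rfl⟩ | ⟨t, rs, hrs, rfl⟩
        · have hr' : r ∈ [46, 25, 39, 32] := by
            simp only [e6p2, e6m2, e6p4, e6m4] at hr
            exact hr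
          rw [h8wordU_one] at hxe
          have hft : f t = t := by rw [hf, ht]
          rcases hy with rfl | rfl
          · rw [hxe]
            exact h8PgenE6_x1 hB q f hf r hr' t hft
          · rw [hxe, h8xU_inv]
            exact h8PgenE6_x1 hB q f hf r hr' (-t) (by rw [map_neg, hft])
        · have hrs' : (rs.1, rs.2) ∈ [(56, 36), (15, 35), (42, 37), (29, 34)] := by
            simp only [e6p1, e6p6, e6m1, e6m6, e6p3, e6p5, e6m3, e6m5] at hrs
            exact hrs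
          rw [h8wordU_two, ← hf] at hxe
          rcases hy with rfl | rfl
          · rw [hxe]
            exact h8PgenE6_x2 hB q f hf hC (rs.1, rs.2) hrs' t
          · have hcomm : Commute (h8xU chevE6 hB rs.1 (-t)) (h8xU chevE6 hB rs.2 (-(f t))) := by
              obtain ⟨_, _, h3, _, _⟩ := h8pE6_tor (rs.1, rs.2) hrs'
              obtain ⟨k1, k2, k3, k4, k5⟩ := h3 rs.1 (by simp) rs.2 (by simp)
              exact h8xU_commute chevE6 hB hC rs.1 rs.2 k2 k3 k4 k5 k1 _ _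
            rw [hxe, mul_inv_rev, h8xU_inv, h8xU_inv, ← hcomm.eq, ← map_neg]
            exact h8PgenE6_x2 hB q f hf hC (rs.1, rs.2) hrs' (-t)
      exact key)
    g hg.2
  obtain ⟨x, hx, h, hh, ks, x', hx', e⟩ := hcl
  rw [h8nWU_flat_prod chevE6 hB (fun k : Fin 4 => h8wE6 k.val) ks] at e
  set wf : List ℕ := (ks.map fun k : Fin 4 => h8wE6 k.val).flatten with hwf
  have hwflt : ∀ i ∈ wf, i < chevE6.rank := by
    intro i hi
    rw [hwf, List.mem_flatten] at hi
    obtain ⟨l, hl, hil⟩ := hi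
    rw [List.mem_map] at hl
    obtain ⟨k, _, rfl⟩ := hl
    exact hwlt k i hil
  have hwfG : (h8nWU chevE6 hB wf : GL chevE6.Idx K) ∈ twistedE6 K q := by
    rw [hwf, ← h8nWU_flat_prod chevE6 hB (fun k : Fin 4 => h8wE6 k.val) ks]
    apply Subgroup.list_prod_mem
    intro y hy
    rw [List.mem_map] at hy
    obtain ⟨k, _, rfl⟩ := hy
    exact hnk k
  have hhH := h8H0E6_le_H hB f h hh
  have e' : g = x * (h * h8nWU chevE6 hB wf) * x' := by rw [e]; group
  have hgn := h8cell_H chevE6 hB hA hC hBN g x (h * h8nWU chevE6 hB wf) x' hg.1 hx.1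
    (Subgroup.mul_mem _ (h8H_le_N chevE6 hhH) (h8nWU_mem_N chevE6 hB hA wf hwflt)) hx'.1 e'
  have hwfH : (h8nWU chevE6 hB wf : GL chevE6.Idx K) ∈ chevE6.diagonalSubgroup K := by
    have : (h8nWU chevE6 hB wf : GL chevE6.Idx K) = h⁻¹ * g := by rw [hgn]; group
    rw [this]
    exact Subgroup.mul_mem _ (Subgroup.inv_mem _ hhH) hg.1
  rw [hgn]
  exact h8H0E6_mul hB f h hh _ (hsignw wf hwflt hwfG hwfH)

end

end Cfsg.Agent.Lib.helper8
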