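import Mathlib
import Cfsg.Prelude.Def_ChevStructure
import Cfsg.Prelude.Def_LieTwisted
import Cfsg.Agent.Lib.helper8.ChevTwE6H11

set_option autoImplicit false

namespace Cfsg.Agent.Lib.helper8

open Cfsg.Lie Cfsg.Lie.ChevalleyDatum

universe u

variable {K : Type u} [Field K]

/-- the units fixed by a field automorphism -/
def h8fixU (f : K ≃+* K) : Subgroup Kˣ where
  carrier := {x | f (x : K) = x}
  mul_mem' := by
    intro a b ha hb
    show f ((a * b : Kˣ) : K) = ((a * b : Kˣ) : K)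
    rw [Units.val_mul, map_mul, ha, hb]
  one_mem' := by
    show f ((1 : Kˣ) : K) = ((1 : Kˣ) : K)
    rw [Units.val_one, map_one]
  inv_mem' := by
    intro a ha
    show f ((a⁻¹ : Kˣ) : K) = ((a⁻¹ : Kˣ) : K)
    rw [Units.val_inv_eq_inv_val, map_inv₀, ha]

/-- the torus coordinates of a parameter of the torus of `²E₆(q)` -/
def h8cvE6 (f : K ≃+* K) (x : Kˣ × Kˣ × ↥(h8fixU f) × ↥(h8fixU f)) (k : ℕ) : K :=
  if k = 0 then (x.1 : K) else if k = 1 then ((x.2.2.1 : Kˣ) : K)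
  else if k = 2 then (x.2.1 : K) else if k = 3 then ((x.2.2.2 : Kˣ) : K)
  else if k = 4 then f (x.2.1 : K) else if k = 5 then f (x.1 : K) else 1

theorem h8cvE6_comp (f : K ≃+* K) (x : Kˣ × Kˣ × ↥(h8fixU f) × ↥(h8fixU f)) :
    H8CompE6 f (h8cvE6 f x) := by
  refine ⟨?_, rfl, rfl, x.2.2.1.2, x.2.2.2.2⟩
  intro i
  unfold h8cvE6
  split_ifs
  · exact Units.ne_zero _
  · exact Units.ne_zero _
  · exact Units.ne_zero _
  · exact Units.ne_zero _
  · exact (map_ne_zero f).mpr (Units.ne_zero _)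
  · exact (map_ne_zero f).mpr (Units.ne_zero _)
  · exact one_ne_zero

theorem h8cvE6_mul (f : K ≃+* K) (x y : Kˣ × Kˣ × ↥(h8fixU f) × ↥(h8fixU f)) (i : ℕ) :
    h8cvE6 f (x * y) i = h8cvE6 f x i * h8cvE6 f y i := by
  unfold h8cvE6
  split_ifs <;> simp [map_mul]

/-- the parametrization of the torus of `²E₆(q)` -/
def h8psiE6 (hB : H8Base.{u} chevE6) (f : K ≃+* K) :
    (Kˣ × Kˣ × ↥(h8fixU f) × ↥(h8fixU f)) →* GL chevE6.Idx K :=
  MonoidHom.mk' (fun x => h8Tor chevE6 hB (h8cvE6 f x)) (by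
    intro x y
    rw [h8Tor_mul chevE6 hB h8scE6 _ _ (fun i _ => (h8cvE6_comp f x).1 i)
      (fun i _ => (h8cvE6_comp f y).1 i)]
    apply h8Tor_congr
    intro i _
    exact h8cvE6_mul f x y i)

theorem h8psiE6_apply (hB : H8Base.{u} chevE6) (f : K ≃+* K)
    (x : Kˣ × Kˣ × ↥(h8fixU f) × ↥(h8fixU f)) :
    h8psiE6 hB f x = h8Tor chevE6 hB (h8cvE6 f x) := rfl

/-- the range of the parametrization is `H₀` -/
theorem h8psiE6_range (hB : H8Base.{u} chevE6) (f : K ≃+* K) (hff : ∀ t, f (f t) = t) :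
    ((h8psiE6 hB f).range : Set (GL chevE6.Idx K)) = h8H0E6 hB f := by
  ext g
  constructor
  · rintro ⟨x, rfl⟩
    exact ⟨_, h8cvE6_comp f x, rfl⟩
  · rintro ⟨c, ⟨hc0, hc1, hc2, hc3, hc4⟩, rfl⟩
    refine ⟨(Units.mk0 (c 0) (hc0 0), Units.mk0 (c 2) (hc0 2),
      ⟨Units.mk0 (c 1) (hc0 1), hc3⟩, ⟨Units.mk0 (c 3) (hc0 3), hc4⟩), ?_⟩
    rw [h8psiE6_apply]
    apply h8Tor_congr
    intro i hi
    have hi' : i < 6 := hi
    unfold h8cvE6
    interval_cases i <;> simp [hc1, hc2]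

end Cfsg.Agent.Lib.helper8
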