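import Mathlib
import Cfsg.Prelude.Def_ChevStructure
import Cfsg.Prelude.Def_LieTwisted
import Cfsg.Agent.Lib.helper8.ChevTwE6H12

set_option autoImplicit false

namespace Cfsg.Agent.Lib.helper8

open Cfsg.Lie Cfsg.Lie.ChevalleyDatum

universe u

variable {K : Type u} [Field K]

/-- the field computation behind the kernel of the parametrization -/
theorem h8kerE6_aux (a b c d F Fb : K) (ha : a ≠ 0) (hb : b ≠ 0) (hc : c ≠ 0) (hd : d ≠ 0)
    (hF : F ≠ 0) (hFb : Fb ≠ 0)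
    (e0 : a ^ 2 * b⁻¹ = 1) (e1 : c ^ 2 * d⁻¹ = 1) (e2 : a⁻¹ * b ^ 2 * d⁻¹ = 1)
    (e3 : c⁻¹ * b⁻¹ * d ^ 2 * Fb⁻¹ = 1) (e4 : d⁻¹ * Fb ^ 2 * F⁻¹ = 1)
    (e5 : Fb⁻¹ * F ^ 2 = 1) :
    a ^ 3 = 1 ∧ F = a ^ 2 ∧ b = a ^ 2 ∧ c = 1 ∧ d = 1 := by
  have hb2 : b = a ^ 2 := by
    have := (mul_inv_eq_one₀ hb).mp e0
    exact this.symm
  have hd2 : d = c ^ 2 := by
    have := (mul_inv_eq_one₀ hd).mp e1
    exact this.symm
  have hFb' : Fb = F ^ 2 := by
    have : F ^ 2 * Fb⁻¹ = 1 := by rw [mul_comm]; exact e5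
    exact ((mul_inv_eq_one₀ hFb).mp this).symm
  subst hb2 hFb'
  have h2 : a ^ 3 = d := by
    field_simp at e2
    exact e2
  have h4 : F ^ 3 = d := by
    field_simp at e4
    exact e4
  have h3 : d ^ 2 = c * a ^ 2 * F ^ 2 := by
    field_simp at e3
    linear_combination e3
  -- `a ^ 5 = F ^ 4`
  have h5 : a ^ 2 = F := by
    have hsq : d ^ 4 = d * a ^ 4 * F ^ 4 := by
      have : d ^ 4 = (d ^ 2) ^ 2 := by ring
      rw [this, h3, hd2]
      ring
    have h6 : d ^ 3 = a ^ 4 * F ^ 4 := by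
      have : d * (d ^ 3 - a ^ 4 * F ^ 4) = 0 := by linear_combination hsq
      rcases mul_eq_zero.mp this with h | h
      · exact absurd h hd
      · exact sub_eq_zero.mp h
    rw [← h2] at h6
    have h7 : a ^ 4 * (a ^ 5 - F ^ 4) = 0 := by linear_combination h6
    have h8 : a ^ 5 = F ^ 4 := by
      rcases mul_eq_zero.mp h7 with h | h
      · exact absurd h (pow_ne_zero 4 ha)
      · exact sub_eq_zero.mp h
    have h9 : a ^ 3 * (a ^ 2 - F) = 0 := by
      have : F ^ 4 = F * a ^ 3 := by rw [h2, ← h4]; ring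
      linear_combination h8 + this
    rcases mul_eq_zero.mp h9 with h | h
    · exact absurd h (pow_ne_zero 3 ha)
    · exact sub_eq_zero.mp h
  have ha3 : a ^ 3 = 1 := by
    have : a ^ 3 * (a ^ 3 - 1) = 0 := by
      have : F ^ 3 = a ^ 3 := by rw [h4, h2]
      rw [← h5] at this
      linear_combination this
    rcases mul_eq_zero.mp this with h | h
    · exact absurd h (pow_ne_zero 3 ha)
    · exact sub_eq_zero.mp h
  have hd1 : d = 1 := by rw [← h2, ha3]
  have hc1 : c = 1 := by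
    rw [hd1, ← h5] at h3
    have : c * (a ^ 3) ^ 2 = 1 := by linear_combination -h3
    rw [ha3] at this
    simpa using this
  exact ⟨ha3, h5.symm, rfl, hc1, hd1⟩

end Cfsg.Agent.Lib.helper8
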