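import Mathlib
import Cfsg.Prelude.Def_ChevStructure
import Cfsg.Prelude.Def_LieTwisted
import Cfsg.Agent.Lib.helper8.ChevTwE6H13

set_option autoImplicit false

namespace Cfsg.Agent.Lib.helper8

open Cfsg.Lie Cfsg.Lie.ChevalleyDatum

universe u

variable {K : Type u} [Field K]

theorem h8cvE6_vals (f : K ≃+* K) (x : Kˣ × Kˣ × ↥(h8fixU f) × ↥(h8fixU f)) :
    h8cvE6 f x 0 = (x.1 : K) ∧ h8cvE6 f x 1 = ((x.2.2.1 : Kˣ) : K) ∧
    h8cvE6 f x 2 = (x.2.1 : K) ∧ h8cvE6 f x 3 = ((x.2.2.2 : Kˣ) : K) ∧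
    h8cvE6 f x 4 = f (x.2.1 : K) ∧ h8cvE6 f x 5 = f (x.1 : K) := by
  unfold h8cvE6
  simp

section
variable (hB : H8Base.{u} chevE6) (hA : H8ReflAll chevE6) (hW : H8BN2 chevE6) (f : K ≃+* K)

include hA hW in
/-- the kernel of the parametrization of the torus -/
theorem h8psiE6_ker_iff (x : Kˣ × Kˣ × ↥(h8fixU f) × ↥(h8fixU f)) :
    h8psiE6 hB f x = 1 ↔ (x.1 : K) ^ 3 = 1 ∧ f (x.1 : K) = (x.1 : K) ^ 2 ∧
      (x.2.1 : K) = (x.1 : K) ^ 2 ∧ ((x.2.2.1 : Kˣ) : K) = 1 ∧ ((x.2.2.2 : Kˣ) : K) = 1 := by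
  obtain ⟨v0, v1, v2, v3, v4, v5⟩ := h8cvE6_vals f x
  obtain ⟨x0, x1, x2, x3, x4, x5⟩ := h8E6_chars hB hA hW (h8cvE6 f x) (h8cvE6_comp f x).1
  rw [v0, v2] at x0
  rw [v1, v3] at x1
  rw [v0, v2, v3] at x2
  rw [v1, v2, v3, v4] at x3
  rw [v3, v4, v5] at x4
  rw [v4, v5] at x5
  have ha : (x.1 : K) ≠ 0 := Units.ne_zero _
  have hb : (x.2.1 : K) ≠ 0 := Units.ne_zero _
  have hc : ((x.2.2.1 : Kˣ) : K) ≠ 0 := Units.ne_zero _
  have hd : ((x.2.2.2 : Kˣ) : K) ≠ 0 := Units.ne_zero _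
  have hF : f (x.1 : K) ≠ 0 := (map_ne_zero f).mpr ha
  have hFb : f (x.2.1 : K) ≠ 0 := (map_ne_zero f).mpr hb
  rw [h8psiE6_apply]
  constructor
  · intro h1
    have hone : ∀ r < chevE6.nroots, h8chi chevE6 hB (h8Tor chevE6 hB (h8cvE6 f x)) r = 1 := by
      intro r hr
      rw [h1]
      exact h8chi_one chevE6 hB hA hW r hr
    rw [hone 56 (by decide)] at x0
    rw [hone 46 (by decide)] at x1
    rw [hone 42 (by decide)] at x2
    rw [hone 39 (by decide)] at x3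
    rw [hone 37 (by decide)] at x4
    rw [hone 36 (by decide)] at x5
    exact h8kerE6_aux _ _ _ _ _ _ ha hb hc hd hF hFb x0.symm x1.symm x2.symm x3.symm x4.symm
      x5.symm
  · rintro ⟨h3, hf2, hb2, hc1, hd1⟩
    apply h8E6_ext hB hA hW _ (h8Tor_mem_H chevE6 hB h8scE6 _ (fun i _ => (h8cvE6_comp f x).1 i))
    have hfb : f (x.2.1 : K) = (x.1 : K) ^ 4 := by rw [hb2, map_pow, hf2]; ring
    rw [hfb] at x3 x4 x5
    rw [hb2] at x0 x2 x3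
    rw [hc1, hd1] at x1 x3
    rw [hd1] at x2 x4
    rw [hf2] at x4 x5
    have h6 : (x.1 : K) ^ 6 = 1 := by
      have : (x.1 : K) ^ 6 = ((x.1 : K) ^ 3) ^ 2 := by ring
      rw [this, h3, one_pow]
    intro r hr
    simp only [List.mem_cons, List.not_mem_nil, or_false] at hr
    rcases hr with rfl | rfl | rfl | rfl | rfl | rfl
    · rw [x0]
      exact mul_inv_cancel₀ (pow_ne_zero 2 ha)
    · rw [x1]
      simp
    · rw [x2]
      have : ((x.1 : K))⁻¹ * ((x.1 : K) ^ 2) ^ 2 * 1⁻¹ = (x.1 : K) ^ 3 := by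
        field_simp
      rw [this, h3]
    · rw [x3]
      have : (1 : K)⁻¹ * ((x.1 : K) ^ 2)⁻¹ * 1 ^ 2 * ((x.1 : K) ^ 4)⁻¹ = ((x.1 : K) ^ 6)⁻¹ := by
        field_simp
      rw [this, h6, inv_one]
    · rw [x4]
      have : (1 : K)⁻¹ * ((x.1 : K) ^ 4) ^ 2 * ((x.1 : K) ^ 2)⁻¹ = (x.1 : K) ^ 6 := by
        field_simp
      rw [this, h6]
    · rw [x5]
      have : ((x.1 : K) ^ 4)⁻¹ * ((x.1 : K) ^ 2) ^ 2 = 1 := by
        field_simp
      exact this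

end

end Cfsg.Agent.Lib.helper8
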