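import Mathlib
import Cfsg.Prelude.Def_ChevStructure
import Cfsg.Prelude.Def_LieTwisted
import Cfsg.Agent.Lib.helper8.ChevTwE6H14
import Cfsg.Agent.Lib.helper8.ChevTwU6

set_option autoImplicit false

namespace Cfsg.Agent.Lib.helper8

open Cfsg.Lie Cfsg.Lie.ChevalleyDatum

universe u

variable {K : Type u} [Field K]

theorem h8cube_iff (q : ℕ) (f : K ≃+* K) (hf : ∀ t, f t = t ^ q) (a : Kˣ) :
    a ^ Nat.gcd 3 (q + 1) = 1 ↔ (a : K) ^ 3 = 1 ∧ f (a : K) = (a : K) ^ 2 := by
  rw [pow_gcd_eq_one]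
  have ha : (a : K) ≠ 0 := Units.ne_zero _
  constructor
  · rintro ⟨h3, hq1⟩
    have h3' : (a : K) ^ 3 = 1 := by
      rw [← Units.val_pow_eq_pow_val, h3, Units.val_one]
    have hq1' : (a : K) ^ (q + 1) = 1 := by
      rw [← Units.val_pow_eq_pow_val, hq1, Units.val_one]
    refine ⟨h3', ?_⟩
    rw [hf]
    have : (a : K) ^ q * a = (a : K) ^ 2 * a := by
      rw [← pow_succ, ← pow_succ, hq1', h3']
    exact mul_right_cancel₀ ha this
  · rintro ⟨h3, hfa⟩
    rw [hf] at hfa
    constructor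
    · apply Units.ext
      rw [Units.val_pow_eq_pow_val, h3, Units.val_one]
    · apply Units.ext
      rw [Units.val_pow_eq_pow_val, pow_succ, hfa, ← pow_succ, h3, Units.val_one]

section
variable (hB : H8Base.{u} chevE6) (hA : H8ReflAll chevE6) (hW : H8BN2 chevE6) (q : ℕ)
  (f : K ≃+* K) (hf : ∀ t, f t = t ^ q)

include hA hW hf in
/-- the kernel of the parametrization of the torus has `gcd(3, q + 1)` elements -/
theorem h8psiE6_ker_card [Finite K] :
    Nat.card (h8psiE6 hB f).ker = (Nat.card Kˣ).gcd (Nat.gcd 3 (q + 1)) := by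
  rw [← IsCyclic.card_powMonoidHom_ker Kˣ (Nat.gcd 3 (q + 1))]
  apply Nat.card_congr
  refine
    { toFun := fun x => ⟨x.1.1, ?_⟩
      invFun := fun a => ⟨(a.1, a.1 ^ 2, 1, 1), ?_⟩
      left_inv := ?_
      right_inv := ?_ }
  · rw [MonoidHom.mem_ker, powMonoidHom_apply, h8cube_iff q f hf]
    have := (h8psiE6_ker_iff hB hA hW f x.1).mp (MonoidHom.mem_ker.mp x.2)
    exact ⟨this.1, this.2.1⟩
  · have ha := (h8cube_iff q f hf a.1).mp (by
      have := a.2
      rwa [MonoidHom.mem_ker, powMonoidHom_apply] at this)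
    rw [MonoidHom.mem_ker, h8psiE6_ker_iff hB hA hW f]
    refine ⟨ha.1, ha.2, ?_, ?_, ?_⟩
    · show ((a.1 ^ 2 : Kˣ) : K) = _
      rw [Units.val_pow_eq_pow_val]
    · rfl
    · rfl
  · intro x
    have := (h8psiE6_ker_iff hB hA hW f x.1).mp (MonoidHom.mem_ker.mp x.2)
    obtain ⟨_, _, h2, h3, h4⟩ := this
    apply Subtype.ext
    apply Prod.ext
    · rfl
    · apply Prod.ext
      · apply Units.ext
        show ((x.1.1 ^ 2 : Kˣ) : K) = _
        rw [Units.val_pow_eq_pow_val, h2]
      · apply Prod.ext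
        · apply Subtype.ext
          apply Units.ext
          exact h3.symm
        · apply Subtype.ext
          apply Units.ext
          exact h4.symm
  · intro a
    rfl

end

end Cfsg.Agent.Lib.helper8
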