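import Mathlib
import Cfsg.Prelude.Def_ChevStructure
import Cfsg.Prelude.Def_LieTwisted
import Cfsg.Agent.Lib.helper8.ChevTwE6H15
import Cfsg.Agent.Lib.helper8.ChevBaseAll
import Cfsg.Agent.Lib.helper8.ChevOrdAll
import Cfsg.Agent.Lib.helper8.ChevBNAll2

set_option autoImplicit false

namespace Cfsg.Agent.Lib.helper8

open Cfsg.Lie Cfsg.Lie.ChevalleyDatum

universe u

variable {K : Type u} [Field K]

/-- the fixed units of the Frobenius of a finite field -/
theorem h8fixU_card [Finite K] (f : K ≃+* K) (q : ℕ) (hfc : Nat.card {c : K // f c = c} = q) :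
    Nat.card ↥(h8fixU f) = q - 1 := by
  rw [← h8card_fix_ne_zero f q hfc]
  apply Nat.card_congr
  exact
    { toFun := fun x => ⟨(x.1 : K), Units.ne_zero _, x.2⟩
      invFun := fun y => ⟨Units.mk0 y.1 y.2.1, y.2.2⟩
      left_inv := by
        intro x
        apply Subtype.ext
        apply Units.ext
        rfl
      right_inv := by
        intro y
        rfl }

/-- `gcd(3, q + 1) |H ∩ ²E₆(q)| = (q - 1)⁴ (q + 1)²` -/
theorem h8twE6_H_card [Fintype K] {q : ℕ} (hq : IsPrimePow q) (hKc : Fintype.card K = q ^ 2) :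
    Nat.gcd 3 (q + 1) * Nat.card ↥(chevE6.diagonalSubgroup K ⊓ twistedE6 K q) =
      (q - 1) ^ 4 * (q + 1) ^ 2 := by
  classical
  have hD : chevE6 ∈ [chevG2, chevB2, chevD4, chevF4, chevE6, chevE7, chevE8] := by simp
  have hB := h8base_all.{u} chevE6 hD
  have hA := h8reflAll chevE6 hD
  have hC := h8commAll.{u} chevE6 hD
  have hBN := h8bn_all chevE6 hD
  have hW := h8bn2_all chevE6 hD
  obtain ⟨hO, hO2⟩ := h8ord_all chevE6 hD
  obtain ⟨f, hf, hff2, hneg⟩ := h8frob_exists hq 2 (by norm_num) hKc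
  have hff : ∀ t, f (f t) = t := fun t => hff2 t
  have hq1 : 1 < q := hq.one_lt
  have hfc : Nat.card {c : K // f c = c} = q :=
    h8frob_fix_card hq1 (by norm_num) hKc f hf hff2
  -- the intersection is the range of the parametrization
  have hrange : chevE6.diagonalSubgroup K ⊓ twistedE6 K q = (h8psiE6 hB f).range := by
    apply SetLike.coe_injective
    rw [h8psiE6_range hB f hff]
    ext g
    constructor
    · intro hg
      exact h8twE6_H_sub hB hA hC hBN hW hO hO2 q f hf hff hneg g hg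
    · intro hg
      exact ⟨h8H0E6_le_H hB f g hg, h8H0E6_le_tw hB hC q f hf g hg⟩
  rw [hrange]
  have hKu : Nat.card Kˣ = q ^ 2 - 1 := by
    rw [Nat.card_units, Nat.card_eq_fintype_card, hKc]
  have hker := h8psiE6_ker_card hB hA hW q f hf
  have hgcd : (Nat.card Kˣ).gcd (Nat.gcd 3 (q + 1)) = Nat.gcd 3 (q + 1) := by
    apply Nat.gcd_eq_right
    rw [hKu]
    have h1 : Nat.gcd 3 (q + 1) ∣ q + 1 := Nat.gcd_dvd_right _ _
    have h2 : q ^ 2 - 1 = (q + 1) * (q - 1) := by
      obtain ⟨m, rfl⟩ : ∃ m, q = m + 1 := ⟨q - 1, by omega⟩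
      rw [Nat.add_sub_cancel]
      apply Nat.sub_eq_of_eq_add
      ring
    rw [h2]
    exact Dvd.dvd.mul_right h1 _
  rw [hgcd] at hker
  have hT : Nat.card (Kˣ × Kˣ × ↥(h8fixU f) × ↥(h8fixU f)) =
      (q ^ 2 - 1) * ((q ^ 2 - 1) * ((q - 1) * (q - 1))) := by
    rw [Nat.card_prod, Nat.card_prod, Nat.card_prod, hKu, h8fixU_card f q hfc]
  have hlag := Subgroup.card_mul_index (h8psiE6 hB f).ker
  rw [Subgroup.index_ker, hker, hT] at hlag
  rw [hlag]
  obtain ⟨m, rfl⟩ : ∃ m, q = m + 1 := ⟨q - 1, by omega⟩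
  have e2 : (m + 1) ^ 2 - 1 = m * (m + 1 + 1) := by
    apply Nat.sub_eq_of_eq_add
    ring
  rw [e2, Nat.add_sub_cancel]
  ring

end Cfsg.Agent.Lib.helper8
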