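import Mathlib
import Cfsg.Prelude.Def_ChevStructure
import Cfsg.Prelude.Def_LieTwisted
import Cfsg.Agent.Lib.helper8.ChevTwE6c

set_option autoImplicit false

namespace Cfsg.Agent.Lib.helper8

open Cfsg.Lie Cfsg.Lie.ChevalleyDatum Cfsg.Agent.Lib.helper8.H3

universe u

def h8sD4 (s : ℕ) : ℕ := h8aS_D4_3.getD s 0
def h8tD4 (s : ℕ) : ℕ := h8aT_D4_3.getD s 0
def h8pD4 (j : ℕ) : ℕ := h8aP_D4_3.getD j 0
def h8qD4 (j : ℕ) : ℕ := h8aQ_D4_3.getD j 0
def h8eD4 (s : ℕ) : ℤ := h8aE_D4_3.getD s 0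

theorem h8autD4 (hA : H8ReflAll chevD4) : H8Aut chevD4 h8sD4 h8tD4 h8pD4 h8qD4 h8eD4 :=
  h8autChk_spec chevD4 _ _ _ _ _ hA.ce h8aChk_D4_3

theorem h8piD4_lt : ∀ j : Fin chevD4.rank, h8pD4 j.val < chevD4.rank := by decide

def h8piD4 : Fin chevD4.rank → Fin chevD4.rank := fun j => ⟨h8pD4 j.val, h8piD4_lt j⟩

def h8orbsD4 : List (List (Fin chevD4.rank)) :=
  [[⟨1, by decide⟩], [⟨0, by decide⟩, ⟨2, by decide⟩, ⟨3, by decide⟩]]

theorem h8twD4_pos : ∀ r < chevD4.nroots, chevD4.IsPosRoot (h8sD4 r) ↔ chevD4.IsPosRoot r := by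
  decide +kernel

theorem h8twD4_sim : ∀ j : Fin chevD4.rank,
    h8sD4 (chevD4.simple j.val) = chevD4.simple (h8pD4 j.val) := by decide +kernel

theorem h8twD4_siminj : ∀ i j : Fin chevD4.rank,
    chevD4.simple i.val = chevD4.simple j.val → i = j := by decide +kernel

theorem h8twD4_conj : ∀ j : Fin chevD4.rank, ∀ r < chevD4.nroots,
    h8sD4 (chevD4.reflectRoot j.val r) = chevD4.reflectRoot (h8pD4 j.val) (h8sD4 r) := by
  decide +kernel

theorem h8twD4_trans : ∀ J ∈ h8orbsD4, ∀ j ∈ J, ∀ k ∈ J, ∃ i < 3, h8piD4^[i] j = k := by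
  decide +kernel

theorem h8twD4_orth : ∀ J ∈ h8orbsD4, ∀ j ∈ J, ∀ k ∈ J, j ≠ k →
    chevD4.reflectRoot j.val (chevD4.simple k.val) = chevD4.simple k.val := by decide +kernel

theorem h8twD4 (hA : H8ReflAll chevD4) (hBN : H8BN chevD4) :
    H8Tw chevD4 hA hBN (h8mkRho chevD4 h8sD4 h8tD4 h8pD4 h8qD4 h8eD4 (h8autD4 hA)) h8piD4
      h8orbsD4 where
  pos := fun r => h8twD4_pos r.val r.2
  sim := fun j => Fin.ext (h8twD4_sim j)
  sim_inj := fun i j h => h8twD4_siminj i j (congrArg Fin.val h)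
  conj := fun j => h8mkRho_conj chevD4 hA _ _ _ _ _ _ j.val (h8pD4 j.val) j.2 (h8piD4_lt j)
    (h8twD4_conj j)
  orb_ne := by decide
  orb_cover := by decide
  orb_perm := by decide
  orb_trans := fun J hJ j hj k hk => by
    obtain ⟨i, _, h⟩ := h8twD4_trans J hJ j hj k hk
    exact ⟨i, h⟩
  orb_orth := h8twD4_orth
  orb_nodup := by decide

theorem h8twOrdD4 : h8twOrdChk chevD4 h8orbsD4 CoxeterMatrix.G₂ = true := by decide +kernel

variable {K : Type u} [Field K]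

theorem h8twD4_comm : ∀ p ∈ [(18, 13), (5, 10), (18, 12), (5, 11), (13, 18), (13, 5), (10, 18),
    (12, 18), (12, 13), (12, 5), (12, 10), (11, 18), (11, 13)],
    chevD4.commTerms p.1 p.2 = [] ∧ p.1 < chevD4.nroots ∧
      p.2 < chevD4.nroots ∧ p.2 ≠ p.1 ∧ p.2 ≠ chevD4.negIdx.getD p.1 0 := by decide +kernel

theorem h8twD4_commute (hB : H8Base.{u} chevD4) (hC : H8CommAll.{u} chevD4) (r s : ℕ)
    (h : (r, s) ∈ [(18, 13), (5, 10), (18, 12), (5, 11), (13, 18), (13, 5), (10, 18),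
    (12, 18), (12, 13), (12, 5), (12, 10), (11, 18), (11, 13)]) (a b : K) :
    Commute (h8xU chevD4 hB r a) (h8xU chevD4 hB s b) := by
  obtain ⟨h1, h2, h3, h4, h5⟩ := h8twD4_comm (r, s) h
  exact h8xU_commute chevD4 hB hC r s h2 h3 h4 h5 h1 a b

theorem h8twD4_fixdata : (∀ r ∈ [14, 9], r < chevD4.nroots ∧ h8sD4 r = r ∧ h8eD4 r = 1) ∧
    (∀ p ∈ [(18, 13, 12), (5, 10, 11)], p.1 < chevD4.nroots ∧ p.2.1 < chevD4.nroots ∧
      p.2.2 < chevD4.nroots ∧ h8sD4 p.1 = p.2.1 ∧ h8sD4 p.2.1 = p.2.2 ∧ h8sD4 p.2.2 = p.1 ∧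
      h8eD4 p.1 = 1 ∧ h8eD4 p.2.1 = 1 ∧ h8eD4 p.2.2 = 1) := by decide +kernel

/-- the twisted group of type `³D₄` is fixed by the twisting endomorphism -/
theorem h8twD4_fix (hB : H8Base.{u} chevD4) (hC : H8CommAll.{u} chevD4)
    (hA : H8ReflAll chevD4) (q : ℕ) (f : K ≃+* K) (hf : ∀ t, f t = t ^ q)
    (hfff : ∀ t, f (f (f t)) = t) :
    ∀ g ∈ twistedD4 K q,
      h8Sig chevD4 h8sD4 h8tD4 h8pD4 h8qD4 h8eD4 (h8autD4 hA) f g = g := by
  intro g hg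
  unfold twistedD4 ChevalleyDatum.genSubgroup at hg
  induction hg using Subgroup.closure_induction with
  | mem x hx =>
    obtain ⟨w, hw, hxw⟩ := hx
    have hx' : x = h8wordU chevD4 hB w := Units.ext (hxw.trans (h8wordU_val chevD4 hB w).symm)
    rw [hx']
    rcases hw with ⟨t, ht, r, hr, rfl⟩ | ⟨t, rs, hrs, rfl⟩
    · obtain ⟨h1, h2, h3⟩ := h8twD4_fixdata.1 r (by
        simp only [d4p2, d4m2] at hr
        exact hr)
      rw [h8wordU_one]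
      exact h8Sig_fix1 chevD4 _ _ _ _ _ (h8autD4 hA) f hB r h1 h2 h3 t (by rw [hf, ht])
    · have hrs' : (rs.1, rs.2.1, rs.2.2) ∈ [(18, 13, 12), (5, 10, 11)] := by
        simp only [d4p1, d4p3, d4p4, d4m1, d4m3, d4m4] at hrs
        exact hrs
      obtain ⟨h1, h2, h3, h4, h5, h6, h7, h8, h9⟩ := h8twD4_fixdata.2 (rs.1, rs.2.1, rs.2.2) hrs'
      have e2 : t ^ (q ^ 2) = f (f t) := by rw [hf, hf, ← pow_mul, sq]
      rw [h8wordU_three, ← hf, e2]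
      refine h8Sig_fix3 chevD4 _ _ _ _ _ (h8autD4 hA) f hB rs.1 rs.2.1 rs.2.2 h1 h2 h3 h4 h5 h6
        h7 h8 h9 ?_ ?_ t (hfff t)
      · intro a b
        apply h8twD4_commute hB hC
        simp only [List.mem_cons, List.not_mem_nil, or_false, Prod.mk.injEq] at hrs' ⊢
        rcases hrs' with ⟨h, h', _⟩ | ⟨h, h', _⟩ <;> simp [h, h']
      · intro a b
        apply h8twD4_commute hB hC
        simp only [List.mem_cons, List.not_mem_nil, or_false, Prod.mk.injEq] at hrs' ⊢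
        rcases hrs' with ⟨h, _, h'⟩ | ⟨h, _, h'⟩ <;> simp [h, h']
  | one => exact map_one _
  | mul a b _ _ ha hb => rw [map_mul, ha, hb]
  | inv a _ ha => rw [map_inv, ha]

theorem h8twD4_simdata : chevD4.simple 0 = 18 ∧ chevD4.simple 1 = 14 ∧ chevD4.simple 2 = 13 ∧
    chevD4.simple 3 = 12 ∧ chevD4.neg 18 = 5 ∧ chevD4.neg 14 = 9 ∧ chevD4.neg 13 = 10 ∧
    chevD4.neg 12 = 11 := by decide +kernel

theorem h8twD4_x1 (hB : H8Base.{u} chevD4) (q : ℕ) (r : ℕ) (hr : r ∈ [14, 9]) (t : K)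
    (ht : t ^ q = t) : h8xU chevD4 hB r t ∈ twistedD4 K q := by
  rw [← h8wordU_one]
  apply h8gen_mem
  left
  exact ⟨t, ht, r, hr, rfl⟩

theorem h8twD4_x3 (hB : H8Base.{u} chevD4) (q : ℕ) (r r' r'' : ℕ)
    (hr : (r, r', r'') ∈ [(18, 13, 12), (5, 10, 11)]) (t : K) :
    h8xU chevD4 hB r t * h8xU chevD4 hB r' (t ^ q) * h8xU chevD4 hB r'' (t ^ (q ^ 2)) ∈
      twistedD4 K q := by
  rw [← h8wordU_three]
  apply h8gen_mem
  right
  exact ⟨t, (r, r', r''), hr, rfl⟩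

/-- the orbit representatives `n_J` lie in the twisted group -/
theorem h8twD4_nJ (hB : H8Base.{u} chevD4) (hC : H8CommAll.{u} chevD4) (q : ℕ)
    (hneg : (-1 : K) ^ q = -1) :
    ∀ J ∈ h8orbsD4, (h8nWU chevD4 hB (J.map Fin.val) : GL chevD4.Idx K) ∈ twistedD4 K q := by
  obtain ⟨s0, s1, s2, s3, n0, n1, n2, n3⟩ := h8twD4_simdata
  have h1q : (1 : K) ^ q = 1 := one_pow q
  have h1q2 : (1 : K) ^ (q ^ 2) = 1 := one_pow _
  have hneg2 : (-1 : K) ^ (q ^ 2) = -1 := by rw [sq, pow_mul, hneg, hneg]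
  intro J hJ
  simp only [h8orbsD4, List.mem_cons, List.not_mem_nil, or_false] at hJ
  rcases hJ with rfl | rfl
  · show (h8nWU chevD4 hB [1] : GL chevD4.Idx K) ∈ _
    rw [h8nWU_single, h8nU_one_eq, s1, n1]
    exact Subgroup.mul_mem _ (Subgroup.mul_mem _ (h8twD4_x1 hB q 14 (by simp) 1 h1q)
      (h8twD4_x1 hB q 9 (by simp) (-1) hneg)) (h8twD4_x1 hB q 14 (by simp) 1 h1q)
  · show (h8nWU chevD4 hB [0, 2, 3] : GL chevD4.Idx K) ∈ _
    rw [h8nWU_triple, h8nU_one_eq, h8nU_one_eq, h8nU_one_eq, s0, s2, s3, n0, n2, n3,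
      h8rearr3 _ _ _ _ _ _ _ _ _ (h8twD4_commute hB hC 13 18 (by simp) _ _)
        (h8twD4_commute hB hC 13 5 (by simp) _ _) (h8twD4_commute hB hC 10 18 (by simp) _ _)
        ((h8twD4_commute hB hC 12 18 (by simp) _ _).mul_right
          (h8twD4_commute hB hC 12 13 (by simp) _ _))
        ((h8twD4_commute hB hC 12 5 (by simp) _ _).mul_right
          (h8twD4_commute hB hC 12 10 (by simp) _ _))
        ((h8twD4_commute hB hC 11 18 (by simp) _ _).mul_right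
          (h8twD4_commute hB hC 11 13 (by simp) _ _))]
    have a1 := h8twD4_x3 (K := K) hB q 18 13 12 (by simp) 1
    have a2 := h8twD4_x3 (K := K) hB q 5 10 11 (by simp) (-1)
    rw [h1q, h1q2] at a1
    rw [hneg, hneg2] at a2
    exact Subgroup.mul_mem _ (Subgroup.mul_mem _ a1 a2) a1

/-- `N¹/H¹ ≅ W(G₂)` for `³D₄(q)` -/
theorem h8twD4_weyl [Fintype K] {q : ℕ} (hq : IsPrimePow q) (hK : Fintype.card K = q ^ 3) :
    ∃ φ : ↥(chevD4.monomialSubgroup K ⊓ twistedD4 K q) →* (CoxeterMatrix.G₂).Group,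
      Function.Surjective φ ∧
      φ.ker = (chevD4.diagonalSubgroup K ⊓ twistedD4 K q).subgroupOf
        (chevD4.monomialSubgroup K ⊓ twistedD4 K q) := by
  have hD : chevD4 ∈ [chevG2, chevB2, chevD4, chevF4, chevE6, chevE7, chevE8] := by simp
  have hB := h8base_all.{u} chevD4 hD
  have hB0 := h8base_all.{0} chevD4 hD
  have hA := h8reflAll chevD4 hD
  have hC := h8commAll.{u} chevD4 hD
  have hBN := h8bn_all chevD4 hD
  have hW := h8bn2_all chevD4 hD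
  obtain ⟨hO, hO2⟩ := h8ord_all chevD4 hD
  obtain ⟨f, hf, hfff, hneg⟩ := h8frob_exists hq 3 (by norm_num) hK
  exact h8tw_weyl_main chevD4 hB hB0 hA hBN hW hO2 h8sD4 h8tD4 h8pD4 h8qD4 h8eD4 (h8autD4 hA) f
    (h8mkRho chevD4 h8sD4 h8tD4 h8pD4 h8qD4 h8eD4 (h8autD4 hA)) (fun r => rfl) h8piD4 h8orbsD4
    (h8twD4 hA hBN) (twistedD4 K q)
    (h8twD4_fix hB hC hA q f hf (fun t => hfff t))
    (h8twD4_nJ hB hC q hneg) CoxeterMatrix.G₂
    (h8twOrdChk_spec chevD4 hA h8orbsD4 CoxeterMatrix.G₂ h8twOrdD4)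

end Cfsg.Agent.Lib.helper8
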