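import Mathlib
import Cfsg.Prelude.Def_ChevStructure
import Cfsg.Prelude.Def_LieTwisted
import Cfsg.Agent.Lib.helper8.ChevTwD4
import Cfsg.Agent.Lib.helper8.ChevTwU5
import Cfsg.Agent.Lib.helper8.ChevTwU6
import Cfsg.Agent.Lib.helper8.ChevBNAll2
import Cfsg.Agent.Lib.helper8.ChevTw8

set_option autoImplicit false

namespace Cfsg.Agent.Lib.helper8

open Cfsg.Lie Cfsg.Lie.ChevalleyDatum

universe u

variable {K : Type u} [Field K]

def h8posiD4L : List ℕ := [0, 0, 0, 0, 0, 0, 0, 0, 0, 0, 0, 0, 0, 0, 1, 2, 2, 3, 0, 2, 3, 3, 4, 5]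

/-- the block order of the positive roots of `D₄`: orbits of the triality automorphism sorted
by height -/
def h8posiD4 (r : ℕ) : ℕ := h8posiD4L.getD r 0

def h8depD4 (i : ℕ) : ℕ := ([0, 0, 1, 2, 1, 2] : List ℕ).getD i 0

def h8parD4 (i : ℕ) : ℕ := ([0, 1, 0, 2, 1, 4] : List ℕ).getD i 0

def h8porD4 (i : ℕ) : ℕ := ([1, 0, 0, 1, 1, 0] : List ℕ).getD i 0

/-- the word of the orbit with index `k` -/
def h8wD4 (k : ℕ) : List ℕ := (h8orbsD4.getD k []).map Fin.val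

set_option synthInstance.maxSize 1000 in
set_option synthInstance.maxHeartbeats 200000 in
theorem h8uD4_blk1 : ∀ r < chevD4.nroots, ∀ s < chevD4.nroots, chevD4.IsPosRoot r →
    chevD4.IsPosRoot s → s ≠ r →
      (∀ c ∈ chevD4.commTerms r s, chevD4.IsPosRoot c.1 ∧ h8posiD4 r < h8posiD4 c.1 ∧
        h8posiD4 s < h8posiD4 c.1) ∧
      (h8posiD4 r = h8posiD4 s → chevD4.commTerms r s = []) := by decide +kernel

theorem h8uD4_blk : H8Blk chevD4 h8posiD4 :=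
  ⟨fun r s hr hs hsr => (h8uD4_blk1 r hr.1 s hs.1 hr hs hsr).1,
   fun r s hr hs hsr => (h8uD4_blk1 r hr.1 s hs.1 hr hs hsr).2⟩

set_option synthInstance.maxSize 1000 in
set_option synthInstance.maxHeartbeats 200000 in
theorem h8uD4_read1 : ∀ k < chevD4.nroots, ∀ r < chevD4.nroots, chevD4.IsPosRoot k →
    chevD4.IsPosRoot r → r ≠ k → h8posiD4 k ≤ h8posiD4 r →
      ∀ e ∈ chevD4.chainEntry r (chevD4.negIdx.getD k 0), chevD4.nroots / 2 ≤ e.1 := by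
  decide +kernel

theorem h8uD4_read : H8BlkRead chevD4 h8posiD4 :=
  ⟨fun k r hk hr => h8uD4_read1 k hk.1 r hr.1 hk hr⟩

theorem h8uD4_sig1 : ∀ r < chevD4.nroots, chevD4.IsPosRoot r →
    chevD4.IsPosRoot (h8sD4 r) ∧ h8posiD4 (h8sD4 r) = h8posiD4 r ∧ h8posiD4 r < 6 := by
  decide +kernel

theorem h8uD4_chk : ∀ i < 6,
    h8orbChk3 chevD4.nroots h8sD4 h8eD4 (h8Lb chevD4 h8posiD4 i) = true := by decide +kernel

theorem h8uD4_sum :
    ((List.range' 0 6).map fun j => (h8Lb chevD4 h8posiD4 j).length).sum = 12 := by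
  decide +kernel

theorem h8uD4_cert : ∀ j < 6, h8depD4 j ≠ 0 → h8parD4 j < 6 ∧ h8depD4 (h8parD4 j) < h8depD4 j ∧
    h8porD4 j < 2 ∧ ∀ s ∈ h8Lb chevD4 h8posiD4 j,
      h8sW chevD4 (h8wD4 (h8porD4 j)) s ∈ h8Lb chevD4 h8posiD4 (h8parD4 j) := by
  decide +kernel

theorem h8uD4_base : ∀ i < 6, h8depD4 i = 0 → i = 0 ∨ i = 1 := by
  decide +kernel

theorem h8uD4_basedata : h8Lb chevD4 h8posiD4 0 = [12, 13, 18] ∧ h8Lb chevD4 h8posiD4 1 = [14] ∧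
    h8sD4 18 = 13 ∧ h8sD4 13 = 12 ∧ h8sD4 14 = 14 ∧
    h8eD4 18 = 1 ∧ h8eD4 13 = 1 ∧ h8eD4 14 = 1 := by decide +kernel

theorem h8uD4_wlt : ∀ k < 2, (h8orbsD4.getD k []) ∈ h8orbsD4 ∧ ∀ i ∈ h8wD4 k, i < chevD4.rank := by
  decide +kernel

/-- the fixed points of the twisting endomorphism in `U` lie in `³D₄(q)` -/
theorem h8twD4_U_fix (hB : H8Base.{u} chevD4) (hC : H8CommAll.{u} chevD4)
    (hA : H8ReflAll chevD4) (hBN : H8BN chevD4) (hO2 : H8Ord2 chevD4) (q : ℕ) (f : K ≃+* K)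
    (hf : ∀ t, f t = t ^ q) (hfff : ∀ t, f (f (f t)) = t) (hneg : (-1 : K) ^ q = -1) :
    ∀ g ∈ chevD4.posUnipotent K,
      h8Sig chevD4 h8sD4 h8tD4 h8pD4 h8qD4 h8eD4 (h8autD4 hA) f g = g → g ∈ twistedD4 K q := by
  have hσp : ∀ r, chevD4.IsPosRoot r →
      chevD4.IsPosRoot (h8sD4 r) ∧ h8posiD4 (h8sD4 r) = h8posiD4 r :=
    fun r hr => ⟨(h8uD4_sig1 r hr.1 hr).1, (h8uD4_sig1 r hr.1 hr).2.1⟩
  have hM : ∀ r, chevD4.IsPosRoot r → h8posiD4 r < 6 := fun r hr => (h8uD4_sig1 r hr.1 hr).2.2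
  have hfixG := h8twD4_fix hB hC hA q f hf hfff
  have hnJ := h8twD4_nJ hB hC q hneg
  obtain ⟨hL0, hL1, hs18, hs13, hs14, he18, he13, he14⟩ := h8uD4_basedata
  have hQ := h8tw_Q_all chevD4 hB hC hBN hO2 h8posiD4 h8uD4_blk h8uD4_read h8sD4 h8tD4 h8pD4
    h8qD4 h8eD4 (h8autD4 hA) f hσp (twistedD4 K q) 6 h8depD4 h8parD4
    (fun j => h8nWU chevD4 hB (h8wD4 (h8porD4 j))) (by
      intro i hi hd
      rcases h8uD4_base i hi hd with rfl | rfl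
      · apply h8tw_base3 chevD4 hB hC hBN hO2 h8posiD4 h8uD4_blk h8sD4 h8tD4 h8pD4 h8qD4 h8eD4
          (h8autD4 hA) f (twistedD4 K q) 0 12 13 18 hL0 hs18 hs13 he18 he13
        intro c
        have := h8twD4_x3 hB q 18 13 12 (by simp) c
        rw [hf, hf, ← pow_mul, ← sq]
        exact this
      · apply h8tw_base1 chevD4 hB h8posiD4 h8sD4 h8tD4 h8pD4 h8qD4 h8eD4
          (h8autD4 hA) f (twistedD4 K q) 1 14 hL1 (by decide) hs14 he14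
        intro c hc
        exact h8twD4_x1 hB q 14 (by simp) c (by rw [← hf, hc])) (by
      intro j hj hd
      obtain ⟨h1, h2, h3, h4⟩ := h8uD4_cert j hj hd
      obtain ⟨hmem, hwlt⟩ := h8uD4_wlt _ h3
      refine ⟨h1, h2, hnJ _ hmem, hfixG _ (hnJ _ hmem), fun s hs => ⟨_, h4 s hs, ?_⟩⟩
      exact h8actN_act _ _ _ _ _ (h8actN_word chevD4 hB hA (h8wD4 (h8porD4 j)) hwlt s
        ((h8Lb_mem chevD4 h8posiD4 j s).mp hs).1.1))
  intro g hg hfix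
  rw [← h8Ub_zero chevD4 h8posiD4] at hg
  exact h8tw_U_le chevD4 hB hC hBN hO2 h8posiD4 h8uD4_blk h8uD4_read h8sD4 h8tD4 h8pD4
    h8qD4 h8eD4 (h8autD4 hA) f hσp (twistedD4 K q) 6 hM hQ 6 0 rfl g hg hfix

/-- `|U ∩ ³D₄(q)| = q ^ 12` -/
theorem h8twD4_U_card [Fintype K] {q : ℕ} (hq : IsPrimePow q) (hKc : Fintype.card K = q ^ 3) :
    Nat.card ↥(chevD4.posUnipotent K ⊓ twistedD4 K q) = q ^ 12 := by
  have hD : chevD4 ∈ [chevG2, chevB2, chevD4, chevF4, chevE6, chevE7, chevE8] := by simp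
  have hB := h8base_all.{u} chevD4 hD
  have hA := h8reflAll chevD4 hD
  have hC := h8commAll.{u} chevD4 hD
  have hBN := h8bn_all chevD4 hD
  obtain ⟨hO, hO2⟩ := h8ord_all chevD4 hD
  obtain ⟨f, hf, hfff3, hneg⟩ := h8frob_exists hq 3 (by norm_num) hKc
  have hfff : ∀ t, f (f (f t)) = t := fun t => hfff3 t
  have hσp : ∀ r, chevD4.IsPosRoot r →
      chevD4.IsPosRoot (h8sD4 r) ∧ h8posiD4 (h8sD4 r) = h8posiD4 r :=
    fun r hr => ⟨(h8uD4_sig1 r hr.1 hr).1, (h8uD4_sig1 r hr.1 hr).2.1⟩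
  have hM : ∀ r, chevD4.IsPosRoot r → h8posiD4 r < 6 := fun r hr => (h8uD4_sig1 r hr.1 hr).2.2
  have hfixG := h8twD4_fix hB hC hA q f hf hfff
  have hfc : Nat.card {c : K // f c = c} = q :=
    h8frob_fix_card hq.one_lt (by norm_num) hKc f hf hfff3
  have hK3 : Nat.card K = q ^ 3 := by rw [Nat.card_eq_fintype_card, hKc]
  have hcard : ∀ i < 6, Nat.card (H8Bt chevD4 h8posiD4 h8tD4 h8eD4 f i) =
      q ^ (h8Lb chevD4 h8posiD4 i).length := fun i hi =>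
    h8Bt_card_chk3 chevD4 h8posiD4 h8sD4 h8tD4 h8pD4 h8qD4 h8eD4 (h8autD4 hA) f q i
      (h8uD4_chk i hi) hfff hfc hK3
  have hsub : chevD4.posUnipotent K ⊓ twistedD4 K q =
      h8FixUb chevD4 h8posiD4 h8sD4 h8tD4 h8pD4 h8qD4 h8eD4 (h8autD4 hA) f 0 := by
    ext g
    rw [Subgroup.mem_inf, h8FixUb_mem, h8Ub_zero]
    constructor
    · rintro ⟨h1, h2⟩
      exact ⟨h1, hfixG g h2⟩
    · rintro ⟨h1, h2⟩
      exact ⟨h1, h8twD4_U_fix hB hC hA hBN hO2 q f hf hfff hneg g h1 h2⟩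
  rw [hsub, h8FixUb_card chevD4 hB hC hBN hO2 h8posiD4 h8uD4_blk h8uD4_read h8sD4 h8tD4 h8pD4
    h8qD4 h8eD4 (h8autD4 hA) f hσp q 6 hM hcard 6 0 rfl, h8uD4_sum]

end Cfsg.Agent.Lib.helper8
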