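import Mathlib
import Cfsg.Prelude.Def_ChevStructure
import Cfsg.Prelude.Def_LieTwisted
import Cfsg.Prelude.Def_LieExceptional
import Cfsg.Agent.Lib.helper8.ChevTwD4U
import Cfsg.Agent.Lib.helper8.ChevTwB7

set_option autoImplicit false

namespace Cfsg.Agent.Lib.helper8

open Cfsg.Lie Cfsg.Lie.ChevalleyDatum

universe u

variable {K : Type u} [Field K]

theorem h8twD4_disj : ∀ J ∈ h8orbsD4, ∀ J' ∈ h8orbsD4, ∀ j, j ∈ J → j ∈ J' → J = J' := by
  decide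

/-- the block of the simple roots of the orbit with index `k` -/
def h8blkOfD4 (k : ℕ) : ℕ := ([1, 0] : List ℕ).getD k 0

theorem h8twD4_xdata : ∀ k < 2, h8Lb chevD4 h8posiD4 (h8blkOfD4 k) ≠ [] ∧
    ∀ r ∈ h8Lb chevD4 h8posiD4 (h8blkOfD4 k),
      (∃ j ∈ h8orbsD4.getD k [], r = chevD4.simple j.val) ∧ h8eD4 (h8tD4 r) = 1 := by
  decide +kernel

/-- the `(B, N)`-pair of `³D₄(q)` -/
theorem h8twD4_bnpair [Fintype K] {q : ℕ} (hq : IsPrimePow q) (hKc : Fintype.card K = q ^ 3) :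
    ∃ P : Cfsg.BNPair ↥(twistedD4 K q),
      P.B = (chevD4.borelSubgroup K ⊓ twistedD4 K q).subgroupOf (twistedD4 K q) ∧
      P.N = (chevD4.monomialSubgroup K ⊓ twistedD4 K q).subgroupOf (twistedD4 K q) := by
  have hD : chevD4 ∈ [chevG2, chevB2, chevD4, chevF4, chevE6, chevE7, chevE8] := by simp
  have hB := h8base_all.{u} chevD4 hD
  have hB0 := h8base_all.{0} chevD4 hD
  have hA := h8reflAll chevD4 hD
  have hC := h8commAll.{u} chevD4 hD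
  have hBN := h8bn_all chevD4 hD
  have hW := h8bn2_all chevD4 hD
  obtain ⟨hO, hO2⟩ := h8ord_all chevD4 hD
  obtain ⟨f, hf, hfff3, hneg⟩ := h8frob_exists hq 3 (by norm_num) hKc
  have hfff : ∀ t, f (f (f t)) = t := fun t => hfff3 t
  have hσp : ∀ r, chevD4.IsPosRoot r →
      chevD4.IsPosRoot (h8sD4 r) ∧ h8posiD4 (h8sD4 r) = h8posiD4 r :=
    fun r hr => ⟨(h8uD4_sig1 r hr.1 hr).1, (h8uD4_sig1 r hr.1 hr).2.1⟩
  have hUfix := h8twD4_U_fix hB hC hA hBN hO2 q f hf hfff hneg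
  obtain ⟨P, h1, h2, _⟩ := h8tw_bnpair chevD4 hB hB0 hA hC hBN hW hO hO2 h8sD4 h8tD4 h8pD4 h8qD4
    h8eD4 (h8autD4 hA) f (h8mkRho chevD4 h8sD4 h8tD4 h8pD4 h8qD4 h8eD4 (h8autD4 hA))
    (fun r => rfl) h8piD4 h8orbsD4 (h8twD4 hA hBN) (fun r hr => (hσp r hr).1) (twistedD4 K q)
    (h8gen_le_group chevD4 hB _) (h8twD4_fix hB hC hA q f hf hfff) hUfix
    (h8twD4_nJ hB hC q hneg) h8twD4_disj (by
      intro J hJ
      have hk : ∃ k < 2, J = h8orbsD4.getD k [] := by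
        simp only [h8orbsD4, List.mem_cons, List.not_mem_nil, or_false] at hJ
        rcases hJ with rfl | rfl
        · exact ⟨0, by norm_num, rfl⟩
        · exact ⟨1, by norm_num, rfl⟩
      obtain ⟨k, hk2, rfl⟩ := hk
      obtain ⟨hne, hdata⟩ := h8twD4_xdata k hk2
      exact h8tw_xJ chevD4 hB hC hBN hO2 h8posiD4 h8uD4_blk h8uD4_read h8sD4 h8tD4 h8pD4 h8qD4
        h8eD4 (h8autD4 hA) f hσp (twistedD4 K q) hUfix _ (h8blkOfD4 k) hne hdata)
  exact ⟨P, h1, h2⟩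

end Cfsg.Agent.Lib.helper8
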