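import Mathlib
import Cfsg.Prelude.Def_ChevStructure
import Cfsg.Prelude.Def_LieTwisted
import Cfsg.Agent.Lib.helper8.ChevTwD4B
import Cfsg.Agent.Lib.helper8.ChevTwC2
import Cfsg.Agent.Lib.helper8.ChevTabSC

set_option autoImplicit false

namespace Cfsg.Agent.Lib.helper8

open Cfsg.Lie Cfsg.Lie.ChevalleyDatum

universe u

variable {K : Type u} [Field K]

/-- the longest element as a product of orbit products -/
def h8w0ksD4 : List (List (Fin chevD4.rank)) :=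
  ([1, 0, 1, 0, 1, 0] : List ℕ).map fun k => h8orbsD4.getD k []

theorem h8w0ksD4_mem : ∀ J ∈ h8w0ksD4, J ∈ h8orbsD4 := by decide

theorem h8w0ksD4_chk :
    h8w0Chk chevD4 ((h8w0ksD4.map fun J => J.map Fin.val).flatten) = true := by decide +kernel

theorem h8twD4_blkdata : ∀ J ∈ h8orbsD4, ∃ i < 2,
    (∀ j ∈ J, chevD4.simple j.val ∈ h8Lb chevD4 h8posiD4 i) ∧
      ∀ r ∈ h8Lb chevD4 h8posiD4 i, h8eD4 (h8tD4 r) = 1 := by decide +kernel

/-- the normal core of `B¹` in `³D₄(q)` is trivial -/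
theorem h8twD4_core [Fintype K] {q : ℕ} (hq : IsPrimePow q) (hKc : Fintype.card K = q ^ 3)
    (k : GL chevD4.Idx K)
    (hk : ∀ g ∈ twistedD4 K q, g * k * g⁻¹ ∈ chevD4.borelSubgroup K) : k = 1 := by
  have hD : chevD4 ∈ [chevG2, chevB2, chevD4, chevF4, chevE6, chevE7, chevE8] := by simp
  have hB := h8base_all.{u} chevD4 hD
  have hB0 := h8base_all.{0} chevD4 hD
  have hA := h8reflAll chevD4 hD
  have hC := h8commAll.{u} chevD4 hD
  have hBN := h8bn_all chevD4 hD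
  have hW := h8bn2_all chevD4 hD
  obtain ⟨hO, hO2⟩ := h8ord_all chevD4 hD
  obtain ⟨f, hf, hfff3, hneg⟩ := h8frob_exists hq 3 (by norm_num) hKc
  have hfff : ∀ t, f (f (f t)) = t := fun t => hfff3 t
  have hσp : ∀ r, chevD4.IsPosRoot r →
      chevD4.IsPosRoot (h8sD4 r) ∧ h8posiD4 (h8sD4 r) = h8posiD4 r :=
    fun r hr => ⟨(h8uD4_sig1 r hr.1 hr).1, (h8uD4_sig1 r hr.1 hr).2.1⟩
  have hUfix := h8twD4_U_fix hB hC hA hBN hO2 q f hf hfff hneg
  have hnJ := h8twD4_nJ (K := K) hB hC q hneg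
  exact h8tw_core_trivial chevD4 hB hB0 hA hC hBN hW hO2 h8posiD4 h8uD4_blk h8uD4_read
    h8sD4 h8tD4 h8pD4 h8qD4 h8eD4 (h8autD4 hA) f
    (h8mkRho chevD4 h8sD4 h8tD4 h8pD4 h8qD4 h8eD4 (h8autD4 hA)) h8piD4 h8orbsD4
    (h8twD4 hA hBN) hσp (twistedD4 K q) hUfix hnJ (h8scChk_all chevD4 hD) _ h8w0ksD4_chk
    (h8tw_nWU_flat chevD4 hB h8orbsD4 (twistedD4 K q) h8w0ksD4 h8w0ksD4_mem hnJ)
    (fun J hJ => by
      obtain ⟨i, _, h1, h2⟩ := h8twD4_blkdata J hJ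
      exact ⟨i, h1, h2⟩) k hk

end Cfsg.Agent.Lib.helper8
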