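import Mathlib
import Cfsg.Prelude.Def_ChevStructure
import Cfsg.Prelude.Def_LieTwisted
import Cfsg.Agent.Lib.helper8.ChevTwD4C
import Cfsg.Agent.Lib.helper8.ChevTwP4

set_option autoImplicit false

namespace Cfsg.Agent.Lib.helper8

open Cfsg.Lie Cfsg.Lie.ChevalleyDatum

open scoped commutatorElement

universe u

variable {K : Type u} [Field K]

theorem h8pD4_tor : ∀ p ∈ [(18, 13, 12), (5, 10, 11)],
    p.1 < chevD4.nroots ∧ p.2.1 < chevD4.nroots ∧ p.2.2 < chevD4.nroots ∧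
    (∀ x ∈ [(p.1, p.2.1), (p.1, p.2.2), (p.2.1, p.2.2)],
      ∀ a ∈ [x.1, chevD4.negIdx.getD x.1 0], ∀ b ∈ [x.2, chevD4.negIdx.getD x.2 0],
      chevD4.commTerms a b = [] ∧ a < chevD4.nroots ∧ b < chevD4.nroots ∧ b ≠ a ∧
        b ≠ chevD4.negIdx.getD a 0) ∧
    (∀ a ∈ [p.1, p.2.1, p.2.2], ∀ b ∈ [p.1, p.2.1, p.2.2],
      h8KF chevD4 a b = if a = b then 2 else 0) ∧
    (p.1 ≠ p.2.1 ∧ p.1 ≠ p.2.2 ∧ p.2.1 ≠ p.2.2) ∧
    (chevD4.negIdx.getD p.1 0, chevD4.negIdx.getD p.2.1 0, chevD4.negIdx.getD p.2.2 0) ∈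
      [(18, 13, 12), (5, 10, 11)] := by decide +kernel

theorem h8pD4_c1 : (∀ a ∈ [18, 13, 12], ∀ b ∈ [17, 20, 21], h8czOK chevD4 b a 22 = true) ∧
    (∀ x ∈ [18, 13, 12, 17, 20, 21], x < chevD4.nroots ∧ x ≠ 22 ∧
      x ≠ chevD4.negIdx.getD 22 0 ∧ chevD4.commTerms 22 x = []) ∧
    (h8cz chevD4 17 12 22 = 0 ∧ h8cz chevD4 20 12 22 = 0 ∧
      (h8cz chevD4 21 12 22 = 1 ∨ h8cz chevD4 21 12 22 = -1)) ∧
    h8sW chevD4 [0, 2, 3, 1] 18 = 17 ∧ h8sW chevD4 [0, 2, 3, 1] 13 = 20 ∧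
    h8sW chevD4 [0, 2, 3, 1] 12 = 21 := by decide +kernel

theorem h8pD4_c2 : h8sD4 22 = 22 ∧ (h8KF chevD4 14 22 = 1 ∨ h8KF chevD4 14 22 = -1) ∧
    chevD4.negIdx.getD 14 0 = 9 := by decide +kernel

/-- the words conjugating the root `22` to the fixed simple root and its negative -/
def h8pD4_word (p : ℕ) : List (List (Fin chevD4.rank)) :=
  if p = 14 then [[⟨0, by decide⟩, ⟨2, by decide⟩, ⟨3, by decide⟩]]
  else [[⟨1, by decide⟩], [⟨0, by decide⟩, ⟨2, by decide⟩, ⟨3, by decide⟩]]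

theorem h8pD4_c3 : ∀ p ∈ [14, 9], (∀ J ∈ h8pD4_word p, J ∈ h8orbsD4) ∧
    h8sW chevD4 (((h8pD4_word p).map fun J => J.map Fin.val).flatten) 22 = p := by
  decide +kernel

/-- `³D₄(q)` is perfect -/
theorem h8twD4_perfect [Fintype K] {q : ℕ} (hq : IsPrimePow q) (hKc : Fintype.card K = q ^ 3) :
    commutator ↥(twistedD4 K q) = ⊤ := by
  have hD : chevD4 ∈ [chevG2, chevB2, chevD4, chevF4, chevE6, chevE7, chevE8] := by simp
  have hB := h8base_all.{u} chevD4 hD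
  have hA := h8reflAll chevD4 hD
  have hC := h8commAll.{u} chevD4 hD
  have hW := h8bn2_all chevD4 hD
  obtain ⟨f, hf, hfff3, hneg⟩ := h8frob_exists hq 3 (by norm_num) hKc
  have hfff : ∀ t, f (f (f t)) = t := fun t => hfff3 t
  have hq1 : 1 < q := hq.one_lt
  have hqK : q ^ 2 < Fintype.card K := by
    rw [hKc]
    exact Nat.pow_lt_pow_right hq1 (by norm_num)
  have hK4 : 4 ≤ Fintype.card K := by
    rw [hKc]
    calc 4 ≤ 2 ^ 3 := by norm_num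
      _ ≤ q ^ 3 := Nat.pow_le_pow_left hq1 3
  have hfixG := h8twD4_fix hB hC hA q f hf hfff
  have hnJ := h8twD4_nJ (K := K) hB hC q hneg
  have h22 : 22 < chevD4.nroots := by decide
  have h14 : 14 < chevD4.nroots := by decide
  have hf2 : ∀ t : K, t ^ (q ^ 2) = f (f t) := fun t => by rw [hf, hf, ← pow_mul, sq]
  -- the generators
  have hx1 : ∀ r ∈ [14, 9], ∀ t : K, f t = t → h8xU chevD4 hB r t ∈ twistedD4 K q :=
    fun r hr t ht => h8twD4_x1 hB q r hr t (by rw [← hf, ht])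
  have hx3 : ∀ p ∈ [(18, 13, 12), (5, 10, 11)], ∀ t : K,
      h8xU chevD4 hB p.1 t * h8xU chevD4 hB p.2.1 (f t) * h8xU chevD4 hB p.2.2 (f (f t)) ∈
        twistedD4 K q := by
    intro p hp t
    rw [← hf2, hf]
    exact h8twD4_x3 hB q p.1 p.2.1 p.2.2 hp t
  -- the non-fixed orbit
  obtain ⟨c, hc0, hc2⟩ := h8exists_sq_ne_one (K := K) hK4
  have hA3 : ∀ p ∈ [(18, 13, 12), (5, 10, 11)], ∀ t : K,
      h8xU chevD4 hB p.1 t * h8xU chevD4 hB p.2.1 (f t) * h8xU chevD4 hB p.2.2 (f (f t)) ∈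
        ⁅twistedD4 K q, twistedD4 K q⁆ := by
    rintro ⟨r1, r2, r3⟩ hp
    obtain ⟨h1, h2, h3, h4, h5, h6, h7⟩ := h8pD4_tor (r1, r2, r3) hp
    dsimp only at h1 h2 h3 h4 h5 h6 h7 ⊢
    have hcm : ∀ x ∈ [(r1, r2), (r1, r3), (r2, r3)],
        ∀ a ∈ [x.1, chevD4.negIdx.getD x.1 0], ∀ b ∈ [x.2, chevD4.negIdx.getD x.2 0],
        ∀ t u : K, Commute (h8xU chevD4 hB a t) (h8xU chevD4 hB b u) := by
      intro x hx a ha b hb t u
      obtain ⟨k1, k2, k3, k4, k5⟩ := h4 x hx a ha b hb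
      exact h8xU_commute chevD4 hB hC a b k2 k3 k4 k5 k1 t u
    have c12 := hcm (r1, r2) (by simp)
    have c13 := hcm (r1, r3) (by simp)
    have c23 := hcm (r2, r3) (by simp)
    dsimp only at c12 c13 c23
    have hP := hx3 (r1, r2, r3) hp
    have hM := hx3 _ h7
    dsimp only at hP hM
    exact h8perf_tor3 chevD4 hB (twistedD4 K q) hA.ca f r1 r2 r3 h1 h2 h3 c12 c13 c23
      h5 h6 hP hM c hc0 hc2
  -- the fixed root
  obtain ⟨hOK, hcen, hcz, hs1, hs2, hs3⟩ := h8pD4_c1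
  obtain ⟨hσ22, hKF22, hn14⟩ := h8pD4_c2
  have hnT : (h8nWU chevD4 hB [0, 2, 3, 1] : GL chevD4.Idx K) ∈ twistedD4 K q :=
    h8tw_nWU_flat chevD4 hB h8orbsD4 (twistedD4 K q)
      [[⟨0, by decide⟩, ⟨2, by decide⟩, ⟨3, by decide⟩], [⟨1, by decide⟩]]
      (by decide) hnJ
  have hwT : ∀ i ∈ ([0, 2, 3, 1] : List ℕ), i < chevD4.rank := by decide
  have hact1 : H8Act chevD4 hB (h8nWU chevD4 hB [0, 2, 3, 1] : GL chevD4.Idx K) 18 17 := by
    have := h8actN_act _ _ _ _ _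
      (h8actN_word (F := K) chevD4 hB hA [0, 2, 3, 1] hwT 18 (by decide))
    rwa [hs1] at this
  have hact2 : H8Act chevD4 hB (h8nWU chevD4 hB [0, 2, 3, 1] : GL chevD4.Idx K) 13 20 := by
    have := h8actN_act _ _ _ _ _
      (h8actN_word (F := K) chevD4 hB hA [0, 2, 3, 1] hwT 13 (by decide))
    rwa [hs2] at this
  have hact3 : H8Act chevD4 hB (h8nWU chevD4 hB [0, 2, 3, 1] : GL chevD4.Idx K) 12 21 := by
    have := h8actN_act _ _ _ _ _
      (h8actN_word (F := K) chevD4 hB hA [0, 2, 3, 1] hwT 12 (by decide))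
    rwa [hs3] at this
  obtain ⟨w0, hw0, h0⟩ := h8perf_c1_3 chevD4 hB hC (twistedD4 K q) q hq1 hqK f hf 18 13 12
    17 20 21 22 _ hnT hact1 hact2 hact3 (hx3 (18, 13, 12) (by simp)) hOK hcen h22 hcz
  have hh : ∀ c : K, f c = c → h8hU chevD4 hB 14 c ∈ twistedD4 K q := by
    apply h8tw_h1_mem chevD4 hB (twistedD4 K q) f 14 (hx1 14 (by simp))
    rw [hn14]
    exact hx1 9 (by simp)
  have hfix22 := h8perf_fixed chevD4 hB hA hW h8sD4 h8tD4 h8pD4 h8qD4 h8eD4 (h8autD4 hA) f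
    (twistedD4 K q) 22 14 h22 h14 hσ22 hKF22 hh hfixG w0 hw0 h0
  have hC3 : ∀ p ∈ [14, 9], ∀ t : K, h8xU chevD4 hB p t ∈ twistedD4 K q →
      h8xU chevD4 hB p t ∈ ⁅twistedD4 K q, twistedD4 K q⁆ := by
    intro p hp
    obtain ⟨hmem, hsw⟩ := h8pD4_c3 p hp
    have hn := h8tw_nWU_flat chevD4 hB h8orbsD4 (twistedD4 K q) (h8pD4_word p) hmem hnJ
    have hlt : ∀ i ∈ (((h8pD4_word p).map fun J => J.map Fin.val).flatten), i < chevD4.rank := by
      intro i hi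
      rw [List.mem_flatten] at hi
      obtain ⟨l, hl, hil⟩ := hi
      rw [List.mem_map] at hl
      obtain ⟨J, _, rfl⟩ := hl
      rw [List.mem_map] at hil
      obtain ⟨j, _, rfl⟩ := hil
      exact j.2
    have hact := h8actN_act _ _ _ _ _ (h8actN_word (F := K) chevD4 hB hA _ hlt 22 h22)
    rw [hsw] at hact
    exact h8perf_transport chevD4 hB (twistedD4 K q) 22 p _ hn hact hfix22
  -- conclusion
  unfold twistedD4
  apply h8perf_gen chevD4 hB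
  intro w hw
  show h8wordU chevD4 hB w ∈ ⁅twistedD4 K q, twistedD4 K q⁆
  rcases hw with ⟨t, ht, r, hr, rfl⟩ | ⟨t, rs, hrs, rfl⟩
  · have hr' : r ∈ [14, 9] := by
      simp only [d4p2, d4m2] at hr
      exact hr
    rw [h8wordU_one]
    exact hC3 r hr' t (hx1 r hr' t (by rw [hf, ht]))
  · have hrs' : (rs.1, rs.2.1, rs.2.2) ∈ [(18, 13, 12), (5, 10, 11)] := by
      simp only [d4p1, d4p3, d4p4, d4m1, d4m3, d4m4] at hrs
      exact hrs
    rw [h8wordU_three, hf2, ← hf]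
    exact hA3 (rs.1, rs.2.1, rs.2.2) hrs' t

end Cfsg.Agent.Lib.helper8
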