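import Mathlib
import Cfsg.Prelude.Def_ChevStructure
import Cfsg.Prelude.Def_LieTwisted
import Cfsg.Agent.Lib.helper8.ChevTwD4S
import Cfsg.Agent.Lib.helper8.ChevTwH2

set_option autoImplicit false

namespace Cfsg.Agent.Lib.helper8

open Cfsg.Lie Cfsg.Lie.ChevalleyDatum

universe u

variable {K : Type u} [Field K]

theorem h8hD4_data : h8sD4 18 = 13 ∧ h8sD4 13 = 12 ∧ h8sD4 12 = 18 ∧ h8sD4 14 = 14 ∧
    chevD4.negIdx.getD 18 0 = 5 ∧ chevD4.negIdx.getD 13 0 = 10 ∧ chevD4.negIdx.getD 12 0 = 11 ∧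
    chevD4.negIdx.getD 14 0 = 9 ∧
    h8KF chevD4 18 18 = 2 ∧ h8KF chevD4 13 18 = 0 ∧ h8KF chevD4 12 18 = 0 ∧
    h8KF chevD4 14 18 = -1 ∧ h8KF chevD4 18 14 = -1 ∧ h8KF chevD4 13 14 = -1 ∧
    h8KF chevD4 12 14 = -1 ∧ h8KF chevD4 14 14 = 2 := by decide +kernel

/-- an element of `H ∩ ³D₄(q)` acting trivially on the root subgroups of `p₁` and `p₂` is
trivial -/
theorem h8twD4_H_inj [Fintype K] {q : ℕ} (hq : IsPrimePow q) (hKc : Fintype.card K = q ^ 3)
    (hB : H8Base.{u} chevD4) (z : GL chevD4.Idx K) (hzH : z ∈ chevD4.diagonalSubgroup K)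
    (hzG : z ∈ twistedD4 K q) (h18 : h8chi chevD4 hB z 18 = 1) (h14 : h8chi chevD4 hB z 14 = 1) :
    z = 1 := by
  have hD : chevD4 ∈ [chevG2, chevB2, chevD4, chevF4, chevE6, chevE7, chevE8] := by simp
  have hA := h8reflAll chevD4 hD
  have hC := h8commAll.{u} chevD4 hD
  have hW := h8bn2_all chevD4 hD
  obtain ⟨f, hf, hfff3, hneg⟩ := h8frob_exists hq 3 (by norm_num) hKc
  have hfff : ∀ t, f (f (f t)) = t := fun t => hfff3 t
  have hfixz := h8twD4_fix hB hC hA q f hf hfff z hzG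
  obtain ⟨s18, s13, s12, s14, n18, n13, n12, n14, _⟩ := h8hD4_data
  have hsig := h8chi_sig chevD4 hB hA hW h8sD4 h8tD4 h8pD4 h8qD4 h8eD4 (h8autD4 hA) f z hzH hfixz
  have h13 : h8chi chevD4 hB z 13 = 1 := by
    have := hsig 18 (by decide)
    rw [s18, h18, map_one] at this
    exact this
  have h12 : h8chi chevD4 hB z 12 = 1 := by
    have := hsig 13 (by decide)
    rw [s13, h13, map_one] at this
    exact this
  have hnegs : ∀ r m, r < chevD4.nroots → chevD4.negIdx.getD r 0 = m →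
      h8chi chevD4 hB z r = 1 → h8chi chevD4 hB z m = 1 := by
    intro r m hr hm h1
    have := h8chi_neg chevD4 hB hA hW z hzH r hr
    rw [hm, h1, inv_one] at this
    exact this
  have h5 := hnegs 18 5 (by decide) n18 h18
  have h10 := hnegs 13 10 (by decide) n13 h13
  have h11 := hnegs 12 11 (by decide) n12 h12
  have h9 := hnegs 14 9 (by decide) n14 h14
  have hcomm : ∀ r ∈ [18, 13, 12, 14, 5, 10, 11, 9], ∀ t : K,
      z * h8xU chevD4 hB r t = h8xU chevD4 hB r t * z := by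
    intro r hr t
    have hlt : r < chevD4.nroots := by
      simp only [List.mem_cons, List.not_mem_nil, or_false] at hr
      rcases hr with rfl | rfl | rfl | rfl | rfl | rfl | rfl | rfl <;> decide
    have h1 : h8chi chevD4 hB z r = 1 := by
      simp only [List.mem_cons, List.not_mem_nil, or_false] at hr
      rcases hr with rfl | rfl | rfl | rfl | rfl | rfl | rfl | rfl <;> assumption
    have := (h8chi_spec chevD4 hB z hzH r hlt).2 t
    rw [h1, one_mul, mul_inv_eq_iff_eq_mul] at this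
    exact this
  have hcent : ∀ g ∈ twistedD4 K q, z * g = g * z := by
    unfold twistedD4
    apply h8gen_central chevD4 hB
    intro w hw
    rcases hw with ⟨t, ht, r, hr, rfl⟩ | ⟨t, rs, hrs, rfl⟩
    · have hr' : r ∈ [18, 13, 12, 14, 5, 10, 11, 9] := by
        simp only [d4p2, d4m2, List.mem_cons, List.not_mem_nil, or_false] at hr
        rcases hr with rfl | rfl <;> simp
      rw [h8wordU_one]
      exact hcomm r hr' t
    · have hrs' : (rs.1, rs.2.1, rs.2.2) ∈ [(18, 13, 12), (5, 10, 11)] := by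
        simp only [d4p1, d4p3, d4p4, d4m1, d4m3, d4m4] at hrs
        exact hrs
      have hmem : rs.1 ∈ [18, 13, 12, 14, 5, 10, 11, 9] ∧ rs.2.1 ∈ [18, 13, 12, 14, 5, 10, 11, 9] ∧
          rs.2.2 ∈ [18, 13, 12, 14, 5, 10, 11, 9] := by
        simp only [List.mem_cons, List.not_mem_nil, or_false, Prod.mk.injEq] at hrs'
        rcases hrs' with ⟨a, b, c⟩ | ⟨a, b, c⟩ <;> rw [a, b, c] <;> simp
      rw [h8wordU_three]
      have c1 := hcomm _ hmem.1 t
      have c2 := hcomm _ hmem.2.1 (t ^ q)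
      have c3 := hcomm _ hmem.2.2 (t ^ (q ^ 2))
      rw [← mul_assoc, ← mul_assoc, c1, mul_assoc (h8xU chevD4 hB rs.1 t), c2, mul_assoc,
        mul_assoc, c3]
      simp only [mul_assoc]
  obtain ⟨hsimp, hnc⟩ := h8twD4_simple hq hKc
  have := h8center_trivial hsimp hnc ⟨z, hzG⟩ (fun g => Subtype.ext (hcent g.val g.2))
  exact congrArg Subtype.val this

/-- `|H ∩ ³D₄(q)| = (q - 1)² (q² + q + 1)` -/
theorem h8twD4_H_card [Fintype K] {q : ℕ} (hq : IsPrimePow q) (hKc : Fintype.card K = q ^ 3) :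
    Nat.card ↥(chevD4.diagonalSubgroup K ⊓ twistedD4 K q) = (q - 1) ^ 2 * (q ^ 2 + q + 1) := by
  classical
  have hD : chevD4 ∈ [chevG2, chevB2, chevD4, chevF4, chevE6, chevE7, chevE8] := by simp
  have hB := h8base_all.{u} chevD4 hD
  have hA := h8reflAll chevD4 hD
  have hC := h8commAll.{u} chevD4 hD
  have hW := h8bn2_all chevD4 hD
  obtain ⟨f, hf, hfff3, hneg⟩ := h8frob_exists hq 3 (by norm_num) hKc
  have hfff : ∀ t, f (f (f t)) = t := fun t => hfff3 t
  have hq1 : 1 < q := hq.one_lt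
  have hfc : Nat.card {c : K // f c = c} = q :=
    h8frob_fix_card hq1 (by norm_num) hKc f hf hfff3
  have hfixG := h8twD4_fix hB hC hA q f hf hfff
  obtain ⟨s18, s13, s12, s14, n18, n13, n12, n14, k1, k2, k3, k4, k5, k6, k7, k8⟩ := h8hD4_data
  have l18 : 18 < chevD4.nroots := by decide
  have l13 : 13 < chevD4.nroots := by decide
  have l12 : 12 < chevD4.nroots := by decide
  have l14 : 14 < chevD4.nroots := by decide
  rw [h8KF_eq chevD4 hA.ca _ _ l18] at k1 k2 k3 k4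
  rw [h8KF_eq chevD4 hA.ca _ _ l14] at k5 k6 k7 k8
  have hf2 : ∀ t : K, t ^ (q ^ 2) = f (f t) := fun t => by rw [hf, hf, ← pow_mul, sq]
  -- generators
  have hx1 : ∀ r ∈ [14, 9], ∀ t : K, f t = t → h8xU chevD4 hB r t ∈ twistedD4 K q :=
    fun r hr t ht => h8twD4_x1 hB q r hr t (by rw [← hf, ht])
  have hx3 : ∀ p ∈ [(18, 13, 12), (5, 10, 11)], ∀ t : K,
      h8xU chevD4 hB p.1 t * h8xU chevD4 hB p.2.1 (f t) * h8xU chevD4 hB p.2.2 (f (f t)) ∈
        twistedD4 K q := by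
    intro p hp t
    rw [← hf2, hf]
    exact h8twD4_x3 hB q p.1 p.2.1 p.2.2 hp t
  -- the torus elements
  have hh14 : ∀ a : K, f a = a → h8hU chevD4 hB 14 a ∈ twistedD4 K q := by
    apply h8tw_h1_mem chevD4 hB (twistedD4 K q) f 14 (hx1 14 (by simp))
    rw [n14]
    exact hx1 9 (by simp)
  have hhJ : ∀ c : K, c ≠ 0 → h8hU chevD4 hB 18 c * h8hU chevD4 hB 13 (f c) *
      h8hU chevD4 hB 12 (f (f c)) ∈ twistedD4 K q := by
    obtain ⟨h1, h2, h3, h4, h5, h6, h7⟩ := h8pD4_tor (18, 13, 12) (by simp)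
    dsimp only at h1 h2 h3 h4 h5 h6 h7
    have hcm : ∀ x ∈ [(18, 13), (18, 12), (13, 12)],
        ∀ a ∈ [x.1, chevD4.negIdx.getD x.1 0], ∀ b ∈ [x.2, chevD4.negIdx.getD x.2 0],
        ∀ t u : K, Commute (h8xU chevD4 hB a t) (h8xU chevD4 hB b u) := by
      intro x hx a ha b hb t u
      obtain ⟨k1, k2, k3, k4, k5⟩ := h4 x hx a ha b hb
      exact h8xU_commute chevD4 hB hC a b k2 k3 k4 k5 k1 t u
    have c12 := hcm (18, 13) (by simp)
    have c13 := hcm (18, 12) (by simp)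
    have c23 := hcm (13, 12) (by simp)
    dsimp only at c12 c13 c23
    have hP := hx3 (18, 13, 12) (by simp)
    have hM := hx3 _ h7
    dsimp only at hP hM
    exact h8tw_hJ3_mem chevD4 hB (twistedD4 K q) f 18 13 12 c12 c13 c23 hP hM
  -- the characters of the torus elements
  have hchi : ∀ (c a : K), c ≠ 0 → a ≠ 0 → ∀ r < chevD4.nroots,
      h8chi chevD4 hB (h8hU chevD4 hB 18 c * h8hU chevD4 hB 13 (f c) *
        h8hU chevD4 hB 12 (f (f c)) * h8hU chevD4 hB 14 a) r =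
      c ^ (h8K chevD4 18 r) * (f c) ^ (h8K chevD4 13 r) * (f (f c)) ^ (h8K chevD4 12 r) *
        a ^ (h8K chevD4 14 r) := by
    intro c a hc ha r hr
    have hfc0 : f c ≠ 0 := (map_ne_zero f).mpr hc
    have hffc0 : f (f c) ≠ 0 := (map_ne_zero f).mpr hfc0
    have m1 := h8hU_mem_H chevD4 hB 18 l18 c hc
    have m2 := h8hU_mem_H chevD4 hB 13 l13 (f c) hfc0
    have m3 := h8hU_mem_H chevD4 hB 12 l12 (f (f c)) hffc0
    have m4 := h8hU_mem_H chevD4 hB 14 l14 a ha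
    rw [h8chi_mul chevD4 hB hA hW _ _ (Subgroup.mul_mem _ (Subgroup.mul_mem _ m1 m2) m3) m4 r hr,
      h8chi_mul chevD4 hB hA hW _ _ (Subgroup.mul_mem _ m1 m2) m3 r hr,
      h8chi_mul chevD4 hB hA hW _ _ m1 m2 r hr,
      h8chi_hU chevD4 hB hA hW 18 l18 c hc r hr, h8chi_hU chevD4 hB hA hW 13 l13 _ hfc0 r hr,
      h8chi_hU chevD4 hB hA hW 12 l12 _ hffc0 r hr, h8chi_hU chevD4 hB hA hW 14 l14 a ha r hr]
  -- the upper bound
  have hup : Nat.card ↥(chevD4.diagonalSubgroup K ⊓ twistedD4 K q) ≤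
      Nat.card ({x : K // x ≠ 0} × {y : K // y ≠ 0 ∧ f y = y}) := by
    apply Nat.card_le_card_of_injective
      (fun k : ↥(chevD4.diagonalSubgroup K ⊓ twistedD4 K q) =>
        ((⟨h8chi chevD4 hB k.val 18, (h8chi_spec chevD4 hB k.val k.2.1 18 l18).1⟩ :
          {x : K // x ≠ 0}),
        (⟨h8chi chevD4 hB k.val 14, (h8chi_spec chevD4 hB k.val k.2.1 14 l14).1, by
          have := h8chi_sig chevD4 hB hA hW h8sD4 h8tD4 h8pD4 h8qD4 h8eD4 (h8autD4 hA) f k.val
            k.2.1 (hfixG _ k.2.2) 14 l14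
          rw [s14] at this
          exact this.symm⟩ : {y : K // y ≠ 0 ∧ f y = y})))
    intro k k' hkk
    simp only [Prod.mk.injEq, Subtype.mk.injEq] at hkk
    obtain ⟨e18, e14⟩ := hkk
    have hz : k.val⁻¹ * k'.val = 1 := by
      apply h8twD4_H_inj hq hKc hB _ (Subgroup.mul_mem _ (Subgroup.inv_mem _ k.2.1) k'.2.1)
        (Subgroup.mul_mem _ (Subgroup.inv_mem _ k.2.2) k'.2.2)
      · rw [h8chi_mul chevD4 hB hA hW _ _ (Subgroup.inv_mem _ k.2.1) k'.2.1 18 l18,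
          h8chi_inv chevD4 hB hA hW _ k.2.1 18 l18, e18,
          inv_mul_cancel₀ (h8chi_spec chevD4 hB k'.val k'.2.1 18 l18).1]
      · rw [h8chi_mul chevD4 hB hA hW _ _ (Subgroup.inv_mem _ k.2.1) k'.2.1 14 l14,
          h8chi_inv chevD4 hB hA hW _ k.2.1 14 l14, e14,
          inv_mul_cancel₀ (h8chi_spec chevD4 hB k'.val k'.2.1 14 l14).1]
    exact Subtype.ext (inv_mul_eq_one.mp hz)
  -- the lower bound
  have hlow : Nat.card ({x : K // x ≠ 0} × {y : K // y ≠ 0 ∧ f y = y}) ≤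
      Nat.card ↥(chevD4.diagonalSubgroup K ⊓ twistedD4 K q) := by
    apply Nat.card_le_card_of_injective
      (fun p : {x : K // x ≠ 0} × {y : K // y ≠ 0 ∧ f y = y} =>
        (⟨h8hU chevD4 hB 18 p.1.val * h8hU chevD4 hB 13 (f p.1.val) *
          h8hU chevD4 hB 12 (f (f p.1.val)) * h8hU chevD4 hB 14 p.2.val,
          Subgroup.mul_mem _ (Subgroup.mul_mem _ (Subgroup.mul_mem _
            (h8hU_mem_H chevD4 hB 18 l18 _ p.1.2)
            (h8hU_mem_H chevD4 hB 13 l13 _ ((map_ne_zero f).mpr p.1.2)))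
            (h8hU_mem_H chevD4 hB 12 l12 _ ((map_ne_zero f).mpr ((map_ne_zero f).mpr p.1.2))))
            (h8hU_mem_H chevD4 hB 14 l14 _ p.2.2.1),
          Subgroup.mul_mem _ (hhJ _ p.1.2) (hh14 _ p.2.2.2)⟩ :
          ↥(chevD4.diagonalSubgroup K ⊓ twistedD4 K q)))
    rintro ⟨⟨c, hc⟩, ⟨a, ha, hfa⟩⟩ ⟨⟨c', hc'⟩, ⟨a', ha', hfa'⟩⟩ heq
    have heq' := congrArg Subtype.val heq
    simp only at heq'
    have e18 := congrArg (fun g => h8chi chevD4 hB g 18) heq'
    have e14 := congrArg (fun g => h8chi chevD4 hB g 14) heq'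
    beta_reduce at e18 e14
    rw [hchi c a hc ha 18 l18, hchi c' a' hc' ha' 18 l18, k1, k2, k3, k4] at e18
    rw [hchi c a hc ha 14 l14, hchi c' a' hc' ha' 14 l14, k5, k6, k7, k8] at e14
    simp only [zpow_zero, mul_one, zpow_neg, zpow_one] at e18 e14
    have hfc0 : f c ≠ 0 := (map_ne_zero f).mpr hc
    have hffc0 : f (f c) ≠ 0 := (map_ne_zero f).mpr hfc0
    have hfc0' : f c' ≠ 0 := (map_ne_zero f).mpr hc'
    have hffc0' : f (f c') ≠ 0 := (map_ne_zero f).mpr hfc0'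
    have hγ : c / c' = 1 := by
      apply h8d4_inj_aux f (c / c') (a / a') (div_ne_zero hc hc')
      · rw [map_div₀, hfa, hfa']
      · have : c ^ (2 : ℤ) * a⁻¹ = c' ^ (2 : ℤ) * a'⁻¹ := e18
        rw [zpow_ofNat, zpow_ofNat] at this
        field_simp
        field_simp at this
        linear_combination this
      · have : c⁻¹ * (f c)⁻¹ * (f (f c))⁻¹ * a ^ (2 : ℤ) =
            c'⁻¹ * (f c')⁻¹ * (f (f c'))⁻¹ * a' ^ (2 : ℤ) := e14
        rw [zpow_ofNat, zpow_ofNat] at this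
        rw [map_div₀, map_div₀]
        field_simp
        field_simp at this
        linear_combination this
    have hcc : c = c' := by
      have := (div_eq_one_iff_eq hc').mp hγ
      exact this
    subst hcc
    have haa : a = a' := by
      have : c ^ (2 : ℤ) * a⁻¹ = c ^ (2 : ℤ) * a'⁻¹ := e18
      have h2 : a⁻¹ = a'⁻¹ := mul_left_cancel₀ (zpow_ne_zero _ hc) this
      exact inv_injective h2
    subst haa
    rfl
  have hcard : Nat.card ({x : K // x ≠ 0} × {y : K // y ≠ 0 ∧ f y = y}) =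
      (q ^ 3 - 1) * (q - 1) := by
    rw [Nat.card_prod, h8card_ne_zero, hKc, h8card_fix_ne_zero f q hfc]
  rw [le_antisymm hup hlow, hcard]
  obtain ⟨m, rfl⟩ : ∃ m, q = m + 1 := ⟨q - 1, by omega⟩
  have e3 : (m + 1) ^ 3 - 1 = m * ((m + 1) ^ 2 + (m + 1) + 1) := by
    apply Nat.sub_eq_of_eq_add
    ring
  rw [e3, Nat.add_sub_cancel]
  ring

end Cfsg.Agent.Lib.helper8
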