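import Mathlib

set_option autoImplicit false

namespace Cfsg.Agent.Lib.helper8

/-- a system of elements of a group satisfying the relations of `SL₂(F)` -/
structure H8SL2Sys (F : Type*) (Γ : Type*) [Field F] [Group Γ] where
  X : F → Γ
  Y : F → Γ
  H : F → Γ
  w : Γ
  X_add : ∀ s t, X (s + t) = X s * X t
  Y_add : ∀ s t, Y (s + t) = Y s * Y t
  H_mul : ∀ s t, s ≠ 0 → t ≠ 0 → H (s * t) = H s * H t
  H_X : ∀ t u, t ≠ 0 → H t * X u * (H t)⁻¹ = X (t ^ 2 * u)
  w_Y : ∀ u, w * Y u * w⁻¹ = X (-u)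
  w_H : ∀ t, t ≠ 0 → w * H t * w⁻¹ = H t⁻¹
  w_sq : w * w = H (-1)
  W_eq : ∀ t, t ≠ 0 → X t * Y (-t⁻¹) * X t = H t * w

namespace H8SL2Sys

variable {F : Type*} {Γ : Type*} [Field F] [Group Γ] (S : H8SL2Sys F Γ)

theorem X_zero : S.X 0 = 1 := by
  have := S.X_add 0 0
  rw [add_zero] at this
  exact (mul_eq_left (a := S.X 0)).mp this.symm

theorem H_one : S.H 1 = 1 := by
  have := S.H_mul 1 1 one_ne_zero one_ne_zero
  rw [mul_one] at this
  exact (mul_eq_left (a := S.H 1)).mp this.symm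

theorem X_neg (u : F) : S.X (-u) = (S.X u)⁻¹ := by
  apply eq_inv_of_mul_eq_one_left
  rw [← S.X_add, neg_add_cancel, S.X_zero]

theorem r1 (t u : F) (ht : t ≠ 0) (z : Γ) : S.H t * (S.X u * z) = S.X (t ^ 2 * u) * (S.H t * z) := by
  rw [← S.H_X t u ht]
  group

theorem r2 (v : F) (z : Γ) : S.X v * (S.w * z) = S.w * (S.Y (-v) * z) := by
  have := S.w_Y (-v)
  rw [neg_neg] at this
  rw [← this]
  group

theorem r3 (t : F) (ht : t ≠ 0) (z : Γ) : S.H t * (S.w * z) = S.w * (S.H t⁻¹ * z) := by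
  have := S.w_H t⁻¹ (inv_ne_zero ht)
  rw [inv_inv] at this
  rw [← this]
  group

theorem r4 (t : F) (ht : t ≠ 0) (z : Γ) : S.w * (S.H t * (S.w * z)) = S.H (-t⁻¹) * z := by
  have h1 := S.w_H t ht
  have h2 : -t⁻¹ = t⁻¹ * (-1) := by ring
  rw [h2, S.H_mul _ _ (inv_ne_zero ht) (by norm_num), ← h1, ← S.w_sq]
  group

theorem r5 (v : F) (hv : v ≠ 0) :
    S.Y (-v) = S.X (-v⁻¹) * (S.H v⁻¹ * (S.w * S.X (-v⁻¹))) := by
  have := S.W_eq v⁻¹ (inv_ne_zero hv)
  rw [inv_inv] at this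
  rw [S.X_neg, ← mul_assoc (S.H v⁻¹), ← this]
  group

/-- the candidate homomorphism on the entries of a matrix -/
noncomputable def phi0 (a b c d : F) : Γ :=
  open Classical in
  if c = 0 then S.X (a * b) * S.H a else S.X (a / c) * (S.w * (S.H (-c) * S.X (d / c)))

theorem phi0_one : S.phi0 1 0 0 1 = 1 := by
  unfold phi0
  rw [if_pos rfl, mul_zero, S.X_zero, S.H_one, one_mul]

theorem step_x (a b c d t : F) (hdet : a * d - b * c = 1) :
    S.phi0 a (a * t + b) c (c * t + d) = S.phi0 a b c d * S.X t := by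
  unfold phi0
  by_cases hc : c = 0
  · subst hc
    have ha : a ≠ 0 := by
      rintro rfl
      simp at hdet
    have h1 := S.r1 a t ha 1
    rw [mul_one, mul_one] at h1
    rw [if_pos rfl, if_pos rfl, mul_assoc, h1, ← mul_assoc, ← S.X_add]
    congr 2
    ring
  · rw [if_neg hc, if_neg hc]
    have e : (c * t + d) / c = d / c + t := by field_simp; ring
    rw [e, S.X_add]
    simp only [mul_assoc]

theorem step_h (a b c d e : F) (he : e ≠ 0) (hdet : a * d - b * c = 1) :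
    S.phi0 (a * e) (b * e⁻¹) (c * e) (d * e⁻¹) = S.phi0 a b c d * S.H e := by
  unfold phi0
  by_cases hc : c = 0
  · subst hc
    have ha : a ≠ 0 := by
      rintro rfl
      simp at hdet
    have e1 : a * e * (b * e⁻¹) = a * b := by field_simp
    rw [if_pos (by simp), if_pos rfl, e1, S.H_mul a e ha he, mul_assoc]
  · have hce : c * e ≠ 0 := mul_ne_zero hc he
    rw [if_neg hce, if_neg hc]
    have e1 : a * e / (c * e) = a / c := by field_simp
    have e2 : -(c * e) = -c * e := by ring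
    have e3 : d * e⁻¹ / (c * e) = (e⁻¹) ^ 2 * (d / c) := by field_simp
    rw [e1, e2, S.H_mul (-c) e (neg_ne_zero.mpr hc) he, e3]
    have := S.r1 e⁻¹ (d / c) (inv_ne_zero he) (S.H e)
    have h1 : S.H e⁻¹ * S.H e = 1 := by
      rw [← S.H_mul _ _ (inv_ne_zero he) he, inv_mul_cancel₀ he, S.H_one]
    have h2 : S.H e * S.H e⁻¹ = 1 := by
      rw [← S.H_mul _ _ he (inv_ne_zero he), mul_inv_cancel₀ he, S.H_one]
    rw [h1, mul_one] at this
    rw [← this]
    simp only [mul_assoc]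
    rw [← mul_assoc (S.H e) (S.H e⁻¹), h2, one_mul]



theorem step_w (a b c d : F) (hdet : a * d - b * c = 1) :
    S.phi0 (-b) a (-d) c = S.phi0 a b c d * S.w := by
  unfold phi0
  by_cases hc : c = 0
  · subst hc
    have had : a * d = 1 := by linear_combination hdet
    have ha : a ≠ 0 := left_ne_zero_of_mul_eq_one had
    have hd : d ≠ 0 := right_ne_zero_of_mul_eq_one had
    have hda : d = a⁻¹ := eq_inv_of_mul_eq_one_right had
    rw [if_neg (neg_ne_zero.mpr hd), if_pos rfl]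
    have e1 : -b / -d = a * b := by rw [hda]; field_simp
    rw [e1, neg_neg, zero_div, S.X_zero, mul_one, mul_assoc]
    congr 1
    have := S.r3 a ha 1
    rw [mul_one, mul_one] at this
    rw [this, hda]
  · by_cases hd : d = 0
    · subst hd
      have hbc : b * c = -1 := by linear_combination -hdet
      have hb : -b = c⁻¹ := by
        field_simp
        linear_combination -hbc
      rw [if_pos neg_zero, if_neg hc, zero_div, S.X_zero, mul_one]
      have h4 := S.r4 (-c) (neg_ne_zero.mpr hc) 1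
      rw [mul_one, mul_one] at h4
      have e1 : -(-c)⁻¹ = c⁻¹ := by rw [inv_neg, neg_neg]
      rw [e1] at h4
      rw [mul_assoc, mul_assoc, h4, hb]
      congr 2
      field_simp
    · rw [if_neg (neg_ne_zero.mpr hd), if_neg hc]
      have hv : d / c ≠ 0 := div_ne_zero hd hc
      have h2 := S.r2 (d / c) 1
      rw [mul_one, mul_one] at h2
      have e1 : -(-c)⁻¹ = c⁻¹ := by rw [inv_neg, neg_neg]
      have hci : c⁻¹ ≠ 0 := inv_ne_zero hc
      have hvi : (d / c)⁻¹ ≠ 0 := inv_ne_zero hv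
      calc S.X (-b / -d) * (S.w * (S.H (- -d) * S.X (c / -d)))
          = S.X (a / c + c⁻¹ ^ 2 * -(d / c)⁻¹) *
              (S.w * (S.H (c⁻¹ * (d / c)⁻¹)⁻¹ * S.X (-(d / c)⁻¹))) := by
            have f1 : -b / -d = a / c + c⁻¹ ^ 2 * -(d / c)⁻¹ := by
              field_simp
              linear_combination (-1 : F) * hdet
            have f2 : - -d = (c⁻¹ * (d / c)⁻¹)⁻¹ := by field_simp
            have f3 : c / -d = -(d / c)⁻¹ := by field_simp
            rw [f1, f2, f3]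
        _ = S.X (a / c) * (S.X (c⁻¹ ^ 2 * -(d / c)⁻¹) *
              (S.H (c⁻¹ * (d / c)⁻¹) * (S.w * S.X (-(d / c)⁻¹)))) := by
            rw [S.X_add, mul_assoc, S.r3 _ (mul_ne_zero hci hvi)]
        _ = S.X (a / c) * (S.H c⁻¹ * (S.X (-(d / c)⁻¹) *
              (S.H (d / c)⁻¹ * (S.w * S.X (-(d / c)⁻¹))))) := by
            rw [S.H_mul _ _ hci hvi, mul_assoc, S.r1 _ _ hci]
        _ = S.X (a / c) * (S.H c⁻¹ * S.Y (-(d / c))) := by
            rw [← S.r5 _ hv]
        _ = S.X (a / c) * (S.w * (S.H (-c) * (S.w * S.Y (-(d / c))))) := by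
            rw [S.r4 _ (neg_ne_zero.mpr hc), e1]
        _ = S.X (a / c) * (S.w * (S.H (-c) * S.X (d / c))) * S.w := by
            rw [← h2]
            simp only [mul_assoc]



theorem phi0_mul (a b c d a' b' c' d' : F) (h : a * d - b * c = 1) (h' : a' * d' - b' * c' = 1) :
    S.phi0 (a * a' + b * c') (a * b' + b * d') (c * a' + d * c') (c * b' + d * d') =
      S.phi0 a b c d * S.phi0 a' b' c' d' := by
  by_cases hc' : c' = 0
  · subst hc'
    have had : a' * d' = 1 := by linear_combination h'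
    have ha' : a' ≠ 0 := left_ne_zero_of_mul_eq_one had
    have hda : d' = a'⁻¹ := eq_inv_of_mul_eq_one_right had
    have s1 := S.step_x a b c d (a' * b') h
    have s2 := S.step_h a (a * (a' * b') + b) c (c * (a' * b') + d) a' ha' (by linear_combination h)
    rw [s1] at s2
    have e : S.phi0 a' b' 0 d' = S.X (a' * b') * S.H a' := by
      unfold phi0
      rw [if_pos rfl]
    rw [e, ← mul_assoc, ← s2]
    congr 1
    · ring
    · rw [hda]; field_simp
    · ring
    · rw [hda]; field_simp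
  · have he : -c' ≠ 0 := neg_ne_zero.mpr hc'
    have s1 := S.step_x a b c d (a' / c') h
    have s2 := S.step_w a (a * (a' / c') + b) c (c * (a' / c') + d) (by linear_combination h)
    have s3 := S.step_h (-(a * (a' / c') + b)) a (-(c * (a' / c') + d)) c (-c') he
      (by linear_combination h)
    have s4 := S.step_x (-(a * (a' / c') + b) * -c') (a * (-c')⁻¹) (-(c * (a' / c') + d) * -c')
      (c * (-c')⁻¹) (d' / c') (by field_simp; linear_combination c' * h)
    rw [s3, s2, s1] at s4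
    have e : S.phi0 a' b' c' d' = S.X (a' / c') * (S.w * (S.H (-c') * S.X (d' / c'))) := by
      unfold phi0
      rw [if_neg hc']
    rw [e, ← mul_assoc, ← mul_assoc, ← mul_assoc, ← s4]
    congr 1
    · field_simp
    · field_simp
      linear_combination (-a) * h'
    · field_simp
    · field_simp
      linear_combination (-c) * h'

/-- the homomorphism from `SL₂(F)` -/
noncomputable def hom : Matrix.SpecialLinearGroup (Fin 2) F →* Γ where
  toFun g := S.phi0 (g 0 0) (g 0 1) (g 1 0) (g 1 1)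
  map_one' := by
    have : ((1 : Matrix.SpecialLinearGroup (Fin 2) F) : Matrix (Fin 2) (Fin 2) F) = 1 := rfl
    simp only [this, Matrix.one_apply_eq, ne_eq, zero_ne_one, not_false_eq_true,
      Matrix.one_apply_ne, one_ne_zero]
    exact S.phi0_one
  map_mul' g g' := by
    have hd : ∀ k : Matrix.SpecialLinearGroup (Fin 2) F, k 0 0 * k 1 1 - k 0 1 * k 1 0 = 1 := by
      intro k
      rw [← Matrix.det_fin_two]
      exact k.2
    have := S.phi0_mul (g 0 0) (g 0 1) (g 1 0) (g 1 1) (g' 0 0) (g' 0 1) (g' 1 0) (g' 1 1)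
      (hd g) (hd g')
    rw [← this]
    simp only [Matrix.SpecialLinearGroup.coe_mul, Matrix.mul_apply, Fin.sum_univ_two]

theorem hom_apply (g : Matrix.SpecialLinearGroup (Fin 2) F) :
    S.hom g = S.phi0 (g 0 0) (g 0 1) (g 1 0) (g 1 1) := rfl



theorem Y_zero : S.Y 0 = 1 := by
  have := S.Y_add 0 0
  rw [add_zero] at this
  exact (mul_eq_left (a := S.Y 0)).mp this.symm

theorem hom_upper (g : Matrix.SpecialLinearGroup (Fin 2) F) (t : F)
    (hg : (g : Matrix (Fin 2) (Fin 2) F) = !![1, t; 0, 1]) : S.hom g = S.X t := by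
  rw [hom_apply, hg]
  simp only [Matrix.of_apply, Matrix.cons_val', Matrix.cons_val_zero, Matrix.cons_val_one,
    Matrix.cons_val_fin_one]
  unfold phi0
  rw [if_pos rfl, one_mul, S.H_one, mul_one]

theorem hom_lower (g : Matrix.SpecialLinearGroup (Fin 2) F) (t : F)
    (hg : (g : Matrix (Fin 2) (Fin 2) F) = !![1, 0; t, 1]) : S.hom g = S.Y t := by
  rw [hom_apply, hg]
  simp only [Matrix.of_apply, Matrix.cons_val', Matrix.cons_val_zero, Matrix.cons_val_one,
    Matrix.cons_val_fin_one]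
  unfold phi0
  by_cases ht : t = 0
  · subst ht
    rw [if_pos rfl, mul_zero, S.X_zero, S.H_one, one_mul, S.Y_zero]
  · rw [if_neg ht]
    have h5 := S.r5 (-t) (neg_ne_zero.mpr ht)
    rw [neg_neg] at h5
    have e1 : -(-t)⁻¹ = 1 / t := by rw [inv_neg, neg_neg, one_div]
    have e2 : (-t)⁻¹ = (-t⁻¹) := by rw [inv_neg]
    rw [e1, e2] at h5
    rw [h5, S.r3 _ (neg_ne_zero.mpr (inv_ne_zero ht))]
    have e3 : (-t⁻¹)⁻¹ = -t := by rw [inv_neg, inv_inv]
    rw [e3]

theorem w_eq : S.w = S.X 1 * S.Y (-1) * S.X 1 := by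
  have := S.W_eq 1 one_ne_zero
  rw [inv_one, S.H_one, one_mul] at this
  exact this.symm

theorem hom_mem (K : Subgroup Γ) (hX : ∀ t, S.X t ∈ K) (hY : ∀ t, S.Y t ∈ K)
    (g : Matrix.SpecialLinearGroup (Fin 2) F) : S.hom g ∈ K := by
  have hw : S.w ∈ K := by
    rw [S.w_eq]
    exact K.mul_mem (K.mul_mem (hX _) (hY _)) (hX _)
  have hH : ∀ t, t ≠ 0 → S.H t ∈ K := by
    intro t ht
    have h1 := S.W_eq t ht
    have h2 : S.H t = S.X t * S.Y (-t⁻¹) * S.X t * S.w⁻¹ := by
      rw [h1, mul_inv_cancel_right]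
    rw [h2]
    exact K.mul_mem (K.mul_mem (K.mul_mem (hX _) (hY _)) (hX _)) (K.inv_mem hw)
  have hd : g 0 0 * g 1 1 - g 0 1 * g 1 0 = 1 := by
    rw [← Matrix.det_fin_two]
    exact g.2
  rw [hom_apply]
  unfold phi0
  by_cases hc : g 1 0 = 0
  · rw [if_pos hc]
    have ha : g 0 0 ≠ 0 := by
      intro h0
      rw [h0, hc] at hd
      simp at hd
    exact K.mul_mem (hX _) (hH _ ha)
  · rw [if_neg hc]
    exact K.mul_mem (hX _) (K.mul_mem hw (K.mul_mem (hH _ (neg_ne_zero.mpr hc)) (hX _)))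

end H8SL2Sys

variable {F : Type*} {Γ : Type*} [Field F] [Group Γ]

/-- the relation `w h(t) w⁻¹ = h(t⁻¹)` follows from the other relations of `SL₂` -/
theorem h8sl2_wH (X Y H : F → Γ) (w : Γ)
    (H_Y : ∀ t u, t ≠ 0 → H t * Y u * (H t)⁻¹ = Y ((t ^ 2)⁻¹ * u))
    (w_X : ∀ u, w * X u * w⁻¹ = Y (-u))
    (w_Y : ∀ u, w * Y u * w⁻¹ = X (-u))
    (W_eq : ∀ t, t ≠ 0 → X t * Y (-t⁻¹) * X t = H t * w) (t : F) (ht : t ≠ 0) :
    w * H t * w⁻¹ = H t⁻¹ := by
  have hc : ∀ s : F, s ≠ 0 → Y (-s⁻¹) * X s * Y (-s⁻¹) = H s * w := by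
    intro s hs
    have ha : (H s * w) * X s * (H s * w)⁻¹ = Y (-s⁻¹) := by
      have e : (H s * w) * X s * (H s * w)⁻¹ = H s * (w * X s * w⁻¹) * (H s)⁻¹ := by group
      rw [e, w_X, H_Y s _ hs]
      congr 1
      field_simp
    rw [← W_eq s hs] at ha
    have hb : X s * Y (-s⁻¹) * X s = Y (-s⁻¹) * X s * Y (-s⁻¹) := by
      have e : X s * Y (-s⁻¹) * X s =
          (X s * Y (-s⁻¹) * X s * X s * (X s * Y (-s⁻¹) * X s)⁻¹) * X s * Y (-s⁻¹) := by group
      rw [e, ha]
    rw [← hb, W_eq s hs]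
  have hd : w * (H t * w) * w⁻¹ = H t⁻¹ * w := by
    rw [← W_eq t ht]
    have e : w * (X t * Y (-t⁻¹) * X t) * w⁻¹ =
        (w * X t * w⁻¹) * (w * Y (-t⁻¹) * w⁻¹) * (w * X t * w⁻¹) := by group
    rw [e, w_X, w_Y, neg_neg]
    have := hc t⁻¹ (inv_ne_zero ht)
    rw [inv_inv] at this
    exact this
  have e : w * (H t * w) * w⁻¹ = w * H t := by group
  rw [e] at hd
  rw [hd, mul_inv_cancel_right]

end Cfsg.Agent.Lib.helper8
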