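import Mathlib
import Cfsg.Agent.Lib.helper8.ChevSLP1
import Cfsg.Agent.Lib.helper8.ChevReflAll
import Cfsg.Agent.Lib.helper8.ChevBaseAll
import Cfsg.Agent.Lib.helper8.ChevTabSC
import Cfsg.Agent.Lib.helper8.ChevBNAll
import Cfsg.Agent.Lib.helper8.ChevGen

set_option autoImplicit false

namespace Cfsg.Agent.Lib.helper8

open Cfsg.Lie Cfsg.Lie.ChevalleyDatum

universe u

variable {F : Type u} [Field F]

theorem h8cartan_simple (D : ChevalleyDatum)
    (hD : D ∈ [chevG2, chevB2, chevD4, chevF4, chevE6, chevE7, chevE8]) :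
    ∀ i < D.rank, D.cartan i (D.simple i) = 2 := by
  simp only [List.mem_cons, List.not_mem_nil, or_false] at hD
  rcases hD with rfl | rfl | rfl | rfl | rfl | rfl | rfl <;> decide +kernel

section
variable (D : ChevalleyDatum) (hB : H8Base.{u} D) (hA : H8ReflAll D) (hsc : h8scChk D = true)
  (hc2 : ∀ i < D.rank, D.cartan i (D.simple i) = 2) (i : ℕ) (hi : i < D.rank)

theorem h8slp_Hmul (r : ℕ) (hr : r < D.nroots) (s t : F) (hs : s ≠ 0) (ht : t ≠ 0) :
    h8hU D hB r (s * t) = h8hU D hB r s * h8hU D hB r t := by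
  apply Units.ext
  rw [Units.val_mul, h8hU_val, h8hU_val, h8hU_val, hB.hdiag F r hr s hs, hB.hdiag F r hr t ht,
    hB.hdiag F r hr (s * t) (mul_ne_zero hs ht), Matrix.diagonal_mul_diagonal]
  congr 1
  funext c
  unfold h8dvec
  rcases c with j | v
  · simp
  · simp [mul_zpow]

include hsc hc2 hi in
theorem h8slp_HX (t u : F) (ht : t ≠ 0) :
    h8hU D hB (D.simple i) t * h8xU D hB (D.simple i) u * (h8hU D hB (D.simple i) t)⁻¹ =
      h8xU D hB (D.simple i) (t ^ 2 * u) := by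
  have hp := (h8scChk_spec D hsc i hi).1
  rw [mul_inv_eq_iff_eq_mul]
  apply Units.ext
  rw [Units.val_mul, Units.val_mul, h8hU_val, h8xU_val, h8xU_val,
    h8hMat_conj_x D hB.ca (D.simple i) (D.simple i) hp t ht u (hB.hdiag F _ hp t ht),
    h8K_simple D hsc i hi, hc2 i hi, zpow_ofNat]

include hsc hc2 hi in
theorem h8slp_HY (t u : F) (ht : t ≠ 0) :
    h8hU D hB (D.simple i) t * h8xU D hB (D.negIdx.getD (D.simple i) 0) u *
      (h8hU D hB (D.simple i) t)⁻¹ =
      h8xU D hB (D.negIdx.getD (D.simple i) 0) ((t ^ 2)⁻¹ * u) := by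
  have hp := (h8scChk_spec D hsc i hi).1
  have hq := hB.ca.neg_lt _ hp
  rw [mul_inv_eq_iff_eq_mul]
  apply Units.ext
  rw [Units.val_mul, Units.val_mul, h8hU_val, h8xU_val, h8xU_val,
    h8hMat_conj_x D hB.ca (D.simple i) _ hq t ht u (hB.hdiag F _ hp t ht),
    h8K_neg D hB.ca _ _ hp, h8K_simple D hsc i hi, hc2 i hi]
  have : t ^ (-2 : ℤ) = (t ^ 2)⁻¹ := by
    rw [zpow_neg, zpow_ofNat]
  rw [this]

include hA hsc hi in
theorem h8slp_wX (u : F) :
    h8nU D hB (D.simple i) 1 * h8xU D hB (D.simple i) u * (h8nU D hB (D.simple i) (1 : F))⁻¹ =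
      h8xU D hB (D.negIdx.getD (D.simple i) 0) (-u) := by
  have hp := (h8scChk_spec D hsc i hi).1
  obtain ⟨eta, hN, hE, hRc⟩ := hA.refl i hi
  have h1 := h8n_simple_conj (F := F) D i hi eta hN hE hA.ce hA.ca hRc _ hp u
  rw [(h8eta_of_chk D i eta hE).2.1, h8reflectRoot_simple] at h1
  rw [mul_inv_eq_iff_eq_mul]
  apply Units.ext
  rw [Units.val_mul, Units.val_mul, h8nU_val, h8xU_val, h8xU_val, h1]
  congr 2
  push_cast
  ring

include hA hsc hi in
theorem h8slp_wY (u : F) :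
    h8nU D hB (D.simple i) 1 * h8xU D hB (D.negIdx.getD (D.simple i) 0) u *
      (h8nU D hB (D.simple i) (1 : F))⁻¹ = h8xU D hB (D.simple i) (-u) := by
  have hp := (h8scChk_spec D hsc i hi).1
  have hq := hB.ca.neg_lt _ hp
  obtain ⟨eta, hN, hE, hRc⟩ := hA.refl i hi
  have hR := h8reflChk_spec D i hi eta hN hE hA.ce hA.ca hRc
  have h1 := h8n_simple_conj (F := F) D i hi eta hN hE hA.ce hA.ca hRc _ hq u
  have e1 : D.reflectRoot i (D.negIdx.getD (D.simple i) 0) = D.simple i := by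
    have := hR.invol _ hp
    rwa [h8reflectRoot_simple] at this
  have e2 : eta.getD (D.negIdx.getD (D.simple i) 0) 0 = -1 := (h8eta_of_chk D i eta hE).2.2.1
  rw [e1, e2] at h1
  rw [mul_inv_eq_iff_eq_mul]
  apply Units.ext
  rw [Units.val_mul, Units.val_mul, h8nU_val, h8xU_val, h8xU_val, h1]
  congr 2
  push_cast
  ring

theorem h8slp_wsq (r : ℕ) (hr : r < D.nroots) :
    h8nU D hB r (1 : F) * h8nU D hB r 1 = h8hU D hB r (-1) := by
  have h1 : h8hU D hB r (-1 : F) = h8nU D hB r (-1) * h8nU D hB r (-1) := by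
    unfold h8hU ChevalleyDatum.hWord
    rw [h8wordU_append]
    rfl
  have h2 : h8nU D hB r (1 : F) * h8nU D hB r 1 = (h8hU D hB r (-1 : F))⁻¹ := by
    rw [h1, h8nU_neg, mul_inv_rev, inv_inv]
  have h3 : h8hU D hB r (-1 : F) * h8hU D hB r (-1) = 1 := by
    rw [← h8slp_Hmul D hB r hr (-1) (-1) (by norm_num) (by norm_num)]
    have : (-1 : F) * -1 = 1 := by ring
    rw [this]
    have h4 := h8slp_Hmul D hB r hr (1 : F) 1 one_ne_zero one_ne_zero
    rw [mul_one] at h4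
    exact (mul_eq_left (a := h8hU D hB r (1 : F))).mp h4.symm
  rw [h2]
  exact inv_eq_of_mul_eq_one_left h3

theorem h8slp_W (r : ℕ) (t : F) :
    h8xU D hB r t * h8xU D hB (D.negIdx.getD r 0) (-t⁻¹) * h8xU D hB r t =
      h8hU D hB r t * h8nU D hB r 1 := by
  rw [← h8nU_eq, h8nU_eq_hU]

end

end Cfsg.Agent.Lib.helper8
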