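import Mathlib
import Cfsg.Agent.Lib.helper8.ChevSLP2
import Cfsg.Agent.Lib.helper8.ChevOrbAll

set_option autoImplicit false

namespace Cfsg.Agent.Lib.helper8

open Cfsg.Lie Cfsg.Lie.ChevalleyDatum

universe u

variable {F : Type u} [Field F]

/-- the system of `SL₂`-relations of a simple root -/
noncomputable def h8slpSys (D : ChevalleyDatum) (hB : H8Base.{u} D) (hA : H8ReflAll D)
    (hsc : h8scChk D = true) (hc2 : ∀ i < D.rank, D.cartan i (D.simple i) = 2) (i : ℕ)
    (hi : i < D.rank) : H8SL2Sys F (GL D.Idx F) where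
  X t := h8xU D hB (D.simple i) t
  Y t := h8xU D hB (D.negIdx.getD (D.simple i) 0) t
  H t := h8hU D hB (D.simple i) t
  w := h8nU D hB (D.simple i) 1
  X_add s t := (h8xU_add D hB _ (h8scChk_spec D hsc i hi).1 s t).symm
  Y_add s t := (h8xU_add D hB _ (hB.ca.neg_lt _ (h8scChk_spec D hsc i hi).1) s t).symm
  H_mul s t hs ht := h8slp_Hmul D hB _ (h8scChk_spec D hsc i hi).1 s t hs ht
  H_X t u ht := h8slp_HX D hB hsc hc2 i hi t u ht
  w_Y u := h8slp_wY D hB hA hsc i hi u
  w_H t ht := h8sl2_wH (fun t => h8xU D hB (D.simple i) t)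
    (fun t => h8xU D hB (D.negIdx.getD (D.simple i) 0) t) (fun t => h8hU D hB (D.simple i) t)
    (h8nU D hB (D.simple i) 1) (fun t u ht => h8slp_HY D hB hsc hc2 i hi t u ht)
    (fun u => h8slp_wX D hB hA hsc i hi u) (fun u => h8slp_wY D hB hA hsc i hi u)
    (fun t _ => h8slp_W D hB _ t) t ht
  w_sq := h8slp_wsq D hB _ (h8scChk_spec D hsc i hi).1
  W_eq t _ := h8slp_W D hB _ t

/-- there is a homomorphism from `SL₂(F)` onto the group generated by `X_r` and `X_{-r}` -/
def H8SLHom (D : ChevalleyDatum) (hB : H8Base.{u} D) (F : Type u) [Field F] (r : ℕ) : Prop :=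
  ∃ φ : Matrix.SpecialLinearGroup (Fin 2) F →* GL D.Idx F,
    (∀ K : Subgroup (GL D.Idx F), (∀ t, h8xU D hB r t ∈ K) →
      (∀ t, h8xU D hB (D.negIdx.getD r 0) t ∈ K) → ∀ g, φ g ∈ K) ∧
    (∀ (g : Matrix.SpecialLinearGroup (Fin 2) F) (t : F),
      (g : Matrix (Fin 2) (Fin 2) F) = !![1, t; 0, 1] → φ g = h8xU D hB r t) ∧
    (∀ (g : Matrix.SpecialLinearGroup (Fin 2) F) (t : F),
      (g : Matrix (Fin 2) (Fin 2) F) = !![1, 0; t, 1] → φ g = h8xU D hB (D.negIdx.getD r 0) t)

theorem h8slHom_simple (D : ChevalleyDatum) (hB : H8Base.{u} D) (hA : H8ReflAll D)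
    (hsc : h8scChk D = true) (hc2 : ∀ i < D.rank, D.cartan i (D.simple i) = 2) (i : ℕ)
    (hi : i < D.rank) : H8SLHom D hB F (D.simple i) := by
  refine ⟨(h8slpSys (F := F) D hB hA hsc hc2 i hi).hom, ?_, ?_, ?_⟩
  · intro K hX hY g
    exact (h8slpSys (F := F) D hB hA hsc hc2 i hi).hom_mem K hX hY g
  · intro g t hg
    exact (h8slpSys (F := F) D hB hA hsc hc2 i hi).hom_upper g t hg
  · intro g t hg
    exact (h8slpSys (F := F) D hB hA hsc hc2 i hi).hom_lower g t hg

/-- the twist of `SL₂(F)` by a sign -/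
def h8slTwist (η : F) (hη : η * η = 1) :
    Matrix.SpecialLinearGroup (Fin 2) F →* Matrix.SpecialLinearGroup (Fin 2) F where
  toFun g := ⟨!![g 0 0, η * g 0 1; η * g 1 0, g 1 1], by
    have hd : g 0 0 * g 1 1 - g 0 1 * g 1 0 = 1 := by
      rw [← Matrix.det_fin_two]
      exact g.2
    rw [Matrix.det_fin_two_of]
    linear_combination hd - (g 0 1 * g 1 0) * hη⟩
  map_one' := by
    apply Subtype.ext
    have : ((1 : Matrix.SpecialLinearGroup (Fin 2) F) : Matrix (Fin 2) (Fin 2) F) = 1 := rfl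
    ext a b
    fin_cases a <;> fin_cases b <;> simp
  map_mul' g g' := by
    apply Subtype.ext
    show (!![(g * g') 0 0, η * (g * g') 0 1; η * (g * g') 1 0, (g * g') 1 1] :
      Matrix (Fin 2) (Fin 2) F) = !![g 0 0, η * g 0 1; η * g 1 0, g 1 1] *
        !![g' 0 0, η * g' 0 1; η * g' 1 0, g' 1 1]
    rw [Matrix.SpecialLinearGroup.coe_mul]
    ext a b
    fin_cases a <;> fin_cases b
    · simp only [Matrix.mul_apply, Fin.sum_univ_two, Fin.zero_eta, Fin.isValue, Matrix.of_apply,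
        Matrix.cons_val', Matrix.cons_val_zero, Matrix.cons_val_fin_one, Matrix.cons_val_one]
      linear_combination (-(g.1 0 1 * g'.1 1 0)) * hη
    · simp only [Matrix.mul_apply, Fin.sum_univ_two, Fin.zero_eta, Fin.mk_one, Fin.isValue,
        Matrix.of_apply, Matrix.cons_val', Matrix.cons_val_zero, Matrix.cons_val_fin_one,
        Matrix.cons_val_one]
      ring
    · simp only [Matrix.mul_apply, Fin.sum_univ_two, Fin.zero_eta, Fin.mk_one, Fin.isValue,
        Matrix.of_apply, Matrix.cons_val', Matrix.cons_val_zero, Matrix.cons_val_fin_one,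
        Matrix.cons_val_one]
      ring
    · simp only [Matrix.mul_apply, Fin.sum_univ_two, Fin.mk_one, Fin.isValue, Matrix.of_apply,
        Matrix.cons_val', Matrix.cons_val_zero, Matrix.cons_val_fin_one, Matrix.cons_val_one]
      linear_combination (-(g.1 1 0 * g'.1 0 1)) * hη

theorem h8slTwist_val (η : F) (hη : η * η = 1) (g : Matrix.SpecialLinearGroup (Fin 2) F) :
    ((h8slTwist η hη g : Matrix.SpecialLinearGroup (Fin 2) F) : Matrix (Fin 2) (Fin 2) F) =
      !![g 0 0, η * g 0 1; η * g 1 0, g 1 1] := rfl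


/-- conjugation by a fixed element as a homomorphism -/
def h8conjHom {G : Type*} [Group G] (n : G) : G →* G where
  toFun x := n * x * n⁻¹
  map_one' := by simp
  map_mul' a b := by group

theorem h8slHom_refl (D : ChevalleyDatum) (hB : H8Base.{u} D) (hA : H8ReflAll D) (i : ℕ)
    (hi : i < D.rank) (r : ℕ) (hr : r < D.nroots)
    (h : H8SLHom D hB F (D.reflectRoot i r)) : H8SLHom D hB F r := by
  obtain ⟨eta, hN, hE, hRc⟩ := hA.refl i hi
  have hR := h8reflChk_spec D i hi eta hN hE hA.ce hA.ca hRc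
  have hs : D.reflectRoot i r < D.nroots := hR.lt r hr
  have hns : D.negIdx.getD (D.reflectRoot i r) 0 < D.nroots := hR.neglt _ hs
  obtain ⟨he1, _, _, he4⟩ := h8eta_of_chk D i eta hE
  have hη1 : eta.getD (D.reflectRoot i r) 0 = 1 ∨ eta.getD (D.reflectRoot i r) 0 = -1 :=
    he1 _ hs
  have hη2 : eta.getD (D.negIdx.getD (D.reflectRoot i r) 0) 0 =
      eta.getD (D.reflectRoot i r) 0 :=
    (h8eta_eq_of_mul _ _ hη1 (he1 _ hns) (he4 _ hs).2).symm
  have hηF : ((eta.getD (D.reflectRoot i r) 0 : ℤ) : F) *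
      ((eta.getD (D.reflectRoot i r) 0 : ℤ) : F) = 1 := h8eta_sq _ hη1
  have c1 : ∀ t : F, h8nU D hB (D.simple i) 1 * h8xU D hB (D.reflectRoot i r) t *
      (h8nU D hB (D.simple i) (1 : F))⁻¹ =
      h8xU D hB r (((eta.getD (D.reflectRoot i r) 0 : ℤ) : F) * t) := by
    intro t
    have h1 := h8n_simple_conj (F := F) D i hi eta hN hE hA.ce hA.ca hRc _ hs t
    rw [hR.invol r hr] at h1
    rw [mul_inv_eq_iff_eq_mul]
    apply Units.ext
    rw [Units.val_mul, Units.val_mul, h8nU_val, h8xU_val, h8xU_val, h1]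
  have c2 : ∀ t : F, h8nU D hB (D.simple i) 1 *
      h8xU D hB (D.negIdx.getD (D.reflectRoot i r) 0) t *
      (h8nU D hB (D.simple i) (1 : F))⁻¹ =
      h8xU D hB (D.negIdx.getD r 0) (((eta.getD (D.reflectRoot i r) 0 : ℤ) : F) * t) := by
    intro t
    have h1 := h8n_simple_conj (F := F) D i hi eta hN hE hA.ce hA.ca hRc _ hns t
    rw [hR.negc _ hs, hR.invol r hr, hη2] at h1
    rw [mul_inv_eq_iff_eq_mul]
    apply Units.ext
    rw [Units.val_mul, Units.val_mul, h8nU_val, h8xU_val, h8xU_val, h1]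
  obtain ⟨φ, hK, hup, hlo⟩ := h
  refine ⟨(h8conjHom (h8nU D hB (D.simple i) (1 : F))).comp
    (φ.comp (h8slTwist _ hηF)), ?_, ?_, ?_⟩
  · intro K hX hY g
    have := hK (K.comap (h8conjHom (h8nU D hB (D.simple i) (1 : F))))
      (fun t => by
        rw [Subgroup.mem_comap]
        show h8nU D hB (D.simple i) 1 * _ * (h8nU D hB (D.simple i) (1 : F))⁻¹ ∈ K
        rw [c1]
        exact hX _)
      (fun t => by
        rw [Subgroup.mem_comap]
        show h8nU D hB (D.simple i) 1 * _ * (h8nU D hB (D.simple i) (1 : F))⁻¹ ∈ K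
        rw [c2]
        exact hY _) (h8slTwist _ hηF g)
    exact this
  · intro g t hg
    show h8nU D hB (D.simple i) 1 * φ (h8slTwist _ hηF g) *
      (h8nU D hB (D.simple i) (1 : F))⁻¹ = _
    have hτ : ((h8slTwist _ hηF g : Matrix.SpecialLinearGroup (Fin 2) F) :
        Matrix (Fin 2) (Fin 2) F) =
        !![1, ((eta.getD (D.reflectRoot i r) 0 : ℤ) : F) * t; 0, 1] := by
      rw [h8slTwist_val, hg]
      simp
    rw [hup _ _ hτ, c1, ← mul_assoc, hηF, one_mul]
  · intro g t hg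
    show h8nU D hB (D.simple i) 1 * φ (h8slTwist _ hηF g) *
      (h8nU D hB (D.simple i) (1 : F))⁻¹ = _
    have hτ : ((h8slTwist _ hηF g : Matrix.SpecialLinearGroup (Fin 2) F) :
        Matrix (Fin 2) (Fin 2) F) =
        !![1, 0; ((eta.getD (D.reflectRoot i r) 0 : ℤ) : F) * t, 1] := by
      rw [h8slTwist_val, hg]
      simp
    rw [hlo _ _ hτ, c2, ← mul_assoc, hηF, one_mul]

theorem h8slHom_all (D : ChevalleyDatum) (hB : H8Base.{u} D) (hA : H8ReflAll D)
    (hsc : h8scChk D = true) (hc2 : ∀ i < D.rank, D.cartan i (D.simple i) = 2)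
    (dep par : List ℕ) (h : h8orbChk D dep par = true) :
    ∀ r < D.nroots, H8SLHom D hB F r := by
  unfold h8orbChk at h
  simp only [Bool.and_eq_true, Bool.or_eq_true, decide_eq_true_eq, List.all_eq_true,
    List.any_eq_true, List.mem_range] at h
  obtain ⟨h256, h⟩ := h
  have key : ∀ n : ℕ, ∀ r < D.nroots, dep.getD r 0 = n → H8SLHom D hB F r := by
    intro n
    induction n using Nat.strong_induction_on with
    | _ n ih =>
      intro r hr hn'
      rcases h r hr with ⟨_, j, hj, hjr⟩ | ⟨i, hp, _, hd⟩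
      · rw [← hjr]
        exact h8slHom_simple D hB hA hsc hc2 j hj
      · obtain ⟨η, hR⟩ := h8reflAll_spec D hA i hp
        rw [h8sg_eq D _ hR.lt h256 r hr] at hd
        exact h8slHom_refl D hB hA i hp r hr (ih _ (hn' ▸ hd) _ (hR.lt r hr) rfl)
  intro r hr
  exact key _ r hr rfl


/-- the homomorphism of `SL₂(F)` onto `⟨X_r, X_{-r}⟩` -/
theorem h8sl2_main (D : ChevalleyDatum)
    (hD : D ∈ [chevG2, chevB2, chevD4, chevF4, chevE6, chevE7, chevE8]) (r : ℕ)
    (hr : r < D.nroots) :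
    ∃ φ : Matrix.SpecialLinearGroup (Fin 2) F →* GL D.Idx F,
      φ.range = D.rootSubgroup F r ⊔ D.rootSubgroup F (D.neg r) ∧
      ∀ (g : Matrix.SpecialLinearGroup (Fin 2) F) (t : F),
        ((g : Matrix (Fin 2) (Fin 2) F) = !![1, t; 0, 1] →
          ((φ g : GL D.Idx F) : Matrix D.Idx D.Idx F) = D.x F r t) ∧
        ((g : Matrix (Fin 2) (Fin 2) F) = !![1, 0; t, 1] →
          ((φ g : GL D.Idx F) : Matrix D.Idx D.Idx F) = D.x F (D.neg r) t) := by
  have hB := h8base_all.{u} D hD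
  have hA := h8reflAll D hD
  have hsc := h8scChk_all D hD
  have hc2 := h8cartan_simple D hD
  obtain ⟨dep, par, horb⟩ := h8orb_chk_all D hD
  obtain ⟨φ, hK, hup, hlo⟩ := h8slHom_all (F := F) D hB hA hsc hc2 dep par horb r hr
  have hneg : D.neg r = D.negIdx.getD r 0 := rfl
  refine ⟨φ, ?_, ?_⟩
  · apply le_antisymm
    · rintro g ⟨k, rfl⟩
      apply hK
      · intro t
        refine Subgroup.mem_sup_left ?_
        unfold ChevalleyDatum.rootSubgroup
        exact Subgroup.subset_closure ⟨t, h8xU_val D hB r t⟩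
      · intro t
        rw [← hneg]
        refine Subgroup.mem_sup_right ?_
        unfold ChevalleyDatum.rootSubgroup
        exact Subgroup.subset_closure ⟨t, h8xU_val D hB (D.neg r) t⟩
    · apply sup_le
      · unfold ChevalleyDatum.rootSubgroup
        rw [Subgroup.closure_le]
        rintro g ⟨t, hg⟩
        have e : g = h8xU D hB r t := Units.ext (by rw [hg, h8xU_val])
        rw [e]
        refine ⟨⟨!![1, t; 0, 1], by rw [Matrix.det_fin_two_of]; ring⟩, ?_⟩
        exact hup _ t rfl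
      · unfold ChevalleyDatum.rootSubgroup
        rw [Subgroup.closure_le]
        rintro g ⟨t, hg⟩
        have e : g = h8xU D hB (D.neg r) t := Units.ext (by rw [hg, h8xU_val])
        rw [e]
        refine ⟨⟨!![1, 0; t, 1], by rw [Matrix.det_fin_two_of]; ring⟩, ?_⟩
        exact hlo _ t rfl
  · intro g t
    constructor
    · intro hg
      rw [hup g t hg, h8xU_val]
    · intro hg
      rw [hlo g t hg, h8xU_val, hneg]

end Cfsg.Agent.Lib.helper8
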