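import Mathlib
import Cfsg.Prelude.Def_ChevStructure
import Cfsg.Prelude.Def_LieTwisted
import Cfsg.Agent.Lib.helper8.TD4.Defs
import Cfsg.Agent.Lib.helper8.ChevSLP3
import Cfsg.Agent.Lib.helper8.ChevReeC1
import Cfsg.Agent.Lib.helper8.ChevReflAll
import Cfsg.Agent.Lib.helper8.ChevBaseAll
import Cfsg.Agent.Lib.helper8.ChevOrbAll
import Cfsg.Agent.Lib.helper8.ChevTabSC
import Cfsg.Agent.Lib.helper8.ChevSLP2
import Cfsg.Agent.Lib.helper8.ChevBN2
import Cfsg.Agent.Lib.helper8.ChevUp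

/-! Project TD4 row C3 (`phi_beta`), verbatim vs `helper8/TD4/Skel.lean.txt`. -/

set_option autoImplicit false

namespace Cfsg.Agent.Lib.helper8.TD4

open Cfsg.Lie Cfsg.Lie.ChevalleyDatum Cfsg.Agent.Lib.helper8 Matrix

universe u v

section C

variable {E : Type v} [Field E] (hB : H8Base.{v} chevD4)

/-- `n_r(-1) = n_r(1)⁻¹` -/
theorem td4c3_nU_neg_one (r : ℕ) :
    h8nU chevD4 hB r (-1 : E) = (h8nU chevD4 hB r (1 : E))⁻¹ := by
  rw [h8nU_eq, h8nU_eq, _root_.mul_inv_rev, _root_.mul_inv_rev, h8xU_inv, h8xU_inv, mul_assoc]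
  simp

/-- C3. -/
theorem phi_beta : ∃ φ : Matrix.SpecialLinearGroup (Fin 2) E →* GL chevD4.Idx E,
    (∀ t, φ (h8slU t) = h8xU chevD4 hB 14 t) ∧ (∀ t, φ (h8slL t) = h8xU chevD4 hB 9 t) ∧
    φ h8slW = h8nU chevD4 hB 14 1 ∧ (∀ c : E, c ≠ 0 → φ (h8slD c) = h8hU chevD4 hB 14 c) := by
  have hD : chevD4 ∈ [chevG2, chevB2, chevD4, chevF4, chevE6, chevE7, chevE8] := by simp
  have hA := h8reflAll chevD4 hD
  have hsc := h8scChk_all chevD4 hD
  have hc2 := h8cartan_simple chevD4 hD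
  obtain ⟨dep, par, horb⟩ := h8orb_chk_all chevD4 hD
  obtain ⟨φ, -, hup, hlo⟩ := h8slHom_all (F := E) chevD4 hB hA hsc hc2 dep par horb 14 (by decide)
  have n14 : chevD4.negIdx.getD 14 0 = 9 := by decide
  rw [n14] at hlo
  have hU : ∀ t, φ (h8slU t) = h8xU chevD4 hB 14 t := fun t => hup _ t rfl
  have hL : ∀ t, φ (h8slL t) = h8xU chevD4 hB 9 t := fun t => hlo _ t rfl
  have hn : ∀ c : E, c ≠ 0 → φ (h8slD c * h8slW) = h8nU chevD4 hB 14 c := by
    intro c hc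
    rw [h8slD_eq c hc, map_mul, map_mul, hU, hL, h8nU_eq, n14]
  have hW : φ h8slW = h8nU chevD4 hB 14 1 := by
    have := hn 1 one_ne_zero
    rwa [h8slD_one, one_mul] at this
  refine ⟨φ, hU, hL, hW, fun c hc => ?_⟩
  have h1 := hn c hc
  rw [map_mul, hW] at h1
  have e : h8hU chevD4 hB 14 c = h8nU chevD4 hB 14 c * h8nU chevD4 hB 14 (-1) := by
    unfold h8hU ChevalleyDatum.hWord
    rw [h8wordU_append]
    rfl
  rw [e, td4c3_nU_neg_one, ← h1, mul_inv_cancel_right]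

end C

end Cfsg.Agent.Lib.helper8.TD4
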