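import Mathlib
import Cfsg.Prelude.Def_ChevStructure
import Cfsg.Agent.Lib.helper8.ChevOrd

set_option autoImplicit false

namespace Cfsg.Agent.Lib.helper8

open Cfsg.Lie Cfsg.Lie.ChevalleyDatum

universe u v

variable {K : Type u} [Field K] {Γ : Type v} [Group Γ]

/-- product of root elements along a word, for an abstract family `X` -/
def h8wX (X : ℕ → K → Γ) (w : List (ℕ × K)) : Γ := (w.map fun p => X p.1 p.2).prod

/-- an abstract family of root elements satisfying Steinberg's relations (A) and (B) -/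
structure H8Sys (D : ChevalleyDatum) (X : ℕ → K → Γ) : Prop where
  add : ∀ r < D.nroots, ∀ t u : K, X r t * X r u = X r (t + u)
  comm : ∀ r < D.nroots, ∀ s < D.nroots, s ≠ r → s ≠ D.negIdx.getD r 0 → ∀ t u : K,
    X s u * X r t = X r t * X s u * h8wX X (D.commWord K r s t u)

theorem h8wX_nil (X : ℕ → K → Γ) : h8wX X [] = 1 := rfl

theorem h8wX_cons (X : ℕ → K → Γ) (p : ℕ × K) (w : List (ℕ × K)) :
    h8wX X (p :: w) = X p.1 p.2 * h8wX X w := by
  unfold h8wX
  rw [List.map_cons, List.prod_cons]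

theorem h8wX_append (X : ℕ → K → Γ) (w1 w2 : List (ℕ × K)) :
    h8wX X (w1 ++ w2) = h8wX X w1 * h8wX X w2 := by
  unfold h8wX
  rw [List.map_append, List.prod_append]

theorem h8wX_mem (X : ℕ → K → Γ) (H : Subgroup Γ) (w : List (ℕ × K))
    (h : ∀ p ∈ w, X p.1 p.2 ∈ H) : h8wX X w ∈ H := by
  unfold h8wX
  apply Subgroup.list_prod_mem
  intro g hg
  rw [List.mem_map] at hg
  obtain ⟨q, hq, rfl⟩ := hg
  exact h q hq

section
variable {D : ChevalleyDatum} {X : ℕ → K → Γ}

theorem h8sys_zero (hS : H8Sys D X) (r : ℕ) (hr : r < D.nroots) : X r 0 = 1 := by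
  have := hS.add r hr 0 0
  rw [add_zero] at this
  exact mul_eq_left.mp this

theorem h8sys_inv (hS : H8Sys D X) (r : ℕ) (hr : r < D.nroots) (t : K) :
    (X r t)⁻¹ = X r (-t) := by
  rw [inv_eq_iff_mul_eq_one, hS.add r hr, add_neg_cancel, h8sys_zero hS r hr]

/-- generators `X r t` with `r` positive of index at least `k` -/
def h8VkS (D : ChevalleyDatum) (X : ℕ → K → Γ) (k : ℕ) : Set Γ :=
  {g : Γ | ∃ (r : ℕ) (t : K), D.IsPosRoot r ∧ k ≤ r ∧ g = X r t}

theorem h8sys_Vk_step_aux (hS : H8Sys D X) (hO : H8Ord D) (k : ℕ) (hk : D.IsPosRoot k) (l : ℕ)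
    (hl : D.IsPosRoot l) (hkl : k ≤ l) (c a : K) (v : Γ)
    (hv : v ∈ Subgroup.closure (h8VkS D X (k + 1))) :
    ∃ a' : K, ∃ v' ∈ Subgroup.closure (h8VkS D X (k + 1)), X l c * (X k a * v) = X k a' * v' := by
  rcases Nat.eq_or_lt_of_le hkl with rfl | hlt
  · exact ⟨c + a, v, hv, by rw [← mul_assoc, hS.add k hk.1]⟩
  · obtain ⟨hne, hterms⟩ := hO.comm k l hk hl hlt
    refine ⟨a, X l c * h8wX X (D.commWord K k l a c) * v, ?_, ?_⟩
    · apply Subgroup.mul_mem _ _ hv
      apply Subgroup.mul_mem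
      · apply Subgroup.subset_closure
        exact ⟨l, c, hl, by omega, rfl⟩
      · apply h8wX_mem
        intro q hq
        unfold ChevalleyDatum.commWord at hq
        rw [List.mem_map] at hq
        obtain ⟨cc, hcc, rfl⟩ := hq
        apply Subgroup.subset_closure
        exact ⟨cc.1, _, (hterms cc hcc).1, by have := (hterms cc hcc).2; omega, rfl⟩
    · have key := hS.comm k hk.1 l hl.1 (by omega) hne a c
      rw [← mul_assoc, key]
      simp only [mul_assoc]

theorem h8sys_Vk_step (hS : H8Sys D X) (hO : H8Ord D) (k : ℕ) (hk : D.IsPosRoot k) (g : Γ)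
    (hg : g ∈ Subgroup.closure (h8VkS D X k)) :
    ∃ a : K, ∃ v ∈ Subgroup.closure (h8VkS D X (k + 1)), g = X k a * v := by
  induction hg using Subgroup.closure_induction_left with
  | one =>
    refine ⟨0, 1, Subgroup.one_mem _, ?_⟩
    rw [h8sys_zero hS k hk.1, one_mul]
  | mul_left x hx y _ ih =>
    obtain ⟨a, v, hv, rfl⟩ := ih
    obtain ⟨l, c, hl, hkl, rfl⟩ := hx
    exact h8sys_Vk_step_aux hS hO k hk l hl hkl c a v hv
  | inv_mul_cancel x hx y _ ih =>
    obtain ⟨a, v, hv, rfl⟩ := ih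
    obtain ⟨l, c, hl, hkl, rfl⟩ := hx
    rw [h8sys_inv hS l hl.1]
    exact h8sys_Vk_step_aux hS hO k hk l hl hkl (-c) a v hv

/-- every element of the group generated by the positive root elements of index `≥ k` is an
ordered product -/
theorem h8sys_ord_exists (hS : H8Sys D X) (hO : H8Ord D) : ∀ (m k : ℕ), k + m = D.nroots →
    ∀ g : Γ, g ∈ Subgroup.closure (h8VkS D X k) → ∃ t : ℕ → K, g = h8wX X (h8ordW D k t) := by
  intro m
  induction m with
  | zero =>
    intro k hk g hg
    have hempty : h8VkS D X k = ∅ := by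
      ext x
      simp only [Set.mem_empty_iff_false, iff_false]
      rintro ⟨r, t, hr, hkr, _⟩
      have := hr.1
      omega
    rw [hempty, Subgroup.closure_empty, Subgroup.mem_bot] at hg
    refine ⟨fun _ => 0, ?_⟩
    have : h8Lk D k = [] := by
      unfold h8Lk
      have : D.nroots - k = 0 := by omega
      rw [this]
      rfl
    unfold h8ordW
    rw [this, hg]
    rfl
  | succ m ih =>
    intro k hk g hg
    by_cases hpos : D.IsPosRoot k
    · obtain ⟨a, v, hv, rfl⟩ := h8sys_Vk_step hS hO k hpos g hg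
      obtain ⟨t', rfl⟩ := ih (k + 1) (by omega) v hv
      refine ⟨Function.update t' k a, ?_⟩
      unfold h8ordW
      rw [h8Lk_pos D k hpos, List.map_cons, h8wX_cons]
      simp only [Function.update_self]
      congr 2
      apply List.map_congr_left
      intro r hr
      have := ((h8Lk_mem D (k + 1) r).mp hr).1
      rw [Function.update_of_ne (by omega)]
    · have hset : h8VkS D X k = h8VkS D X (k + 1) := by
        ext x
        constructor
        · rintro ⟨r, t, hr, hkr, hx⟩
          refine ⟨r, t, hr, ?_, hx⟩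
          rcases Nat.eq_or_lt_of_le hkr with rfl | h
          · exact absurd hr hpos
          · omega
        · rintro ⟨r, t, hr, hkr, hx⟩
          exact ⟨r, t, hr, by omega, hx⟩
      rw [hset] at hg
      obtain ⟨t, rfl⟩ := ih (k + 1) (by omega) g hg
      refine ⟨t, ?_⟩
      unfold h8ordW
      rw [h8Lk_not D k hpos]

end

end Cfsg.Agent.Lib.helper8
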