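import Mathlib
import Cfsg.Prelude.Def_ChevStructure
import Cfsg.Agent.Lib.helper8.ChevSt1

set_option autoImplicit false
set_option linter.unusedSectionVars false

namespace Cfsg.Agent.Lib.helper8

open Cfsg.Lie Cfsg.Lie.ChevalleyDatum

universe u v

variable {K : Type u} [Field K] {Γ : Type v} [Group Γ]
variable {D : ChevalleyDatum} {X : ℕ → K → Γ}

/-- generators `X s t` with `s` positive and different from `p` -/
def h8UpS (D : ChevalleyDatum) (X : ℕ → K → Γ) (p : ℕ) : Set Γ :=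
  {g : Γ | ∃ (s : ℕ) (t : K), D.IsPosRoot s ∧ s ≠ p ∧ g = X s t}

/-- the root subgroup of an abstract family -/
def h8XS (X : ℕ → K → Γ) (r : ℕ) : Set Γ := {g : Γ | ∃ t : K, g = X r t}

theorem h8sys_up_conj (hS : H8Sys D X) (p r : ℕ) (hr : r < D.nroots)
    (hrs : ∀ s, D.IsPosRoot s → s ≠ p → s ≠ r ∧ s ≠ D.negIdx.getD r 0 ∧
      h8upTermsOK D p (D.commTerms r s) = true) (t : K) (g : Γ) (hg : g ∈ h8UpS D X p) :
    (X r t)⁻¹ * g * X r t ∈ Subgroup.closure (h8UpS D X p) := by
  obtain ⟨s, u, hs, hsp, rfl⟩ := hg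
  obtain ⟨h1, h2, h3⟩ := hrs s hs hsp
  have key : (X r t)⁻¹ * X s u * X r t = X s u * h8wX X (D.commWord K r s t u) := by
    rw [mul_assoc, hS.comm r hr s hs.1 h1 h2 t u]
    group
  rw [key]
  apply Subgroup.mul_mem
  · apply Subgroup.subset_closure
    exact ⟨s, u, hs, hsp, rfl⟩
  · apply h8wX_mem
    intro q hq
    unfold ChevalleyDatum.commWord at hq
    rw [List.mem_map] at hq
    obtain ⟨c, hc, rfl⟩ := hq
    unfold h8upTermsOK at h3
    simp only [List.all_eq_true, Bool.and_eq_true, decide_eq_true_eq] at h3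
    apply Subgroup.subset_closure
    exact ⟨c.1, _, (h3 c hc).1, (h3 c hc).2, rfl⟩

theorem h8sys_mem_normalizer_up (hS : H8Sys D X) (p r : ℕ) (hr : r < D.nroots)
    (hrs : ∀ s, D.IsPosRoot s → s ≠ p → s ≠ r ∧ s ≠ D.negIdx.getD r 0 ∧
      h8upTermsOK D p (D.commTerms r s) = true) (t : K) :
    X r t ∈ Subgroup.normalizer (Subgroup.closure (h8UpS D X p) : Set Γ) := by
  apply h8_mem_normalizer_closure
  · intro g hg
    have := h8sys_up_conj hS p r hr hrs (-t) g hg
    rwa [← h8sys_inv hS r hr, inv_inv] at this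
  · intro g hg
    exact h8sys_up_conj hS p r hr hrs t g hg

/-- the simple root elements `X (±α_i) t` normalize the group generated by the other positive
root elements -/
theorem h8sys_up_main (hS : H8Sys D X) (i : ℕ)
    (hg : h8upGlob D i = true) (hrow : ∀ s < D.nroots, h8upRow D i s = true) :
    (∀ t : K, X (D.simple i) t ∈
      Subgroup.normalizer (Subgroup.closure (h8UpS D X (D.simple i)) : Set Γ)) ∧
    (∀ t : K, X (D.neg (D.simple i)) t ∈
      Subgroup.normalizer (Subgroup.closure (h8UpS D X (D.simple i)) : Set Γ)) := by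
  unfold h8upGlob at hg
  simp only [Bool.and_eq_true, decide_eq_true_eq] at hg
  obtain ⟨⟨hp, hnlt⟩, hnn⟩ := hg
  have hrow' : ∀ s, D.IsPosRoot s → s ≠ D.simple i → s ≠ D.neg (D.simple i) ∧
      h8upTermsOK D (D.simple i) (D.commTerms (D.simple i) s) = true ∧
      h8upTermsOK D (D.simple i) (D.commTerms (D.neg (D.simple i)) s) = true := by
    intro s hs hsp
    have h := hrow s hs.1
    unfold h8upRow at h
    simp only [Bool.or_eq_true, Bool.and_eq_true, Bool.not_eq_true', decide_eq_false_iff_not,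
      decide_eq_true_eq] at h
    rcases h with (h | h) | ⟨⟨h1, h2⟩, h3⟩
    · exact absurd hs h
    · exact absurd h hsp
    · exact ⟨h1, h2, h3⟩
  constructor
  · intro t
    apply h8sys_mem_normalizer_up hS _ _ hp.1
    intro s hs hsp
    obtain ⟨h1, h2, _⟩ := hrow' s hs hsp
    exact ⟨hsp, h1, h2⟩
  · intro t
    apply h8sys_mem_normalizer_up hS _ _ hnlt
    intro s hs hsp
    obtain ⟨h1, _, h3⟩ := hrow' s hs hsp
    refine ⟨h1, ?_, h3⟩
    have : D.negIdx.getD (D.neg (D.simple i)) 0 = D.simple i := hnn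
    rw [this]
    exact hsp

/-- `U = U_i · X_{α_i}` for an abstract family -/
theorem h8sys_up_decomp (hS : H8Sys D X) (i : ℕ)
    (hg : h8upGlob D i = true) (hrow : ∀ s < D.nroots, h8upRow D i s = true) (x : Γ)
    (hx : x ∈ Subgroup.closure (h8VkS D X 0)) :
    ∃ y ∈ Subgroup.closure (h8UpS D X (D.simple i)), ∃ a : K, x = y * X (D.simple i) a := by
  obtain ⟨hn1, _⟩ := h8sys_up_main hS i hg hrow
  unfold h8upGlob at hg
  simp only [Bool.and_eq_true, decide_eq_true_eq] at hg
  obtain ⟨⟨hp, _⟩, _⟩ := hg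
  have hle : Subgroup.closure (h8XS X (D.simple i)) ≤
      Subgroup.normalizer (Subgroup.closure (h8UpS D X (D.simple i)) : Set Γ) := by
    rw [Subgroup.closure_le]
    rintro g ⟨t, rfl⟩
    exact hn1 t
  have hsub : Subgroup.closure (h8VkS D X 0) ≤
      Subgroup.closure (h8UpS D X (D.simple i)) ⊔ Subgroup.closure (h8XS X (D.simple i)) := by
    rw [Subgroup.closure_le]
    rintro g ⟨s, t, hs, _, rfl⟩
    by_cases hsp : s = D.simple i
    · apply Subgroup.mem_sup_right
      apply Subgroup.subset_closure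
      exact ⟨t, by rw [hsp]⟩
    · apply Subgroup.mem_sup_left
      apply Subgroup.subset_closure
      exact ⟨s, t, hs, hsp, rfl⟩
  have hx' : x ∈ ((Subgroup.closure (h8UpS D X (D.simple i)) ⊔
      Subgroup.closure (h8XS X (D.simple i)) : Subgroup Γ) : Set Γ) := hsub hx
  rw [Subgroup.coe_mul_of_right_le_normalizer_left _ _ hle] at hx'
  obtain ⟨y, hy, z, hz, rfl⟩ := hx'
  refine ⟨y, hy, ?_⟩
  have hz' : ∀ z ∈ Subgroup.closure (h8XS X (D.simple i)), ∃ a : K, z = X (D.simple i) a := by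
    intro z hz
    induction hz using Subgroup.closure_induction with
    | mem g hg => exact hg
    | one => exact ⟨0, (h8sys_zero hS _ hp.1).symm⟩
    | mul a b _ _ ha hb =>
      obtain ⟨a1, rfl⟩ := ha
      obtain ⟨b1, rfl⟩ := hb
      exact ⟨a1 + b1, hS.add _ hp.1 a1 b1⟩
    | inv a _ ha =>
      obtain ⟨a1, rfl⟩ := ha
      exact ⟨-a1, h8sys_inv hS _ hp.1 a1⟩
  obtain ⟨a, rfl⟩ := hz' z hz
  exact ⟨a, rfl⟩

end Cfsg.Agent.Lib.helper8
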