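import Mathlib
import Cfsg.Prelude.Def_ChevStructure
import Cfsg.Agent.Lib.helper8.ChevSt2
import Cfsg.Agent.Lib.helper8.ChevComm2
import Cfsg.Agent.Lib.helper8.ChevW0

set_option autoImplicit false
set_option linter.unusedSectionVars false

namespace Cfsg.Agent.Lib.helper8

open Cfsg.Lie Cfsg.Lie.ChevalleyDatum

universe u v

variable {K : Type u} [Field K] {Γ : Type v} [Group Γ]
variable {D : ChevalleyDatum} {X : ℕ → K → Γ}

/-- the commutator terms transform under the simple reflection `i` with signs `η` -/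
def H8TwT (D : ChevalleyDatum) (i : ℕ) (η : ℕ → ℤ) : Prop :=
  ∀ r < D.nroots, ∀ s < D.nroots, D.commTerms (D.reflectRoot i r) (D.reflectRoot i s) =
    (D.commTerms r s).map (h8commT (D.reflectRoot i) η (η r) (η s))

/-- the family twisted by the simple reflection `i` -/
def h8twX (D : ChevalleyDatum) (i : ℕ) (η : ℕ → ℤ) (X : ℕ → K → Γ) : ℕ → K → Γ :=
  fun r t => X (D.reflectRoot i r) (((η r : ℤ) : K) * t)

theorem h8eta_sqK (e : ℤ) (h : e = 1 ∨ e = -1) : ((e : ℤ) : K) * ((e : ℤ) : K) = 1 := by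
  rcases h with rfl | rfl <;> simp

theorem h8sys_tw (hS : H8Sys D X) (i : ℕ) (η : ℕ → ℤ) (hR : H8Refl D i η) (hT : H8TwT D i η) :
    H8Sys D (h8twX D i η X) := by
  constructor
  · intro r hr t u
    unfold h8twX
    rw [hS.add _ (hR.lt r hr), mul_add]
  · intro r hr s hs h1 h2 t u
    have hne1 : D.reflectRoot i s ≠ D.reflectRoot i r := by
      intro h
      exact h1 (h8refl_inj D i η hR s r hs hr h)
    have hne2 : D.reflectRoot i s ≠ D.negIdx.getD (D.reflectRoot i r) 0 := by
      intro h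
      rw [← hR.negc r hr] at h
      exact h2 (h8refl_inj D i η hR s _ hs (hR.neglt r hr) h)
    have key := hS.comm _ (hR.lt r hr) _ (hR.lt s hs) hne1 hne2 (((η r : ℤ) : K) * t)
      (((η s : ℤ) : K) * u)
    have hw : h8wX X (D.commWord K (D.reflectRoot i r) (D.reflectRoot i s)
        (((η r : ℤ) : K) * t) (((η s : ℤ) : K) * u)) =
        h8wX (h8twX D i η X) (D.commWord K r s t u) := by
      unfold h8wX ChevalleyDatum.commWord
      rw [hT r hr s hs, List.map_map, List.map_map, List.map_map]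
      congr 1
      apply List.map_congr_left
      intro c _
      simp only [Function.comp, h8commT, h8twX]
      congr 1
      have her := h8eta_sqK (K := K) _ (hR.eta1 r hr)
      have hes := h8eta_sqK (K := K) _ (hR.eta1 s hs)
      have h1 : ((η r : ℤ) : K) ^ c.2.2.1 * ((η r : ℤ) : K) ^ c.2.2.1 = 1 := by
        rw [← mul_pow, her, one_pow]
      have h2 : ((η s : ℤ) : K) ^ c.2.2.2 * ((η s : ℤ) : K) ^ c.2.2.2 = 1 := by
        rw [← mul_pow, hes, one_pow]
      push_cast
      have e1 : (-(((η r : ℤ) : K) * t)) ^ c.2.2.1 = ((η r : ℤ) : K) ^ c.2.2.1 * (-t) ^ c.2.2.1 := by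
        rw [← mul_pow]
        congr 1
        ring
      rw [e1, mul_pow]
      linear_combination ((c.2.1 : K) * ((η c.1 : ℤ) : K) * (-t) ^ c.2.2.1 * u ^ c.2.2.2 *
        (((η s : ℤ) : K) ^ c.2.2.2 * ((η s : ℤ) : K) ^ c.2.2.2)) * h1 +
        ((c.2.1 : K) * ((η c.1 : ℤ) : K) * (-t) ^ c.2.2.1 * u ^ c.2.2.2) * h2
    show X (D.reflectRoot i s) (((η s : ℤ) : K) * u) * X (D.reflectRoot i r) (((η r : ℤ) : K) * t) =
      X (D.reflectRoot i r) (((η r : ℤ) : K) * t) * X (D.reflectRoot i s) (((η s : ℤ) : K) * u) *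
        h8wX (h8twX D i η X) (D.commWord K r s t u)
    rw [key, hw]

end Cfsg.Agent.Lib.helper8
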