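import Mathlib
import Cfsg.Prelude.Def_ChevStructure
import Cfsg.Agent.Lib.helper8.ChevSt3
import Cfsg.Agent.Lib.helper8.ChevOrd4
import Cfsg.Agent.Lib.helper8.ChevBN3

set_option autoImplicit false
set_option linter.unusedSectionVars false

namespace Cfsg.Agent.Lib.helper8

open Cfsg.Lie Cfsg.Lie.ChevalleyDatum

universe u v

variable {K : Type u} [Field K] {Γ : Type v} [Group Γ]
variable {D : ChevalleyDatum} {X : ℕ → K → Γ}

/-- a family with relations (A), (B) together with a homomorphism to matrices which, after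
conjugation by `g`, sends `X r t` to `x_r(t)` -/
structure H8Pair (D : ChevalleyDatum) (hB : H8Base.{u} D) (X : ℕ → K → Γ)
    (π : Γ →* GL D.Idx K) (g : GL D.Idx K) : Prop where
  sys : H8Sys D X
  im : ∀ r < D.nroots, ∀ t : K, g * π (X r t) * g⁻¹ = h8xU D hB r t

/-- reflection data with the transformation rule for the commutator terms -/
structure H8TwAll (D : ChevalleyDatum) : Prop where
  ce : h8ceChk D = true
  ca : h8CAchk D = true
  refl : ∀ i < D.rank, ∃ eta : List ℤ, h8nChk D i eta = true ∧ h8etaChk D i eta = true ∧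
    h8reflChk D i eta = true ∧ H8TwT D i (fun s => eta.getD s 0)

theorem h8pair_tw {hB : H8Base.{u} D} {π : Γ →* GL D.Idx K} {g : GL D.Idx K}
    (hT : H8TwAll D) (hP : H8Pair D hB X π g) (i : ℕ) (hi : i < D.rank) :
    ∃ η : ℕ → ℤ, H8Refl D i η ∧
      H8Pair D hB (h8twX D i η X) π ((h8nU D hB (D.simple i) (1 : K))⁻¹ * g) := by
  obtain ⟨eta, hN, hE, hRc, hTw⟩ := hT.refl i hi
  have hR := h8reflChk_spec D i hi eta hN hE hT.ce hT.ca hRc
  refine ⟨fun s => eta.getD s 0, hR, h8sys_tw hP.sys i _ hR hTw, ?_⟩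
  intro r hr t
  have h1 := h8n_simple_conj (F := K) D i hi eta hN hE hT.ce hT.ca hRc r hr t
  have h2 : h8nU D hB (D.simple i) (1 : K) * h8xU D hB r t =
      h8xU D hB (D.reflectRoot i r) ((((eta.getD r 0 : ℤ)) : K) * t) *
        h8nU D hB (D.simple i) (1 : K) := by
    apply Units.ext
    rw [Units.val_mul, Units.val_mul, h8nU_val, h8xU_val, h8xU_val]
    exact h1
  have h3 := hP.im _ (hR.lt r hr) ((((eta.getD r 0 : ℤ)) : K) * t)
  show (h8nU D hB (D.simple i) (1 : K))⁻¹ * g *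
      π (X (D.reflectRoot i r) ((((eta.getD r 0 : ℤ)) : K) * t)) *
      ((h8nU D hB (D.simple i) (1 : K))⁻¹ * g)⁻¹ = h8xU D hB r t
  have e : (h8nU D hB (D.simple i) (1 : K))⁻¹ * g *
      π (X (D.reflectRoot i r) ((((eta.getD r 0 : ℤ)) : K) * t)) *
      ((h8nU D hB (D.simple i) (1 : K))⁻¹ * g)⁻¹ =
      (h8nU D hB (D.simple i) (1 : K))⁻¹ *
        (g * π (X (D.reflectRoot i r) ((((eta.getD r 0 : ℤ)) : K) * t)) * g⁻¹) *
        h8nU D hB (D.simple i) (1 : K) := by group
  rw [e, h3, mul_assoc, ← h2]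
  group

theorem h8sW_negc (hA : H8ReflAll D) : ∀ (v : List ℕ), (∀ i ∈ v, i < D.rank) → ∀ r < D.nroots,
    h8sW D v (D.negIdx.getD r 0) = D.negIdx.getD (h8sW D v r) 0 := by
  intro v
  induction v with
  | nil =>
    intro _ r _
    rfl
  | cons i w ih =>
    intro hv r hr
    obtain ⟨η, hR⟩ := h8reflAll_spec D hA i (hv i List.mem_cons_self)
    have hw : ∀ j ∈ w, j < D.rank := fun j hj => hv j (List.mem_cons_of_mem _ hj)
    have h1 := ih hw r hr
    show D.reflectRoot i (h8sW D w (D.negIdx.getD r 0)) =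
      D.negIdx.getD (D.reflectRoot i (h8sW D w r)) 0
    rw [h1, hR.negc _ (h8sW_lt D hA w hw r hr)]

/-- iterated twisting along a word of simple reflections -/
theorem h8pair_twW {hB : H8Base.{u} D} {π : Γ →* GL D.Idx K} (hT : H8TwAll D) (hA : H8ReflAll D) :
    ∀ (v : List ℕ), (∀ i ∈ v, i < D.rank) → ∀ (X : ℕ → K → Γ) (g : GL D.Idx K),
      H8Pair D hB X π g →
      ∃ (X' : ℕ → K → Γ) (g' : GL D.Idx K) (ε : ℕ → ℤ), H8Pair D hB X' π g' ∧
        (∀ r < D.nroots, ε r = 1 ∨ ε r = -1) ∧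
        (∀ r < D.nroots, ε (D.negIdx.getD r 0) = ε r) ∧
        ∀ r < D.nroots, ∀ t : K, X' r t = X (h8sW D v r) (((ε r : ℤ) : K) * t) := by
  intro v
  induction v with
  | nil =>
    intro _ X g hP
    refine ⟨X, g, fun _ => 1, hP, fun _ _ => Or.inl rfl, fun _ _ => rfl, ?_⟩
    intro r _ t
    simp [h8sW]
  | cons i w ih =>
    intro hv X g hP
    have hw : ∀ j ∈ w, j < D.rank := fun j hj => hv j (List.mem_cons_of_mem _ hj)
    obtain ⟨η, hR, hP1⟩ := h8pair_tw hT hP i (hv i List.mem_cons_self)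
    obtain ⟨X', g', ε, hP', h1, h2, h3⟩ := ih hw _ _ hP1
    refine ⟨X', g', fun r => η (h8sW D w r) * ε r, hP', ?_, ?_, ?_⟩
    · intro r hr
      have hlt := h8sW_lt D hA w hw r hr
      rcases h1 r hr with h | h <;> rcases hR.eta1 _ hlt with h' | h' <;> simp [h, h']
    · intro r hr
      have hlt := h8sW_lt D hA w hw r hr
      show η (h8sW D w (D.negIdx.getD r 0)) * ε (D.negIdx.getD r 0) = η (h8sW D w r) * ε r
      rw [h2 r hr, h8sW_negc hA w hw r hr]
      have e1 := hR.etaneg _ hlt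
      have e2 : η (D.negIdx.getD (h8sW D w r) 0) = η (h8sW D w r) := by
        rcases hR.eta1 _ hlt with h | h
        · rw [h, one_mul] at e1
          rw [e1, h]
        · rw [h] at e1
          have : η (D.negIdx.getD (h8sW D w r) 0) = -1 := by linarith
          rw [this, h]
      rw [e2]
    · intro r hr t
      rw [h3 r hr t]
      show X (D.reflectRoot i (h8sW D w r)) (((η (h8sW D w r) : ℤ) : K) * (((ε r : ℤ) : K) * t)) =
        X (D.reflectRoot i (h8sW D w r)) ((((η (h8sW D w r) * ε r : ℤ)) : K) * t)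
      push_cast
      rw [mul_assoc]

end Cfsg.Agent.Lib.helper8
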