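import Mathlib
import Cfsg.Prelude.Def_ChevStructure
import Cfsg.Agent.Lib.helper8.ChevSt4

set_option autoImplicit false
set_option linter.unusedSectionVars false

namespace Cfsg.Agent.Lib.helper8

open Cfsg.Lie Cfsg.Lie.ChevalleyDatum

universe u v

variable {K : Type u} [Field K] {Γ : Type v} [Group Γ]
variable {D : ChevalleyDatum} {X : ℕ → K → Γ}

theorem h8pair_word {hB : H8Base.{u} D} {π : Γ →* GL D.Idx K} {g : GL D.Idx K}
    (hP : H8Pair D hB X π g) : ∀ (w : List (ℕ × K)), (∀ p ∈ w, p.1 < D.nroots) →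
      g * π (h8wX X w) * g⁻¹ = h8wordU D hB w := by
  intro w
  induction w with
  | nil =>
    intro _
    rw [h8wX_nil, map_one, mul_one, mul_inv_cancel]
    rfl
  | cons p w ih =>
    intro hw
    rw [h8wX_cons, map_mul, h8wordU_cons, ← hP.im p.1 (hw p List.mem_cons_self) p.2,
      ← ih (fun q hq => hw q (List.mem_cons_of_mem _ hq))]
    group

/-- `π` is injective on the group generated by the positive root elements -/
theorem h8pair_inj_pos {hB : H8Base.{u} D} {π : Γ →* GL D.Idx K} {g : GL D.Idx K}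
    (hP : H8Pair D hB X π g) (hO : H8Ord D) (hO2 : H8Ord2 D) (y : Γ)
    (hy : y ∈ Subgroup.closure (h8VkS D X 0)) (h1 : π y = 1) : y = 1 := by
  obtain ⟨t, rfl⟩ := h8sys_ord_exists hP.sys hO D.nroots 0 (by omega) y hy
  have hlt : ∀ (t' : ℕ → K), ∀ p ∈ h8ordW D 0 t', p.1 < D.nroots := by
    intro t' p hp
    unfold h8ordW at hp
    rw [List.mem_map] at hp
    obtain ⟨r, hr, rfl⟩ := hp
    exact ((h8Lk_mem D 0 r).mp hr).2.1
  have e1 := h8pair_word hP _ (hlt t)
  rw [h1, mul_one, mul_inv_cancel] at e1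
  have hzero : ∀ (L : List ℕ), h8wordU D hB (L.map fun r => (r, (0 : K))) = 1 := by
    intro L
    induction L with
    | nil => rfl
    | cons r L ih => rw [List.map_cons, h8wordU_cons, ih, mul_one, h8xU_zero]
  have e2 : h8wordU D hB (h8ordW D 0 t) = h8wordU D hB (h8ordW D 0 (fun _ => (0 : K))) := by
    rw [← e1]
    unfold h8ordW
    rw [hzero]
  have hun := h8ord_unique D hB hO2 D.nroots 0 (by omega) t (fun _ => 0) e2
  rw [h8ordW_congr D 0 t (fun _ => 0) hun]
  have hzero' : ∀ (L : List ℕ), (∀ r ∈ L, r < D.nroots) →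
      h8wX X (L.map fun r => (r, (0 : K))) = 1 := by
    intro L
    induction L with
    | nil => intro _; rfl
    | cons r L ih =>
      intro hL
      rw [List.map_cons, h8wX_cons, ih (fun q hq => hL q (List.mem_cons_of_mem _ hq)), mul_one,
        h8sys_zero hP.sys r (hL r List.mem_cons_self)]
  unfold h8ordW
  apply hzero'
  intro r hr
  exact ((h8Lk_mem D 0 r).mp hr).2.1

/-- generators `X (w r) t` with `r` positive, for a word `w` of simple reflections -/
def h8VwS (D : ChevalleyDatum) (X : ℕ → K → Γ) (v : List ℕ) : Set Γ :=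
  {g : Γ | ∃ (r : ℕ) (t : K), D.IsPosRoot r ∧ g = X (h8sW D v r) t}

/-- `π` is injective on the group generated by the root elements of `w(Φ⁺)` -/
theorem h8pair_inj_w {hB : H8Base.{u} D} {π : Γ →* GL D.Idx K} {g : GL D.Idx K}
    (hT : H8TwAll D) (hA : H8ReflAll D) (hP : H8Pair D hB X π g) (hO : H8Ord D) (hO2 : H8Ord2 D)
    (v : List ℕ) (hv : ∀ i ∈ v, i < D.rank) (y : Γ)
    (hy : y ∈ Subgroup.closure (h8VwS D X v)) (h1 : π y = 1) : y = 1 := by
  obtain ⟨X', g', ε, hP', he1, _, he3⟩ := h8pair_twW hT hA v hv X g hP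
  apply h8pair_inj_pos hP' hO hO2 y _ h1
  refine Subgroup.closure_mono ?_ hy
  rintro z ⟨r, t, hr, rfl⟩
  refine ⟨r, ((ε r : ℤ) : K) * t, hr, Nat.zero_le _, ?_⟩
  rw [he3 r hr.1, ← mul_assoc, h8eta_sqK _ (he1 r hr.1), one_mul]

end Cfsg.Agent.Lib.helper8
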