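import Mathlib
import Cfsg.Prelude.Def_ChevStructure
import Cfsg.Agent.Lib.helper8.ChevSt5

set_option autoImplicit false
set_option linter.unusedSectionVars false

namespace Cfsg.Agent.Lib.helper8

open Cfsg.Lie Cfsg.Lie.ChevalleyDatum

universe u v

variable {K : Type u} [Field K] {Γ : Type v} [Group Γ]
variable {D : ChevalleyDatum} {X : ℕ → K → Γ}

/-- `y` conjugates the root elements `X r ·` to the root elements `X r' ·` (up to a scalar) -/
def H8ActX (X : ℕ → K → Γ) (y : Γ) (r r' : ℕ) : Prop :=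
  ∃ c : K, c ≠ 0 ∧ ∀ t : K, y * X r t * y⁻¹ = X r' (c * t)

theorem h8actX_mul (y y' : Γ) (r r' r'' : ℕ) (h' : H8ActX X y' r r') (h : H8ActX X y r' r'') :
    H8ActX X (y * y') r r'' := by
  obtain ⟨c', hc', h1⟩ := h'
  obtain ⟨c, hc, h2⟩ := h
  refine ⟨c * c', mul_ne_zero hc hc', fun t => ?_⟩
  have : y * y' * X r t * (y * y')⁻¹ = y * (y' * X r t * y'⁻¹) * y⁻¹ := by group
  rw [this, h1, h2, mul_assoc]

theorem h8actX_inv (y : Γ) (r r' : ℕ) (h : H8ActX X y r r') : H8ActX X y⁻¹ r' r := by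
  obtain ⟨c, hc, h1⟩ := h
  refine ⟨c⁻¹, inv_ne_zero hc, fun t => ?_⟩
  have h2 := h1 (c⁻¹ * t)
  rw [← mul_assoc, mul_inv_cancel₀ hc, one_mul] at h2
  rw [← h2]
  group

theorem h8actX_one (r : ℕ) : H8ActX X (1 : Γ) r r := by
  refine ⟨1, one_ne_zero, fun t => ?_⟩
  rw [one_mul, inv_one, mul_one, one_mul]

/-- lifting a conjugation formula along `π`, inside a subgroup on which `π` is injective -/
theorem h8pair_lift {hB : H8Base.{u} D} {π : Γ →* GL D.Idx K} {g : GL D.Idx K}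
    (hP : H8Pair D hB X π g) (Q : Subgroup Γ) (hQ : ∀ q ∈ Q, π q = 1 → q = 1) (y : Γ) (r r' : ℕ)
    (hr : r < D.nroots) (hr' : r' < D.nroots) (h1 : ∀ t : K, y * X r t * y⁻¹ ∈ Q)
    (h2 : ∀ t : K, X r' t ∈ Q) (hact : H8Act D hB (g * π y * g⁻¹) r r') : H8ActX X y r r' := by
  obtain ⟨c, hc, h3⟩ := hact
  refine ⟨c, hc, fun t => ?_⟩
  have hq : y * X r t * y⁻¹ * (X r' (c * t))⁻¹ ∈ Q :=
    Subgroup.mul_mem _ (h1 t) (Subgroup.inv_mem _ (h2 _))
  have hπ : π (y * X r t * y⁻¹ * (X r' (c * t))⁻¹) = 1 := by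
    have e : g * π (y * X r t * y⁻¹ * (X r' (c * t))⁻¹) * g⁻¹ =
        (g * π y * g⁻¹) * (g * π (X r t) * g⁻¹) * (g * π y * g⁻¹)⁻¹ *
          (g * π (X r' (c * t)) * g⁻¹)⁻¹ := by
      rw [map_mul, map_mul, map_mul, map_inv, map_inv]
      group
    rw [hP.im r hr, hP.im r' hr', h3 t, mul_inv_cancel] at e
    have : π (y * X r t * y⁻¹ * (X r' (c * t))⁻¹) =
        g⁻¹ * (g * π (y * X r t * y⁻¹ * (X r' (c * t))⁻¹) * g⁻¹) * g := by group
    rw [this, e]
    group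
  have := hQ _ hq hπ
  exact mul_inv_eq_one.mp this

/-- the rank one generators `X (±α) ·` -/
def h8PmS (D : ChevalleyDatum) (X : ℕ → K → Γ) (a : ℕ) : Set Γ :=
  {g : Γ | ∃ t : K, g = X a t ∨ g = X (D.negIdx.getD a 0) t}

theorem h8UpS_le_Vk (D : ChevalleyDatum) (X : ℕ → K → Γ) (p : ℕ) :
    Subgroup.closure (h8UpS D X p) ≤ Subgroup.closure (h8VkS D X 0) := by
  apply Subgroup.closure_mono
  rintro g ⟨s, t, hs, _, rfl⟩
  exact ⟨s, t, hs, Nat.zero_le _, rfl⟩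

/-- conjugation by an element of `⟨X_{α_k}, X_{-α_k}⟩` on the other positive root elements,
for an arbitrary pair -/
theorem h8pair_N1pos {hB : H8Base.{u} D} {π : Γ →* GL D.Idx K} {g : GL D.Idx K}
    (hP : H8Pair D hB X π g) (hO : H8Ord D) (hO2 : H8Ord2 D) (k : ℕ)
    (hg : h8upGlob D k = true) (hrow : ∀ s < D.nroots, h8upRow D k s = true) (y : Γ)
    (hy : y ∈ Subgroup.closure (h8PmS D X (D.simple k))) (s r'' : ℕ) (hs : D.IsPosRoot s)
    (hsk : s ≠ D.simple k) (hr'' : D.IsPosRoot r'')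
    (hact : H8Act D hB (g * π y * g⁻¹) s r'') : H8ActX X y s r'' := by
  obtain ⟨hn1, hn2⟩ := h8sys_up_main hP.sys k hg hrow
  have hnorm : y ∈ Subgroup.normalizer (Subgroup.closure (h8UpS D X (D.simple k)) : Set Γ) := by
    have hle : Subgroup.closure (h8PmS D X (D.simple k)) ≤
        Subgroup.normalizer (Subgroup.closure (h8UpS D X (D.simple k)) : Set Γ) := by
      rw [Subgroup.closure_le]
      rintro z ⟨t, rfl | rfl⟩
      · exact hn1 t
      · exact hn2 t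
    exact hle hy
  apply h8pair_lift hP (Subgroup.closure (h8VkS D X 0))
    (fun q hq h1 => h8pair_inj_pos hP hO hO2 q hq h1) y s r'' hs.1 hr''.1 _ _ hact
  · intro t
    apply h8UpS_le_Vk D X (D.simple k)
    apply (Subgroup.mem_normalizer_iff.mp hnorm _).mp
    apply Subgroup.subset_closure
    exact ⟨s, t, hs, hsk, rfl⟩
  · intro t
    apply Subgroup.subset_closure
    exact ⟨r'', t, hr'', Nat.zero_le _, rfl⟩

end Cfsg.Agent.Lib.helper8
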