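import Mathlib
import Cfsg.Prelude.Def_ChevStructure
import Cfsg.Agent.Lib.helper8.ChevSt8

set_option autoImplicit false
set_option linter.unusedSectionVars false

namespace Cfsg.Agent.Lib.helper8

open Cfsg.Lie Cfsg.Lie.ChevalleyDatum

universe u v

variable {K : Type u} [Field K] {Γ : Type v} [Group Γ]
variable {D : ChevalleyDatum} {X : ℕ → K → Γ}

theorem h8pair_one_im {hB : H8Base.{u} D} {π : Γ →* GL D.Idx K} (hP : H8Pair D hB X π 1)
    (r : ℕ) (hr : r < D.nroots) (t : K) : π (X r t) = h8xU D hB r t := by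
  have := hP.im r hr t
  rwa [one_mul, inv_one, mul_one] at this

/-- conjugation by an element of `⟨X_{wα_k}, X_{-wα_k}⟩` on the other root elements of
`w(Φ⁺)` -/
theorem h8pair_N1w {hB : H8Base.{u} D} {π : Γ →* GL D.Idx K} (hT : H8TwAll D) (hA : H8ReflAll D)
    (hP : H8Pair D hB X π 1) (hO : H8Ord D) (hO2 : H8Ord2 D) (v : List ℕ)
    (hv : ∀ i ∈ v, i < D.rank) (k : ℕ)
    (hg : h8upGlob D k = true) (hrow : ∀ s < D.nroots, h8upRow D k s = true) (y : Γ)
    (hy : y ∈ Subgroup.closure (h8PmS D X (h8sW D v (D.simple k)))) (s r'' : ℕ)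
    (hs : D.IsPosRoot s) (hsk : s ≠ D.simple k) (hr'' : D.IsPosRoot r'')
    (hact : H8Act D hB (π y) (h8sW D v s) (h8sW D v r'')) :
    H8ActX X y (h8sW D v s) (h8sW D v r'') := by
  obtain ⟨X', g', ε, hP', he1, he2, he3⟩ := h8pair_twW hT hA v hv X 1 hP
  have hg' := hg
  unfold h8upGlob at hg'
  simp only [Bool.and_eq_true, decide_eq_true_eq] at hg'
  obtain ⟨⟨hp, hnlt⟩, _⟩ := hg'
  have hrev : ∀ r < D.nroots, ∀ t : K, X (h8sW D v r) t = X' r (((ε r : ℤ) : K) * t) := by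
    intro r hr t
    rw [he3 r hr, ← mul_assoc, h8eta_sqK _ (he1 r hr), one_mul]
  have hy' : y ∈ Subgroup.closure (h8PmS D X' (D.simple k)) := by
    refine Subgroup.closure_mono ?_ hy
    rintro z ⟨t, rfl | rfl⟩
    · exact ⟨_, Or.inl (hrev _ hp.1 t)⟩
    · refine ⟨((ε (D.negIdx.getD (D.simple k) 0) : ℤ) : K) * t, Or.inr ?_⟩
      rw [← h8sW_negc hA v hv _ hp.1]
      exact hrev _ hnlt t
  have hA1 : ∀ r < D.nroots, H8Act D hB g' (h8sW D v r) r := by
    intro r hr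
    have hlt := h8sW_lt D hA v hv r hr
    refine ⟨((ε r : ℤ) : K), ?_, fun t => ?_⟩
    · rcases he1 r hr with h | h <;> simp [h]
    · have h1 := hP'.im r hr (((ε r : ℤ) : K) * t)
      rw [he3 r hr, ← mul_assoc, h8eta_sqK _ (he1 r hr), one_mul, h8pair_one_im hP _ hlt] at h1
      exact h1
  have hact' : H8Act D hB (g' * π y * g'⁻¹) s r'' := by
    have h1 := h8act_mul D hB (π y) g'⁻¹ s _ _ (h8act_inv D hB g' _ _ (hA1 s hs.1)) hact
    have h2 := h8act_mul D hB g' (π y * g'⁻¹) s _ _ h1 (hA1 r'' hr''.1)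
    rwa [← mul_assoc] at h2
  obtain ⟨c, hc, h3⟩ := h8pair_N1pos hP' hO hO2 k hg hrow y hy' s r'' hs hsk hr'' hact'
  refine ⟨((ε r'' : ℤ) : K) * c * ((ε s : ℤ) : K), ?_, fun t => ?_⟩
  · apply mul_ne_zero (mul_ne_zero _ hc)
    · rcases he1 s hs.1 with h | h <;> simp [h]
    · rcases he1 r'' hr''.1 with h | h <;> simp [h]
  · rw [hrev s hs.1, h3, he3 r'' hr''.1]
    congr 1
    ring

end Cfsg.Agent.Lib.helper8
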