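import Mathlib
import Cfsg.Prelude.Def_ChevStructure
import Cfsg.Agent.Lib.helper8.ChevSt9
import Cfsg.Agent.Lib.helper8.ChevBN4

set_option autoImplicit false
set_option linter.unusedSectionVars false

namespace Cfsg.Agent.Lib.helper8

open Cfsg.Lie Cfsg.Lie.ChevalleyDatum

universe u v

variable {K : Type u} [Field K] {Γ : Type v} [Group Γ]
variable {D : ChevalleyDatum} {X : ℕ → K → Γ}

/-- the universe-free table facts -/
structure H8All (D : ChevalleyDatum) : Prop where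
  hA : H8ReflAll D
  hBN : H8BN D
  hW : H8BN2 D
  hO : H8Ord D
  hO2 : H8Ord2 D
  hT : H8TwAll D

theorem h8isPos_iff (hB : H8Base.{u} D) (hL : H8All D) (r : ℕ) (hr : r < D.nroots) :
    D.IsPosRoot r ↔ D.nroots / 2 ≤ r := by
  constructor
  · intro h
    exact (h8PosOK_spec hB.posOK h).1
  · intro h
    exact h8pos_of_ge D hB hL.hBN.negOK r hr h

theorem h8isNeg_iff (hB : H8Base.{u} D) (hL : H8All D) (r : ℕ) (hr : r < D.nroots) :
    D.IsNegRoot r ↔ r < D.nroots / 2 := by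
  constructor
  · intro h
    exact (h8NegOK_spec hL.hBN.negOK h).1
  · intro h
    rcases hB.posneg r hr with h1 | h1
    · have := (h8PosOK_spec hB.posOK h1).1
      omega
    · exact h1

theorem h8stNegOfPos (hB : H8Base.{u} D) (hL : H8All D) (r : ℕ) (hr : D.IsPosRoot r) :
    D.IsNegRoot (D.negIdx.getD r 0) := by
  rw [h8isNeg_iff hB hL _ (hL.hW.neglt r hr.1)]
  exact (h8PosOK_spec hB.posOK hr).2.1

theorem h8stPosOfNeg (hB : H8Base.{u} D) (hL : H8All D) (r : ℕ) (hr : D.IsNegRoot r) :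
    D.IsPosRoot (D.negIdx.getD r 0) := by
  rw [h8isPos_iff hB hL _ (hL.hW.neglt r hr.1)]
  exact (h8NegOK_spec hL.hBN.negOK hr).2.1

theorem h8negneg (hL : H8All D) (r : ℕ) (hr : r < D.nroots) :
    D.negIdx.getD (D.negIdx.getD r 0) 0 = r := (hL.hO2.negneg r hr).2

/-- the element `n_r(c) = x_r(c) x_{-r}(-c⁻¹) x_r(c)` of an abstract family -/
def h8nS (D : ChevalleyDatum) (X : ℕ → K → Γ) (r : ℕ) (c : K) : Γ :=
  X r c * X (D.negIdx.getD r 0) (-c⁻¹) * X r c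

theorem h8nS_mem (D : ChevalleyDatum) (X : ℕ → K → Γ) (r : ℕ) (c : K) :
    h8nS D X r c ∈ Subgroup.closure (h8PmS D X r) := by
  unfold h8nS
  apply Subgroup.mul_mem _ (Subgroup.mul_mem _ _ _)
  · exact Subgroup.subset_closure ⟨c, Or.inl rfl⟩
  · exact Subgroup.subset_closure ⟨c, Or.inl rfl⟩
  · exact Subgroup.subset_closure ⟨-c⁻¹, Or.inr rfl⟩

theorem h8nS_inv (hS : H8Sys D X) (hL : H8All D) (r : ℕ) (hr : r < D.nroots) (c : K) :
    (h8nS D X r c)⁻¹ = h8nS D X r (-c) := by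
  unfold h8nS
  rw [mul_inv_rev, mul_inv_rev, h8sys_inv hS r hr, h8sys_inv hS _ (hL.hW.neglt r hr), neg_neg,
    inv_neg, neg_neg, mul_assoc]

theorem h8pair_nS {hB : H8Base.{u} D} {π : Γ →* GL D.Idx K} (hP : H8Pair D hB X π 1)
    (hL : H8All D) (r : ℕ) (hr : r < D.nroots) (c : K) :
    π (h8nS D X r c) = h8nU D hB r c := by
  unfold h8nS
  rw [map_mul, map_mul, h8pair_one_im hP r hr, h8pair_one_im hP _ (hL.hW.neglt r hr), h8nU_eq]

theorem h8act_nU_gen (hB : H8Base.{u} D) (hL : H8All D) (i : ℕ) (hi : i < D.rank) (c : K)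
    (hc : c ≠ 0) (r : ℕ) (hr : r < D.nroots) :
    H8Act D hB (h8nU D hB (D.simple i) c) r (D.reflectRoot i r) := by
  obtain ⟨η, hR⟩ := h8reflAll_spec D hL.hA i hi
  have hp := (h8simple_pos D hL.hBN i hi).1
  rw [h8nU_eq_hU]
  apply h8act_mul D hB _ _ r _ _ (h8act_nU D hB hL.hA i hi r hr)
  exact h8perm_H_id D hB _ (h8hU_mem_H D hB _ hp c hc) _ (hR.lt r hr)

/-- `n_i(c)` conjugates `X s ·` to `X (w_i s) ·` for positive roots `s ≠ α_i` -/
theorem h8pair_n_pos {hB : H8Base.{u} D} {π : Γ →* GL D.Idx K} (hP : H8Pair D hB X π 1)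
    (hL : H8All D) (i : ℕ) (hi : i < D.rank) (c : K) (hc : c ≠ 0) (s : ℕ) (hs : D.IsPosRoot s)
    (hsi : s ≠ D.simple i) :
    H8ActX X (h8nS D X (D.simple i) c) s (D.reflectRoot i s) := by
  obtain ⟨hg, hrow⟩ := hL.hBN.up i hi
  have hp := (h8simple_pos D hL.hBN i hi).1
  have h1 := h8pair_N1w hL.hT hL.hA hP hL.hO hL.hO2 [] (by simp) i hg hrow
    (h8nS D X (D.simple i) c) (h8nS_mem D X _ c) s (D.reflectRoot i s) hs hsi
    (h8spChk_spec D i (hL.hBN.sp i hi) s hs hsi).1 (by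
      rw [h8pair_nS hP hL _ hp]
      exact h8act_nU_gen hB hL i hi c hc s hs.1)
  exact h1

end Cfsg.Agent.Lib.helper8
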