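import Mathlib
import Cfsg.Prelude.Def_ChevStructure
import Cfsg.Agent.Lib.helper8.ChevW0All
import Cfsg.Agent.Lib.helper8.ChevReflAll

set_option autoImplicit false

namespace Cfsg.Agent.Lib.helper8

open Cfsg.Lie Cfsg.Lie.ChevalleyDatum

def h8w0simChk (D : ChevalleyDatum) (w : List ℕ) : Bool :=
  decide (D.nroots ≤ 256) && w.all (fun i => decide (i < D.rank)) &&
  (List.range D.rank).all fun i => decide (D.simple i < D.nroots) &&
    (List.range D.rank).any fun k =>
      decide (h8sgW D w (D.simple k) = D.negIdx.getD (D.simple i) 0)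

/-- the longest element sends the simple roots to the negatives of the simple roots -/
structure H8W0S (D : ChevalleyDatum) : Prop where
  ex : ∃ w : List ℕ, h8w0Chk D w = true ∧ ∀ i < D.rank, ∃ k < D.rank,
    h8sW D w (D.simple k) = D.negIdx.getD (D.simple i) 0

theorem h8w0s_of_chk (D : ChevalleyDatum) (hA : H8ReflAll D) (w : List ℕ)
    (h0 : h8w0Chk D w = true) (h : h8w0simChk D w = true) : H8W0S D := by
  unfold h8w0simChk at h
  simp only [Bool.and_eq_true, decide_eq_true_eq, List.all_eq_true, List.any_eq_true,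
    List.mem_range] at h
  obtain ⟨⟨h256, hw⟩, hs⟩ := h
  refine ⟨w, h0, ?_⟩
  intro i hi
  obtain ⟨_, k, hk, hk2⟩ := hs i hi
  refine ⟨k, hk, ?_⟩
  rw [← h8sgW_eq D hA h256 w hw _ (hs k hk).1]
  exact hk2

set_option maxRecDepth 100000 in
theorem h8w0simChk_G2 : h8w0simChk chevG2 h8w0_G2 = true := by decide +kernel
set_option maxRecDepth 100000 in
theorem h8w0simChk_B2 : h8w0simChk chevB2 h8w0_B2 = true := by decide +kernel
set_option maxRecDepth 100000 in
theorem h8w0simChk_D4 : h8w0simChk chevD4 h8w0_D4 = true := by decide +kernel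
set_option maxRecDepth 100000 in
theorem h8w0simChk_F4 : h8w0simChk chevF4 h8w0_F4 = true := by decide +kernel
set_option maxRecDepth 100000 in
theorem h8w0simChk_E6 : h8w0simChk chevE6 h8w0_E6 = true := by decide +kernel
set_option maxRecDepth 100000 in
theorem h8w0simChk_E7 : h8w0simChk chevE7 h8w0_E7 = true := by decide +kernel
set_option maxRecDepth 100000 in
theorem h8w0simChk_E8 : h8w0simChk chevE8 h8w0_E8 = true := by decide +kernel

theorem h8w0s_all (D : ChevalleyDatum)
    (hD : D ∈ [chevG2, chevB2, chevD4, chevF4, chevE6, chevE7, chevE8]) : H8W0S D := by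
  have hA := h8reflAll D hD
  simp only [List.mem_cons, List.mem_nil_iff, or_false] at hD
  rcases hD with rfl | rfl | rfl | rfl | rfl | rfl | rfl
  · exact h8w0s_of_chk _ hA _ h8w0Chk_G2 h8w0simChk_G2
  · exact h8w0s_of_chk _ hA _ h8w0Chk_B2 h8w0simChk_B2
  · exact h8w0s_of_chk _ hA _ h8w0Chk_D4 h8w0simChk_D4
  · exact h8w0s_of_chk _ hA _ h8w0Chk_F4 h8w0simChk_F4
  · exact h8w0s_of_chk _ hA _ h8w0Chk_E6 h8w0simChk_E6
  · exact h8w0s_of_chk _ hA _ h8w0Chk_E7 h8w0simChk_E7
  · exact h8w0s_of_chk _ hA _ h8w0Chk_E8 h8w0simChk_E8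

end Cfsg.Agent.Lib.helper8
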