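import Mathlib
import Cfsg.Prelude.Def_ChevStructure
import Cfsg.Agent.Lib.helper8.ChevSt10
import Cfsg.Agent.Lib.helper8.ChevSt11

set_option autoImplicit false
set_option linter.unusedSectionVars false

namespace Cfsg.Agent.Lib.helper8

open Cfsg.Lie Cfsg.Lie.ChevalleyDatum

universe u v

variable {K : Type u} [Field K] {Γ : Type v} [Group Γ]
variable {D : ChevalleyDatum} {X : ℕ → K → Γ}

/-- a simple reflection permutes the negative roots other than `-α_i` -/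
theorem h8refl_neg (hB : H8Base.{u} D) (hL : H8All D) (i : ℕ) (hi : i < D.rank) (s' : ℕ)
    (hs' : D.IsNegRoot s') (hsi : s' ≠ D.negIdx.getD (D.simple i) 0) :
    D.IsNegRoot (D.reflectRoot i s') ∧ D.reflectRoot i s' ≠ D.negIdx.getD (D.simple i) 0 := by
  obtain ⟨η, hR⟩ := h8reflAll_spec D hL.hA i hi
  have hp := h8stPosOfNeg hB hL s' hs'
  have hnn := h8negneg hL s' hs'.1
  have hpi : D.negIdx.getD s' 0 ≠ D.simple i := by
    intro h
    apply hsi
    rw [← h, hnn]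
  obtain ⟨h1, h2⟩ := h8spChk_spec D i (hL.hBN.sp i hi) _ hp hpi
  have e : D.reflectRoot i s' = D.negIdx.getD (D.reflectRoot i (D.negIdx.getD s' 0)) 0 := by
    rw [← hR.negc _ hp.1, hnn]
  rw [e]
  refine ⟨h8stNegOfPos hB hL _ h1, ?_⟩
  intro h
  apply h2
  rw [← h8negneg hL _ h1.1, h, h8negneg hL _ (h8simple_pos D hL.hBN i hi).1]

/-- `n_i(c)` conjugates `X s ·` to `X (w_i s) ·` for negative roots `s ≠ -α_i` -/
theorem h8pair_n_neg {hB : H8Base.{u} D} {π : Γ →* GL D.Idx K} (hP : H8Pair D hB X π 1)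
    (hL : H8All D) (hWS : H8W0S D) (i : ℕ) (hi : i < D.rank) (c : K) (hc : c ≠ 0) (s' : ℕ)
    (hs' : D.IsNegRoot s') (hsi : s' ≠ D.negIdx.getD (D.simple i) 0) :
    H8ActX X (h8nS D X (D.simple i) c) s' (D.reflectRoot i s') := by
  obtain ⟨w, hw0, hsim⟩ := hWS.ex
  obtain ⟨hw, hpos, hneg, _⟩ := h8w0Chk_spec D hL.hA w hw0
  obtain ⟨k, hk, hkeq⟩ := hsim i hi
  obtain ⟨hg, hrow⟩ := hL.hBN.up k hk
  have hp := (h8simple_pos D hL.hBN i hi).1
  obtain ⟨hr'n, _⟩ := h8refl_neg hB hL i hi s' hs' hsi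
  have e1 := h8sW_reverse D hL.hA w hw s' hs'.1
  have e2 := h8sW_reverse D hL.hA w hw _ hr'n.1
  have hsk : h8sW D w.reverse s' ≠ D.simple k := by
    intro h
    apply hsi
    rw [← e1, h, hkeq]
  have hy : h8nS D X (D.simple i) c ∈
      Subgroup.closure (h8PmS D X (h8sW D w (D.simple k))) := by
    rw [hkeq]
    have hsub : h8PmS D X (D.simple i) ⊆ h8PmS D X (D.negIdx.getD (D.simple i) 0) := by
      rintro z ⟨t, rfl | rfl⟩
      · refine ⟨t, Or.inr ?_⟩
        rw [h8negneg hL _ hp]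
      · exact ⟨t, Or.inl rfl⟩
    exact Subgroup.closure_mono hsub (h8nS_mem D X _ c)
  have h1 := h8pair_N1w hL.hT hL.hA hP hL.hO hL.hO2 w hw k hg hrow
    (h8nS D X (D.simple i) c) hy (h8sW D w.reverse s') (h8sW D w.reverse (D.reflectRoot i s'))
    (hneg s' hs') hsk (hneg _ hr'n) (by
      rw [e1, e2, h8pair_nS hP hL _ hp]
      exact h8act_nU_gen hB hL i hi c hc s' hs'.1)
  rwa [e1, e2] at h1

end Cfsg.Agent.Lib.helper8
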