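import Mathlib
import Cfsg.Prelude.Def_ChevStructure
import Cfsg.Agent.Lib.helper8.ChevSt12

set_option autoImplicit false
set_option linter.unusedSectionVars false

namespace Cfsg.Agent.Lib.helper8

open Cfsg.Lie Cfsg.Lie.ChevalleyDatum

universe u v

variable {K : Type u} [Field K] {Γ : Type v} [Group Γ]
variable {D : ChevalleyDatum} {X : ℕ → K → Γ}

theorem h8conj_word_mem (Q : Subgroup Γ) (g : Γ) : ∀ (w : List (ℕ × K)),
    (∀ p ∈ w, g * X p.1 p.2 * g⁻¹ ∈ Q) → g * h8wX X w * g⁻¹ ∈ Q := by
  intro w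
  induction w with
  | nil =>
    intro _
    rw [h8wX_nil, mul_one, mul_inv_cancel]
    exact Subgroup.one_mem _
  | cons p w ih =>
    intro h
    have e : g * h8wX X (p :: w) * g⁻¹ = (g * X p.1 p.2 * g⁻¹) * (g * h8wX X w * g⁻¹) := by
      rw [h8wX_cons]
      group
    rw [e]
    exact Subgroup.mul_mem _ (h p List.mem_cons_self)
      (ih fun q hq => h q (List.mem_cons_of_mem _ hq))

theorem h8conj_word_split (Q : Subgroup Γ) (g : Γ) (a : ℕ) (τ : K) : ∀ (w : List (ℕ × K)),
    (∀ p ∈ w, p.1 ≠ a → g * X p.1 p.2 * g⁻¹ ∈ Q) →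
    w.filter (fun p => decide (p.1 = a)) = [(a, τ)] →
    g * h8wX X w * g⁻¹ ∈ Q → g * X a τ * g⁻¹ ∈ Q := by
  intro w
  induction w with
  | nil =>
    intro _ hf _
    simp at hf
  | cons p w ih =>
    intro h hf hw
    have e : g * h8wX X (p :: w) * g⁻¹ = (g * X p.1 p.2 * g⁻¹) * (g * h8wX X w * g⁻¹) := by
      rw [h8wX_cons]
      group
    by_cases hp : p.1 = a
    · rw [List.filter_cons_of_pos (by simpa using hp)] at hf
      have h1 : p = (a, τ) := List.head_eq_of_cons_eq hf
      have h2 : w.filter (fun p => decide (p.1 = a)) = [] := List.tail_eq_of_cons_eq hf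
      have h3 : g * h8wX X w * g⁻¹ ∈ Q := by
        apply h8conj_word_mem
        intro q hq
        apply h q (List.mem_cons_of_mem _ hq)
        intro hqa
        have : q ∈ w.filter (fun p => decide (p.1 = a)) := by
          rw [List.mem_filter]
          exact ⟨hq, by simpa using hqa⟩
        rw [h2] at this
        simp at this
      rw [e, h1] at hw
      have : g * X a τ * g⁻¹ = (g * X a τ * g⁻¹ * (g * h8wX X w * g⁻¹)) *
          (g * h8wX X w * g⁻¹)⁻¹ := by group
      rw [this]
      exact Subgroup.mul_mem _ hw (Subgroup.inv_mem _ h3)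
    · rw [List.filter_cons_of_neg (by simpa using hp)] at hf
      have h1 := h p List.mem_cons_self hp
      apply ih (fun q hq => h q (List.mem_cons_of_mem _ hq)) hf
      have : g * h8wX X w * g⁻¹ = (g * X p.1 p.2 * g⁻¹)⁻¹ * (g * h8wX X (p :: w) * g⁻¹) := by
        rw [e]
        group
      rw [this]
      exact Subgroup.mul_mem _ (Subgroup.inv_mem _ h1) hw

/-- table condition used to express `x_{α_i}` through a commutator of other root elements -/
def h8n2Chk (D : ChevalleyDatum) (i j : ℕ) : Bool :=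
  decide (j < D.rank) && decide (D.IsPosRoot (D.reflectRoot j (D.simple i))) &&
  decide (D.reflectRoot j (D.simple i) ≠ D.simple i) &&
  decide (D.reflectRoot j (D.simple i) ≠ D.simple j) && decide (D.simple i ≠ D.simple j) &&
  (decide (((D.commTerms (D.reflectRoot j (D.simple i)) (D.negIdx.getD (D.simple j) 0)).filter
      (fun c => decide (c.1 = D.simple i))).map (fun c => (c.2.1, c.2.2.1)) = [(1, 1)]) ||
   decide (((D.commTerms (D.reflectRoot j (D.simple i)) (D.negIdx.getD (D.simple j) 0)).filter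
      (fun c => decide (c.1 = D.simple i))).map (fun c => (c.2.1, c.2.2.1)) = [(-1, 1)])) &&
  (D.commTerms (D.reflectRoot j (D.simple i)) (D.negIdx.getD (D.simple j) 0)).all fun c =>
    decide (c.1 = D.simple i) || (decide (D.IsPosRoot c.1) && decide (c.1 ≠ D.simple j))

theorem h8n2Chk_spec (D : ChevalleyDatum) (i j : ℕ) (h : h8n2Chk D i j = true) :
    j < D.rank ∧ D.IsPosRoot (D.reflectRoot j (D.simple i)) ∧
    D.reflectRoot j (D.simple i) ≠ D.simple i ∧ D.reflectRoot j (D.simple i) ≠ D.simple j ∧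
    D.simple i ≠ D.simple j ∧
    (∃ (C : ℤ) (m : ℕ), (C = 1 ∨ C = -1) ∧
      (D.commTerms (D.reflectRoot j (D.simple i)) (D.negIdx.getD (D.simple j) 0)).filter
        (fun c => decide (c.1 = D.simple i)) = [(D.simple i, C, 1, m)]) ∧
    ∀ c ∈ D.commTerms (D.reflectRoot j (D.simple i)) (D.negIdx.getD (D.simple j) 0),
      c.1 = D.simple i ∨ (D.IsPosRoot c.1 ∧ c.1 ≠ D.simple j) := by
  unfold h8n2Chk at h
  simp only [Bool.and_eq_true, Bool.or_eq_true, decide_eq_true_eq, List.all_eq_true] at h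
  obtain ⟨⟨⟨⟨⟨⟨h1, h2⟩, h3⟩, h4⟩, h5⟩, h6⟩, h7⟩ := h
  refine ⟨h1, h2, h3, h4, h5, ?_, h7⟩
  have key : ∀ (L : List (ℕ × ℤ × ℕ × ℕ)) (C : ℤ),
      (L.filter (fun c => decide (c.1 = D.simple i))).map (fun c => (c.2.1, c.2.2.1)) = [(C, 1)] →
      ∃ m : ℕ, L.filter (fun c => decide (c.1 = D.simple i)) = [(D.simple i, C, 1, m)] := by
    intro L C hL
    cases hF : L.filter (fun c => decide (c.1 = D.simple i)) with
    | nil => rw [hF] at hL; simp at hL
    | cons c rest =>
      rw [hF] at hL
      cases rest with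
      | cons c' rest' => simp at hL
      | nil =>
        have hc : c ∈ L.filter (fun c => decide (c.1 = D.simple i)) := by
          rw [hF]; exact List.mem_cons_self
        rw [List.mem_filter] at hc
        have hc1 : c.1 = D.simple i := by simpa using hc.2
        simp only [List.map_cons, List.map_nil, List.cons.injEq, Prod.mk.injEq, and_true] at hL
        refine ⟨c.2.2.2, ?_⟩
        obtain ⟨c1, c2, c3, c4⟩ := c
        simp only at hc1 hL
        rw [hc1, hL.1, hL.2]
  rcases h6 with h6 | h6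
  · obtain ⟨m, hm⟩ := key _ 1 h6
    exact ⟨1, m, Or.inl rfl, hm⟩
  · obtain ⟨m, hm⟩ := key _ (-1) h6
    exact ⟨-1, m, Or.inr rfl, hm⟩

end Cfsg.Agent.Lib.helper8
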