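import Mathlib
import Cfsg.Prelude.Def_ChevStructure
import Cfsg.Agent.Lib.helper8.ChevSt13

set_option autoImplicit false
set_option linter.unusedSectionVars false

namespace Cfsg.Agent.Lib.helper8

open Cfsg.Lie Cfsg.Lie.ChevalleyDatum

universe u v

variable {K : Type u} [Field K] {Γ : Type v} [Group Γ]
variable {D : ChevalleyDatum} {X : ℕ → K → Γ}

/-- `n_i(c)` conjugates `X α_i ·` to `X (-α_i) ·` -/
theorem h8pair_n_self {hB : H8Base.{u} D} {π : Γ →* GL D.Idx K} (hP : H8Pair D hB X π 1)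
    (hL : H8All D) (hWS : H8W0S D) (i : ℕ) (hi : i < D.rank) (j : ℕ)
    (hchk : h8n2Chk D i j = true) (c₀ : K) (hc₀ : c₀ ≠ 0) :
    H8ActX X (h8nS D X (D.simple i) c₀) (D.simple i) (D.negIdx.getD (D.simple i) 0) := by
  obtain ⟨hj, hδ, hδa, hδb, hab, ⟨C, m, hC, hfil⟩, hterms⟩ := h8n2Chk_spec D i j hchk
  obtain ⟨ηi, hRi⟩ := h8reflAll_spec D hL.hA i hi
  obtain ⟨ηj, hRj⟩ := h8reflAll_spec D hL.hA j hj
  have hpa := h8simple_pos D hL.hBN i hi
  have hpb := h8simple_pos D hL.hBN j hj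
  have hγn := h8stNegOfPos hB hL _ hpb
  set a := D.simple i with ha
  set b := D.simple j with hb
  set δ := D.reflectRoot j a with hδdef
  set γ := D.negIdx.getD b 0 with hγdef
  set g := h8nS D X a c₀ with hgdef
  have hv : ∀ k ∈ [i, j], k < D.rank := by
    intro k hk
    simp only [List.mem_cons, List.not_mem_nil, or_false] at hk
    rcases hk with rfl | rfl
    · exact hi
    · exact hj
  have hQinj : ∀ q ∈ Subgroup.closure (h8VwS D X [i, j]), π q = 1 → q = 1 :=
    fun q hq h1 => h8pair_inj_w hL.hT hL.hA hP hL.hO hL.hO2 [i, j] hv q hq h1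
  have hsW : ∀ r, h8sW D [i, j] r = D.reflectRoot i (D.reflectRoot j r) := fun r => rfl
  -- membership in Q
  have memQ : ∀ s, D.IsPosRoot s → s ≠ b → ∀ t : K,
      X (D.reflectRoot i s) t ∈ Subgroup.closure (h8VwS D X [i, j]) := by
    intro s hs hsb t
    apply Subgroup.subset_closure
    refine ⟨D.reflectRoot j s, t, (h8spChk_spec D j (hL.hBN.sp j hj) s hs hsb).1, ?_⟩
    rw [hsW, hRj.invol s hs.1]
  have memQγ : ∀ t : K, X (D.reflectRoot i γ) t ∈ Subgroup.closure (h8VwS D X [i, j]) := by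
    intro t
    apply Subgroup.subset_closure
    refine ⟨b, t, hpb, ?_⟩
    rw [hsW, h8reflectRoot_simple]
  have conjP : ∀ s, D.IsPosRoot s → s ≠ a → s ≠ b → ∀ t : K,
      g * X s t * g⁻¹ ∈ Subgroup.closure (h8VwS D X [i, j]) := by
    intro s hs hsa hsb t
    obtain ⟨c, _, h1⟩ := h8pair_n_pos hP hL i hi c₀ hc₀ s hs hsa
    rw [h1]
    exact memQ s hs hsb _
  have hγa : γ ≠ D.negIdx.getD a 0 := by
    intro h
    apply hab
    rw [← h8negneg hL a hpa.1, ← h, h8negneg hL b hpb.1]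
  have conjγ : ∀ t : K, g * X γ t * g⁻¹ ∈ Subgroup.closure (h8VwS D X [i, j]) := by
    intro t
    obtain ⟨c, _, h1⟩ := h8pair_n_neg hP hL hWS i hi c₀ hc₀ γ hγn hγa
    rw [h1]
    exact memQγ _
  -- the commutator relation
  have hγδ : γ ≠ δ := by
    intro h
    have h1 := (h8isNeg_iff hB hL γ hγn.1).mp hγn
    have h2 := (h8isPos_iff hB hL δ hδ.1).mp hδ
    omega
  have hγnδ : γ ≠ D.negIdx.getD δ 0 := by
    intro h
    apply hδb
    rw [← h8negneg hL δ hδ.1, ← h, h8negneg hL b hpb.1]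
  have hall : ∀ u : K, g * X a u * g⁻¹ ∈ Subgroup.closure (h8VwS D X [i, j]) := by
    intro u
    set t : K := -((C : ℤ) : K) * u with ht
    have hrel := hP.sys.comm δ hδ.1 γ hγn.1 hγδ hγnδ t 1
    have hW : h8wX X (D.commWord K δ γ t 1) = (X δ t * X γ 1)⁻¹ * (X γ 1 * X δ t) := by
      rw [hrel]
      group
    have hWQ : g * h8wX X (D.commWord K δ γ t 1) * g⁻¹ ∈
        Subgroup.closure (h8VwS D X [i, j]) := by
      rw [hW]
      have e : g * ((X δ t * X γ 1)⁻¹ * (X γ 1 * X δ t)) * g⁻¹ =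
          ((g * X δ t * g⁻¹) * (g * X γ 1 * g⁻¹))⁻¹ *
            ((g * X γ 1 * g⁻¹) * (g * X δ t * g⁻¹)) := by group
      rw [e]
      have h1 := conjP δ hδ hδa hδb t
      have h2 := conjγ 1
      exact Subgroup.mul_mem _ (Subgroup.inv_mem _ (Subgroup.mul_mem _ h1 h2))
        (Subgroup.mul_mem _ h2 h1)
    have hfilK : (D.commWord K δ γ t 1).filter (fun p => decide (p.1 = a)) = [(a, u)] := by
      unfold ChevalleyDatum.commWord
      rw [List.filter_map]
      have : ((fun p : ℕ × K => decide (p.1 = a)) ∘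
          fun c : ℕ × ℤ × ℕ × ℕ => (c.1, (c.2.1 : K) * (-t) ^ c.2.2.1 * (1 : K) ^ c.2.2.2)) =
          fun c => decide (c.1 = a) := rfl
      rw [this, hfil, List.map_cons, List.map_nil]
      simp only [pow_one, one_pow, mul_one]
      congr 2
      rw [ht, neg_mul, neg_neg, ← mul_assoc, h8eta_sqK C hC, one_mul]
    apply h8conj_word_split _ g a u (D.commWord K δ γ t 1) _ hfilK hWQ
    intro p hp hpa'
    unfold ChevalleyDatum.commWord at hp
    rw [List.mem_map] at hp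
    obtain ⟨c, hc, rfl⟩ := hp
    rcases hterms c hc with h | ⟨h1, h2⟩
    · exact absurd h hpa'
    · exact conjP c.1 h1 hpa' h2 _
  have hnegQ : ∀ t : K, X (D.negIdx.getD a 0) t ∈ Subgroup.closure (h8VwS D X [i, j]) := by
    intro t
    apply Subgroup.subset_closure
    refine ⟨δ, t, hδ, ?_⟩
    rw [hsW, hδdef, hRj.invol a hpa.1, h8reflectRoot_simple]
  apply h8pair_lift hP _ hQinj g a _ hpa.1 (hL.hW.neglt a hpa.1) hall hnegQ
  rw [one_mul, inv_one, mul_one, hgdef, h8pair_nS hP hL _ hpa.1]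
  have := h8act_nU_gen hB hL i hi c₀ hc₀ a hpa.1
  rwa [h8reflectRoot_simple] at this

end Cfsg.Agent.Lib.helper8
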