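import Mathlib
import Cfsg.Prelude.Def_ChevStructure
import Cfsg.Agent.Lib.helper8.ChevSt14

set_option autoImplicit false
set_option linter.unusedSectionVars false

namespace Cfsg.Agent.Lib.helper8

open Cfsg.Lie Cfsg.Lie.ChevalleyDatum

universe u v

variable {K : Type u} [Field K] {Γ : Type v} [Group Γ]
variable {D : ChevalleyDatum} {X : ℕ → K → Γ}

/-- for each simple root a neighbour for which the rank two computation works -/
structure H8N2 (D : ChevalleyDatum) : Prop where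
  ex : ∀ i < D.rank, ∃ j : ℕ, h8n2Chk D i j = true

def h8n2All (D : ChevalleyDatum) (js : List ℕ) : Bool :=
  (List.range D.rank).all fun i => h8n2Chk D i (js.getD i 0)

theorem h8n2_of_chk (D : ChevalleyDatum) (js : List ℕ) (h : h8n2All D js = true) : H8N2 D := by
  unfold h8n2All at h
  simp only [List.all_eq_true, List.mem_range] at h
  exact ⟨fun i hi => ⟨_, h i hi⟩⟩

set_option maxRecDepth 100000 in
theorem h8n2All_G2 : h8n2All chevG2 [1, 0] = true := by decide +kernel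
set_option maxRecDepth 100000 in
theorem h8n2All_B2 : h8n2All chevB2 [1, 0] = true := by decide +kernel
set_option maxRecDepth 100000 in
theorem h8n2All_D4 : h8n2All chevD4 [1, 0, 1, 1] = true := by decide +kernel
set_option maxRecDepth 100000 in
theorem h8n2All_F4 : h8n2All chevF4 [1, 0, 1, 2] = true := by decide +kernel
set_option maxRecDepth 100000 in
theorem h8n2All_E6 : h8n2All chevE6 [2, 3, 0, 1, 3, 4] = true := by decide +kernel
set_option maxRecDepth 100000 in
theorem h8n2All_E7 : h8n2All chevE7 [2, 3, 0, 1, 3, 4, 5] = true := by decide +kernel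
set_option maxRecDepth 100000 in
theorem h8n2All_E8 : h8n2All chevE8 [2, 3, 0, 1, 3, 4, 5, 6] = true := by decide +kernel

theorem h8n2_all (D : ChevalleyDatum)
    (hD : D ∈ [chevG2, chevB2, chevD4, chevF4, chevE6, chevE7, chevE8]) : H8N2 D := by
  simp only [List.mem_cons, List.mem_nil_iff, or_false] at hD
  rcases hD with rfl | rfl | rfl | rfl | rfl | rfl | rfl
  · exact h8n2_of_chk _ _ h8n2All_G2
  · exact h8n2_of_chk _ _ h8n2All_B2
  · exact h8n2_of_chk _ _ h8n2All_D4
  · exact h8n2_of_chk _ _ h8n2All_F4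
  · exact h8n2_of_chk _ _ h8n2All_E6
  · exact h8n2_of_chk _ _ h8n2All_E7
  · exact h8n2_of_chk _ _ h8n2All_E8

/-- `n_i(c)` acts on all root elements like the simple reflection `w_i` -/
theorem h8pair_n_all {hB : H8Base.{u} D} {π : Γ →* GL D.Idx K} (hP : H8Pair D hB X π 1)
    (hL : H8All D) (hWS : H8W0S D) (hN2 : H8N2 D) (i : ℕ) (hi : i < D.rank) (c : K) (hc : c ≠ 0)
    (r : ℕ) (hr : r < D.nroots) :
    H8ActX X (h8nS D X (D.simple i) c) r (D.reflectRoot i r) := by
  obtain ⟨j, hj⟩ := hN2.ex i hi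
  obtain ⟨η, hR⟩ := h8reflAll_spec D hL.hA i hi
  have hpa := h8simple_pos D hL.hBN i hi
  by_cases h1 : r = D.simple i
  · rw [h1, h8reflectRoot_simple]
    exact h8pair_n_self hP hL hWS i hi j hj c hc
  by_cases h2 : r = D.negIdx.getD (D.simple i) 0
  · have e : D.reflectRoot i r = D.simple i := by
      rw [h2, hR.negc _ hpa.1, h8reflectRoot_simple, h8negneg hL _ hpa.1]
    rw [e, h2]
    have h3 := h8pair_n_self hP hL hWS i hi j hj (-c) (neg_ne_zero.mpr hc)
    rw [← h8nS_inv hP.sys hL _ hpa.1] at h3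
    have h4 := h8actX_inv _ _ _ h3
    rwa [inv_inv] at h4
  rcases hB.posneg r hr with hp | hn
  · exact h8pair_n_pos hP hL i hi c hc r hp h1
  · exact h8pair_n_neg hP hL hWS i hi c hc r hn h2

/-- `y` permutes the root subgroups of the family -/
def H8PermX (D : ChevalleyDatum) (X : ℕ → K → Γ) (y : Γ) : Prop :=
  ∃ σ τ : ℕ → ℕ, (∀ r < D.nroots, σ r < D.nroots) ∧ (∀ r < D.nroots, τ r < D.nroots) ∧
    (∀ r < D.nroots, τ (σ r) = r) ∧ (∀ r < D.nroots, σ (τ r) = r) ∧
    (∀ r < D.nroots, σ (D.negIdx.getD r 0) = D.negIdx.getD (σ r) 0) ∧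
    (∀ r < D.nroots, τ (D.negIdx.getD r 0) = D.negIdx.getD (τ r) 0) ∧
    ∀ r < D.nroots, H8ActX X y r (σ r)

theorem h8permX_mul (y y' : Γ) (h : H8PermX D X y) (h' : H8PermX D X y') :
    H8PermX D X (y * y') := by
  obtain ⟨σ, τ, a1, a2, a3, a4, a5, a6, a7⟩ := h
  obtain ⟨σ', τ', b1, b2, b3, b4, b5, b6, b7⟩ := h'
  refine ⟨σ ∘ σ', τ' ∘ τ, ?_, ?_, ?_, ?_, ?_, ?_, ?_⟩
  · intro r hr; exact a1 _ (b1 r hr)
  · intro r hr; exact b2 _ (a2 r hr)
  · intro r hr
    simp only [Function.comp]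
    rw [a3 _ (b1 r hr), b3 r hr]
  · intro r hr
    simp only [Function.comp]
    rw [b4 _ (a2 r hr), a4 r hr]
  · intro r hr
    simp only [Function.comp]
    rw [b5 r hr, a5 _ (b1 r hr)]
  · intro r hr
    simp only [Function.comp]
    rw [a6 r hr, b6 _ (a2 r hr)]
  · intro r hr
    exact h8actX_mul y y' r (σ' r) _ (b7 r hr) (a7 _ (b1 r hr))

theorem h8permX_inv (y : Γ) (h : H8PermX D X y) : H8PermX D X y⁻¹ := by
  obtain ⟨σ, τ, a1, a2, a3, a4, a5, a6, a7⟩ := h
  refine ⟨τ, σ, a2, a1, a4, a3, a6, a5, ?_⟩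
  intro r hr
  have := h8actX_inv y (τ r) (σ (τ r)) (a7 _ (a2 r hr))
  rwa [a4 r hr] at this

theorem h8permX_one : H8PermX D X (1 : Γ) := by
  refine ⟨id, id, fun r hr => hr, fun r hr => hr, fun r _ => rfl, fun r _ => rfl,
    fun r _ => rfl, fun r _ => rfl, ?_⟩
  intro r _
  exact h8actX_one r

/-- the generators of the abstract monomial group -/
def h8NS (D : ChevalleyDatum) (X : ℕ → K → Γ) : Set Γ :=
  {g : Γ | ∃ (i : ℕ) (c : K), i < D.rank ∧ c ≠ 0 ∧ g = h8nS D X (D.simple i) c}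

theorem h8pair_permS {hB : H8Base.{u} D} {π : Γ →* GL D.Idx K} (hP : H8Pair D hB X π 1)
    (hL : H8All D) (hWS : H8W0S D) (hN2 : H8N2 D) (n : Γ)
    (hn : n ∈ Subgroup.closure (h8NS D X)) : H8PermX D X n := by
  induction hn using Subgroup.closure_induction with
  | mem x hx =>
    obtain ⟨i, c, hi, hc, rfl⟩ := hx
    obtain ⟨η, hR⟩ := h8reflAll_spec D hL.hA i hi
    refine ⟨D.reflectRoot i, D.reflectRoot i, hR.lt, hR.lt, hR.invol, hR.invol, hR.negc,
      hR.negc, ?_⟩
    intro r hr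
    exact h8pair_n_all hP hL hWS hN2 i hi c hc r hr
  | one => exact h8permX_one
  | mul a b _ _ ha hb => exact h8permX_mul a b ha hb
  | inv a _ ha => exact h8permX_inv a ha

end Cfsg.Agent.Lib.helper8
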