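import Mathlib
import Cfsg.Prelude.Def_ChevStructure
import Cfsg.Agent.Lib.helper8.ChevSt15

set_option autoImplicit false
set_option linter.unusedSectionVars false

namespace Cfsg.Agent.Lib.helper8

open Cfsg.Lie Cfsg.Lie.ChevalleyDatum

universe u v

variable {K : Type u} [Field K] {Γ : Type v} [Group Γ]
variable {D : ChevalleyDatum} {X : ℕ → K → Γ}

/-- the big cell type set `U N U` of an abstract family -/
def h8MS (D : ChevalleyDatum) (X : ℕ → K → Γ) : Set Γ :=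
  {z : Γ | ∃ u ∈ Subgroup.closure (h8VkS D X 0), ∃ n ∈ Subgroup.closure (h8NS D X),
    ∃ u' ∈ Subgroup.closure (h8VkS D X 0), z = u * n * u'}

theorem h8nS_mem_NS (D : ChevalleyDatum) (X : ℕ → K → Γ) (i : ℕ) (hi : i < D.rank) (c : K)
    (hc : c ≠ 0) : h8nS D X (D.simple i) c ∈ Subgroup.closure (h8NS D X) :=
  Subgroup.subset_closure ⟨i, c, hi, hc, rfl⟩

theorem h8X_mem_Vk (D : ChevalleyDatum) (X : ℕ → K → Γ) (r : ℕ) (hr : D.IsPosRoot r) (t : K) :
    X r t ∈ Subgroup.closure (h8VkS D X 0) :=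
  Subgroup.subset_closure ⟨r, t, hr, Nat.zero_le _, rfl⟩

/-- `n_i(c)` normalizes the group generated by the positive root elements other than `α_i` -/
theorem h8pair_n_conj_up {hB : H8Base.{u} D} {π : Γ →* GL D.Idx K} (hP : H8Pair D hB X π 1)
    (hL : H8All D) (i : ℕ) (hi : i < D.rank) (c : K) (hc : c ≠ 0) (y : Γ)
    (hy : y ∈ Subgroup.closure (h8UpS D X (D.simple i))) :
    h8nS D X (D.simple i) c * y * (h8nS D X (D.simple i) c)⁻¹ ∈
      Subgroup.closure (h8UpS D X (D.simple i)) := by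
  induction hy using Subgroup.closure_induction with
  | mem x hx =>
    obtain ⟨s, t, hs, hsi, rfl⟩ := hx
    obtain ⟨c', _, h1⟩ := h8pair_n_pos hP hL i hi c hc s hs hsi
    rw [h1]
    obtain ⟨h2, h3⟩ := h8spChk_spec D i (hL.hBN.sp i hi) s hs hsi
    exact Subgroup.subset_closure ⟨_, _, h2, h3, rfl⟩
  | one =>
    rw [mul_one, mul_inv_cancel]
    exact Subgroup.one_mem _
  | mul a b _ _ ha hb =>
    have : h8nS D X (D.simple i) c * (a * b) * (h8nS D X (D.simple i) c)⁻¹ =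
        (h8nS D X (D.simple i) c * a * (h8nS D X (D.simple i) c)⁻¹) *
        (h8nS D X (D.simple i) c * b * (h8nS D X (D.simple i) c)⁻¹) := by group
    rw [this]
    exact Subgroup.mul_mem _ ha hb
  | inv a _ ha =>
    have : h8nS D X (D.simple i) c * a⁻¹ * (h8nS D X (D.simple i) c)⁻¹ =
        (h8nS D X (D.simple i) c * a * (h8nS D X (D.simple i) c)⁻¹)⁻¹ := by group
    rw [this]
    exact Subgroup.inv_mem _ ha

/-- `x_{-α}(a) = x_α(a⁻¹) n_α(-a⁻¹) x_α(a⁻¹)` -/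
theorem h8sys_neg_eq (hS : H8Sys D X) (r : ℕ) (hr : r < D.nroots) (a : K) :
    X (D.negIdx.getD r 0) a = X r a⁻¹ * h8nS D X r (-a⁻¹) * X r a⁻¹ := by
  unfold h8nS
  have e : -(-a⁻¹)⁻¹ = a := by rw [inv_neg, inv_inv, neg_neg]
  rw [e]
  have h1 : X r a⁻¹ * X r (-a⁻¹) = 1 := by rw [hS.add r hr, add_neg_cancel, h8sys_zero hS r hr]
  have h2 : X r (-a⁻¹) * X r a⁻¹ = 1 := by rw [hS.add r hr, neg_add_cancel, h8sys_zero hS r hr]
  calc X (D.negIdx.getD r 0) a = (X r a⁻¹ * X r (-a⁻¹)) * X (D.negIdx.getD r 0) a *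
        (X r (-a⁻¹) * X r a⁻¹) := by rw [h1, h2, one_mul, mul_one]
    _ = _ := by group

/-- the key step of the Bruhat decomposition: `n_i(c) · U N U ⊆ U N U` -/
theorem h8pair_bn_core {hB : H8Base.{u} D} {π : Γ →* GL D.Idx K} (hP : H8Pair D hB X π 1)
    (hL : H8All D) (hWS : H8W0S D) (hN2 : H8N2 D) (i : ℕ) (hi : i < D.rank) (c : K) (hc : c ≠ 0)
    (z : Γ) (hz : z ∈ h8MS D X) : h8nS D X (D.simple i) c * z ∈ h8MS D X := by
  obtain ⟨u, hu, n, hn, u', hu', rfl⟩ := hz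
  obtain ⟨hg, hrow⟩ := hL.hBN.up i hi
  have hpa := h8simple_pos D hL.hBN i hi
  obtain ⟨y, hy, a, rfl⟩ := h8sys_up_decomp hP.sys i hg hrow u hu
  obtain ⟨nh, hnh⟩ : ∃ nh, nh = h8nS D X (D.simple i) c := ⟨_, rfl⟩
  have hnhN : nh ∈ Subgroup.closure (h8NS D X) := hnh ▸ h8nS_mem_NS D X i hi c hc
  have hyc := h8pair_n_conj_up hP hL i hi c hc y hy
  rw [← hnh] at hyc ⊢
  have hycU := h8UpS_le_Vk D X (D.simple i) hyc
  obtain ⟨σ, τ, a1, a2, a3, a4, a5, a6, a7⟩ := h8pair_permS hP hL hWS hN2 n hn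
  -- the action of n⁻¹
  have hτ : ∀ r < D.nroots, H8ActX X n⁻¹ r (τ r) := by
    intro r hr
    have := h8actX_inv n (τ r) (σ (τ r)) (a7 _ (a2 r hr))
    rwa [a4 r hr] at this
  have key : nh * (y * X (D.simple i) a * n * u') =
      (nh * y * nh⁻¹) * (nh * X (D.simple i) a * n) * u' := by group
  rw [key]
  -- it suffices to treat `nh * X a * n`
  suffices hs : ∃ v ∈ Subgroup.closure (h8VkS D X 0), ∃ m ∈ Subgroup.closure (h8NS D X),
      ∃ v' ∈ Subgroup.closure (h8VkS D X 0), nh * X (D.simple i) a * n = v * m * v' by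
    obtain ⟨v, hv, m, hm, v', hv', e⟩ := hs
    refine ⟨(nh * y * nh⁻¹) * v, Subgroup.mul_mem _ hycU hv, m, hm, v' * u',
      Subgroup.mul_mem _ hv' hu', ?_⟩
    rw [e]
    group
  rcases hB.posneg _ (a2 _ hpa.1) with hpos | hneg
  · -- `n⁻¹ α_i n` is positive
    obtain ⟨c1, _, e1⟩ := hτ _ hpa.1
    refine ⟨1, Subgroup.one_mem _, nh * n, Subgroup.mul_mem _ hnhN hn,
      X (τ (D.simple i)) (c1 * a), h8X_mem_Vk D X _ hpos _, ?_⟩
    rw [← e1 a, inv_inv]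
    group
  · by_cases ha : a = 0
    · refine ⟨1, Subgroup.one_mem _, nh * n, Subgroup.mul_mem _ hnhN hn, 1, Subgroup.one_mem _, ?_⟩
      rw [ha, h8sys_zero hP.sys _ hpa.1]
      group
    · have hnlt := hL.hW.neglt _ hpa.1
      obtain ⟨c1, hc1, e1⟩ := h8pair_n_all hP hL hWS hN2 i hi c hc _ hpa.1
      rw [h8reflectRoot_simple, ← hnh] at e1
      have ha' : c1 * a ≠ 0 := mul_ne_zero hc1 ha
      have E2 := h8sys_neg_eq hP.sys _ hpa.1 (c1 * a)
      obtain ⟨c3, _, e3⟩ := hτ _ hnlt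
      obtain ⟨c4, _, e4⟩ := h8actX_inv _ _ _ (h8pair_n_all hP hL hWS hN2 i hi c hc _ hnlt)
      have hrr : D.reflectRoot i (D.negIdx.getD (D.simple i) 0) = D.simple i := by
        obtain ⟨η, hR⟩ := h8reflAll_spec D hL.hA i hi
        rw [hR.negc _ hpa.1, h8reflectRoot_simple, h8negneg hL _ hpa.1]
      rw [hrr, ← hnh] at e4
      have hposn : D.IsPosRoot (τ (D.negIdx.getD (D.simple i) 0)) := by
        rw [a6 _ hpa.1]
        exact h8stPosOfNeg hB hL _ hneg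
      refine ⟨X (D.simple i) (c1 * a)⁻¹, h8X_mem_Vk D X _ hpa _,
        h8nS D X (D.simple i) (-(c1 * a)⁻¹) * nh * n,
        Subgroup.mul_mem _ (Subgroup.mul_mem _
          (h8nS_mem_NS D X i hi _ (neg_ne_zero.mpr (inv_ne_zero ha'))) hnhN) hn,
        X (τ (D.negIdx.getD (D.simple i) 0)) (c3 * (c4 * (c1 * a)⁻¹)),
        h8X_mem_Vk D X _ hposn _, ?_⟩
      rw [← e3, ← e4]
      have : nh * X (D.simple i) a * n = (nh * X (D.simple i) a * nh⁻¹) * nh * n := by group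
      rw [this, e1 a, E2]
      group

end Cfsg.Agent.Lib.helper8
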