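import Mathlib
import Cfsg.Prelude.Def_ChevStructure
import Cfsg.Agent.Lib.helper8.ChevSt16
import Cfsg.Agent.Lib.helper8.ChevMono
import Cfsg.Agent.Lib.helper8.ChevCnt1
import Cfsg.Agent.Lib.helper8.ChevFix4

set_option autoImplicit false
set_option linter.unusedSectionVars false

namespace Cfsg.Agent.Lib.helper8

open Cfsg.Lie Cfsg.Lie.ChevalleyDatum

universe u v

variable {K : Type u} [Field K] {Γ : Type v} [Group Γ]
variable {D : ChevalleyDatum} {X : ℕ → K → Γ}

/-- induction over the roots along the orbits of the simple reflections -/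
theorem h8orb_induction (D : ChevalleyDatum) (hA : H8ReflAll D) (dep par : List ℕ)
    (h : h8orbChk D dep par = true) (P : ℕ → Prop) (h0 : ∀ j < D.rank, P (D.simple j))
    (hstep : ∀ i < D.rank, ∀ r < D.nroots, P (D.reflectRoot i r) → P r) :
    ∀ r < D.nroots, P r := by
  unfold h8orbChk at h
  simp only [Bool.and_eq_true, Bool.or_eq_true, decide_eq_true_eq, List.all_eq_true,
    List.any_eq_true, List.mem_range] at h
  obtain ⟨h256, h⟩ := h
  have key : ∀ n : ℕ, ∀ r < D.nroots, dep.getD r 0 = n → P r := by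
    intro n
    induction n using Nat.strong_induction_on with
    | _ n ih =>
      intro r hr hn
      rcases h r hr with ⟨_, j, hj, hjr⟩ | ⟨i, hp, _, hd⟩
      · rw [← hjr]
        exact h0 j hj
      · obtain ⟨η, hR⟩ := h8reflAll_spec D hA _ hp
        rw [h8sg_eq D _ hR.lt h256 r hr] at hd
        have h1 := ih _ (hn ▸ hd) _ (hR.lt r hr) rfl
        exact hstep _ hp r hr h1
  intro r hr
  exact key _ r hr rfl

theorem h8pair_X_mul_MS {hB : H8Base.{u} D} {π : Γ →* GL D.Idx K} (hP : H8Pair D hB X π 1)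
    (hL : H8All D) (hWS : H8W0S D) (hN2 : H8N2 D) :
    ∀ r < D.nroots, ∀ (t : K) (z : Γ), z ∈ h8MS D X → X r t * z ∈ h8MS D X := by
  obtain ⟨dep, par, horb⟩ := hL.hBN.orb
  apply h8orb_induction D hL.hA dep par horb
  · intro j hj t z hz
    obtain ⟨u, hu, n, hn, u', hu', rfl⟩ := hz
    refine ⟨X (D.simple j) t * u, Subgroup.mul_mem _
      (h8X_mem_Vk D X _ (h8simple_pos D hL.hBN j hj) t) hu, n, hn, u', hu', ?_⟩
    group
  · intro i hi r hr ih t z hz
    obtain ⟨c, hc, e⟩ := h8pair_n_all hP hL hWS hN2 i hi 1 one_ne_zero r hr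
    have hp := (h8simple_pos D hL.hBN i hi).1
    have h1 := h8pair_bn_core hP hL hWS hN2 i hi 1 one_ne_zero z hz
    have h2 := ih (c * t) _ h1
    have h3 := h8pair_bn_core hP hL hWS hN2 i hi (-1) (neg_ne_zero.mpr one_ne_zero) _ h2
    rw [← h8nS_inv hP.sys hL _ hp, ← e t] at h3
    have e2 : (h8nS D X (D.simple i) 1)⁻¹ * (h8nS D X (D.simple i) 1 * X r t *
        (h8nS D X (D.simple i) 1)⁻¹ * (h8nS D X (D.simple i) 1 * z)) = X r t * z := by group
    rwa [e2] at h3

/-- the generators of the whole group -/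
def h8AllS (D : ChevalleyDatum) (X : ℕ → K → Γ) : Set Γ :=
  {g : Γ | ∃ (r : ℕ) (t : K), r < D.nroots ∧ g = X r t}

/-- Bruhat type decomposition `Γ = U N U` -/
theorem h8pair_bruhat {hB : H8Base.{u} D} {π : Γ →* GL D.Idx K} (hP : H8Pair D hB X π 1)
    (hL : H8All D) (hWS : H8W0S D) (hN2 : H8N2 D) (z : Γ)
    (hz : z ∈ Subgroup.closure (h8AllS D X)) : z ∈ h8MS D X := by
  induction hz using Subgroup.closure_induction_left with
  | one =>
    exact ⟨1, Subgroup.one_mem _, 1, Subgroup.one_mem _, 1, Subgroup.one_mem _, by group⟩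
  | mul_left x hx y _ ih =>
    obtain ⟨r, t, hr, rfl⟩ := hx
    exact h8pair_X_mul_MS hP hL hWS hN2 r hr t y ih
  | inv_mul_cancel x hx y _ ih =>
    obtain ⟨r, t, hr, rfl⟩ := hx
    rw [h8sys_inv hP.sys r hr]
    exact h8pair_X_mul_MS hP hL hWS hN2 r hr (-t) y ih

end Cfsg.Agent.Lib.helper8
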