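import Mathlib
import Cfsg.Prelude.Def_ChevStructure
import Cfsg.Agent.Lib.helper8.ChevSt17
import Cfsg.Agent.Lib.helper8.ChevWeyl1

set_option autoImplicit false
set_option linter.unusedSectionVars false

namespace Cfsg.Agent.Lib.helper8

open Cfsg.Lie Cfsg.Lie.ChevalleyDatum

universe u v

variable {K : Type u} [Field K] {Γ : Type v} [Group Γ]
variable {D : ChevalleyDatum} {X : ℕ → K → Γ}

theorem h8pair_NS_image {hB : H8Base.{u} D} {π : Γ →* GL D.Idx K} (hP : H8Pair D hB X π 1)
    (hL : H8All D) (n : Γ) (hn : n ∈ Subgroup.closure (h8NS D X)) :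
    π n ∈ D.monomialSubgroup K := by
  induction hn using Subgroup.closure_induction with
  | mem x hx =>
    obtain ⟨i, c, hi, hc, rfl⟩ := hx
    have hp := (h8simple_pos D hL.hBN i hi).1
    rw [h8pair_nS hP hL _ hp, h8nU_eq_hU]
    exact Subgroup.mul_mem _ (h8H_le_N D (h8hU_mem_H D hB _ hp c hc)) (h8nU_mem_N D hB _ hp)
  | one => rw [map_one]; exact Subgroup.one_mem _
  | mul a b _ _ ha hb => rw [map_mul]; exact Subgroup.mul_mem _ ha hb
  | inv a _ ha => rw [map_inv]; exact Subgroup.inv_mem _ ha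

theorem h8pair_US_image {hB : H8Base.{u} D} {π : Γ →* GL D.Idx K} (hP : H8Pair D hB X π 1)
    (x : Γ) (hx : x ∈ Subgroup.closure (h8VkS D X 0)) : π x ∈ D.posUnipotent K := by
  induction hx using Subgroup.closure_induction with
  | mem x hx =>
    obtain ⟨r, t, hr, _, rfl⟩ := hx
    rw [h8pair_one_im hP r hr.1]
    exact h8xU_mem_U D hB r hr t
  | one => rw [map_one]; exact Subgroup.one_mem _
  | mul a b _ _ ha hb => rw [map_mul]; exact Subgroup.mul_mem _ ha hb
  | inv a _ ha => rw [map_inv]; exact Subgroup.inv_mem _ ha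

/-- an element of the abstract monomial group which is killed by `π` is central -/
theorem h8pair_NS_ker_comm {hB : H8Base.{u} D} {π : Γ →* GL D.Idx K} (hP : H8Pair D hB X π 1)
    (hL : H8All D) (hWS : H8W0S D) (hN2 : H8N2 D) (n : Γ)
    (hn : n ∈ Subgroup.closure (h8NS D X)) (h1 : π n = 1) (r : ℕ) (hr : r < D.nroots) (t : K) :
    n * X r t * n⁻¹ = X r t := by
  obtain ⟨σ, τ, a1, a2, a3, a4, a5, a6, a7⟩ := h8pair_permS hP hL hWS hN2 n hn
  obtain ⟨c, hc, e⟩ := a7 r hr
  have hπ : ∀ t : K, h8xU D hB r t = h8xU D hB (σ r) (c * t) := by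
    intro t
    have := congrArg π (e t)
    rw [map_mul, map_mul, map_inv, h1, one_mul, inv_one, mul_one, h8pair_one_im hP r hr,
      h8pair_one_im hP _ (a1 r hr)] at this
    exact this
  have hσ : r = σ r := h8x_inj_root D hB hL.hA hL.hBN hL.hW hL.hO2 r (σ r) hr (a1 r hr) 1 (c * 1)
    one_ne_zero (by simpa using hc) (hπ 1)
  have hc1 : c = 1 := by
    have h2 := hπ 1
    rw [← hσ] at h2
    have := h8xU_inj_t D hB hL.hA hL.hW r hr _ _ h2
    rw [mul_one] at this
    exact this.symm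
  rw [e t, ← hσ, hc1, one_mul]

/-- the kernel of `π` is central -/
theorem h8pair_ker_central {hB : H8Base.{u} D} {π : Γ →* GL D.Idx K} (hP : H8Pair D hB X π 1)
    (hL : H8All D) (hWS : H8W0S D) (hN2 : H8N2 D)
    (hgen : Subgroup.closure (h8AllS D X) = ⊤) (z : Γ) (hz : π z = 1) :
    z ∈ Subgroup.closure (h8NS D X) ∧ z ∈ Subgroup.center Γ := by
  have hzM := h8pair_bruhat hP hL hWS hN2 z (by rw [hgen]; exact Subgroup.mem_top _)
  obtain ⟨u, hu, n, hn, u', hu', rfl⟩ := hzM
  obtain ⟨dep, par, horb⟩ := hL.hBN.orb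
  have hU := h8pair_US_image hP u hu
  have hU' := h8pair_US_image hP u' hu'
  have hN := h8pair_NS_image hP hL n hn
  rw [map_mul, map_mul] at hz
  have hn1 : π n = 1 := by
    have h1 : π n ∈ D.posUnipotent K ⊓ D.monomialSubgroup K := by
      rw [Subgroup.mem_inf]
      refine ⟨?_, hN⟩
      have : π n = (π u)⁻¹ * (π u * π n * π u') * (π u')⁻¹ := by group
      rw [this, hz, mul_one]
      exact Subgroup.mul_mem _ (Subgroup.inv_mem _ hU) (Subgroup.inv_mem _ hU')
    rw [h8_U_inf_N D hB hL.hA dep par horb, Subgroup.mem_bot] at h1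
    exact h1
  rw [hn1, mul_one, ← map_mul] at hz
  have huu := h8pair_inj_pos hP hL.hO hL.hO2 _ (Subgroup.mul_mem _ hu hu') hz
  have hncomm : ∀ y : Γ, y * n = n * y := by
    intro y
    have hy : y ∈ Subgroup.closure (h8AllS D X) := by rw [hgen]; exact Subgroup.mem_top _
    induction hy using Subgroup.closure_induction with
    | mem x hx =>
      obtain ⟨r, t, hr, rfl⟩ := hx
      have := h8pair_NS_ker_comm hP hL hWS hN2 n hn hn1 r hr t
      rw [mul_inv_eq_iff_eq_mul] at this
      exact this.symm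
    | one => rw [one_mul, mul_one]
    | mul a b _ _ ha hb => rw [mul_assoc, hb, ← mul_assoc, ha, mul_assoc]
    | inv a _ ha =>
      rw [inv_mul_eq_iff_eq_mul, ← mul_assoc, ha, mul_assoc, mul_inv_cancel, mul_one]
  have hzn : u * n * u' = n := by
    rw [hncomm u, mul_assoc, huu, mul_one]
  rw [hzn]
  refine ⟨hn, ?_⟩
  rw [Subgroup.mem_center_iff]
  exact hncomm

end Cfsg.Agent.Lib.helper8
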