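import Mathlib
import Cfsg.Prelude.Def_ChevStructure
import Cfsg.Agent.Lib.helper8.ChevSt4
import Cfsg.Agent.Lib.helper8.ChevReflAll
import Cfsg.Agent.Lib.helper8.ChevCommAll

set_option autoImplicit false
set_option linter.unusedSectionVars false

namespace Cfsg.Agent.Lib.helper8

open Cfsg.Lie Cfsg.Lie.ChevalleyDatum

def h8twChk (D : ChevalleyDatum) (i : ℕ) (eta : List ℤ) : Bool :=
  (List.range D.nroots).all fun r => (List.range D.nroots).all fun s =>
    decide (D.commTerms (D.reflectRoot i r) (D.reflectRoot i s) =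
      (D.commTerms r s).map
        (h8commT (D.reflectRoot i) (fun s => eta.getD s 0) (eta.getD r 0) (eta.getD s 0)))

theorem h8twChk_spec (D : ChevalleyDatum) (i : ℕ) (eta : List ℤ) (h : h8twChk D i eta = true) :
    H8TwT D i (fun s => eta.getD s 0) := by
  unfold h8twChk at h
  simp only [List.all_eq_true, List.mem_range, decide_eq_true_eq] at h
  intro r hr s hs
  exact h r hr s hs

theorem h8twAll_of_len2 (D : ChevalleyDatum) (hA : H8ReflAll D) (hlen : h8len2Chk D = true) :
    H8TwAll D := by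
  refine ⟨hA.ce, hA.ca, ?_⟩
  intro i hi
  obtain ⟨eta, hN, hE, hRc⟩ := hA.refl i hi
  have hR := h8reflChk_spec D i hi eta hN hE hA.ce hA.ca hRc
  refine ⟨eta, hN, hE, hRc, ?_⟩
  intro r hr s hs
  exact h8commTerms_refl D hlen i _ hR r s hr hs

set_option maxRecDepth 100000 in
theorem h8len2_B2 : h8len2Chk chevB2 = true := by decide +kernel

set_option maxRecDepth 100000 in
theorem h8twChk_G2_0 : h8twChk chevG2 0 (h8eta_G2 0) = true := by decide +kernel

set_option maxRecDepth 100000 in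
theorem h8twChk_G2_1 : h8twChk chevG2 1 (h8eta_G2 1) = true := by decide +kernel

theorem h8twAll_G2 : H8TwAll chevG2 := by
  refine ⟨h8ceChk_G2, h8CAchk_G2, ?_⟩
  intro i hi
  have hr : chevG2.rank = 2 := rfl
  rw [hr] at hi
  interval_cases i
  · exact ⟨h8eta_G2 0, (h8n_G2 0 (by decide)).1, (h8n_G2 0 (by decide)).2, h8reflChk_G2_0,
      h8twChk_spec _ _ _ h8twChk_G2_0⟩
  · exact ⟨h8eta_G2 1, (h8n_G2 1 (by decide)).1, (h8n_G2 1 (by decide)).2, h8reflChk_G2_1,
      h8twChk_spec _ _ _ h8twChk_G2_1⟩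

theorem h8twAll (D : ChevalleyDatum)
    (hD : D ∈ [chevG2, chevB2, chevD4, chevF4, chevE6, chevE7, chevE8]) : H8TwAll D := by
  have hA := h8reflAll D hD
  simp only [List.mem_cons, List.not_mem_nil, or_false] at hD
  rcases hD with rfl | rfl | rfl | rfl | rfl | rfl | rfl
  · exact h8twAll_G2
  · exact h8twAll_of_len2 _ hA h8len2_B2
  · exact h8twAll_of_len2 _ hA h8len2_D4
  · exact h8twAll_of_len2 _ hA h8len2_F4
  · exact h8twAll_of_len2 _ hA h8len2_E6
  · exact h8twAll_of_len2 _ hA h8len2_E7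
  · exact h8twAll_of_len2 _ hA h8len2_E8

end Cfsg.Agent.Lib.helper8
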