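import Mathlib
import Cfsg.Prelude.Def_SteinbergCover

set_option autoImplicit false

namespace Cfsg.Agent.Lib.helper8

open Cfsg.Lie Cfsg.Lie.ChevalleyDatum

open scoped commutatorElement

variable {K : Type*} [Field K]

theorem h8sc_add (D : ChevalleyDatum) (r : ℕ) (hr : r < D.nroots) (t u : K) :
    D.scGen K r t * D.scGen K r u = D.scGen K r (t + u) := by
  have h : D.stX r t * D.stX r u * (D.stX r (t + u))⁻¹ ∈ D.steinbergRelsAB K :=
    Or.inl ⟨r, t, u, hr, rfl⟩
  have h1 := PresentedGroup.one_of_mem h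
  unfold ChevalleyDatum.scGen
  rw [map_mul, map_mul, map_inv, mul_inv_eq_one] at h1
  exact h1

theorem h8sc_zero (D : ChevalleyDatum) (r : ℕ) (hr : r < D.nroots) : D.scGen K r (0 : K) = 1 := by
  have := h8sc_add D r hr (0 : K) 0
  rw [add_zero] at this
  exact mul_eq_left.mp this

theorem h8sc_inv (D : ChevalleyDatum) (r : ℕ) (hr : r < D.nroots) (t : K) :
    (D.scGen K r t)⁻¹ = D.scGen K r (-t) := by
  rw [inv_eq_iff_mul_eq_one, h8sc_add D r hr, add_neg_cancel, h8sc_zero D r hr]

def h8scWord (D : ChevalleyDatum) (w : List (ℕ × K)) : D.SteinbergCover K :=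
  (w.map fun p => D.scGen K p.1 p.2).prod

theorem h8sc_mk_stWord (D : ChevalleyDatum) (w : List (ℕ × K)) :
    PresentedGroup.mk (D.steinbergRelsAB K) (D.stWord w) = h8scWord D w := by
  unfold ChevalleyDatum.stWord h8scWord
  rw [map_list_prod, List.map_map]
  rfl

theorem h8sc_comm (D : ChevalleyDatum) (r s : ℕ) (hr : r < D.nroots) (hs : s < D.nroots)
    (h1 : s ≠ r) (h2 : s ≠ D.neg r) (t u : K) :
    (D.scGen K s u)⁻¹ * (D.scGen K r t)⁻¹ * D.scGen K s u * D.scGen K r t =
      h8scWord D (D.commWord K r s t u) := by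
  have h : (D.stX s u)⁻¹ * (D.stX r t)⁻¹ * D.stX s u * D.stX r t *
      (D.stWord (D.commWord K r s t u))⁻¹ ∈ D.steinbergRelsAB K :=
    Or.inr ⟨r, s, t, u, hr, hs, h1, h2, rfl⟩
  have h3 := PresentedGroup.one_of_mem h
  rw [map_mul, map_mul, map_mul, map_mul, map_inv, map_inv, map_inv, mul_inv_eq_one,
    h8sc_mk_stWord] at h3
  exact h3

theorem h8sc_comm_mem (D : ChevalleyDatum) (r s : ℕ) (hr : r < D.nroots) (hs : s < D.nroots)
    (h1 : s ≠ r) (h2 : s ≠ D.neg r) (t u : K) :
    h8scWord D (D.commWord K r s t u) ∈ commutator (D.SteinbergCover K) := by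
  rw [← h8sc_comm D r s hr hs h1 h2 t u]
  have : (D.scGen K s u)⁻¹ * (D.scGen K r t)⁻¹ * D.scGen K s u * D.scGen K r t =
      ⁅(D.scGen K s u)⁻¹, (D.scGen K r t)⁻¹⁆ := by
    rw [commutatorElement_def, inv_inv, inv_inv]
  rw [this]
  exact Subgroup.commutator_mem_commutator (Subgroup.mem_top _) (Subgroup.mem_top _)

theorem h8sc_top (D : ChevalleyDatum)
    (h : ∀ r < D.nroots, ∀ t : K, D.scGen K r t ∈ commutator (D.SteinbergCover K)) :
    commutator (D.SteinbergCover K) = ⊤ := by
  rw [eq_top_iff]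
  intro g hg
  clear hg
  induction g using PresentedGroup.induction_on with
  | _ z =>
    induction z using FreeGroup.induction_on with
    | C1 => rw [map_one]; exact Subgroup.one_mem _
    | of x =>
      have := h x.1.val x.1.2 x.2
      unfold ChevalleyDatum.scGen ChevalleyDatum.stX at this
      rwa [dif_pos x.1.2] at this
    | inv_of x hx =>
      rw [map_inv]
      exact Subgroup.inv_mem _ hx
    | mul x y hx hy =>
      rw [map_mul]
      exact Subgroup.mul_mem _ hx hy

end Cfsg.Agent.Lib.helper8
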