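import Mathlib
import Cfsg.Prelude.Def_SteinbergCover
import Cfsg.Agent.Lib.helper8.ChevSt5
import Cfsg.Agent.Lib.helper8.ChevStC1

set_option autoImplicit false
set_option linter.unusedSectionVars false

namespace Cfsg.Agent.Lib.helper8

open Cfsg.Lie Cfsg.Lie.ChevalleyDatum

universe u

variable {K : Type u} [Field K]

theorem h8scWord_eq (D : ChevalleyDatum) (w : List (ℕ × K)) :
    h8scWord D w = h8wX (D.scGen K) w := rfl

theorem h8sc_sys (D : ChevalleyDatum) : H8Sys D (D.scGen K) := by
  constructor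
  · intro r hr t u
    exact h8sc_add D r hr t u
  · intro r hr s hs h1 h2 t u
    have := h8sc_comm D r s hr hs h1 h2 t u
    rw [h8scWord_eq] at this
    rw [← this]
    group

/-- the images of the free generators -/
def h8scF (D : ChevalleyDatum) (hB : H8Base.{u} D) : Fin D.nroots × K → GL D.Idx K :=
  fun p => h8xU D hB p.1.val p.2

theorem h8scF_stX (D : ChevalleyDatum) (hB : H8Base.{u} D) (r : ℕ) (t : K) :
    FreeGroup.lift (h8scF D hB) (D.stX r t) = h8xU D hB r t := by
  unfold ChevalleyDatum.stX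
  by_cases hr : r < D.nroots
  · rw [dif_pos hr, FreeGroup.lift_apply_of]
    rfl
  · rw [dif_neg hr, map_one]
    apply Units.ext
    rw [h8xU_val]
    unfold ChevalleyDatum.x
    rw [dif_neg hr]
    rfl

theorem h8scF_stWord (D : ChevalleyDatum) (hB : H8Base.{u} D) (w : List (ℕ × K)) :
    FreeGroup.lift (h8scF D hB) (D.stWord w) = h8wordU D hB w := by
  unfold ChevalleyDatum.stWord h8wordU
  rw [map_list_prod, List.map_map]
  congr 1
  apply List.map_congr_left
  intro p _
  exact h8scF_stX D hB p.1 p.2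

theorem h8scF_rels (D : ChevalleyDatum) (hB : H8Base.{u} D) (hC : H8CommAll.{u} D) :
    ∀ r ∈ D.steinbergRelsAB K, FreeGroup.lift (h8scF D hB) r = 1 := by
  intro g hg
  rcases hg with ⟨r, t₁, t₂, hr, rfl⟩ | ⟨r, s, t, u, hr, hs, h1, h2, rfl⟩
  · rw [map_mul, map_mul, map_inv, h8scF_stX, h8scF_stX, h8scF_stX, h8xU_add D hB r hr,
      mul_inv_cancel]
  · rw [map_mul, map_mul, map_mul, map_mul, map_inv, map_inv, map_inv, h8scF_stX, h8scF_stX,
      h8scF_stWord, mul_inv_eq_one]
    have key : h8xU D hB s u * h8xU D hB r t =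
        h8xU D hB r t * h8xU D hB s u * h8wordU D hB (D.commWord K r s t u) := by
      apply Units.ext
      rw [Units.val_mul, Units.val_mul, Units.val_mul, h8wordU_val, h8xU_val, h8xU_val]
      exact hC.all r hr s hs h1 h2 K t u
    rw [mul_assoc, mul_assoc, key]
    group

/-- the natural homomorphism from the cover to matrices -/
noncomputable def h8scPi (D : ChevalleyDatum) (hB : H8Base.{u} D) (hC : H8CommAll.{u} D) :
    D.SteinbergCover K →* GL D.Idx K :=
  PresentedGroup.toGroup (h8scF_rels D hB hC)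

theorem h8scPi_gen (D : ChevalleyDatum) (hB : H8Base.{u} D) (hC : H8CommAll.{u} D) (r : ℕ)
    (t : K) : h8scPi D hB hC (D.scGen K r t) = h8xU D hB r t := by
  unfold h8scPi ChevalleyDatum.scGen
  have : (PresentedGroup.toGroup (h8scF_rels D hB hC))
      (PresentedGroup.mk (D.steinbergRelsAB K) (D.stX r t)) =
      FreeGroup.lift (h8scF D hB) (D.stX r t) := rfl
  rw [this, h8scF_stX]

theorem h8sc_pair (D : ChevalleyDatum) (hB : H8Base.{u} D) (hC : H8CommAll.{u} D) :
    H8Pair D hB (D.scGen K) (h8scPi D hB hC) 1 := by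
  refine ⟨h8sc_sys D, ?_⟩
  intro r _ t
  rw [one_mul, inv_one, mul_one, h8scPi_gen]

end Cfsg.Agent.Lib.helper8
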