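import Mathlib
import Cfsg.Prelude.Def_SteinbergCover
import Cfsg.Agent.Lib.helper8.ChevSt18
import Cfsg.Agent.Lib.helper8.ChevSt7
import Cfsg.Agent.Lib.helper8.ChevSt6
import Cfsg.Agent.Lib.helper8.ChevBNAll
import Cfsg.Agent.Lib.helper8.ChevBNAll2
import Cfsg.Agent.Lib.helper8.ChevOrdAll
import Cfsg.Agent.Lib.helper8.ChevBaseAll

set_option autoImplicit false
set_option linter.unusedSectionVars false

namespace Cfsg.Agent.Lib.helper8

open Cfsg.Lie Cfsg.Lie.ChevalleyDatum

universe u

variable {K : Type u} [Field K]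

theorem h8all_all (D : ChevalleyDatum)
    (hD : D ∈ [chevG2, chevB2, chevD4, chevF4, chevE6, chevE7, chevE8]) : H8All D :=
  ⟨h8reflAll D hD, h8bn_all D hD, h8bn2_all D hD, (h8ord_all D hD).1, (h8ord_all D hD).2,
    h8twAll D hD⟩

theorem h8sc_gen (D : ChevalleyDatum) : Subgroup.closure (h8AllS D (D.scGen K)) = ⊤ := by
  rw [eq_top_iff, ← PresentedGroup.closure_range_of (D.steinbergRelsAB K)]
  apply Subgroup.closure_mono
  rintro g ⟨p, rfl⟩
  refine ⟨p.1.val, p.2, p.1.2, ?_⟩
  unfold ChevalleyDatum.scGen ChevalleyDatum.stX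
  rw [dif_pos p.1.2]
  rfl

theorem h8scPi_mem_group (D : ChevalleyDatum) (hB : H8Base.{u} D) (hC : H8CommAll.{u} D)
    (z : D.SteinbergCover K) : h8scPi D hB hC z ∈ D.group K := by
  have hz : z ∈ Subgroup.closure (h8AllS D (D.scGen K)) := by
    rw [h8sc_gen]; exact Subgroup.mem_top _
  induction hz using Subgroup.closure_induction with
  | mem x hx =>
    obtain ⟨r, t, _, rfl⟩ := hx
    rw [h8scPi_gen]
    have : h8xU D hB r t = h8wordU D hB [(r, t)] := by
      unfold h8wordU
      simp
    rw [this]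
    exact h8wordU_mem_group D hB _
  | one => rw [map_one]; exact Subgroup.one_mem _
  | mul a b _ _ ha hb => rw [map_mul]; exact Subgroup.mul_mem _ ha hb
  | inv a _ ha => rw [map_inv]; exact Subgroup.inv_mem _ ha

/-- the group presented by Steinberg's relations (A) and (B) is a central extension of the
Chevalley group -/
theorem h8st_cover_main (D : ChevalleyDatum)
    (hD : D ∈ [chevG2, chevB2, chevD4, chevF4, chevE6, chevE7, chevE8]) :
    ∃ θ : D.SteinbergCover K →* ↥(D.group K), Function.Surjective θ ∧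
      θ.ker ≤ Subgroup.center (D.SteinbergCover K) ∧
      ∀ (r : ℕ) (t : K), r < D.nroots →
        ((θ (D.scGen K r t) : GL D.Idx K) : Matrix D.Idx D.Idx K) = D.x K r t := by
  have hB := h8base_all.{u} D hD
  have hC := h8commAll.{u} D hD
  have hL := h8all_all D hD
  have hWS := h8w0s_all D hD
  have hN2 := h8n2_all D hD
  have hP := h8sc_pair (K := K) D hB hC
  refine ⟨(h8scPi D hB hC).codRestrict (D.group K) (h8scPi_mem_group D hB hC), ?_, ?_, ?_⟩
  · rintro ⟨g, hg⟩
    unfold ChevalleyDatum.group at hg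
    induction hg using Subgroup.closure_induction with
    | mem x hx =>
      obtain ⟨r, t, hx⟩ := hx
      refine ⟨D.scGen K r.val t, ?_⟩
      apply Subtype.ext
      show h8scPi D hB hC (D.scGen K r.val t) = x
      rw [h8scPi_gen]
      apply Units.ext
      rw [h8xU_val, hx]
      unfold ChevalleyDatum.x
      rw [dif_pos r.2]
    | one => exact ⟨1, Subtype.ext (by simp)⟩
    | mul a b ha hb iha ihb =>
      obtain ⟨za, hza⟩ := iha
      obtain ⟨zb, hzb⟩ := ihb
      refine ⟨za * zb, ?_⟩
      rw [map_mul, hza, hzb]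
      rfl
    | inv a ha iha =>
      obtain ⟨za, hza⟩ := iha
      refine ⟨za⁻¹, ?_⟩
      rw [map_inv, hza]
      rfl
  · intro z hz
    rw [MonoidHom.mem_ker] at hz
    have h1 : h8scPi D hB hC z = 1 := by
      have := congrArg Subtype.val hz
      exact this
    exact (h8pair_ker_central hP hL hWS hN2 (h8sc_gen D) z h1).2
  · intro r t _
    show ((h8scPi D hB hC (D.scGen K r t) : GL D.Idx K) : Matrix D.Idx D.Idx K) = D.x K r t
    rw [h8scPi_gen, h8xU_val]

end Cfsg.Agent.Lib.helper8
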