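import Mathlib
import Cfsg.Prelude.Def_ChevStructure
import Cfsg.Agent.Lib.helper8.ChevSt18
import Cfsg.Agent.Lib.helper8.ChevTits1

set_option autoImplicit false
set_option linter.unusedSectionVars false

namespace Cfsg.Agent.Lib.helper8

open Cfsg.Lie Cfsg.Lie.ChevalleyDatum

universe u v

variable {K : Type u} [Field K] {Γ : Type v} [Group Γ]
variable {D : ChevalleyDatum} {X : ℕ → K → Γ}

/-- `y` conjugates `X (±r) ·` to `X (±r') ·` with inverse scalars -/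
def H8ActNX (D : ChevalleyDatum) (X : ℕ → K → Γ) (y : Γ) (r r' : ℕ) : Prop :=
  ∃ c : K, c ≠ 0 ∧ (∀ t : K, y * X r t * y⁻¹ = X r' (c * t)) ∧
    (∀ t : K, y * X (D.negIdx.getD r 0) t * y⁻¹ = X (D.negIdx.getD r' 0) (c⁻¹ * t))

theorem h8actNX_mul (y y' : Γ) (r r' r'' : ℕ) (h' : H8ActNX D X y' r r')
    (h : H8ActNX D X y r' r'') : H8ActNX D X (y * y') r r'' := by
  obtain ⟨c', hc', h1, h1'⟩ := h'
  obtain ⟨c, hc, h2, h2'⟩ := h
  refine ⟨c * c', mul_ne_zero hc hc', fun t => ?_, fun t => ?_⟩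
  · have : y * y' * X r t * (y * y')⁻¹ = y * (y' * X r t * y'⁻¹) * y⁻¹ := by group
    rw [this, h1, h2, mul_assoc]
  · have : y * y' * X (D.negIdx.getD r 0) t * (y * y')⁻¹ =
        y * (y' * X (D.negIdx.getD r 0) t * y'⁻¹) * y⁻¹ := by group
    rw [this, h1', h2', mul_inv, mul_assoc]

theorem h8actNX_inv (y : Γ) (r r' : ℕ) (h : H8ActNX D X y r r') : H8ActNX D X y⁻¹ r' r := by
  obtain ⟨c, hc, h1, h1'⟩ := h
  refine ⟨c⁻¹, inv_ne_zero hc, fun t => ?_, fun t => ?_⟩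
  · have h2 := h1 (c⁻¹ * t)
    rw [← mul_assoc, mul_inv_cancel₀ hc, one_mul] at h2
    rw [← h2]
    group
  · have h2 := h1' (c⁻¹⁻¹ * t)
    rw [← mul_assoc, mul_inv_cancel₀ (inv_ne_zero hc), one_mul] at h2
    rw [← h2]
    group

theorem h8actNX_one (r : ℕ) : H8ActNX D X (1 : Γ) r r := by
  refine ⟨1, one_ne_zero, fun t => ?_, fun t => ?_⟩
  · rw [one_mul, inv_one, mul_one, one_mul]
  · rw [one_mul, inv_one, mul_one, inv_one, one_mul]

/-- conjugating `n_r(t)` -/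
theorem h8actNX_nS (y : Γ) (r r' : ℕ) (h : H8ActNX D X y r r') :
    ∃ c : K, c ≠ 0 ∧ ∀ t : K, y * h8nS D X r t * y⁻¹ = h8nS D X r' (c * t) := by
  obtain ⟨c, hc, h1, h2⟩ := h
  refine ⟨c, hc, fun t => ?_⟩
  unfold h8nS
  have e : y * (X r t * X (D.negIdx.getD r 0) (-t⁻¹) * X r t) * y⁻¹ =
      (y * X r t * y⁻¹) * (y * X (D.negIdx.getD r 0) (-t⁻¹) * y⁻¹) * (y * X r t * y⁻¹) := by group
  rw [e, h1, h2]
  congr 2
  rw [mul_inv, mul_neg]

/-- the abstract scalars agree with the scalars of the matrix group -/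
theorem h8pair_actNX {hB : H8Base.{u} D} {π : Γ →* GL D.Idx K} (hP : H8Pair D hB X π 1)
    (hL : H8All D) (y : Γ) (r r' : ℕ) (hr : r < D.nroots) (hr' : r' < D.nroots)
    (h1 : H8ActX X y r r') (h2 : H8ActX X y (D.negIdx.getD r 0) (D.negIdx.getD r' 0))
    (hact : H8ActN D hB (π y) r r') : H8ActNX D X y r r' := by
  obtain ⟨k, hk, e1⟩ := h1
  obtain ⟨k', hk', e2⟩ := h2
  obtain ⟨κ, hκ, g1, g2⟩ := hact
  have hnr := hL.hW.neglt r hr
  have hnr' := hL.hW.neglt r' hr'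
  have a1 : k = κ := by
    have := congrArg π (e1 1)
    rw [map_mul, map_mul, map_inv, h8pair_one_im hP r hr, h8pair_one_im hP r' hr', g1] at this
    have := h8xU_inj_t D hB hL.hA hL.hW r' hr' _ _ this
    simpa using this.symm
  have a2 : k' = κ⁻¹ := by
    have := congrArg π (e2 1)
    rw [map_mul, map_mul, map_inv, h8pair_one_im hP _ hnr, h8pair_one_im hP _ hnr', g2] at this
    have := h8xU_inj_t D hB hL.hA hL.hW _ hnr' _ _ this
    simpa using this.symm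
  refine ⟨κ, hκ, ?_, ?_⟩
  · rw [← a1]; exact e1
  · rw [← a2]; exact e2

theorem h8actN_nU_gen (hB : H8Base.{u} D) (hL : H8All D) (i : ℕ) (hi : i < D.rank) (c : K)
    (hc : c ≠ 0) (r : ℕ) (hr : r < D.nroots) :
    H8ActN D hB (h8nU D hB (D.simple i) c) r (D.reflectRoot i r) := by
  obtain ⟨η, hR⟩ := h8reflAll_spec D hL.hA i hi
  have hp := (h8simple_pos D hL.hBN i hi).1
  rw [h8nU_eq_hU]
  apply h8actN_mul D hB _ _ r _ _ (h8actN_nU D hB hL.hA i hi r hr)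
  exact h8actN_hU D hB _ hp c hc _ (hR.lt r hr) (hL.hW.neglt _ (hR.lt r hr))

/-- `n_i(c)` acts on pairs of opposite root subgroups with inverse scalars -/
theorem h8pair_n_actNX {hB : H8Base.{u} D} {π : Γ →* GL D.Idx K} (hP : H8Pair D hB X π 1)
    (hL : H8All D) (hWS : H8W0S D) (hN2 : H8N2 D) (i : ℕ) (hi : i < D.rank) (c : K) (hc : c ≠ 0)
    (r : ℕ) (hr : r < D.nroots) :
    H8ActNX D X (h8nS D X (D.simple i) c) r (D.reflectRoot i r) := by
  obtain ⟨η, hR⟩ := h8reflAll_spec D hL.hA i hi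
  have hp := (h8simple_pos D hL.hBN i hi).1
  apply h8pair_actNX hP hL _ r _ hr (hR.lt r hr) (h8pair_n_all hP hL hWS hN2 i hi c hc r hr)
  · have := h8pair_n_all hP hL hWS hN2 i hi c hc _ (hL.hW.neglt r hr)
    rwa [hR.negc r hr] at this
  · rw [h8pair_nS hP hL _ hp]
    exact h8actN_nU_gen hB hL i hi c hc r hr

end Cfsg.Agent.Lib.helper8
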