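import Mathlib
import Cfsg.Prelude.Def_ChevStructure
import Cfsg.Agent.Lib.helper8.ChevSt20

set_option autoImplicit false
set_option linter.unusedSectionVars false

namespace Cfsg.Agent.Lib.helper8

open Cfsg.Lie Cfsg.Lie.ChevalleyDatum

universe u v

variable {K : Type u} [Field K] {Γ : Type v} [Group Γ]
variable {D : ChevalleyDatum} {X : ℕ → K → Γ}

/-- the element `h_r(t) = n_r(t) n_r(-1)` of an abstract family -/
def h8hS (D : ChevalleyDatum) (X : ℕ → K → Γ) (r : ℕ) (t : K) : Γ :=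
  h8nS D X r t * h8nS D X r (-1)

/-- the generators `h_{α_i}(t)` of the abstract torus -/
def h8HS (D : ChevalleyDatum) (X : ℕ → K → Γ) : Set Γ :=
  {g : Γ | ∃ (i : ℕ) (t : K), i < D.rank ∧ t ≠ 0 ∧ g = h8hS D X (D.simple i) t}

theorem h8nS_mul_neg (hS : H8Sys D X) (hL : H8All D) (r : ℕ) (hr : r < D.nroots) (a b : K) :
    h8nS D X r a * h8nS D X r (-b) = h8hS D X r a * (h8hS D X r b)⁻¹ := by
  unfold h8hS
  rw [← h8nS_inv hS hL r hr b]
  group

theorem h8hS_mem (D : ChevalleyDatum) (X : ℕ → K → Γ) (i : ℕ) (hi : i < D.rank) (t : K)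
    (ht : t ≠ 0) : h8hS D X (D.simple i) t ∈ Subgroup.closure (h8HS D X) :=
  Subgroup.subset_closure ⟨i, t, hi, ht, rfl⟩

theorem h8HS_le_NS (D : ChevalleyDatum) (X : ℕ → K → Γ) :
    Subgroup.closure (h8HS D X) ≤ Subgroup.closure (h8NS D X) := by
  rw [Subgroup.closure_le]
  rintro g ⟨i, t, hi, ht, rfl⟩
  unfold h8hS
  exact Subgroup.mul_mem _ (h8nS_mem_NS D X i hi t ht)
    (h8nS_mem_NS D X i hi (-1) (neg_ne_zero.mpr one_ne_zero))

section
variable {hB : H8Base.{u} D} {π : Γ →* GL D.Idx K} (hP : H8Pair D hB X π 1)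
  (hL : H8All D) (hWS : H8W0S D) (hN2 : H8N2 D)
include hP hL hWS hN2

/-- the abstract torus acts diagonally on the root subgroups -/
theorem h8pair_HS_act (h : Γ) (hh : h ∈ Subgroup.closure (h8HS D X)) :
    ∀ r < D.nroots, H8ActNX D X h r r := by
  induction hh using Subgroup.closure_induction with
  | mem x hx =>
    obtain ⟨i, t, hi, ht, rfl⟩ := hx
    intro r hr
    obtain ⟨η, hR⟩ := h8reflAll_spec D hL.hA i hi
    have h1 := h8pair_n_actNX hP hL hWS hN2 i hi (-1) (neg_ne_zero.mpr one_ne_zero) r hr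
    have h2 := h8pair_n_actNX hP hL hWS hN2 i hi t ht _ (hR.lt r hr)
    rw [hR.invol r hr] at h2
    exact h8actNX_mul _ _ _ _ _ h1 h2
  | one => intro r _; exact h8actNX_one r
  | mul a b _ _ ha hb =>
    intro r hr
    exact h8actNX_mul a b r r r (hb r hr) (ha r hr)
  | inv a _ ha =>
    intro r hr
    exact h8actNX_inv a r r (ha r hr)

theorem h8pair_n_conj_HS (j : ℕ) (hj : j < D.rank) (c : K) (hc : c ≠ 0) (s : Γ)
    (hs : s ∈ h8HS D X) :
    h8nS D X (D.simple j) c * s * (h8nS D X (D.simple j) c)⁻¹ ∈ Subgroup.closure (h8HS D X) := by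
  have hsT : s ∈ Subgroup.closure (h8HS D X) := Subgroup.subset_closure hs
  have hp := (h8simple_pos D hL.hBN j hj).1
  have hact := h8actNX_inv _ _ _ (h8pair_HS_act hP hL hWS hN2 s hsT _ hp)
  obtain ⟨μ, hμ, e⟩ := h8actNX_nS _ _ _ hact
  have e1 := e c
  rw [inv_inv] at e1
  have key : h8nS D X (D.simple j) c * s * (h8nS D X (D.simple j) c)⁻¹ =
      s * (s⁻¹ * h8nS D X (D.simple j) c * s) * (h8nS D X (D.simple j) c)⁻¹ := by group
  rw [key, e1, h8nS_inv hP.sys hL _ hp, mul_assoc, h8nS_mul_neg hP.sys hL _ hp]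
  exact Subgroup.mul_mem _ hsT (Subgroup.mul_mem _
    (h8hS_mem D X j hj _ (mul_ne_zero hμ hc)) (Subgroup.inv_mem _ (h8hS_mem D X j hj c hc)))

/-- the abstract monomial group normalizes the abstract torus -/
theorem h8pair_NS_le_normalizer :
    Subgroup.closure (h8NS D X) ≤
      Subgroup.normalizer (Subgroup.closure (h8HS D X) : Set Γ) := by
  rw [Subgroup.closure_le]
  rintro g ⟨j, c, hj, hc, rfl⟩
  have hp := (h8simple_pos D hL.hBN j hj).1
  apply h8_mem_normalizer_closure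
  · intro s hs
    exact h8pair_n_conj_HS hP hL hWS hN2 j hj c hc s hs
  · intro s hs
    have := h8pair_n_conj_HS hP hL hWS hN2 j hj (-c) (neg_ne_zero.mpr hc) s hs
    rwa [← h8nS_inv hP.sys hL _ hp, inv_inv] at this

end

end Cfsg.Agent.Lib.helper8
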