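import Mathlib
import Cfsg.Prelude.Def_ChevStructure
import Cfsg.Agent.Lib.helper8.ChevSt21

set_option autoImplicit false
set_option linter.unusedSectionVars false

namespace Cfsg.Agent.Lib.helper8

open Cfsg.Lie Cfsg.Lie.ChevalleyDatum

universe u v

variable {K : Type u} [Field K] {Γ : Type v} [Group Γ]
variable {D : ChevalleyDatum} {X : ℕ → K → Γ}

/-- the representative of a word in the simple reflections -/
def h8nWS (D : ChevalleyDatum) (X : ℕ → K → Γ) (v : List ℕ) : Γ :=
  (v.map fun i => h8nS D X (D.simple i) 1).prod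

theorem h8nWS_cons (i : ℕ) (v : List ℕ) :
    h8nWS D X (i :: v) = h8nS D X (D.simple i) 1 * h8nWS D X v := by
  unfold h8nWS
  rw [List.map_cons, List.prod_cons]

theorem h8nWS_append (v w : List ℕ) : h8nWS D X (v ++ w) = h8nWS D X v * h8nWS D X w := by
  unfold h8nWS
  rw [List.map_append, List.prod_append]

theorem h8nWS_mem_NS (v : List ℕ) (hv : ∀ i ∈ v, i < D.rank) :
    h8nWS D X v ∈ Subgroup.closure (h8NS D X) := by
  unfold h8nWS
  apply Subgroup.list_prod_mem
  intro g hg
  rw [List.mem_map] at hg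
  obtain ⟨i, hi, rfl⟩ := hg
  exact h8nS_mem_NS D X i (hv i hi) 1 one_ne_zero

theorem h8nS_eq_hS_mul (hS : H8Sys D X) (hL : H8All D) (r : ℕ) (hr : r < D.nroots) (c : K) :
    h8nS D X r c = h8hS D X r c * h8nS D X r 1 := by
  unfold h8hS
  rw [← h8nS_inv hS hL r hr 1]
  group

section
variable {hB : H8Base.{u} D} {π : Γ →* GL D.Idx K} (hP : H8Pair D hB X π 1)
  (hL : H8All D) (hWS : H8W0S D) (hN2 : H8N2 D)
include hP hL hWS hN2

theorem h8pair_nWS_act (v : List ℕ) (hv : ∀ i ∈ v, i < D.rank) (r : ℕ) (hr : r < D.nroots) :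
    H8ActNX D X (h8nWS D X v) r (h8sW D v r) := by
  induction v with
  | nil => exact h8actNX_one r
  | cons i v ih =>
    have hv' : ∀ j ∈ v, j < D.rank := fun j hj => hv j (List.mem_cons_of_mem _ hj)
    have hi : i < D.rank := hv i (List.mem_cons_self ..)
    rw [h8nWS_cons]
    have h1 : h8sW D (i :: v) r = D.reflectRoot i (h8sW D v r) := rfl
    rw [h1]
    exact h8actNX_mul _ _ _ _ _ (ih hv')
      (h8pair_n_actNX hP hL hWS hN2 i hi 1 one_ne_zero _ (h8sW_lt D hL.hA v hv' r hr))

omit hWS hN2 in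
theorem h8pair_nWS_im (v : List ℕ) (hv : ∀ i ∈ v, i < D.rank) :
    π (h8nWS D X v) = h8nWU D hB v := by
  induction v with
  | nil =>
    unfold h8nWS h8nWU
    simp
  | cons i v ih =>
    have hv' : ∀ j ∈ v, j < D.rank := fun j hj => hv j (List.mem_cons_of_mem _ hj)
    have hi : i < D.rank := hv i (List.mem_cons_self ..)
    have hp := (h8simple_pos D hL.hBN i hi).1
    rw [h8nWS_cons, map_mul, ih hv', h8pair_nS hP hL _ hp]
    unfold h8nWU
    rw [List.map_cons, List.prod_cons]

/-- every element of the abstract monomial group is a torus element times a word -/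
theorem h8pair_NS_decomp (n : Γ) (hn : n ∈ Subgroup.closure (h8NS D X)) :
    ∃ h ∈ Subgroup.closure (h8HS D X), ∃ v : List ℕ, (∀ i ∈ v, i < D.rank) ∧
      n = h * h8nWS D X v := by
  have key : ∀ (i : ℕ) (c : K), i < D.rank → c ≠ 0 → ∀ h ∈ Subgroup.closure (h8HS D X),
      ∀ v : List ℕ, (∀ j ∈ v, j < D.rank) →
      ∃ h' ∈ Subgroup.closure (h8HS D X), ∃ v' : List ℕ, (∀ j ∈ v', j < D.rank) ∧
        h8nS D X (D.simple i) c * (h * h8nWS D X v) = h' * h8nWS D X v' := by
    intro i c hi hc h hh v hv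
    have hp := (h8simple_pos D hL.hBN i hi).1
    have hmem := h8pair_NS_le_normalizer hP hL hWS hN2 (h8nS_mem_NS D X i hi c hc)
    have h1 : h8nS D X (D.simple i) c * h * (h8nS D X (D.simple i) c)⁻¹ ∈
        Subgroup.closure (h8HS D X) := (Subgroup.mem_normalizer_iff.mp hmem h).mp hh
    refine ⟨h8nS D X (D.simple i) c * h * (h8nS D X (D.simple i) c)⁻¹ *
      h8hS D X (D.simple i) c, Subgroup.mul_mem _ h1 (h8hS_mem D X i hi c hc), i :: v, ?_, ?_⟩
    · intro j hj
      rcases List.mem_cons.mp hj with rfl | hj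
      · exact hi
      · exact hv j hj
    · rw [h8nWS_cons]
      have e := h8nS_eq_hS_mul hP.sys hL _ hp c
      have : h8nS D X (D.simple i) c * h * (h8nS D X (D.simple i) c)⁻¹ *
          h8hS D X (D.simple i) c * (h8nS D X (D.simple i) 1 * h8nWS D X v) =
          h8nS D X (D.simple i) c * h * (h8nS D X (D.simple i) c)⁻¹ *
          (h8hS D X (D.simple i) c * h8nS D X (D.simple i) 1) * h8nWS D X v := by group
      rw [this, ← e]
      group
  induction hn using Subgroup.closure_induction_left with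
  | one =>
    refine ⟨1, Subgroup.one_mem _, [], ?_, ?_⟩
    · intro i hi; cases hi
    · unfold h8nWS; simp
  | mul_left x hx y hy ih =>
    obtain ⟨i, c, hi, hc, rfl⟩ := hx
    obtain ⟨h, hh, v, hv, rfl⟩ := ih
    exact key i c hi hc h hh v hv
  | inv_mul_cancel x hx y hy ih =>
    obtain ⟨i, c, hi, hc, rfl⟩ := hx
    obtain ⟨h, hh, v, hv, rfl⟩ := ih
    have hp := (h8simple_pos D hL.hBN i hi).1
    rw [h8nS_inv hP.sys hL _ hp]
    exact key i (-c) hi (neg_ne_zero.mpr hc) h hh v hv

end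

end Cfsg.Agent.Lib.helper8
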