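import Mathlib

set_option autoImplicit false

namespace Cfsg.Agent.Lib.helper8

universe v

/-- a quotient of `N` detecting membership in the normal subgroup `T` -/
theorem h8quot_exists {Γ : Type v} [Group Γ] (N T : Subgroup Γ) (hTN : T ≤ N)
    (hnorm : N ≤ Subgroup.normalizer (T : Set Γ)) :
    ∃ (Q : Type v) (_ : Group Q) (q : ↥N →* Q), ∀ g : ↥N, q g = 1 ↔ g.val ∈ T := by
  have : (T.subgroupOf N).Normal :=
    (Subgroup.normal_subgroupOf_iff_le_normalizer hTN).mpr hnorm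
  refine ⟨↥N ⧸ T.subgroupOf N, inferInstance, QuotientGroup.mk' _, fun g => ?_⟩
  rw [QuotientGroup.mk'_apply, QuotientGroup.eq_one_iff, Subgroup.mem_subgroupOf]

theorem h8invol_even {Q : Type*} [Group Q] (a b : Q) (ha : a * a = 1) (hb : b * b = 1) (k : ℕ)
    (h : ((a * b) ^ k * a) * b * ((a * b) ^ k * a)⁻¹ = b) : (a * b) ^ (2 * k + 2) = 1 := by
  have hai : a⁻¹ = a := inv_eq_of_mul_eq_one_right ha
  have hbi : b⁻¹ = b := inv_eq_of_mul_eq_one_right hb
  have habi : (a * b)⁻¹ = b * a := by rw [mul_inv_rev, hai, hbi]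
  have e : (a * b) ^ k * a = a * (b * a) ^ k := mul_pow_mul a b k
  have hy : ((a * b) ^ k * a) * ((a * b) ^ k * a) = 1 := by
    have e2 : (a * b) ^ k * a * (a * (b * a) ^ k) = (a * b) ^ k * (a * a) * (b * a) ^ k := by
      group
    rw [show ((a * b) ^ k * a) * ((a * b) ^ k * a) = (a * b) ^ k * a * (a * (b * a) ^ k) by
      rw [← e], e2, ha, mul_one, ← habi, inv_pow, mul_inv_cancel]
  have hyi : ((a * b) ^ k * a)⁻¹ = (a * b) ^ k * a := inv_eq_of_mul_eq_one_right hy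
  rw [hyi] at h
  have e3 : (a * b) ^ (2 * k + 2) = ((a * b) ^ (k + 1)) ^ 2 := by
    rw [← pow_mul]
    congr 1
    ring
  have e4 : (a * b) ^ (k + 1) = (a * b) ^ k * a * b := by rw [pow_succ, mul_assoc]
  rw [e3, e4, sq]
  have e5 : (a * b) ^ k * a * b * ((a * b) ^ k * a * b) =
      ((a * b) ^ k * a * b * ((a * b) ^ k * a)) * b := by group
  rw [e5, h, hb]

theorem h8invol_odd {Q : Type*} [Group Q] (a b : Q) (ha : a * a = 1) (hb : b * b = 1) (k : ℕ)
    (h : (a * b) ^ k * a * ((a * b) ^ k)⁻¹ = b) : (a * b) ^ (2 * k + 1) = 1 := by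
  have hai : a⁻¹ = a := inv_eq_of_mul_eq_one_right ha
  have hbi : b⁻¹ = b := inv_eq_of_mul_eq_one_right hb
  have habi : (a * b)⁻¹ = b * a := by rw [mul_inv_rev, hai, hbi]
  have e1 : ((a * b) ^ k)⁻¹ = (b * a) ^ k := by rw [← inv_pow, habi]
  have e2 : a * (b * a) ^ k = (a * b) ^ k * a := (mul_pow_mul a b k).symm
  rw [e1, mul_assoc, e2, ← mul_assoc, ← pow_add] at h
  calc (a * b) ^ (2 * k + 1) = (a * b) ^ (k + k) * (a * b) := by rw [two_mul, pow_succ]
    _ = ((a * b) ^ (k + k) * a) * b := by rw [mul_assoc]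
    _ = 1 := by rw [h, hb]

theorem h8braid_even {Γ : Type v} [Group Γ] (N T : Subgroup Γ) (hTN : T ≤ N)
    (hnorm : N ≤ Subgroup.normalizer (T : Set Γ)) (a b : Γ) (ha : a ∈ N) (hb : b ∈ N)
    (ha2 : a * a ∈ T) (hb2 : b * b ∈ T) (k : ℕ)
    (h : ((a * b) ^ k * a) * b * ((a * b) ^ k * a)⁻¹ * b⁻¹ ∈ T) :
    (a * b) ^ (2 * k + 2) ∈ T := by
  obtain ⟨Q, _, q, hq⟩ := h8quot_exists N T hTN hnorm
  have key := h8invol_even (q ⟨a, ha⟩) (q ⟨b, hb⟩) ?_ ?_ k ?_
  · rw [← map_mul, ← map_pow, hq] at key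
    exact key
  · rw [← map_mul, hq]
    exact ha2
  · rw [← map_mul, hq]
    exact hb2
  · rw [← mul_inv_eq_one, ← map_mul, ← map_pow, ← map_mul, ← map_mul, ← map_inv, ← map_mul,
      ← map_inv, ← map_mul, hq]
    exact h

theorem h8braid_odd {Γ : Type v} [Group Γ] (N T : Subgroup Γ) (hTN : T ≤ N)
    (hnorm : N ≤ Subgroup.normalizer (T : Set Γ)) (a b : Γ) (ha : a ∈ N) (hb : b ∈ N)
    (ha2 : a * a ∈ T) (hb2 : b * b ∈ T) (k : ℕ)
    (h : (a * b) ^ k * a * ((a * b) ^ k)⁻¹ * b⁻¹ ∈ T) :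
    (a * b) ^ (2 * k + 1) ∈ T := by
  obtain ⟨Q, _, q, hq⟩ := h8quot_exists N T hTN hnorm
  have key := h8invol_odd (q ⟨a, ha⟩) (q ⟨b, hb⟩) ?_ ?_ k ?_
  · rw [← map_mul, ← map_pow, hq] at key
    exact key
  · rw [← map_mul, hq]
    exact ha2
  · rw [← map_mul, hq]
    exact hb2
  · rw [← mul_inv_eq_one, ← map_mul, ← map_pow, ← map_mul, ← map_inv, ← map_mul,
      ← map_inv, ← map_mul, hq]
    exact h

/-- a family of elements of `N` satisfying the Coxeter relations modulo `T` sends every word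
representing the identity into `T` -/
theorem h8cox_lift_mem {Γ : Type v} [Group Γ] (N T : Subgroup Γ) (hTN : T ≤ N)
    (hnorm : N ≤ Subgroup.normalizer (T : Set Γ)) {B : Type*} {M : CoxeterMatrix B}
    {W : Type*} [Group W] (cs : CoxeterSystem M W) (f : B → Γ) (hf : ∀ i, f i ∈ N)
    (hbraid : ∀ i j, (f i * f j) ^ (M i j) ∈ T) (ω : List B) (h1 : cs.wordProd ω = 1) :
    (ω.map f).prod ∈ T := by
  obtain ⟨Q, _, q, hq⟩ := h8quot_exists N T hTN hnorm
  have hlift : M.IsLiftable (fun i => q ⟨f i, hf i⟩) := by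
    intro i j
    show (q ⟨f i, hf i⟩ * q ⟨f j, hf j⟩) ^ (M i j) = 1
    rw [← map_mul, ← map_pow, hq]
    exact hbraid i j
  have hψ : ∀ ω : List B, ∃ hmem : (ω.map f).prod ∈ N,
      cs.lift ⟨_, hlift⟩ (cs.wordProd ω) = q ⟨(ω.map f).prod, hmem⟩ := by
    intro ω
    induction ω with
    | nil =>
      refine ⟨by simp, ?_⟩
      rw [cs.wordProd_nil, map_one]
      symm
      rw [hq]
      simp
    | cons i ω ih =>
      obtain ⟨hm, e⟩ := ih
      have hm' : ((i :: ω).map f).prod ∈ N := by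
        rw [List.map_cons, List.prod_cons]
        exact N.mul_mem (hf i) hm
      refine ⟨hm', ?_⟩
      rw [cs.wordProd_cons, map_mul, cs.lift_apply_simple, e, ← map_mul]
      congr 1
  obtain ⟨hm, e⟩ := hψ ω
  rw [h1, map_one] at e
  exact (hq _).mp e.symm

end Cfsg.Agent.Lib.helper8
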