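import Mathlib
import Cfsg.Prelude.Def_ChevStructure
import Cfsg.Agent.Lib.helper8.ChevWeyl2
import Cfsg.Agent.Lib.helper8.ChevBNAll2

set_option autoImplicit false

namespace Cfsg.Agent.Lib.helper8

open Cfsg.Lie Cfsg.Lie.ChevalleyDatum Cfsg.Agent.Lib.helper8.H3

universe u

def h8rep (i j : ℕ) : ℕ → List ℕ
  | 0 => []
  | k + 1 => i :: j :: h8rep i j k

theorem h8rep_mem (i j : ℕ) (k : ℕ) (x : ℕ) (hx : x ∈ h8rep i j k) : x = i ∨ x = j := by
  induction k with
  | zero => cases hx
  | succ k ih =>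
    rw [h8rep] at hx
    rcases List.mem_cons.mp hx with rfl | hx
    · exact Or.inl rfl
    · rcases List.mem_cons.mp hx with rfl | hx
      · exact Or.inr rfl
      · exact ih hx

theorem h8wPerm_cons (D : ChevalleyDatum) (hA : H8ReflAll D) (i : ℕ) (w : List ℕ) :
    h8wPerm D hA (i :: w) = h8sPerm D hA i * h8wPerm D hA w := by
  unfold h8wPerm
  rw [List.map_cons, List.prod_cons]

theorem h8wPerm_rep (D : ChevalleyDatum) (hA : H8ReflAll D) (i j k : ℕ) :
    h8wPerm D hA (h8rep i j k) = (h8sPerm D hA i * h8sPerm D hA j) ^ k := by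
  induction k with
  | zero => rfl
  | succ k ih => rw [h8rep, h8wPerm_cons, h8wPerm_cons, ih, pow_succ', mul_assoc]

def h8coxChk (D : ChevalleyDatum) (i j m : ℕ) : Bool :=
  decide (0 < m) &&
  ((List.range D.nroots).all fun r => decide (h8sgW D (h8rep i j m) r = r)) &&
  ((List.range m).all fun k => decide (k = 0) ||
    (List.range D.nroots).any fun r => decide (h8sgW D (h8rep i j k) r ≠ r))

theorem h8coxChk_spec (D : ChevalleyDatum) (hA : H8ReflAll D) (h256 : D.nroots ≤ 256)
    (i j m : ℕ) (hi : i < D.rank) (hj : j < D.rank) (h : h8coxChk D i j m = true) :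
    orderOf (h8sPerm D hA i * h8sPerm D hA j) = m := by
  unfold h8coxChk at h
  simp only [Bool.and_eq_true, Bool.or_eq_true, decide_eq_true_eq, List.all_eq_true,
    List.any_eq_true, List.mem_range] at h
  obtain ⟨⟨hm, h1⟩, h2⟩ := h
  have hrep : ∀ k, ∀ x ∈ h8rep i j k, x < D.rank := by
    intro k x hx
    rcases h8rep_mem i j k x hx with rfl | rfl
    · exact hi
    · exact hj
  have hval : ∀ k (r : Fin D.nroots),
      (((h8sPerm D hA i * h8sPerm D hA j) ^ k) r).val = h8sgW D (h8rep i j k) r.val := by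
    intro k r
    rw [← h8wPerm_rep, h8wPerm_val D hA _ (hrep k), h8sgW_eq D hA h256 _ (hrep k) _ r.2]
  rw [orderOf_eq_iff hm]
  refine ⟨?_, ?_⟩
  · apply Equiv.ext
    intro r
    apply Fin.ext
    rw [hval, Equiv.Perm.one_apply]
    exact h1 r.val r.2
  · intro k hk hk0 e
    rcases h2 k hk with h0 | ⟨r, hr, hne⟩
    · omega
    · apply hne
      have := hval k ⟨r, hr⟩
      rw [e, Equiv.Perm.one_apply] at this
      exact this.symm

def h8coxAll (D : ChevalleyDatum) (n : ℕ) (M : CoxeterMatrix (Fin n)) : Bool :=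
  decide (D.nroots ≤ 256) && decide (D.rank = n) &&
    (List.finRange n).all fun i => (List.finRange n).all fun j => h8coxChk D i.val j.val (M i j)

/-- `N/H ≅ W` with `W` the Coxeter group of the prescribed matrix -/
theorem h8weyl_main {F : Type u} [Field F] (D : ChevalleyDatum)
    (hD : D ∈ [chevG2, chevB2, chevD4, chevF4, chevE6, chevE7, chevE8]) (n : ℕ)
    (M : CoxeterMatrix (Fin n)) (hchk : h8coxAll D n M = true) :
    ∃ φ : ↥(D.monomialSubgroup F) →* M.Group, Function.Surjective φ ∧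
      φ.ker = (D.diagonalSubgroup F).subgroupOf (D.monomialSubgroup F) ∧
      ∀ (i : Fin n) (g : ↥(D.monomialSubgroup F)),
        ((g : GL D.Idx F) : Matrix D.Idx D.Idx F) = D.nMat F (D.simple i) 1 →
          φ g = M.simple i := by
  have hB := h8base_all.{u} D hD
  have hB0 := h8base_all.{0} D hD
  have hA := h8reflAll D hD
  have hBN := h8bn_all D hD
  have hW := h8bn2_all D hD
  obtain ⟨hO, hO2⟩ := h8ord_all D hD
  unfold h8coxAll at hchk
  simp only [Bool.and_eq_true, decide_eq_true_eq, List.all_eq_true, List.mem_finRange,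
    forall_const] at hchk
  obtain ⟨⟨h256, hrk⟩, hall⟩ := hchk
  subst hrk
  have hord : ∀ i j : Fin D.rank, M i j = orderOf (h8sGen D hA i * h8sGen D hA j) := by
    intro i j
    have := h8coxChk_spec D hA h256 i.val j.val (M i j) i.2 j.2 (hall i j)
    rw [← Subgroup.orderOf_coe]
    exact this.symm
  have hinj : Function.Injective (h8sGen D hA) := by
    intro i j hij
    by_contra hne
    have h1 : M i j = 1 := by
      rw [hord, hij]
      have : h8sGen D hA j * h8sGen D hA j = 1 := Subtype.ext (h8sPerm_sq D hA j.val)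
      rw [this, orderOf_one]
    exact M.off_diagonal i j hne h1
  have E := h8exch D hB0 hA hBN hW hO2 hinj
  obtain ⟨cs, hcs⟩ := h8cox_of_exch E (h8sGen D hA) (fun i => ⟨i, rfl⟩) (fun x hx => hx) M hord
  let Pr : ↥(D.monomialSubgroup F) →* ↥(h8W D hA) :=
    (h8Pi D hB hA hBN hW hO2).codRestrict (h8W D hA) (h8Pi_mem_W D hB hA hBN hW hO2)
  have hPr : ∀ n, (Pr n).val = h8Pi D hB hA hBN hW hO2 n := fun n => rfl
  refine ⟨cs.mulEquiv.toMonoidHom.comp Pr, ?_, ?_, ?_⟩
  · intro x
    obtain ⟨v, hv, hwv⟩ := (h8W_mem_iff D hA _).mp (cs.mulEquiv.symm x).2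
    refine ⟨⟨h8nWU D hB v, h8nWU_mem_N D hB hA v hv⟩, ?_⟩
    have e : Pr ⟨h8nWU D hB v, h8nWU_mem_N D hB hA v hv⟩ = cs.mulEquiv.symm x := by
      apply Subtype.ext
      rw [hPr, hwv]
      exact h8Pi_nWU D hB hA hBN hW hO2 v hv
    show cs.mulEquiv (Pr ⟨h8nWU D hB v, h8nWU_mem_N D hB hA v hv⟩) = x
    rw [e, MulEquiv.apply_symm_apply]
  · ext g
    rw [MonoidHom.mem_ker, Subgroup.mem_subgroupOf]
    show cs.mulEquiv (Pr g) = 1 ↔ _
    rw [map_eq_one_iff cs.mulEquiv cs.mulEquiv.injective]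
    constructor
    · intro h
      apply h8Pi_ker D hB hA hBN hW hO2 g
      rw [← hPr, h]
      rfl
    · intro h
      apply Subtype.ext
      rw [hPr, h8Pi_H D hB hA hBN hW hO2 g h]
      rfl
  · intro i g hg
    have hmem : h8nU D hB (D.simple i.val) (1 : F) ∈ D.monomialSubgroup F :=
      h8nU_mem_N D hB _ (h8simple_pos D hBN i.val i.2).1
    have eg : g = ⟨h8nU D hB (D.simple i.val) (1 : F), hmem⟩ := by
      apply Subtype.ext
      apply Units.ext
      rw [hg, h8nU_val]
    have e : Pr g = cs.simple i := by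
      rw [hcs]
      apply Subtype.ext
      rw [hPr, eg]
      exact h8Pi_simple D hB hA hBN hW hO2 i.val i.2 hmem
    show cs.mulEquiv (Pr g) = M.simple i
    rw [e]
    exact cs.mulEquiv.apply_symm_apply _

end Cfsg.Agent.Lib.helper8
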