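import Mathlib
import Cfsg.Prelude.Def_ChevStructure
import Cfsg.Agent.Lib.helper8.ChevWeyl3

set_option autoImplicit false

namespace Cfsg.Agent.Lib.helper8

open Cfsg.Lie

theorem h8coxAll_G2 : h8coxAll chevG2 2 CoxeterMatrix.G₂ = true := by decide +kernel

theorem h8coxAll_B2 : h8coxAll chevB2 2 (CoxeterMatrix.B 2) = true := by decide +kernel

theorem h8coxAll_D4 : h8coxAll chevD4 4 coxeterD4 = true := by decide +kernel

theorem h8coxAll_F4 : h8coxAll chevF4 4 CoxeterMatrix.F₄ = true := by decide +kernel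

theorem h8coxAll_E6 : h8coxAll chevE6 6 CoxeterMatrix.E₆ = true := by decide +kernel

theorem h8coxAll_E7 : h8coxAll chevE7 7 CoxeterMatrix.E₇ = true := by decide +kernel

theorem h8coxAll_E8 : h8coxAll chevE8 8 CoxeterMatrix.E₈ = true := by decide +kernel

end Cfsg.Agent.Lib.helper8
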