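import Mathlib
import Cfsg.Prelude.Def_ChevStructure
import Cfsg.Agent.Lib.helper8.ChevSt22
import Cfsg.Agent.Lib.helper8.ChevSt23
import Cfsg.Agent.Lib.helper8.ChevWeylTab

set_option autoImplicit false
set_option linter.unusedSectionVars false

namespace Cfsg.Agent.Lib.helper8

open Cfsg.Lie Cfsg.Lie.ChevalleyDatum

universe u v

/-- the root-level form of the braid relation of length `m` -/
def h8braidChk (D : ChevalleyDatum) (i j m : ℕ) : Bool :=
  if m % 2 = 0 then
    decide (2 ≤ m) &&
      decide (h8sgW D (h8rep i j (m / 2 - 1) ++ [i]) (D.simple j) = D.simple j)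
  else decide (h8sgW D (h8rep i j (m / 2)) (D.simple i) = D.simple j)

def h8braidAll (D : ChevalleyDatum) (n : ℕ) (M : CoxeterMatrix (Fin n)) : Bool :=
  (List.finRange n).all fun i => (List.finRange n).all fun j => h8braidChk D i.val j.val (M i j)

theorem h8braidAll_G2 : h8braidAll chevG2 2 CoxeterMatrix.G₂ = true := by decide +kernel

theorem h8braidAll_B2 : h8braidAll chevB2 2 (CoxeterMatrix.B 2) = true := by decide +kernel

theorem h8braidAll_D4 : h8braidAll chevD4 4 coxeterD4 = true := by decide +kernel

theorem h8braidAll_F4 : h8braidAll chevF4 4 CoxeterMatrix.F₄ = true := by decide +kernel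

theorem h8braidAll_E6 : h8braidAll chevE6 6 CoxeterMatrix.E₆ = true := by decide +kernel

theorem h8braidAll_E7 : h8braidAll chevE7 7 CoxeterMatrix.E₇ = true := by decide +kernel

end Cfsg.Agent.Lib.helper8
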