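import Mathlib
import Cfsg.Prelude.Def_ChevStructure
import Cfsg.Agent.Lib.helper8.ChevSt24

set_option autoImplicit false
set_option linter.unusedSectionVars false

namespace Cfsg.Agent.Lib.helper8

open Cfsg.Lie Cfsg.Lie.ChevalleyDatum

universe u v

theorem h8braidAll_E8 : h8braidAll chevE8 8 CoxeterMatrix.E₈ = true := by decide +kernel

theorem h8cox_data (D : ChevalleyDatum)
    (hD : D ∈ [chevG2, chevB2, chevD4, chevF4, chevE6, chevE7, chevE8]) :
    ∃ (n : ℕ) (M : CoxeterMatrix (Fin n)), h8coxAll D n M = true ∧ h8braidAll D n M = true := by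
  simp only [List.mem_cons, List.mem_nil_iff, or_false] at hD
  rcases hD with rfl | rfl | rfl | rfl | rfl | rfl | rfl
  · exact ⟨2, CoxeterMatrix.G₂, h8coxAll_G2, h8braidAll_G2⟩
  · exact ⟨2, CoxeterMatrix.B 2, h8coxAll_B2, h8braidAll_B2⟩
  · exact ⟨4, coxeterD4, h8coxAll_D4, h8braidAll_D4⟩
  · exact ⟨4, CoxeterMatrix.F₄, h8coxAll_F4, h8braidAll_F4⟩
  · exact ⟨6, CoxeterMatrix.E₆, h8coxAll_E6, h8braidAll_E6⟩
  · exact ⟨7, CoxeterMatrix.E₇, h8coxAll_E7, h8braidAll_E7⟩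
  · exact ⟨8, CoxeterMatrix.E₈, h8coxAll_E8, h8braidAll_E8⟩

end Cfsg.Agent.Lib.helper8
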