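import Mathlib
import Cfsg.Prelude.Def_ChevStructure
import Cfsg.Agent.Lib.helper8.ChevSt24b

set_option autoImplicit false
set_option linter.unusedSectionVars false

namespace Cfsg.Agent.Lib.helper8

open Cfsg.Lie Cfsg.Lie.ChevalleyDatum

universe u v

theorem h8coxAll_rank (D : ChevalleyDatum) (n : ℕ) (M : CoxeterMatrix (Fin n))
    (hchk : h8coxAll D n M = true) : D.rank = n := by
  unfold h8coxAll at hchk
  simp only [Bool.and_eq_true, decide_eq_true_eq] at hchk
  exact hchk.1.2

theorem h8coxAll_256 (D : ChevalleyDatum) (n : ℕ) (M : CoxeterMatrix (Fin n))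
    (hchk : h8coxAll D n M = true) : D.nroots ≤ 256 := by
  unfold h8coxAll at hchk
  simp only [Bool.and_eq_true, decide_eq_true_eq] at hchk
  exact hchk.1.1

/-- the Weyl group, as a permutation group of the roots, is a Coxeter group -/
theorem h8cs_exists (D : ChevalleyDatum)
    (hD : D ∈ [chevG2, chevB2, chevD4, chevF4, chevE6, chevE7, chevE8])
    (M : CoxeterMatrix (Fin D.rank)) (hchk : h8coxAll D D.rank M = true) :
    ∃ cs : CoxeterSystem M ↥(h8W D (h8reflAll D hD)),
      ∀ i, cs.simple i = h8sGen D (h8reflAll D hD) i := by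
  have hB0 := h8base_all.{0} D hD
  have hA := h8reflAll D hD
  have hBN := h8bn_all D hD
  have hW := h8bn2_all D hD
  obtain ⟨hO, hO2⟩ := h8ord_all D hD
  have h256 := h8coxAll_256 D _ M hchk
  unfold h8coxAll at hchk
  simp only [Bool.and_eq_true, decide_eq_true_eq, List.all_eq_true, List.mem_finRange,
    forall_const] at hchk
  obtain ⟨_, hall⟩ := hchk
  have hord : ∀ i j : Fin D.rank, M i j = orderOf (h8sGen D hA i * h8sGen D hA j) := by
    intro i j
    have := h8coxChk_spec D hA h256 i.val j.val (M i j) i.2 j.2 (hall i j)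
    rw [← Subgroup.orderOf_coe]
    exact this.symm
  have hinj : Function.Injective (h8sGen D hA) := by
    intro i j hij
    by_contra hne
    have h1 : M i j = 1 := by
      rw [hord, hij]
      have : h8sGen D hA j * h8sGen D hA j = 1 := Subtype.ext (h8sPerm_sq D hA j.val)
      rw [this, orderOf_one]
    exact M.off_diagonal i j hne h1
  have E := h8exch D hB0 hA hBN hW hO2 hinj
  exact h8cox_of_exch E (h8sGen D hA) (fun i => ⟨i, rfl⟩) (fun x hx => hx) M hord

variable {K : Type u} [Field K] {Γ : Type v} [Group Γ]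
variable {D : ChevalleyDatum} {X : ℕ → K → Γ}

theorem h8nWS_rep (i j k : ℕ) :
    h8nWS D X (h8rep i j k) = (h8nS D X (D.simple i) 1 * h8nS D X (D.simple j) 1) ^ k := by
  induction k with
  | zero =>
    rw [pow_zero]
    rfl
  | succ k ih => rw [h8rep, h8nWS_cons, h8nWS_cons, ih, pow_succ', mul_assoc]

section
variable {hB : H8Base.{u} D} {π : Γ →* GL D.Idx K} (hP : H8Pair D hB X π 1)
  (hL : H8All D) (hWS : H8W0S D) (hN2 : H8N2 D)
include hP hL hWS hN2

omit hWS hN2 in
theorem h8nS_one_sq_mem (i : ℕ) (hi : i < D.rank) :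
    h8nS D X (D.simple i) 1 * h8nS D X (D.simple i) 1 ∈ Subgroup.closure (h8HS D X) := by
  have hp := (h8simple_pos D hL.hBN i hi).1
  have := h8nS_mul_neg hP.sys hL _ hp (1 : K) (-1)
  rw [neg_neg] at this
  rw [this]
  exact Subgroup.mul_mem _ (h8hS_mem D X i hi 1 one_ne_zero)
    (Subgroup.inv_mem _ (h8hS_mem D X i hi (-1) (neg_ne_zero.mpr one_ne_zero)))

omit hWS hN2 in
theorem h8pair_conj_hS (y : Γ) (i j : ℕ) (hj : j < D.rank)
    (hact : H8ActNX D X y (D.simple i) (D.simple j)) :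
    y * h8nS D X (D.simple i) 1 * y⁻¹ * (h8nS D X (D.simple j) 1)⁻¹ ∈
      Subgroup.closure (h8HS D X) := by
  have hpj := (h8simple_pos D hL.hBN j hj).1
  obtain ⟨c, hc, e⟩ := h8actNX_nS y _ _ hact
  rw [e 1, h8nS_inv hP.sys hL _ hpj]
  exact h8hS_mem D X j hj (c * 1) (mul_ne_zero hc one_ne_zero)

/-- the braid relations hold modulo the torus -/
theorem h8pair_braid (h256 : D.nroots ≤ 256) (i j m : ℕ) (hi : i < D.rank) (hj : j < D.rank)
    (hchk : h8braidChk D i j m = true) :
    (h8nS D X (D.simple i) 1 * h8nS D X (D.simple j) 1) ^ m ∈ Subgroup.closure (h8HS D X) := by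
  have hpi := (h8simple_pos D hL.hBN i hi).1
  have hpj := (h8simple_pos D hL.hBN j hj).1
  have haN := h8nS_mem_NS D X i hi 1 one_ne_zero
  have hbN := h8nS_mem_NS D X j hj 1 one_ne_zero
  have hrep : ∀ k, ∀ x ∈ h8rep i j k, x < D.rank := by
    intro k x hx
    rcases h8rep_mem i j k x hx with rfl | rfl
    · exact hi
    · exact hj
  unfold h8braidChk at hchk
  split_ifs at hchk with hm
  · simp only [Bool.and_eq_true, decide_eq_true_eq] at hchk
    obtain ⟨h2, hs⟩ := hchk
    have hmk : m = 2 * (m / 2 - 1) + 2 := by omega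
    rw [hmk]
    apply h8braid_even _ _ (h8HS_le_NS D X) (h8pair_NS_le_normalizer hP hL hWS hN2) _ _ haN hbN
      (h8nS_one_sq_mem hP hL i hi) (h8nS_one_sq_mem hP hL j hj)
    have hw : ∀ x ∈ h8rep i j (m / 2 - 1) ++ [i], x < D.rank := by
      intro x hx
      rcases List.mem_append.mp hx with hx | hx
      · exact hrep _ x hx
      · rw [List.mem_singleton] at hx
        rw [hx]; exact hi
    have hact := h8pair_nWS_act hP hL hWS hN2 _ hw (D.simple j) hpj
    rw [← h8sgW_eq D hL.hA h256 _ hw _ hpj, hs] at hact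
    have e : h8nWS D X (h8rep i j (m / 2 - 1) ++ [i]) =
        (h8nS D X (D.simple i) 1 * h8nS D X (D.simple j) 1) ^ (m / 2 - 1) *
          h8nS D X (D.simple i) 1 := by
      rw [h8nWS_append, h8nWS_rep, h8nWS_cons]
      have : h8nWS D X ([] : List ℕ) = 1 := rfl
      rw [this, mul_one]
    rw [e] at hact
    exact h8pair_conj_hS hP hL _ j j hj hact
  · simp only [decide_eq_true_eq] at hchk
    have hmk : m = 2 * (m / 2) + 1 := by omega
    rw [hmk]
    apply h8braid_odd _ _ (h8HS_le_NS D X) (h8pair_NS_le_normalizer hP hL hWS hN2) _ _ haN hbN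
      (h8nS_one_sq_mem hP hL i hi) (h8nS_one_sq_mem hP hL j hj)
    have hact := h8pair_nWS_act hP hL hWS hN2 _ (hrep (m / 2)) (D.simple i) hpi
    rw [← h8sgW_eq D hL.hA h256 _ (hrep (m / 2)) _ hpi, hchk, h8nWS_rep] at hact
    exact h8pair_conj_hS hP hL _ i j hj hact

/-- a word representing the identity of the Weyl group lies in the abstract torus -/
theorem h8pair_nWS_HS (hD : D ∈ [chevG2, chevB2, chevD4, chevF4, chevE6, chevE7, chevE8])
    (v : List ℕ) (hv : ∀ i ∈ v, i < D.rank) (h1 : h8wPerm D hL.hA v = 1) :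
    h8nWS D X v ∈ Subgroup.closure (h8HS D X) := by
  obtain ⟨n, M, hchk, hbr⟩ := h8cox_data D hD
  have hrk := h8coxAll_rank D n M hchk
  subst hrk
  have h256 := h8coxAll_256 D _ M hchk
  obtain ⟨cs, hcs⟩ := h8cs_exists D hD M hchk
  have hbraid : ∀ i j : Fin D.rank,
      (h8nS D X (D.simple i.val) 1 * h8nS D X (D.simple j.val) 1) ^ (M i j) ∈
        Subgroup.closure (h8HS D X) := by
    intro i j
    unfold h8braidAll at hbr
    simp only [List.all_eq_true, List.mem_finRange, forall_const] at hbr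
    exact h8pair_braid hP hL hWS hN2 h256 i.val j.val (M i j) i.2 j.2 (hbr i j)
  have key := fun ω h => h8cox_lift_mem _ _ (h8HS_le_NS D X)
    (h8pair_NS_le_normalizer hP hL hWS hN2) cs
    (fun i : Fin D.rank => h8nS D X (D.simple i.val) 1)
    (fun i => h8nS_mem_NS D X i.val i.2 1 one_ne_zero) hbraid ω h
  have conv : ∀ (v : List ℕ), (∀ i ∈ v, i < D.rank) → ∃ ω : List (Fin D.rank),
      (ω.map (fun i : Fin D.rank => h8nS D X (D.simple i.val) 1)).prod = h8nWS D X v ∧
      (cs.wordProd ω).val = h8wPerm D (h8reflAll D hD) v := by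
    intro v
    induction v with
    | nil =>
      intro _
      refine ⟨[], rfl, ?_⟩
      rw [cs.wordProd_nil]
      rfl
    | cons i v ih =>
      intro hv
      obtain ⟨ω, e1, e2⟩ := ih (fun j hj => hv j (List.mem_cons_of_mem _ hj))
      refine ⟨⟨i, hv i (List.mem_cons_self ..)⟩ :: ω, ?_, ?_⟩
      · rw [List.map_cons, List.prod_cons, e1, h8nWS_cons]
      · rw [cs.wordProd_cons, Subgroup.coe_mul, e2, hcs, h8wPerm_cons]
        rfl
  obtain ⟨ω, e1, e2⟩ := conv v hv
  rw [← e1]
  apply key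
  apply Subtype.ext
  rw [e2]
  exact h1

omit hWS hN2 in
theorem h8pair_HS_image (h : Γ) (hh : h ∈ Subgroup.closure (h8HS D X)) :
    π h ∈ D.diagonalSubgroup K := by
  induction hh using Subgroup.closure_induction with
  | mem x hx =>
    obtain ⟨i, t, hi, ht, rfl⟩ := hx
    have hp := (h8simple_pos D hL.hBN i hi).1
    unfold h8hS
    rw [map_mul, h8pair_nS hP hL _ hp, h8pair_nS hP hL _ hp, h8nU_eq_hU D hB _ t, h8nU_neg,
      mul_inv_cancel_right]
    exact h8hU_mem_H D hB _ hp t ht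
  | one => rw [map_one]; exact Subgroup.one_mem _
  | mul a b _ _ ha hb => rw [map_mul]; exact Subgroup.mul_mem _ ha hb
  | inv a _ ha => rw [map_inv]; exact Subgroup.inv_mem _ ha

/-- the part of the kernel inside the abstract monomial group lies in the abstract torus -/
theorem h8pair_NS_ker_le_HS (hD : D ∈ [chevG2, chevB2, chevD4, chevF4, chevE6, chevE7, chevE8])
    (n : Γ) (hn : n ∈ Subgroup.closure (h8NS D X)) (h1 : π n = 1) :
    n ∈ Subgroup.closure (h8HS D X) := by
  obtain ⟨h, hh, v, hv, rfl⟩ := h8pair_NS_decomp hP hL hWS hN2 n hn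
  have hπh := h8pair_HS_image hP hL h hh
  rw [map_mul, h8pair_nWS_im hP hL v hv] at h1
  have e : h8nWU D hB v = (π h)⁻¹ := eq_inv_of_mul_eq_one_right h1
  have hH : (h8nWU D hB v : GL D.Idx K) ∈ D.diagonalSubgroup K := by
    rw [e]; exact Subgroup.inv_mem _ hπh
  have hperm : h8wPerm D hL.hA v = 1 := by
    rw [← h8Pi_nWU (F := K) D hB hL.hA hL.hBN hL.hW hL.hO2 v hv]
    exact h8Pi_H D hB hL.hA hL.hBN hL.hW hL.hO2 _ hH
  exact Subgroup.mul_mem _ hh (h8pair_nWS_HS hP hL hWS hN2 hD v hv hperm)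

end

end Cfsg.Agent.Lib.helper8
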