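import Mathlib
import Cfsg.Prelude.Def_Steinberg
import Cfsg.Agent.Lib.helper8.ChevSt25
import Cfsg.Agent.Lib.helper8.ChevSt19

set_option autoImplicit false
set_option linter.unusedSectionVars false

namespace Cfsg.Agent.Lib.helper8

open Cfsg.Lie Cfsg.Lie.ChevalleyDatum

universe u

variable {K : Type u} [Field K]

theorem h8stg_add (D : ChevalleyDatum) (r : ℕ) (hr : r < D.nroots) (t u : K) :
    D.stGen K r t * D.stGen K r u = D.stGen K r (t + u) := by
  have h : D.stX r t * D.stX r u * (D.stX r (t + u))⁻¹ ∈ D.steinbergRels K :=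
    Or.inl (Or.inl ⟨r, t, u, hr, rfl⟩)
  have h1 := PresentedGroup.one_of_mem h
  unfold ChevalleyDatum.stGen
  rw [map_mul, map_mul, map_inv, mul_inv_eq_one] at h1
  exact h1

theorem h8stg_mk_stWord (D : ChevalleyDatum) (w : List (ℕ × K)) :
    PresentedGroup.mk (D.steinbergRels K) (D.stWord w) = h8wX (D.stGen K) w := by
  unfold ChevalleyDatum.stWord h8wX
  rw [map_list_prod, List.map_map]
  rfl

theorem h8stg_comm (D : ChevalleyDatum) (r s : ℕ) (hr : r < D.nroots) (hs : s < D.nroots)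
    (h1 : s ≠ r) (h2 : s ≠ D.neg r) (t u : K) :
    (D.stGen K s u)⁻¹ * (D.stGen K r t)⁻¹ * D.stGen K s u * D.stGen K r t =
      h8wX (D.stGen K) (D.commWord K r s t u) := by
  have h : (D.stX s u)⁻¹ * (D.stX r t)⁻¹ * D.stX s u * D.stX r t *
      (D.stWord (D.commWord K r s t u))⁻¹ ∈ D.steinbergRels K :=
    Or.inl (Or.inr ⟨r, s, t, u, hr, hs, h1, h2, rfl⟩)
  have h3 := PresentedGroup.one_of_mem h
  rw [map_mul, map_mul, map_mul, map_mul, map_inv, map_inv, map_inv, mul_inv_eq_one,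
    h8stg_mk_stWord] at h3
  exact h3

theorem h8stg_sys (D : ChevalleyDatum) : H8Sys D (D.stGen K) := by
  constructor
  · intro r hr t u
    exact h8stg_add D r hr t u
  · intro r hr s hs h1 h2 t u
    have := h8stg_comm D r s hr hs h1 h2 t u
    rw [← this]
    group

theorem h8stg_gen (D : ChevalleyDatum) : Subgroup.closure (h8AllS D (D.stGen K)) = ⊤ := by
  rw [eq_top_iff, ← PresentedGroup.closure_range_of (D.steinbergRels K)]
  apply Subgroup.closure_mono
  rintro g ⟨p, rfl⟩
  refine ⟨p.1.val, p.2, p.1.2, ?_⟩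
  unfold ChevalleyDatum.stGen ChevalleyDatum.stX
  rw [dif_pos p.1.2]
  rfl

theorem h8stg_hS (D : ChevalleyDatum) (r : ℕ) (t : K) :
    h8hS D (D.stGen K) r t = PresentedGroup.mk (D.steinbergRels K) (D.stH r t) := by
  unfold ChevalleyDatum.stH
  rw [h8stg_mk_stWord]
  unfold h8hS h8nS ChevalleyDatum.hWord ChevalleyDatum.nWord ChevalleyDatum.neg h8wX
  simp only [List.map_append, List.map_cons, List.map_nil, List.prod_append, List.prod_cons,
    List.prod_nil, mul_one, mul_assoc]

theorem h8stg_HS (D : ChevalleyDatum) :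
    h8HS D (D.stGen K) = {h | ∃ (i : ℕ) (t : K), i < D.rank ∧ t ≠ 0 ∧
      h = PresentedGroup.mk (D.steinbergRels K) (D.stH (D.simple i) t)} := by
  ext g
  constructor
  · rintro ⟨i, t, hi, ht, rfl⟩
    exact ⟨i, t, hi, ht, h8stg_hS D _ t⟩
  · rintro ⟨i, t, hi, ht, rfl⟩
    exact ⟨i, t, hi, ht, (h8stg_hS D _ t).symm⟩

/-- a homomorphism of the Steinberg group compatible with the root elements is part of a pair -/
theorem h8stg_pair (D : ChevalleyDatum) (hB : H8Base.{u} D)
    (θ : D.SteinbergGroup K →* ↥(D.group K))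
    (hθ : ∀ (r : ℕ) (t : K), r < D.nroots →
      ((θ (D.stGen K r t) : GL D.Idx K) : Matrix D.Idx D.Idx K) = D.x K r t) :
    H8Pair D hB (D.stGen K) ((D.group K).subtype.comp θ) 1 := by
  refine ⟨h8stg_sys D, ?_⟩
  intro r hr t
  rw [one_mul, inv_one, mul_one]
  apply Units.ext
  rw [h8xU_val]
  exact hθ r t hr

/-- the kernel of such a homomorphism lies in the torus of the Steinberg group -/
theorem h8st_ker_le_diag (D : ChevalleyDatum)
    (hD : D ∈ [chevG2, chevB2, chevD4, chevF4, chevE6, chevE7, chevE8])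
    (θ : D.SteinbergGroup K →* ↥(D.group K))
    (hθ : ∀ (r : ℕ) (t : K), r < D.nroots →
      ((θ (D.stGen K r t) : GL D.Idx K) : Matrix D.Idx D.Idx K) = D.x K r t) :
    θ.ker ≤ Subgroup.closure {h | ∃ (i : ℕ) (t : K), i < D.rank ∧ t ≠ 0 ∧
      h = PresentedGroup.mk (D.steinbergRels K) (D.stH (D.simple i) t)} ∧
    θ.ker ≤ Subgroup.center (D.SteinbergGroup K) := by
  have hB := h8base_all.{u} D hD
  have hL := h8all_all D hD
  have hWS := h8w0s_all D hD
  have hN2 := h8n2_all D hD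
  have hP := h8stg_pair D hB θ hθ
  have hker : ∀ z ∈ θ.ker, ((D.group K).subtype.comp θ) z = 1 := by
    intro z hz
    rw [MonoidHom.mem_ker] at hz
    rw [MonoidHom.comp_apply, hz, map_one]
  refine ⟨?_, ?_⟩
  · intro z hz
    have h1 := hker z hz
    have hzN := (h8pair_ker_central hP hL hWS hN2 (h8stg_gen D) z h1).1
    have hzT := h8pair_NS_ker_le_HS hP hL hWS hN2 hD z hzN h1
    rw [← h8stg_HS]
    exact hzT
  · intro z hz
    exact (h8pair_ker_central hP hL hWS hN2 (h8stg_gen D) z (hker z hz)).2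

end Cfsg.Agent.Lib.helper8
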