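import Mathlib
import Cfsg.Prelude.Def_Steinberg
import Cfsg.Agent.Lib.helper8.ChevSt26

set_option autoImplicit false
set_option linter.unusedSectionVars false

namespace Cfsg.Agent.Lib.helper8

open Cfsg.Lie Cfsg.Lie.ChevalleyDatum

universe u

variable {K : Type u} [Field K]

theorem h8hU_mul (D : ChevalleyDatum) (hB : H8Base.{u} D) (r : ℕ) (hr : r < D.nroots)
    (t₁ t₂ : K) (h₁ : t₁ ≠ 0) (h₂ : t₂ ≠ 0) :
    h8hU D hB r t₁ * h8hU D hB r t₂ = h8hU D hB r (t₁ * t₂) := by
  apply Units.ext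
  rw [Units.val_mul, h8hU_val, h8hU_val, h8hU_val, hB.hdiag K r hr t₁ h₁, hB.hdiag K r hr t₂ h₂,
    hB.hdiag K r hr _ (mul_ne_zero h₁ h₂), Matrix.diagonal_mul_diagonal]
  congr 1
  funext c
  rcases c with i | v
  · simp [h8dvec]
  · simp [h8dvec, mul_zpow]

theorem h8stF_rels (D : ChevalleyDatum) (hB : H8Base.{u} D) (hC : H8CommAll.{u} D) :
    ∀ r ∈ D.steinbergRels K, FreeGroup.lift (h8scF D hB) r = 1 := by
  intro g hg
  rcases hg with hAB | ⟨r, t₁, t₂, hr, h₁, h₂, rfl⟩
  · exact h8scF_rels D hB hC g hAB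
  · unfold ChevalleyDatum.stH
    rw [map_mul, map_mul, map_inv, h8scF_stWord, h8scF_stWord, h8scF_stWord, mul_inv_eq_one]
    exact h8hU_mul D hB r hr t₁ t₂ h₁ h₂

/-- the natural homomorphism from the Steinberg group to matrices -/
noncomputable def h8stPi (D : ChevalleyDatum) (hB : H8Base.{u} D) (hC : H8CommAll.{u} D) :
    D.SteinbergGroup K →* GL D.Idx K :=
  PresentedGroup.toGroup (h8stF_rels D hB hC)

theorem h8stPi_gen (D : ChevalleyDatum) (hB : H8Base.{u} D) (hC : H8CommAll.{u} D) (r : ℕ)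
    (t : K) : h8stPi D hB hC (D.stGen K r t) = h8xU D hB r t := by
  unfold h8stPi ChevalleyDatum.stGen
  have : (PresentedGroup.toGroup (h8stF_rels D hB hC))
      (PresentedGroup.mk (D.steinbergRels K) (D.stX r t)) =
      FreeGroup.lift (h8scF D hB) (D.stX r t) := rfl
  rw [this, h8scF_stX]

theorem h8stPi_mem_group (D : ChevalleyDatum) (hB : H8Base.{u} D) (hC : H8CommAll.{u} D)
    (z : D.SteinbergGroup K) : h8stPi D hB hC z ∈ D.group K := by
  have hz : z ∈ Subgroup.closure (h8AllS D (D.stGen K)) := by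
    rw [h8stg_gen]; exact Subgroup.mem_top _
  induction hz using Subgroup.closure_induction with
  | mem x hx =>
    obtain ⟨r, t, _, rfl⟩ := hx
    rw [h8stPi_gen]
    have : h8xU D hB r t = h8wordU D hB [(r, t)] := by
      unfold h8wordU
      simp
    rw [this]
    exact h8wordU_mem_group D hB _
  | one => rw [map_one]; exact Subgroup.one_mem _
  | mul a b _ _ ha hb => rw [map_mul]; exact Subgroup.mul_mem _ ha hb
  | inv a _ ha => rw [map_inv]; exact Subgroup.inv_mem _ ha

/-- the natural homomorphism from the Steinberg group onto the Chevalley group -/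
noncomputable def h8stTheta (D : ChevalleyDatum) (hB : H8Base.{u} D) (hC : H8CommAll.{u} D) :
    D.SteinbergGroup K →* ↥(D.group K) :=
  (h8stPi D hB hC).codRestrict (D.group K) (h8stPi_mem_group D hB hC)

theorem h8stTheta_gen (D : ChevalleyDatum) (hB : H8Base.{u} D) (hC : H8CommAll.{u} D) (r : ℕ)
    (t : K) :
    ((h8stTheta D hB hC (D.stGen K r t) : GL D.Idx K) : Matrix D.Idx D.Idx K) = D.x K r t := by
  show ((h8stPi D hB hC (D.stGen K r t) : GL D.Idx K) : Matrix D.Idx D.Idx K) = D.x K r t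
  rw [h8stPi_gen, h8xU_val]

theorem h8stTheta_surj (D : ChevalleyDatum) (hB : H8Base.{u} D) (hC : H8CommAll.{u} D) :
    Function.Surjective (h8stTheta (K := K) D hB hC) := by
  rintro ⟨g, hg⟩
  unfold ChevalleyDatum.group at hg
  induction hg using Subgroup.closure_induction with
  | mem x hx =>
    obtain ⟨r, t, hx⟩ := hx
    refine ⟨D.stGen K r.val t, ?_⟩
    apply Subtype.ext
    show h8stPi D hB hC (D.stGen K r.val t) = x
    rw [h8stPi_gen]
    apply Units.ext
    rw [h8xU_val, hx]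
    unfold ChevalleyDatum.x
    rw [dif_pos r.2]
  | one => exact ⟨1, Subtype.ext (by simp)⟩
  | mul a b ha hb iha ihb =>
    obtain ⟨za, hza⟩ := iha
    obtain ⟨zb, hzb⟩ := ihb
    refine ⟨za * zb, ?_⟩
    rw [map_mul, hza, hzb]
    rfl
  | inv a ha iha =>
    obtain ⟨za, hza⟩ := iha
    refine ⟨za⁻¹, ?_⟩
    rw [map_inv, hza]
    rfl

end Cfsg.Agent.Lib.helper8
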