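import Mathlib
import Cfsg.Prelude.Def_ChevStructure
import Cfsg.Prelude.Def_LieTwisted
import Cfsg.Agent.Lib.helper8.TD4.Defs
import Cfsg.Agent.Lib.helper8.ChevReflAll
import Cfsg.Agent.Lib.helper8.ChevBNAll2

/-! Project TD4 rows C4 (`hJ_props`) and C6 (`h0_mem`), verbatim vs `helper8/TD4/Skel.lean.txt`. -/

set_option autoImplicit false

namespace Cfsg.Agent.Lib.helper8.TD4

open Cfsg.Lie Cfsg.Lie.ChevalleyDatum Cfsg.Agent.Lib.helper8 Matrix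

universe u v

section C

variable {E : Type v} [Field E] (hB : H8Base.{v} chevD4)

/-- C4. -/
theorem hJ_props (q : ℕ) (t : E) (ht : t ≠ 0) :
    hJ hB q t ∈ chevD4.diagonalSubgroup E ∧
    h8chi chevD4 hB (hJ hB q t) 18 = t ^ 2 ∧
    h8chi chevD4 hB (hJ hB q t) 14 = (t * t ^ q * t ^ (q ^ 2))⁻¹ ∧
    h8chi chevD4 hB (hJ hB q t) 9 = t * t ^ q * t ^ (q ^ 2) := by
  have hD : chevD4 ∈ [chevG2, chevB2, chevD4, chevF4, chevE6, chevE7, chevE8] := by simp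
  have hA := h8reflAll chevD4 hD
  have hW := h8bn2_all chevD4 hD
  obtain ⟨-, -, -, -, -, -, -, n14, k1, k2, k3, -, k5, k6, k7, -⟩ := h8hD4_data
  have l18 : 18 < chevD4.nroots := by decide
  have l13 : 13 < chevD4.nroots := by decide
  have l12 : 12 < chevD4.nroots := by decide
  have l14 : 14 < chevD4.nroots := by decide
  rw [h8KF_eq chevD4 hA.ca _ _ l18] at k1 k2 k3
  rw [h8KF_eq chevD4 hA.ca _ _ l14] at k5 k6 k7
  have htq : t ^ q ≠ 0 := pow_ne_zero _ ht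
  have htq2 : t ^ (q ^ 2) ≠ 0 := pow_ne_zero _ ht
  have m18 := h8hU_mem_H chevD4 hB 18 l18 t ht
  have m13 := h8hU_mem_H chevD4 hB 13 l13 _ htq
  have m12 := h8hU_mem_H chevD4 hB 12 l12 _ htq2
  have hmem : hJ hB q t ∈ chevD4.diagonalSubgroup E :=
    Subgroup.mul_mem _ (Subgroup.mul_mem _ m18 m13) m12
  have c18 : h8chi chevD4 hB (hJ hB q t) 18 = t ^ 2 := by
    unfold hJ
    rw [h8chi_mul chevD4 hB hA hW _ _ (Subgroup.mul_mem _ m18 m13) m12 18 l18,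
      h8chi_mul chevD4 hB hA hW _ _ m18 m13 18 l18,
      h8chi_hU chevD4 hB hA hW 18 l18 t ht 18 l18, h8chi_hU chevD4 hB hA hW 13 l13 _ htq 18 l18,
      h8chi_hU chevD4 hB hA hW 12 l12 _ htq2 18 l18, k1, k2, k3]
    simp
  have c14 : h8chi chevD4 hB (hJ hB q t) 14 = (t * t ^ q * t ^ (q ^ 2))⁻¹ := by
    unfold hJ
    rw [h8chi_mul chevD4 hB hA hW _ _ (Subgroup.mul_mem _ m18 m13) m12 14 l14,
      h8chi_mul chevD4 hB hA hW _ _ m18 m13 14 l14,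
      h8chi_hU chevD4 hB hA hW 18 l18 t ht 14 l14, h8chi_hU chevD4 hB hA hW 13 l13 _ htq 14 l14,
      h8chi_hU chevD4 hB hA hW 12 l12 _ htq2 14 l14, k5, k6, k7]
    simp [mul_comm]
  refine ⟨hmem, c18, c14, ?_⟩
  have := h8chi_neg chevD4 hB hA hW (hJ hB q t) hmem 14 l14
  rw [n14, c14, inv_inv] at this
  exact this

/-- C6. -/
theorem h0_mem (q : ℕ) (t m : E) (ht : t ≠ 0) (hm : m ≠ 0) :
    h0 hB q t m ∈ chevD4.diagonalSubgroup E ∧ h8chi chevD4 hB (h0 hB q t m) 18 = t ^ 2 * m := by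
  have hD : chevD4 ∈ [chevG2, chevB2, chevD4, chevF4, chevE6, chevE7, chevE8] := by simp
  have hA := h8reflAll chevD4 hD
  have hW := h8bn2_all chevD4 hD
  obtain ⟨-, -, -, -, -, -, -, -, -, -, -, k4, -⟩ := h8hD4_data
  have l18 : 18 < chevD4.nroots := by decide
  have l14 : 14 < chevD4.nroots := by decide
  rw [h8KF_eq chevD4 hA.ca _ _ l18] at k4
  obtain ⟨h1, h2, -, -⟩ := hJ_props hB q t ht
  have hm' : m⁻¹ ≠ 0 := inv_ne_zero hm
  have m14 := h8hU_mem_H chevD4 hB 14 l14 m⁻¹ hm'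
  refine ⟨Subgroup.mul_mem _ h1 m14, ?_⟩
  unfold h0
  rw [h8chi_mul chevD4 hB hA hW _ _ h1 m14 18 l18, h2, h8chi_hU chevD4 hB hA hW 14 l14 _ hm' 18 l18,
    k4]
  simp

end C

end Cfsg.Agent.Lib.helper8.TD4
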