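import Mathlib
import Cfsg.Prelude.Def_ChevStructure
import Cfsg.Prelude.Def_LieTwisted
import Cfsg.Agent.Lib.helper8.TD4.Defs
import Cfsg.Agent.Lib.helper8.TD4C3
import Cfsg.Agent.Lib.helper8.TD4C4
import Cfsg.Agent.Lib.helper8.ChevOrd
import Cfsg.Agent.Lib.helper8.ChevBN3

/-! Project TD4 row C5 (`conj_x0`), verbatim vs `helper8/TD4/Skel.lean.txt`. -/

set_option autoImplicit false

namespace Cfsg.Agent.Lib.helper8.TD4

open Cfsg.Lie Cfsg.Lie.ChevalleyDatum Cfsg.Agent.Lib.helper8 Matrix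

universe u v

/-- the `SL₂` identity behind `conj_x0` -/
theorem td4c5_sl2 {E : Type v} [Field E] (m mq s ν : E) (hm : m ≠ 0) (hmq : mq ≠ 0)
    (hs : s * (m - mq) = 1) (hν : ν = m * mq) :
    h8slL (ν * s) * h8slU (ν⁻¹ * mq) = h8slD m⁻¹ * h8slL s * h8slU (-m) * h8slW := by
  have hm' : m⁻¹ ≠ 0 := inv_ne_zero hm
  have e1 : s * m = 1 + s * mq := by linear_combination hs
  have hν' : ν⁻¹ * mq = m⁻¹ := by rw [hν]; field_simp
  rw [hν']
  subst hν
  refine h8sl_ext _ _ ?_ ?_ ?_ ?_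
  · simp [h8slU_val, h8slL_val, h8slW_val, h8slD_val _ hm', Matrix.mul_apply, Fin.sum_univ_two]
    exact (inv_mul_cancel₀ hm).symm
  · simp [h8slU_val, h8slL_val, h8slW_val, h8slD_val _ hm', Matrix.mul_apply, Fin.sum_univ_two]
  · simp [h8slU_val, h8slL_val, h8slW_val, h8slD_val _ hm', Matrix.mul_apply, Fin.sum_univ_two]
    linear_combination (-m) * e1
  · simp [h8slU_val, h8slL_val, h8slW_val, h8slD_val _ hm', Matrix.mul_apply, Fin.sum_univ_two]
    have : m * mq * s * m⁻¹ = mq * s := by field_simp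
    rw [this]
    linear_combination (-1 : E) * e1

section C

variable {E : Type v} [Field E] (hB : H8Base.{v} chevD4)

/-- moving a root element past a diagonal element -/
theorem td4c5_swap (h : GL chevD4.Idx E) (hh : h ∈ chevD4.diagonalSubgroup E) (r : ℕ)
    (hr : r < chevD4.nroots) (u : E) :
    h8xU chevD4 hB r u * h = h * h8xU chevD4 hB r ((h8chi chevD4 hB h r)⁻¹ * u) := by
  obtain ⟨h0, h1⟩ := h8chi_spec chevD4 hB h hh r hr
  have := h1 ((h8chi chevD4 hB h r)⁻¹ * u)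
  rw [← mul_assoc, mul_inv_cancel₀ h0, one_mul] at this
  rw [← this]
  group

/-- C5. -/
theorem conj_x0 (q : ℕ) (t m : E) (ht : t ≠ 0) (hmq : m ≠ m ^ q)
    (hN : t * t ^ q * t ^ (q ^ 2) * m ^ (q + 1) = 1) :
    cE hB q m * x0 hB q t (m + m ^ q) * (cE hB q m)⁻¹ = h0 hB q t m := by
  have l14 : 14 < chevD4.nroots := by decide
  have l9 : 9 < chevD4.nroots := by decide
  have hm0 : m ≠ 0 := by
    intro h
    rw [h, zero_pow (Nat.succ_ne_zero q), mul_zero] at hN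
    exact zero_ne_one hN
  have hmq0 : m ^ q ≠ 0 := pow_ne_zero _ hm0
  have hne : m - m ^ q ≠ 0 := sub_ne_zero.mpr hmq
  obtain ⟨hJm, -, c14, c9⟩ := hJ_props hB q t ht
  obtain ⟨φ, hU, hL, hW, hDd⟩ := phi_beta (E := E) hB
  set N := t * t ^ q * t ^ (q ^ 2) with hNdef
  have hN0 : N ≠ 0 := by
    intro h
    rw [h, zero_mul] at hN
    exact zero_ne_one hN
  have hν : N⁻¹ = m * m ^ q := by
    rw [pow_succ] at hN
    have h1 : N * (m * m ^ q) = 1 := by rw [← hN]; ring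
    exact (eq_inv_of_mul_eq_one_right h1).symm
  set s := (m - m ^ q)⁻¹ with hsdef
  have hs : s * (m - m ^ q) = 1 := inv_mul_cancel₀ hne
  have key := congrArg φ (td4c5_sl2 m (m ^ q) s N⁻¹ hm0 hmq0 hs hν)
  simp only [map_mul, hU, hL, hW, hDd _ (inv_ne_zero hm0)] at key
  -- move `cE` past `hJ`
  have e1 : cE hB q m * hJ hB q t =
      hJ hB q t * (h8xU chevD4 hB 9 (N⁻¹ * s) * h8xU chevD4 hB 14 (N⁻¹⁻¹ * m ^ q)) := by
    unfold cE
    rw [mul_assoc, td4c5_swap hB _ hJm 14 l14, ← mul_assoc, td4c5_swap hB _ hJm 9 l9, c14, c9,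
      mul_assoc]
  have e2 : (cE hB q m)⁻¹ = h8xU chevD4 hB 14 (-(m ^ q)) * h8xU chevD4 hB 9 (-s) := by
    unfold cE
    rw [_root_.mul_inv_rev, h8xU_inv, h8xU_inv]
  have e3 : h8xU chevD4 hB 14 (-m) * h8xU chevD4 hB 14 (m + m ^ q) *
      h8xU chevD4 hB 14 (-(m ^ q)) = 1 := by
    rw [h8xU_add chevD4 hB 14 l14, h8xU_add chevD4 hB 14 l14]
    have : -m + (m + m ^ q) + -(m ^ q) = 0 := by ring
    rw [this, h8xU_zero]
  have e4 : h8xU chevD4 hB 9 s * h8xU chevD4 hB 9 (-s) = 1 := by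
    rw [h8xU_add chevD4 hB 9 l9, add_neg_cancel, h8xU_zero]
  unfold x0 h0
  calc cE hB q m * (hJ hB q t * (h8nU chevD4 hB 14 1)⁻¹ * h8xU chevD4 hB 14 (m + m ^ q)) *
        (cE hB q m)⁻¹
      = (cE hB q m * hJ hB q t) * (h8nU chevD4 hB 14 1)⁻¹ * h8xU chevD4 hB 14 (m + m ^ q) *
        (cE hB q m)⁻¹ := by group
    _ = hJ hB q t * (h8hU chevD4 hB 14 m⁻¹ * h8xU chevD4 hB 9 s *
          (h8xU chevD4 hB 14 (-m) * h8xU chevD4 hB 14 (m + m ^ q) *
            h8xU chevD4 hB 14 (-(m ^ q))) * h8xU chevD4 hB 9 (-s)) := by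
        rw [e1, e2, key]
        group
    _ = hJ hB q t * h8hU chevD4 hB 14 m⁻¹ := by
        rw [e3, mul_one, mul_assoc (h8hU chevD4 hB 14 m⁻¹), e4, mul_one]

end C

end Cfsg.Agent.Lib.helper8.TD4
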