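import Mathlib
import Cfsg.Prelude.Def_ChevStructure
import Cfsg.Prelude.Def_LieTwisted
import Cfsg.Agent.Lib.helper8.TD4.Defs
import Cfsg.Agent.Lib.helper8.TD4C3
import Cfsg.Agent.Lib.helper8.ChevTw5

/-! Project TD4 row C7 (`frob_cE`), verbatim vs `helper8/TD4/Skel.lean.txt`. -/

set_option autoImplicit false

namespace Cfsg.Agent.Lib.helper8.TD4

open Cfsg.Lie Cfsg.Lie.ChevalleyDatum Cfsg.Agent.Lib.helper8 Matrix

universe u v

/-- the `SL₂` identity behind `frob_cE` -/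
theorem td4c7_sl2 {E : Type v} [Field E] (m mq s : E) (hs : s * (m - mq) = 1) :
    h8slL (-s) * h8slU m = h8slD (m - mq) * h8slW * h8slL s * h8slU mq := by
  have hne : m - mq ≠ 0 := by
    intro h
    rw [h, mul_zero] at hs
    exact zero_ne_one hs
  have hinv : (m - mq)⁻¹ = s := by
    symm
    exact eq_inv_of_mul_eq_one_left hs
  refine h8sl_ext _ _ ?_ ?_ ?_ ?_
  · simp [h8slU_val, h8slL_val, h8slW_val, h8slD_val _ hne, Matrix.mul_apply, Fin.sum_univ_two, hinv]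
    linear_combination (-1 : E) * hs
  · simp [h8slU_val, h8slL_val, h8slW_val, h8slD_val _ hne, Matrix.mul_apply, Fin.sum_univ_two, hinv]
    linear_combination (-mq) * hs
  · simp [h8slU_val, h8slL_val, h8slW_val, h8slD_val _ hne, Matrix.mul_apply, Fin.sum_univ_two,
      hinv]
  · simp [h8slU_val, h8slL_val, h8slW_val, h8slD_val _ hne, Matrix.mul_apply, Fin.sum_univ_two,
      hinv]
    linear_combination (-1 : E) * hs

section C

variable {E : Type v} [Field E] (hB : H8Base.{v} chevD4)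

/-- C7. -/
theorem frob_cE (hA : H8ReflAll chevD4) (q : ℕ) (f : E ≃+* E) (hf : ∀ x, f x = x ^ q) (m : E)
    (hm2 : m ^ (q ^ 2) = m) (hmq : m ≠ m ^ q) :
    Fr hA f (cE hB q m) = (h8hU chevD4 hB 14 (m - m ^ q) * h8nU chevD4 hB 14 1) * cE hB q m := by
  have hne : m - m ^ q ≠ 0 := sub_ne_zero.mpr hmq
  obtain ⟨φ, hU, hL, hW, hDd⟩ := phi_beta (E := E) hB
  obtain ⟨h14, h9⟩ : (h8sD4 14 = 14 ∧ h8eD4 14 = 1) ∧ (h8sD4 9 = 9 ∧ h8eD4 9 = 1) := by
    have := h8twD4_fixdata.1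
    exact ⟨(this 14 (by simp)).2, (this 9 (by simp)).2⟩
  set s := (m - m ^ q)⁻¹ with hsdef
  have hs : s * (m - m ^ q) = 1 := inv_mul_cancel₀ hne
  have hfmq : f (m ^ q) = m := by rw [hf, ← pow_mul, ← sq, hm2]
  have hfs : f s = -s := by
    rw [hsdef, map_inv₀, map_sub, hfmq, hf, ← neg_sub, neg_inv]
  have key := congrArg φ (td4c7_sl2 m (m ^ q) s hs)
  simp only [map_mul, hU, hL, hW, hDd _ hne] at key
  unfold Fr cE
  rw [map_mul, h8Sig_xU chevD4 _ _ _ _ _ (h8autD4 hA) f hB 9 (by decide),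
    h8Sig_xU chevD4 _ _ _ _ _ (h8autD4 hA) f hB 14 (by decide), h14.1, h14.2, h9.1, h9.2,
    Int.cast_one, one_mul, one_mul, hfmq, hfs, ← hsdef, key]
  group

end C

end Cfsg.Agent.Lib.helper8.TD4
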