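import Mathlib
import Cfsg.Prelude.Def_ChevStructure
import Cfsg.Prelude.Def_LieTwisted
import Cfsg.Agent.Lib.helper8.TD4.Defs
import Cfsg.Agent.Lib.helper8.ChevTwB7
import Cfsg.Agent.Lib.helper8.ChevTw8
import Cfsg.Agent.Lib.helper8.ChevBaseAll
import Cfsg.Agent.Lib.helper8.ChevReflAll
import Cfsg.Agent.Lib.helper8.ChevBNAll2
import Cfsg.Agent.Lib.helper8.TD4C4
import Cfsg.Agent.Lib.helper8.TD4C5
import Cfsg.Agent.Lib.helper8.TD4C7
import Cfsg.Agent.Lib.Helper16.TD4C1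
import Cfsg.Agent.Lib.Helper16.TD4F1
import Cfsg.Agent.Lib.helper17.TD4A5
import Cfsg.Agent.Lib.helper17.TD4A7
import Cfsg.Agent.Lib.helper6.TD4B4
import Cfsg.Agent.Lib.helper6.TD4C2
import Cfsg.Agent.Lib.helper6.TD4C8
import Cfsg.Agent.Lib.helper23.TD4A3
import Cfsg.Agent.Lib.helper3.TD4B3
import Cfsg.Agent.Lib.helper3.TD4B5
import Cfsg.Agent.Lib.Helper25.TD4B6
import Cfsg.Agent.Lib.Helper21.TD4B7core
import Cfsg.Agent.Lib.Helper29.TD4B8
import Cfsg.Agent.Lib.helper17.TD4A6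
import Cfsg.Agent.Lib.Helper22.TD4R1
import Cfsg.Agent.Lib.Helper29.TD4R3
import Cfsg.Agent.Lib.Helper22.TD4R4core
import Cfsg.Agent.Lib.Helper22.TD4R5core

/-! Project TD4 rows M1–M5 (`conj_rel`, `h0_props`, `cent_x0`, `order_x0`, `td4_main`), verbatim vs
`helper8/TD4/Skel.lean.txt`. -/

set_option autoImplicit false

namespace Cfsg.Agent.Lib.helper8.TD4

open Cfsg.Lie Cfsg.Lie.ChevalleyDatum Cfsg.Agent.Lib.helper8 Matrix

universe u v

/-- B7 (`rho_rel`), own-name copy via `td4b7_core` -/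
theorem td4m_rho_rel {F : Type u} [Field F] (hB : H8Base.{u} chevD4) (hA : H8ReflAll chevD4)
    (f : F ≃+* F) (h h' : GL chevD4.Idx F)
    (hh : h ∈ chevD4.diagonalSubgroup F) (hh' : h' ∈ chevD4.diagonalSubgroup F)
    (hF : Fr hA f h = (h' * h8nU chevD4 hB 14 1) * h * (h' * h8nU chevD4 hB 14 1)⁻¹) :
    ∀ r < 24, h8chi chevD4 hB h (rho r) = f (h8chi chevD4 hB h r) :=
  td4b7_core hB hA f h h' (chi_twist hB hA f h hh).2 (chi_refl hB h h' hh hh').2 hF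

/-- R4 (`chi_orbit_unique`), own-name copy via `td4r4_core` -/
theorem td4m_chi_orbit_unique {F : Type u} [Field F] (hB : H8Base.{u} chevD4) (q : ℕ) (hq : 2 ≤ q)
    (h : GL chevD4.Idx F) (hh : h ∈ chevD4.diagonalSubgroup F)
    (hrel : ∀ r < 24, h8chi chevD4 hB h (rho r) = h8chi chevD4 hB h r ^ q)
    (hord : orderOf (h8chi chevD4 hB h 18) = nT q) :
    ∀ j ∈ [18, 13, 12, 19], ∀ r < 24, h8chi chevD4 hB h r = h8chi chevD4 hB h j → r = j :=
  td4r4_core hB q h hrel (zpow_kZ_eq_self q hq _ hord) (chi_table hB q hq h hh hrel).2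

/-- R5 (`cent_regular`), own-name copy via `td4r5_core` -/
theorem td4m_cent_regular {F : Type u} [Field F] (hB : H8Base.{u} chevD4) (h : GL chevD4.Idx F)
    (hh : h ∈ chevD4.diagonalSubgroup F) (h1 : ∀ r < 24, h8chi chevD4 hB h r ≠ 1)
    (huniq : ∀ j ∈ [18, 13, 12, 19], ∀ r < 24,
      h8chi chevD4 hB h r = h8chi chevD4 hB h j → r = j)
    (g : GL chevD4.Idx F) (hg : g ∈ chevD4.group F) (hc : h * g = g * h) :
    g ∈ chevD4.diagonalSubgroup F :=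
  td4r5_core h hh (fun u hu hcu => U_fixed hB h hh h1 u hu hcu)
    (fun n hn hcn => N_fixed hB h hh huniq n hn hcn) g hg hc

section M

variable {K : Type u} {E : Type v} [Field K] [Fintype K] [Field E] [Fintype E]
  (hBK : H8Base.{u} chevD4) (hBE : H8Base.{v} chevD4) (hA : H8ReflAll chevD4)

theorem conj_rel (ι : K →+* E) (q : ℕ) (hK : Fintype.card K = q ^ 3) (f : E ≃+* E)
    (hf : ∀ x, f x = x ^ q) (m : E) (hm2 : m ^ (q ^ 2) = m) (hmq : m ≠ m ^ q)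
    (g : GL chevD4.Idx K) (hg : g ∈ twistedD4 K q)
    (hH : cE hBE q m * h8Psi chevD4 ι g * (cE hBE q m)⁻¹ ∈ chevD4.diagonalSubgroup E) :
    ∀ r < 24, h8chi chevD4 hBE (cE hBE q m * h8Psi chevD4 ι g * (cE hBE q m)⁻¹) (rho r) =
      h8chi chevD4 hBE (cE hBE q m * h8Psi chevD4 ι g * (cE hBE q m)⁻¹) r ^ q := by
  have hD : chevD4 ∈ [chevG2, chevB2, chevD4, chevF4, chevE6, chevE7, chevE8] := by simp
  have hA := h8reflAll chevD4 hD
  have hBK := h8base_all.{u} chevD4 hD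
  have hne : m - m ^ q ≠ 0 := sub_ne_zero.mpr hmq
  have hh' : h8hU chevD4 hBE 14 (m - m ^ q) ∈ chevD4.diagonalSubgroup E :=
    h8hU_mem_H chevD4 hBE 14 (by decide) _ hne
  have hF : Fr hA f (cE hBE q m * h8Psi chevD4 ι g * (cE hBE q m)⁻¹) =
      (h8hU chevD4 hBE 14 (m - m ^ q) * h8nU chevD4 hBE 14 1) *
        (cE hBE q m * h8Psi chevD4 ι g * (cE hBE q m)⁻¹) *
        (h8hU chevD4 hBE 14 (m - m ^ q) * h8nU chevD4 hBE 14 1)⁻¹ := by
    rw [map_mul, map_mul, map_inv, frob_cE hBE hA q f hf m hm2 hmq,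
      fix_E hBK hBE hA ι q hK f hf g hg]
    group
  intro r hr
  rw [td4m_rho_rel hBE hA f _ _ hH hh' hF r hr, hf]

theorem td4m_zpow_pow_comm (v : E) (k : ℤ) (i : ℕ) : (v ^ i) ^ k = (v ^ k) ^ i := by
  rw [← zpow_natCast v i, ← zpow_natCast (v ^ k) i, ← _root_.zpow_mul, ← _root_.zpow_mul, mul_comm]

theorem td4m_par_m_ne {q : ℕ} {ι : K →+* E} {t τ : K} {m : E} (hP : Par q ι t τ m) : m ≠ 0 := by
  intro h0
  have := hP.hN
  rw [h0, zero_pow (Nat.succ_ne_zero q), mul_zero] at this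
  exact zero_ne_one this

theorem h0_props (ι : K →+* E) (q : ℕ) (hq : IsPrimePow q) (hK : Fintype.card K = q ^ 3)
    (hE : Fintype.card E = q ^ 6) (t τ : K) (m : E) (hP : Par q ι t τ m) :
    cE hBE q m * h8Psi chevD4 ι (x0 hBK q t τ) * (cE hBE q m)⁻¹ = h0 hBE q (ι t) m ∧
    h0 hBE q (ι t) m ∈ chevD4.diagonalSubgroup E ∧
    h8chi chevD4 hBE (h0 hBE q (ι t) m) 18 = ι t ^ 2 * m ∧
    (∀ r < 24, h8chi chevD4 hBE (h0 hBE q (ι t) m) r = (ι t ^ 2 * m) ^ kZ q r) ∧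
    (∀ g : GL chevD4.Idx E, g ∈ chevD4.group E → h0 hBE q (ι t) m * g = g * h0 hBE q (ι t) m →
      g ∈ chevD4.diagonalSubgroup E) := by
  have hq2 : 2 ≤ q := hq.two_le
  have hm0 : m ≠ 0 := td4m_par_m_ne hP
  have ht0 : ι t ≠ 0 := (map_ne_zero ι).mpr hP.ht
  obtain ⟨f, hf, -, -⟩ := h8frob_exists hq 6 (by norm_num) hE
  have e1 : cE hBE q m * h8Psi chevD4 ι (x0 hBK q t τ) * (cE hBE q m)⁻¹ = h0 hBE q (ι t) m := by
    rw [psi_x0 hBK hBE ι q t τ, hP.hτm]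
    exact conj_x0 hBE q (ι t) m ht0 hP.hmq hP.hN
  obtain ⟨e2, e3⟩ := h0_mem hBE q (ι t) m ht0 hm0
  have hx0 : x0 hBK q t τ ∈ twistedD4 K q := x0_mem hBK q hq hK t τ hP.ht hP.hτ
  have hrel : ∀ r < 24, h8chi chevD4 hBE (h0 hBE q (ι t) m) (rho r) =
      h8chi chevD4 hBE (h0 hBE q (ι t) m) r ^ q := by
    have := conj_rel hBE ι q hK f hf m hP.hm2 hP.hmq (x0 hBK q t τ) hx0 (by rw [e1]; exact e2)
    rw [e1] at this
    exact this
  obtain ⟨-, e4⟩ := chi_table hBE q hq2 _ e2 hrel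
  rw [e3] at e4
  refine ⟨e1, e2, e3, e4, ?_⟩
  have hord : orderOf (h8chi chevD4 hBE (h0 hBE q (ι t) m) 18) = nT q := by
    rw [e3]; exact hP.hord
  have h1 : ∀ r < 24, h8chi chevD4 hBE (h0 hBE q (ι t) m) r ≠ 1 := by
    intro r hr
    rw [e4 r hr]
    exact zpow_kZ_ne_one q hq2 _ hP.hord r hr
  have huniq := td4m_chi_orbit_unique hBE q hq2 _ e2 hrel hord
  intro g hg hc
  exact td4m_cent_regular hBE _ e2 h1 huniq g hg hc

theorem cent_x0 (ι : K →+* E) (q : ℕ) (hq : IsPrimePow q) (hK : Fintype.card K = q ^ 3)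
    (hE : Fintype.card E = q ^ 6) (t τ : K) (m : E) (hP : Par q ι t τ m)
    (g : GL chevD4.Idx K) (hg : g ∈ twistedD4 K q) (hc : g * x0 hBK q t τ = x0 hBK q t τ * g) :
    ∃ i : ℕ, g = x0 hBK q t τ ^ i := by
  have hD : chevD4 ∈ [chevG2, chevB2, chevD4, chevF4, chevE6, chevE7, chevE8] := by simp
  have hBE := h8base_all.{v} chevD4 hD
  have hq2 : 2 ≤ q := hq.two_le
  obtain ⟨f, hf, -, -⟩ := h8frob_exists hq 6 (by norm_num) hE
  generalize hcdef : cE hBE q m = c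
  obtain ⟨e1, e2, e3, e4, e5⟩ := h0_props hBK hBE ι q hq hK hE t τ m hP
  rw [hcdef] at e1
  generalize hgh : c * h8Psi chevD4 ι g * c⁻¹ = gh
  have hgG : gh ∈ chevD4.group E := by
    have h1 : h8Psi chevD4 ι g ∈ chevD4.group E :=
      h8Psi_group_le chevD4 hBK hBE ι ⟨g, h8gen_le_group chevD4 hBK _ hg, rfl⟩
    have h2 : c ∈ chevD4.group E := hcdef ▸ cE_mem hBE q m
    rw [← hgh]
    exact Subgroup.mul_mem _ (Subgroup.mul_mem _ h2 h1) (Subgroup.inv_mem _ h2)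
  have hcomm : h0 hBE q (ι t) m * gh = gh * h0 hBE q (ι t) m := by
    rw [← e1, ← hgh]
    have h3 : h8Psi chevD4 ι g * h8Psi chevD4 ι (x0 hBK q t τ) =
        h8Psi chevD4 ι (x0 hBK q t τ) * h8Psi chevD4 ι g := by
      rw [← map_mul, ← map_mul, hc]
    calc c * h8Psi chevD4 ι (x0 hBK q t τ) * c⁻¹ * (c * h8Psi chevD4 ι g * c⁻¹)
        = c * (h8Psi chevD4 ι (x0 hBK q t τ) * h8Psi chevD4 ι g) * c⁻¹ := by group
      _ = c * (h8Psi chevD4 ι g * h8Psi chevD4 ι (x0 hBK q t τ)) * c⁻¹ := by rw [h3]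
      _ = _ := by group
  have hghH : gh ∈ chevD4.diagonalSubgroup E := e5 gh hgG hcomm
  have hrel := conj_rel hBE ι q hK f hf m hP.hm2 hP.hmq g hg (by rw [hcdef, hgh]; exact hghH)
  rw [hcdef, hgh] at hrel
  obtain ⟨hw, htab⟩ := chi_table hBE q hq2 gh hghH hrel
  obtain ⟨i, hi⟩ := eq_pow_of_pow_nT q hq2 (ι t ^ 2 * m) _ hP.hord hw
  refine ⟨i, ?_⟩
  have hpow : gh = h0 hBE q (ι t) m ^ i := by
    apply H_ext hBE gh _ hghH (Subgroup.pow_mem _ e2 i)
    intro r hr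
    rw [htab r hr, hi, chi_pow hBE _ e2 i r hr, e4 r hr, td4m_zpow_pow_comm]
  apply h8Psi_injective chevD4 ι
  have h4 : c * h8Psi chevD4 ι g * c⁻¹ = c * h8Psi chevD4 ι (x0 hBK q t τ ^ i) * c⁻¹ := by
    rw [hgh, hpow, ← e1, map_pow]
    exact (conj_pow (a := c) (b := h8Psi chevD4 ι (x0 hBK q t τ)) (i := i))
  exact mul_left_cancel (mul_right_cancel h4)

theorem order_x0 (ι : K →+* E) (q : ℕ) (hq : IsPrimePow q) (hK : Fintype.card K = q ^ 3)
    (hE : Fintype.card E = q ^ 6) (t τ : K) (m : E) (hP : Par q ι t τ m) :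
    orderOf (x0 hBK q t τ) = nT q := by
  have hD : chevD4 ∈ [chevG2, chevB2, chevD4, chevF4, chevE6, chevE7, chevE8] := by simp
  have hA := h8reflAll chevD4 hD
  have hW := h8bn2_all chevD4 hD
  have hBE := h8base_all.{v} chevD4 hD
  obtain ⟨e1, e2, e3, e4, -⟩ := h0_props hBK hBE ι q hq hK hE t τ m hP
  rw [← hP.hord, ← orderOf_injective (h8Psi chevD4 ι) (h8Psi_injective chevD4 ι) (x0 hBK q t τ)]
  have h5 : orderOf (h8Psi chevD4 ι (x0 hBK q t τ)) = orderOf (h0 hBE q (ι t) m) := by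
    rw [← e1]
    exact ((MulAut.conj (cE hBE q m)).orderOf_eq (h8Psi chevD4 ι (x0 hBK q t τ))).symm
  rw [h5]
  apply orderOf_eq_orderOf_iff.mpr
  intro n
  constructor
  · intro h
    have h6 := chi_pow hBE _ e2 n 18 (by norm_num)
    rw [h, h8chi_one chevD4 hBE hA hW 18 (by decide), e3] at h6
    exact h6.symm
  · intro h
    apply H_ext hBE _ _ (Subgroup.pow_mem _ e2 n) (Subgroup.one_mem _)
    intro r hr
    rw [chi_pow hBE _ e2 n r hr, e4 r hr, h8chi_one chevD4 hBE hA hW r hr,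
      ← td4m_zpow_pow_comm, h, _root_.one_zpow]

end M

theorem td4_main {K : Type u} [Field K] [Fintype K] (q : ℕ) (hq : IsPrimePow q)
    (hK : Fintype.card K = q ^ 3) :
    ∃ H : Subgroup ↥(Cfsg.Lie.twistedD4 K q), IsCyclic ↥H ∧ Nat.card ↥H = (q ^ 3 - 1) * (q + 1) ∧
      Subgroup.centralizer (H : Set ↥(Cfsg.Lie.twistedD4 K q)) = H := by
  have hD : chevD4 ∈ [chevG2, chevB2, chevD4, chevF4, chevE6, chevE7, chevE8] := by simp
  have hBK := h8base_all.{u} chevD4 hD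
  have hBE := h8base_all.{0} chevD4 hD
  have hq2 : 2 ≤ q := hq.two_le
  obtain ⟨p, hp⟩ := CharP.exists K
  haveI := hp
  haveI : Fact p.Prime := ⟨CharP.char_is_prime K p⟩
  let E := FiniteField.Extension K p 2
  letI : Fintype E := Fintype.ofFinite E
  have hE : Fintype.card E = q ^ 6 := by
    rw [Fintype.card_eq_nat_card, FiniteField.natCard_extension, Nat.card_eq_fintype_card, hK,
      ← pow_mul]
  obtain ⟨t, τ, m, hP⟩ := exists_par (algebraMap K E) q hq2 hK hE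
  have hmem : x0 hBK q t τ ∈ twistedD4 K q := x0_mem hBK q hq hK t τ hP.ht hP.hτ
  have hord : orderOf (x0 hBK q t τ) = nT q :=
    order_x0 hBK (algebraMap K E) q hq hK hE t τ m hP
  set σ' : ↥(twistedD4 K q) := ⟨x0 hBK q t τ, hmem⟩ with hσ'
  refine ⟨Subgroup.zpowers σ', inferInstance, ?_, ?_⟩
  · rw [Nat.card_zpowers, hσ', Subgroup.orderOf_mk, hord]
    rfl
  · ext x
    constructor
    · intro hx
      rw [Subgroup.mem_centralizer_iff] at hx
      have h1 : σ' * x = x * σ' := hx σ' (Subgroup.mem_zpowers σ')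
      have h2 : (x : GL chevD4.Idx K) * x0 hBK q t τ = x0 hBK q t τ * (x : GL chevD4.Idx K) := by
        have := congrArg (fun y : ↥(twistedD4 K q) => (y : GL chevD4.Idx K)) h1
        simpa [hσ'] using this.symm
      obtain ⟨i, hi⟩ := cent_x0 hBK (algebraMap K E) q hq hK hE t τ m hP x x.2 h2
      rw [Subgroup.mem_zpowers_iff]
      refine ⟨(i : ℤ), ?_⟩
      apply Subtype.ext
      rw [zpow_natCast, Subgroup.coe_pow, hi]
    · intro hx
      rw [Subgroup.mem_zpowers_iff] at hx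
      obtain ⟨k, rfl⟩ := hx
      rw [Subgroup.mem_centralizer_iff]
      intro h hh
      rw [SetLike.mem_coe, Subgroup.mem_zpowers_iff] at hh
      obtain ⟨l, rfl⟩ := hh
      exact (Commute.zpow_zpow_self σ' l k).eq

end Cfsg.Agent.Lib.helper8.TD4
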