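import Mathlib
import Cfsg.Prelude.Def_ChevStructure
import Cfsg.Prelude.Def_LieTwisted
import Cfsg.Agent.Lib.helper23.TD4V.Defs
import Cfsg.Agent.Lib.helper8.ChevTwD4O
import Cfsg.Agent.Lib.helper8.ChevTwE6c

/-!
# TD4V row U7b (`n0_mem`): the Weyl representatives `n0 = (nb * nJ) ^ 3`, `nb`, `nJ` lie in `³D₄(q)`.
-/

set_option autoImplicit false

namespace Cfsg.Agent.Lib.helper23.TD4V

open Cfsg.Lie Cfsg.Lie.ChevalleyDatum Matrix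
open Cfsg.Agent.Lib.helper8 Cfsg.Agent.Lib.helper8.TD4
open Cfsg.Agent.Lib.helper23.P4V

universe u v

section U

variable {K : Type u} [Field K]

/-- `nb = x₁₄(1) x₉(-1) x₁₄(1)` lies in `³D₄(q)` as soon as `(-1) ^ q = -1` -/
theorem td4vu7b_nb (q : ℕ) (hneg : (-1 : K) ^ q = -1) : (nb : GG K) ∈ twistedD4 K q := by
  obtain ⟨s0, s1, s2, s3, n0, n1, n2, n3⟩ := h8twD4_simdata
  unfold nb
  rw [h8nU_one_eq, n1]
  have h1 : (1 : K) ^ q = 1 := one_pow q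
  exact mul_mem (mul_mem (h8twD4_x1 hB q 14 (by simp) 1 h1) (h8twD4_x1 hB q 9 (by simp) (-1) hneg))
    (h8twD4_x1 hB q 14 (by simp) 1 h1)

/-- `nJ` lies in `³D₄(q)` as soon as `(-1) ^ q = -1` -/
theorem td4vu7b_nJ (q : ℕ) (hneg : (-1 : K) ^ q = -1) : (nJ : GG K) ∈ twistedD4 K q := by
  have hD : chevD4 ∈ [chevG2, chevB2, chevD4, chevF4, chevE6, chevE7, chevE8] := by simp
  have hC := h8commAll.{u} chevD4 hD
  have h := h8twD4_nJ (K := K) hB hC q hneg [⟨0, by decide⟩, ⟨2, by decide⟩, ⟨3, by decide⟩]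
    (by simp [h8orbsD4])
  exact h

/-- `n0 = (nb * nJ) ^ 3` -/
theorem td4vu7b_n0_eq : (n0 : GG K) = (nb * nJ) ^ 3 := by
  obtain ⟨s0, s1, s2, s3, n0', n1, n2, n3⟩ := h8twD4_simdata
  have hl : ([1, 0, 2, 3, 1, 0, 2, 3, 1, 0, 2, 3] : List ℕ) =
      ([1] ++ [0, 2, 3]) ++ (([1] ++ [0, 2, 3]) ++ ([1] ++ [0, 2, 3])) := rfl
  have h1 : (h8nWU chevD4 hB ([1] ++ [0, 2, 3]) : GG K) = nb * nJ := by
    rw [h8nWU_append, h8nWU_single, s1]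
    rfl
  unfold n0
  rw [hl, h8nWU_append chevD4 hB ([1] ++ [0, 2, 3]) (([1] ++ [0, 2, 3]) ++ ([1] ++ [0, 2, 3])),
    h8nWU_append chevD4 hB ([1] ++ [0, 2, 3]) ([1] ++ [0, 2, 3]), h1, pow_succ, pow_two]
  simp only [mul_assoc]

/-- **U7b** [S]. -/
theorem n0_mem [Fintype K] (q : ℕ) (hq : IsPrimePow q) (hK : Fintype.card K = q ^ 3) :
    (n0 : GG K) ∈ twistedD4 K q ∧ (nb : GG K) ∈ twistedD4 K q ∧ (nJ : GG K) ∈ twistedD4 K q := by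
  obtain ⟨f, hf, hfff3, hneg⟩ := h8frob_exists hq 3 (by norm_num) hK
  have hb := td4vu7b_nb (K := K) q hneg
  have hJ' := td4vu7b_nJ (K := K) q hneg
  refine ⟨?_, hb, hJ'⟩
  rw [td4vu7b_n0_eq]
  exact pow_mem (mul_mem hb hJ') 3

end U

end Cfsg.Agent.Lib.helper23.TD4V
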