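import Mathlib
import Cfsg.Prelude.Def_ChevStructure
import Cfsg.Prelude.Def_LieTwisted
import Cfsg.Agent.Lib.helper23.TD4V.Defs
import Cfsg.Agent.Lib.helper8.ChevTwD4O
import Cfsg.Agent.Lib.helper8.TD4VU7b
import Cfsg.Agent.Lib.Helper26.TD4VU7a

/-!
# TD4V row U7 (`QmK_fix_mem`): a `Fr`-fixed element of the opposite radical `QmK K` lies in `³D₄(q)`.
-/

set_option autoImplicit false

namespace Cfsg.Agent.Lib.helper23.TD4V

open Cfsg.Lie Cfsg.Lie.ChevalleyDatum Matrix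
open Cfsg.Agent.Lib.helper8 Cfsg.Agent.Lib.helper8.TD4
open Cfsg.Agent.Lib.helper23.P4V

universe u v

section U

variable {K : Type u} [Field K]

/-- the cube of the `q`-power map is the identity on a field of `q ^ 3` elements -/
theorem td4vu7_fff [Fintype K] (q : ℕ) (hK : Fintype.card K = q ^ 3) (f : K ≃+* K)
    (hf : ∀ t, f t = t ^ q) (t : K) : f (f (f t)) = t := by
  rw [hf, hf, hf, ← pow_mul, ← pow_mul]
  have e : q * (q * q) = Fintype.card K := by rw [hK]; ring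
  rw [e]
  exact FiniteField.pow_card t

/-- **U7** [S-M]. -/
theorem QmK_fix_mem [Fintype K] (q : ℕ) (hq : IsPrimePow q) (hK : Fintype.card K = q ^ 3)
    (hA : H8ReflAll chevD4) (f : K ≃+* K) (hf : ∀ t, f t = t ^ q) (g : GG K) (hg : g ∈ QmK K)
    (hfix : Fr hA f g = g) : g ∈ twistedD4 K q := by
  have hD : chevD4 ∈ [chevG2, chevB2, chevD4, chevF4, chevE6, chevE7, chevE8] := by simp
  have hC := h8commAll.{u} chevD4 hD
  have hBN := h8bn_all chevD4 hD
  obtain ⟨hO, hO2⟩ := h8ord_all chevD4 hD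
  obtain ⟨f', hf', hfff3, hneg⟩ := h8frob_exists hq 3 (by norm_num) hK
  have hfff : ∀ t, f (f (f t)) = t := td4vu7_fff q hK f hf
  have hn0 : (n0 : GG K) ∈ twistedD4 K q := (n0_mem q hq hK).1
  have hn0fix : Fr hA f (n0 : GG K) = n0 := h8twD4_fix hB hC hA q f hf hfff _ hn0
  have hpos := n0_conj_QmK g hg
  have hfix' : Fr hA f (n0⁻¹ * g * n0) = n0⁻¹ * g * n0 := by
    rw [map_mul, map_mul, map_inv, hn0fix, hfix]
  have hmem : (n0 : GG K)⁻¹ * g * n0 ∈ twistedD4 K q :=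
    h8twD4_U_fix hB hC hA hBN hO2 q f hf hfff hneg _ hpos hfix'
  have e : g = n0 * (n0⁻¹ * g * n0) * n0⁻¹ := by group
  rw [e]
  exact mul_mem (mul_mem hn0 hmem) (inv_mem hn0)

end U

end Cfsg.Agent.Lib.helper23.TD4V
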