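import Mathlib
import Cfsg.Prelude.Def_ChevStructure
import Cfsg.Prelude.Def_LieTwisted
import Cfsg.Agent.Lib.helper23.TD4V.Defs
import Cfsg.Agent.Lib.helper8.ChevTwD4O

/-!
# TD4V rows E2a (`B1_dec`) and E2b (`H1_form`): `B ⊓ G = (H ⊓ G)(U ⊓ G)` and the form of the elements of
`H ⊓ G` (exported from `h8tw_borel_G1` and from the proof of `h8twD4_H_card`).
-/

set_option autoImplicit false

namespace Cfsg.Agent.Lib.helper23.TD4V

open Cfsg.Lie Cfsg.Lie.ChevalleyDatum Matrix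
open Cfsg.Agent.Lib.helper8 Cfsg.Agent.Lib.helper8.TD4
open Cfsg.Agent.Lib.helper23.P4V

universe u

variable {F K : Type u} [Field F] [Field K] [Fintype F] [Fintype K] (j : F →+* K) (q : ℕ)

/-- **E2a** [M]. -/
theorem B1_dec (hq : IsPrimePow q) (hK : Fintype.card K = q ^ 3) (b : GG K)
    (hb : b ∈ chevD4.borelSubgroup K) (hbG : b ∈ twistedD4 K q) :
    ∃ h ∈ chevD4.diagonalSubgroup K ⊓ twistedD4 K q,
      ∃ u ∈ chevD4.posUnipotent K ⊓ twistedD4 K q, b = h * u := by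
  have hD : chevD4 ∈ [chevG2, chevB2, chevD4, chevF4, chevE6, chevE7, chevE8] := by simp
  have hB := h8base_all.{u} chevD4 hD
  have hA := h8reflAll chevD4 hD
  have hC := h8commAll.{u} chevD4 hD
  have hBN := h8bn_all chevD4 hD
  obtain ⟨hO, hO2⟩ := h8ord_all chevD4 hD
  obtain ⟨f, hf, hfff3, hneg⟩ := h8frob_exists hq 3 (by norm_num) hK
  have hfff : ∀ t, f (f (f t)) = t := fun t => hfff3 t
  have hσp : ∀ r, chevD4.IsPosRoot r →
      chevD4.IsPosRoot (h8sD4 r) ∧ h8posiD4 (h8sD4 r) = h8posiD4 r :=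
    fun r hr => ⟨(h8uD4_sig1 r hr.1 hr).1, (h8uD4_sig1 r hr.1 hr).2.1⟩
  have hUfix := h8twD4_U_fix hB hC hA hBN hO2 q f hf hfff hneg
  have hfixG := h8twD4_fix hB hC hA q f hf hfff
  obtain ⟨u, hu, h, hh', e⟩ := h8tw_borel_G1 chevD4 hB hA hBN h8sD4 h8tD4 h8pD4 h8qD4 h8eD4
    (h8autD4 hA) f (fun r hr => (hσp r hr).1) (twistedD4 K q) hfixG hUfix b⁻¹
    ⟨Subgroup.inv_mem _ hb, Subgroup.inv_mem _ hbG⟩
  refine ⟨h⁻¹, Subgroup.inv_mem _ hh', u⁻¹, Subgroup.inv_mem _ hu, ?_⟩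
  rw [← _root_.mul_inv_rev, ← e, inv_inv]

/-- **E2b** [M]. -/
theorem H1_form (hq : IsPrimePow q) (hK : Fintype.card K = q ^ 3) (h : GG K)
    (hh' : h ∈ chevD4.diagonalSubgroup K ⊓ twistedD4 K q) :
    ∃ t c : K, t ≠ 0 ∧ c ≠ 0 ∧ c ^ q = c ∧ h = hJ hB q t * hh 14 c := by
  classical
  have hD : chevD4 ∈ [chevG2, chevB2, chevD4, chevF4, chevE6, chevE7, chevE8] := by simp
  have hB := h8base_all.{u} chevD4 hD
  have hA := h8reflAll chevD4 hD
  have hC := h8commAll.{u} chevD4 hD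
  have hW := h8bn2_all chevD4 hD
  obtain ⟨f, hf, hfff3, hneg⟩ := h8frob_exists hq 3 (by norm_num) hK
  have hfff : ∀ t, f (f (f t)) = t := fun t => hfff3 t
  have hq1 : 1 < q := hq.one_lt
  have hfc : Nat.card {c : K // f c = c} = q :=
    h8frob_fix_card hq1 (by norm_num) hK f hf hfff3
  have hfixG := h8twD4_fix hB hC hA q f hf hfff
  obtain ⟨s18, s13, s12, s14, n18, n13, n12, n14, k1, k2, k3, k4, k5, k6, k7, k8⟩ := h8hD4_data
  have l18 : 18 < chevD4.nroots := by decide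
  have l13 : 13 < chevD4.nroots := by decide
  have l12 : 12 < chevD4.nroots := by decide
  have l14 : 14 < chevD4.nroots := by decide
  rw [h8KF_eq chevD4 hA.ca _ _ l18] at k1 k2 k3 k4
  rw [h8KF_eq chevD4 hA.ca _ _ l14] at k5 k6 k7 k8
  have hf2 : ∀ t : K, t ^ (q ^ 2) = f (f t) := fun t => by rw [hf, hf, ← pow_mul, sq]
  -- generators
  have hx1 : ∀ r ∈ [14, 9], ∀ t : K, f t = t → h8xU chevD4 hB r t ∈ twistedD4 K q :=
    fun r hr t ht => h8twD4_x1 hB q r hr t (by rw [← hf, ht])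
  have hx3 : ∀ p ∈ [(18, 13, 12), (5, 10, 11)], ∀ t : K,
      h8xU chevD4 hB p.1 t * h8xU chevD4 hB p.2.1 (f t) * h8xU chevD4 hB p.2.2 (f (f t)) ∈
        twistedD4 K q := by
    intro p hp t
    rw [← hf2, hf]
    exact h8twD4_x3 hB q p.1 p.2.1 p.2.2 hp t
  -- the torus elements
  have hh14 : ∀ a : K, f a = a → h8hU chevD4 hB 14 a ∈ twistedD4 K q := by
    apply h8tw_h1_mem chevD4 hB (twistedD4 K q) f 14 (hx1 14 (by simp))
    rw [n14]
    exact hx1 9 (by simp)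
  have hhJ : ∀ c : K, c ≠ 0 → h8hU chevD4 hB 18 c * h8hU chevD4 hB 13 (f c) *
      h8hU chevD4 hB 12 (f (f c)) ∈ twistedD4 K q := by
    obtain ⟨h1, h2, h3, h4, h5, h6, h7⟩ := h8pD4_tor (18, 13, 12) (by simp)
    dsimp only at h1 h2 h3 h4 h5 h6 h7
    have hcm : ∀ x ∈ [(18, 13), (18, 12), (13, 12)],
        ∀ a ∈ [x.1, chevD4.negIdx.getD x.1 0], ∀ b ∈ [x.2, chevD4.negIdx.getD x.2 0],
        ∀ t u : K, Commute (h8xU chevD4 hB a t) (h8xU chevD4 hB b u) := by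
      intro x hx a ha b hb t u
      obtain ⟨k1, k2, k3, k4, k5⟩ := h4 x hx a ha b hb
      exact h8xU_commute chevD4 hB hC a b k2 k3 k4 k5 k1 t u
    have c12 := hcm (18, 13) (by simp)
    have c13 := hcm (18, 12) (by simp)
    have c23 := hcm (13, 12) (by simp)
    dsimp only at c12 c13 c23
    have hP := hx3 (18, 13, 12) (by simp)
    have hM := hx3 _ h7
    dsimp only at hP hM
    exact h8tw_hJ3_mem chevD4 hB (twistedD4 K q) f 18 13 12 c12 c13 c23 hP hM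
  -- the characters of the torus elements
  have hchi : ∀ (c a : K), c ≠ 0 → a ≠ 0 → ∀ r < chevD4.nroots,
      h8chi chevD4 hB (h8hU chevD4 hB 18 c * h8hU chevD4 hB 13 (f c) *
        h8hU chevD4 hB 12 (f (f c)) * h8hU chevD4 hB 14 a) r =
      c ^ (h8K chevD4 18 r) * (f c) ^ (h8K chevD4 13 r) * (f (f c)) ^ (h8K chevD4 12 r) *
        a ^ (h8K chevD4 14 r) := by
    intro c a hc ha r hr
    have hfc0 : f c ≠ 0 := (map_ne_zero f).mpr hc
    have hffc0 : f (f c) ≠ 0 := (map_ne_zero f).mpr hfc0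
    have m1 := h8hU_mem_H chevD4 hB 18 l18 c hc
    have m2 := h8hU_mem_H chevD4 hB 13 l13 (f c) hfc0
    have m3 := h8hU_mem_H chevD4 hB 12 l12 (f (f c)) hffc0
    have m4 := h8hU_mem_H chevD4 hB 14 l14 a ha
    rw [h8chi_mul chevD4 hB hA hW _ _ (Subgroup.mul_mem _ (Subgroup.mul_mem _ m1 m2) m3) m4 r hr,
      h8chi_mul chevD4 hB hA hW _ _ (Subgroup.mul_mem _ m1 m2) m3 r hr,
      h8chi_mul chevD4 hB hA hW _ _ m1 m2 r hr,
      h8chi_hU chevD4 hB hA hW 18 l18 c hc r hr, h8chi_hU chevD4 hB hA hW 13 l13 _ hfc0 r hr,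
      h8chi_hU chevD4 hB hA hW 12 l12 _ hffc0 r hr, h8chi_hU chevD4 hB hA hW 14 l14 a ha r hr]
  -- the map
  let φ : {x : K // x ≠ 0} × {y : K // y ≠ 0 ∧ f y = y} →
      ↥(chevD4.diagonalSubgroup K ⊓ twistedD4 K q) :=
    fun p => ⟨h8hU chevD4 hB 18 p.1.val * h8hU chevD4 hB 13 (f p.1.val) *
          h8hU chevD4 hB 12 (f (f p.1.val)) * h8hU chevD4 hB 14 p.2.val,
          Subgroup.mul_mem _ (Subgroup.mul_mem _ (Subgroup.mul_mem _
            (h8hU_mem_H chevD4 hB 18 l18 _ p.1.2)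
            (h8hU_mem_H chevD4 hB 13 l13 _ ((map_ne_zero f).mpr p.1.2)))
            (h8hU_mem_H chevD4 hB 12 l12 _ ((map_ne_zero f).mpr ((map_ne_zero f).mpr p.1.2))))
            (h8hU_mem_H chevD4 hB 14 l14 _ p.2.2.1),
          Subgroup.mul_mem _ (hhJ _ p.1.2) (hh14 _ p.2.2.2)⟩
  have hinj : Function.Injective φ := by
      rintro ⟨⟨c, hc⟩, ⟨a, ha, hfa⟩⟩ ⟨⟨c', hc'⟩, ⟨a', ha', hfa'⟩⟩ heq
      have heq' : h8hU chevD4 hB 18 c * h8hU chevD4 hB 13 (f c) * h8hU chevD4 hB 12 (f (f c)) *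
          h8hU chevD4 hB 14 a = h8hU chevD4 hB 18 c' * h8hU chevD4 hB 13 (f c') *
          h8hU chevD4 hB 12 (f (f c')) * h8hU chevD4 hB 14 a' := congrArg Subtype.val heq
      have e18 := congrArg (fun g => h8chi chevD4 hB g 18) heq'
      have e14 := congrArg (fun g => h8chi chevD4 hB g 14) heq'
      beta_reduce at e18 e14
      rw [hchi c a hc ha 18 l18, hchi c' a' hc' ha' 18 l18, k1, k2, k3, k4] at e18
      rw [hchi c a hc ha 14 l14, hchi c' a' hc' ha' 14 l14, k5, k6, k7, k8] at e14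
      simp only [zpow_zero, mul_one, _root_.zpow_neg, zpow_one] at e18 e14
      have hfc0 : f c ≠ 0 := (map_ne_zero f).mpr hc
      have hffc0 : f (f c) ≠ 0 := (map_ne_zero f).mpr hfc0
      have hfc0' : f c' ≠ 0 := (map_ne_zero f).mpr hc'
      have hffc0' : f (f c') ≠ 0 := (map_ne_zero f).mpr hfc0'
      have hγ : c / c' = 1 := by
        apply h8d4_inj_aux f (c / c') (a / a') (div_ne_zero hc hc')
        · rw [map_div₀, hfa, hfa']
        · have : c ^ (2 : ℤ) * a⁻¹ = c' ^ (2 : ℤ) * a'⁻¹ := e18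
          rw [zpow_ofNat, zpow_ofNat] at this
          field_simp
          field_simp at this
          linear_combination this
        · have : c⁻¹ * (f c)⁻¹ * (f (f c))⁻¹ * a ^ (2 : ℤ) =
              c'⁻¹ * (f c')⁻¹ * (f (f c'))⁻¹ * a' ^ (2 : ℤ) := e14
          rw [zpow_ofNat, zpow_ofNat] at this
          rw [map_div₀, map_div₀]
          field_simp
          field_simp at this
          linear_combination this
      have hcc : c = c' := by
        have := (div_eq_one_iff_eq hc').mp hγ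
        exact this
      subst hcc
      have haa : a = a' := by
        have : c ^ (2 : ℤ) * a⁻¹ = c ^ (2 : ℤ) * a'⁻¹ := e18
        have h2 : a⁻¹ = a'⁻¹ := mul_left_cancel₀ (zpow_ne_zero _ hc) this
        exact inv_injective h2
      subst haa
      rfl
  have hcard : Nat.card ({x : K // x ≠ 0} × {y : K // y ≠ 0 ∧ f y = y}) =
      Nat.card ↥(chevD4.diagonalSubgroup K ⊓ twistedD4 K q) := by
    rw [Nat.card_prod, h8card_ne_zero, hK, h8card_fix_ne_zero f q hfc, h8twD4_H_card hq hK]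
    obtain ⟨m, rfl⟩ : ∃ m, q = m + 1 := ⟨q - 1, by omega⟩
    have e3 : (m + 1) ^ 3 - 1 = m * ((m + 1) ^ 2 + (m + 1) + 1) := by
      apply Nat.sub_eq_of_eq_add
      ring
    rw [e3, Nat.add_sub_cancel]
    ring
  have hsurj : Function.Surjective φ :=
    ((Nat.bijective_iff_injective_and_card φ).2 ⟨hinj, hcard⟩).2
  obtain ⟨⟨⟨t, ht⟩, ⟨c, hc, hfc'⟩⟩, e⟩ := hsurj ⟨h, hh'⟩
  refine ⟨t, c, ht, hc, by rw [← hf, hfc'], ?_⟩
  have e' : h8hU chevD4 hB 18 t * h8hU chevD4 hB 13 (f t) * h8hU chevD4 hB 12 (f (f t)) *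
      h8hU chevD4 hB 14 c = h := congrArg Subtype.val e
  rw [← e']
  show _ = h8hU chevD4 hB 18 t * h8hU chevD4 hB 13 (t ^ q) * h8hU chevD4 hB 12 (t ^ (q ^ 2)) *
    h8hU chevD4 hB 14 c
  rw [hf2, hf]

end Cfsg.Agent.Lib.helper23.TD4V
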