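import Mathlib
import Cfsg.Prelude.Def_ChevStructure
import Cfsg.Prelude.Def_LieTwisted
import Cfsg.Agent.Lib.helper23.TD4V.Defs
import Cfsg.Agent.Lib.helper8.ChevTwD4O

/-!
# TD4V row E1 (`bruhat12`): the twelve double cosets `B¹ n_k B¹` cover `³D₄(q)`
(exported from the proof of `h8twD4_card`, `helper8/ChevTwD4O.lean`).
-/

set_option autoImplicit false

namespace Cfsg.Agent.Lib.helper23.TD4V

open Cfsg.Lie Cfsg.Lie.ChevalleyDatum Matrix
open Cfsg.Agent.Lib.helper8 Cfsg.Agent.Lib.helper8.TD4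
open Cfsg.Agent.Lib.helper23.P4V
open H3

universe u

variable {F K : Type u} [Field F] [Field K] [Fintype F] [Fintype K] (j : F →+* K) (q : ℕ)

/-- **E1** [M]. -/
theorem bruhat12 (hq : IsPrimePow q) (hK : Fintype.card K = q ^ 3) (g : GG K)
    (hg : g ∈ twistedD4 K q) :
    ∃ k < 12, ∃ b1 ∈ chevD4.borelSubgroup K ⊓ twistedD4 K q,
      ∃ b2 ∈ chevD4.borelSubgroup K ⊓ twistedD4 K q, g = b1 * h8nWU chevD4 hB (h8odW k) * b2 := by
  classical
  have hD : chevD4 ∈ [chevG2, chevB2, chevD4, chevF4, chevE6, chevE7, chevE8] := by simp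
  have hB := h8base_all.{u} chevD4 hD
  have hB0 := h8base_all.{0} chevD4 hD
  have hA := h8reflAll chevD4 hD
  have hC := h8commAll.{u} chevD4 hD
  have hBN := h8bn_all chevD4 hD
  have hW := h8bn2_all chevD4 hD
  obtain ⟨hO, hO2⟩ := h8ord_all chevD4 hD
  obtain ⟨f, hf, hfff3, hneg⟩ := h8frob_exists hq 3 (by norm_num) hK
  have hfff : ∀ t, f (f (f t)) = t := fun t => hfff3 t
  have hσp : ∀ r, chevD4.IsPosRoot r →
      chevD4.IsPosRoot (h8sD4 r) ∧ h8posiD4 (h8sD4 r) = h8posiD4 r :=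
    fun r hr => ⟨(h8uD4_sig1 r hr.1 hr).1, (h8uD4_sig1 r hr.1 hr).2.1⟩
  have hUfix := h8twD4_U_fix hB hC hA hBN hO2 q f hf hfff hneg
  have hfixG := h8twD4_fix hB hC hA q f hf hfff
  have hnJ := h8twD4_nJ (K := K) hB hC q hneg
  have hG1 : twistedD4 K q ≤ chevD4.group K := h8gen_le_group chevD4 hB _
  have hfc : Nat.card {c : K // f c = c} = q :=
    h8frob_fix_card hq.one_lt (by norm_num) hK f hf hfff3
  have hK3 : Nat.card K = q ^ 3 := by rw [Nat.card_eq_fintype_card, hK]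
  obtain ⟨P, hPB, hPN, hPS⟩ := h8tw_bnpair chevD4 hB hB0 hA hC hBN hW hO hO2 h8sD4 h8tD4 h8pD4
    h8qD4 h8eD4 (h8autD4 hA) f (h8mkRho chevD4 h8sD4 h8tD4 h8pD4 h8qD4 h8eD4 (h8autD4 hA))
    (fun r => rfl) h8piD4 h8orbsD4 (h8twD4 hA hBN) (fun r hr => (hσp r hr).1) (twistedD4 K q)
    hG1 hfixG hUfix hnJ h8twD4_disj (by
      intro J hJ
      have hk : ∃ k < 2, J = h8orbsD4.getD k [] := by
        simp only [h8orbsD4, List.mem_cons, List.not_mem_nil, or_false] at hJ
        rcases hJ with rfl | rfl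
        · exact ⟨0, by norm_num, rfl⟩
        · exact ⟨1, by norm_num, rfl⟩
      obtain ⟨k, hk2, rfl⟩ := hk
      obtain ⟨hne, hdata⟩ := h8twD4_xdata k hk2
      exact h8tw_xJ chevD4 hB hC hBN hO2 h8posiD4 h8uD4_blk h8uD4_read h8sD4 h8tD4 h8pD4 h8qD4
        h8eD4 (h8autD4 hA) f hσp (twistedD4 K q) hUfix _ (h8blkOfD4 k) hne hdata)
  -- the orbit products and the twelve elements
  have hwJ : ∀ j, ∀ i ∈ h8wD4 j, i < chevD4.rank := by
    intro j i hi
    unfold h8wD4 at hi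
    exact h8J_lt chevD4 _ i hi
  have hsJ1 : ∀ j, (h8nWU chevD4 hB (h8wD4 j) : GL chevD4.Idx K) ∈ twistedD4 K q := by
    intro j
    by_cases hj : j < 2
    · exact hnJ _ (h8uD4_wlt j hj).1
    · have : h8wD4 j = [] := by
        unfold h8wD4
        rw [List.getD_eq_default _ _ (by simp only [h8orbsD4, List.length_cons, List.length_nil]; omega)]
        rfl
      rw [this]
      unfold h8nWU
      simp
  have hnk1 : ∀ k, (h8nWU chevD4 hB (h8odW k) : GL chevD4.Idx K) ∈ twistedD4 K q := by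
    intro k
    induction k using Nat.strong_induction_on with
    | _ k ih =>
      by_cases hk : k < 12
      · by_cases hk1 : 1 ≤ k
        · obtain ⟨h1, _, h3, _, _⟩ := h8od_F1 k hk hk1
          rw [h3, h8nWU_append]
          exact Subgroup.mul_mem _ (hsJ1 _) (ih _ h1)
        · have : k = 0 := by omega
          subst this
          have : h8odW 0 = [] := rfl
          rw [this]
          unfold h8nWU
          simp
      · have : h8odW k = [] := by
          unfold h8odW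
          exact List.getD_eq_default _ _ (by simpa using hk)
        rw [this]
        unfold h8nWU
        simp
  let sJ : ℕ → ↥(twistedD4 K q) := fun j => ⟨h8nWU chevD4 hB (h8wD4 j), hsJ1 j⟩
  let nn : ℕ → ↥(twistedD4 K q) := fun k => ⟨h8nWU chevD4 hB (h8odW k), hnk1 k⟩
  have hS : ∀ j < 2, sJ j ∈ P.S := by
    intro j hj
    rw [hPS]
    exact ⟨_, (h8uD4_wlt j hj).1, rfl⟩
  have hSall : ∀ s ∈ P.S, ∃ j < 2, s = sJ j := by
    intro s hs
    rw [hPS] at hs
    obtain ⟨J, hJ, e⟩ := hs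
    simp only [h8orbsD4, List.mem_cons, List.not_mem_nil, or_false] at hJ
    rcases hJ with rfl | rfl
    · exact ⟨0, by norm_num, Subtype.ext e⟩
    · exact ⟨1, by norm_num, Subtype.ext e⟩
  have hN : ∀ k, nn k ∈ P.N := by
    intro k
    rw [hPN, Subgroup.mem_subgroupOf]
    exact ⟨h8nWU_mem_N chevD4 hB hA _ (h8od_F2 k), hnk1 k⟩
  have hmemB : ∀ c : ↥(twistedD4 K q), c ∈ P.B ↔ c.val ∈ chevD4.borelSubgroup K := by
    intro c
    rw [hPB, Subgroup.mem_subgroupOf]
    exact ⟨fun h => h.1, fun h => ⟨h, c.2⟩⟩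
  -- the multiplication table
  have hmt : ∀ j < 2, ∀ k < 12, dc P (sJ j * nn k) = dc P (nn (h8odMt j k)) := by
    intro j hj k hk
    obtain ⟨_, h2⟩ := h8od_F3 j hj k hk
    rw [dc_eq_iff (P.N.mul_mem (S_mem_N (hS j hj)) (hN k)) (hN _), hmemB]
    apply h8H_le_B
    have happ : ∀ i ∈ h8wD4 j ++ h8odW k, i < chevD4.rank := by
      intro i hi
      rw [List.mem_append] at hi
      rcases hi with hi | hi
      · exact hwJ j i hi
      · exact h8od_F2 k i hi
    have := h8nWU_same_H (K := K) chevD4 hB hA hBN hW hO2 _ _ happ (h8od_F2 (h8odMt j k)) h2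
    rw [h8nWU_append] at this
    exact this
  -- covering
  have hcover : ∀ g : ↥(twistedD4 K q), ∃ k < 12, g ∈ dc P (nn k) := by
    have hstab : ∀ t ∈ (P.B : Set ↥(twistedD4 K q)) ∪ P.S,
        ∀ x ∈ {x : ↥(twistedD4 K q) | ∃ k < 12, x ∈ dc P (nn k)},
        t * x ∈ {x : ↥(twistedD4 K q) | ∃ k < 12, x ∈ dc P (nn k)} ∧
        t⁻¹ * x ∈ {x : ↥(twistedD4 K q) | ∃ k < 12, x ∈ dc P (nn k)} := by
      rintro t (ht | ht) x ⟨k, hk, hx⟩
      · exact ⟨⟨k, hk, dc_mul_left ht hx⟩, ⟨k, hk, dc_mul_left (P.B.inv_mem ht) hx⟩⟩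
      · obtain ⟨j, hj, rfl⟩ := hSall t ht
        obtain ⟨b1, hb1, b2, hb2, rfl⟩ := mem_dc.1 hx
        have hk' := (h8od_F3 j hj k hk).1
        constructor
        · have e : sJ j * (b1 * nn k * b2) = (sJ j * b1 * nn k) * b2 := by group
          rw [e]
          rcases t3 (hS j hj) (hN k) hb1 with h | h
          · rw [hmt j hj k hk] at h
            exact ⟨_, hk', dc_mul_right hb2 h⟩
          · exact ⟨k, hk, dc_mul_right hb2 h⟩
        · have e : (sJ j)⁻¹ * (b1 * nn k * b2) = ((sJ j)⁻¹ * b1 * nn k) * b2 := by group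
          rw [e]
          rcases t3_inv (hS j hj) (hN k) hb1 with h | h
          · rw [dc_sinv_mul (hS j hj) (hN k), hmt j hj k hk] at h
            exact ⟨_, hk', dc_mul_right hb2 h⟩
          · exact ⟨k, hk, dc_mul_right hb2 h⟩
    intro g
    have hg : g ∈ Subgroup.closure ((P.B : Set ↥(twistedD4 K q)) ∪ P.S) := by
      rw [top_eq_closure]
      exact Subgroup.mem_top g
    have h1 : (1 : ↥(twistedD4 K q)) ∈ {x : ↥(twistedD4 K q) | ∃ k < 12, x ∈ dc P (nn k)} := by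
      refine ⟨0, by norm_num, ?_⟩
      have e1 : nn 0 = 1 := by
        apply Subtype.ext
        show h8nWU chevD4 hB (h8odW 0) = 1
        have : h8odW 0 = [] := rfl
        rw [this]
        unfold h8nWU
        simp
      rw [e1]
      exact dc_self 1
    have := (closure_mul_mem hstab hg 1 h1).1
    rw [mul_one] at this
    exact this
  obtain ⟨k, hk, hgk⟩ := hcover ⟨g, hg⟩
  obtain ⟨b1, hb1, b2, hb2, e⟩ := mem_dc.1 hgk
  refine ⟨k, hk, b1.val, ⟨(hmemB b1).1 hb1, b1.2⟩, b2.val, ⟨(hmemB b2).1 hb2, b2.2⟩, ?_⟩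
  exact congrArg Subtype.val e

end Cfsg.Agent.Lib.helper23.TD4V
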