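import Cfsg.Agent.Lib.Helper21.TS.Basic

/-!
# TS TRANSA: `Sp(A)` (the isometry group of an alternating non-degenerate Gram matrix) is transitive on
the non-zero vectors
-/

set_option autoImplicit false
set_option linter.unusedSectionVars false
set_option linter.unusedVariables false

namespace Cfsg.Agent.Lib.Helper21.TS

open Matrix
open scoped Kronecker
open Cfsg.Agent.Lib.helper7.TP

variable {ι : Type*} [Fintype ι] [DecidableEq ι] {a b : ℕ} {F : Type*} [Field F]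
  {J1 : Matrix (Fin a) (Fin a) F} {J2 : Matrix (Fin b) (Fin b) F}
  {M : Subgroup (Matrix.GeneralLinearGroup (Fin a × Fin b) F)}

/-- one transvection moves `u` to `u'` when `f(u, u') ≠ 0`. -/
theorem tstransa_step {J : Matrix ι ι F} (hJ : Jᵀ = -J) (two : (2 : F) ≠ 0)
    {u u' : ι → F} (h : bf J u u' ≠ 0) :
    ∃ α ∈ Iso J, (α : Matrix ι ι F) *ᵥ u = u' := by
  have hz : bf J (u' - u) (u' - u) = 0 := bf_self_alt hJ two _
  have h' : bf J u' u ≠ 0 := by
    rw [bf_alt hJ]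
    exact neg_ne_zero.mpr h
  refine ⟨tvG J (u' - u) hz (1 / bf J u' u), tvG_mem_Iso hJ _ hz _, ?_⟩
  rw [tvG_coe, tvm_mulVec, bf_sub_left, bf_self_alt hJ two u, sub_zero, one_div,
    inv_mul_cancel₀ h', one_smul]
  abel

/-- TRANSA. `Sp(A)` is transitive on non-zero vectors. -/
theorem sp_trans {J : Matrix ι ι F} (hJ : Jᵀ = -J) (two : (2 : F) ≠ 0) (hdet : J.det ≠ 0)
    {u u' : ι → F} (hu : u ≠ 0) (hu' : u' ≠ 0) :
    ∃ α ∈ Iso J, (α : Matrix ι ι F) *ᵥ u = u' := by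
  by_cases h : bf J u u' = 0
  · -- an intermediate vector
    have hex : ∃ v : ι → F, bf J u v ≠ 0 ∧ bf J v u' ≠ 0 := by
      obtain ⟨x₁, hx₁⟩ := bf_nondeg hdet hu
      obtain ⟨x₂, hx₂⟩ := bf_nondeg' hdet hu'
      by_cases h1 : bf J x₁ u' = 0
      · by_cases h2 : bf J u x₂ = 0
        · refine ⟨x₁ + x₂, ?_, ?_⟩
          · rw [bf_add_right, h2, add_zero]; exact hx₁
          · rw [bf_add_left, h1, zero_add]; exact hx₂
        · exact ⟨x₂, h2, hx₂⟩
      · exact ⟨x₁, hx₁, h1⟩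
    obtain ⟨v, hv1, hv2⟩ := hex
    obtain ⟨α, hα, hαu⟩ := tstransa_step hJ two hv1
    obtain ⟨α', hα', hα'v⟩ := tstransa_step hJ two hv2
    refine ⟨α' * α, Subgroup.mul_mem _ hα' hα, ?_⟩
    rw [Units.val_mul, ← Matrix.mulVec_mulVec, hαu, hα'v]
  · exact tstransa_step hJ two h

end Cfsg.Agent.Lib.Helper21.TS
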