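import Mathlib
import Cfsg.Prelude.Def_ChevStructure
import Cfsg.Agent.Lib.helper8.ChevBr4
import Cfsg.Agent.Lib.helper8.ChevSyl

set_option autoImplicit false

namespace Cfsg.Agent.Lib.helper8

open Cfsg.Lie Cfsg.Lie.ChevalleyDatum

universe u

variable {F : Type u} [Field F]

/-- Abstract step: `v n` an involution with `n v n⁻¹ = v⁻¹`, `n² = 1`, `v` of odd order
is conjugate to `n` by a power of `v`. -/
theorem h8inv_odd_conj {G : Type*} [Group G] (v n : G)
    (hinv : n * v * n⁻¹ = v⁻¹) (k : ℕ) (hk : v ^ (2 * k) = v) :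
    (v ^ k)⁻¹ * (v * n) * (v ^ k) = n := by
  have h1 : n * v ^ k * n⁻¹ = (v ^ k)⁻¹ := by
    have : n * v ^ k * n⁻¹ = (n * v * n⁻¹) ^ k := by
      rw [← MulAut.conj_apply, ← MulAut.conj_apply, map_pow]
    rw [this, hinv, inv_pow]
  have h2 : v ^ k * v ^ k = v := by
    rw [← pow_add, ← two_mul, hk]
  have h3 : n * v ^ k = (v ^ k)⁻¹ * n := by
    have : n * v ^ k = (n * v ^ k * n⁻¹) * n := by group
    rw [this, h1]
  calc (v ^ k)⁻¹ * (v * n) * (v ^ k) = (v ^ k)⁻¹ * v * (n * v ^ k) := by group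
    _ = (v ^ k)⁻¹ * v * ((v ^ k)⁻¹ * n) := by rw [h3]
    _ = (v ^ k)⁻¹ * (v ^ k * v ^ k) * ((v ^ k)⁻¹ * n) := by rw [h2]
    _ = n := by group

theorem h8U_orderOf_odd [Fintype F] (D : ChevalleyDatum)
    (hD : D ∈ [chevG2, chevB2, chevD4, chevF4, chevE6, chevE7, chevE8])
    (h2 : (2 : F) ≠ 0) (v : GL D.Idx F) (hv : v ∈ D.posUnipotent F) : Odd (orderOf v) := by
  classical
  obtain ⟨p, hp⟩ := CharP.exists F
  have := hp
  have : Fact p.Prime := ⟨CharP.char_is_prime F p⟩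
  have hcard := h8sylow_card p D hD (F := F)
  have hdvd : orderOf v ∣ Nat.card (D.posUnipotent F) := by
    have := orderOf_dvd_natCard (⟨v, hv⟩ : D.posUnipotent F)
    rwa [Subgroup.orderOf_mk] at this
  rw [hcard] at hdvd
  obtain ⟨j, _, hj⟩ := (Nat.dvd_prime_pow (Fact.out : p.Prime)).1 hdvd
  rw [hj]
  have hp2 : p ≠ 2 := by
    rintro rfl
    apply h2
    have := CharP.cast_eq_zero F 2
    exact_mod_cast this
  have hodd : Odd p := (Fact.out : p.Prime).odd_of_ne_two hp2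
  exact hodd.pow

/-- Reduction lemma: in odd characteristic every involution of the Chevalley group is conjugate,
by an element of `U`, to an involution of `N`. -/
theorem h8inv_reduce [Fintype F] (D : ChevalleyDatum)
    (hD : D ∈ [chevG2, chevB2, chevD4, chevF4, chevE6, chevE7, chevE8])
    (h2 : (2 : F) ≠ 0) (g : GL D.Idx F) (hg : g ∈ D.group F) (hgg : g * g = 1) :
    ∃ u ∈ D.posUnipotent F, ∃ n ∈ D.monomialSubgroup F, n * n = 1 ∧ u * g * u⁻¹ = n := by
  classical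
  have hB := h8base_all.{u} D hD
  have hA := h8reflAll D hD
  have hC := h8commAll.{u} D hD
  have hBN := h8bn_all D hD
  have hW := h8bn2_all D hD
  obtain ⟨hO, _⟩ := h8ord_all D hD
  obtain ⟨dep, par, horb⟩ := hBN.orb
  obtain ⟨b, hb, n0, hn0, u, hu, rfl⟩ := h8normal_exists D hB hA hC hBN hW hO g hg
  have hmemB : b ∈ ((D.posUnipotent F ⊔ D.diagonalSubgroup F : Subgroup (GL D.Idx F)) :
      Set (GL D.Idx F)) := hb
  rw [Subgroup.coe_mul_of_right_le_normalizer_left _ _ (h8_H_le_normalizer_U D hB)] at hmemB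
  obtain ⟨u0, hu0, h, hh, rfl⟩ := hmemB
  have hHN : D.diagonalSubgroup F ≤ D.monomialSubgroup F := by
    unfold ChevalleyDatum.monomialSubgroup
    exact le_sup_left
  -- n := h * n0
  have hn : h * n0 ∈ D.monomialSubgroup F := Subgroup.mul_mem _ (hHN hh) hn0
  have huU : u ∈ D.posUnipotent F := h8Um_le_U D n0 hu
  -- g' = u g u⁻¹ = v * n
  have hv : u * u0 ∈ D.posUnipotent F := Subgroup.mul_mem _ huU hu0
  have hg' : u * (u0 * h * n0 * u) * u⁻¹ = (u * u0) * (h * n0) := by group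
  have hinvol : ((u * u0) * (h * n0)) * ((u * u0) * (h * n0)) = 1 := by
    rw [← hg']
    have : u * (u0 * h * n0 * u) * u⁻¹ * (u * (u0 * h * n0 * u) * u⁻¹) =
        u * ((u0 * h * n0 * u) * (u0 * h * n0 * u)) * u⁻¹ := by group
    rw [this, hgg]
    group
  set v := u * u0 with hvdef
  set n := h * n0 with hndef
  have hninv : n⁻¹ ∈ D.monomialSubgroup F := Subgroup.inv_mem _ hn
  obtain ⟨σ, τ, a1, a2, a3, a4, a5, a6, a7⟩ := h8perm_N D hB hA dep par horb n⁻¹ hninv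
  have hvinv : v⁻¹ ∈ D.posUnipotent F := Subgroup.inv_mem _ hv
  obtain ⟨t, ht⟩ := h8split_main D hB hC hO (fun r => decide (D.IsPosRoot (σ r))) _ hvinv
  have hP := h8ordP_mem D hB (fun r => decide (D.IsPosRoot (σ r))) 0 t
  have hQ := h8ordQ_mem D hB (fun r => decide (D.IsPosRoot (σ r))) 0 t
  have hPU : ∀ x : GL D.Idx F, x ∈ Subgroup.closure
      {g : GL D.Idx F | ∃ (r : ℕ) (c : F), D.IsPosRoot r ∧
        (fun r => decide (D.IsPosRoot (σ r))) r = true ∧ g = h8xU D hB r c} →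
      n⁻¹ * x * n⁻¹⁻¹ ∈ D.posUnipotent F := by
    intro x hx
    induction hx using Subgroup.closure_induction with
    | mem y hy =>
      obtain ⟨r, c, hr, hPr, rfl⟩ := hy
      obtain ⟨c', _, hact⟩ := a7 r hr.1
      rw [hact]
      exact h8xU_mem_U D hB _ (by simpa using hPr) _
    | one =>
      have : n⁻¹ * 1 * n⁻¹⁻¹ = 1 := by group
      rw [this]
      exact Subgroup.one_mem _
    | mul a b _ _ ha hb =>
      have : n⁻¹ * (a * b) * n⁻¹⁻¹ = (n⁻¹ * a * n⁻¹⁻¹) * (n⁻¹ * b * n⁻¹⁻¹) := by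
        group
      rw [this]
      exact Subgroup.mul_mem _ ha hb
    | inv a _ ha =>
      have : n⁻¹ * a⁻¹ * n⁻¹⁻¹ = (n⁻¹ * a * n⁻¹⁻¹)⁻¹ := by group
      rw [this]
      exact Subgroup.inv_mem _ ha
  have hQU : Subgroup.closure
      {g : GL D.Idx F | ∃ (r : ℕ) (c : F), D.IsPosRoot r ∧
        (fun r => decide (D.IsPosRoot (σ r))) r = false ∧ g = h8xU D hB r c} ≤
      Subgroup.closure (h8UmSet D F n⁻¹) := by
    apply Subgroup.closure_mono
    rintro y ⟨r, c, hr, hPr, rfl⟩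
    refine ⟨r, c, hr, ?_, h8xU_val D hB r c⟩
    have hneg : D.IsNegRoot (σ r) := by
      rcases hB.posneg (σ r) (a1 r hr.1) with hp | hn
      · simp [hp] at hPr
      · exact hn
    intro z hz
    rw [Subgroup.mem_map] at hz
    obtain ⟨y, hy, rfl⟩ := hz
    obtain ⟨s, rfl⟩ := h8rootSubgroup_mem D hB r hr.1 y hy
    obtain ⟨c', _, hact⟩ := a7 r hr.1
    show n⁻¹ * h8xU D hB r s * n⁻¹⁻¹ ∈ D.negUnipotent F
    rw [hact]
    exact h8xU_mem_V D hB _ hneg _
  set yP := h8wordU D hB (h8ordP D (fun r => decide (D.IsPosRoot (σ r))) 0 t) with hyP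
  set yQ := h8wordU D hB (h8ordQ D (fun r => decide (D.IsPosRoot (σ r))) 0 t) with hyQ
  -- the two normal forms of the involution v * n
  have e : v * n * 1 = (n⁻¹ * yP * n⁻¹⁻¹) * n⁻¹ * yQ := by
    have h1 : (v * n)⁻¹ = v * n := by
      rw [inv_eq_iff_mul_eq_one]
      exact hinvol
    have h3 : (v * n)⁻¹ = n⁻¹ * v⁻¹ := by group
    rw [mul_one, ← h1, h3, ht]
    group
  have hone : (1 : GL D.Idx F) ∈ Subgroup.closure (h8UmSet D F n) := Subgroup.one_mem _
  obtain ⟨e1, e2, e3⟩ := h8normal_unique_strong D hB hA hC hBN v (n⁻¹ * yP * n⁻¹⁻¹) n n⁻¹ 1 yQ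
    hv (hPU _ hP) hn hninv hone (hQU hQ) e
  have hnn : n * n = 1 := by
    have : n * n = n * n⁻¹ := by rw [← e1]
    rw [this, mul_inv_cancel]
  have hvyP : v⁻¹ = yP := by
    rw [ht, ← e3, mul_one]
  have hconj : n * v * n⁻¹ = v⁻¹ := by
    have h5 : v = n⁻¹ * v⁻¹ * n := by
      have := e2
      rw [← hvyP, inv_inv] at this
      exact this
    have h6 : n⁻¹ = n := e1.symm
    have h7 : n * v * n⁻¹ = n * (n⁻¹ * v⁻¹ * n) * n⁻¹ := by rw [← h5]
    rw [h7]
    group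
  -- odd order
  have hodd := h8U_orderOf_odd D hD h2 v hv
  obtain ⟨k, hk⟩ := hodd
  have hpow : v ^ (2 * (k + 1)) = v := by
    have : 2 * (k + 1) = orderOf v + 1 := by omega
    rw [this, pow_succ, pow_orderOf_eq_one, one_mul]
  have hfin := h8inv_odd_conj v n hconj (k + 1) hpow
  refine ⟨(v ^ (k + 1))⁻¹ * u, ?_, n, hn, hnn, ?_⟩
  · exact Subgroup.mul_mem _ (Subgroup.inv_mem _ (Subgroup.pow_mem _ hv _)) huU
  · have : (v ^ (k + 1))⁻¹ * u * (u0 * h * n0 * u) * ((v ^ (k + 1))⁻¹ * u)⁻¹ =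
        (v ^ (k + 1))⁻¹ * (u * (u0 * h * n0 * u) * u⁻¹) * (v ^ (k + 1)) := by group
    rw [this, hg']
    exact hfin

end Cfsg.Agent.Lib.helper8
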