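import Mathlib

set_option autoImplicit false

namespace Cfsg.Agent.Lib.helper8

open Matrix

section celljump

variable {F : Type*} [Field F] {Γ : Type*} [Group Γ]

/-- upper unitriangular element of SL2 -/
def h8ivU (t : F) : Matrix.SpecialLinearGroup (Fin 2) F :=
  ⟨!![1, t; 0, 1], by simp [Matrix.det_fin_two]⟩

/-- lower unitriangular element of SL2 -/
def h8ivL (t : F) : Matrix.SpecialLinearGroup (Fin 2) F :=
  ⟨!![1, 0; t, 1], by simp [Matrix.det_fin_two]⟩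

/-- the monomial element `[[0,a],[-a⁻¹,0]]` of SL2 -/
def h8ivN (a : F) (ha : a ≠ 0) : Matrix.SpecialLinearGroup (Fin 2) F :=
  ⟨!![0, a; -a⁻¹, 0], by simp [Matrix.det_fin_two, ha]⟩

theorem h8ivU_val (t : F) : (h8ivU t : Matrix (Fin 2) (Fin 2) F) = !![1, t; 0, 1] := rfl

theorem h8ivL_val (t : F) : (h8ivL t : Matrix (Fin 2) (Fin 2) F) = !![1, 0; t, 1] := rfl

theorem h8ivN_val (a : F) (ha : a ≠ 0) :
    (h8ivN a ha : Matrix (Fin 2) (Fin 2) F) = !![0, a; -a⁻¹, 0] := rfl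

theorem h8ivN_eq (a : F) (ha : a ≠ 0) : h8ivN a ha = h8ivU a * h8ivL (-a⁻¹) * h8ivU a := by
  apply Subtype.ext
  rw [Matrix.SpecialLinearGroup.coe_mul, Matrix.SpecialLinearGroup.coe_mul, h8ivU_val, h8ivL_val,
    h8ivN_val]
  ext i j
  fin_cases i <;> fin_cases j <;> simp [Matrix.mul_apply, Fin.sum_univ_two, ha]

theorem h8ivN_inv (a : F) (ha : a ≠ 0) : (h8ivN a ha)⁻¹ = h8ivL a⁻¹ * h8ivU (-a) * h8ivL a⁻¹ := by
  rw [inv_eq_iff_mul_eq_one]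
  apply Subtype.ext
  rw [Matrix.SpecialLinearGroup.coe_mul, Matrix.SpecialLinearGroup.coe_mul,
    Matrix.SpecialLinearGroup.coe_mul, h8ivU_val, h8ivL_val, h8ivN_val,
    Matrix.SpecialLinearGroup.coe_one]
  ext i j
  fin_cases i <;> fin_cases j <;> simp [Matrix.mul_apply, Fin.sum_univ_two, ha]

theorem h8ivJump (a : F) (ha : a ≠ 0) (h2 : (2 : F) ≠ 0) :
    h8ivL (a⁻¹ ^ 2 * (-a / 2)) * h8ivU (a ^ 2 * a⁻¹) * (h8ivL (a⁻¹))⁻¹ * (h8ivU (-a / 2))⁻¹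
      = h8ivN a ha := by
  rw [mul_inv_eq_iff_eq_mul, mul_inv_eq_iff_eq_mul]
  apply Subtype.ext
  rw [Matrix.SpecialLinearGroup.coe_mul, Matrix.SpecialLinearGroup.coe_mul,
    Matrix.SpecialLinearGroup.coe_mul, h8ivU_val, h8ivL_val, h8ivL_val, h8ivU_val, h8ivN_val]
  ext i j
  fin_cases i <;> fin_cases j <;> simp [Matrix.mul_apply, Fin.sum_univ_two, ha] <;> field_simp <;> ring

theorem h8cell_jump (φ : Matrix.SpecialLinearGroup (Fin 2) F →* Γ) (m : Γ) (a : F) (ha : a ≠ 0)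
    (h2 : (2 : F) ≠ 0) (hm : m * m = 1)
    (hconj : ∀ s : F, m * φ (h8ivL s) * m⁻¹ = φ (h8ivU (a ^ 2 * s))) :
    (m * φ (h8ivN a ha)) * (m * φ (h8ivN a ha)) = 1 ∧
      ∃ y ∈ φ.range, y * m * y⁻¹ = m * φ (h8ivN a ha) := by
  have hminv : m⁻¹ = m := by rw [inv_eq_iff_mul_eq_one]; exact hm
  have hconjU : ∀ t : F, m * φ (h8ivU t) * m⁻¹ = φ (h8ivL (a⁻¹ ^ 2 * t)) := by
    intro t
    have h := hconj (a⁻¹ ^ 2 * t)
    have e : a ^ 2 * (a⁻¹ ^ 2 * t) = t := by field_simp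
    rw [e] at h
    rw [← h, hminv]
    have : m * (m * φ (h8ivL (a⁻¹ ^ 2 * t)) * m) * m = (m * m) * φ (h8ivL (a⁻¹ ^ 2 * t)) * (m * m) := by
      group
    rw [this, hm, one_mul, mul_one]
  have hN : m * φ (h8ivN a ha) * m⁻¹ = (φ (h8ivN a ha))⁻¹ := by
    rw [← map_inv, h8ivN_inv, h8ivN_eq, map_mul, map_mul, map_mul, map_mul]
    have : m * (φ (h8ivU a) * φ (h8ivL (-a⁻¹)) * φ (h8ivU a)) * m⁻¹ =
        (m * φ (h8ivU a) * m⁻¹) * (m * φ (h8ivL (-a⁻¹)) * m⁻¹) * (m * φ (h8ivU a) * m⁻¹) := by group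
    rw [this, hconjU, hconj]
    have e1 : a⁻¹ ^ 2 * a = a⁻¹ := by field_simp
    have e2 : a ^ 2 * -a⁻¹ = -a := by field_simp
    rw [e1, e2]
  constructor
  · have : m * φ (h8ivN a ha) * (m * φ (h8ivN a ha)) = (m * φ (h8ivN a ha) * m⁻¹) * (m * m) * φ (h8ivN a ha) := by
      group
    rw [this, hN, hm, mul_one, inv_mul_cancel]
  · refine ⟨φ (h8ivU (-a / 2) * h8ivL a⁻¹), ⟨_, rfl⟩, ?_⟩
    have key : m⁻¹ * φ (h8ivU (-a / 2) * h8ivL a⁻¹) * m = φ (h8ivL (a⁻¹ ^ 2 * (-a / 2)) * h8ivU (a ^ 2 * a⁻¹)) := by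
      rw [map_mul, map_mul, ← hconjU, ← hconj, hminv]
      have : m * φ (h8ivU (-a / 2)) * m * (m * φ (h8ivL a⁻¹) * m) = m * φ (h8ivU (-a / 2)) * (m * m) * φ (h8ivL a⁻¹) * m := by group
      rw [this, hm, mul_one]
      group
    have : φ (h8ivU (-a / 2) * h8ivL a⁻¹) * m * (φ (h8ivU (-a / 2) * h8ivL a⁻¹))⁻¹ =
        m * ((m⁻¹ * φ (h8ivU (-a / 2) * h8ivL a⁻¹) * m) * (φ (h8ivU (-a / 2) * h8ivL a⁻¹))⁻¹) := by group
    rw [this, key, ← map_inv, ← map_mul, _root_.mul_inv_rev, ← mul_assoc, h8ivJump a ha h2]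

end celljump

end Cfsg.Agent.Lib.helper8
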