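import Mathlib
import Cfsg.Prelude.Def_ChevStructure
import Cfsg.Agent.Lib.helper8.ChevInv1
import Cfsg.Agent.Lib.helper8.ChevInv2
import Cfsg.Agent.Lib.helper8.ChevSLP3
import Cfsg.Agent.Lib.helper8.ChevPerf

set_option autoImplicit false

namespace Cfsg.Agent.Lib.helper8

open Cfsg.Lie Cfsg.Lie.ChevalleyDatum

universe u

variable {F : Type u} [Field F]

/-- the image of the monomial element of `SL₂` is `n_c(a)` -/
theorem h8inv_phiN (D : ChevalleyDatum) (hB : H8Base.{u} D) (c : ℕ)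
    (φ : Matrix.SpecialLinearGroup (Fin 2) F →* GL D.Idx F)
    (hup : ∀ (g : Matrix.SpecialLinearGroup (Fin 2) F) (t : F),
      (g : Matrix (Fin 2) (Fin 2) F) = !![1, t; 0, 1] → φ g = h8xU D hB c t)
    (hlo : ∀ (g : Matrix.SpecialLinearGroup (Fin 2) F) (t : F),
      (g : Matrix (Fin 2) (Fin 2) F) = !![1, 0; t, 1] → φ g = h8xU D hB (D.negIdx.getD c 0) t)
    (a : F) (ha : a ≠ 0) : φ (h8ivN a ha) = h8nU D hB c a := by
  rw [h8ivN_eq, map_mul, map_mul, hup _ a (h8ivU_val a), hlo _ (-a⁻¹) (h8ivL_val _)]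
  apply Units.ext
  rw [Units.val_mul, Units.val_mul, h8xU_val, h8xU_val, h8nU_val, h8nMat_eq_prod, mul_assoc]

/-- Cell jump: an involution `n` of `N` which maps `x_{-c}(s)` to `x_c(a² s)` is conjugate to the
involution `n * n_c(a)`. -/
theorem h8inv_jump (D : ChevalleyDatum)
    (hD : D ∈ [chevG2, chevB2, chevD4, chevF4, chevE6, chevE7, chevE8])
    (h2 : (2 : F) ≠ 0) (n : GL D.Idx F) (hnn : n * n = 1) (c : ℕ) (hc : c < D.nroots)
    (a : F) (ha : a ≠ 0)
    (hconj : ∀ s : F, n * h8xU D (h8base_all.{u} D hD) (D.negIdx.getD c 0) s * n⁻¹ =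
      h8xU D (h8base_all.{u} D hD) c (a ^ 2 * s)) :
    (n * h8nU D (h8base_all.{u} D hD) c a) * (n * h8nU D (h8base_all.{u} D hD) c a) = 1 ∧
      ∃ y ∈ D.group F, y * n * y⁻¹ = n * h8nU D (h8base_all.{u} D hD) c a := by
  have hB := h8base_all.{u} D hD
  have hA := h8reflAll D hD
  have hsc := h8scChk_all D hD
  have hc2 := h8cartan_simple D hD
  obtain ⟨dep, par, horb⟩ := h8orb_chk_all D hD
  obtain ⟨φ, hK, hup, hlo⟩ := h8slHom_all (F := F) D (h8base_all.{u} D hD) hA hsc hc2 dep par horb c hc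
  have hN := h8inv_phiN D (h8base_all.{u} D hD) c φ hup hlo a ha
  have hconj' : ∀ s : F, n * φ (h8ivL s) * n⁻¹ = φ (h8ivU (a ^ 2 * s)) := by
    intro s
    rw [hlo _ s (h8ivL_val s), hup _ _ (h8ivU_val _)]
    exact hconj s
  obtain ⟨h1, y, hy, h3⟩ := h8cell_jump φ n a ha h2 hnn hconj'
  rw [hN] at h1 h3
  refine ⟨h1, y, ?_, h3⟩
  obtain ⟨g, rfl⟩ := hy
  apply hK
  · intro t
    exact h8xU_mem_group D _ c t
  · intro t
    exact h8xU_mem_group D _ _ t

end Cfsg.Agent.Lib.helper8
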