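import Mathlib
import Cfsg.Prelude.Def_ChevStructure
import Cfsg.Prelude.Def_ChevG2
import Cfsg.Agent.Lib.helper8.ChevWeyl1
import Cfsg.Agent.Lib.helper8.ChevReflAll

set_option autoImplicit false

namespace Cfsg.Agent.Lib.helper8

open Cfsg.Lie Cfsg.Lie.ChevalleyDatum

universe u

/-- the twelve reduced words of the Weyl group of type `G₂` -/
def h8g2Words : List (List ℕ) :=
  [[], [0], [1], [0, 1], [1, 0], [0, 1, 0], [1, 0, 1], [0, 1, 0, 1], [1, 0, 1, 0],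
    [0, 1, 0, 1, 0], [1, 0, 1, 0, 1], [0, 1, 0, 1, 0, 1]]

/-- the words of the involutions (and the identity) -/
def h8g2InvWords : List (List ℕ) :=
  [[], [0], [1], [0, 1, 0], [1, 0, 1], [0, 1, 0, 1, 0], [1, 0, 1, 0, 1], [0, 1, 0, 1, 0, 1]]

theorem h8g2Words_lt : ∀ w ∈ h8g2Words, ∀ i ∈ w, i < chevG2.rank := by decide

theorem h8g2Words_step : ∀ w ∈ h8g2Words, ∀ i < 2, ∃ w2 ∈ h8g2Words,
    ∀ r < 12, h8sW chevG2 (i :: w) r = h8sW chevG2 w2 r := by decide +kernel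

theorem h8g2Words_inv : ∀ w ∈ h8g2Words,
    (∀ r < 12, h8sW chevG2 w (h8sW chevG2 w r) = r) → w ∈ h8g2InvWords := by decide +kernel

theorem h8g2_word_reduce (w' : List ℕ) (hw' : ∀ i ∈ w', i < chevG2.rank) :
    ∃ w ∈ h8g2Words, ∀ r < 12, h8sW chevG2 w' r = h8sW chevG2 w r := by
  induction w' with
  | nil => exact ⟨[], by decide, fun r _ => rfl⟩
  | cons i w' ih =>
    have hw'' : ∀ j ∈ w', j < chevG2.rank := fun j hj => hw' j (List.mem_cons_of_mem _ hj)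
    obtain ⟨w, hw, h⟩ := ih hw''
    have hi : i < 2 := hw' i List.mem_cons_self
    obtain ⟨w2, hw2, h2⟩ := h8g2Words_step w hw i hi
    refine ⟨w2, hw2, fun r hr => ?_⟩
    rw [← h2 r hr]
    show chevG2.reflectRoot i (h8sW chevG2 w' r) = chevG2.reflectRoot i (h8sW chevG2 w r)
    rw [h r hr]

theorem h8g2_wPerm_ext (hA : H8ReflAll chevG2) (w w' : List ℕ)
    (hw : ∀ i ∈ w, i < chevG2.rank) (hw' : ∀ i ∈ w', i < chevG2.rank)
    (h : ∀ r < 12, h8sW chevG2 w r = h8sW chevG2 w' r) :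
    h8wPerm chevG2 hA w = h8wPerm chevG2 hA w' := by
  apply Equiv.ext
  intro r
  apply Fin.ext
  rw [h8wPerm_val chevG2 hA w hw, h8wPerm_val chevG2 hA w' hw']
  exact h r.val r.2

/-- every element of the Weyl group of `G₂` is given by one of the twelve words -/
theorem h8g2_W_cases (hA : H8ReflAll chevG2) (π : Equiv.Perm (Fin chevG2.nroots))
    (hπ : π ∈ h8W chevG2 hA) : ∃ w ∈ h8g2Words, π = h8wPerm chevG2 hA w := by
  rw [h8W_mem_iff] at hπ
  obtain ⟨w', hw', rfl⟩ := hπ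
  obtain ⟨w, hw, h⟩ := h8g2_word_reduce w' hw'
  exact ⟨w, hw, h8g2_wPerm_ext hA w' w hw' (h8g2Words_lt w hw) h⟩

/-- the involutions of the Weyl group of `G₂` -/
theorem h8g2_W_inv_cases (hA : H8ReflAll chevG2) (π : Equiv.Perm (Fin chevG2.nroots))
    (hπ : π ∈ h8W chevG2 hA) (hsq : π * π = 1) :
    ∃ w ∈ h8g2InvWords, π = h8wPerm chevG2 hA w := by
  obtain ⟨w, hw, rfl⟩ := h8g2_W_cases hA π hπ
  refine ⟨w, h8g2Words_inv w hw ?_, rfl⟩
  intro r hr
  have h1 := congrArg (fun σ : Equiv.Perm (Fin chevG2.nroots) => (σ ⟨r, hr⟩).val) hsq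
  simp only [Equiv.Perm.mul_apply, Equiv.Perm.one_apply] at h1
  rw [h8wPerm_val chevG2 hA w (h8g2Words_lt w hw), h8wPerm_val chevG2 hA w (h8g2Words_lt w hw)] at h1
  exact h1

end Cfsg.Agent.Lib.helper8
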