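import Mathlib
import Cfsg.Prelude.Def_ChevStructure
import Cfsg.Agent.Lib.helper8.ChevGen
import Cfsg.Agent.Lib.helper8.ChevCommOrb
import Cfsg.Agent.Lib.helper8.ChevOrd

/-! Root closure inside a subgroup of a Chevalley group: the engine for two-generation. -/

set_option autoImplicit false

namespace Cfsg.Agent.Lib.helper8

open Cfsg.Lie Cfsg.Lie.ChevalleyDatum

universe u

variable {F : Type u} [Field F]

/-- the whole root subgroup of the root `r` lies in `M` -/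
def H8InR (D : ChevalleyDatum) (hB : H8Base.{u} D) (M : Subgroup (GL D.Idx F)) (r : ℕ) : Prop :=
  ∀ t : F, h8xU D hB r t ∈ M

/-- rule A: conjugation by a Weyl group word -/
theorem h8tg_word (D : ChevalleyDatum) (hB : H8Base.{u} D) (hA : H8ReflAll D)
    (M : Subgroup (GL D.Idx F)) (w : List ℕ) (hw : ∀ i ∈ w, i < D.rank)
    (hn : (h8nWU D hB w : GL D.Idx F) ∈ M) (r : ℕ) (hr : r < D.nroots)
    (h : H8InR D hB M r) : H8InR D hB M (h8sW D w r) := by
  obtain ⟨η, hη, hc⟩ := h8nWU_conj (F := F) D hB hA w hw r hr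
  intro t
  have h1 : h8xU D hB (h8sW D w r) t =
      h8nWU D hB w * h8xU D hB r ((η : F) * t) * (h8nWU D hB w)⁻¹ := by
    rw [eq_mul_inv_iff_mul_eq]
    apply Units.ext
    rw [Units.val_mul, Units.val_mul, h8xU_val, h8xU_val, hc]
    congr 2
    rcases hη with rfl | rfl <;> simp
  rw [h1]
  exact Subgroup.mul_mem _ (Subgroup.mul_mem _ hn (h _)) (Subgroup.inv_mem _ hn)

/-- rule B: a simple reflection -/
theorem h8tg_refl (D : ChevalleyDatum) (hB : H8Base.{u} D)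
    (M : Subgroup (GL D.Idx F)) (i : ℕ)
    (h1 : H8InR D hB M (D.simple i)) (h2 : H8InR D hB M (D.negIdx.getD (D.simple i) 0)) :
    (h8nWU D hB [i] : GL D.Idx F) ∈ M := by
  unfold h8nWU
  rw [List.map_cons, List.map_nil, List.prod_cons, List.prod_nil, mul_one, h8nU_eq]
  exact Subgroup.mul_mem _ (Subgroup.mul_mem _ (h1 _) (h2 _)) (h1 _)

/-- rule C: a commutator with a single term -/
theorem h8tg_comm (D : ChevalleyDatum) (hB : H8Base.{u} D) (hC : H8CommAll.{u} D)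
    (M : Subgroup (GL D.Idx F)) (r s k : ℕ) (c : ℤ) (hr : r < D.nroots) (hs : s < D.nroots)
    (hsr : s ≠ r) (hsn : s ≠ D.negIdx.getD r 0)
    (hct : D.commTerms r s = [(k, c, 1, 1)]) (hc : ((c : ℤ) : F) ≠ 0)
    (h1 : H8InR D hB M r) (h2 : H8InR D hB M s) : H8InR D hB M k := by
  intro v
  have hP := hC.all r hr s hs hsr hsn F (-1) (v * ((c : ℤ) : F)⁻¹)
  have hw : D.commWord F r s (-1 : F) (v * ((c : ℤ) : F)⁻¹) = [(k, v)] := by
    unfold ChevalleyDatum.commWord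
    rw [hct]
    simp only [List.map_cons, List.map_nil, neg_neg, pow_one, mul_one]
    congr 2
    field_simp
  rw [hw] at hP
  have h3 : h8xU D hB k v = (h8xU D hB r (-1) * h8xU D hB s (v * ((c : ℤ) : F)⁻¹))⁻¹ *
      (h8xU D hB s (v * ((c : ℤ) : F)⁻¹) * h8xU D hB r (-1)) := by
    rw [eq_inv_mul_iff_mul_eq]
    apply Units.ext
    rw [Units.val_mul, Units.val_mul, Units.val_mul, h8xU_val, h8xU_val, h8xU_val, hP]
    unfold ChevalleyDatum.wordMat
    simp
  rw [h3]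
  exact Subgroup.mul_mem _ (Subgroup.inv_mem _ (Subgroup.mul_mem _ (h1 _) (h2 _)))
    (Subgroup.mul_mem _ (h2 _) (h1 _))

/-- in a field with two elements `-1 = 1` -/
theorem h8tg_neg_one (h2 : ∀ t : F, t = 0 ∨ t = 1) : (-1 : F) = 1 := by
  rcases h2 (-1) with h | h
  · exact absurd h (neg_ne_zero.mpr one_ne_zero)
  · exact h

theorem h8tg_int_cast (h2 : ∀ t : F, t = 0 ∨ t = 1) (η : ℤ) (hη : η = 1 ∨ η = -1) :
    ((η : ℤ) : F) = 1 := by
  rcases hη with rfl | rfl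
  · simp
  · simp [h8tg_neg_one h2]

/-- over the field with two elements a root subgroup is generated by `x_r(1)` -/
theorem h8tg_inR_two (D : ChevalleyDatum) (hB : H8Base.{u} D) (M : Subgroup (GL D.Idx F))
    (h2 : ∀ t : F, t = 0 ∨ t = 1) (r : ℕ) (h : h8xU D hB r (1 : F) ∈ M) : H8InR D hB M r := by
  intro t
  rcases h2 t with rfl | rfl
  · rw [h8xU_zero]; exact Subgroup.one_mem _
  · exact h

/-- the element `x_c(1) x_{-c}(1)` -/
def h8tgT (D : ChevalleyDatum) (hB : H8Base.{u} D) (F : Type u) [Field F] (c : ℕ) : GL D.Idx F :=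
  h8xU D hB c (1 : F) * h8xU D hB (D.negIdx.getD c 0) (1 : F)

/-- rule T: over the field with two elements, `x_c(1) x_{-c}(1)` moves `r` to `r + c` -/
theorem h8tg_tri (D : ChevalleyDatum) (hB : H8Base.{u} D) (hC : H8CommAll.{u} D)
    (M : Subgroup (GL D.Idx F)) (h2 : ∀ t : F, t = 0 ∨ t = 1) (c r k : ℕ) (cc : ℤ)
    (hc : c < D.nroots) (hnc : D.negIdx.getD c 0 < D.nroots) (hr : r < D.nroots)
    (hk : k < D.nroots)
    (h1 : c ≠ r) (h1' : c ≠ D.negIdx.getD r 0)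
    (h3 : D.negIdx.getD c 0 ≠ r) (h3' : D.negIdx.getD c 0 ≠ D.negIdx.getD r 0)
    (h4 : c ≠ k) (h4' : c ≠ D.negIdx.getD k 0)
    (hct : D.commTerms r c = [(k, cc, 1, 1)]) (hcc : cc = 1 ∨ cc = -1)
    (hct2 : D.commTerms r (D.negIdx.getD c 0) = [])
    (hct3 : D.commTerms k c = [])
    (hT : h8tgT D hB F c ∈ M) (hR : H8InR D hB M r) : H8InR D hB M k := by
  apply h8tg_inR_two D hB M h2
  have e1 := hC.all r hr c hc h1 h1' F 1 1
  have e2 := hC.all r hr _ hnc h3 h3' F 1 1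
  have e3 := hC.all k hk c hc h4 h4' F 1 1
  unfold ChevalleyDatum.commWord at e1 e2 e3
  rw [hct] at e1
  rw [hct2] at e2
  rw [hct3] at e3
  simp only [List.map_cons, List.map_nil, pow_one, mul_one] at e1 e2 e3
  have hcc' : ((cc : ℤ) : F) * -1 = 1 := by
    rw [h8tg_neg_one h2, mul_one]
    exact h8tg_int_cast h2 cc hcc
  rw [hcc'] at e1
  unfold ChevalleyDatum.wordMat at e1 e2 e3
  simp only [List.map_cons, List.map_nil, List.prod_cons, List.prod_nil, mul_one] at e1 e2 e3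
  -- as units
  have u1 : h8xU D hB c (1 : F) * h8xU D hB r 1 = h8xU D hB r 1 * h8xU D hB c 1 * h8xU D hB k 1 := by
    apply Units.ext
    simp only [Units.val_mul, h8xU_val]
    exact e1
  have u2 : h8xU D hB (D.negIdx.getD c 0) (1 : F) * h8xU D hB r 1 =
      h8xU D hB r 1 * h8xU D hB (D.negIdx.getD c 0) 1 := by
    apply Units.ext
    simp only [Units.val_mul, h8xU_val]
    exact e2
  have u3 : h8xU D hB c (1 : F) * h8xU D hB k 1 = h8xU D hB k 1 * h8xU D hB c 1 := by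
    apply Units.ext
    simp only [Units.val_mul, h8xU_val]
    exact e3
  have key : h8xU D hB k (1 : F) =
      (h8xU D hB r 1)⁻¹ * (h8tgT D hB F c * h8xU D hB r 1 * (h8tgT D hB F c)⁻¹) := by
    unfold h8tgT
    rw [eq_inv_mul_iff_mul_eq, eq_mul_inv_iff_mul_eq]
    calc h8xU D hB r 1 * h8xU D hB k 1 * (h8xU D hB c 1 * h8xU D hB (D.negIdx.getD c 0) 1)
        = h8xU D hB r 1 * (h8xU D hB k 1 * h8xU D hB c 1) * h8xU D hB (D.negIdx.getD c 0) 1 := by
          group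
      _ = h8xU D hB r 1 * (h8xU D hB c 1 * h8xU D hB k 1) * h8xU D hB (D.negIdx.getD c 0) 1 := by
          rw [u3]
      _ = (h8xU D hB r 1 * h8xU D hB c 1 * h8xU D hB k 1) * h8xU D hB (D.negIdx.getD c 0) 1 := by
          group
      _ = (h8xU D hB c 1 * h8xU D hB r 1) * h8xU D hB (D.negIdx.getD c 0) 1 := by rw [u1]
      _ = h8xU D hB c 1 * (h8xU D hB r 1 * h8xU D hB (D.negIdx.getD c 0) 1) := by group
      _ = h8xU D hB c 1 * (h8xU D hB (D.negIdx.getD c 0) 1 * h8xU D hB r 1) := by rw [u2]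
      _ = h8xU D hB c 1 * h8xU D hB (D.negIdx.getD c 0) 1 * h8xU D hB r 1 := by group
  rw [key]
  exact Subgroup.mul_mem _ (Subgroup.inv_mem _ (hR _))
    (Subgroup.mul_mem _ (Subgroup.mul_mem _ hT (hR _)) (Subgroup.inv_mem _ hT))

/-- rule TW: conjugating `x_c(1) x_{-c}(1)` by a Weyl group word -/
theorem h8tg_triw (D : ChevalleyDatum) (hB : H8Base.{u} D) (hA : H8ReflAll D)
    (M : Subgroup (GL D.Idx F)) (h2 : ∀ t : F, t = 0 ∨ t = 1) (w : List ℕ)
    (hw : ∀ i ∈ w, i < D.rank) (hn : (h8nWU D hB w : GL D.Idx F) ∈ M) (c : ℕ)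
    (hc : c < D.nroots) (hnc : D.negIdx.getD c 0 < D.nroots)
    (hneg : h8sW D w (D.negIdx.getD c 0) = D.negIdx.getD (h8sW D w c) 0)
    (hT : h8tgT D hB F c ∈ M) : h8tgT D hB F (h8sW D w c) ∈ M := by
  obtain ⟨η, hη, hx⟩ := h8nWU_conj (F := F) D hB hA w hw c hc
  obtain ⟨η', hη', hx'⟩ := h8nWU_conj (F := F) D hB hA w hw _ hnc
  have e1 : h8xU D hB (h8sW D w c) (1 : F) =
      h8nWU D hB w * h8xU D hB c 1 * (h8nWU D hB w)⁻¹ := by
    rw [eq_mul_inv_iff_mul_eq]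
    apply Units.ext
    rw [Units.val_mul, Units.val_mul, h8xU_val, h8xU_val, hx, h8tg_int_cast h2 η hη, one_mul]
  have e2 : h8xU D hB (D.negIdx.getD (h8sW D w c) 0) (1 : F) =
      h8nWU D hB w * h8xU D hB (D.negIdx.getD c 0) 1 * (h8nWU D hB w)⁻¹ := by
    rw [eq_mul_inv_iff_mul_eq, ← hneg]
    apply Units.ext
    rw [Units.val_mul, Units.val_mul, h8xU_val, h8xU_val, hx', h8tg_int_cast h2 η' hη', one_mul]
  have : h8tgT D hB F (h8sW D w c) =
      h8nWU D hB w * h8tgT D hB F c * (h8nWU D hB w)⁻¹ := by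
    unfold h8tgT
    rw [e1, e2]
    group
  rw [this]
  exact Subgroup.mul_mem _ (Subgroup.mul_mem _ hn hT) (Subgroup.inv_mem _ hn)

end Cfsg.Agent.Lib.helper8
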