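import Mathlib
import Cfsg.Prelude.Def_ChevStructure
import Cfsg.Agent.Lib.helper8.ChevTG1

/-! The certificate checker for root closure inside a subgroup of a Chevalley group. -/

set_option autoImplicit false

namespace Cfsg.Agent.Lib.helper8

open Cfsg.Lie Cfsg.Lie.ChevalleyDatum

universe u

variable {F : Type u} [Field F]

/-- a derivation step -/
inductive H8tgStep
  | word (wi r : ℕ)
  | refl (i : ℕ)
  | comm (r s : ℕ)
  | tri (ci r : ℕ)
  | triw (wi ci : ℕ)

/-- the state: known roots, known Weyl words, known `t`-elements -/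
structure H8tgState where
  R : List ℕ
  ws : List (List ℕ)
  cs : List ℕ

/-- a commutator formula with the single term `(k, c, 1, 1)` -/
def h8tgSingle (l : List (ℕ × ℤ × ℕ × ℕ)) : Option (ℕ × ℤ) :=
  match l with
  | [(k, c, i, j)] => if i = 1 ∧ j = 1 then some (k, c) else none
  | _ => none

theorem h8tgSingle_spec (l : List (ℕ × ℤ × ℕ × ℕ)) (k : ℕ) (c : ℤ)
    (h : h8tgSingle l = some (k, c)) : l = [(k, c, 1, 1)] := by
  unfold h8tgSingle at h
  split at h
  · rename_i k' c' i j
    split_ifs at h with h1
    obtain ⟨rfl, rfl⟩ := h1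
    simp only [Option.some.injEq, Prod.mk.injEq] at h
    obtain ⟨rfl, rfl⟩ := h
    rfl
  · exact absurd h (by simp)

/-- one step of the checker -/
def h8tgStep (D : ChevalleyDatum) (coefs : List ℤ) (st : H8tgState) : H8tgStep → Option H8tgState
  | .word wi r =>
    match st.ws[wi]? with
    | some w => if r ∈ st.R then some { st with R := h8sW D w r :: st.R } else none
    | none => none
  | .refl i =>
    if i < D.rank ∧ D.simple i ∈ st.R ∧ D.negIdx.getD (D.simple i) 0 ∈ st.R then
      some { st with ws := [i] :: st.ws } else none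
  | .comm r s =>
    if r ∈ st.R ∧ s ∈ st.R ∧ s ≠ r ∧ s ≠ D.negIdx.getD r 0 then
      match h8tgSingle (D.commTerms r s) with
      | some (k, c) => if c ∈ coefs ∧ k < D.nroots then some { st with R := k :: st.R } else none
      | none => none
    else none
  | .tri ci r =>
    match st.cs[ci]? with
    | some c =>
      if r ∈ st.R ∧ c ≠ r ∧ c ≠ D.negIdx.getD r 0 ∧ D.negIdx.getD c 0 ≠ r ∧
          D.negIdx.getD c 0 ≠ D.negIdx.getD r 0 ∧ D.negIdx.getD c 0 < D.nroots then
        match h8tgSingle (D.commTerms r c) with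
        | some (k, cc) =>
          if (cc = 1 ∨ cc = -1) ∧ k < D.nroots ∧ c ≠ k ∧ c ≠ D.negIdx.getD k 0 ∧
              D.commTerms r (D.negIdx.getD c 0) = [] ∧ D.commTerms k c = [] then
            some { st with R := k :: st.R } else none
        | none => none
      else none
    | none => none
  | .triw wi ci =>
    match st.ws[wi]?, st.cs[ci]? with
    | some w, some c =>
      if D.negIdx.getD c 0 < D.nroots ∧
          h8sW D w (D.negIdx.getD c 0) = D.negIdx.getD (h8sW D w c) 0 then
        some { st with cs := h8sW D w c :: st.cs } else none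
    | _, _ => none

/-- running the checker -/
def h8tgRun (D : ChevalleyDatum) (coefs : List ℤ) : H8tgState → List H8tgStep → Option H8tgState
  | st, [] => some st
  | st, s :: l =>
    match h8tgStep D coefs st s with
    | some st' => h8tgRun D coefs st' l
    | none => none

/-- the complete check: all simple roots and their negatives are reached -/
def h8tgChk (D : ChevalleyDatum) (coefs : List ℤ) (seeds : List ℕ) (ws : List (List ℕ))
    (cs : List ℕ) (steps : List H8tgStep) : Bool :=
  match h8tgRun D coefs ⟨seeds, ws, cs⟩ steps with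
  | some st => (List.range D.rank).all fun j =>
      decide (D.simple j ∈ st.R) && decide (D.negIdx.getD (D.simple j) 0 ∈ st.R)
  | none => false

/-- the invariant of the checker -/
structure H8tgInv (D : ChevalleyDatum) (hB : H8Base.{u} D) (M : Subgroup (GL D.Idx F))
    (st : H8tgState) : Prop where
  R : ∀ r ∈ st.R, r < D.nroots ∧ H8InR D hB M r
  ws : ∀ w ∈ st.ws, (∀ i ∈ w, i < D.rank) ∧ (h8nWU D hB w : GL D.Idx F) ∈ M
  cs : ∀ c ∈ st.cs, c < D.nroots ∧ h8tgT D hB F c ∈ M
  two : st.cs = [] ∨ ∀ t : F, t = 0 ∨ t = 1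

theorem h8tgStep_inv (D : ChevalleyDatum) (hB : H8Base.{u} D) (hA : H8ReflAll D)
    (hC : H8CommAll.{u} D) (M : Subgroup (GL D.Idx F)) (coefs : List ℤ)
    (hco : ∀ c ∈ coefs, ((c : ℤ) : F) ≠ 0) (st st' : H8tgState) (s : H8tgStep)
    (h : h8tgStep D coefs st s = some st') (hI : H8tgInv D hB M st) : H8tgInv D hB M st' := by
  cases s with
  | word wi r =>
    simp only [h8tgStep] at h
    split at h
    · rename_i w hw
      split_ifs at h with hr
      simp only [Option.some.injEq] at h
      subst h
      have hwm := hI.ws w (List.mem_of_getElem? hw)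
      have hrm := hI.R r hr
      refine ⟨?_, hI.ws, hI.cs, hI.two⟩
      intro r' hr'
      rcases List.mem_cons.mp hr' with rfl | hr'
      · exact ⟨h8sW_lt D hA w hwm.1 r hrm.1, h8tg_word D hB hA M w hwm.1 hwm.2 r hrm.1 hrm.2⟩
      · exact hI.R r' hr'
    · exact absurd h (by simp)
  | refl i =>
    simp only [h8tgStep] at h
    split_ifs at h with hc
    simp only [Option.some.injEq] at h
    subst h
    refine ⟨hI.R, ?_, hI.cs, hI.two⟩
    intro w hw
    rcases List.mem_cons.mp hw with rfl | hw
    · refine ⟨?_, h8tg_refl D hB M i (hI.R _ hc.2.1).2 (hI.R _ hc.2.2).2⟩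
      intro j hj
      rw [List.mem_singleton] at hj
      subst hj
      exact hc.1
    · exact hI.ws w hw
  | comm r s =>
    simp only [h8tgStep] at h
    split_ifs at h with hc
    split at h
    · rename_i k c hkc
      split_ifs at h with hc2
      simp only [Option.some.injEq] at h
      subst h
      refine ⟨?_, hI.ws, hI.cs, hI.two⟩
      intro r' hr'
      rcases List.mem_cons.mp hr' with rfl | hr'
      · refine ⟨hc2.2, ?_⟩
        exact h8tg_comm D hB hC M r s r' c (hI.R r hc.1).1 (hI.R s hc.2.1).1 hc.2.2.1 hc.2.2.2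
          (h8tgSingle_spec _ _ _ hkc) (hco c hc2.1) (hI.R r hc.1).2 (hI.R s hc.2.1).2
      · exact hI.R r' hr'
    · exact absurd h (by simp)
  | tri ci r =>
    simp only [h8tgStep] at h
    split at h
    · rename_i c hcg
      split_ifs at h with hc
      split at h
      · rename_i k cc hkc
        split_ifs at h with hc2
        simp only [Option.some.injEq] at h
        subst h
        have hcm := hI.cs c (List.mem_of_getElem? hcg)
        have h2 : ∀ t : F, t = 0 ∨ t = 1 := by
          rcases hI.two with h0 | h0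
          · rw [h0] at hcg
            simp at hcg
          · exact h0
        refine ⟨?_, hI.ws, hI.cs, hI.two⟩
        intro r' hr'
        rcases List.mem_cons.mp hr' with rfl | hr'
        · refine ⟨hc2.2.1, ?_⟩
          exact h8tg_tri D hB hC M h2 c r r' cc hcm.1 hc.2.2.2.2.2 (hI.R r hc.1).1 hc2.2.1
            hc.2.1 hc.2.2.1 hc.2.2.2.1 hc.2.2.2.2.1 hc2.2.2.1 hc2.2.2.2.1
            (h8tgSingle_spec _ _ _ hkc) hc2.1 hc2.2.2.2.2.1 hc2.2.2.2.2.2 hcm.2 (hI.R r hc.1).2
        · exact hI.R r' hr'
      · exact absurd h (by simp)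
    · exact absurd h (by simp)
  | triw wi ci =>
    simp only [h8tgStep] at h
    split at h
    · rename_i w c hwg hcg
      split_ifs at h with hc
      simp only [Option.some.injEq] at h
      subst h
      have hwm := hI.ws w (List.mem_of_getElem? hwg)
      have hcm := hI.cs c (List.mem_of_getElem? hcg)
      have h2 : ∀ t : F, t = 0 ∨ t = 1 := by
        rcases hI.two with h0 | h0
        · rw [h0] at hcg
          simp at hcg
        · exact h0
      refine ⟨hI.R, hI.ws, ?_, Or.inr h2⟩
      intro c' hc'
      rcases List.mem_cons.mp hc' with rfl | hc'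
      · exact ⟨h8sW_lt D hA w hwm.1 c hcm.1,
          h8tg_triw D hB hA M h2 w hwm.1 hwm.2 c hcm.1 hc.1 hc.2 hcm.2⟩
      · exact hI.cs c' hc'
    · exact absurd h (by simp)

theorem h8tgRun_inv (D : ChevalleyDatum) (hB : H8Base.{u} D) (hA : H8ReflAll D)
    (hC : H8CommAll.{u} D) (M : Subgroup (GL D.Idx F)) (coefs : List ℤ)
    (hco : ∀ c ∈ coefs, ((c : ℤ) : F) ≠ 0) (steps : List H8tgStep) :
    ∀ (st st' : H8tgState), h8tgRun D coefs st steps = some st' → H8tgInv D hB M st →
      H8tgInv D hB M st' := by
  induction steps with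
  | nil =>
    intro st st' h hI
    simp only [h8tgRun, Option.some.injEq] at h
    subst h
    exact hI
  | cons s l ih =>
    intro st st' h hI
    simp only [h8tgRun] at h
    split at h
    · rename_i st1 hst1
      exact ih st1 st' h (h8tgStep_inv D hB hA hC M coefs hco st st1 s hst1 hI)
    · exact absurd h (by simp)

/-- soundness of the checker -/
theorem h8tg_sound (D : ChevalleyDatum) (hB : H8Base.{u} D) (hA : H8ReflAll D)
    (hC : H8CommAll.{u} D) (hBN : H8BN D) (M : Subgroup (GL D.Idx F)) (coefs : List ℤ)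
    (hco : ∀ c ∈ coefs, ((c : ℤ) : F) ≠ 0) (seeds : List ℕ) (ws : List (List ℕ))
    (cs : List ℕ) (steps : List H8tgStep)
    (hseeds : ∀ r ∈ seeds, r < D.nroots ∧ H8InR D hB M r)
    (hws : ∀ w ∈ ws, (∀ i ∈ w, i < D.rank) ∧ (h8nWU D hB w : GL D.Idx F) ∈ M)
    (hcs : ∀ c ∈ cs, c < D.nroots ∧ h8tgT D hB F c ∈ M)
    (h2 : cs = [] ∨ ∀ t : F, t = 0 ∨ t = 1)
    (hchk : h8tgChk D coefs seeds ws cs steps = true) : D.group F ≤ M := by
  unfold h8tgChk at hchk
  split at hchk
  · rename_i st hst
    have hI := h8tgRun_inv D hB hA hC M coefs hco steps ⟨seeds, ws, cs⟩ st hst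
      ⟨hseeds, hws, hcs, h2⟩
    simp only [List.all_eq_true, List.mem_range, Bool.and_eq_true, decide_eq_true_eq] at hchk
    apply h8group_le_of_simple D hB hA hBN M
    · intro j hj
      exact (hI.R _ (hchk j hj).1).2
    · intro j hj
      exact (hI.R _ (hchk j hj).2).2
  · exact absurd hchk (by simp)

end Cfsg.Agent.Lib.helper8
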