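import Mathlib
import Cfsg.Prelude.Def_ChevStructure
import Cfsg.Agent.Lib.helper8.ChevTG1
import Cfsg.Agent.Lib.helper8.ChevNH2
import Cfsg.Agent.Lib.helper8.ChevSLP2

/-! Torus arguments for two-generation: Steinberg's trick. -/

set_option autoImplicit false

namespace Cfsg.Agent.Lib.helper8

open Cfsg.Lie Cfsg.Lie.ChevalleyDatum

universe u

variable {F : Type u} [Field F]

/-- conjugation of a root element by `h_c(k)` -/
theorem h8tg_hconj (D : ChevalleyDatum) (hB : H8Base.{u} D) (c s : ℕ) (hc : c < D.nroots)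
    (hs : s < D.nroots) (k : F) (hk : k ≠ 0) (t : F) :
    h8hU D hB c k * h8xU D hB s t * (h8hU D hB c k)⁻¹ = h8xU D hB s (k ^ (h8K D c s) * t) := by
  rw [mul_inv_eq_iff_eq_mul]
  apply Units.ext
  rw [Units.val_mul, Units.val_mul, h8hU_val, h8xU_val, h8xU_val]
  exact h8hMat_conj_x D hB.ca c s hs k hk t (hB.hdiag F c hc k hk)

/-- iterated conjugation -/
theorem h8tg_hconj_pow (D : ChevalleyDatum) (hB : H8Base.{u} D) (c s : ℕ) (hc : c < D.nroots)
    (hs : s < D.nroots) (k : F) (hk : k ≠ 0) (t : F) (j : ℕ) :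
    h8hU D hB c k ^ j * h8xU D hB s t * (h8hU D hB c k ^ j)⁻¹ =
      h8xU D hB s ((k ^ (h8K D c s)) ^ j * t) := by
  induction j generalizing t with
  | zero => simp
  | succ j ih =>
    have : h8hU D hB c k ^ (j + 1) * h8xU D hB s t * (h8hU D hB c k ^ (j + 1))⁻¹ =
        h8hU D hB c k ^ j * (h8hU D hB c k * h8xU D hB s t * (h8hU D hB c k)⁻¹) *
          (h8hU D hB c k ^ j)⁻¹ := by
      rw [pow_succ]
      group
    rw [this, h8tg_hconj D hB c s hc hs k hk, ih]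
    congr 1
    rw [pow_succ]
    ring

/-- filling a root subgroup by the torus action -/
theorem h8tg_fill (D : ChevalleyDatum) (hB : H8Base.{u} D) (M : Subgroup (GL D.Idx F))
    (c s : ℕ) (hc : c < D.nroots) (hs : s < D.nroots) (k : F) (hk : k ≠ 0)
    (hgen : ∀ u : F, u ≠ 0 → ∃ j : ℕ, u = (k ^ (h8K D c s)) ^ j)
    (hh : h8hU D hB c k ∈ M) (v : F) (hv : v ≠ 0) (hx : h8xU D hB s v ∈ M) :
    H8InR D hB M s := by
  intro t
  by_cases ht : t = 0
  · rw [ht, h8xU_zero]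
    exact Subgroup.one_mem _
  · obtain ⟨j, hj⟩ := hgen (t * v⁻¹) (mul_ne_zero ht (inv_ne_zero hv))
    have h1 := h8tg_hconj_pow D hB c s hc hs k hk v j
    rw [← hj, inv_mul_cancel_right₀ hv] at h1
    rw [← h1]
    exact Subgroup.mul_mem _ (Subgroup.mul_mem _ (Subgroup.pow_mem _ hh j) hx)
      (Subgroup.inv_mem _ (Subgroup.pow_mem _ hh j))

/-- conjugation of `h_c(k)` by a Weyl group word -/
theorem h8tg_nw_h (D : ChevalleyDatum) (hB : H8Base.{u} D) (hA : H8ReflAll D) (w : List ℕ)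
    (hw : ∀ i ∈ w, i < D.rank) (c : ℕ) (hc : c < D.nroots) (k : F) (hk : k ≠ 0) :
    (h8nWU D hB w : GL D.Idx F) * h8hU D hB c k * (h8nWU D hB w)⁻¹ =
      h8hU D hB (h8sW D w c) k := by
  induction w with
  | nil =>
    unfold h8nWU h8sW
    simp
  | cons i w ih =>
    have hw' : ∀ j ∈ w, j < D.rank := fun j hj => hw j (List.mem_cons_of_mem _ hj)
    have hi : i < D.rank := hw i List.mem_cons_self
    have e1 : (h8nWU D hB (i :: w) : GL D.Idx F) = h8nU D hB (D.simple i) 1 * h8nWU D hB w := by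
      unfold h8nWU
      rw [List.map_cons, List.prod_cons]
    have e2 : h8sW D (i :: w) c = D.reflectRoot i (h8sW D w c) := by
      unfold h8sW
      rw [List.foldr_cons]
    rw [e1, e2]
    have : h8nU D hB (D.simple i) 1 * h8nWU D hB w * h8hU D hB c k *
        (h8nU D hB (D.simple i) 1 * h8nWU D hB w)⁻¹ =
        h8nU D hB (D.simple i) 1 * (h8nWU D hB w * h8hU D hB c k * (h8nWU D hB w)⁻¹) *
          (h8nU D hB (D.simple i) (1 : F))⁻¹ := by group
    rw [this, ih hw', mul_inv_eq_iff_eq_mul]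
    apply Units.ext
    rw [Units.val_mul, Units.val_mul, h8nU_val, h8hU_val, h8hU_val]
    exact h8n_conj_h D hB hA i hi _ (h8sW_lt D hA w hw' c hc) k hk

/-- the torus elements commute -/
theorem h8tg_h_comm (D : ChevalleyDatum) (hB : H8Base.{u} D) (c c' : ℕ) (hc : c < D.nroots)
    (hc' : c' < D.nroots) (k k' : F) (hk : k ≠ 0) (hk' : k' ≠ 0) :
    h8hU D hB c k * h8hU D hB c' k' = h8hU D hB c' k' * h8hU D hB c k := by
  apply Units.ext
  rw [Units.val_mul, Units.val_mul, h8hU_val, h8hU_val, hB.hdiag F c hc k hk,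
    hB.hdiag F c' hc' k' hk', Matrix.diagonal_mul_diagonal, Matrix.diagonal_mul_diagonal]
  congr 1
  funext i
  ring

/-- Steinberg's trick: from `h_c(k)` and `x_a(1) n_w` to the root subgroup of `a` and `n_w` -/
theorem h8tg_trick (D : ChevalleyDatum) (hB : H8Base.{u} D) (hA : H8ReflAll D)
    (M : Subgroup (GL D.Idx F)) (w : List ℕ) (hw : ∀ i ∈ w, i < D.rank)
    (c a : ℕ) (hc : c < D.nroots) (ha : a < D.nroots) (k : F) (hk : k ≠ 0)
    (h1 : k ^ (h8K D c a) ≠ 1) (h2 : k ^ (h8K D (h8sW D w c) a) ≠ 1)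
    (hgen : ∀ u : F, u ≠ 0 → ∃ j : ℕ, u = (k ^ (h8K D c a)) ^ j)
    (hh : h8hU D hB c k ∈ M)
    (hg : h8xU D hB a (1 : F) * h8nWU D hB w ∈ M) :
    H8InR D hB M a ∧ (h8nWU D hB w : GL D.Idx F) ∈ M := by
  have hwc : h8sW D w c < D.nroots := h8sW_lt D hA w hw c hc
  set h := h8hU D hB c k with hh_def
  set h' := h8hU D hB (h8sW D w c) k with hh'_def
  set g := h8xU D hB a (1 : F) * h8nWU D hB w with hg_def
  -- y = g h g⁻¹ = x_a(1) h' x_a(-1)
  have hy : g * h * g⁻¹ = h8xU D hB a 1 * h' * (h8xU D hB a (1 : F))⁻¹ := by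
    rw [hh'_def, ← h8tg_nw_h D hB hA w hw c hc k hk, hg_def, hh_def]
    group
  have hyM : h8xU D hB a 1 * h' * (h8xU D hB a (1 : F))⁻¹ ∈ M := by
    rw [← hy]
    exact Subgroup.mul_mem _ (Subgroup.mul_mem _ hg hh) (Subgroup.inv_mem _ hg)
  -- h' x_a(-1) h'⁻¹ = x_a(-k^e')
  have e1 : h' * (h8xU D hB a (1 : F))⁻¹ * h'⁻¹ =
      h8xU D hB a (k ^ (h8K D (h8sW D w c) a) * (-1)) := by
    rw [h8xU_inv]
    exact h8tg_hconj D hB _ a hwc ha k hk (-1)
  -- so x_a(1 - k^e') h' ∈ M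
  have e2 : h8xU D hB a 1 * h' * (h8xU D hB a (1 : F))⁻¹ =
      h8xU D hB a (1 - k ^ (h8K D (h8sW D w c) a)) * h' := by
    have : h8xU D hB a 1 * h' * (h8xU D hB a (1 : F))⁻¹ =
        h8xU D hB a 1 * (h' * (h8xU D hB a (1 : F))⁻¹ * h'⁻¹) * h' := by group
    rw [this, e1, h8xU_add D hB a ha]
    congr 2
    ring
  rw [e2] at hyM
  set d := 1 - k ^ (h8K D (h8sW D w c) a) with hd_def
  -- z = h y h⁻¹ y⁻¹ = x_a((k^e - 1) d)
  have e3 : h * (h8xU D hB a d * h') * h⁻¹ * (h8xU D hB a d * h')⁻¹ =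
      h8xU D hB a ((k ^ (h8K D c a) - 1) * d) := by
    have hcomm : h * h' = h' * h := h8tg_h_comm D hB c _ hc hwc k k hk hk
    have : h * (h8xU D hB a d * h') * h⁻¹ * (h8xU D hB a d * h')⁻¹ =
        (h * h8xU D hB a d * h⁻¹) * (h * h' * h⁻¹ * h'⁻¹) * (h8xU D hB a d)⁻¹ := by group
    rw [this, hcomm]
    have : h' * h * h⁻¹ * h'⁻¹ = 1 := by group
    rw [this, mul_one, h8tg_hconj D hB c a hc ha k hk, h8xU_inv, h8xU_add D hB a ha]
    congr 1
    ring
  have hzM : h8xU D hB a ((k ^ (h8K D c a) - 1) * d) ∈ M := by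
    rw [← e3]
    exact Subgroup.mul_mem _ (Subgroup.mul_mem _ (Subgroup.mul_mem _ hh hyM)
      (Subgroup.inv_mem _ hh)) (Subgroup.inv_mem _ hyM)
  have hv : (k ^ (h8K D c a) - 1) * d ≠ 0 := by
    apply mul_ne_zero
    · exact sub_ne_zero.mpr h1
    · rw [hd_def]
      exact sub_ne_zero.mpr (Ne.symm h2)
  have hR : H8InR D hB M a := h8tg_fill D hB M c a hc ha k hk hgen hh _ hv hzM
  refine ⟨hR, ?_⟩
  have : (h8nWU D hB w : GL D.Idx F) = (h8xU D hB a (1 : F))⁻¹ * g := by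
    rw [hg_def]
    group
  rw [this]
  exact Subgroup.mul_mem _ (Subgroup.inv_mem _ (hR 1)) hg

end Cfsg.Agent.Lib.helper8
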