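import Mathlib
import Cfsg.Prelude.Def_ChevStructure
import Cfsg.Agent.Lib.helper8.ChevTG3
import Cfsg.Agent.Lib.helper8.ChevSLP3

/-! Extraction of the factors of commuting products, and generators of finite fields. -/

set_option autoImplicit false

namespace Cfsg.Agent.Lib.helper8

open Cfsg.Lie Cfsg.Lie.ChevalleyDatum

universe u

variable {F : Type u} [Field F]

theorem h8tg_x_pow (D : ChevalleyDatum) (hB : H8Base.{u} D) (r : ℕ) (hr : r < D.nroots) (t : F)
    (n : ℕ) : h8xU D hB r t ^ n = h8xU D hB r ((n : F) * t) := by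
  induction n with
  | zero => simp [h8xU_zero]
  | succ n ih =>
    rw [pow_succ, ih, h8xU_add D hB r hr]
    congr 1
    push_cast
    ring

theorem h8tg_h_pow (D : ChevalleyDatum) (hB : H8Base.{u} D) (c : ℕ) (hc : c < D.nroots) (k : F)
    (hk : k ≠ 0) (n : ℕ) : h8hU D hB c k ^ (n + 1) = h8hU D hB c (k ^ (n + 1)) := by
  induction n with
  | zero => simp
  | succ n ih =>
    rw [pow_succ, ih, pow_succ k (n + 1), h8slp_Hmul D hB c hc _ _ (pow_ne_zero _ hk) hk]

/-- from `h_c(k) x_b(1)` with `⟨b, c∨⟩ = 0` to both factors -/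
theorem h8tg_split [Fintype F] (D : ChevalleyDatum) (hB : H8Base.{u} D)
    (M : Subgroup (GL D.Idx F)) (c b : ℕ) (hc : c < D.nroots) (hb : b < D.nroots) (k : F)
    (hk : k ≠ 0) (h0 : h8K D c b = 0)
    (hg : h8hU D hB c k * h8xU D hB b (1 : F) ∈ M) :
    h8hU D hB c k ∈ M ∧ h8xU D hB b (1 : F) ∈ M := by
  have hcomm : Commute (h8hU D hB c k) (h8xU D hB b (1 : F)) := by
    have := h8tg_hconj D hB c b hc hb k hk 1
    rw [h0, zpow_zero, one_mul, mul_inv_eq_iff_eq_mul] at this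
    exact this
  have hq : 0 < Fintype.card F := Fintype.card_pos
  obtain ⟨n, hn⟩ : ∃ n, Fintype.card F = n + 1 := ⟨Fintype.card F - 1, by omega⟩
  have h1 : (h8hU D hB c k * h8xU D hB b (1 : F)) ^ Fintype.card F = h8hU D hB c k := by
    rw [hcomm.mul_pow, h8tg_x_pow D hB b hb, FiniteField.cast_card_eq_zero, zero_mul, h8xU_zero,
      mul_one, hn, h8tg_h_pow D hB c hc k hk, ← hn, FiniteField.pow_card]
  have hh : h8hU D hB c k ∈ M := by
    rw [← h1]
    exact Subgroup.pow_mem _ hg _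
  refine ⟨hh, ?_⟩
  have : h8xU D hB b (1 : F) = (h8hU D hB c k)⁻¹ * (h8hU D hB c k * h8xU D hB b (1 : F)) := by
    group
  rw [this]
  exact Subgroup.mul_mem _ (Subgroup.inv_mem _ hh) hg

/-- a generator of the multiplicative group of a finite field -/
theorem h8tg_gen [Fintype F] : ∃ k : F, k ≠ 0 ∧ ∀ u : F, u ≠ 0 → ∃ j : ℕ, u = k ^ j := by
  obtain ⟨g, hg⟩ := IsCyclic.exists_generator (α := Fˣ)
  refine ⟨(g : F), Units.ne_zero g, ?_⟩
  intro u hu
  have hmem := hg (Units.mk0 u hu)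
  rw [Subgroup.mem_zpowers_iff] at hmem
  obtain ⟨z, hz⟩ := hmem
  have hfin : IsOfFinOrder g := isOfFinOrder_of_finite g
  obtain ⟨j, hj⟩ : ∃ j : ℕ, g ^ j = g ^ z := by
    have := hfin.mem_powers_iff_mem_zpowers.mpr ⟨z, rfl⟩
    obtain ⟨j, hj⟩ := this
    exact ⟨j, hj⟩
  refine ⟨j, ?_⟩
  have := congrArg (fun x : Fˣ => (x : F)) (hj.trans hz)
  simp only [Units.val_pow_eq_pow_val, Units.val_mk0] at this
  exact this.symm

/-- `k ^ 1` generates -/
theorem h8tg_gen_one (k : F) (hgen : ∀ u : F, u ≠ 0 → ∃ j : ℕ, u = k ^ j) :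
    ∀ u : F, u ≠ 0 → ∃ j : ℕ, u = (k ^ (1 : ℤ)) ^ j := by
  intro u hu
  obtain ⟨j, hj⟩ := hgen u hu
  exact ⟨j, by rw [zpow_one]; exact hj⟩

/-- `k ^ (-1)` generates -/
theorem h8tg_gen_neg_one (k : F) (hgen : ∀ u : F, u ≠ 0 → ∃ j : ℕ, u = k ^ j) :
    ∀ u : F, u ≠ 0 → ∃ j : ℕ, u = (k ^ (-1 : ℤ)) ^ j := by
  intro u hu
  obtain ⟨j, hj⟩ := hgen u⁻¹ (inv_ne_zero hu)
  refine ⟨j, ?_⟩
  rw [zpow_neg_one, inv_pow, ← hj, inv_inv]

/-- a generator is not `1` if the field has at least three elements -/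
theorem h8tg_gen_ne_one [Fintype F] (h3 : 3 ≤ Fintype.card F) (k : F)
    (hgen : ∀ u : F, u ≠ 0 → ∃ j : ℕ, u = k ^ j) : k ≠ 1 := by
  intro h1
  subst h1
  have hall : ∀ u : F, u = 0 ∨ u = 1 := by
    intro u
    by_cases hu : u = 0
    · exact Or.inl hu
    · obtain ⟨j, hj⟩ := hgen u hu
      rw [one_pow] at hj
      exact Or.inr hj
  have : Fintype.card F ≤ 2 := by
    classical
    calc Fintype.card F = (Finset.univ : Finset F).card := rfl
      _ ≤ ({0, 1} : Finset F).card := by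
          apply Finset.card_le_card
          intro u _
          rcases hall u with h | h <;> simp [h]
      _ ≤ 2 := Finset.card_le_two
  omega

end Cfsg.Agent.Lib.helper8
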