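import Mathlib
import Cfsg.Prelude.Def_ChevStructure
import Cfsg.Agent.Lib.helper8.ChevTG2
import Cfsg.Agent.Lib.helper8.ChevTG4
import Cfsg.Agent.Lib.helper8.ChevPerf

/-! Two-generation of Chevalley groups: the main theorems for fields with at least three
elements. -/

set_option autoImplicit false

namespace Cfsg.Agent.Lib.helper8

open Cfsg.Lie Cfsg.Lie.ChevalleyDatum

universe u

variable {F : Type u} [Field F]

/-- two generators of a subgroup, seen inside the subgroup -/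
theorem h8tg_top {G : Type*} [Group G] (H : Subgroup G) (g1 g2 : G) (h1 : g1 ∈ H) (h2 : g2 ∈ H)
    (h : H ≤ Subgroup.closure {g1, g2}) :
    ∃ a b : ↥H, Subgroup.closure ({a, b} : Set ↥H) = ⊤ := by
  refine ⟨⟨g1, h1⟩, ⟨g2, h2⟩, ?_⟩
  rw [eq_top_iff]
  have key : ∀ y ∈ Subgroup.closure ({g1, g2} : Set G), ∃ hy : y ∈ H,
      (⟨y, hy⟩ : ↥H) ∈ Subgroup.closure ({⟨g1, h1⟩, ⟨g2, h2⟩} : Set ↥H) := by
    intro y hy
    induction hy using Subgroup.closure_induction with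
    | mem x hx =>
      rcases hx with rfl | hx
      · exact ⟨h1, Subgroup.subset_closure (by simp)⟩
      · rw [Set.mem_singleton_iff] at hx
        subst hx
        exact ⟨h2, Subgroup.subset_closure (by simp)⟩
    | one => exact ⟨H.one_mem, Subgroup.one_mem _⟩
    | mul x y _ _ ihx ihy =>
      obtain ⟨hx, hx'⟩ := ihx
      obtain ⟨hy, hy'⟩ := ihy
      exact ⟨H.mul_mem hx hy, Subgroup.mul_mem _ hx' hy'⟩
    | inv x _ ihx =>
      obtain ⟨hx, hx'⟩ := ihx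
      exact ⟨H.inv_mem hx, Subgroup.inv_mem _ hx'⟩
  rintro ⟨x, hx⟩ _
  obtain ⟨_, hx'⟩ := key x (h hx)
  exact hx'

theorem h8nWU_mem_group (D : ChevalleyDatum) (hB : H8Base.{u} D) (hA : H8ReflAll D) (w : List ℕ)
    (hw : ∀ i ∈ w, i < D.rank) : (h8nWU D hB w : GL D.Idx F) ∈ D.group F :=
  h8_N_le_group D hB (h8nWU_mem_N D hB hA w hw)

/-- regime A: one seed, at least three elements -/
theorem h8tg_mainA (D : ChevalleyDatum) (hB : H8Base.{u} D) (hA : H8ReflAll D)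
    (hC : H8CommAll.{u} D) (hBN : H8BN D) (w : List ℕ) (hw : ∀ i ∈ w, i < D.rank)
    (a c : ℕ) (ha : a < D.nroots) (hc : c < D.nroots) (k : F) (hk : k ≠ 0)
    (h1 : k ^ (h8K D c a) ≠ 1) (h2 : k ^ (h8K D (h8sW D w c) a) ≠ 1)
    (hgen : ∀ u : F, u ≠ 0 → ∃ j : ℕ, u = (k ^ (h8K D c a)) ^ j)
    (coefs : List ℤ) (hco : ∀ z ∈ coefs, ((z : ℤ) : F) ≠ 0) (steps : List H8tgStep)
    (hchk : h8tgChk D coefs [a] [w] [] steps = true) :
    ∃ x y : ↥(D.group F), Subgroup.closure ({x, y} : Set ↥(D.group F)) = ⊤ := by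
  apply h8tg_top (D.group F) (h8hU D hB c k) (h8xU D hB a (1 : F) * h8nWU D hB w)
    (h8hU_mem_group D hB c k)
    (Subgroup.mul_mem _ (h8xU_mem_group D hB a 1) (h8nWU_mem_group D hB hA w hw))
  set M := Subgroup.closure ({h8hU D hB c k, h8xU D hB a (1 : F) * h8nWU D hB w} :
    Set (GL D.Idx F)) with hM
  have hh : h8hU D hB c k ∈ M := Subgroup.subset_closure (by simp)
  have hg : h8xU D hB a (1 : F) * h8nWU D hB w ∈ M := Subgroup.subset_closure (by simp)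
  obtain ⟨hRa, hnw⟩ := h8tg_trick D hB hA M w hw c a hc ha k hk h1 h2 hgen hh hg
  apply h8tg_sound D hB hA hC hBN M coefs hco [a] [w] [] steps
  · intro r hr
    rw [List.mem_singleton] at hr
    subst hr
    exact ⟨ha, hRa⟩
  · intro w' hw'
    rw [List.mem_singleton] at hw'
    subst hw'
    exact ⟨hw, hnw⟩
  · intro c' hc'
    simp at hc'
  · exact Or.inl rfl
  · exact hchk

/-- the torus elements obtained from `h_c(k)` by iterating a Weyl group word -/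
theorem h8tg_h_iter (D : ChevalleyDatum) (hB : H8Base.{u} D) (hA : H8ReflAll D)
    (M : Subgroup (GL D.Idx F)) (w : List ℕ) (hw : ∀ i ∈ w, i < D.rank)
    (hn : (h8nWU D hB w : GL D.Idx F) ∈ M) (c : ℕ) (hc : c < D.nroots) (k : F) (hk : k ≠ 0)
    (hh : h8hU D hB c k ∈ M) (i : ℕ) :
    (h8sW D w)^[i] c < D.nroots ∧ h8hU D hB ((h8sW D w)^[i] c) k ∈ M := by
  induction i with
  | zero => exact ⟨hc, hh⟩
  | succ i ih =>
    rw [Function.iterate_succ_apply']
    refine ⟨h8sW_lt D hA w hw _ ih.1, ?_⟩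
    rw [← h8tg_nw_h D hB hA w hw _ ih.1 k hk]
    exact Subgroup.mul_mem _ (Subgroup.mul_mem _ hn ih.2) (Subgroup.inv_mem _ hn)

/-- regime B: two seeds, at least three elements -/
theorem h8tg_mainB [Fintype F] (D : ChevalleyDatum) (hB : H8Base.{u} D) (hA : H8ReflAll D)
    (hC : H8CommAll.{u} D) (hBN : H8BN D) (w : List ℕ) (hw : ∀ i ∈ w, i < D.rank)
    (a b c : ℕ) (i : ℕ) (ha : a < D.nroots) (hb : b < D.nroots) (hc : c < D.nroots) (k : F)
    (hk : k ≠ 0) (h0 : h8K D c b = 0)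
    (h1 : k ^ (h8K D c a) ≠ 1) (h2 : k ^ (h8K D (h8sW D w c) a) ≠ 1)
    (hgen : ∀ u : F, u ≠ 0 → ∃ j : ℕ, u = (k ^ (h8K D c a)) ^ j)
    (hgen3 : ∀ u : F, u ≠ 0 → ∃ j : ℕ, u = (k ^ (h8K D ((h8sW D w)^[i] c) b)) ^ j)
    (coefs : List ℤ) (hco : ∀ z ∈ coefs, ((z : ℤ) : F) ≠ 0) (steps : List H8tgStep)
    (hchk : h8tgChk D coefs [a, b] [w] [] steps = true) :
    ∃ x y : ↥(D.group F), Subgroup.closure ({x, y} : Set ↥(D.group F)) = ⊤ := by
  apply h8tg_top (D.group F) (h8hU D hB c k * h8xU D hB b (1 : F))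
    (h8xU D hB a (1 : F) * h8nWU D hB w)
    (Subgroup.mul_mem _ (h8hU_mem_group D hB c k) (h8xU_mem_group D hB b 1))
    (Subgroup.mul_mem _ (h8xU_mem_group D hB a 1) (h8nWU_mem_group D hB hA w hw))
  set M := Subgroup.closure ({h8hU D hB c k * h8xU D hB b (1 : F),
    h8xU D hB a (1 : F) * h8nWU D hB w} : Set (GL D.Idx F)) with hM
  have hg1 : h8hU D hB c k * h8xU D hB b (1 : F) ∈ M := Subgroup.subset_closure (by simp)
  have hg : h8xU D hB a (1 : F) * h8nWU D hB w ∈ M := Subgroup.subset_closure (by simp)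
  obtain ⟨hh, hxb⟩ := h8tg_split D hB M c b hc hb k hk h0 hg1
  obtain ⟨hRa, hnw⟩ := h8tg_trick D hB hA M w hw c a hc ha k hk h1 h2 hgen hh hg
  obtain ⟨hci, hhi⟩ := h8tg_h_iter D hB hA M w hw hnw c hc k hk hh i
  have hRb : H8InR D hB M b :=
    h8tg_fill D hB M _ b hci hb k hk hgen3 hhi 1 one_ne_zero hxb
  apply h8tg_sound D hB hA hC hBN M coefs hco [a, b] [w] [] steps
  · intro r hr
    simp only [List.mem_cons, List.not_mem_nil, or_false] at hr
    rcases hr with rfl | rfl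
    · exact ⟨ha, hRa⟩
    · exact ⟨hb, hRb⟩
  · intro w' hw'
    rw [List.mem_singleton] at hw'
    subst hw'
    exact ⟨hw, hnw⟩
  · intro c' hc'
    simp at hc'
  · exact Or.inl rfl
  · exact hchk

end Cfsg.Agent.Lib.helper8
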