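import Mathlib

/-! Abstract lemmas for the generation of twisted groups by two elements. -/

set_option autoImplicit false

namespace Cfsg.Agent.Lib.helper8

universe u v

variable {K : Type u} [Field K] {G : Type v} [Group G]

/-- a one-parameter subgroup: basic consequences of additivity -/
theorem h8tt_X_zero (X : K → G) (hadd : ∀ a b, X (a + b) = X a * X b) : X 0 = 1 := by
  have := hadd 0 0
  rw [add_zero] at this
  exact (mul_eq_left.mp this.symm)

theorem h8tt_X_neg (X : K → G) (hadd : ∀ a b, X (a + b) = X a * X b) (a : K) :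
    X (-a) = (X a)⁻¹ := by
  have := hadd (-a) a
  rw [neg_add_cancel, h8tt_X_zero X hadd] at this
  exact eq_inv_of_mul_eq_one_left this.symm

theorem h8tt_conj_pow (X : K → G) (h : G) (χ : K) (hconj : ∀ t, h * X t * h⁻¹ = X (χ * t))
    (j : ℕ) (t : K) : h ^ j * X t * (h ^ j)⁻¹ = X (χ ^ j * t) := by
  induction j generalizing t with
  | zero => simp
  | succ j ih =>
    rw [pow_succ, mul_inv_rev, pow_succ]
    have : h ^ j * h * X t * (h⁻¹ * (h ^ j)⁻¹) = h ^ j * (h * X t * h⁻¹) * (h ^ j)⁻¹ := by group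
    rw [this, hconj, ih, mul_assoc]

/-- filling a one-parameter subgroup from one non-trivial element and a torus element -/
theorem h8tt_fill (M : Subgroup G) (X : K → G) (L : Set K) (h : G) (hh : h ∈ M) (χ : K)
    (hconj : ∀ t, h * X t * h⁻¹ = X (χ * t)) (v : K) (hv : X v ∈ M) (h0 : X 0 = 1)
    (hgen : ∀ t ∈ L, t ≠ 0 → ∃ j : ℕ, t = χ ^ j * v) : ∀ t ∈ L, X t ∈ M := by
  intro t ht
  by_cases h0' : t = 0
  · rw [h0', h0]
    exact Subgroup.one_mem _
  · obtain ⟨j, rfl⟩ := hgen t ht h0'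
    rw [← h8tt_conj_pow X h χ hconj j v]
    exact Subgroup.mul_mem _ (Subgroup.mul_mem _ (Subgroup.pow_mem _ hh _) hv)
      (Subgroup.inv_mem _ (Subgroup.pow_mem _ hh _))

/-- the main trick: from a torus element `h` and `X(1) n` to the whole one-parameter subgroup
`X` and `n` -/
theorem h8tt_trick (M : Subgroup G) (X : K → G) (hadd : ∀ a b, X (a + b) = X a * X b)
    (h n : G) (hh : h ∈ M) (hg : X 1 * n ∈ M) (χ χ' : K)
    (hconj : ∀ t, h * X t * h⁻¹ = X (χ * t))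
    (hconj' : ∀ t, (n * h * n⁻¹) * X t * (n * h * n⁻¹)⁻¹ = X (χ' * t))
    (hcomm : Commute h (n * h * n⁻¹)) (hχ : χ ≠ 1) (hχ' : χ' ≠ 1) (hχ0 : χ' ≠ 0)
    (hgen : ∀ u : K, u ≠ 0 → ∃ j : ℕ, u = χ ^ j) : (∀ t, X t ∈ M) ∧ n ∈ M := by
  have hX0 := h8tt_X_zero X hadd
  have hXn := h8tt_X_neg X hadd
  set h' := n * h * n⁻¹ with hh'
  -- the conjugate of `h` by `X 1 * n`
  have h1 : (X 1 * n) * h * (X 1 * n)⁻¹ = X 1 * h' * (X 1)⁻¹ := by
    rw [hh']; group
  have h1M : X 1 * h' * (X 1)⁻¹ ∈ M := by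
    rw [← h1]
    exact Subgroup.mul_mem _ (Subgroup.mul_mem _ hg hh) (Subgroup.inv_mem _ hg)
  -- inverse conjugation by `h'`
  have hinv : ∀ t, h'⁻¹ * X t * h' = X (χ'⁻¹ * t) := by
    intro t
    have := hconj' (χ'⁻¹ * t)
    rw [← mul_assoc, mul_inv_cancel₀ hχ0, one_mul] at this
    rw [← this]
    group
  have h2 : X 1 * h' * (X 1)⁻¹ = h' * X (χ'⁻¹ - 1) := by
    have e : X 1 * h' * (X 1)⁻¹ = h' * (h'⁻¹ * X 1 * h') * (X 1)⁻¹ := by group
    rw [e, hinv, mul_one, mul_assoc, ← hXn, ← hadd, sub_eq_add_neg]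
  set u := χ'⁻¹ - 1 with hu
  have hu0 : u ≠ 0 := by
    rw [hu, sub_ne_zero]
    intro h
    apply hχ'
    rw [← inv_inv χ', h, inv_one]
  rw [h2] at h1M
  -- the commutator with `h`
  have h3 : h * (h' * X u) * h⁻¹ * (h' * X u)⁻¹ = X (χ' * ((χ - 1) * u)) := by
    have e : h * (h' * X u) * h⁻¹ * (h' * X u)⁻¹ =
        (h * h') * h⁻¹ * (h * X u * h⁻¹) * (X u)⁻¹ * h'⁻¹ := by group
    rw [e, hcomm.eq, hconj, ← hXn]
    have e2 : h' * h * h⁻¹ * X (χ * u) * X (-u) * h'⁻¹ = h' * (X (χ * u) * X (-u)) * h'⁻¹ := by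
      group
    rw [e2, ← hadd, hconj']
    congr 1
    ring
  have h3M : X (χ' * ((χ - 1) * u)) ∈ M := by
    rw [← h3]
    exact Subgroup.mul_mem _ (Subgroup.mul_mem _ (Subgroup.mul_mem _ hh h1M)
      (Subgroup.inv_mem _ hh)) (Subgroup.inv_mem _ h1M)
  have hv0 : χ' * ((χ - 1) * u) ≠ 0 :=
    mul_ne_zero hχ0 (mul_ne_zero (sub_ne_zero.mpr hχ) hu0)
  have hall : ∀ t, X t ∈ M := by
    intro t
    apply h8tt_fill M X Set.univ h hh χ hconj _ h3M hX0 _ t (Set.mem_univ _)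
    intro t _ ht
    obtain ⟨j, hj⟩ := hgen (t / (χ' * ((χ - 1) * u))) (div_ne_zero ht hv0)
    exact ⟨j, by rw [← hj, div_mul_cancel₀ _ hv0]⟩
  refine ⟨hall, ?_⟩
  have : n = (X 1)⁻¹ * (X 1 * n) := by group
  rw [this]
  exact Subgroup.mul_mem _ (Subgroup.inv_mem _ (hall 1)) hg

/-- splitting a product of commuting elements of coprime orders -/
theorem h8tt_split (M : Subgroup G) (h y : G) (hc : Commute h y) (N : ℕ) (hy : y ^ N = 1)
    (hh : h ^ N = h) (hg : h * y ∈ M) : h ∈ M ∧ y ∈ M := by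
  have h1 : (h * y) ^ N = h := by rw [hc.mul_pow, hy, mul_one, hh]
  have hM : h ∈ M := by
    rw [← h1]
    exact Subgroup.pow_mem _ hg _
  refine ⟨hM, ?_⟩
  have : y = h⁻¹ * (h * y) := by group
  rw [this]
  exact Subgroup.mul_mem _ (Subgroup.inv_mem _ hM) hg

end Cfsg.Agent.Lib.helper8
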