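import Mathlib
import Cfsg.Prelude.Def_ChevStructure
import Cfsg.Agent.Lib.helper8.ChevTT1
import Cfsg.Agent.Lib.helper8.ChevTw5
import Cfsg.Agent.Lib.helper8.ChevTits1

/-! Twisted root elements as norms under the twisting endomorphism. -/

set_option autoImplicit false

namespace Cfsg.Agent.Lib.helper8

open Cfsg.Lie Cfsg.Lie.ChevalleyDatum

universe u v

section abstract
variable {G : Type v} [Group G]

/-- the product `g · S g ⋯ S^{m-1} g` -/
def h8ttN (S : G →* G) : ℕ → G → G
  | 0, _ => 1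
  | m + 1, g => g * S (h8ttN S m g)

theorem h8ttN_one (S : G →* G) (g : G) : h8ttN S 1 g = g := by
  simp [h8ttN]

theorem h8ttN_two (S : G →* G) (g : G) : h8ttN S 2 g = g * S g := by
  simp [h8ttN]

theorem h8ttN_three (S : G →* G) (g : G) : h8ttN S 3 g = g * S g * S (S g) := by
  simp [h8ttN, mul_assoc]

theorem h8ttN_conj (S : G →* G) (n : G) (hn : S n = n) (m : ℕ) (g : G) :
    n * h8ttN S m g * n⁻¹ = h8ttN S m (n * g * n⁻¹) := by
  induction m with
  | zero => simp [h8ttN]
  | succ m ih =>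
    simp only [h8ttN]
    rw [← ih, map_mul, map_mul, map_inv, hn]
    group

theorem h8ttN_map (S : G →* G) (m : ℕ) (g : G) : h8ttN S m (S g) = S (h8ttN S m g) := by
  induction m with
  | zero => simp [h8ttN]
  | succ m ih =>
    simp only [h8ttN]
    rw [ih, map_mul]

theorem h8ttN_succ' (S : G →* G) (m : ℕ) (g : G) :
    h8ttN S (m + 1) g = h8ttN S m g * S^[m] g := by
  induction m with
  | zero => simp [h8ttN]
  | succ m ih =>
    rw [h8ttN, ih, map_mul, ← mul_assoc, Function.iterate_succ_apply']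
    congr 1

/-- rotating a fixed norm -/
theorem h8ttN_rot (S : G →* G) (m : ℕ) (g : G) (hfix : S^[m] g = g)
    (hc : Commute g (h8ttN S m g)) : h8ttN S m (S g) = h8ttN S m g := by
  rw [h8ttN_map]
  have h1 : g * S (h8ttN S m g) = h8ttN S m g * g := by
    have := h8ttN_succ' S m g
    rw [hfix] at this
    exact this
  have h2 : S (h8ttN S m g) = g⁻¹ * (h8ttN S m g * g) := by
    rw [← h1]; group
  rw [h2, ← hc.eq]
  group

theorem h8ttN_commute (S : G →* G) (m : ℕ) (g g' : G)
    (h : ∀ i < m, Commute g' (S^[i] g)) : Commute g' (h8ttN S m g) := by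
  induction m with
  | zero => exact Commute.one_right _
  | succ m ih =>
    rw [h8ttN_succ']
    exact (ih fun i hi => h i (Nat.lt_succ_of_lt hi)).mul_right (h m (Nat.lt_succ_self m))

/-- norms of commuting families are multiplicative -/
theorem h8ttN_mul (S : G →* G) (m : ℕ) (g g' : G)
    (h : ∀ i < m, ∀ j < m, Commute (S^[i] g') (S^[j] g)) :
    h8ttN S m (g * g') = h8ttN S m g * h8ttN S m g' := by
  induction m with
  | zero => simp [h8ttN]
  | succ m ih =>
    rw [h8ttN_succ', h8ttN_succ', h8ttN_succ',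
      ih fun i hi j hj => h i (Nat.lt_succ_of_lt hi) j (Nat.lt_succ_of_lt hj)]
    have e : S^[m] (g * g') = S^[m] g * S^[m] g' := by
      have : ∀ k : ℕ, ∀ a b : G, S^[k] (a * b) = S^[k] a * S^[k] b := by
        intro k
        induction k with
        | zero => intro a b; rfl
        | succ k ihk => intro a b; rw [Function.iterate_succ_apply, map_mul, ihk]; rfl
      exact this m g g'
    rw [e]
    have hc : Commute (h8ttN S m g') (S^[m] g) := by
      apply Commute.symm
      apply h8ttN_commute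
      intro i hi
      exact (h i (Nat.lt_succ_of_lt hi) m (Nat.lt_succ_self m)).symm
    calc h8ttN S m g * h8ttN S m g' * (S^[m] g * S^[m] g')
        = h8ttN S m g * (h8ttN S m g' * S^[m] g) * S^[m] g' := by group
      _ = h8ttN S m g * (S^[m] g * h8ttN S m g') * S^[m] g' := by rw [hc.eq]
      _ = _ := by group

end abstract

variable {K : Type u} [Field K]

section
variable (D : ChevalleyDatum) (σ τ π ϖ : ℕ → ℕ) (η : ℕ → ℤ) (hAut : H8Aut D σ τ π ϖ η)
  (f : K ≃+* K) (hB : H8Base.{u} D)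

theorem h8Sig_injective : Function.Injective (h8Sig D σ τ π ϖ η hAut f) := by
  intro a b hab
  unfold h8Sig at hab
  simp only [MonoidHom.coe_comp, Function.comp_apply] at hab
  exact h8Psi_injective D _ ((MulAut.conj _).injective hab)

/-- the size of the orbit of a root -/
def h8ttM (r : ℕ) : ℕ := if σ r = r then 1 else if σ (σ r) = r then 2 else 3

/-- all twisted root elements of the orbit of `r` lie in `M` -/
def H8InT (M : Subgroup (GL D.Idx K)) (r : ℕ) : Prop :=
  ∀ t : K, (h8Sig D σ τ π ϖ η hAut f)^[h8ttM σ r] (h8xU D hB r t) = h8xU D hB r t →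
    h8ttN (h8Sig D σ τ π ϖ η hAut f) (h8ttM σ r) (h8xU D hB r t) ∈ M

/-- conjugation by an element of `N ∩ M` -/
theorem h8tt_act (M : Subgroup (GL D.Idx K))
    (hfix : ∀ g ∈ M, h8Sig D σ τ π ϖ η hAut f g = g) (n : GL D.Idx K) (hn : n ∈ M)
    (r r' : ℕ) (hact : H8Act D hB n r r') (hm : h8ttM σ r' = h8ttM σ r)
    (h : H8InT D σ τ π ϖ η hAut f hB M r) : H8InT D σ τ π ϖ η hAut f hB M r' := by
  obtain ⟨c, hc, hconj⟩ := hact
  intro t' ht'
  rw [hm] at ht' ⊢
  have hSn := hfix n hn
  have e : h8xU D hB r' t' = n * h8xU D hB r (c⁻¹ * t') * n⁻¹ := by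
    rw [hconj, ← mul_assoc, mul_inv_cancel₀ hc, one_mul]
  have hiter : ∀ (k : ℕ) (g : GL D.Idx K), (h8Sig D σ τ π ϖ η hAut f)^[k] (n * g * n⁻¹) =
      n * (h8Sig D σ τ π ϖ η hAut f)^[k] g * n⁻¹ := by
    intro k
    induction k with
    | zero => intro g; rfl
    | succ k ih =>
      intro g
      rw [Function.iterate_succ_apply', ih, map_mul, map_mul, map_inv, hSn,
        ← Function.iterate_succ_apply' (h8Sig D σ τ π ϖ η hAut f)]
  have h1 : (h8Sig D σ τ π ϖ η hAut f)^[h8ttM σ r] (h8xU D hB r (c⁻¹ * t')) =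
      h8xU D hB r (c⁻¹ * t') := by
    rw [e, hiter] at ht'
    exact mul_left_cancel (mul_right_cancel ht')
  have h2 := h _ h1
  rw [e, ← h8ttN_conj _ n hSn]
  exact Subgroup.mul_mem _ (Subgroup.mul_mem _ hn h2) (Subgroup.inv_mem _ hn)

/-- passing to the next root of the orbit -/
theorem h8tt_rot (M : Subgroup (GL D.Idx K)) (r : ℕ) (hr : r < D.nroots)
    (hm : h8ttM σ (σ r) = h8ttM σ r)
    (hcomm : ∀ i < h8ttM σ r, ∀ t u : K, Commute (h8xU D hB r t)
      ((h8Sig D σ τ π ϖ η hAut f)^[i] (h8xU D hB r u)))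
    (h : H8InT D σ τ π ϖ η hAut f hB M r) : H8InT D σ τ π ϖ η hAut f hB M (σ r) := by
  intro t' ht'
  rw [hm] at ht' ⊢
  have hη : ((η r : ℤ) : K) * ((η r : ℤ) : K) = 1 := h8eta_sq _ (hAut.eta1 r hr)
  set t := f.symm (((η r : ℤ) : K) * t') with ht
  have e : h8xU D hB (σ r) t' = h8Sig D σ τ π ϖ η hAut f (h8xU D hB r t) := by
    rw [h8Sig_xU D σ τ π ϖ η hAut f hB r hr, ht, RingEquiv.apply_symm_apply, ← mul_assoc, hη,
      one_mul]
  have h1 : (h8Sig D σ τ π ϖ η hAut f)^[h8ttM σ r] (h8xU D hB r t) = h8xU D hB r t := by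
    rw [e, ← Function.iterate_succ_apply, Function.iterate_succ_apply'] at ht'
    exact h8Sig_injective D σ τ π ϖ η hAut f ht'
  rw [e, h8ttN_rot _ _ _ h1 (h8ttN_commute _ _ _ _ fun i hi => hcomm i hi t t)]
  exact h _ h1

end

end Cfsg.Agent.Lib.helper8
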