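import Mathlib
import Cfsg.Prelude.Def_ChevStructure
import Cfsg.Agent.Lib.helper8.ChevTT2
import Cfsg.Agent.Lib.helper8.ChevTw7

/-! The certificate checker for the closure of twisted root subgroups inside a subgroup. -/

set_option autoImplicit false

namespace Cfsg.Agent.Lib.helper8

open Cfsg.Lie Cfsg.Lie.ChevalleyDatum

universe u

variable {K : Type u} [Field K]

/-- a derivation step -/
inductive H8ttStep
  | word (wi r : ℕ)
  | rot (r : ℕ)
  | refl (k : ℕ)

/-- the state: known roots, known Weyl words -/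
structure H8ttState where
  R : List ℕ
  ws : List (List ℕ)

/-- the root subgroups of `a` and `b` commute, by the table -/
def h8ttPairOK (D : ChevalleyDatum) (a b : ℕ) : Bool :=
  decide (b < D.nroots) && decide (b ≠ a) && decide (b ≠ D.negIdx.getD a 0) &&
    decide (D.commTerms a b = [])

/-- the root subgroups of the orbit of `r` commute with that of `r` -/
def h8ttRotOK (D : ChevalleyDatum) (σ : ℕ → ℕ) (r : ℕ) : Bool :=
  decide (h8ttM σ r = 1) || (decide (h8ttM σ r = 2) && h8ttPairOK D r (σ r)) ||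
    (decide (h8ttM σ r = 3) && h8ttPairOK D r (σ r) && h8ttPairOK D r (σ (σ r)))

/-- one step of the checker -/
def h8ttStep (D : ChevalleyDatum) (σ : ℕ → ℕ) (orbs : List (List ℕ)) (st : H8ttState) :
    H8ttStep → Option H8ttState
  | .word wi r =>
    match st.ws[wi]? with
    | some w =>
      if r ∈ st.R ∧ h8ttM σ (h8sW D w r) = h8ttM σ r then
        some { st with R := h8sW D w r :: st.R } else none
    | none => none
  | .rot r =>
    if r ∈ st.R ∧ h8ttM σ (σ r) = h8ttM σ r ∧ h8ttRotOK D σ r = true then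
      some { st with R := σ r :: st.R } else none
  | .refl k =>
    match orbs[k]? with
    | some J =>
      if D.simple (J.headD 0) ∈ st.R ∧ D.negIdx.getD (D.simple (J.headD 0)) 0 ∈ st.R then
        some { st with ws := J :: st.ws } else none
    | none => none

/-- running the checker -/
def h8ttRun (D : ChevalleyDatum) (σ : ℕ → ℕ) (orbs : List (List ℕ)) :
    H8ttState → List H8ttStep → Option H8ttState
  | st, [] => some st
  | st, s :: l =>
    match h8ttStep D σ orbs st s with
    | some st' => h8ttRun D σ orbs st' l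
    | none => none

/-- the complete check: the heads of all simple orbits and their negatives are reached -/
def h8ttChk (D : ChevalleyDatum) (σ : ℕ → ℕ) (orbs : List (List ℕ)) (seeds : List ℕ)
    (ws : List (List ℕ)) (steps : List H8ttStep) : Bool :=
  match h8ttRun D σ orbs ⟨seeds, ws⟩ steps with
  | some st => orbs.all fun J =>
      decide (D.simple (J.headD 0) ∈ st.R) &&
        decide (D.negIdx.getD (D.simple (J.headD 0)) 0 ∈ st.R)
  | none => false

section
variable (D : ChevalleyDatum) (σ τ π ϖ : ℕ → ℕ) (η : ℕ → ℤ) (hAut : H8Aut D σ τ π ϖ η)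
  (f : K ≃+* K) (hB : H8Base.{u} D)

/-- the invariant of the checker -/
structure H8ttInv (M : Subgroup (GL D.Idx K)) (st : H8ttState) : Prop where
  R : ∀ r ∈ st.R, r < D.nroots ∧ H8InT D σ τ π ϖ η hAut f hB M r
  ws : ∀ w ∈ st.ws, (∀ i ∈ w, i < D.rank) ∧ (h8nWU D hB w : GL D.Idx K) ∈ M

theorem h8ttPairOK_spec (hC : H8CommAll.{u} D) (a b : ℕ) (ha : a < D.nroots)
    (h : h8ttPairOK D a b = true) (t u : K) :
    Commute (h8xU D hB a t) (h8xU D hB b u) := by
  unfold h8ttPairOK at h
  simp only [Bool.and_eq_true, decide_eq_true_eq] at h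
  obtain ⟨⟨⟨h1, h2⟩, h3⟩, h4⟩ := h
  exact h8xU_commute D hB hC a b ha h1 h2 h3 h4 t u

theorem h8ttRotOK_spec (hC : H8CommAll.{u} D) (r : ℕ) (hr : r < D.nroots)
    (h : h8ttRotOK D σ r = true) :
    ∀ i < h8ttM σ r, ∀ t u : K, Commute (h8xU D hB r t)
      ((h8Sig D σ τ π ϖ η hAut f)^[i] (h8xU D hB r u)) := by
  have h0 : ∀ t u : K, Commute (h8xU D hB r t) (h8xU D hB r u) := by
    intro t u
    show _ * _ = _ * _
    rw [h8xU_add D hB r hr, h8xU_add D hB r hr, add_comm]
  have h1 : ∀ u : K, (h8Sig D σ τ π ϖ η hAut f)^[1] (h8xU D hB r u) =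
      h8xU D hB (σ r) (((η r : ℤ) : K) * f u) := by
    intro u
    rw [Function.iterate_one, h8Sig_xU D σ τ π ϖ η hAut f hB r hr]
  have h2 : ∀ u : K, (h8Sig D σ τ π ϖ η hAut f)^[2] (h8xU D hB r u) =
      h8xU D hB (σ (σ r)) (((η (σ r) : ℤ) : K) * f (((η r : ℤ) : K) * f u)) := by
    intro u
    rw [Function.iterate_succ_apply', h1, h8Sig_xU D σ τ π ϖ η hAut f hB _ (hAut.lt r hr)]
  unfold h8ttRotOK at h
  simp only [Bool.or_eq_true, Bool.and_eq_true, decide_eq_true_eq] at h
  intro i hi t u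
  rcases h with (hm | ⟨hm, hp⟩) | ⟨⟨hm, hp⟩, hp'⟩
  · rw [hm] at hi
    obtain rfl : i = 0 := by omega
    exact h0 t u
  · rw [hm] at hi
    obtain rfl | rfl : i = 0 ∨ i = 1 := by omega
    · exact h0 t u
    · rw [h1]
      exact h8ttPairOK_spec D hB hC _ _ hr hp _ _
  · rw [hm] at hi
    obtain rfl | rfl | rfl : i = 0 ∨ i = 1 ∨ i = 2 := by omega
    · exact h0 t u
    · rw [h1]
      exact h8ttPairOK_spec D hB hC _ _ hr hp _ _
    · rw [h2]
      exact h8ttPairOK_spec D hB hC _ _ hr hp' _ _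

theorem h8ttStep_inv (hA : H8ReflAll D) (hC : H8CommAll.{u} D) (M : Subgroup (GL D.Idx K))
    (hfix : ∀ g ∈ M, h8Sig D σ τ π ϖ η hAut f g = g) (orbs : List (List ℕ))
    (hrefl : ∀ J ∈ orbs, (∀ i ∈ J, i < D.rank) ∧
      (H8InT D σ τ π ϖ η hAut f hB M (D.simple (J.headD 0)) →
        H8InT D σ τ π ϖ η hAut f hB M (D.negIdx.getD (D.simple (J.headD 0)) 0) →
        (h8nWU D hB J : GL D.Idx K) ∈ M))
    (st st' : H8ttState) (s : H8ttStep) (h : h8ttStep D σ orbs st s = some st')
    (hI : H8ttInv D σ τ π ϖ η hAut f hB M st) : H8ttInv D σ τ π ϖ η hAut f hB M st' := by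
  cases s with
  | word wi r =>
    simp only [h8ttStep] at h
    split at h
    · rename_i w hw
      split_ifs at h with hr
      simp only [Option.some.injEq] at h
      subst h
      have hwm : w ∈ st.ws := List.mem_of_getElem? hw
      obtain ⟨hwlt, hwM⟩ := hI.ws w hwm
      obtain ⟨hrlt, hrM⟩ := hI.R r hr.1
      refine ⟨?_, hI.ws⟩
      intro r' hr'
      rcases List.mem_cons.mp hr' with rfl | hr'
      · refine ⟨h8sW_lt D hA w hwlt r hrlt, ?_⟩
        exact h8tt_act D σ τ π ϖ η hAut f hB M hfix _ hwM r _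
          (h8actN_act D hB _ _ _ (h8actN_word (F := K) D hB hA w hwlt r hrlt)) hr.2 hrM
      · exact hI.R r' hr'
    · exact absurd h (by simp)
  | rot r =>
    simp only [h8ttStep] at h
    split_ifs at h with hr
    simp only [Option.some.injEq] at h
    subst h
    obtain ⟨hrlt, hrM⟩ := hI.R r hr.1
    refine ⟨?_, hI.ws⟩
    intro r' hr'
    rcases List.mem_cons.mp hr' with rfl | hr'
    · refine ⟨hAut.lt r hrlt, ?_⟩
      exact h8tt_rot D σ τ π ϖ η hAut f hB M r hrlt hr.2.1
        (h8ttRotOK_spec D σ τ π ϖ η hAut f hB hC r hrlt hr.2.2) hrM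
    · exact hI.R r' hr'
  | refl k =>
    simp only [h8ttStep] at h
    split at h
    · rename_i J hJ
      split_ifs at h with hr
      simp only [Option.some.injEq] at h
      subst h
      have hJm : J ∈ orbs := List.mem_of_getElem? hJ
      obtain ⟨hJlt, hJM⟩ := hrefl J hJm
      refine ⟨hI.R, ?_⟩
      intro w hw
      rcases List.mem_cons.mp hw with rfl | hw
      · exact ⟨hJlt, hJM (hI.R _ hr.1).2 (hI.R _ hr.2).2⟩
      · exact hI.ws w hw
    · exact absurd h (by simp)

theorem h8ttRun_inv (hA : H8ReflAll D) (hC : H8CommAll.{u} D) (M : Subgroup (GL D.Idx K))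
    (hfix : ∀ g ∈ M, h8Sig D σ τ π ϖ η hAut f g = g) (orbs : List (List ℕ))
    (hrefl : ∀ J ∈ orbs, (∀ i ∈ J, i < D.rank) ∧
      (H8InT D σ τ π ϖ η hAut f hB M (D.simple (J.headD 0)) →
        H8InT D σ τ π ϖ η hAut f hB M (D.negIdx.getD (D.simple (J.headD 0)) 0) →
        (h8nWU D hB J : GL D.Idx K) ∈ M))
    (steps : List H8ttStep) : ∀ (st st' : H8ttState),
    h8ttRun D σ orbs st steps = some st' → H8ttInv D σ τ π ϖ η hAut f hB M st →
      H8ttInv D σ τ π ϖ η hAut f hB M st' := by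
  induction steps with
  | nil =>
    intro st st' h hI
    simp only [h8ttRun, Option.some.injEq] at h
    subst h
    exact hI
  | cons s l ih =>
    intro st st' h hI
    simp only [h8ttRun] at h
    split at h
    · rename_i st1 h1
      exact ih st1 st' h
        (h8ttStep_inv D σ τ π ϖ η hAut f hB hA hC M hfix orbs hrefl st st1 s h1 hI)
    · exact absurd h (by simp)

/-- soundness of the checker -/
theorem h8tt_sound (hA : H8ReflAll D) (hC : H8CommAll.{u} D) (M : Subgroup (GL D.Idx K))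
    (hfix : ∀ g ∈ M, h8Sig D σ τ π ϖ η hAut f g = g) (orbs : List (List ℕ))
    (hrefl : ∀ J ∈ orbs, (∀ i ∈ J, i < D.rank) ∧
      (H8InT D σ τ π ϖ η hAut f hB M (D.simple (J.headD 0)) →
        H8InT D σ τ π ϖ η hAut f hB M (D.negIdx.getD (D.simple (J.headD 0)) 0) →
        (h8nWU D hB J : GL D.Idx K) ∈ M))
    (seeds : List ℕ) (ws : List (List ℕ)) (steps : List H8ttStep)
    (hseeds : ∀ r ∈ seeds, r < D.nroots ∧ H8InT D σ τ π ϖ η hAut f hB M r)
    (hws : ∀ w ∈ ws, (∀ i ∈ w, i < D.rank) ∧ (h8nWU D hB w : GL D.Idx K) ∈ M)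
    (hchk : h8ttChk D σ orbs seeds ws steps = true) :
    ∀ J ∈ orbs, H8InT D σ τ π ϖ η hAut f hB M (D.simple (J.headD 0)) ∧
      H8InT D σ τ π ϖ η hAut f hB M (D.negIdx.getD (D.simple (J.headD 0)) 0) := by
  unfold h8ttChk at hchk
  split at hchk
  · rename_i st hst
    have hI := h8ttRun_inv D σ τ π ϖ η hAut f hB hA hC M hfix orbs hrefl steps _ st hst
      ⟨hseeds, hws⟩
    intro J hJ
    rw [List.all_eq_true] at hchk
    have := hchk J hJ
    simp only [Bool.and_eq_true, decide_eq_true_eq] at this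
    exact ⟨(hI.R _ this.1).2, (hI.R _ this.2).2⟩
  · exact absurd hchk (by simp)

end

end Cfsg.Agent.Lib.helper8
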