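import Mathlib

/-! Finite field lemmas for the generation of twisted groups by two elements. -/

set_option autoImplicit false

namespace Cfsg.Agent.Lib.helper8

universe u

variable {K : Type u} [Field K]

/-- an element of maximal order generates the multiplicative group -/
theorem h8tt_gen_of_order [Fintype K] (x : K) (hx : x ≠ 0)
    (hord : orderOf x = Fintype.card K - 1) : ∀ u : K, u ≠ 0 → ∃ j : ℕ, u = x ^ j := by
  classical
  intro u hu
  set g : Kˣ := Units.mk0 x hx with hg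
  have hordg : orderOf g = Fintype.card Kˣ := by
    rw [Fintype.card_units, ← hord, ← orderOf_units, hg, Units.val_mk0]
  have htop : Subgroup.zpowers g = ⊤ := by
    apply Subgroup.eq_top_of_card_eq
    rw [Nat.card_zpowers, hordg, Nat.card_eq_fintype_card]
  have hmem : Units.mk0 u hu ∈ Subgroup.zpowers g := by rw [htop]; exact Subgroup.mem_top _
  have hfin : IsOfFinOrder g := isOfFinOrder_of_finite g
  obtain ⟨j, hj⟩ := hfin.mem_powers_iff_mem_zpowers.mpr hmem
  refine ⟨j, ?_⟩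
  have := congrArg (fun y : Kˣ => (y : K)) hj
  simp only [Units.val_pow_eq_pow_val, Units.val_mk0, hg] at this
  exact this.symm

/-- a generator of the multiplicative group together with its order -/
theorem h8tt_gen [Fintype K] : ∃ k : K, k ≠ 0 ∧ orderOf k = Fintype.card K - 1 := by
  classical
  obtain ⟨g, hg⟩ := IsCyclic.exists_generator (α := Kˣ)
  refine ⟨(g : K), Units.ne_zero g, ?_⟩
  rw [orderOf_units, orderOf_eq_card_of_forall_mem_zpowers hg, Nat.card_eq_fintype_card,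
    Fintype.card_units]

/-- the inverse of a generator generates -/
theorem h8tt_gen_inv (x : K) (hgen : ∀ u : K, u ≠ 0 → ∃ j : ℕ, u = x ^ j) :
    ∀ u : K, u ≠ 0 → ∃ j : ℕ, u = x⁻¹ ^ j := by
  intro u hu
  obtain ⟨j, hj⟩ := hgen u⁻¹ (inv_ne_zero hu)
  exact ⟨j, by rw [inv_pow, ← hj, inv_inv]⟩

/-- a power of a generator with exponent prime to the order generates -/
theorem h8tt_gen_pow [Fintype K] (k : K) (hk : k ≠ 0) (hord : orderOf k = Fintype.card K - 1)
    (m : ℕ) (hm : Nat.Coprime (Fintype.card K - 1) m) :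
    ∀ u : K, u ≠ 0 → ∃ j : ℕ, u = (k ^ m) ^ j := by
  apply h8tt_gen_of_order _ (pow_ne_zero _ hk)
  rw [← hord] at hm ⊢
  exact hm.orderOf_pow

/-- a power of a generator is not `1` if the exponent is positive and below the order -/
theorem h8tt_pow_ne_one (k : K) (N : ℕ) (hord : orderOf k = N) (m : ℕ) (h0 : 0 < m)
    (hm : m < N) : k ^ m ≠ 1 := by
  intro h
  have := orderOf_dvd_of_pow_eq_one h
  rw [hord] at this
  exact absurd (Nat.le_of_dvd h0 this) (by omega)

/-- the fixed points of `t ↦ t ^ q` among the powers of a generator of order `(q - 1) c` -/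
theorem h8tt_gen_fix (k : K) (hk : k ≠ 0) (q c : ℕ) (hq : 1 < q) (hord : orderOf k = (q - 1) * c)
    (u : K) (e : ℕ) (hue : u = k ^ e) (hfix : u ^ q = u) :
    ∃ j : ℕ, u = (k ^ c) ^ j := by
  have h1 : k ^ (e * (q - 1)) = 1 := by
    have h2 : k ^ (e * q) = k ^ e := by rw [pow_mul, ← hue, hfix]
    have h3 : e * q = e * (q - 1) + e := by
      have : q = (q - 1) + 1 := by omega
      nth_rewrite 1 [this]
      ring
    rw [h3, pow_add] at h2
    have hke : k ^ e ≠ 0 := pow_ne_zero _ hk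
    exact mul_right_cancel₀ hke (by rw [h2, one_mul])
  have h4 := orderOf_dvd_of_pow_eq_one h1
  rw [hord, mul_comm e] at h4
  have hq1 : 0 < q - 1 := by omega
  obtain ⟨j, hj⟩ := (Nat.mul_dvd_mul_iff_left hq1).mp h4
  exact ⟨j, by rw [hue, hj, pow_mul]⟩

/-- `q² + q - 1` is prime to `q³ - 1` -/
theorem h8tt_coprime3 (q : ℕ) (hq : 2 ≤ q) : Nat.Coprime (q ^ 3 - 1) (q ^ 2 + q - 1) := by
  have h1 : 1 ≤ q ^ 3 := Nat.one_le_pow _ _ (by omega)
  have h2 : 1 ≤ q ^ 2 + q := by nlinarith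
  have key : (q ^ 2 + q - 1) * (q ^ 2 + q) = (q + 2) * (q ^ 3 - 1) + 2 := by
    zify [h1, h2]
    ring
  have hodd : ¬ 2 ∣ (q ^ 2 + q - 1) := by
    have : 2 ∣ q ^ 2 + q := by
      have : q ^ 2 + q = q * (q + 1) := by ring
      rw [this]
      exact (Nat.even_mul_succ_self q).two_dvd
    omega
  apply Nat.Coprime.symm
  rw [Nat.coprime_iff_gcd_eq_one]
  set g := Nat.gcd (q ^ 2 + q - 1) (q ^ 3 - 1) with hg
  have hg1 : g ∣ q ^ 2 + q - 1 := Nat.gcd_dvd_left _ _
  have hg2 : g ∣ q ^ 3 - 1 := Nat.gcd_dvd_right _ _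
  have hg3 : g ∣ 2 := by
    have ha : g ∣ (q ^ 2 + q - 1) * (q ^ 2 + q) := Dvd.dvd.mul_right hg1 _
    have hb : g ∣ (q + 2) * (q ^ 3 - 1) := Dvd.dvd.mul_left hg2 _
    rw [key] at ha
    exact (Nat.dvd_add_right hb).mp ha
  have hle : g ≤ 2 := Nat.le_of_dvd (by norm_num) hg3
  have hpos : 0 < g := Nat.pos_of_dvd_of_pos hg3 (by norm_num)
  interval_cases g
  · rfl
  · exact absurd hg1 hodd

end Cfsg.Agent.Lib.helper8
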