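import Mathlib
import Cfsg.Prelude.Def_ChevStructure
import Cfsg.Prelude.Def_ChevWords
import Cfsg.Agent.Lib.helper8.ChevTT3
import Cfsg.Agent.Lib.helper8.ChevTT4
import Cfsg.Agent.Lib.helper8.ChevTG5

/-! Torus elements and one-parameter twisted root subgroups. -/

set_option autoImplicit false

namespace Cfsg.Agent.Lib.helper8

open Cfsg.Lie Cfsg.Lie.ChevalleyDatum

universe u v

variable {K : Type u} [Field K]

section abstract
variable {G : Type v} [Group G]

theorem h8tt_iter_mul (S : G →* G) (k : ℕ) (a b : G) : S^[k] (a * b) = S^[k] a * S^[k] b := by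
  induction k generalizing a b with
  | zero => rfl
  | succ k ih => rw [Function.iterate_succ_apply, map_mul, ih]; rfl

theorem h8tt_iter_commute (S : G →* G) (a b : G) (i d : ℕ) (h : Commute a (S^[d] b)) :
    Commute (S^[i] a) (S^[i + d] b) := by
  induction i with
  | zero => rw [Nat.zero_add]; exact h
  | succ i ih =>
    rw [Function.iterate_succ_apply', Nat.succ_add, Function.iterate_succ_apply']
    exact ih.map S

end abstract

section
variable (D : ChevalleyDatum) (hB : H8Base.{u} D)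

/-- a subgroup containing the generating words contains the generated subgroup -/
theorem h8tt_gen_le (S : Set (List (ℕ × K))) (M : Subgroup (GL D.Idx K))
    (h : ∀ w ∈ S, h8wordU D hB w ∈ M) : D.genSubgroup K S ≤ M := by
  unfold ChevalleyDatum.genSubgroup
  rw [Subgroup.closure_le]
  rintro g ⟨w, hw, hg⟩
  have hg' : g = h8wordU D hB w := Units.ext (hg.trans (h8wordU_val D hB w).symm)
  rw [hg']
  exact h w hw

/-- a product of torus elements -/
def h8ttH (L : List (ℕ × K)) : GL D.Idx K := (L.map fun p => h8hU D hB p.1 p.2).prod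

/-- the character of a product of torus elements -/
def h8ttChi (L : List (ℕ × K)) (r : ℕ) : K := (L.map fun p => p.2 ^ (h8K D p.1 r)).prod

theorem h8ttH_conj (L : List (ℕ × K)) (hL : ∀ p ∈ L, p.1 < D.nroots ∧ p.2 ≠ 0) (r : ℕ)
    (hr : r < D.nroots) (t : K) :
    h8ttH D hB L * h8xU D hB r t * (h8ttH D hB L)⁻¹ = h8xU D hB r (h8ttChi D L r * t) := by
  induction L generalizing t with
  | nil => simp [h8ttH, h8ttChi]
  | cons p L ih =>
    have hp := hL p List.mem_cons_self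
    have hL' : ∀ p' ∈ L, p'.1 < D.nroots ∧ p'.2 ≠ 0 := fun p' hp' =>
      hL p' (List.mem_cons_of_mem _ hp')
    have e1 : h8ttH D hB (p :: L) = h8hU D hB p.1 p.2 * h8ttH D hB L := by
      unfold h8ttH
      rw [List.map_cons, List.prod_cons]
    have e2 : h8ttChi D (p :: L) r = p.2 ^ (h8K D p.1 r) * h8ttChi D L r := by
      unfold h8ttChi
      rw [List.map_cons, List.prod_cons]
    rw [e1, e2]
    have : h8hU D hB p.1 p.2 * h8ttH D hB L * h8xU D hB r t *
        (h8hU D hB p.1 p.2 * h8ttH D hB L)⁻¹ =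
        h8hU D hB p.1 p.2 * (h8ttH D hB L * h8xU D hB r t * (h8ttH D hB L)⁻¹) *
          (h8hU D hB p.1 p.2)⁻¹ := by group
    rw [this, ih hL', h8tg_hconj D hB p.1 r hp.1 hr p.2 hp.2, mul_assoc]

theorem h8ttH_nw (hA : H8ReflAll D) (w : List ℕ) (hw : ∀ i ∈ w, i < D.rank)
    (L : List (ℕ × K)) (hL : ∀ p ∈ L, p.1 < D.nroots ∧ p.2 ≠ 0) :
    (h8nWU D hB w : GL D.Idx K) * h8ttH D hB L * (h8nWU D hB w)⁻¹ =
      h8ttH D hB (L.map fun p => (h8sW D w p.1, p.2)) := by
  induction L with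
  | nil => simp [h8ttH]
  | cons p L ih =>
    have hp := hL p List.mem_cons_self
    have hL' : ∀ p' ∈ L, p'.1 < D.nroots ∧ p'.2 ≠ 0 := fun p' hp' =>
      hL p' (List.mem_cons_of_mem _ hp')
    have e1 : h8ttH D hB (p :: L) = h8hU D hB p.1 p.2 * h8ttH D hB L := by
      unfold h8ttH
      rw [List.map_cons, List.prod_cons]
    have e2 : h8ttH D hB ((p :: L).map fun p => (h8sW D w p.1, p.2)) =
        h8hU D hB (h8sW D w p.1) p.2 * h8ttH D hB (L.map fun p => (h8sW D w p.1, p.2)) := by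
      unfold h8ttH
      rw [List.map_cons, List.map_cons, List.prod_cons]
    rw [e1, e2, ← ih hL', ← h8tg_nw_h D hB hA w hw p.1 hp.1 p.2 hp.2]
    group

theorem h8ttH_commute_h (L : List (ℕ × K)) (hL : ∀ p ∈ L, p.1 < D.nroots ∧ p.2 ≠ 0) (c : ℕ)
    (hc : c < D.nroots) (k : K) (hk : k ≠ 0) : Commute (h8hU D hB c k) (h8ttH D hB L) := by
  induction L with
  | nil => simp [h8ttH]
  | cons p L ih =>
    have hp := hL p List.mem_cons_self
    have hL' : ∀ p' ∈ L, p'.1 < D.nroots ∧ p'.2 ≠ 0 := fun p' hp' =>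
      hL p' (List.mem_cons_of_mem _ hp')
    have e1 : h8ttH D hB (p :: L) = h8hU D hB p.1 p.2 * h8ttH D hB L := by
      unfold h8ttH
      rw [List.map_cons, List.prod_cons]
    rw [e1]
    exact Commute.mul_right (h8tg_h_comm D hB c p.1 hc hp.1 k p.2 hk hp.2) (ih hL')

theorem h8ttH_commute (L L' : List (ℕ × K)) (hL : ∀ p ∈ L, p.1 < D.nroots ∧ p.2 ≠ 0)
    (hL' : ∀ p ∈ L', p.1 < D.nroots ∧ p.2 ≠ 0) : Commute (h8ttH D hB L) (h8ttH D hB L') := by
  induction L with
  | nil => simp [h8ttH]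
  | cons p L ih =>
    have hp := hL p List.mem_cons_self
    have hL1 : ∀ p' ∈ L, p'.1 < D.nroots ∧ p'.2 ≠ 0 := fun p' hp' =>
      hL p' (List.mem_cons_of_mem _ hp')
    have e1 : h8ttH D hB (p :: L) = h8hU D hB p.1 p.2 * h8ttH D hB L := by
      unfold h8ttH
      rw [List.map_cons, List.prod_cons]
    rw [e1]
    exact Commute.mul_left (h8ttH_commute_h D hB L' hL' p.1 hp.1 p.2 hp.2) (ih hL1)

theorem h8ttH_pow_card [Fintype K] (L : List (ℕ × K))
    (hL : ∀ p ∈ L, p.1 < D.nroots ∧ p.2 ≠ 0) :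
    h8ttH D hB L ^ Fintype.card K = h8ttH D hB L := by
  induction L with
  | nil => simp [h8ttH]
  | cons p L ih =>
    have hp := hL p List.mem_cons_self
    have hL' : ∀ p' ∈ L, p'.1 < D.nroots ∧ p'.2 ≠ 0 := fun p' hp' =>
      hL p' (List.mem_cons_of_mem _ hp')
    have e1 : h8ttH D hB (p :: L) = h8hU D hB p.1 p.2 * h8ttH D hB L := by
      unfold h8ttH
      rw [List.map_cons, List.prod_cons]
    rw [e1, (h8ttH_commute_h D hB L hL' p.1 hp.1 p.2 hp.2).mul_pow, ih hL']
    congr 1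
    obtain ⟨n, hn⟩ : ∃ n, Fintype.card K = n + 1 :=
      ⟨Fintype.card K - 1, by have := Fintype.card_pos (α := K); omega⟩
    rw [hn, h8tg_h_pow D hB p.1 hp.1 p.2 hp.2, ← hn, FiniteField.pow_card]

end

section
variable (D : ChevalleyDatum) (σ τ π ϖ : ℕ → ℕ) (η : ℕ → ℤ) (hAut : H8Aut D σ τ π ϖ η)
  (f : K ≃+* K) (hB : H8Base.{u} D)

/-- the twisted root elements of a root whose orbit consists of commuting root subgroups are
additive in the parameter -/
theorem h8tt_X_add (hC : H8CommAll.{u} D) (r : ℕ) (hr : r < D.nroots)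
    (hrot : h8ttRotOK D σ r = true) (a b : K) :
    h8ttN (h8Sig D σ τ π ϖ η hAut f) (h8ttM σ r) (h8xU D hB r (a + b)) =
      h8ttN (h8Sig D σ τ π ϖ η hAut f) (h8ttM σ r) (h8xU D hB r a) *
        h8ttN (h8Sig D σ τ π ϖ η hAut f) (h8ttM σ r) (h8xU D hB r b) := by
  have hsp := h8ttRotOK_spec D σ τ π ϖ η hAut f hB hC r hr hrot
  rw [← h8xU_add D hB r hr]
  apply h8ttN_mul
  intro i hi j hj
  rcases Nat.le_total i j with hij | hij
  · obtain ⟨d, rfl⟩ := Nat.exists_eq_add_of_le hij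
    exact h8tt_iter_commute _ _ _ i d (hsp d (by omega) b a)
  · obtain ⟨d, rfl⟩ := Nat.exists_eq_add_of_le hij
    exact (h8tt_iter_commute _ _ _ j d (hsp d (by omega) a b)).symm

/-- conjugation of a twisted root element by a fixed element normalizing the root subgroup -/
theorem h8tt_h_conj (h : GL D.Idx K) (hh : h8Sig D σ τ π ϖ η hAut f h = h) (r : ℕ) (χ : K)
    (hconj : ∀ t, h * h8xU D hB r t * h⁻¹ = h8xU D hB r (χ * t)) (m : ℕ) (t : K) :
    h * h8ttN (h8Sig D σ τ π ϖ η hAut f) m (h8xU D hB r t) * h⁻¹ =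
      h8ttN (h8Sig D σ τ π ϖ η hAut f) m (h8xU D hB r (χ * t)) := by
  rw [h8ttN_conj _ h hh, hconj]

end

end Cfsg.Agent.Lib.helper8
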