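import Mathlib
import Cfsg.Prelude.Def_ChevStructure
import Cfsg.Prelude.Def_ChevG2
import Cfsg.Agent.Lib.helper8.ChevTT5
import Cfsg.Agent.Lib.helper8.ChevFix4
import Cfsg.Agent.Lib.helper8.ChevCore
import Cfsg.Agent.Lib.helper8.ChevH3

set_option autoImplicit false

namespace Cfsg.Agent.Lib.helper8

open Cfsg.Lie Cfsg.Lie.ChevalleyDatum

universe u

variable {F : Type u} [Field F]

/-- an element of `H` acting trivially on all root subgroups is trivial -/
theorem h8H_eq_one (D : ChevalleyDatum) (hB : H8Base.{u} D) (hA : H8ReflAll D) (hW : H8BN2 D)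
    (hsc : h8scChk D = true) (g : GL D.Idx F) (hg : g ∈ D.diagonalSubgroup F)
    (hact : ∀ r < D.nroots, g * h8xU D hB r 1 * g⁻¹ = h8xU D hB r (1 : F)) : g = 1 := by
  obtain ⟨c, hc, hval⟩ := h8_H_eq_Phi D hB g hg
  have key : ∀ s (hs : s < D.nroots), h8Phi D D.rank c (Sum.inr ⟨s, hs⟩) = 1 := by
    intro s hs
    have h1 := h8Phi_conj_x D hB hsc c hc s hs D.rank le_rfl (1 : F)
    rw [← hval] at h1
    have h2 : g * h8xU D hB s 1 = h8xU D hB s (h8Phi D D.rank c (Sum.inr ⟨s, hs⟩) * 1) * g := by
      apply Units.ext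
      rw [Units.val_mul, Units.val_mul, h8xU_val, h8xU_val]
      exact h1
    have h3 : g * h8xU D hB s 1 * g⁻¹ = h8xU D hB s (h8Phi D D.rank c (Sum.inr ⟨s, hs⟩) * 1) := by
      rw [h2]; group
    rw [hact s hs, mul_one] at h3
    exact (h8xU_inj_t D hB hA hW s hs _ _ h3).symm
  apply Units.ext
  rw [hval, Units.val_one, ← Matrix.diagonal_one]
  congr 1
  funext x
  rcases x with k | v
  · rfl
  · exact key v.val v.2

/-- two elements of `H` acting in the same way on all root subgroups are equal -/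
theorem h8H_ext (D : ChevalleyDatum) (hB : H8Base.{u} D) (hA : H8ReflAll D) (hW : H8BN2 D)
    (hsc : h8scChk D = true) (h h' : GL D.Idx F) (hh : h ∈ D.diagonalSubgroup F)
    (hh' : h' ∈ D.diagonalSubgroup F)
    (hact : ∀ r < D.nroots, h * h8xU D hB r 1 * h⁻¹ = h' * h8xU D hB r (1 : F) * h'⁻¹) :
    h = h' := by
  have h1 : h'⁻¹ * h = 1 := by
    apply h8H_eq_one D hB hA hW hsc _ (Subgroup.mul_mem _ (Subgroup.inv_mem _ hh') hh)
    intro r hr
    have : h'⁻¹ * h * h8xU D hB r 1 * (h'⁻¹ * h)⁻¹ = h'⁻¹ * (h * h8xU D hB r 1 * h⁻¹) * h' := by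
      group
    rw [this, hact r hr]
    group
  calc h = h' * (h'⁻¹ * h) := by group
    _ = h' := by rw [h1, mul_one]

/-- the torus element with given values on the simple coroots -/
theorem h8H_param (D : ChevalleyDatum) (hB : H8Base.{u} D) (hsc : h8scChk D = true)
    (h : GL D.Idx F) (hh : h ∈ D.diagonalSubgroup F) :
    ∃ c : ℕ → F, (∀ i, c i ≠ 0) ∧
      h = h8ttH D hB ((List.range D.rank).map fun i => (D.simple i, c i)) := by
  obtain ⟨c, hc, hval⟩ := h8_H_eq_Phi D hB h hh
  refine ⟨c, hc, ?_⟩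
  have key : ∀ n ≤ D.rank, h8ttH D hB ((List.range n).map fun i => (D.simple i, c i)) =
      h8wordU D hB ((List.range n).flatMap fun i => D.hWord (D.simple i) (c i)) := by
    intro n
    induction n with
    | zero => intro _; rfl
    | succ n ih =>
      intro hn
      rw [List.range_succ, List.map_append, List.flatMap_append, h8wordU_append, ← ih (by omega)]
      unfold h8ttH
      rw [List.map_append, List.prod_append]
      congr 1
      simp only [List.map_cons, List.map_nil, List.prod_cons, List.prod_nil, mul_one,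
        List.flatMap_cons, List.flatMap_nil, List.append_nil]
      rfl
  rw [key D.rank le_rfl]
  apply Units.ext
  rw [hval, h8wordU_val, h8wordMat_flatMap_range D hB hsc c (fun i _ => hc i) D.rank le_rfl]

end Cfsg.Agent.Lib.helper8
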