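import Mathlib
import Cfsg.Prelude.Def_ChevStructure
import Cfsg.Prelude.Def_ChevG2
import Cfsg.Agent.Lib.helper8.ChevInvG2a
import Cfsg.Agent.Lib.helper8.ChevInvG2b
import Cfsg.Agent.Lib.helper8.ChevReflDataG2
import Cfsg.Agent.Lib.helper8.ChevTits1

set_option autoImplicit false

namespace Cfsg.Agent.Lib.helper8

open Cfsg.Lie Cfsg.Lie.ChevalleyDatum

universe u

variable {F : Type u} [Field F]

/-- the sign by which the standard lift of the word `w` acts on the root subgroup `X_r` -/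
def h8g2Eps : List ℕ → ℕ → ℤ
  | [], _ => 1
  | i :: w, r => (h8eta_G2 i).getD (h8sW chevG2 w r) 0 * h8g2Eps w r

theorem h8g2_n_conj (hB : H8Base.{u} chevG2) (i : ℕ) (hi : i < chevG2.rank) (s : ℕ)
    (hs : s < chevG2.nroots) (t : F) :
    h8nU chevG2 hB (chevG2.simple i) (1 : F) * h8xU chevG2 hB s t *
      (h8nU chevG2 hB (chevG2.simple i) (1 : F))⁻¹ =
      h8xU chevG2 hB (chevG2.reflectRoot i s) ((((h8eta_G2 i).getD s 0 : ℤ) : F) * t) := by
  rw [mul_inv_eq_iff_eq_mul]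
  apply Units.ext
  rw [Units.val_mul, Units.val_mul, h8nU_val, h8xU_val, h8xU_val]
  have hr : chevG2.rank = 2 := rfl
  rw [hr] at hi
  interval_cases i
  · exact h8n_simple_conj chevG2 0 (by decide) (h8eta_G2 0) (h8n_G2 0 (by decide)).1
      (h8n_G2 0 (by decide)).2 h8ceChk_G2 h8CAchk_G2 h8reflChk_G2_0 s hs t
  · exact h8n_simple_conj chevG2 1 (by decide) (h8eta_G2 1) (h8n_G2 1 (by decide)).1
      (h8n_G2 1 (by decide)).2 h8ceChk_G2 h8CAchk_G2 h8reflChk_G2_1 s hs t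

theorem h8g2_nW_conj (hB : H8Base.{u} chevG2) (hA : H8ReflAll chevG2) (w : List ℕ)
    (hw : ∀ i ∈ w, i < chevG2.rank) (r : ℕ) (hr : r < chevG2.nroots) (t : F) :
    (h8nWU chevG2 hB w : GL chevG2.Idx F) * h8xU chevG2 hB r t * (h8nWU chevG2 hB w)⁻¹ =
      h8xU chevG2 hB (h8sW chevG2 w r) (((h8g2Eps w r : ℤ) : F) * t) := by
  induction w generalizing t with
  | nil =>
    show (1 : GL chevG2.Idx F) * h8xU chevG2 hB r t * 1⁻¹ = h8xU chevG2 hB r (((1 : ℤ) : F) * t)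
    rw [one_mul, inv_one, mul_one, Int.cast_one, one_mul]
  | cons i w ih =>
    have hw' : ∀ j ∈ w, j < chevG2.rank := fun j hj => hw j (List.mem_cons_of_mem _ hj)
    have hi := hw i List.mem_cons_self
    rw [h8nWU_cons]
    have e : h8nU chevG2 hB (chevG2.simple i) 1 * h8nWU chevG2 hB w * h8xU chevG2 hB r t *
        (h8nU chevG2 hB (chevG2.simple i) 1 * h8nWU chevG2 hB w)⁻¹ =
        h8nU chevG2 hB (chevG2.simple i) 1 *
          (h8nWU chevG2 hB w * h8xU chevG2 hB r t * (h8nWU chevG2 hB w)⁻¹) *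
          (h8nU chevG2 hB (chevG2.simple i) (1 : F))⁻¹ := by group
    rw [e, ih hw', h8g2_n_conj hB i hi _ (h8sW_lt chevG2 hA w hw' r hr)]
    show h8xU chevG2 hB (chevG2.reflectRoot i (h8sW chevG2 w r)) _ =
      h8xU chevG2 hB (chevG2.reflectRoot i (h8sW chevG2 w r)) _
    congr 1
    show _ = (((h8eta_G2 i).getD (h8sW chevG2 w r) 0 * h8g2Eps w r : ℤ) : F) * t
    push_cast
    ring

/-- the torus element `h_α(c₀) h_β(c₁)` -/
def h8g2T (hB : H8Base.{u} chevG2) (c0 c1 : F) : GL chevG2.Idx F :=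
  h8ttH chevG2 hB [(7, c0), (6, c1)]

/-- the character of `h_α(c₀) h_β(c₁)` on the root `r` -/
def h8g2Chi (c0 c1 : F) (r : ℕ) : F := c0 ^ (h8K chevG2 7 r) * c1 ^ (h8K chevG2 6 r)

theorem h8g2T_mem (hB : H8Base.{u} chevG2) (c0 c1 : F) (h0 : c0 ≠ 0) (h1 : c1 ≠ 0) :
    h8g2T hB c0 c1 ∈ chevG2.diagonalSubgroup F := by
  unfold h8g2T h8ttH
  simp only [List.map_cons, List.map_nil, List.prod_cons, List.prod_nil, mul_one]
  exact Subgroup.mul_mem _ (h8hU_mem_H chevG2 hB 7 (by decide) c0 h0)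
    (h8hU_mem_H chevG2 hB 6 (by decide) c1 h1)

theorem h8g2T_conj (hB : H8Base.{u} chevG2) (c0 c1 : F) (h0 : c0 ≠ 0) (h1 : c1 ≠ 0) (r : ℕ)
    (hr : r < chevG2.nroots) (t : F) :
    h8g2T hB c0 c1 * h8xU chevG2 hB r t * (h8g2T hB c0 c1)⁻¹ =
      h8xU chevG2 hB r (h8g2Chi c0 c1 r * t) := by
  unfold h8g2T
  rw [h8ttH_conj chevG2 hB _ _ r hr t]
  · congr 2
    simp only [h8ttChi, List.map_cons, List.map_nil, List.prod_cons, List.prod_nil, mul_one]
    rfl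
  · intro p hp
    simp only [List.mem_cons, List.not_mem_nil, or_false] at hp
    rcases hp with rfl | rfl
    · exact ⟨show 7 < chevG2.nroots by decide, h0⟩
    · exact ⟨show 6 < chevG2.nroots by decide, h1⟩

theorem h8g2T_param (hB : H8Base.{u} chevG2) (h : GL chevG2.Idx F)
    (hh : h ∈ chevG2.diagonalSubgroup F) :
    ∃ c0 c1 : F, c0 ≠ 0 ∧ c1 ≠ 0 ∧ h = h8g2T hB c0 c1 := by
  obtain ⟨c, hc, e⟩ := h8H_param chevG2 hB (h8scChk_all chevG2 (by simp)) h hh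
  exact ⟨c 0, c 1, hc 0, hc 1, e⟩

end Cfsg.Agent.Lib.helper8
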