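import Mathlib
import Cfsg.Prelude.Def_ChevStructure
import Cfsg.Prelude.Def_ChevG2
import Cfsg.Agent.Lib.helper8.ChevInvG2c
import Cfsg.Agent.Lib.helper8.ChevInv3
import Cfsg.Agent.Lib.helper8.ChevBNAll
import Cfsg.Agent.Lib.helper8.ChevBNAll2
import Cfsg.Agent.Lib.helper8.ChevOrdAll

set_option autoImplicit false

namespace Cfsg.Agent.Lib.helper8

open Cfsg.Lie Cfsg.Lie.ChevalleyDatum

universe u

variable {F : Type u} [Field F]

theorem h8g2_mem : chevG2 ∈ [chevG2, chevB2, chevD4, chevF4, chevE6, chevE7, chevE8] := by simp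

/-- the standard form of an element of `N` -/
theorem h8g2_N_param (hB : H8Base.{u} chevG2) (hA : H8ReflAll chevG2) (hBN : H8BN chevG2)
    (hW : H8BN2 chevG2) (hO2 : H8Ord2 chevG2) (n : ↥(chevG2.monomialSubgroup F)) (w : List ℕ)
    (hw : ∀ i ∈ w, i < chevG2.rank)
    (hπ : h8Pi chevG2 hB hA hBN hW hO2 n = h8wPerm chevG2 hA w) :
    ∃ c0 c1 : F, c0 ≠ 0 ∧ c1 ≠ 0 ∧ n.val = h8g2T hB c0 c1 * h8nWU chevG2 hB w := by
  have hmem := h8nWU_mem_N (F := F) chevG2 hB hA w hw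
  have h1 : h8Pi chevG2 hB hA hBN hW hO2 (n * ⟨h8nWU chevG2 hB w, hmem⟩⁻¹) = 1 := by
    rw [map_mul, map_inv, h8Pi_nWU chevG2 hB hA hBN hW hO2 w hw, hπ, mul_inv_cancel]
  have h2 := h8Pi_ker chevG2 hB hA hBN hW hO2 _ h1
  obtain ⟨c0, c1, h0, h1', e⟩ := h8g2T_param hB _ h2
  refine ⟨c0, c1, h0, h1', ?_⟩
  rw [← e]
  show n.val = n.val * (h8nWU chevG2 hB w)⁻¹ * h8nWU chevG2 hB w
  group

/-- conjugation of a root element by an element of `N` in standard form -/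
theorem h8g2_N_conj (hB : H8Base.{u} chevG2) (hA : H8ReflAll chevG2) (c0 c1 : F) (h0 : c0 ≠ 0)
    (h1 : c1 ≠ 0) (w : List ℕ) (hw : ∀ i ∈ w, i < chevG2.rank) (r : ℕ) (hr : r < chevG2.nroots)
    (t : F) :
    (h8g2T hB c0 c1 * h8nWU chevG2 hB w) * h8xU chevG2 hB r t *
      (h8g2T hB c0 c1 * h8nWU chevG2 hB w)⁻¹ =
      h8xU chevG2 hB (h8sW chevG2 w r)
        (h8g2Chi c0 c1 (h8sW chevG2 w r) * (((h8g2Eps w r : ℤ) : F) * t)) := by
  have e : (h8g2T hB c0 c1 * h8nWU chevG2 hB w) * h8xU chevG2 hB r t *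
      (h8g2T hB c0 c1 * h8nWU chevG2 hB w)⁻¹ =
      h8g2T hB c0 c1 * (h8nWU chevG2 hB w * h8xU chevG2 hB r t * (h8nWU chevG2 hB w)⁻¹) *
        (h8g2T hB c0 c1)⁻¹ := by group
  rw [e, h8g2_nW_conj hB hA w hw r hr, h8g2T_conj hB c0 c1 h0 h1 _ (h8sW_lt chevG2 hA w hw r hr)]

/-- the relation satisfied by the parameters of an involution of `N` -/
theorem h8g2_inv_rel (hB : H8Base.{u} chevG2) (hA : H8ReflAll chevG2) (hW : H8BN2 chevG2)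
    (c0 c1 : F) (h0 : c0 ≠ 0)
    (h1 : c1 ≠ 0) (w : List ℕ) (hw : ∀ i ∈ w, i < chevG2.rank)
    (hnn : (h8g2T hB c0 c1 * h8nWU chevG2 hB w) * (h8g2T hB c0 c1 * h8nWU chevG2 hB w) = 1)
    (r : ℕ) (hr : r < chevG2.nroots) (hwr : h8sW chevG2 w (h8sW chevG2 w r) = r) :
    h8g2Chi c0 c1 r * (((h8g2Eps w (h8sW chevG2 w r) : ℤ) : F) *
      (h8g2Chi c0 c1 (h8sW chevG2 w r) * (((h8g2Eps w r : ℤ) : F) * 1))) = 1 := by
  set n := h8g2T hB c0 c1 * h8nWU chevG2 hB w with hn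
  have hninv : n⁻¹ = n := by rw [inv_eq_iff_mul_eq_one]; exact hnn
  have e1 : n * (n * h8xU chevG2 hB r 1 * n⁻¹) * n⁻¹ = h8xU chevG2 hB r (1 : F) := by
    rw [hninv]
    have : n * (n * h8xU chevG2 hB r 1 * n) * n = (n * n) * h8xU chevG2 hB r 1 * (n * n) := by
      group
    rw [this, hnn, one_mul, mul_one]
  rw [h8g2_N_conj hB hA c0 c1 h0 h1 w hw r hr,
    h8g2_N_conj hB hA c0 c1 h0 h1 w hw _ (h8sW_lt chevG2 hA w hw r hr), hwr] at e1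
  exact h8xU_inj_t chevG2 hB hA hW r hr _ _ e1

end Cfsg.Agent.Lib.helper8
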