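import Mathlib
import Cfsg.Prelude.Def_ChevStructure
import Cfsg.Prelude.Def_ChevG2
import Cfsg.Agent.Lib.helper8.ChevInvG2d
set_option autoImplicit false
namespace Cfsg.Agent.Lib.helper8
open Cfsg.Lie Cfsg.Lie.ChevalleyDatum
universe u
variable {F : Type u} [Field F]

theorem h8g2K_tab : (List.range 12).map (fun r => (h8K chevG2 7 r, h8K chevG2 6 r)) =
    [(0, -1), (-3, 1), (-1, 0), (1, -1), (-2, 1), (3, -2), (-3, 2), (2, -1), (-1, 1), (1, 0),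
      (3, -1), (0, 1)] := by decide +kernel

theorem h8g2K_val (r : ℕ) (hr : r < 12) (a b : ℤ)
    (h : ([(0, -1), (-3, 1), (-1, 0), (1, -1), (-2, 1), (3, -2), (-3, 2), (2, -1), (-1, 1), (1, 0),
      (3, -1), (0, 1)] : List (ℤ × ℤ))[r]? = some (a, b)) :
    h8K chevG2 7 r = a ∧ h8K chevG2 6 r = b := by
  have := h8g2K_tab
  rw [← this] at h
  rw [List.getElem?_map, List.getElem?_range hr] at h
  simp only [Option.map_some, Option.some.injEq, Prod.mk.injEq] at h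
  exact h

theorem h8g2Chi_0 (c0 c1 : F) : h8g2Chi c0 c1 0 = c1⁻¹ := by
  obtain ⟨h1, h2⟩ := h8g2K_val 0 (by norm_num) (0) (-1) rfl
  unfold h8g2Chi
  rw [h1, h2]
  norm_num [zpow_neg]

theorem h8g2Chi_1 (c0 c1 : F) : h8g2Chi c0 c1 1 = (c0 ^ 3)⁻¹ * c1 := by
  obtain ⟨h1, h2⟩ := h8g2K_val 1 (by norm_num) (-3) (1) rfl
  unfold h8g2Chi
  rw [h1, h2]
  norm_num [zpow_neg]

theorem h8g2Chi_2 (c0 c1 : F) : h8g2Chi c0 c1 2 = c0⁻¹ := by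
  obtain ⟨h1, h2⟩ := h8g2K_val 2 (by norm_num) (-1) (0) rfl
  unfold h8g2Chi
  rw [h1, h2]
  norm_num [zpow_neg]

theorem h8g2Chi_3 (c0 c1 : F) : h8g2Chi c0 c1 3 = c0 * c1⁻¹ := by
  obtain ⟨h1, h2⟩ := h8g2K_val 3 (by norm_num) (1) (-1) rfl
  unfold h8g2Chi
  rw [h1, h2]
  norm_num [zpow_neg]

theorem h8g2Chi_4 (c0 c1 : F) : h8g2Chi c0 c1 4 = (c0 ^ 2)⁻¹ * c1 := by
  obtain ⟨h1, h2⟩ := h8g2K_val 4 (by norm_num) (-2) (1) rfl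
  unfold h8g2Chi
  rw [h1, h2]
  norm_num [zpow_neg]

theorem h8g2Chi_5 (c0 c1 : F) : h8g2Chi c0 c1 5 = c0 ^ 3 * (c1 ^ 2)⁻¹ := by
  obtain ⟨h1, h2⟩ := h8g2K_val 5 (by norm_num) (3) (-2) rfl
  unfold h8g2Chi
  rw [h1, h2]
  norm_num [zpow_neg]

theorem h8g2Chi_6 (c0 c1 : F) : h8g2Chi c0 c1 6 = (c0 ^ 3)⁻¹ * c1 ^ 2 := by
  obtain ⟨h1, h2⟩ := h8g2K_val 6 (by norm_num) (-3) (2) rfl
  unfold h8g2Chi
  rw [h1, h2]
  norm_num [zpow_neg]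

theorem h8g2Chi_7 (c0 c1 : F) : h8g2Chi c0 c1 7 = c0 ^ 2 * c1⁻¹ := by
  obtain ⟨h1, h2⟩ := h8g2K_val 7 (by norm_num) (2) (-1) rfl
  unfold h8g2Chi
  rw [h1, h2]
  norm_num [zpow_neg]

theorem h8g2Chi_8 (c0 c1 : F) : h8g2Chi c0 c1 8 = c0⁻¹ * c1 := by
  obtain ⟨h1, h2⟩ := h8g2K_val 8 (by norm_num) (-1) (1) rfl
  unfold h8g2Chi
  rw [h1, h2]
  norm_num [zpow_neg]

theorem h8g2Chi_9 (c0 c1 : F) : h8g2Chi c0 c1 9 = c0 := by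
  obtain ⟨h1, h2⟩ := h8g2K_val 9 (by norm_num) (1) (0) rfl
  unfold h8g2Chi
  rw [h1, h2]
  norm_num [zpow_neg]

theorem h8g2Chi_10 (c0 c1 : F) : h8g2Chi c0 c1 10 = c0 ^ 3 * c1⁻¹ := by
  obtain ⟨h1, h2⟩ := h8g2K_val 10 (by norm_num) (3) (-1) rfl
  unfold h8g2Chi
  rw [h1, h2]
  norm_num [zpow_neg]

theorem h8g2Chi_11 (c0 c1 : F) : h8g2Chi c0 c1 11 = c1 := by
  obtain ⟨h1, h2⟩ := h8g2K_val 11 (by norm_num) (0) (1) rfl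
  unfold h8g2Chi
  rw [h1, h2]
  norm_num [zpow_neg]

end Cfsg.Agent.Lib.helper8
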