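import Mathlib
import Cfsg.Prelude.Def_ChevStructure
import Cfsg.Prelude.Def_ChevG2
import Cfsg.Agent.Lib.helper8.ChevInvG2e

set_option autoImplicit false

namespace Cfsg.Agent.Lib.helper8

open Cfsg.Lie Cfsg.Lie.ChevalleyDatum

universe u

variable {F : Type u} [Field F]

/-- the conclusion: conjugate to an element of `H` -/
def H8G2ConjH (n : GL chevG2.Idx F) : Prop :=
  ∃ y ∈ chevG2.group F, y * n * y⁻¹ ∈ chevG2.diagonalSubgroup F


theorem h8g2_jump_mem_H (hB : H8Base.{u} chevG2) (hA : H8ReflAll chevG2) (i : ℕ)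
    (hi : i < chevG2.rank) (c0 c1 a : F) (h0 : c0 ≠ 0) (h1 : c1 ≠ 0) (ha : a ≠ 0) :
    h8g2T hB c0 c1 * h8nWU chevG2 hB [i] * h8nU chevG2 hB (chevG2.simple i) a ∈
      chevG2.diagonalSubgroup F := by
  have hlt : chevG2.simple i < chevG2.nroots := by
    have hr : chevG2.rank = 2 := rfl
    rw [hr] at hi
    interval_cases i <;> decide
  have hw : ∀ j ∈ [i], j < chevG2.rank := by
    intro j hj
    rw [List.mem_singleton] at hj
    rw [hj]; exact hi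
  have e0 : (h8nWU chevG2 hB [i] : GL chevG2.Idx F) = h8nU chevG2 hB (chevG2.simple i) 1 := by
    rw [h8nWU_cons]
    show h8nU chevG2 hB (chevG2.simple i) 1 * 1 = _
    rw [mul_one]
  have hnorm := h8nWU_mem_normalizer_H (F := F) chevG2 hB hA [i] hw
  rw [e0] at hnorm
  rw [e0, h8nU_eq_hU chevG2 hB (chevG2.simple i) a]
  have e : h8g2T hB c0 c1 * h8nU chevG2 hB (chevG2.simple i) 1 *
      (h8hU chevG2 hB (chevG2.simple i) a * h8nU chevG2 hB (chevG2.simple i) 1) =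
      h8g2T hB c0 c1 * (h8nU chevG2 hB (chevG2.simple i) 1 * h8hU chevG2 hB (chevG2.simple i) a *
        (h8nU chevG2 hB (chevG2.simple i) (1 : F))⁻¹) *
        (h8nU chevG2 hB (chevG2.simple i) 1 * h8nU chevG2 hB (chevG2.simple i) 1) := by group
  rw [e, h8slp_wsq chevG2 hB _ hlt]
  refine Subgroup.mul_mem _ (Subgroup.mul_mem _ (h8g2T_mem hB c0 c1 h0 h1) ?_)
    (h8hU_mem_H chevG2 hB _ hlt _ (by simp))
  exact (Subgroup.mem_normalizer_iff.mp hnorm _).mp (h8hU_mem_H chevG2 hB _ hlt a ha)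

/-- an involution of `N` over the simple reflection `s_α` is conjugate into `H` -/
theorem h8g2_refl0 (h2 : (2 : F) ≠ 0) (hA : H8ReflAll chevG2)
    (hW : H8BN2 chevG2) (c0 c1 : F) (h0 : c0 ≠ 0) (h1 : c1 ≠ 0)
    (hnn : (h8g2T (h8base_all.{u} chevG2 h8g2_mem) c0 c1 *
        h8nWU chevG2 (h8base_all.{u} chevG2 h8g2_mem) [0]) *
      (h8g2T (h8base_all.{u} chevG2 h8g2_mem) c0 c1 *
        h8nWU chevG2 (h8base_all.{u} chevG2 h8g2_mem) [0]) = 1) :
    H8G2ConjH (h8g2T (h8base_all.{u} chevG2 h8g2_mem) c0 c1 *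
        h8nWU chevG2 (h8base_all.{u} chevG2 h8g2_mem) [0]) := by
  have hw : ∀ i ∈ [0], i < chevG2.rank := by decide
  have rel := h8g2_inv_rel (h8base_all.{u} chevG2 h8g2_mem) hA hW c0 c1 h0 h1 [0] hw hnn 8
    (by decide) (by decide)
  have hs8 : h8sW chevG2 [0] 8 = 9 := by decide
  have he9 : h8g2Eps [0] 9 = -1 := by decide
  have he8 : h8g2Eps [0] 8 = 1 := by decide
  rw [hs8, he9, he8, h8g2Chi_8, h8g2Chi_9] at rel
  have hc1 : c1 = -1 := by
    have : c0⁻¹ * c1 * (((-1 : ℤ) : F) * (c0 * (((1 : ℤ) : F) * 1))) = -c1 := by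
      push_cast
      field_simp
    rw [this] at rel
    rw [← rel]; ring
  -- the action on `x_{-α}`
  have hconj : ∀ s : F, (h8g2T (h8base_all.{u} chevG2 h8g2_mem) c0 c1 *
        h8nWU chevG2 (h8base_all.{u} chevG2 h8g2_mem) [0]) *
      h8xU chevG2 (h8base_all.{u} chevG2 h8g2_mem) (chevG2.negIdx.getD 7 0) s *
      (h8g2T (h8base_all.{u} chevG2 h8g2_mem) c0 c1 *
        h8nWU chevG2 (h8base_all.{u} chevG2 h8g2_mem) [0])⁻¹ =
      h8xU chevG2 (h8base_all.{u} chevG2 h8g2_mem) 7 (c0 ^ 2 * s) := by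
    intro s
    have hneg : chevG2.negIdx.getD 7 0 = 4 := by decide
    rw [hneg, h8g2_N_conj _ hA c0 c1 h0 h1 [0] hw 4 (by decide)]
    have hs4 : h8sW chevG2 [0] 4 = 7 := by decide
    have he4 : h8g2Eps [0] 4 = -1 := by decide
    rw [hs4, he4, h8g2Chi_7, hc1]
    congr 1
    push_cast
    field_simp
  obtain ⟨_, y, hy, hyn⟩ := h8inv_jump chevG2 h8g2_mem h2 _ hnn 7 (by decide) c0 h0 hconj
  refine ⟨y, hy, ?_⟩
  rw [hyn]
  exact h8g2_jump_mem_H _ hA 0 (by decide) c0 c1 c0 h0 h1 h0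

/-- an involution of `N` over the simple reflection `s_β` is conjugate into `H` -/
theorem h8g2_refl1 (h2 : (2 : F) ≠ 0) (hA : H8ReflAll chevG2)
    (hW : H8BN2 chevG2) (c0 c1 : F) (h0 : c0 ≠ 0) (h1 : c1 ≠ 0)
    (hnn : (h8g2T (h8base_all.{u} chevG2 h8g2_mem) c0 c1 *
        h8nWU chevG2 (h8base_all.{u} chevG2 h8g2_mem) [1]) *
      (h8g2T (h8base_all.{u} chevG2 h8g2_mem) c0 c1 *
        h8nWU chevG2 (h8base_all.{u} chevG2 h8g2_mem) [1]) = 1) :
    H8G2ConjH (h8g2T (h8base_all.{u} chevG2 h8g2_mem) c0 c1 *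
        h8nWU chevG2 (h8base_all.{u} chevG2 h8g2_mem) [1]) := by
  have hw : ∀ i ∈ [1], i < chevG2.rank := by decide
  have rel := h8g2_inv_rel (h8base_all.{u} chevG2 h8g2_mem) hA hW c0 c1 h0 h1 [1] hw hnn 7
    (by decide) (by decide)
  have hs7 : h8sW chevG2 [1] 7 = 8 := by decide
  have he8 : h8g2Eps [1] 8 = -1 := by decide
  have he7 : h8g2Eps [1] 7 = 1 := by decide
  rw [hs7, he8, he7, h8g2Chi_7, h8g2Chi_8] at rel
  have hc0 : c0 = -1 := by
    have : c0 ^ 2 * c1⁻¹ * (((-1 : ℤ) : F) * (c0⁻¹ * c1 * (((1 : ℤ) : F) * 1))) = -c0 := by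
      push_cast
      field_simp
    rw [this] at rel
    rw [← rel]; ring
  have hconj : ∀ s : F, (h8g2T (h8base_all.{u} chevG2 h8g2_mem) c0 c1 *
        h8nWU chevG2 (h8base_all.{u} chevG2 h8g2_mem) [1]) *
      h8xU chevG2 (h8base_all.{u} chevG2 h8g2_mem) (chevG2.negIdx.getD 6 0) s *
      (h8g2T (h8base_all.{u} chevG2 h8g2_mem) c0 c1 *
        h8nWU chevG2 (h8base_all.{u} chevG2 h8g2_mem) [1])⁻¹ =
      h8xU chevG2 (h8base_all.{u} chevG2 h8g2_mem) 6 (c1 ^ 2 * s) := by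
    intro s
    have hneg : chevG2.negIdx.getD 6 0 = 5 := by decide
    rw [hneg, h8g2_N_conj _ hA c0 c1 h0 h1 [1] hw 5 (by decide)]
    have hs5 : h8sW chevG2 [1] 5 = 6 := by decide
    have he5 : h8g2Eps [1] 5 = -1 := by decide
    rw [hs5, he5, h8g2Chi_6, hc0]
    congr 1
    push_cast
    field_simp
  obtain ⟨_, y, hy, hyn⟩ := h8inv_jump chevG2 h8g2_mem h2 _ hnn 6 (by decide) c1 h1 hconj
  refine ⟨y, hy, ?_⟩
  rw [hyn]
  exact h8g2_jump_mem_H _ hA 1 (by decide) c0 c1 c1 h0 h1 h1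

end Cfsg.Agent.Lib.helper8
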