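import Mathlib
import Cfsg.Prelude.Def_ChevStructure
import Cfsg.Prelude.Def_ChevG2
import Cfsg.Agent.Lib.helper8.ChevInvG2f

set_option autoImplicit false

namespace Cfsg.Agent.Lib.helper8

open Cfsg.Lie Cfsg.Lie.ChevalleyDatum

universe u

variable {F : Type u} [Field F]

/-- an involution of `N` over a simple reflection is conjugate into `H` -/
theorem h8g2_reflS (h2 : (2 : F) ≠ 0) (hA : H8ReflAll chevG2) (hBN : H8BN chevG2)
    (hW : H8BN2 chevG2) (hO2 : H8Ord2 chevG2) (n : ↥(chevG2.monomialSubgroup F))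
    (hnn : n.val * n.val = 1) (i : ℕ) (hi : i < chevG2.rank)
    (hπ : h8Pi chevG2 (h8base_all.{u} chevG2 h8g2_mem) hA hBN hW hO2 n = h8wPerm chevG2 hA [i]) :
    H8G2ConjH n.val := by
  have hw : ∀ j ∈ [i], j < chevG2.rank := by
    intro j hj
    rw [List.mem_singleton] at hj
    rw [hj]; exact hi
  obtain ⟨c0, c1, h0, h1, e⟩ := h8g2_N_param _ hA hBN hW hO2 n [i] hw hπ
  rw [e] at hnn ⊢
  have hr : chevG2.rank = 2 := rfl
  rw [hr] at hi
  interval_cases i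
  · exact h8g2_refl0 h2 hA hW c0 c1 h0 h1 hnn
  · exact h8g2_refl1 h2 hA hW c0 c1 h0 h1 hnn

/-- an involution of `N` over a conjugate of a simple reflection is conjugate into `H` -/
theorem h8g2_reflC (h2 : (2 : F) ≠ 0) (hA : H8ReflAll chevG2) (hBN : H8BN chevG2)
    (hW : H8BN2 chevG2) (hO2 : H8Ord2 chevG2) (n : ↥(chevG2.monomialSubgroup F))
    (hnn : n.val * n.val = 1) (v : List ℕ) (hv : ∀ j ∈ v, j < chevG2.rank) (i : ℕ)
    (hi : i < chevG2.rank)
    (hπ : h8Pi chevG2 (h8base_all.{u} chevG2 h8g2_mem) hA hBN hW hO2 n =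
      h8wPerm chevG2 hA (v ++ [i] ++ v.reverse)) :
    H8G2ConjH n.val := by
  have hmem := h8nWU_mem_N (F := F) chevG2 (h8base_all.{u} chevG2 h8g2_mem) hA v hv
  set nv : ↥(chevG2.monomialSubgroup F) := ⟨h8nWU chevG2 (h8base_all.{u} chevG2 h8g2_mem) v, hmem⟩
    with hnv
  have hπ' : h8Pi chevG2 (h8base_all.{u} chevG2 h8g2_mem) hA hBN hW hO2 (nv⁻¹ * n * nv) =
      h8wPerm chevG2 hA [i] := by
    rw [map_mul, map_mul, map_inv, hπ, hnv, h8Pi_nWU chevG2 _ hA hBN hW hO2 v hv,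
      h8wPerm_append, h8wPerm_append, ← h8wPerm_inv]
    group
  have hnn' : (nv⁻¹ * n * nv).val * (nv⁻¹ * n * nv).val = 1 := by
    have : (nv⁻¹ * n * nv).val * (nv⁻¹ * n * nv).val = nv.val⁻¹ * (n.val * n.val) * nv.val := by
      show nv.val⁻¹ * n.val * nv.val * (nv.val⁻¹ * n.val * nv.val) = _
      group
    rw [this, hnn]
    group
  obtain ⟨y, hy, hmemH⟩ := h8g2_reflS h2 hA hBN hW hO2 _ hnn' i hi hπ'
  refine ⟨y * nv.val⁻¹, Subgroup.mul_mem _ hy (Subgroup.inv_mem _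
    (h8_N_le_group chevG2 (h8base_all.{u} chevG2 h8g2_mem) nv.2)), ?_⟩
  have : y * nv.val⁻¹ * n.val * (y * nv.val⁻¹)⁻¹ = y * (nv⁻¹ * n * nv).val * y⁻¹ := by
    show _ = y * (nv.val⁻¹ * n.val * nv.val) * y⁻¹
    group
  rw [this]
  exact hmemH

/-- the words of the six reflections -/
def h8g2ReflWords : List (List ℕ) :=
  [[0], [1], [0, 1, 0], [1, 0, 1], [0, 1, 0, 1, 0], [1, 0, 1, 0, 1]]

theorem h8g2ReflWords_form : ∀ w ∈ h8g2ReflWords, ∃ v : List ℕ, ∃ i : ℕ,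
    (∀ j ∈ v, j < chevG2.rank) ∧ i < chevG2.rank ∧ w = v ++ [i] ++ v.reverse := by
  intro w hw
  simp only [h8g2ReflWords, List.mem_cons, List.not_mem_nil, or_false] at hw
  rcases hw with rfl | rfl | rfl | rfl | rfl | rfl
  · exact ⟨[], 0, by decide, by decide, rfl⟩
  · exact ⟨[], 1, by decide, by decide, rfl⟩
  · exact ⟨[0], 1, by decide, by decide, rfl⟩
  · exact ⟨[1], 0, by decide, by decide, rfl⟩
  · exact ⟨[0, 1], 0, by decide, by decide, rfl⟩
  · exact ⟨[1, 0], 1, by decide, by decide, rfl⟩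

/-- an involution of `N` over a reflection is conjugate into `H` -/
theorem h8g2_refl (h2 : (2 : F) ≠ 0) (hA : H8ReflAll chevG2) (hBN : H8BN chevG2)
    (hW : H8BN2 chevG2) (hO2 : H8Ord2 chevG2) (n : ↥(chevG2.monomialSubgroup F))
    (hnn : n.val * n.val = 1) (w : List ℕ) (hw : w ∈ h8g2ReflWords)
    (hπ : h8Pi chevG2 (h8base_all.{u} chevG2 h8g2_mem) hA hBN hW hO2 n = h8wPerm chevG2 hA w) :
    H8G2ConjH n.val := by
  obtain ⟨v, i, hv, hi, rfl⟩ := h8g2ReflWords_form w hw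
  exact h8g2_reflC h2 hA hBN hW hO2 n hnn v hv i hi hπ

end Cfsg.Agent.Lib.helper8
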