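import Mathlib
import Cfsg.Prelude.Def_ChevStructure
import Cfsg.Prelude.Def_ChevG2
import Cfsg.Agent.Lib.helper8.ChevInvG2g

set_option autoImplicit false

namespace Cfsg.Agent.Lib.helper8

open Cfsg.Lie Cfsg.Lie.ChevalleyDatum

universe u

variable {F : Type u} [Field F]

/-- two elements of `N` acting in the same way on all root elements are equal -/
theorem h8N_ext (D : ChevalleyDatum) (hB : H8Base.{u} D) (hA : H8ReflAll D) (hBN : H8BN D)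
    (hW : H8BN2 D) (hO2 : H8Ord2 D) (hsc : h8scChk D = true) (n n' : GL D.Idx F)
    (hn : n ∈ D.monomialSubgroup F) (hn' : n' ∈ D.monomialSubgroup F)
    (hact : ∀ r < D.nroots, ∀ t : F, n * h8xU D hB r t * n⁻¹ = n' * h8xU D hB r t * n'⁻¹) :
    n = n' := by
  have hm : n'⁻¹ * n ∈ D.monomialSubgroup F := Subgroup.mul_mem _ (Subgroup.inv_mem _ hn') hn
  have hfix : ∀ r < D.nroots, ∀ t : F, (n'⁻¹ * n) * h8xU D hB r t * (n'⁻¹ * n)⁻¹ =
      h8xU D hB r t := by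
    intro r hr t
    have : n'⁻¹ * n * h8xU D hB r t * (n'⁻¹ * n)⁻¹ = n'⁻¹ * (n * h8xU D hB r t * n⁻¹) * n' := by
      group
    rw [this, hact r hr t]
    group
  have hπ : h8Pi D hB hA hBN hW hO2 ⟨n'⁻¹ * n, hm⟩ = 1 := by
    apply h8Pi_eq
    intro r
    refine ⟨1, one_ne_zero, fun t => ?_⟩
    rw [one_mul]
    exact hfix r.val r.2 t
  have hH := h8Pi_ker D hB hA hBN hW hO2 _ hπ
  have h1 : n'⁻¹ * n = 1 := h8H_eq_one D hB hA hW hsc _ hH (fun r hr => hfix r hr 1)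
  calc n = n' * (n'⁻¹ * n) := by group
    _ = n' := by rw [h1, mul_one]

theorem h8g2Chi_neg (c0 c1 : F) (r : ℕ) (hr : r < 12) :
    h8g2Chi c0 c1 (chevG2.negIdx.getD r 0) = (h8g2Chi c0 c1 r)⁻¹ := by
  have hK : ∀ r < 12, h8K chevG2 7 (chevG2.negIdx.getD r 0) = - h8K chevG2 7 r ∧
      h8K chevG2 6 (chevG2.negIdx.getD r 0) = - h8K chevG2 6 r := by decide +kernel
  unfold h8g2Chi
  rw [(hK r hr).1, (hK r hr).2, zpow_neg, zpow_neg, mul_inv]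

theorem h8g2Chi_sq (c0 c1 : F) (r : ℕ) :
    h8g2Chi (c0 ^ 2) (c1 ^ 2) r = (h8g2Chi c0 c1 r) ^ 2 := by
  unfold h8g2Chi
  rw [mul_pow, ← zpow_natCast (c0 ^ _), ← zpow_natCast (c1 ^ _), ← zpow_mul, ← zpow_mul,
    ← zpow_natCast c0, ← zpow_natCast c1, ← zpow_mul, ← zpow_mul,
    mul_comm ((2 : ℕ) : ℤ) (h8K chevG2 7 r), mul_comm ((2 : ℕ) : ℤ) (h8K chevG2 6 r)]

/-- the word of the longest element -/
def h8g2w0 : List ℕ := [0, 1, 0, 1, 0, 1]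

theorem h8g2w0_lt : ∀ i ∈ h8g2w0, i < chevG2.rank := by decide

theorem h8g2w0_val : ∀ r < 12, h8sW chevG2 h8g2w0 r = chevG2.negIdx.getD r 0 := by
  decide +kernel

theorem h8g2w0_eps : ∀ r < 12, h8g2Eps h8g2w0 r = -1 := by decide +kernel

theorem h8g2Chi_ne (c0 c1 : F) (h0 : c0 ≠ 0) (h1 : c1 ≠ 0) (r : ℕ) : h8g2Chi c0 c1 r ≠ 0 := by
  unfold h8g2Chi
  exact mul_ne_zero (zpow_ne_zero _ h0) (zpow_ne_zero _ h1)

/-- the longest element inverts the torus: conjugating its lift by a torus element -/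
theorem h8g2_w0_conjT (hB : H8Base.{u} chevG2) (hA : H8ReflAll chevG2) (hBN : H8BN chevG2)
    (hW : H8BN2 chevG2) (hO2 : H8Ord2 chevG2) (x y : F) (hx : x ≠ 0) (hy : y ≠ 0) :
    h8g2T hB x y * h8nWU chevG2 hB h8g2w0 * (h8g2T hB x y)⁻¹ =
      h8g2T hB (x ^ 2) (y ^ 2) * h8nWU chevG2 hB h8g2w0 := by
  have hx2 : x ^ 2 ≠ 0 := pow_ne_zero _ hx
  have hy2 : y ^ 2 ≠ 0 := pow_ne_zero _ hy
  have hHN : chevG2.diagonalSubgroup F ≤ chevG2.monomialSubgroup F := h8H_le_N chevG2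
  have hn0 := h8nWU_mem_N (F := F) chevG2 hB hA h8g2w0 h8g2w0_lt
  have key : h8g2T hB x y * h8nWU chevG2 hB h8g2w0 =
      h8g2T hB (x ^ 2) (y ^ 2) * h8nWU chevG2 hB h8g2w0 * h8g2T hB x y := by
    apply h8N_ext chevG2 hB hA hBN hW hO2 (h8scChk_all chevG2 h8g2_mem)
    · exact Subgroup.mul_mem _ (hHN (h8g2T_mem hB x y hx hy)) hn0
    · exact Subgroup.mul_mem _ (Subgroup.mul_mem _ (hHN (h8g2T_mem hB _ _ hx2 hy2)) hn0)
        (hHN (h8g2T_mem hB x y hx hy))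
    · intro r hr t
      have e : h8g2T hB (x ^ 2) (y ^ 2) * h8nWU chevG2 hB h8g2w0 * h8g2T hB x y *
          h8xU chevG2 hB r t *
          (h8g2T hB (x ^ 2) (y ^ 2) * h8nWU chevG2 hB h8g2w0 * h8g2T hB x y)⁻¹ =
          (h8g2T hB (x ^ 2) (y ^ 2) * h8nWU chevG2 hB h8g2w0) *
            (h8g2T hB x y * h8xU chevG2 hB r t * (h8g2T hB x y)⁻¹) *
            (h8g2T hB (x ^ 2) (y ^ 2) * h8nWU chevG2 hB h8g2w0)⁻¹ := by group
      rw [e, h8g2T_conj hB x y hx hy r hr, h8g2_N_conj hB hA x y hx hy h8g2w0 h8g2w0_lt r hr,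
        h8g2_N_conj hB hA _ _ hx2 hy2 h8g2w0 h8g2w0_lt r hr, h8g2w0_val r hr, h8g2Chi_sq,
        h8g2Chi_neg x y r hr, h8g2w0_eps r hr]
      congr 1
      have hne := h8g2Chi_ne x y hx hy r
      field_simp
  rw [key]
  group

end Cfsg.Agent.Lib.helper8
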