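import Mathlib
import Cfsg.Prelude.Def_ChevStructure
import Cfsg.Prelude.Def_ChevG2
import Cfsg.Agent.Lib.helper8.ChevInvG2h

set_option autoImplicit false

namespace Cfsg.Agent.Lib.helper8

open Cfsg.Lie Cfsg.Lie.ChevalleyDatum

universe u

variable {F : Type u} [Field F]

theorem h8nU_mem_N' (D : ChevalleyDatum) (hB : H8Base.{u} D) (c : ℕ) (hc : c < D.nroots) (a : F)
    (ha : a ≠ 0) : h8nU D hB c a ∈ D.monomialSubgroup F := by
  rw [h8nU_eq_hU]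
  exact Subgroup.mul_mem _ (h8H_le_N D (h8hU_mem_H D hB c hc a ha)) (h8nU_mem_N D hB c hc)

theorem h8Pi_nU (D : ChevalleyDatum) (hB : H8Base.{u} D) (hA : H8ReflAll D) (hBN : H8BN D)
    (hW : H8BN2 D) (hO2 : H8Ord2 D) (c : ℕ) (hc : c < D.nroots) (a : F) (ha : a ≠ 0) :
    h8Pi D hB hA hBN hW hO2 ⟨h8nU D hB c a, h8nU_mem_N' D hB c hc a ha⟩ =
      h8Pi D hB hA hBN hW hO2 ⟨h8nU D hB c (1 : F), h8nU_mem_N D hB c hc⟩ := by
  have e : (⟨h8nU D hB c a, h8nU_mem_N' D hB c hc a ha⟩ : ↥(D.monomialSubgroup F)) =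
      ⟨h8hU D hB c a, h8H_le_N D (h8hU_mem_H D hB c hc a ha)⟩ *
        ⟨h8nU D hB c (1 : F), h8nU_mem_N D hB c hc⟩ := by
    apply Subtype.ext
    exact h8nU_eq_hU D hB c a
  rw [e, map_mul, h8Pi_H D hB hA hBN hW hO2 _ (h8hU_mem_H D hB c hc a ha), one_mul]

theorem h8wPerm_single (D : ChevalleyDatum) (hA : H8ReflAll D) (i : ℕ) :
    h8wPerm D hA [i] = h8sPerm D hA i := by
  unfold h8wPerm
  simp

theorem h8g2_Pi_n7 (hB : H8Base.{u} chevG2) (hA : H8ReflAll chevG2) (hBN : H8BN chevG2)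
    (hW : H8BN2 chevG2) (hO2 : H8Ord2 chevG2) :
    h8Pi chevG2 hB hA hBN hW hO2 ⟨h8nU chevG2 hB 7 (1 : F), h8nU_mem_N chevG2 hB 7 (by decide)⟩ =
      h8wPerm chevG2 hA [0] := by
  rw [h8wPerm_single]
  exact h8Pi_simple chevG2 hB hA hBN hW hO2 0 (by decide) _

theorem h8g2_Pi_n6 (hB : H8Base.{u} chevG2) (hA : H8ReflAll chevG2) (hBN : H8BN chevG2)
    (hW : H8BN2 chevG2) (hO2 : H8Ord2 chevG2) :
    h8Pi chevG2 hB hA hBN hW hO2 ⟨h8nU chevG2 hB 6 (1 : F), h8nU_mem_N chevG2 hB 6 (by decide)⟩ =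
      h8wPerm chevG2 hA [1] := by
  rw [h8wPerm_single]
  exact h8Pi_simple chevG2 hB hA hBN hW hO2 1 (by decide) _

theorem h8g2_Pi_n8 (hB : H8Base.{u} chevG2) (hA : H8ReflAll chevG2) (hBN : H8BN chevG2)
    (hW : H8BN2 chevG2) (hO2 : H8Ord2 chevG2) :
    h8Pi chevG2 hB hA hBN hW hO2 ⟨h8nU chevG2 hB 8 (1 : F), h8nU_mem_N chevG2 hB 8 (by decide)⟩ =
      h8wPerm chevG2 hA [1, 0, 1] := by
  have h := h8Pi_conj (F := F) chevG2 hB hA hBN hW hO2 [1] (by decide) 7 (by decide)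
  rw [h8g2_Pi_n7 hB hA hBN hW hO2, h8wPerm_inv] at h
  have e : (⟨h8nU chevG2 hB (h8sW chevG2 [1] 7) (1 : F),
      h8nU_mem_N chevG2 hB _ (h8sW_lt chevG2 hA [1] (by decide) 7 (by decide))⟩ :
      ↥(chevG2.monomialSubgroup F)) =
      ⟨h8nU chevG2 hB 8 (1 : F), h8nU_mem_N chevG2 hB 8 (by decide)⟩ := by
    apply Subtype.ext
    exact congrArg (fun c => h8nU chevG2 hB c (1 : F)) (by decide : h8sW chevG2 [1] 7 = 8)
  rw [e] at h
  rw [← h, ← h8wPerm_append, ← h8wPerm_append]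
  rfl

theorem h8g2_conjH_of_conj (n n' y : GL chevG2.Idx F) (hy : y ∈ chevG2.group F)
    (e : y * n * y⁻¹ = n') (h : H8G2ConjH n') : H8G2ConjH n := by
  obtain ⟨z, hz, hm⟩ := h
  refine ⟨z * y, Subgroup.mul_mem _ hz hy, ?_⟩
  have : z * y * n * (z * y)⁻¹ = z * (y * n * y⁻¹) * z⁻¹ := by group
  rw [this, e]
  exact hm

/-- an involution over the longest element with a "good" root is conjugate into `H` -/
theorem h8g2_w0_good (h2 : (2 : F) ≠ 0) (hA : H8ReflAll chevG2) (hBN : H8BN chevG2)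
    (hW : H8BN2 chevG2) (hO2 : H8Ord2 chevG2) (c0 c1 : F) (h0 : c0 ≠ 0) (h1 : c1 ≠ 0)
    (hnn : (h8g2T (h8base_all.{u} chevG2 h8g2_mem) c0 c1 *
        h8nWU chevG2 (h8base_all.{u} chevG2 h8g2_mem) h8g2w0) *
      (h8g2T (h8base_all.{u} chevG2 h8g2_mem) c0 c1 *
        h8nWU chevG2 (h8base_all.{u} chevG2 h8g2_mem) h8g2w0) = 1)
    (c : ℕ) (hc : c < chevG2.nroots) (ρ : List ℕ) (hρlt : ∀ i ∈ ρ, i < chevG2.rank)
    (hρ : h8Pi chevG2 (h8base_all.{u} chevG2 h8g2_mem) hA hBN hW hO2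
      ⟨h8nU chevG2 (h8base_all.{u} chevG2 h8g2_mem) c (1 : F),
        h8nU_mem_N chevG2 (h8base_all.{u} chevG2 h8g2_mem) c hc⟩ = h8wPerm chevG2 hA ρ)
    (w' : List ℕ) (hw' : w' ∈ h8g2ReflWords)
    (hww : ∀ r < 12, h8sW chevG2 (h8g2w0 ++ ρ) r = h8sW chevG2 w' r)
    (a : F) (ha : a ≠ 0) (hsq : -h8g2Chi c0 c1 c = a ^ 2) :
    H8G2ConjH (h8g2T (h8base_all.{u} chevG2 h8g2_mem) c0 c1 *
        h8nWU chevG2 (h8base_all.{u} chevG2 h8g2_mem) h8g2w0) := by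
  have hB := h8base_all.{u} chevG2 h8g2_mem
  have hHN : chevG2.diagonalSubgroup F ≤ chevG2.monomialSubgroup F := h8H_le_N chevG2
  have hn0 := h8nWU_mem_N (F := F) chevG2 (h8base_all.{u} chevG2 h8g2_mem) hA h8g2w0 h8g2w0_lt
  have hnegneg : ∀ r < 12, chevG2.negIdx.getD (chevG2.negIdx.getD r 0) 0 = r ∧
      chevG2.negIdx.getD r 0 < 12 := by decide
  have hconj : ∀ s : F, (h8g2T (h8base_all.{u} chevG2 h8g2_mem) c0 c1 *
        h8nWU chevG2 (h8base_all.{u} chevG2 h8g2_mem) h8g2w0) *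
      h8xU chevG2 (h8base_all.{u} chevG2 h8g2_mem) (chevG2.negIdx.getD c 0) s *
      (h8g2T (h8base_all.{u} chevG2 h8g2_mem) c0 c1 *
        h8nWU chevG2 (h8base_all.{u} chevG2 h8g2_mem) h8g2w0)⁻¹ =
      h8xU chevG2 (h8base_all.{u} chevG2 h8g2_mem) c (a ^ 2 * s) := by
    intro s
    rw [h8g2_N_conj _ hA c0 c1 h0 h1 h8g2w0 h8g2w0_lt _ (hnegneg c hc).2,
      h8g2w0_val _ (hnegneg c hc).2, (hnegneg c hc).1, h8g2w0_eps _ (hnegneg c hc).2, ← hsq]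
    congr 1
    push_cast
    ring
  obtain ⟨hnn', y, hy, hyn⟩ := h8inv_jump chevG2 h8g2_mem h2 _ hnn c hc a ha hconj
  apply h8g2_conjH_of_conj _ _ y hy hyn
  have hnmem : h8g2T (h8base_all.{u} chevG2 h8g2_mem) c0 c1 *
      h8nWU chevG2 (h8base_all.{u} chevG2 h8g2_mem) h8g2w0 ∈ chevG2.monomialSubgroup F :=
    Subgroup.mul_mem _ (hHN (h8g2T_mem _ c0 c1 h0 h1)) hn0
  have hcmem := h8nU_mem_N' chevG2 (h8base_all.{u} chevG2 h8g2_mem) c hc a ha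
  have hπ : h8Pi chevG2 (h8base_all.{u} chevG2 h8g2_mem) hA hBN hW hO2
      (⟨_, hnmem⟩ * ⟨_, hcmem⟩) = h8wPerm chevG2 hA w' := by
    rw [map_mul, h8Pi_nU chevG2 _ hA hBN hW hO2 c hc a ha, hρ,
      h8Pi_word chevG2 _ hA hBN hW hO2 _ (h8g2T_mem _ c0 c1 h0 h1) h8g2w0 h8g2w0_lt hnmem,
      ← h8wPerm_append]
    apply h8g2_wPerm_ext hA
    · intro i hi
      rcases List.mem_append.mp hi with h | h
      · exact h8g2w0_lt i h
      · exact hρlt i h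
    · have : ∀ w ∈ h8g2ReflWords, ∀ i ∈ w, i < chevG2.rank := by decide
      exact this w' hw'
    · exact hww
  have hnn'' : ((⟨_, hnmem⟩ * ⟨_, hcmem⟩ : ↥(chevG2.monomialSubgroup F)) : GL chevG2.Idx F) *
      ((⟨_, hnmem⟩ * ⟨_, hcmem⟩ : ↥(chevG2.monomialSubgroup F)) : GL chevG2.Idx F) = 1 := by
    rw [Subgroup.coe_mul]
    exact hnn'
  generalize hN : (⟨_, hnmem⟩ * ⟨_, hcmem⟩ : ↥(chevG2.monomialSubgroup F)) = nn at hπ hnn''
  have hfin := h8g2_refl h2 hA hBN hW hO2 nn hnn'' w' hw' hπ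
  rw [← hN, Subgroup.coe_mul] at hfin
  exact hfin

end Cfsg.Agent.Lib.helper8
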