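import Mathlib
import Cfsg.Prelude.Def_GeometricClasses
import Cfsg.Agent.Lib.Helper27.ASC.Defs

set_option autoImplicit false

namespace Cfsg.Agent.Lib.Helper27.ASC

open Cfsg Cfsg.Geo
open scoped MatrixGroups Matrix

variable {n : ℕ} {F : Type*} [Field F] [Fintype F]

/-- SCHUR-C -/
theorem absIrr_of_finrank_one {N : Subgroup (GL (Fin n) F)} (hN : Irr N)
    (h1 : Module.finrank F (centAlg N) = 1) : AbsIrr N := by
  refine ⟨hN, fun M hM => ?_⟩
  rcases Nat.eq_zero_or_pos n with h0 | h0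
  · subst h0
    exact ⟨0, Subsingleton.elim _ _⟩
  · haveI : Nonempty (Fin n) := ⟨⟨0, h0⟩⟩
    have hbot : centAlg N = ⊥ := Subalgebra.finrank_eq_one_iff.mp h1
    have hMc : M ∈ centAlg N := by
      rw [Subalgebra.mem_centralizer_iff]
      intro s hs
      exact (hM s hs).symm
    rw [hbot, Algebra.mem_bot] at hMc
    obtain ⟨c, rfl⟩ := hMc
    exact ⟨c, Algebra.algebraMap_eq_smul_one c⟩

end Cfsg.Agent.Lib.Helper27.ASC
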