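import Mathlib
import Cfsg.Prelude.Def_GeometricClasses
import Cfsg.Agent.Lib.Helper27.ASC.Defs
import Cfsg.Agent.Lib.Lead.ASCU.Defs
import Cfsg.Agent.Lib.Helper29.ASCFORM
import Cfsg.Agent.Lib.Helper29.ASCGRAM
import Cfsg.Agent.Lib.helper4.ASCSUBF1

/-!
# Project ASCU, common core of the pieces USUBFO and USUBF2 (helper8)

Gram matrices of the standard hermitian form in the coordinates of a subfield structure: if the absolutely
irreducible `P ≤ GU` is realised over `F₀` by `B`, then the Gram matrix `G = B⁻ᵀ σ(B⁻¹)` satisfies `τ(G) = c G`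
for the Frobenius `τ` of `F₀`.
-/

set_option autoImplicit false
set_option linter.unusedVariables false
set_option linter.unusedSectionVars false

namespace Cfsg.Agent.Lib.Lead.ASCU

open Cfsg Cfsg.Geo Cfsg.Agent.Lib.Helper27.ASC
open scoped MatrixGroups Matrix

variable {n : ℕ} {F : Type*} [Field F] [Fintype F]

/-- the `q`-Frobenius of a field with `q²` elements -/
theorem ascusubf_frob (q : ℕ) (hF : Fintype.card F = q ^ 2) :
    ∃ (p m : ℕ) (σ : F →+* F), p.Prime ∧ CharP F p ∧ q = p ^ m ∧ (∀ a, σ a = a ^ q) ∧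
      (∀ a, σ (σ a) = a) := by
  obtain ⟨p, hchar⟩ := CharP.exists F
  have := hchar
  obtain ⟨k, hp, hcard⟩ := FiniteField.card F p
  have : Fact p.Prime := ⟨hp⟩
  have h1 : q ∣ p ^ (k : ℕ) := by
    rw [← hcard, hF]
    exact dvd_pow_self q two_ne_zero
  obtain ⟨m, -, hm⟩ := (Nat.dvd_prime_pow hp).mp h1
  refine ⟨p, m, iterateFrobenius F p m, hp, hchar, hm, ?_, ?_⟩
  · intro a
    rw [iterateFrobenius_def, hm]
  · intro a
    rw [iterateFrobenius_def, iterateFrobenius_def, ← pow_mul, ← hm, ← sq, ← hF]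
    exact FiniteField.pow_card a

/-- the Frobenius with fixed field `F₀` -/
theorem ascusubf_tau (F₀ : Subfield F) :
    ∃ τ : F →+* F, (∀ a, τ a = a ^ Nat.card F₀) ∧ (∀ a, τ a = a ↔ a ∈ F₀) := by
  classical
  obtain ⟨p, hchar⟩ := CharP.exists F
  have := hchar
  have hchar0 : CharP F₀ p := inferInstance
  obtain ⟨d, hpp, hcard0⟩ := FiniteField.card F₀ p
  have : Fact p.Prime := ⟨hpp⟩
  have hσ : ∀ x : F, iterateFrobenius F p d x = x ^ Nat.card F₀ := by
    intro x
    rw [Nat.card_eq_fintype_card, hcard0]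
    exact iterateFrobenius_def p d x
  refine ⟨iterateFrobenius F p d, hσ, fun a => ⟨fun h => ?_, fun h => ?_⟩⟩
  · exact ascsubf1_mem_of_pow F₀ a (by rw [← hσ]; exact h)
  · rw [hσ, Nat.card_eq_fintype_card]
    have h1 : (⟨a, h⟩ : F₀) ^ Fintype.card F₀ = ⟨a, h⟩ := FiniteField.pow_card _
    have h2 := congrArg (fun a : F₀ => (a : F)) h1
    simpa using h2

/-- the standard hermitian form as a dot product -/
theorem ascusubf_herm (q : ℕ) (σ : F →+* F) (hσ : ∀ a, σ a = a ^ q) (u v : Fin n → F) :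
    hermForm n F q u v = u ⬝ᵥ ((1 : Matrix (Fin n) (Fin n) F) *ᵥ (fun j => σ (v j))) := by
  rw [Matrix.one_mulVec]
  unfold hermForm dotProduct
  refine Finset.sum_congr rfl (fun i _ => ?_)
  show u i * v i ^ q = u i * σ (v i)
  rw [hσ]

/-- the action on Gram matrices -/
def ascusubfAct (σ : F →+* F) (M A : Matrix (Fin n) (Fin n) F) : Matrix (Fin n) (Fin n) F :=
  Mᵀ * A * M.map σ

theorem ascusubfAct_mul (σ : F →+* F) (M N A : Matrix (Fin n) (Fin n) F) :
    ascusubfAct σ (M * N) A = ascusubfAct σ N (ascusubfAct σ M A) := by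
  unfold ascusubfAct
  rw [Matrix.transpose_mul, Matrix.map_mul]
  simp only [Matrix.mul_assoc]

theorem ascusubfAct_one (σ : F →+* F) (A : Matrix (Fin n) (Fin n) F) :
    ascusubfAct σ 1 A = A := by
  unfold ascusubfAct
  rw [Matrix.transpose_one, Matrix.map_one σ (map_zero σ) (map_one σ), Matrix.one_mul, Matrix.mul_one]

theorem ascusubfAct_smul (σ : F →+* F) (c : F) (M A : Matrix (Fin n) (Fin n) F) :
    ascusubfAct σ M (c • A) = c • ascusubfAct σ M A := by
  unfold ascusubfAct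
  rw [Matrix.mul_smul, Matrix.smul_mul]

theorem ascusubfAct_map (σ τ : F →+* F) (hcomm : ∀ a, τ (σ a) = σ (τ a))
    (M A : Matrix (Fin n) (Fin n) F) :
    (ascusubfAct σ M A).map τ = ascusubfAct σ (M.map τ) (A.map τ) := by
  unfold ascusubfAct
  rw [Matrix.map_mul, Matrix.map_mul, Matrix.transpose_map, Matrix.map_map, Matrix.map_map]
  congr 2
  funext a
  simp only [Function.comp_apply]
  exact hcomm _

/-- hermitian symmetry of `Mᵀ σ(M)` -/
theorem ascusubfAct_herm (σ : F →+* F) (hσσ : ∀ a, σ (σ a) = a) (M : Matrix (Fin n) (Fin n) F) :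
    (ascusubfAct σ M 1)ᵀ = (ascusubfAct σ M 1).map σ := by
  unfold ascusubfAct
  rw [Matrix.mul_one, Matrix.transpose_mul, Matrix.transpose_transpose, Matrix.map_mul,
    Matrix.transpose_map, Matrix.map_map]
  congr 1
  ext i j
  simp only [Matrix.map_apply, Function.comp_apply]
  exact (hσσ _).symm

/-- membership in `GU` in matrix form -/
theorem ascusubf_gu (q : ℕ) (σ : F →+* F) (hσ : ∀ a, σ a = a ^ q) (g : GL (Fin n) F)
    (hg : g ∈ GU n F q) : ascusubfAct σ (g : Matrix (Fin n) (Fin n) F) 1 = 1 := by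
  apply ascform_ext σ
  intro u v
  unfold ascusubfAct
  rw [← ascform_transport σ 1 (g : Matrix (Fin n) (Fin n) F) u v, ← ascusubf_herm q σ hσ,
    ← ascusubf_herm q σ hσ]
  exact (mem_GU_iff q g).mp hg u v

/-- the value of the standard hermitian form after a change of coordinates -/
theorem ascusubf_herm_transport (q : ℕ) (σ : F →+* F) (hσ : ∀ a, σ a = a ^ q)
    (M : Matrix (Fin n) (Fin n) F) (u v : Fin n → F) :
    hermForm n F q (M *ᵥ u) (M *ᵥ v) = u ⬝ᵥ (ascusubfAct σ M 1 *ᵥ (fun j => σ (v j))) := by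
  rw [ascusubf_herm q σ hσ, ascform_transport σ 1 M u v]
  rfl

/-- Schur: a Gram matrix invariant under an absolutely irreducible subgroup of `GU` is scalar -/
theorem ascusubf_schur (σ : F →+* F) {P : Subgroup (GL (Fin n) F)} (hA : AbsIrr P)
    (h1 : ∀ x ∈ P, ascusubfAct σ (x : Matrix (Fin n) (Fin n) F) 1 = 1)
    (A : Matrix (Fin n) (Fin n) F)
    (hinv : ∀ x ∈ P, ascusubfAct σ (x : Matrix (Fin n) (Fin n) F) A = A) :
    ∃ c : F, A = c • (1 : Matrix (Fin n) (Fin n) F) := by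
  have step : ∀ x ∈ P, (x : Matrix (Fin n) (Fin n) F)ᵀ * A = A * (x : Matrix (Fin n) (Fin n) F)ᵀ := by
    intro x hx
    have e1 := h1 x hx
    have e2 := hinv x hx
    unfold ascusubfAct at e1 e2
    rw [Matrix.mul_one] at e1
    have e3 : (x : Matrix (Fin n) (Fin n) F).map σ * (x : Matrix (Fin n) (Fin n) F)ᵀ = 1 :=
      mul_eq_one_comm.mp e1
    calc (x : Matrix (Fin n) (Fin n) F)ᵀ * A
        = (x : Matrix (Fin n) (Fin n) F)ᵀ * A *
            ((x : Matrix (Fin n) (Fin n) F).map σ * (x : Matrix (Fin n) (Fin n) F)ᵀ) := by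
          rw [e3, Matrix.mul_one]
      _ = ((x : Matrix (Fin n) (Fin n) F)ᵀ * A * (x : Matrix (Fin n) (Fin n) F).map σ) *
            (x : Matrix (Fin n) (Fin n) F)ᵀ := by
          simp only [Matrix.mul_assoc]
      _ = A * (x : Matrix (Fin n) (Fin n) F)ᵀ := by rw [e2]
  have step3 : ∀ s ∈ matrixSet P, Aᵀ * s = s * Aᵀ := by
    rintro _ ⟨g, hg, rfl⟩
    have h := congrArg Matrix.transpose (step g hg)
    rw [Matrix.transpose_mul, Matrix.transpose_mul, Matrix.transpose_transpose] at h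
    exact h
  obtain ⟨c, hc⟩ := hA.2 Aᵀ step3
  refine ⟨c, ?_⟩
  have := congrArg Matrix.transpose hc
  rw [Matrix.transpose_transpose, Matrix.transpose_smul, Matrix.transpose_one] at this
  exact this

/-- KEY: the Gram matrix in the coordinates of a subfield structure is an eigenvector of the Frobenius of `F₀` -/
theorem ascusubf_key (q : ℕ) (σ τ : F →+* F) (hσ : ∀ a, σ a = a ^ q)
    (hcomm : ∀ a, τ (σ a) = σ (τ a)) {P : Subgroup (GL (Fin n) F)} (hPU : P ≤ GU n F q)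
    (hA : AbsIrr P) (F₀ : Subfield F) (hτ : ∀ a ∈ F₀, τ a = a) (B : GL (Fin n) F)
    (hB : RealisesOver F₀ B P) :
    ∃ c : F, (ascusubfAct σ ((B⁻¹ : GL (Fin n) F) : Matrix (Fin n) (Fin n) F) 1).map τ =
      c • ascusubfAct σ ((B⁻¹ : GL (Fin n) F) : Matrix (Fin n) (Fin n) F) 1 := by
  obtain ⟨Bm, hBm⟩ : ∃ Bm : Matrix (Fin n) (Fin n) F, Bm = (B : Matrix (Fin n) (Fin n) F) := ⟨_, rfl⟩
  obtain ⟨Bi, hBi⟩ : ∃ Bi : Matrix (Fin n) (Fin n) F,
      Bi = ((B⁻¹ : GL (Fin n) F) : Matrix (Fin n) (Fin n) F) := ⟨_, rfl⟩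
  have hBB : Bm * Bi = 1 := by
    rw [hBm, hBi, ← Units.val_mul, mul_inv_cancel]; rfl
  have hBB' : Bi * Bm = 1 := by
    rw [hBm, hBi, ← Units.val_mul, inv_mul_cancel]; rfl
  rw [← hBi]
  obtain ⟨G, hG⟩ : ∃ G : Matrix (Fin n) (Fin n) F, G = ascusubfAct σ Bi 1 := ⟨_, rfl⟩
  rw [← hG]
  have h1 : ∀ x ∈ P, ascusubfAct σ (x : Matrix (Fin n) (Fin n) F) 1 = 1 :=
    fun x hx => ascusubf_gu q σ hσ x (hPU hx)
  -- the conjugated matrices are fixed by `τ`
  have hfix : ∀ x ∈ P, (Bm * (x : Matrix (Fin n) (Fin n) F) * Bi).map τ =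
      Bm * (x : Matrix (Fin n) (Fin n) F) * Bi := by
    intro x hx
    ext i j
    rw [Matrix.map_apply]
    apply hτ
    rw [hBm, hBi]
    exact hB (x : Matrix (Fin n) (Fin n) F) ⟨x, hx, rfl⟩ i j
  -- `G` is invariant under the conjugated group
  have hG0 : ∀ x ∈ P, ascusubfAct σ (Bm * (x : Matrix (Fin n) (Fin n) F) * Bi) G = G := by
    intro x hx
    rw [hG, ← ascusubfAct_mul]
    have e : Bi * (Bm * (x : Matrix (Fin n) (Fin n) F) * Bi) = (x : Matrix (Fin n) (Fin n) F) * Bi := by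
      rw [← Matrix.mul_assoc, ← Matrix.mul_assoc, hBB', Matrix.one_mul]
    rw [e, ascusubfAct_mul, h1 x hx]
  have hG1 : ∀ x ∈ P, ascusubfAct σ (Bm * (x : Matrix (Fin n) (Fin n) F) * Bi) (G.map τ) = G.map τ := by
    intro x hx
    have e := ascusubfAct_map σ τ hcomm (Bm * (x : Matrix (Fin n) (Fin n) F) * Bi) G
    rw [hfix x hx, hG0 x hx] at e
    exact e.symm
  -- pull back to the coordinates of `P`
  have hinv : ∀ x ∈ P, ascusubfAct σ (x : Matrix (Fin n) (Fin n) F) (ascusubfAct σ Bm (G.map τ)) =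
      ascusubfAct σ Bm (G.map τ) := by
    intro x hx
    rw [← ascusubfAct_mul]
    have e : Bm * (x : Matrix (Fin n) (Fin n) F) = (Bm * (x : Matrix (Fin n) (Fin n) F) * Bi) * Bm := by
      rw [Matrix.mul_assoc, hBB', Matrix.mul_one]
    rw [e, ascusubfAct_mul, hG1 x hx]
  obtain ⟨c, hc⟩ := ascusubf_schur σ hA h1 _ hinv
  refine ⟨c, ?_⟩
  have e1 : G.map τ = ascusubfAct σ Bi (ascusubfAct σ Bm (G.map τ)) := by
    rw [← ascusubfAct_mul, hBB, ascusubfAct_one]
  rw [e1, hc, ascusubfAct_smul, ← hG]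

end Cfsg.Agent.Lib.Lead.ASCU
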