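import Mathlib

/-!
# Project ASCU, piece USUBFO: finite field arithmetic (helper8)

Norm surjectivity `e ↦ e^(q+1)` onto the fixed field of `a ↦ a^q`, the fixed field of `a ↦ a^q` is not inside a subfield
of odd prime index, and Hilbert 90 for the fixed field.
-/

set_option autoImplicit false
set_option linter.unusedVariables false
set_option linter.unusedSectionVars false

namespace Cfsg.Agent.Lib.Lead.ASCU

variable {F : Type*} [Field F] [Fintype F]

/-- a generator of the multiplicative group, with its order -/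
theorem ascusubf_gen (q : ℕ) (hF : Fintype.card F = q ^ 2) :
    ∃ g : Fˣ, (∀ x : Fˣ, ∃ j : ℕ, g ^ j = x) ∧ orderOf g = (q - 1) * (q + 1) := by
  classical
  obtain ⟨g, hg⟩ := IsCyclic.exists_generator (α := Fˣ)
  refine ⟨g, fun x => ?_, ?_⟩
  · have h1 := hg x
    rw [← mem_powers_iff_mem_zpowers, Submonoid.mem_powers_iff] at h1
    exact h1
  · rw [orderOf_eq_card_of_forall_mem_zpowers hg, Nat.card_eq_fintype_card, Fintype.card_units, hF]
    have hq : 1 ≤ q := by
      rcases Nat.eq_zero_or_pos q with h | h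
      · have := Fintype.one_lt_card (α := F)
        rw [hF, h] at this
        omega
      · exact h
    obtain ⟨k, rfl⟩ : ∃ k, q = k + 1 := ⟨q - 1, by omega⟩
    rw [Nat.add_sub_cancel]
    have : (k + 1) ^ 2 = k * (k + 1 + 1) + 1 := by ring
    omega

/-- the norm `e ↦ e^(q+1)` is onto the fixed field of `a ↦ a^q` -/
theorem ascusubf_norm_surj (q : ℕ) (hF : Fintype.card F = q ^ 2) (d : F) (hd0 : d ≠ 0)
    (hd : d ^ q = d) : ∃ e : F, e ≠ 0 ∧ e ^ (q + 1) = d := by
  classical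
  obtain ⟨g, hgen, hord⟩ := ascusubf_gen q hF
  have hq2 : 2 ≤ q := by
    by_contra hlt
    have h1 : q ^ 2 ≤ 1 := by
      have : q ≤ 1 := by omega
      calc q ^ 2 ≤ 1 ^ 2 := Nat.pow_le_pow_left this 2
        _ = 1 := one_pow 2
    have := Fintype.one_lt_card (α := F)
    omega
  obtain ⟨j, hj⟩ := hgen (Units.mk0 d hd0)
  have h1 : d ^ (q - 1) = 1 := by
    have h2 : d ^ (q - 1) * d = d := by
      rw [← pow_succ, Nat.sub_add_cancel (by omega)]
      exact hd
    have h3 : d ^ (q - 1) * d = 1 * d := by rw [h2, one_mul]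
    exact mul_right_cancel₀ hd0 h3
  have h4 : g ^ (j * (q - 1)) = 1 := by
    rw [pow_mul, hj]
    apply Units.ext
    rw [Units.val_pow_eq_pow_val, Units.val_mk0, h1]
    rfl
  have h5 : (q - 1) * (q + 1) ∣ j * (q - 1) := by
    rw [← hord]
    exact orderOf_dvd_of_pow_eq_one h4
  have h6 : (q + 1) ∣ j := by
    rw [mul_comm j] at h5
    exact Nat.dvd_of_mul_dvd_mul_left (by omega) h5
  obtain ⟨j', rfl⟩ := h6
  refine ⟨((g ^ j' : Fˣ) : F), Units.ne_zero _, ?_⟩
  have h7 : (g ^ j') ^ (q + 1) = Units.mk0 d hd0 := by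
    rw [← pow_mul, mul_comm j', hj]
  have h8 := congrArg (fun u : Fˣ => (u : F)) h7
  simpa using h8

/-- the fixed field of `a ↦ a^q` is not contained in a subfield of odd prime index -/
theorem ascusubf_not_sub (q Q ℓ : ℕ) (hF : Fintype.card F = q ^ 2) (hQ : 2 ≤ Q)
    (hqQ : q ^ 2 = Q ^ ℓ) (hℓ : 3 ≤ ℓ) : ¬ ∀ θ : F, θ ^ q = θ → θ ^ Q = θ := by
  classical
  intro h
  obtain ⟨g, hgen, hord⟩ := ascusubf_gen q hF
  have hq2 : 2 ≤ q := by
    by_contra hlt
    have h1 : q ^ 2 ≤ 1 := by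
      have : q ≤ 1 := by omega
      calc q ^ 2 ≤ 1 ^ 2 := Nat.pow_le_pow_left this 2
        _ = 1 := one_pow 2
    have := Fintype.one_lt_card (α := F)
    omega
  have ht : ((g : F) ^ (q + 1)) ^ q = (g : F) ^ (q + 1) := by
    have h1 : (g : F) ^ (q ^ 2) = (g : F) := by
      rw [← hF]
      exact FiniteField.pow_card _
    calc ((g : F) ^ (q + 1)) ^ q = (g : F) ^ (q ^ 2) * (g : F) ^ q := by
          rw [← pow_mul, ← pow_add]
          congr 1
          ring
      _ = (g : F) ^ (q + 1) := by rw [h1, pow_succ']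
  have h2 := h _ ht
  have h3 : g ^ ((q + 1) * (Q - 1)) = 1 := by
    have h4 : (g : F) ^ ((q + 1) * (Q - 1)) * (g : F) ^ (q + 1) = 1 * (g : F) ^ (q + 1) := by
      rw [one_mul, ← pow_add]
      have : (q + 1) * (Q - 1) + (q + 1) = (q + 1) * Q := by
        obtain ⟨k, rfl⟩ : ∃ k, Q = k + 1 := ⟨Q - 1, by omega⟩
        rw [Nat.add_sub_cancel]
        ring
      rw [this, pow_mul]
      exact h2
    have h5 := mul_right_cancel₀ (pow_ne_zero _ (Units.ne_zero g)) h4
    apply Units.ext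
    rw [Units.val_pow_eq_pow_val]
    exact h5
  have h6 : (q - 1) * (q + 1) ∣ (q + 1) * (Q - 1) := by
    rw [← hord]
    exact orderOf_dvd_of_pow_eq_one h3
  have h7 : (q - 1) ∣ (Q - 1) := by
    rw [mul_comm (q - 1)] at h6
    exact Nat.dvd_of_mul_dvd_mul_left (by omega) h6
  have h8 : q ≤ Q := by
    have := Nat.le_of_dvd (by omega) h7
    omega
  have h9 : q ^ ℓ ≤ q ^ 2 := by
    rw [hqQ]
    exact Nat.pow_le_pow_left h8 ℓ
  have h10 := (Nat.pow_le_pow_iff_right (by omega : 1 < q)).mp h9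
  omega

/-- Hilbert 90 for the fixed field of `a ↦ a^q` and the automorphism `a ↦ a^Q` of prime order `ℓ` -/
theorem ascusubf_h90 (q Q ℓ : ℕ) (σ τ : F →+* F) (hσ : ∀ a, σ a = a ^ q) (hτ : ∀ a, τ a = a ^ Q)
    (hℓ : ℓ.Prime) (hτℓ : ∀ a : F, a ^ (Q ^ ℓ) = a) (hdist : ¬ ∀ θ : F, θ ^ q = θ → θ ^ Q = θ)
    (c : F) (hcq : c ^ q = c) (cs : ℕ → F) (hcs0 : cs 0 = 1)
    (hcsS : ∀ k, cs (k + 1) = c * τ (cs k)) (hcsℓ : cs ℓ = 1) :
    ∃ d : F, d ≠ 0 ∧ d ^ q = d ∧ c * τ d = d := by
  classical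
  have hcsq : ∀ k, (cs k) ^ q = cs k := by
    intro k
    induction k with
    | zero => rw [hcs0, one_pow]
    | succ k ih =>
      rw [hcsS, mul_pow, hcq, hτ, ← pow_mul, mul_comm Q q, pow_mul, ih]
  -- the sum
  obtain ⟨D, hD⟩ : ∃ D : F → F, ∀ θ, D θ = ∑ k ∈ Finset.range ℓ, cs k * θ ^ (Q ^ k) := ⟨_, fun _ => rfl⟩
  have hDa : ∀ θ, c * τ (D θ) = D θ := by
    intro θ
    rw [hD, map_sum, Finset.mul_sum]
    have e1 : ∀ k ∈ Finset.range ℓ, c * τ (cs k * θ ^ (Q ^ k)) = cs (k + 1) * θ ^ (Q ^ (k + 1)) := by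
      intro k _
      rw [map_mul, hcsS, ← mul_assoc]
      congr 1
      rw [hτ, ← pow_mul, ← pow_succ]
    rw [Finset.sum_congr rfl e1]
    have e2 := Finset.sum_range_succ (fun k => cs k * θ ^ (Q ^ k)) ℓ
    have e3 := Finset.sum_range_succ' (fun k => cs k * θ ^ (Q ^ k)) ℓ
    rw [e2] at e3
    simp only [pow_zero, pow_one, hcs0, one_mul, hcsℓ, hτℓ] at e3
    exact add_right_cancel e3.symm
  have hDb : ∀ θ, θ ^ q = θ → (D θ) ^ q = D θ := by
    intro θ hθ
    rw [← hσ, hD, map_sum]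
    refine Finset.sum_congr rfl (fun k _ => ?_)
    rw [map_mul, hσ, hσ, hcsq, ← pow_mul, mul_comm (Q ^ k) q, pow_mul, hθ]
  -- the iterates of `a ↦ a^Q` are injective
  have hinjQ : ∀ i : ℕ, ∀ a b : F, a ^ (Q ^ i) = b ^ (Q ^ i) → a = b := by
    intro i
    induction i with
    | zero => intro a b h; simpa using h
    | succ i ih =>
      intro a b h
      apply ih
      apply τ.injective
      rw [hτ, hτ, ← pow_mul, ← pow_mul, ← pow_succ]
      exact h
  -- all `a`: `a^(Q^(ℓ b)) = a`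
  have hper : ∀ b : ℕ, ∀ a : F, a ^ (Q ^ (ℓ * b)) = a := by
    intro b
    induction b with
    | zero => intro a; simp
    | succ b ih =>
      intro a
      rw [Nat.mul_succ, pow_add, pow_mul, ih, hτℓ]
  -- Dedekind
  by_contra hall
  push Not at hall
  have hzero : ∀ θ : F, θ ^ q = θ → D θ = 0 := by
    intro θ hθ
    by_contra h
    exact hall (D θ) h (hDb θ hθ) (hDa θ)
  let Mq : Submonoid F :=
    { carrier := {a | a ^ q = a}
      mul_mem' := by
        intro a b ha hb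
        show (a * b) ^ q = a * b
        have ha' : a ^ q = a := ha
        have hb' : b ^ q = b := hb
        rw [mul_pow, ha', hb']
      one_mem' := one_pow q }
  let χ : Fin ℓ → (Mq →* F) := fun k => (powMonoidHom (Q ^ (k : ℕ))).comp Mq.subtype
  have hχ : ∀ (k : Fin ℓ) (a : Mq), χ k a = (a : F) ^ (Q ^ (k : ℕ)) := fun k a => rfl
  have hmem : ∀ a : Mq, (a : F) ^ q = (a : F) := fun a => a.2
  have hinj : Function.Injective χ := by
    -- it suffices to treat `i < j`
    have hlt : ∀ i j : Fin ℓ, i < j → χ i ≠ χ j := by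
      intro i j hij heq
      apply hdist
      obtain ⟨k, hk0, hkℓ, hjk⟩ : ∃ k : ℕ, 0 < k ∧ k < ℓ ∧ (j : ℕ) = (i : ℕ) + k := by
        refine ⟨(j : ℕ) - (i : ℕ), ?_, ?_, ?_⟩
        · have : (i : ℕ) < (j : ℕ) := hij
          omega
        · have := j.2
          omega
        · have : (i : ℕ) < (j : ℕ) := hij
          omega
      have hk : ∀ θ : F, θ ^ q = θ → θ ^ (Q ^ k) = θ := by
        intro θ hθ
        have h1 := DFunLike.congr_fun heq (⟨θ, hθ⟩ : Mq)
        rw [hχ, hχ, hjk] at h1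
        apply hinjQ (i : ℕ)
        rw [← pow_mul, ← pow_add, add_comm]
        exact h1.symm
      have hmul : ∀ a : ℕ, ∀ θ : F, θ ^ q = θ → θ ^ (Q ^ (k * a)) = θ := by
        intro a
        induction a with
        | zero => intro θ _; simp
        | succ a ih =>
          intro θ hθ
          rw [Nat.mul_succ, pow_add, pow_mul, ih θ hθ, hk θ hθ]
      have hcop : Nat.Coprime k ℓ := by
        rw [Nat.coprime_comm, Nat.Prime.coprime_iff_not_dvd hℓ]
        exact Nat.not_dvd_of_pos_of_lt hk0 hkℓ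
      obtain ⟨a, -, ha⟩ := Nat.exists_mul_mod_eq_one_of_coprime hcop hℓ.one_lt
      intro θ hθ
      have h1 := hmul a θ hθ
      have h2 : k * a = ℓ * (k * a / ℓ) + 1 := by
        have := Nat.div_add_mod (k * a) ℓ
        rw [ha] at this
        exact this.symm
      rw [h2, pow_succ, pow_mul, hper] at h1
      exact h1
    intro i j heq
    by_contra hne
    rcases lt_or_gt_of_ne hne with h | h
    · exact hlt i j h heq
    · exact hlt j i h heq.symm
  have hli : LinearIndependent F (fun k : Fin ℓ => ((χ k : Mq →* F) : Mq → F)) :=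
    (linearIndependent_monoidHom Mq F).comp χ hinj
  have h0 := Fintype.linearIndependent_iff.mp hli (fun k => cs (k : ℕ)) (by
    funext θ
    simp only [Finset.sum_apply, Pi.smul_apply, smul_eq_mul, Pi.zero_apply, hχ]
    have := hzero (θ : F) (hmem θ)
    rw [hD, ← Fin.sum_univ_eq_sum_range (fun k => cs k * (θ : F) ^ (Q ^ k)) ℓ] at this
    exact this) ⟨0, hℓ.pos⟩
  simp only [hcs0] at h0
  exact one_ne_zero h0

end Cfsg.Agent.Lib.Lead.ASCU
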