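import Mathlib
import Cfsg.Prelude.Def_GeometricClasses
import Cfsg.Agent.Lib.Helper27.ASC.Defs
import Cfsg.Agent.Lib.Lead.ASCU.Defs
import Cfsg.Agent.Lib.helper8.ASCUSUBFcore
import Cfsg.Agent.Lib.helper8.ASCUSUBFh90

/-!
# Project ASCU, piece USUBFO (helper8): a subfield structure of odd prime index can be rescaled so that the
standard hermitian form is rational on it
-/

set_option autoImplicit false
set_option linter.unusedVariables false

namespace Cfsg.Agent.Lib.Lead.ASCU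

open Cfsg Cfsg.Geo Cfsg.Agent.Lib.Helper27.ASC
open scoped MatrixGroups Matrix

variable {n : ℕ} {F : Type*} [Field F] [Fintype F]

/-- a scalar factor does not change the subfield subgroup -/
theorem ascusubf_subfieldSubgroup_scalar (F₀ : Subfield F) (C z : GL (Fin n) F)
    (hz : z ∈ scalars (Fin n) F) : subfieldSubgroup F₀ (C * z) = subfieldSubgroup F₀ C := by
  have hzc : ∀ g : GL (Fin n) F, z * g = g * z := by
    intro g
    obtain ⟨c, hc⟩ := (mem_scalars_iff z).mp hz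
    apply Units.ext
    rw [Units.val_mul, Units.val_mul, hc, Matrix.smul_mul, Matrix.mul_smul, Matrix.one_mul,
      Matrix.mul_one]
  have hconj : ∀ g : GL (Fin n) F, MulAut.conj (C * z) g = MulAut.conj C g := by
    intro g
    simp only [MulAut.conj_apply]
    calc C * z * g * (C * z)⁻¹ = C * (z * g) * z⁻¹ * C⁻¹ := by group
      _ = C * (g * z) * z⁻¹ * C⁻¹ := by rw [hzc g]
      _ = C * g * C⁻¹ := by group
  unfold subfieldSubgroup
  ext g
  simp only [Subgroup.mem_map, MulEquiv.coe_toMonoidHom]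
  constructor
  · rintro ⟨s, hs, rfl⟩
    exact ⟨s, hs, (hconj s).symm⟩
  · rintro ⟨s, hs, rfl⟩
    exact ⟨s, hs, hconj s⟩

/-- a form whose Gram matrix (in the sense of `ascusubfAct`) has entries in `F₀` is rational on `F₀` -/
theorem ascusubf_rational (q : ℕ) (σ : F →+* F) (hσ : ∀ a, σ a = a ^ q) (F₀ : Subfield F)
    (C : GL (Fin n) F)
    (hent : ∀ i j, ascusubfAct σ (C : Matrix (Fin n) (Fin n) F) 1 i j ∈ F₀) :
    IsFormRationalStructure (hermForm n F q) F₀ 1 C := by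
  intro u v hu hv
  rw [one_mul, ascusubf_herm_transport q σ hσ]
  unfold dotProduct Matrix.mulVec dotProduct
  refine sum_mem (fun i _ => mul_mem (hu i) (sum_mem (fun j _ => mul_mem (hent i j) ?_)))
  show σ (v j) ∈ F₀
  rw [hσ]
  exact pow_mem (hv j) q

/-- USUBFO -/
theorem uform_rational_odd (q : ℕ) (hF : Fintype.card F = q ^ 2) {P : Subgroup (GL (Fin n) F)}
    (hPU : P ≤ GU n F q) (hA : AbsIrr P) (F₀ : Subfield F) (ℓ : ℕ) (hℓ : ℓ.Prime) (hodd : Odd ℓ)
    (hcard : Fintype.card F = Nat.card F₀ ^ ℓ) (B : GL (Fin n) F) (hB : RealisesOver F₀ B P) :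
    ∃ B' : GL (Fin n) F, subfieldSubgroup F₀ B' = subfieldSubgroup F₀ B⁻¹ ∧
      IsFormRationalStructure (hermForm n F q) F₀ 1 B' := by
  classical
  obtain ⟨p, m, σ, hp, hchar, hqm, hσ, hσσ⟩ := ascusubf_frob q hF
  obtain ⟨τ, hτ, hτmem⟩ := ascusubf_tau F₀
  obtain ⟨Q, hQ⟩ : ∃ Q, Q = Nat.card F₀ := ⟨_, rfl⟩
  rw [← hQ] at hτ hcard
  have hQ2 : 2 ≤ Q := by
    rw [hQ, Nat.card_eq_fintype_card]
    exact Fintype.one_lt_card
  have hcomm : ∀ a, τ (σ a) = σ (τ a) := by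
    intro a
    rw [hτ, hσ, hτ, hσ, ← pow_mul, ← pow_mul, mul_comm]
  have hℓ3 : 3 ≤ ℓ := by
    have := hℓ.two_le
    rcases hodd with ⟨k, hk⟩
    omega
  rcases Nat.eq_zero_or_pos n with hn0 | hnpos
  · subst hn0
    refine ⟨B⁻¹, rfl, ?_⟩
    intro u v _ _
    have h0 : hermForm 0 F q (((B⁻¹ : GL (Fin 0) F) : Matrix (Fin 0) (Fin 0) F) *ᵥ u)
        (((B⁻¹ : GL (Fin 0) F) : Matrix (Fin 0) (Fin 0) F) *ᵥ v) = 0 := by
      unfold hermForm
      simp
    rw [h0, mul_zero]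
    exact F₀.zero_mem
  obtain ⟨c, hc⟩ := ascusubf_key q σ τ hσ hcomm hPU hA F₀ (fun a ha => (hτmem a).mpr ha) B hB
  obtain ⟨Bi, hBi⟩ : ∃ Bi : Matrix (Fin n) (Fin n) F,
      Bi = ((B⁻¹ : GL (Fin n) F) : Matrix (Fin n) (Fin n) F) := ⟨_, rfl⟩
  rw [← hBi] at hc
  obtain ⟨G, hG⟩ : ∃ G : Matrix (Fin n) (Fin n) F, G = ascusubfAct σ Bi 1 := ⟨_, rfl⟩
  rw [← hG] at hc
  have hcij : ∀ i j, τ (G i j) = c * G i j := by
    intro i j
    have := congrFun (congrFun hc i) j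
    simpa using this
  -- `G` is invertible, so it has a non-zero entry
  have hGdet : G.det ≠ 0 := by
    rw [hG]
    unfold ascusubfAct
    rw [Matrix.mul_one, Matrix.det_mul, Matrix.det_transpose]
    have h1 : IsUnit (Bi.map σ).det := by
      rw [hBi]
      exact ascform_map_isUnit_det σ B⁻¹
    have h2 : IsUnit Bi.det := by
      rw [hBi]
      exact (Matrix.isUnit_iff_isUnit_det _).mp (B⁻¹ : GL (Fin n) F).isUnit
    exact mul_ne_zero h2.ne_zero h1.ne_zero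
  obtain ⟨i₀, j₀, hij⟩ : ∃ i j, G i j ≠ 0 := by
    by_contra hcon
    push Not at hcon
    apply hGdet
    have : G = 0 := by
      ext i j
      exact hcon i j
    rw [this]
    haveI hne : Nonempty (Fin n) := ⟨⟨0, hnpos⟩⟩
    exact Matrix.det_zero
  -- `c` is fixed by `σ`
  have hGh : Gᵀ = G.map σ := by
    rw [hG]
    exact ascusubfAct_herm σ hσσ Bi
  have hGji : ∀ i j, G j i = σ (G i j) := by
    intro i j
    have := congrFun (congrFun hGh i) j
    simpa using this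
  have hcq : c ^ q = c := by
    have e1 : τ (G i₀ j₀) = σ c * G i₀ j₀ := by
      rw [hGji j₀ i₀, hcomm, hcij, map_mul]
    rw [hcij] at e1
    have e2 := mul_right_cancel₀ hij e1
    rw [← hσ]
    exact e2.symm
  -- the partial norms
  obtain ⟨cs, hcs0, hcsS⟩ : ∃ cs : ℕ → F, cs 0 = 1 ∧ ∀ k, cs (k + 1) = c * τ (cs k) :=
    ⟨fun k => Nat.rec 1 (fun _ x => c * τ x) k, rfl, fun _ => rfl⟩
  have hcsG : ∀ k : ℕ, ∀ i j, (G i j) ^ (Q ^ k) = cs k * G i j := by
    intro k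
    induction k with
    | zero => intro i j; rw [pow_zero, pow_one, hcs0, one_mul]
    | succ k ih =>
      intro i j
      rw [pow_succ, pow_mul, ih, ← hτ, map_mul, hcij, hcsS]
      ring
  have hτℓ : ∀ a : F, a ^ (Q ^ ℓ) = a := by
    intro a
    rw [← hcard]
    exact FiniteField.pow_card a
  have hcsℓ : cs ℓ = 1 := by
    have e1 := hcsG ℓ i₀ j₀
    rw [hτℓ] at e1
    have e2 : (1 : F) * G i₀ j₀ = cs ℓ * G i₀ j₀ := by rw [one_mul]; exact e1
    exact (mul_right_cancel₀ hij e2).symm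
  have hdist := ascusubf_not_sub (F := F) q Q ℓ hF hQ2 (by rw [← hF, hcard]) hℓ3
  obtain ⟨d, hd0, hdq, hcd⟩ := ascusubf_h90 q Q ℓ σ τ hσ hτ hℓ hτℓ hdist c hcq cs hcs0 hcsS hcsℓ
  obtain ⟨e, he0, hed⟩ := ascusubf_norm_surj q hF d hd0 hdq
  -- the rescaled structure
  obtain ⟨z, hz⟩ : ∃ z : GL (Fin n) F, z =
      Units.map (Matrix.scalar (Fin n) : F →+* Matrix (Fin n) (Fin n) F).toMonoidHom (Units.mk0 e he0) :=
    ⟨_, rfl⟩
  have hzs : z ∈ scalars (Fin n) F := ⟨Units.mk0 e he0, hz.symm⟩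
  have hzm : (z : Matrix (Fin n) (Fin n) F) = Matrix.scalar (Fin n) e := by rw [hz]; rfl
  refine ⟨B⁻¹ * z, ascusubf_subfieldSubgroup_scalar F₀ B⁻¹ z hzs, ?_⟩
  apply ascusubf_rational q σ hσ F₀
  have hB' : ((B⁻¹ * z : GL (Fin n) F) : Matrix (Fin n) (Fin n) F) = e • Bi := by
    rw [Units.val_mul, hzm, ← hBi]
    ext i j
    rw [Matrix.scalar_apply, Matrix.mul_diagonal, Matrix.smul_apply, smul_eq_mul, mul_comm]
  have hGram : ascusubfAct σ ((B⁻¹ * z : GL (Fin n) F) : Matrix (Fin n) (Fin n) F) 1 = d • G := by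
    rw [hB', hG]
    unfold ascusubfAct
    rw [Matrix.transpose_smul, Matrix.map_smul' σ e Bi, Matrix.smul_mul, Matrix.smul_mul,
      Matrix.mul_smul, smul_smul, hσ, ← pow_succ', hed]
    exact fun a b => map_mul σ a b
  intro i j
  rw [hGram, ← hτmem, Matrix.smul_apply, smul_eq_mul, map_mul, hcij]
  calc τ d * (c * G i j) = (c * τ d) * G i j := by ring
    _ = d * G i j := by rw [hcd]

end Cfsg.Agent.Lib.Lead.ASCU
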