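import Mathlib
import Cfsg.Prelude.Def_GeometricClasses
import Cfsg.Agent.Lib.Helper27.ASC.Defs
import Cfsg.Agent.Lib.Lead.ASCU.Defs
import Cfsg.Agent.Lib.Helper18.ASCNOSYMP
import Cfsg.Agent.Lib.helper8.ASCUSUBFcore
import Cfsg.Agent.Lib.helper8.ASCUUSUBFO

/-!
# Project ASCU, piece USUBF2 (helper8): a subfield structure of index two for an absolutely irreducible
subgroup of `GU_n(q)`, `n` odd: `q` is odd and the standard hermitian form is rational on it
-/

set_option autoImplicit false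
set_option linter.unusedVariables false

namespace Cfsg.Agent.Lib.Lead.ASCU

open Cfsg Cfsg.Geo Cfsg.Agent.Lib.Helper27.ASC
open scoped MatrixGroups Matrix

variable {n : ℕ} {F : Type*} [Field F] [Fintype F]

/-- the Gram matrix in the coordinates of a realisation is invariant under the conjugated group -/
theorem ascusubf_inv (q : ℕ) (σ : F →+* F) (hσ : ∀ a, σ a = a ^ q) {P : Subgroup (GL (Fin n) F)}
    (hPU : P ≤ GU n F q) (B : GL (Fin n) F) (x : GL (Fin n) F) (hx : x ∈ P) :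
    ascusubfAct σ ((B : Matrix (Fin n) (Fin n) F) * (x : Matrix (Fin n) (Fin n) F) *
        ((B⁻¹ : GL (Fin n) F) : Matrix (Fin n) (Fin n) F))
      (ascusubfAct σ ((B⁻¹ : GL (Fin n) F) : Matrix (Fin n) (Fin n) F) 1) =
      ascusubfAct σ ((B⁻¹ : GL (Fin n) F) : Matrix (Fin n) (Fin n) F) 1 := by
  have hBB' : ((B⁻¹ : GL (Fin n) F) : Matrix (Fin n) (Fin n) F) * (B : Matrix (Fin n) (Fin n) F) = 1 := by
    rw [← Units.val_mul, inv_mul_cancel]; rfl
  rw [← ascusubfAct_mul]
  have e : ((B⁻¹ : GL (Fin n) F) : Matrix (Fin n) (Fin n) F) *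
      ((B : Matrix (Fin n) (Fin n) F) * (x : Matrix (Fin n) (Fin n) F) *
        ((B⁻¹ : GL (Fin n) F) : Matrix (Fin n) (Fin n) F)) =
      (x : Matrix (Fin n) (Fin n) F) * ((B⁻¹ : GL (Fin n) F) : Matrix (Fin n) (Fin n) F) := by
    rw [← Matrix.mul_assoc, ← Matrix.mul_assoc, hBB', Matrix.one_mul]
  rw [e, ascusubfAct_mul, ascusubf_gu q σ hσ x (hPU hx)]

/-- transport of a bilinear Gram matrix -/
theorem ascusubf_bil_transport (A s : Matrix (Fin n) (Fin n) F) (u v : Fin n → F) :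
    (s *ᵥ u) ⬝ᵥ (A *ᵥ (s *ᵥ v)) = u ⬝ᵥ ((sᵀ * A * s) *ᵥ v) := by
  rw [← Matrix.mulVec_mulVec, ← Matrix.mulVec_mulVec, Matrix.dotProduct_mulVec u,
    Matrix.vecMul_transpose]

/-- USUBF2 -/
theorem uform_rational_two (q : ℕ) (hF : Fintype.card F = q ^ 2) (hodd : Odd n) (hn : 3 ≤ n)
    {P : Subgroup (GL (Fin n) F)} (hPU : P ≤ GU n F q) (hA : AbsIrr P) (F₀ : Subfield F)
    (hcard : Fintype.card F = Nat.card F₀ ^ 2) (B : GL (Fin n) F) (hB : RealisesOver F₀ B P) :
    Odd q ∧ IsFormRationalStructure (hermForm n F q) F₀ 1 B⁻¹ := by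
  classical
  obtain ⟨p, m, σ, hp, hchar, hqm, hσ, hσσ⟩ := ascusubf_frob q hF
  obtain ⟨τ, hτ, hτmem⟩ := ascusubf_tau F₀
  have hQq : Nat.card F₀ = q := by
    have h1 : Nat.card F₀ ^ 2 = q ^ 2 := by rw [← hcard, hF]
    exact Nat.pow_left_injective two_ne_zero h1
  have hτσ : ∀ a, τ a = σ a := by
    intro a
    rw [hτ, hσ, hQq]
  have hσmem : ∀ a, σ a = a ↔ a ∈ F₀ := by
    intro a
    rw [← hτσ]
    exact hτmem a
  obtain ⟨c, hc⟩ := ascusubf_key q σ σ hσ (fun _ => rfl) hPU hA F₀ (fun a ha => (hσmem a).mpr ha) B hB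
  obtain ⟨Bm, hBm⟩ : ∃ Bm : Matrix (Fin n) (Fin n) F, Bm = (B : Matrix (Fin n) (Fin n) F) := ⟨_, rfl⟩
  obtain ⟨Bi, hBi⟩ : ∃ Bi : Matrix (Fin n) (Fin n) F,
      Bi = ((B⁻¹ : GL (Fin n) F) : Matrix (Fin n) (Fin n) F) := ⟨_, rfl⟩
  have hBB : Bm * Bi = 1 := by
    rw [hBm, hBi, ← Units.val_mul, mul_inv_cancel]; rfl
  have hBB' : Bi * Bm = 1 := by
    rw [hBm, hBi, ← Units.val_mul, inv_mul_cancel]; rfl
  rw [← hBi] at hc
  obtain ⟨G, hG⟩ : ∃ G : Matrix (Fin n) (Fin n) F, G = ascusubfAct σ Bi 1 := ⟨_, rfl⟩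
  rw [← hG] at hc
  have hnpos : 0 < n := by omega
  -- `G` is invertible, so it has a non-zero entry
  have hGdet : G.det ≠ 0 := by
    rw [hG]
    unfold ascusubfAct
    rw [Matrix.mul_one, Matrix.det_mul, Matrix.det_transpose]
    have h1 : IsUnit (Bi.map σ).det := by
      rw [hBi]
      exact ascform_map_isUnit_det σ B⁻¹
    have h2 : IsUnit Bi.det := by
      rw [hBi]
      exact (Matrix.isUnit_iff_isUnit_det _).mp (B⁻¹ : GL (Fin n) F).isUnit
    exact mul_ne_zero h2.ne_zero h1.ne_zero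
  obtain ⟨i₀, j₀, hij⟩ : ∃ i j, G i j ≠ 0 := by
    by_contra hcon
    push Not at hcon
    apply hGdet
    have : G = 0 := by
      ext i j
      exact hcon i j
    rw [this]
    haveI hne : Nonempty (Fin n) := ⟨⟨0, hnpos⟩⟩
    exact Matrix.det_zero
  have hGh : Gᵀ = G.map σ := by
    rw [hG]
    exact ascusubfAct_herm σ hσσ Bi
  have hGt : Gᵀ = c • G := by rw [hGh, hc]
  -- `c = 1`
  have hc1 : c = 1 := by
    have e1 : G = (c * c) • G := by
      have := congrArg Matrix.transpose hGt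
      rw [Matrix.transpose_transpose, Matrix.transpose_smul, hGt, smul_smul] at this
      exact this
    have e2 : (c * c) * G i₀ j₀ = 1 * G i₀ j₀ := by
      have := congrFun (congrFun e1 i₀) j₀
      rw [Matrix.smul_apply, smul_eq_mul] at this
      rw [one_mul]
      exact this.symm
    have e3 : c * c = 1 := mul_right_cancel₀ hij e2
    have e4 : (c - 1) * (c + 1) = 0 := by ring_nf; rw [← sq] at *; linear_combination e3
    rcases mul_eq_zero.mp e4 with h | h
    · exact sub_eq_zero.mp h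
    · have hcm : c = -1 := eq_neg_of_add_eq_zero_left h
      have e5 : G.det = (-1 : F) ^ n * G.det := by
        have h1 : Gᵀ = -G := by rw [hGt, hcm, neg_smul, one_smul]
        have h2 := congrArg Matrix.det h1
        rw [Matrix.det_transpose, Matrix.det_neg, Fintype.card_fin] at h2
        exact h2
      rw [hodd.neg_one_pow, neg_one_mul] at e5
      have e6 : (2 : F) * G.det = 0 := by linear_combination e5
      have e7 : (2 : F) = 0 := by
        rcases mul_eq_zero.mp e6 with h | h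
        · exact h
        · exact absurd h hGdet
      rw [hcm]
      linear_combination -e7
  rw [hc1, one_smul] at hc hGt
  have hGσ : ∀ i j, σ (G i j) = G i j := by
    intro i j
    have := congrFun (congrFun hc i) j
    simpa using this
  have hGsymm : ∀ i j, G j i = G i j := by
    intro i j
    have := congrFun (congrFun hGt i) j
    simpa using this
  refine ⟨?_, ?_⟩
  swap
  · apply ascusubf_rational q σ hσ F₀
    intro i j
    rw [← hBi, ← hG, ← hσmem]
    exact hGσ i j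
  -- `q` is odd
  by_contra hqodd
  have hqeven : Even q := Nat.not_odd_iff_even.mp hqodd
  have hq2 : 2 ≤ q := by
    by_contra hlt
    have h1 : q ^ 2 ≤ 1 := by
      have : q ≤ 1 := by omega
      calc q ^ 2 ≤ 1 ^ 2 := Nat.pow_le_pow_left this 2
        _ = 1 := one_pow 2
    have := Fintype.one_lt_card (α := F)
    omega
  have hp2 : p = 2 := by
    have h1 : 2 ∣ p ^ m := by rw [← hqm]; exact even_iff_two_dvd.mp hqeven
    have h2 : 2 ∣ p := Nat.Prime.dvd_of_dvd_pow Nat.prime_two h1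
    exact ((Nat.prime_dvd_prime_iff_eq Nat.prime_two hp).mp h2).symm
  have h2F : (2 : F) = 0 := by
    haveI := hchar
    have := CharP.cast_eq_zero F p
    rw [hp2] at this
    exact_mod_cast this
  have hadd : ∀ a : F, a + a = 0 := by
    intro a
    linear_combination a * h2F
  -- the quadratic map
  obtain ⟨Q₀, hQ₀⟩ : ∃ Q₀ : (Fin n → F) → F, ∀ w, Q₀ w = w ⬝ᵥ (G *ᵥ w) := ⟨_, fun _ => rfl⟩
  have hGT : Gᵀ = G := hGt
  have hQadd : ∀ w w', Q₀ (w + w') = Q₀ w + Q₀ w' := by
    intro w w'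
    rw [hQ₀, hQ₀, hQ₀, Matrix.mulVec_add, dotProduct_add, add_dotProduct, add_dotProduct]
    have e1 : w' ⬝ᵥ (G *ᵥ w) = w ⬝ᵥ (G *ᵥ w') := by
      rw [Matrix.dotProduct_mulVec, ← Matrix.mulVec_transpose, hGT, dotProduct_comm]
    rw [e1]
    linear_combination hadd (w ⬝ᵥ (G *ᵥ w'))
  have hQsmul : ∀ (a : F) w, Q₀ (a • w) = a * a * Q₀ w := by
    intro a w
    rw [hQ₀, hQ₀, Matrix.mulVec_smul, dotProduct_smul, smul_dotProduct, smul_eq_mul, smul_eq_mul]
    ring
  -- invariance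
  have hQinv : ∀ x ∈ P, ∀ w, Q₀ ((Bm * (x : Matrix (Fin n) (Fin n) F) * Bi) *ᵥ w) = Q₀ w := by
    intro x hx w
    have e1 := ascusubf_inv q σ hσ hPU B x hx
    rw [← hBm, ← hBi, ← hG] at e1
    have e2 : (Bm * (x : Matrix (Fin n) (Fin n) F) * Bi).map σ =
        Bm * (x : Matrix (Fin n) (Fin n) F) * Bi := by
      ext i j
      rw [Matrix.map_apply, hσmem, hBm, hBi]
      exact hB (x : Matrix (Fin n) (Fin n) F) ⟨x, hx, rfl⟩ i j
    unfold ascusubfAct at e1
    rw [e2] at e1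
    rw [hQ₀, hQ₀, ascusubf_bil_transport, e1]
  -- the invariant subspace
  let W : Submodule F (Fin n → F) :=
    { carrier := {v | Q₀ (Bm *ᵥ v) = 0}
      add_mem' := by
        intro a b ha hb
        show Q₀ (Bm *ᵥ (a + b)) = 0
        have ha' : Q₀ (Bm *ᵥ a) = 0 := ha
        have hb' : Q₀ (Bm *ᵥ b) = 0 := hb
        rw [Matrix.mulVec_add, hQadd, ha', hb', add_zero]
      zero_mem' := by
        show Q₀ (Bm *ᵥ 0) = 0
        rw [Matrix.mulVec_zero, hQ₀, zero_dotProduct]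
      smul_mem' := by
        intro a v hv
        show Q₀ (Bm *ᵥ (a • v)) = 0
        have hv' : Q₀ (Bm *ᵥ v) = 0 := hv
        rw [Matrix.mulVec_smul, hQsmul, hv', mul_zero] }
  have hWmem : ∀ v, v ∈ W ↔ Q₀ (Bm *ᵥ v) = 0 := fun v => Iff.rfl
  have hWinv : ∀ s ∈ matrixSet P, W.map (Matrix.toLin' s) ≤ W := by
    rintro _ ⟨x, hx, rfl⟩ _ ⟨v, hv, rfl⟩
    rw [hWmem, Matrix.toLin'_apply, Matrix.mulVec_mulVec]
    have e : Bm * (x : Matrix (Fin n) (Fin n) F) = (Bm * (x : Matrix (Fin n) (Fin n) F) * Bi) * Bm := by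
      rw [Matrix.mul_assoc, hBB', Matrix.mul_one]
    rw [e, ← Matrix.mulVec_mulVec, hQinv x hx]
    exact (hWmem v).mp hv
  rcases hA.1 W hWinv with hW | hW
  · -- a non-zero vector of `W`
    let i0 : Fin n := ⟨0, by omega⟩
    let i1 : Fin n := ⟨1, by omega⟩
    have h01 : i0 ≠ i1 := by
      intro h
      have := congrArg Fin.val h
      simp [i0, i1] at this
    have hkey : ∃ w : Fin n → F, w ≠ 0 ∧ Q₀ w = 0 := by
      by_cases ha : Q₀ (Pi.single i0 1) = 0
      · refine ⟨Pi.single i0 1, ?_, ha⟩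
        intro h
        have := congrFun h i0
        simp at this
      · obtain ⟨a, ha'⟩ : ∃ a, a = Q₀ (Pi.single i0 1) := ⟨_, rfl⟩
        obtain ⟨b, hb'⟩ : ∃ b, b = Q₀ (Pi.single i1 1) := ⟨_, rfl⟩
        rw [← ha'] at ha
        -- a square root of `b / a`
        obtain ⟨r, hr⟩ : ∃ r : F, r * r = b / a := by
          obtain ⟨k, hk⟩ := hqeven
          refine ⟨(b / a) ^ (q * k), ?_⟩
          rw [← pow_add, ← mul_add, ← hk, ← sq, ← hF]
          exact FiniteField.pow_card _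
        refine ⟨r • Pi.single i0 1 + Pi.single i1 1, ?_, ?_⟩
        · intro h
          have := congrFun h i1
          simp [h01.symm] at this
        · rw [hQadd, hQsmul, ← ha', ← hb', hr, div_mul_cancel₀ b ha]
          exact hadd b
    obtain ⟨w, hw0, hwQ⟩ := hkey
    have hv : Bi *ᵥ w ∈ W := by
      rw [hWmem, Matrix.mulVec_mulVec, hBB, Matrix.one_mulVec]
      exact hwQ
    rw [hW, Submodule.mem_bot] at hv
    apply hw0
    have := congrArg (fun v => Bm *ᵥ v) hv
    simp only [Matrix.mulVec_mulVec, hBB, Matrix.one_mulVec, Matrix.mulVec_zero] at this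
    exact this
  · -- `G` is alternating
    have hall : ∀ w, Q₀ w = 0 := by
      intro w
      have h1 : Bi *ᵥ w ∈ W := by rw [hW]; exact Submodule.mem_top
      rw [hWmem, Matrix.mulVec_mulVec, hBB, Matrix.one_mulVec] at h1
      exact h1
    have hdiag : ∀ i, G i i = 0 := by
      intro i
      have := hall (Pi.single i 1)
      rw [hQ₀] at this
      simpa using this
    have hskew : ∀ i j, G i j = - G j i := by
      intro i j
      rw [hGsymm i j]
      linear_combination hadd (G i j)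
    exact hGdet (ascnosymp_det hodd G hskew hdiag)

end Cfsg.Agent.Lib.Lead.ASCU
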