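import Cfsg.Agent.Lib.helper8.BGLBT2
import Cfsg.Agent.Lib.helper8.ChevBr2
import Cfsg.Agent.Lib.helper8.ChevOrdAll
import Cfsg.Agent.Lib.helper8.ChevCommAll
import Cfsg.Agent.Lib.helper8.ChevBNAll
import Cfsg.Agent.Lib.helper8.ChevPar2
import Cfsg.Agent.Lib.Helper22.BTTGEN3
import Cfsg.Agent.Lib.Helper25.BTTGEN5
import Cfsg.Agent.Lib.Helper26.BTTGRP2
import Cfsg.Agent.Lib.Helper27.BTTROOT1
import Cfsg.Agent.Lib.helper15.BTTGRP3

/-!
Project BGL, row BT3 (helper8): the Lang step for standard parabolic subgroups and the RATIONAL canonical parabolic.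

`σ = h8Psi D φ` (entrywise ring endomorphism of the finite field).
* `bglbt3_lang`: if `g ∈ G` and `g⁻¹ σ(g) ∈ P_J` (`J` the zero set of a dominant level function `L`), then `g ∈ m P_J` for some
  `σ`-fixed `m ∈ G`.  (Bruhat form `g = u n b`; split `u = u_P u_Q` along the sign of `n • L` (`h8split_main`);
  `u_P⁻¹ σ(u_P)` is both in `Par (n • L)` and strictly lowers the `n • L`-levels, so it is `1`.)
* `bglbt3_main`: a `σ`-stable non-trivial `p`-subgroup `U` of `G` has `N_G(U) ≤ m P_J m⁻¹`, `U ≤ m U_J m⁻¹` with `J` proper and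
  `m` FIXED by `σ`.
-/

set_option autoImplicit false

namespace Cfsg.Agent.Lib.helper8.BTT

open Cfsg.Lie Cfsg.Lie.ChevalleyDatum Cfsg.Agent.Lib.helper8

universe u

section generic
variable {ι : Type*} [DecidableEq ι] [Fintype ι] {F : Type*} [Field F]

theorem bglbt3_mul_entry (M M' : Matrix ι ι F) (i j : ι) (h : (M * M') i j ≠ 0) :
    ∃ k, M i k ≠ 0 ∧ M' k j ≠ 0 := by
  by_contra hno
  apply h
  rw [Matrix.mul_apply]
  apply Finset.sum_eq_zero
  intro k _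
  by_cases h1 : M i k = 0
  · rw [h1, zero_mul]
  · by_cases h2 : M' k j = 0
    · rw [h2, mul_zero]
    · exact absurd ⟨k, h1, h2⟩ hno

/-- `Lev ℓ ℓ' · Par ℓ · Lev ℓ' ℓ ⊆ Par ℓ'` -/
theorem bglbt3_lev_par_lev (ℓ ℓ' : ι → ℝ) (A P B : Matrix ι ι F) (hA : Lev ℓ ℓ' A) (hP : Par ℓ P)
    (hB : Lev ℓ' ℓ B) : Par ℓ' (A * P * B) := by
  intro i k hne
  obtain ⟨l, h1, h2⟩ := bglbt3_mul_entry _ _ i k hne
  obtain ⟨j, h3, h4⟩ := bglbt3_mul_entry _ _ i l h1
  have e1 := hA i j h3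
  have e2 := hP j l h4
  have e3 := hB l k h2
  linarith

/-- a matrix which does not lower the `ℓ`-levels and such that `M - 1` strictly lowers them is `1` -/
theorem bglbt3_eq_one (ℓ ℓ' : ι → ℝ) (hℓ : ∀ i, ℓ' i = - ℓ i) (M : Matrix ι ι F) (h1 : Par ℓ M)
    (h2 : FilP ℓ' M) : M = 1 := by
  ext i j
  by_contra hne
  have hne' : (M - 1) i j ≠ 0 := by
    rw [Matrix.sub_apply]
    exact sub_ne_zero.2 hne
  have e2 := h2 i j hne'
  rw [hℓ i, hℓ j] at e2
  by_cases hij : i = j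
  · subst hij
    linarith
  · have hM : M i j ≠ 0 := by
      intro h0
      apply hne
      rw [h0, Matrix.one_apply, if_neg hij]
    have e1 := h1 i j hM
    linarith

/-- an entrywise ring homomorphism preserves `Lev` -/
theorem bglbt3_lev_map {K : Type*} [Field K] (φ : K →+* F) (ℓ ℓ' : ι → ℝ) (M : Matrix ι ι K)
    (h : Lev ℓ ℓ' M) : Lev ℓ ℓ' (M.map φ) := by
  intro i j hne
  apply h i j
  intro h0
  apply hne
  rw [Matrix.map_apply, h0, map_zero]

end generic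

theorem bglbt3_aux {G : Type*} [Group G] (a c Sa Sc g Sg : G) (hg : g = a * c) (hSg : Sg = Sa * Sc) :
    a⁻¹ * Sa = c * (g⁻¹ * Sg) * Sc⁻¹ := by
  subst hg hSg
  group

section grp
variable {F : Type u} [Field F] (D : ChevalleyDatum)

theorem bglbt3_lvl_neg (L : Fin D.nroots → ℝ) (i : D.Idx) : lvl D (-L) i = - lvl D L i := by
  cases i with
  | inl a => simp [lvl]
  | inr r => simp [lvl]

theorem bglbt3_lv_neg (L : Fin D.nroots → ℝ) (r : ℕ) : lv D (-L) r = - lv D L r := by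
  unfold lv
  by_cases h : r < D.nroots
  · rw [dif_pos h, dif_pos h, Pi.neg_apply]
  · rw [dif_neg h, dif_neg h, neg_zero]

/-- the subgroup of `GL` of the matrices which do not lower the `ℓ`-levels -/
def bglbt3_parSub [Finite F] (ℓ : D.Idx → ℝ) : Subgroup (GL D.Idx F) where
  carrier := {g | Par ℓ (g : Matrix D.Idx D.Idx F)}
  one_mem' := par_one ℓ
  mul_mem' := fun {a b} ha hb => par_mul ℓ _ _ ha hb
  inv_mem' := fun {a} ha => par_inv ℓ a ha

/-- the subgroup of `GL` of the matrices `g` with `g - 1` strictly raising the `ℓ`-levels -/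
def bglbt3_filPSub [Finite F] (ℓ : D.Idx → ℝ) : Subgroup (GL D.Idx F) where
  carrier := {g | FilP ℓ (g : Matrix D.Idx D.Idx F)}
  one_mem' := filP_one ℓ
  mul_mem' := fun {a b} ha hb => filP_mul ℓ _ _ ha hb
  inv_mem' := fun {a} ha => filP_inv ℓ a ha

/-- `P_J ⊆ Par ℓ_L` for dominant `L` with zero set `J`. -/
theorem bglbt3_PJ_le_par [Finite F] (hD : D ∈ [chevG2, chevB2, chevD4, chevF4, chevE6, chevE7, chevE8])
    (L : Fin D.nroots → ℝ) (hL : L ∈ levE D) (hdom : Dom D L) (z : GL D.Idx F)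
    (hz : z ∈ D.parabolicSubgroup F (zeroSet D L)) : Par (lvl D L) (z : Matrix D.Idx D.Idx F) := by
  have hB := h8base_all.{u} D hD
  have hle : D.parabolicSubgroup F (zeroSet D L) ≤ bglbt3_parSub D (lvl D L) := by
    unfold ChevalleyDatum.parabolicSubgroup
    apply sup_le
    · intro b hb
      exact B_par D hD L hL hdom b hb
    · rw [Subgroup.closure_le]
      rintro g ⟨j, hjJ, hj, hg⟩
      show Par (lvl D L) (g : Matrix D.Idx D.Idx F)
      rw [hg]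
      have h0 : lv D L (D.simple j) = 0 := hjJ.2
      have hs : D.simple j < D.nroots := (h8simple_pos D (h8bn_all D hD) j hj).1
      obtain ⟨hn, hneg⟩ := lev_neg D hD L hL (D.simple j) hs
      have e : D.nMat F (D.simple j) 1 =
          D.x F (D.simple j) 1 * (D.x F (D.neg (D.simple j)) (-(1 : F)⁻¹) * (D.x F (D.simple j) 1 * 1)) := by
        unfold ChevalleyDatum.nMat ChevalleyDatum.nWord ChevalleyDatum.wordMat
        simp only [List.map_cons, List.map_nil, List.prod_cons, List.prod_nil]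
      rw [e]
      have h1 : Par (lvl D L) (D.x F (D.simple j) 1) :=
        x_par D hD L hL _ hs _ (le_of_eq h0.symm)
      have h2 : Par (lvl D L) (D.x F (D.neg (D.simple j)) (-(1 : F)⁻¹)) :=
        x_par D hD L hL _ hn _ (by rw [hneg, h0, neg_zero])
      exact par_mul _ _ _ h1 (par_mul _ _ _ h2 (par_mul _ _ _ h1 (par_one _)))
  exact hle hz

/-- `G ∩ Par ℓ_L ⊆ P_J` for dominant `L` with zero set `J` (an element of `Par` normalises `G ∩ FilP = U_J`; S1049). -/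
theorem bglbt3_par_le_PJ [Fintype F] (p : ℕ) [Fact p.Prime] [CharP F p]
    (hD : D ∈ [chevG2, chevB2, chevD4, chevF4, chevE6, chevE7, chevE8])
    (L : Fin D.nroots → ℝ) (hL : L ∈ levE D) (hdom : Dom D L) (z : GL D.Idx F)
    (hzG : z ∈ D.group F) (hz : Par (lvl D L) (z : Matrix D.Idx D.Idx F)) :
    z ∈ D.parabolicSubgroup F (zeroSet D L) := by
  have hJ : ∀ j ∈ zeroSet D L, j < D.rank := fun j hj => hj.1
  have hfwd : ∀ w : GL D.Idx F, w ∈ D.group F → Par (lvl D L) (w : Matrix D.Idx D.Idx F) →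
      ∀ q ∈ D.unipotentRadical F (zeroSet D L), w * q * w⁻¹ ∈ D.unipotentRadical F (zeroSet D L) := by
    intro w hwG hw q hq
    obtain ⟨hqG, hqF⟩ := (filP_eq_UJ D hD p L hL hdom q).2 hq
    apply (filP_eq_UJ D hD p L hL hdom _).1
    exact ⟨(D.group F).mul_mem ((D.group F).mul_mem hwG hqG) ((D.group F).inv_mem hwG),
      par_conj_filP _ _ _ hw hqF⟩
  rw [← Cfsg.Agent.S1049.result (F := F) D hD (zeroSet D L) hJ]
  refine Subgroup.mem_inf.2 ⟨?_, hzG⟩
  rw [Subgroup.mem_normalizer_iff]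
  intro q
  constructor
  · intro hq
    exact hfwd z hzG hz q hq
  · intro hq
    have h1 := hfwd z⁻¹ ((D.group F).inv_mem hzG) (par_inv _ z hz) _ hq
    have h2 : z⁻¹ * (z * q * z⁻¹) * z⁻¹⁻¹ = q := by group
    rw [h2] at h1
    exact h1

/-- products of `x_r(c)`, `r` positive with `L r < 0`: `g - 1` strictly raises the `(-L)`-levels -/
theorem bglbt3_UP_filP [Finite F] (hD : D ∈ [chevG2, chevB2, chevD4, chevF4, chevE6, chevE7, chevE8])
    (L : Fin D.nroots → ℝ) (hL : L ∈ levE D) (P : ℕ → Bool) (hP : ∀ r, P r = true → lv D L r < 0)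
    (z : GL D.Idx F)
    (hz : z ∈ Subgroup.closure {g : GL D.Idx F | ∃ (r : ℕ) (c : F), D.IsPosRoot r ∧ P r = true ∧
      g = h8xU D (h8base_all.{u} D hD) r c}) :
    FilP (lvl D (-L)) (z : Matrix D.Idx D.Idx F) := by
  have hle : Subgroup.closure {g : GL D.Idx F | ∃ (r : ℕ) (c : F), D.IsPosRoot r ∧ P r = true ∧
      g = h8xU D (h8base_all.{u} D hD) r c} ≤ bglbt3_filPSub D (lvl D (-L)) := by
    rw [Subgroup.closure_le]
    rintro g ⟨r, c, hr, hPr, rfl⟩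
    show FilP (lvl D (-L)) ((h8xU D (h8base_all.{u} D hD) r c : GL D.Idx F) : Matrix D.Idx D.Idx F)
    rw [h8xU_val]
    have hneg : 0 < lv D (-L) r := by
      rw [bglbt3_lv_neg]
      have := hP r hPr
      linarith
    exact fil_filP _ _ hneg _ (x_fil D hD (-L) ((levE D).neg_mem hL) r hr.1 c (le_of_lt hneg))
  exact hle hz

/-- products of `x_r(c)`, `r` positive with `0 ≤ L r`, do not lower the `L`-levels -/
theorem bglbt3_UQ_par [Finite F] (hD : D ∈ [chevG2, chevB2, chevD4, chevF4, chevE6, chevE7, chevE8])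
    (L : Fin D.nroots → ℝ) (hL : L ∈ levE D) (P : ℕ → Bool) (hP : ∀ r, P r = false → 0 ≤ lv D L r)
    (z : GL D.Idx F)
    (hz : z ∈ Subgroup.closure {g : GL D.Idx F | ∃ (r : ℕ) (c : F), D.IsPosRoot r ∧ P r = false ∧
      g = h8xU D (h8base_all.{u} D hD) r c}) :
    Par (lvl D L) (z : Matrix D.Idx D.Idx F) := by
  have hle : Subgroup.closure {g : GL D.Idx F | ∃ (r : ℕ) (c : F), D.IsPosRoot r ∧ P r = false ∧
      g = h8xU D (h8base_all.{u} D hD) r c} ≤ bglbt3_parSub D (lvl D L) := by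
    rw [Subgroup.closure_le]
    rintro g ⟨r, c, hr, hPr, rfl⟩
    show Par (lvl D L) ((h8xU D (h8base_all.{u} D hD) r c : GL D.Idx F) : Matrix D.Idx D.Idx F)
    rw [h8xU_val]
    exact x_par D hD L hL r hr.1 c (hP r hPr)
  exact hle hz

/-- `σ` maps the group generated by the `x_r(c)`, `r` positive with `P r`, into itself -/
theorem bglbt3_UP_map (hD : D ∈ [chevG2, chevB2, chevD4, chevF4, chevE6, chevE7, chevE8])
    (φ : F →+* F) (P : ℕ → Bool) (z : GL D.Idx F)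
    (hz : z ∈ Subgroup.closure {g : GL D.Idx F | ∃ (r : ℕ) (c : F), D.IsPosRoot r ∧ P r = true ∧
      g = h8xU D (h8base_all.{u} D hD) r c}) :
    h8Psi D φ z ∈ Subgroup.closure {g : GL D.Idx F | ∃ (r : ℕ) (c : F), D.IsPosRoot r ∧ P r = true ∧
      g = h8xU D (h8base_all.{u} D hD) r c} := by
  have hle : Subgroup.closure {g : GL D.Idx F | ∃ (r : ℕ) (c : F), D.IsPosRoot r ∧ P r = true ∧
      g = h8xU D (h8base_all.{u} D hD) r c} ≤
      (Subgroup.closure {g : GL D.Idx F | ∃ (r : ℕ) (c : F), D.IsPosRoot r ∧ P r = true ∧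
      g = h8xU D (h8base_all.{u} D hD) r c}).comap (h8Psi D φ) := by
    rw [Subgroup.closure_le]
    rintro g ⟨r, c, hr, hPr, rfl⟩
    rw [SetLike.mem_coe, Subgroup.mem_comap, h8Psi_xU D _ (h8base_all.{u} D hD)]
    exact Subgroup.subset_closure ⟨r, φ c, hr, hPr, rfl⟩
  exact hle hz

/-- `σ` fixes the subgroup generated by the `n_r(1)` elementwise -/
theorem bglbt3_N0_fix (hD : D ∈ [chevG2, chevB2, chevD4, chevF4, chevE6, chevE7, chevE8])
    (φ : F →+* F) (n : GL D.Idx F)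
    (hn : n ∈ Subgroup.closure {g : GL D.Idx F | ∃ r : ℕ, r < D.nroots ∧
      (g : Matrix D.Idx D.Idx F) = D.nMat F r 1}) : h8Psi D φ n = n := by
  have hB := h8base_all.{u} D hD
  have hle : Subgroup.closure {g : GL D.Idx F | ∃ r : ℕ, r < D.nroots ∧
      (g : Matrix D.Idx D.Idx F) = D.nMat F r 1} ≤
      (MonoidHom.eqLocus (h8Psi D φ) (MonoidHom.id (GL D.Idx F))) := by
    rw [Subgroup.closure_le]
    rintro g ⟨r, hr, hg⟩
    have e : g = h8nU D hB r 1 := Units.ext (by rw [hg, h8nU_val])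
    show h8Psi D φ g = g
    rw [e, h8Psi_nU D hB hB, map_one]
  exact hle hn

/-- `N = H · ⟨n_r(1)⟩` -/
theorem bglbt3_N_decomp (hD : D ∈ [chevG2, chevB2, chevD4, chevF4, chevE6, chevE7, chevE8])
    (n : GL D.Idx F) (hn : n ∈ D.monomialSubgroup F) :
    ∃ h ∈ D.diagonalSubgroup F, ∃ n₀ ∈ Subgroup.closure {g : GL D.Idx F | ∃ r : ℕ, r < D.nroots ∧
      (g : Matrix D.Idx D.Idx F) = D.nMat F r 1}, n = h * n₀ := by
  have hB := h8base_all.{u} D hD
  have hA := h8reflAll D hD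
  obtain ⟨dep, par, horb⟩ := (h8bn_all D hD).orb
  have hnorm := h8N_le_normalizer_H (F := F) D hB hA dep par horb
  have hle : Subgroup.closure {g : GL D.Idx F | ∃ r : ℕ, r < D.nroots ∧
      (g : Matrix D.Idx D.Idx F) = D.nMat F r 1} ≤
      Subgroup.normalizer (D.diagonalSubgroup F : Set (GL D.Idx F)) := by
    refine le_trans ?_ hnorm
    unfold ChevalleyDatum.monomialSubgroup
    exact le_sup_right
  have hmem : n ∈ ((D.diagonalSubgroup F ⊔ Subgroup.closure {g : GL D.Idx F | ∃ r : ℕ, r < D.nroots ∧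
      (g : Matrix D.Idx D.Idx F) = D.nMat F r 1} : Subgroup (GL D.Idx F)) : Set (GL D.Idx F)) := hn
  rw [Subgroup.coe_mul_of_right_le_normalizer_left _ _ hle] at hmem
  obtain ⟨h, hh, n₀, hn₀, rfl⟩ := hmem
  exact ⟨h, hh, n₀, hn₀, rfl⟩

/-- BT3a, the Lang step: `g⁻¹ σ(g) ∈ P_J` implies `g ∈ m P_J` with `σ m = m`. -/
theorem bglbt3_lang [Fintype F] (p : ℕ) [Fact p.Prime] [CharP F p]
    (hD : D ∈ [chevG2, chevB2, chevD4, chevF4, chevE6, chevE7, chevE8]) (φ : F →+* F)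
    (L : Fin D.nroots → ℝ) (hL : L ∈ levE D) (hdom : Dom D L)
    (g : GL D.Idx F) (hg : g ∈ D.group F)
    (hy : g⁻¹ * h8Psi D φ g ∈ D.parabolicSubgroup F (zeroSet D L)) :
    ∃ m ∈ D.group F, h8Psi D φ m = m ∧ m⁻¹ * g ∈ D.parabolicSubgroup F (zeroSet D L) := by
  classical
  have hB := h8base_all.{u} D hD
  have hC := h8commAll.{u} D hD
  obtain ⟨hO, _⟩ := h8ord_all D hD
  -- Bruhat form of `g⁻¹`
  obtain ⟨b, hb, n, hn, u, hu, e⟩ :=
    (Cfsg.Agent.S1100.result (F := F) D hD).1 g⁻¹ ((D.group F).inv_mem hg)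
  have huU : u ∈ D.posUnipotent F := by
    revert hu
    apply Subgroup.closure_mono
    rintro z ⟨r, t, hr, _, hz⟩
    exact ⟨r, t, hr, hz⟩
  have eg : g = u⁻¹ * n⁻¹ * b⁻¹ := by
    have : g = (g⁻¹)⁻¹ := (inv_inv g).symm
    rw [this, e]
    group
  -- `n⁻¹ = h n₀`
  obtain ⟨h, hh, n₀, hn₀, en⟩ := bglbt3_N_decomp D hD n⁻¹ ((D.monomialSubgroup F).inv_mem hn)
  have hn₀N : n₀ ∈ D.monomialSubgroup F := by
    unfold ChevalleyDatum.monomialSubgroup
    exact Subgroup.mem_sup_right hn₀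
  have hn₀fix : h8Psi D φ n₀ = n₀ := bglbt3_N0_fix D hD φ n₀ hn₀
  obtain ⟨L', hL', _, hlev⟩ := N_lev D hD n₀ hn₀N L hL
  have hlevi : Lev (lvl D L') (lvl D L) ((n₀⁻¹ : GL D.Idx F) : Matrix D.Idx D.Idx F) :=
    lev_inv _ _ n₀ hlev
  -- split `u⁻¹`
  let P : ℕ → Bool := fun r => decide (lv D L' r < 0)
  have hPt : ∀ r, P r = true → lv D L' r < 0 := fun r hr => of_decide_eq_true hr
  have hPf : ∀ r, P r = false → 0 ≤ lv D L' r := fun r hr => not_lt.1 (of_decide_eq_false hr)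
  obtain ⟨t, et⟩ := h8split_main D hB hC hO P u⁻¹ ((D.posUnipotent F).inv_mem huU)
  set uP := h8wordU D hB (h8ordP D P 0 t) with huP
  set uQ := h8wordU D hB (h8ordQ D P 0 t) with huQ
  have huPm := h8ordP_mem D hB P 0 t
  have huQm := h8ordQ_mem D hB P 0 t
  have huPσ := bglbt3_UP_map D hD φ P uP huPm
  have hF1 : FilP (lvl D (-L')) (uP : Matrix D.Idx D.Idx F) := bglbt3_UP_filP D hD L' hL' P hPt uP huPm
  have hF2 : FilP (lvl D (-L')) ((h8Psi D φ uP : GL D.Idx F) : Matrix D.Idx D.Idx F) :=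
    bglbt3_UP_filP D hD L' hL' P hPt _ huPσ
  have hQ1 : Par (lvl D L') (uQ : Matrix D.Idx D.Idx F) := bglbt3_UQ_par D hD L' hL' P hPf uQ huQm
  have hQ2 : Par (lvl D L') ((h8Psi D φ uQ : GL D.Idx F) : Matrix D.Idx D.Idx F) := by
    rw [h8Psi_val]
    exact bglbt2_par_map φ _ _ hQ1
  have hh1 : Par (lvl D L') (h : Matrix D.Idx D.Idx F) := lev_par _ _ (H_lev D hD _ h hh)
  have hh2 : Par (lvl D L') ((h8Psi D φ h : GL D.Idx F) : Matrix D.Idx D.Idx F) := by
    rw [h8Psi_val]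
    exact bglbt2_par_map φ _ _ hh1
  have hb1 : Par (lvl D L) ((b⁻¹ : GL D.Idx F) : Matrix D.Idx D.Idx F) :=
    B_par D hD L hL hdom _ ((D.borelSubgroup F).inv_mem hb)
  have hb2 : Par (lvl D L) ((h8Psi D φ b⁻¹ : GL D.Idx F) : Matrix D.Idx D.Idx F) := by
    rw [h8Psi_val]
    exact bglbt2_par_map φ _ _ hb1
  have hyP : Par (lvl D L) ((g⁻¹ * h8Psi D φ g : GL D.Idx F) : Matrix D.Idx D.Idx F) :=
    bglbt3_PJ_le_par D hD L hL hdom _ hy
  -- the key identity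
  have eg2 : g = uP * (uQ * h * n₀ * b⁻¹) := by
    rw [eg, et, en]
    group
  have e1 : h8Psi D φ g = h8Psi D φ uP * (h8Psi D φ uQ * h8Psi D φ h * n₀ * h8Psi D φ b⁻¹) := by
    have := congrArg (h8Psi D φ) eg2
    rw [this, map_mul, map_mul, map_mul, map_mul, hn₀fix]
  have key : uP⁻¹ * h8Psi D φ uP =
      uQ * h * (n₀ * (b⁻¹ * (g⁻¹ * h8Psi D φ g) * (h8Psi D φ b⁻¹)⁻¹) * n₀⁻¹) *
        (h8Psi D φ h)⁻¹ * (h8Psi D φ uQ)⁻¹ := by
    have h1 := bglbt3_aux uP (uQ * h * n₀ * b⁻¹) (h8Psi D φ uP)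
      (h8Psi D φ uQ * h8Psi D φ h * n₀ * h8Psi D φ b⁻¹) g (h8Psi D φ g) eg2 e1
    rw [h1]
    group
  -- hence `σ uP = uP`
  have hpar : Par (lvl D L') ((uP⁻¹ * h8Psi D φ uP : GL D.Idx F) : Matrix D.Idx D.Idx F) := by
    rw [key]
    have hmid : Par (lvl D L) ((b⁻¹ * (g⁻¹ * h8Psi D φ g) * (h8Psi D φ b⁻¹)⁻¹ : GL D.Idx F) :
        Matrix D.Idx D.Idx F) := by
      have := par_mul (lvl D L) _ _ (par_mul (lvl D L) _ _ hb1 hyP) (par_inv _ _ hb2)
      simpa only [Units.val_mul] using this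
    have hmid2 : Par (lvl D L') ((n₀ * (b⁻¹ * (g⁻¹ * h8Psi D φ g) * (h8Psi D φ b⁻¹)⁻¹) * n₀⁻¹ :
        GL D.Idx F) : Matrix D.Idx D.Idx F) := by
      have := bglbt3_lev_par_lev (lvl D L) (lvl D L') _ _ _ hlev hmid hlevi
      simpa only [Units.val_mul] using this
    have := par_mul (lvl D L') _ _ (par_mul (lvl D L') _ _ (par_mul (lvl D L') _ _
      (par_mul (lvl D L') _ _ hQ1 hh1) hmid2) (par_inv _ _ hh2)) (par_inv _ _ hQ2)
    simpa only [Units.val_mul] using this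
  have hfil : FilP (lvl D (-L')) ((uP⁻¹ * h8Psi D φ uP : GL D.Idx F) : Matrix D.Idx D.Idx F) := by
    have := filP_mul (lvl D (-L')) _ _ (filP_inv _ _ hF1) hF2
    simpa only [Units.val_mul] using this
  have hone : uP⁻¹ * h8Psi D φ uP = 1 := by
    apply Units.ext
    exact bglbt3_eq_one (lvl D L') (lvl D (-L')) (bglbt3_lvl_neg D L') _ hpar hfil
  have hfix : h8Psi D φ uP = uP := by
    have := congrArg (fun z => uP * z) hone
    simpa using this
  -- the rational representative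
  have huPG : uP ∈ D.group F := by
    have hle : Subgroup.closure {g : GL D.Idx F | ∃ (r : ℕ) (c : F), D.IsPosRoot r ∧ P r = true ∧
        g = h8xU D hB r c} ≤ D.posUnipotent F := by
      rw [Subgroup.closure_le]
      rintro z ⟨r, c, hr, _, rfl⟩
      exact h8xU_mem_U D hB r hr c
    exact h8_U_le_group D (hle huPm)
  have huQG : uQ ∈ D.group F := by
    have hle : Subgroup.closure {g : GL D.Idx F | ∃ (r : ℕ) (c : F), D.IsPosRoot r ∧ P r = false ∧
        g = h8xU D hB r c} ≤ D.posUnipotent F := by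
      rw [Subgroup.closure_le]
      rintro z ⟨r, c, hr, _, rfl⟩
      exact h8xU_mem_U D hB r hr c
    exact h8_U_le_group D (hle huQm)
  have hn₀G : n₀ ∈ D.group F := h8_N_le_group D hB hn₀N
  have hhG : h ∈ D.group F := h8_H_le_group D hB hh
  refine ⟨uP * n₀, (D.group F).mul_mem huPG hn₀G, by rw [map_mul, hfix, hn₀fix], ?_⟩
  have e3 : (uP * n₀)⁻¹ * g = (n₀⁻¹ * (uQ * h) * n₀) * b⁻¹ := by
    rw [eg2]
    group
  rw [e3]
  apply Subgroup.mul_mem
  · apply bglbt3_par_le_PJ D p hD L hL hdom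
    · exact (D.group F).mul_mem ((D.group F).mul_mem ((D.group F).inv_mem hn₀G)
        ((D.group F).mul_mem huQG hhG)) hn₀G
    · have hqh : Par (lvl D L') ((uQ * h : GL D.Idx F) : Matrix D.Idx D.Idx F) := by
        have := par_mul (lvl D L') _ _ hQ1 hh1
        simpa only [Units.val_mul] using this
      have := bglbt3_lev_par_lev (lvl D L') (lvl D L) _ _ _ hlevi hqh hlev
      simpa only [Units.val_mul] using this
  · unfold ChevalleyDatum.parabolicSubgroup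
    exact Subgroup.mem_sup_left ((D.borelSubgroup F).inv_mem hb)

/-- BT2 with the level function exposed (`J = zeroSet D L`). -/
theorem bglbt3_core [Fintype F] (p : ℕ) [Fact p.Prime] [CharP F p]
    (hD : D ∈ [chevG2, chevB2, chevD4, chevF4, chevE6, chevE7, chevE8])
    (U : Subgroup (GL D.Idx F)) (hUG : U ≤ D.group F) (hU : IsPGroup p ↥U) (hne : U ≠ ⊥)
    (φ : F →+* F) (hφU : ∀ v ∈ U, ∃ v₀ ∈ U, h8Psi D φ v₀ = v) :
    ∃ g ∈ D.group F, ∃ L ∈ levE D, Dom D L ∧ (∃ i, i < D.rank ∧ i ∉ zeroSet D L) ∧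
      Subgroup.normalizer (U : Set (GL D.Idx F)) ⊓ D.group F ≤
        (D.parabolicSubgroup F (zeroSet D L)).map (MulAut.conj g).toMonoidHom ∧
      U ≤ (D.unipotentRadical F (zeroSet D L)).map (MulAut.conj g).toMonoidHom ∧
      g⁻¹ * h8Psi D φ g ∈ D.parabolicSubgroup F (zeroSet D L) := by
  have hB := h8base_all.{u} D hD
  obtain ⟨g, hg, L, hL, R, hR, hn, hdom, hfil, hopt⟩ := opt_pair D hD p U hUG hU hne
  -- the second optimal pair
  have hg' : h8Psi D φ g ∈ D.group F := h8Psi_group_le D hB hB φ (Subgroup.mem_map_of_mem _ hg)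
  have hfil' : ∀ v ∈ U, Fil (lvl D L) R
      (((h8Psi D φ g)⁻¹ * v * (h8Psi D φ g) : GL D.Idx F) : Matrix D.Idx D.Idx F) := by
    intro v hv
    obtain ⟨v₀, hv₀, rfl⟩ := hφU v hv
    have e : (h8Psi D φ g)⁻¹ * h8Psi D φ v₀ * h8Psi D φ g = h8Psi D φ (g⁻¹ * v₀ * g) := by
      rw [map_mul, map_mul, map_inv]
    rw [e, h8Psi_val]
    exact bglbt2_fil_map φ _ R _ (hfil v₀ hv₀)
  -- `y = g⁻¹ σ(g)` normalises `U_J`
  have hyG : g⁻¹ * h8Psi D φ g ∈ D.group F := (D.group F).mul_mem ((D.group F).inv_mem hg) hg'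
  have hfwd : ∀ z ∈ D.unipotentRadical F (zeroSet D L),
      (g⁻¹ * h8Psi D φ g) * z * (g⁻¹ * h8Psi D φ g)⁻¹ ∈ D.unipotentRadical F (zeroSet D L) := by
    intro z hz
    obtain ⟨hzG, hzF⟩ := (filP_eq_UJ D hD p L hL hdom z).2 hz
    apply (filP_eq_UJ D hD p L hL hdom _).1
    refine ⟨(D.group F).mul_mem ((D.group F).mul_mem hyG hzG) ((D.group F).inv_mem hyG), ?_⟩
    exact bglbt1_stab_two D hD U g hg L hL R hR hn hdom hfil hopt (h8Psi D φ g) hg' L hL hn hdom hfil'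
      z hzF
  have hbwd : ∀ z ∈ D.unipotentRadical F (zeroSet D L),
      (g⁻¹ * h8Psi D φ g)⁻¹ * z * (g⁻¹ * h8Psi D φ g) ∈ D.unipotentRadical F (zeroSet D L) := by
    intro z hz
    obtain ⟨hzG, hzF⟩ := (filP_eq_UJ D hD p L hL hdom z).2 hz
    apply (filP_eq_UJ D hD p L hL hdom _).1
    refine ⟨(D.group F).mul_mem ((D.group F).mul_mem ((D.group F).inv_mem hyG) hzG) hyG, ?_⟩
    have := bglbt1_stab_two D hD U (h8Psi D φ g) hg' L hL R hR hn hdom hfil' hopt g hg L hL hn hdom hfil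
      z hzF
    have e : ((h8Psi D φ g)⁻¹ * g) * z * ((h8Psi D φ g)⁻¹ * g)⁻¹ =
        (g⁻¹ * h8Psi D φ g)⁻¹ * z * (g⁻¹ * h8Psi D φ g) := by group
    rwa [e] at this
  have hJ : ∀ j ∈ zeroSet D L, j < D.rank := fun j hj => hj.1
  have hyP : g⁻¹ * h8Psi D φ g ∈ D.parabolicSubgroup F (zeroSet D L) := by
    rw [← Cfsg.Agent.S1049.result (F := F) D hD (zeroSet D L) hJ]
    refine Subgroup.mem_inf.2 ⟨?_, hyG⟩
    rw [Subgroup.mem_normalizer_iff]
    intro z
    constructor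
    · intro hz
      exact hfwd z hz
    · intro hz
      have h1 := hbwd _ hz
      have h2 : (g⁻¹ * h8Psi D φ g)⁻¹ * ((g⁻¹ * h8Psi D φ g) * z * (g⁻¹ * h8Psi D φ g)⁻¹) *
          (g⁻¹ * h8Psi D φ g) = z := by group
      rw [h2] at h1
      exact h1
  -- the rest is the proof of S2154
  have hstab : ∀ x ∈ D.group F, x ∈ Subgroup.normalizer (U : Set (GL D.Idx F)) →
      ∀ z ∈ D.unipotentRadical F (zeroSet D L),
        (g⁻¹ * x * g) * z * (g⁻¹ * x * g)⁻¹ ∈ D.unipotentRadical F (zeroSet D L) := by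
    intro x hxG hxN z hz
    obtain ⟨hzG, hzF⟩ := (filP_eq_UJ D hD p L hL hdom z).2 hz
    apply (filP_eq_UJ D hD p L hL hdom _).1
    have hyG' : g⁻¹ * x * g ∈ D.group F :=
      (D.group F).mul_mem ((D.group F).mul_mem ((D.group F).inv_mem hg) hxG) hg
    refine ⟨(D.group F).mul_mem ((D.group F).mul_mem hyG' hzG) ((D.group F).inv_mem hyG'), ?_⟩
    exact stab_filP D hD U hUG hne g hg L hL R hR hn hdom hfil hopt x hxG hxN z hzF
  refine ⟨g, hg, L, hL, hdom, ?_, ?_, ?_, hyP⟩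
  · by_contra h
    have h0 : ∀ i < D.rank, lv D L (D.simple i) = 0 := by
      intro i hi
      by_contra hne0
      exact h ⟨i, hi, fun hmem => hne0 hmem.2⟩
    have hL0 := lev_eq_zero D hD L hL h0
    rw [hL0] at hn
    have : nsq (0 : Fin D.nroots → ℝ) = 0 := by
      unfold nsq
      simp
    rw [this] at hn
    exact zero_ne_one hn
  · intro x hx
    obtain ⟨hxN, hxG⟩ := Subgroup.mem_inf.1 hx
    have hxiN : x⁻¹ ∈ Subgroup.normalizer (U : Set (GL D.Idx F)) := Subgroup.inv_mem _ hxN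
    have hxiG : x⁻¹ ∈ D.group F := (D.group F).inv_mem hxG
    have hyG' : g⁻¹ * x * g ∈ D.group F :=
      (D.group F).mul_mem ((D.group F).mul_mem ((D.group F).inv_mem hg) hxG) hg
    have hyN : g⁻¹ * x * g ∈
        Subgroup.normalizer (D.unipotentRadical F (zeroSet D L) : Set (GL D.Idx F)) := by
      rw [Subgroup.mem_normalizer_iff]
      intro z
      constructor
      · intro hz
        exact hstab x hxG hxN z hz
      · intro hz
        have h1 := hstab x⁻¹ hxiG hxiN _ hz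
        have h2 : (g⁻¹ * x⁻¹ * g) * ((g⁻¹ * x * g) * z * (g⁻¹ * x * g)⁻¹) * (g⁻¹ * x⁻¹ * g)⁻¹ = z := by
          group
        rw [h2] at h1
        exact h1
    have hyP' : g⁻¹ * x * g ∈ D.parabolicSubgroup F (zeroSet D L) := by
      rw [← Cfsg.Agent.S1049.result (F := F) D hD (zeroSet D L) hJ]
      exact Subgroup.mem_inf.2 ⟨hyN, hyG'⟩
    rw [Subgroup.mem_map]
    refine ⟨g⁻¹ * x * g, hyP', ?_⟩
    show g * (g⁻¹ * x * g) * g⁻¹ = x
    group
  · intro v hv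
    have hvG : g⁻¹ * v * g ∈ D.group F :=
      (D.group F).mul_mem ((D.group F).mul_mem ((D.group F).inv_mem hg) (hUG hv)) hg
    have hvU : g⁻¹ * v * g ∈ D.unipotentRadical F (zeroSet D L) :=
      (filP_eq_UJ D hD p L hL hdom _).1 ⟨hvG, fil_filP _ R hR _ (hfil v hv)⟩
    rw [Subgroup.mem_map]
    refine ⟨g⁻¹ * v * g, hvU, ?_⟩
    show g * (g⁻¹ * v * g) * g⁻¹ = v
    group


/-- BT3: the RATIONAL canonical parabolic.  A `σ`-stable non-trivial `p`-subgroup `U` of `G` has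
`N_G(U) ≤ m P_J m⁻¹` and `U ≤ m U_J m⁻¹` for a proper `J` and an element `m ∈ G` FIXED by `σ`. -/
theorem bglbt3_main [Fintype F] (p : ℕ) [Fact p.Prime] [CharP F p]
    (hD : D ∈ [chevG2, chevB2, chevD4, chevF4, chevE6, chevE7, chevE8])
    (U : Subgroup (GL D.Idx F)) (hUG : U ≤ D.group F) (hU : IsPGroup p ↥U) (hne : U ≠ ⊥)
    (φ : F →+* F) (hφU : ∀ v ∈ U, ∃ v₀ ∈ U, h8Psi D φ v₀ = v) :
    ∃ m ∈ D.group F, h8Psi D φ m = m ∧ ∃ J : Set ℕ, (∃ i, i < D.rank ∧ i ∉ J) ∧ (∀ j ∈ J, j < D.rank) ∧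
      Subgroup.normalizer (U : Set (GL D.Idx F)) ⊓ D.group F ≤
        (D.parabolicSubgroup F J).map (MulAut.conj m).toMonoidHom ∧
      U ≤ (D.unipotentRadical F J).map (MulAut.conj m).toMonoidHom := by
  obtain ⟨g, hg, L, hL, hdom, hprop, hN, hUU, hy⟩ := bglbt3_core D p hD U hUG hU hne φ hφU
  obtain ⟨m, hm, hmfix, hmg⟩ := bglbt3_lang D p hD φ L hL hdom g hg hy
  have hJ : ∀ j ∈ zeroSet D L, j < D.rank := fun j hj => hj.1
  -- `q := m⁻¹ g ∈ P_J` normalises `P_J` and `U_J`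
  have hqN : m⁻¹ * g ∈ Subgroup.normalizer (D.unipotentRadical F (zeroSet D L) : Set (GL D.Idx F)) := by
    have := hmg
    rw [← Cfsg.Agent.S1049.result (F := F) D hD (zeroSet D L) hJ] at this
    exact (Subgroup.mem_inf.1 this).1
  refine ⟨m, hm, hmfix, zeroSet D L, hprop, hJ, ?_, ?_⟩
  · intro x hx
    obtain ⟨z, hz, rfl⟩ := Subgroup.mem_map.1 (hN hx)
    rw [Subgroup.mem_map]
    refine ⟨(m⁻¹ * g) * z * (m⁻¹ * g)⁻¹, ?_, ?_⟩
    · exact Subgroup.mul_mem _ (Subgroup.mul_mem _ hmg hz) (Subgroup.inv_mem _ hmg)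
    · show m * ((m⁻¹ * g) * z * (m⁻¹ * g)⁻¹) * m⁻¹ = g * z * g⁻¹
      group
  · intro v hv
    obtain ⟨z, hz, rfl⟩ := Subgroup.mem_map.1 (hUU hv)
    rw [Subgroup.mem_map]
    refine ⟨(m⁻¹ * g) * z * (m⁻¹ * g)⁻¹, ?_, ?_⟩
    · exact (Subgroup.mem_normalizer_iff.1 hqN z).1 hz
    · show m * ((m⁻¹ * g) * z * (m⁻¹ * g)⁻¹) * m⁻¹ = g * z * g⁻¹
      group

end grp

end Cfsg.Agent.Lib.helper8.BTT
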