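import Mathlib
import Cfsg.Agent.Lib.helper14.BGL.SPDefs
import Cfsg.Agent.Lib.helper14.BGL.SPDefs2
import Cfsg.Agent.Lib.Helper10.BGL.Defs
import Cfsg.Agent.Lib.helper8.ChevUnits

/-!
# Project BGL, block SP (designer helper14), row M3 `stabP_Lq` (helper8), VERBATIM.
-/

set_option autoImplicit false

namespace Cfsg.Agent.Lib.helper14.BGLSP

open Cfsg.Lie Cfsg.Lie.ChevalleyDatum Cfsg.Agent.Lib.helper8 Cfsg.Agent.Lib.Helper10.BGL Matrix

universe u

variable {K : Type u} [Field K] (D : ChevalleyDatum)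

section M
variable [Finite K] (p : ℕ) [Fact p.Prime] [CharP K p]

omit [Finite K] in
/-- the root elements with rational parameter lie in `Lq` -/
theorem bglspm3_x_mem (hB : H8Base.{u} D) (q : ℕ) (s : ℕ) (t : K) (ht : t ^ q = t) : h8xU D hB s t ∈ Lq D K q :=
  Subgroup.subset_closure ⟨s, t, ht, rfl⟩

/-- M3 [S-M]  `P w := ∀ m ∈ Lq D K q, rc D (m *ᵥ w) 0 = 0` has `StabP` and `P w → rc D w 0 = 0` (`m = 1`). -/
theorem stabP_Lq (hB : H8Base.{u} D) (q : ℕ) (hq2 : (-1 : K) ^ q = -1) :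
    StabP D (fun w : D.Idx → K => ∀ m ∈ Lq D K q, rc D ((m : Matrix D.Idx D.Idx K) *ᵥ w) 0 = 0) ∧
    ∀ w : D.Idx → K, (∀ m ∈ Lq D K q, rc D ((m : Matrix D.Idx D.Idx K) *ᵥ w) 0 = 0) → rc D w 0 = 0 := by
  constructor
  · intro s _ w hw
    constructor
    · intro m hm
      have h1 := hw (m * h8xU D hB s 1) (mul_mem hm (bglspm3_x_mem D hB q s 1 (one_pow q)))
      rw [Units.val_mul, ← Matrix.mulVec_mulVec] at h1
      exact h1
    · intro m hm
      have h1 := hw (m * h8xU D hB s (-1)) (mul_mem hm (bglspm3_x_mem D hB q s (-1) hq2))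
      rw [Units.val_mul, ← Matrix.mulVec_mulVec] at h1
      exact h1
  · intro w hw
    have h1 := hw 1 (one_mem _)
    rw [Units.val_one, Matrix.one_mulVec] at h1
    exact h1

end M

end Cfsg.Agent.Lib.helper14.BGLSP
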