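import Mathlib
import Cfsg.Prelude.Def_ChevStructure
import Cfsg.Prelude.Def_LieTypes
import Cfsg.Prelude.Def_ChevB2
import Cfsg.Agent.Lib.helper8.ChevLvlTab

/-!
# Project BGL, block PAR (helper8), row PAR1: tables for the maximal parabolic subgroups

For every node `j` the functional `g_j = h8gk D (m.getD j [])` (a positive multiple of the
`j`-th root coordinate) takes its least positive value `d = g_j(p_j)` at the `j`-th fundamental
root, vanishes at the other fundamental roots, and for every fundamental reflection `w_i` there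
is a positive root `r` of level `d` with `w_i r ≠ r` one of whose coroot coordinates is `±1`.
-/

set_option autoImplicit false

namespace Cfsg.Agent.Lib.helper8.PAR

open Cfsg.Lie Cfsg.Lie.ChevalleyDatum Cfsg.Agent.Lib.helper8

def parChkJ (D : ChevalleyDatum) (mj : List ℤ) (j : ℕ) : Bool :=
  decide (0 < h8gk D mj (D.simple j)) &&
  ((List.range D.rank).all fun i => decide (i = j) || decide (h8gk D mj (D.simple i) = 0)) &&
  ((List.range D.nroots).all fun r => !(decide (D.IsPosRoot r)) || decide (h8gk D mj r = 0) ||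
    decide (h8gk D mj (D.simple j) ≤ h8gk D mj r)) &&
  ((List.range D.rank).all fun i => (List.range D.nroots).any fun r =>
    decide (D.IsPosRoot r) && decide (h8gk D mj r = h8gk D mj (D.simple j)) &&
    decide (D.reflectRoot i r ≠ r) && decide (D.reflectRoot i r < D.nroots) &&
    (List.range D.rank).any fun k => decide (((D.coroot.getD r #[]).getD k 0).natAbs = 1))

def parChk (D : ChevalleyDatum) (m : List (List ℤ)) : Bool :=
  (List.range D.rank).all fun j => parChkJ D (m.getD j []) j

theorem parChk_G2 : parChk chevG2 h8lvlM_G2 = true := by decide +kernel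
theorem parChk_B2 : parChk chevB2 h8lvlM_B2 = true := by decide +kernel
theorem parChk_D4 : parChk chevD4 h8lvlM_D4 = true := by decide +kernel
theorem parChk_F4 : parChk chevF4 h8lvlM_F4 = true := by decide +kernel
theorem parChk_E6 : parChk chevE6 h8lvlM_E6 = true := by decide +kernel
theorem parChk_E7 : parChk chevE7 h8lvlM_E7 = true := by decide +kernel
theorem parChk_E8 : parChk chevE8 h8lvlM_E8 = true := by decide +kernel

theorem parChk_spec (D : ChevalleyDatum) (m : List (List ℤ)) (h : parChk D m = true)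
    (j : ℕ) (hj : j < D.rank) :
    0 < h8gk D (m.getD j []) (D.simple j) ∧
    (∀ i < D.rank, i ≠ j → h8gk D (m.getD j []) (D.simple i) = 0) ∧
    (∀ r, D.IsPosRoot r → h8gk D (m.getD j []) r = 0 ∨
      h8gk D (m.getD j []) (D.simple j) ≤ h8gk D (m.getD j []) r) ∧
    (∀ i < D.rank, ∃ r, D.IsPosRoot r ∧
      h8gk D (m.getD j []) r = h8gk D (m.getD j []) (D.simple j) ∧
      D.reflectRoot i r ≠ r ∧ D.reflectRoot i r < D.nroots ∧
      ∃ k < D.rank, ((D.coroot.getD r #[]).getD k 0).natAbs = 1) := by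
  unfold parChk at h
  rw [List.all_eq_true] at h
  have h1 := h j (List.mem_range.2 hj)
  unfold parChkJ at h1
  simp only [Bool.and_eq_true, Bool.or_eq_true, decide_eq_true_eq, List.all_eq_true,
    List.any_eq_true, List.mem_range, Bool.not_eq_true', decide_eq_false_iff_not] at h1
  obtain ⟨⟨⟨h2, h3⟩, h4⟩, h5⟩ := h1
  refine ⟨h2, ?_, ?_, ?_⟩
  · intro i hi hij
    exact (h3 i hi).resolve_left hij
  · intro r hr
    rcases h4 r hr.1 with (h6 | h6) | h6
    · exact absurd hr h6
    · exact Or.inl h6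
    · exact Or.inr h6
  · intro i hi
    obtain ⟨r, _, ⟨⟨⟨⟨h6, h7⟩, h8⟩, h9⟩, k, hk, h10⟩⟩ := h5 i hi
    exact ⟨r, h6, h7, h8, h9, k, hk, h10⟩

theorem parChk_all (D : ChevalleyDatum)
    (hD : D ∈ [chevG2, chevB2, chevD4, chevF4, chevE6, chevE7, chevE8]) :
    ∃ m : List (List ℤ), h8lvlChk D m = true ∧ parChk D m = true := by
  simp only [List.mem_cons, List.not_mem_nil, or_false] at hD
  rcases hD with rfl | rfl | rfl | rfl | rfl | rfl | rfl
  · exact ⟨_, h8lvlChk_G2, parChk_G2⟩
  · exact ⟨_, h8lvlChk_B2, parChk_B2⟩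
  · exact ⟨_, h8lvlChk_D4, parChk_D4⟩
  · exact ⟨_, h8lvlChk_F4, parChk_F4⟩
  · exact ⟨_, h8lvlChk_E6, parChk_E6⟩
  · exact ⟨_, h8lvlChk_E7, parChk_E7⟩
  · exact ⟨_, h8lvlChk_E8, parChk_E8⟩

end Cfsg.Agent.Lib.helper8.PAR
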