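import Cfsg.Agent.Lib.helper8.BTT.Defs

/-!
Project BTT rows GEN1 + GEN2 (spare copy by helper8 under own names `bttgen12_h8_*`,
EXACT Skel statements).
-/

set_option autoImplicit false

namespace Cfsg.Agent.Lib.helper8.BTT

open Cfsg.Lie Cfsg.Lie.ChevalleyDatum

universe u

section gen
variable {ι : Type*} [Fintype ι] [DecidableEq ι] {F : Type*} [Field F]

theorem bttgen12_h8_mul_sub_one (M M' : Matrix ι ι F) :
    M * M' - 1 = (M - 1) * (M' - 1) + (M - 1) + (M' - 1) := by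
  noncomm_ring

theorem bttgen12_h8_mul_entry (A B : Matrix ι ι F) (i j : ι) (h : (A * B) i j ≠ 0) :
    ∃ k, A i k ≠ 0 ∧ B k j ≠ 0 := by
  by_contra hne
  apply h
  rw [Matrix.mul_apply]
  apply Finset.sum_eq_zero
  intro k _
  by_contra hk
  apply hne
  refine ⟨k, ?_, ?_⟩
  · intro h0; apply hk; rw [h0, zero_mul]
  · intro h0; apply hk; rw [h0, mul_zero]

theorem bttgen12_h8_cases (M M' : Matrix ι ι F) (i j : ι) (h : (M * M' - 1) i j ≠ 0) :
    (∃ k, (M - 1) i k ≠ 0 ∧ (M' - 1) k j ≠ 0) ∨ (M - 1) i j ≠ 0 ∨ (M' - 1) i j ≠ 0 := by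
  rw [bttgen12_h8_mul_sub_one, Matrix.add_apply, Matrix.add_apply] at h
  by_cases h1 : ((M - 1) * (M' - 1)) i j = 0
  · by_cases h2 : (M - 1) i j = 0
    · right; right
      intro h3
      apply h
      rw [h1, h2, h3]
      simp
    · right; left; exact h2
  · left
    exact bttgen12_h8_mul_entry _ _ i j h1

theorem bttgen12_h8_fil_one (ℓ : ι → ℝ) (c : ℝ) : Fil ℓ c (1 : Matrix ι ι F) := by
  intro i j h
  exfalso
  apply h
  rw [sub_self]
  rfl

theorem bttgen12_h8_fil_mul (ℓ : ι → ℝ) (c : ℝ) (hc : 0 ≤ c) (M M' : Matrix ι ι F) (h : Fil ℓ c M)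
    (h' : Fil ℓ c M') : Fil ℓ c (M * M') := by
  intro i j hne
  rcases bttgen12_h8_cases M M' i j hne with ⟨k, h1, h2⟩ | h1 | h1
  · have a := h i k h1
    have b := h' k j h2
    linarith
  · exact h i j h1
  · exact h' i j h1

theorem bttgen12_h8_fil_mono (ℓ : ι → ℝ) (c c' : ℝ) (hcc : c' ≤ c) (M : Matrix ι ι F)
    (h : Fil ℓ c M) : Fil ℓ c' M := by
  intro i j hne
  have := h i j hne
  linarith

theorem bttgen12_h8_fil_filP (ℓ : ι → ℝ) (c : ℝ) (hc : 0 < c) (M : Matrix ι ι F) (h : Fil ℓ c M) :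
    FilP ℓ M := by
  intro i j hne
  have := h i j hne
  linarith

theorem bttgen12_h8_filP_one (ℓ : ι → ℝ) : FilP ℓ (1 : Matrix ι ι F) := by
  intro i j h
  exfalso
  apply h
  rw [sub_self]
  rfl

theorem bttgen12_h8_filP_mul (ℓ : ι → ℝ) (M M' : Matrix ι ι F) (h : FilP ℓ M) (h' : FilP ℓ M') :
    FilP ℓ (M * M') := by
  intro i j hne
  rcases bttgen12_h8_cases M M' i j hne with ⟨k, h1, h2⟩ | h1 | h1
  · have a := h i k h1
    have b := h' k j h2
    linarith
  · exact h i j h1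
  · exact h' i j h1

end gen

end Cfsg.Agent.Lib.helper8.BTT
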