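import Mathlib
import Cfsg.Agent.Lib.helper8.BTT.Defs
import Cfsg.Agent.Lib.helper8.BTTGEN12h8
import Cfsg.Agent.Lib.Helper22.BTTGEN3
import Cfsg.Agent.Lib.helper2.BTTGEN4

/-!
# Project BGL, block PAR (helper8), row PAR2: generic filtration calculus

`RaiseS ℓ d N`: the matrix `N` raises `ℓ`-levels by strictly more than `d`.
`parCn ℓ d V`: the elements `x` of `Par ℓ` which commute with every `v ∈ V` modulo `RaiseS ℓ d`
(the kernel of the action on `V / V ∩ (1 + RaiseS)`), a subgroup normalised by the elements of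
`Par ℓ` normalising `V`.
-/

set_option autoImplicit false

namespace Cfsg.Agent.Lib.helper8.PAR

open Cfsg.Agent.Lib.helper8.BTT

section gen
variable {ι : Type*} [Fintype ι] [DecidableEq ι] {F : Type*} [Field F]

/-- `N` raises levels by strictly more than `d` -/
def RaiseS (ℓ : ι → ℝ) (d : ℝ) (N : Matrix ι ι F) : Prop :=
  ∀ a b, N a b ≠ 0 → ℓ b + d < ℓ a

theorem raiseS_zero (ℓ : ι → ℝ) (d : ℝ) : RaiseS ℓ d (0 : Matrix ι ι F) := by
  intro a b h
  exact absurd rfl h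

theorem raiseS_add (ℓ : ι → ℝ) (d : ℝ) (N N' : Matrix ι ι F) (h : RaiseS ℓ d N)
    (h' : RaiseS ℓ d N') : RaiseS ℓ d (N + N') := by
  intro a b hne
  by_cases h1 : N a b = 0
  · apply h' a b
    intro h2
    apply hne
    rw [Matrix.add_apply, h1, h2, add_zero]
  · exact h a b h1

theorem raiseS_neg (ℓ : ι → ℝ) (d : ℝ) (N : Matrix ι ι F) (h : RaiseS ℓ d N) :
    RaiseS ℓ d (-N) := by
  intro a b hne
  apply h a b
  intro h1
  apply hne
  rw [Matrix.neg_apply, h1, neg_zero]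

theorem raiseS_sub (ℓ : ι → ℝ) (d : ℝ) (N N' : Matrix ι ι F) (h : RaiseS ℓ d N)
    (h' : RaiseS ℓ d N') : RaiseS ℓ d (N - N') := by
  rw [sub_eq_add_neg]
  exact raiseS_add ℓ d _ _ h (raiseS_neg ℓ d _ h')

theorem raiseS_smul (ℓ : ι → ℝ) (d : ℝ) (t : F) (N : Matrix ι ι F) (h : RaiseS ℓ d N) :
    RaiseS ℓ d (t • N) := by
  intro a b hne
  apply h a b
  intro h1
  apply hne
  rw [Matrix.smul_apply, h1, smul_zero]

theorem par_mul_raiseS (ℓ : ι → ℝ) (d : ℝ) (A N : Matrix ι ι F) (hA : Par ℓ A)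
    (hN : RaiseS ℓ d N) : RaiseS ℓ d (A * N) := by
  intro a b hne
  obtain ⟨k, h1, h2⟩ := bttgen3_mul_entry A N a b hne
  have e1 := hA a k h1
  have e2 := hN k b h2
  linarith

theorem raiseS_mul_par (ℓ : ι → ℝ) (d : ℝ) (N A : Matrix ι ι F) (hN : RaiseS ℓ d N)
    (hA : Par ℓ A) : RaiseS ℓ d (N * A) := by
  intro a b hne
  obtain ⟨k, h1, h2⟩ := bttgen3_mul_entry N A a b hne
  have e1 := hN a k h1
  have e2 := hA k b h2
  linarith

/-- the elements of `Par ℓ` commuting with `V` modulo `RaiseS ℓ d` -/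
def parCn [Finite F] (ℓ : ι → ℝ) (d : ℝ) (V : Subgroup (GL ι F)) : Subgroup (GL ι F) where
  carrier := {x | Par ℓ (x : Matrix ι ι F) ∧ ∀ v ∈ V,
    RaiseS ℓ d ((x : Matrix ι ι F) * (v : Matrix ι ι F) - (v : Matrix ι ι F) * (x : Matrix ι ι F))}
  mul_mem' := by
    rintro x y ⟨hx, hxv⟩ ⟨hy, hyv⟩
    refine ⟨?_, fun v hv => ?_⟩
    · rw [Units.val_mul]
      exact par_mul ℓ _ _ hx hy
    · have e : ((x * y : GL ι F) : Matrix ι ι F) * (v : Matrix ι ι F) -
          (v : Matrix ι ι F) * ((x * y : GL ι F) : Matrix ι ι F) =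
          (x : Matrix ι ι F) * ((y : Matrix ι ι F) * (v : Matrix ι ι F) -
            (v : Matrix ι ι F) * (y : Matrix ι ι F)) +
          ((x : Matrix ι ι F) * (v : Matrix ι ι F) - (v : Matrix ι ι F) * (x : Matrix ι ι F)) *
            (y : Matrix ι ι F) := by
        rw [Units.val_mul]
        noncomm_ring
      rw [e]
      exact raiseS_add ℓ d _ _ (par_mul_raiseS ℓ d _ _ hx (hyv v hv))
        (raiseS_mul_par ℓ d _ _ (hxv v hv) hy)
  one_mem' := by
    refine ⟨par_one ℓ, fun v _ => ?_⟩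
    rw [Units.val_one, one_mul, mul_one, sub_self]
    exact raiseS_zero ℓ d
  inv_mem' := by
    rintro x ⟨hx, hxv⟩
    have hxi : Par ℓ ((x⁻¹ : GL ι F) : Matrix ι ι F) := par_inv ℓ x hx
    refine ⟨hxi, fun v hv => ?_⟩
    have h1 : ((x⁻¹ : GL ι F) : Matrix ι ι F) * (x : Matrix ι ι F) = 1 := by
      rw [← Units.val_mul, inv_mul_cancel, Units.val_one]
    have h2 : (x : Matrix ι ι F) * ((x⁻¹ : GL ι F) : Matrix ι ι F) = 1 := by
      rw [← Units.val_mul, mul_inv_cancel, Units.val_one]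
    have e : ((x⁻¹ : GL ι F) : Matrix ι ι F) * (v : Matrix ι ι F) -
        (v : Matrix ι ι F) * ((x⁻¹ : GL ι F) : Matrix ι ι F) =
        -(((x⁻¹ : GL ι F) : Matrix ι ι F) *
          ((x : Matrix ι ι F) * (v : Matrix ι ι F) - (v : Matrix ι ι F) * (x : Matrix ι ι F)) *
          ((x⁻¹ : GL ι F) : Matrix ι ι F)) := by
      have e1 : ((x⁻¹ : GL ι F) : Matrix ι ι F) *
          ((x : Matrix ι ι F) * (v : Matrix ι ι F) - (v : Matrix ι ι F) * (x : Matrix ι ι F)) *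
          ((x⁻¹ : GL ι F) : Matrix ι ι F) =
          (((x⁻¹ : GL ι F) : Matrix ι ι F) * (x : Matrix ι ι F)) * (v : Matrix ι ι F) *
            ((x⁻¹ : GL ι F) : Matrix ι ι F) -
          ((x⁻¹ : GL ι F) : Matrix ι ι F) * (v : Matrix ι ι F) *
            ((x : Matrix ι ι F) * ((x⁻¹ : GL ι F) : Matrix ι ι F)) := by
        noncomm_ring
      rw [e1, h1, h2, one_mul, mul_one]
      noncomm_ring
    rw [e]
    exact raiseS_neg ℓ d _ (raiseS_mul_par ℓ d _ _ (par_mul_raiseS ℓ d _ _ hxi (hxv v hv)) hxi)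

theorem mem_parCn [Finite F] (ℓ : ι → ℝ) (d : ℝ) (V : Subgroup (GL ι F)) (x : GL ι F) :
    x ∈ parCn ℓ d V ↔ (Par ℓ (x : Matrix ι ι F) ∧ ∀ v ∈ V,
      RaiseS ℓ d ((x : Matrix ι ι F) * (v : Matrix ι ι F) -
        (v : Matrix ι ι F) * (x : Matrix ι ι F))) := Iff.rfl

/-- `parCn` is normalised by the elements of `Par ℓ` normalising `V` -/
theorem parCn_conj [Finite F] (ℓ : ι → ℝ) (d : ℝ) (V : Subgroup (GL ι F)) (b x : GL ι F)
    (hb : Par ℓ (b : Matrix ι ι F)) (hbV : ∀ v ∈ V, b⁻¹ * v * b ∈ V) (hx : x ∈ parCn ℓ d V) :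
    b * x * b⁻¹ ∈ parCn ℓ d V := by
  obtain ⟨hxP, hxv⟩ := hx
  have hbi : Par ℓ ((b⁻¹ : GL ι F) : Matrix ι ι F) := par_inv ℓ b hb
  refine ⟨?_, fun v hv => ?_⟩
  · rw [Units.val_mul, Units.val_mul]
    exact par_mul ℓ _ _ (par_mul ℓ _ _ hb hxP) hbi
  · have h1 : ((b⁻¹ : GL ι F) : Matrix ι ι F) * (b : Matrix ι ι F) = 1 := by
      rw [← Units.val_mul, inv_mul_cancel, Units.val_one]
    have h2 : (b : Matrix ι ι F) * ((b⁻¹ : GL ι F) : Matrix ι ι F) = 1 := by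
      rw [← Units.val_mul, mul_inv_cancel, Units.val_one]
    have e : ((b * x * b⁻¹ : GL ι F) : Matrix ι ι F) * (v : Matrix ι ι F) -
        (v : Matrix ι ι F) * ((b * x * b⁻¹ : GL ι F) : Matrix ι ι F) =
        (b : Matrix ι ι F) * ((x : Matrix ι ι F) * ((b⁻¹ * v * b : GL ι F) : Matrix ι ι F) -
          ((b⁻¹ * v * b : GL ι F) : Matrix ι ι F) * (x : Matrix ι ι F)) *
          ((b⁻¹ : GL ι F) : Matrix ι ι F) := by
      rw [Units.val_mul, Units.val_mul, Units.val_mul, Units.val_mul]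
      have e1 : (b : Matrix ι ι F) * ((x : Matrix ι ι F) *
          (((b⁻¹ : GL ι F) : Matrix ι ι F) * (v : Matrix ι ι F) * (b : Matrix ι ι F)) -
          (((b⁻¹ : GL ι F) : Matrix ι ι F) * (v : Matrix ι ι F) * (b : Matrix ι ι F)) *
            (x : Matrix ι ι F)) * ((b⁻¹ : GL ι F) : Matrix ι ι F) =
          (b : Matrix ι ι F) * (x : Matrix ι ι F) * ((b⁻¹ : GL ι F) : Matrix ι ι F) *
            (v : Matrix ι ι F) * ((b : Matrix ι ι F) * ((b⁻¹ : GL ι F) : Matrix ι ι F)) -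
          ((b : Matrix ι ι F) * ((b⁻¹ : GL ι F) : Matrix ι ι F)) * (v : Matrix ι ι F) *
            (b : Matrix ι ι F) * (x : Matrix ι ι F) * ((b⁻¹ : GL ι F) : Matrix ι ι F) := by
        noncomm_ring
      rw [e1, h2, one_mul, mul_one]
      noncomm_ring
    rw [e]
    exact raiseS_mul_par ℓ d _ _ (par_mul_raiseS ℓ d _ _ hb (hxv _ (hbV v hv))) hbi

/-- membership in `parCn` can be checked on generators of `V` lying in `Par ℓ` -/
theorem parCn_of_gen [Finite F] (ℓ : ι → ℝ) (d : ℝ) (S : Set (GL ι F))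
    (hS : ∀ s ∈ S, Par ℓ (s : Matrix ι ι F)) (x : GL ι F) (hx : Par ℓ (x : Matrix ι ι F))
    (h : ∀ s ∈ S, RaiseS ℓ d ((x : Matrix ι ι F) * (s : Matrix ι ι F) -
      (s : Matrix ι ι F) * (x : Matrix ι ι F))) :
    x ∈ parCn ℓ d (Subgroup.closure S) := by
  refine ⟨hx, fun v hv => ?_⟩
  have key : Par ℓ (v : Matrix ι ι F) ∧ RaiseS ℓ d ((x : Matrix ι ι F) * (v : Matrix ι ι F) -
      (v : Matrix ι ι F) * (x : Matrix ι ι F)) := by
    induction hv using Subgroup.closure_induction with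
    | mem s hs => exact ⟨hS s hs, h s hs⟩
    | one =>
      refine ⟨par_one ℓ, ?_⟩
      rw [Units.val_one, one_mul, mul_one, sub_self]
      exact raiseS_zero ℓ d
    | mul v w _ _ hv hw =>
      refine ⟨?_, ?_⟩
      · rw [Units.val_mul]
        exact par_mul ℓ _ _ hv.1 hw.1
      · have e : (x : Matrix ι ι F) * ((v * w : GL ι F) : Matrix ι ι F) -
            ((v * w : GL ι F) : Matrix ι ι F) * (x : Matrix ι ι F) =
            ((x : Matrix ι ι F) * (v : Matrix ι ι F) - (v : Matrix ι ι F) * (x : Matrix ι ι F)) *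
              (w : Matrix ι ι F) +
            (v : Matrix ι ι F) * ((x : Matrix ι ι F) * (w : Matrix ι ι F) -
              (w : Matrix ι ι F) * (x : Matrix ι ι F)) := by
          rw [Units.val_mul]
          noncomm_ring
        rw [e]
        exact raiseS_add ℓ d _ _ (raiseS_mul_par ℓ d _ _ hv.2 hw.1)
          (par_mul_raiseS ℓ d _ _ hv.1 hw.2)
    | inv v _ hv =>
      have hvi : Par ℓ ((v⁻¹ : GL ι F) : Matrix ι ι F) := par_inv ℓ v hv.1
      refine ⟨hvi, ?_⟩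
      have h1 : ((v⁻¹ : GL ι F) : Matrix ι ι F) * (v : Matrix ι ι F) = 1 := by
        rw [← Units.val_mul, inv_mul_cancel, Units.val_one]
      have h2 : (v : Matrix ι ι F) * ((v⁻¹ : GL ι F) : Matrix ι ι F) = 1 := by
        rw [← Units.val_mul, mul_inv_cancel, Units.val_one]
      have e : (x : Matrix ι ι F) * ((v⁻¹ : GL ι F) : Matrix ι ι F) -
          ((v⁻¹ : GL ι F) : Matrix ι ι F) * (x : Matrix ι ι F) =
          -(((v⁻¹ : GL ι F) : Matrix ι ι F) *
            ((x : Matrix ι ι F) * (v : Matrix ι ι F) - (v : Matrix ι ι F) * (x : Matrix ι ι F)) *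
            ((v⁻¹ : GL ι F) : Matrix ι ι F)) := by
        have e1 : ((v⁻¹ : GL ι F) : Matrix ι ι F) *
            ((x : Matrix ι ι F) * (v : Matrix ι ι F) - (v : Matrix ι ι F) * (x : Matrix ι ι F)) *
            ((v⁻¹ : GL ι F) : Matrix ι ι F) =
            ((v⁻¹ : GL ι F) : Matrix ι ι F) * (x : Matrix ι ι F) *
              ((v : Matrix ι ι F) * ((v⁻¹ : GL ι F) : Matrix ι ι F)) -
            (((v⁻¹ : GL ι F) : Matrix ι ι F) * (v : Matrix ι ι F)) * (x : Matrix ι ι F) *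
              ((v⁻¹ : GL ι F) : Matrix ι ι F) := by
          noncomm_ring
        rw [e1, h1, h2, one_mul, mul_one]
        noncomm_ring
      rw [e]
      exact raiseS_neg ℓ d _ (raiseS_mul_par ℓ d _ _ (par_mul_raiseS ℓ d _ _ hvi hv.2) hvi)
  exact key.2

/-- if `κ ∈ parCn`, `v ∈ V` and `κ v = w κ`, then `w ≡ v` modulo `RaiseS` -/
theorem parCn_transport [Finite F] (ℓ : ι → ℝ) (d : ℝ) (V : Subgroup (GL ι F)) (κ v : GL ι F)
    (w : Matrix ι ι F) (hκ : κ ∈ parCn ℓ d V) (hv : v ∈ V)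
    (e : (κ : Matrix ι ι F) * (v : Matrix ι ι F) = w * (κ : Matrix ι ι F)) :
    RaiseS ℓ d (w - (v : Matrix ι ι F)) := by
  obtain ⟨hκP, hκv⟩ := hκ
  have hκi : Par ℓ ((κ⁻¹ : GL ι F) : Matrix ι ι F) := par_inv ℓ κ hκP
  have h2 : (κ : Matrix ι ι F) * ((κ⁻¹ : GL ι F) : Matrix ι ι F) = 1 := by
    rw [← Units.val_mul, mul_inv_cancel, Units.val_one]
  have e1 : w - (v : Matrix ι ι F) =
      ((κ : Matrix ι ι F) * (v : Matrix ι ι F) - (v : Matrix ι ι F) * (κ : Matrix ι ι F)) *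
        ((κ⁻¹ : GL ι F) : Matrix ι ι F) := by
    rw [e, sub_mul, mul_assoc, mul_assoc, h2, mul_one, mul_one]
  rw [e1]
  exact raiseS_mul_par ℓ d _ _ (hκv v hv) hκi

end gen

end Cfsg.Agent.Lib.helper8.PAR
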