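import Mathlib
import Cfsg.Prelude.Def_ChevStructure
import Cfsg.Prelude.Def_LieTypes
import Cfsg.Prelude.Def_ChevB2
import Cfsg.Agent.Lib.helper8.BTT.Defs
import Cfsg.Agent.Lib.Helper9.BTTROOT1h9

/-!
# Project BGL, block PAR, row PARX1 (spare copy by helper8 under the own name
`parx1_h8_entry_lin`, EXACT Skel statement): the part of `x_s(t) - 1` which raises the level by
exactly `L s` is linear in `t`.
-/

set_option autoImplicit false

namespace Cfsg.Agent.Lib.helper8.PAR

open Cfsg.Lie Cfsg.Lie.ChevalleyDatum Cfsg.Agent.Lib.helper8 Cfsg.Agent.Lib.helper8.BTT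

universe u

section grp
variable {F : Type u} [Field F] (D : ChevalleyDatum)

theorem parx1_h8_sum_lin (l : List (ℕ × ℤ)) (t : F) (h : ∀ km ∈ l, km.1 = 1) :
    (l.map fun km => ((km.2 : ℤ) : F) * t ^ km.1).sum =
      t * (l.map fun km => ((km.2 : ℤ) : F) * (1 : F) ^ km.1).sum := by
  induction l with
  | nil => simp
  | cons a l ih =>
    rw [List.map_cons, List.sum_cons, List.map_cons, List.sum_cons,
      ih (fun km hkm => h km (List.mem_cons_of_mem _ hkm)), h a List.mem_cons_self]
    ring

theorem parx1_h8_entry_lin (hD : D ∈ [chevG2, chevB2, chevD4, chevF4, chevE6, chevE7, chevE8])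
    (L : Fin D.nroots → ℝ) (hL : L ∈ levE D) (s : ℕ) (hs : s < D.nroots) (hpos : 0 < lv D L s)
    (t : F) (i j : D.Idx) (hij : lvl D L i = lvl D L j + lv D L s) :
    (D.x F s t - 1) i j = t * (D.x F s 1 - 1) i j := by
  have hx : ∀ c : F, D.x F s c = D.xMat F ⟨s, hs⟩ c := by
    intro c
    unfold ChevalleyDatum.x
    rw [dif_pos hs]
  have hneg := bttroot1_h9_lev_neg D hD L hL s hs
  have hlvs : lv D L s = L ⟨s, hs⟩ := by
    unfold lv
    rw [dif_pos hs]
  have hlvc : ∀ r : Fin D.nroots, lv D L r.val = L r := by
    intro r
    unfold lv
    rw [dif_pos r.isLt]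
  rw [hx, hx, Matrix.sub_apply, Matrix.sub_apply]
  rcases j with b | v
  · rcases i with a | w
    · unfold ChevalleyDatum.xMat
      rw [Matrix.of_apply, Matrix.of_apply, Matrix.one_apply]
      simp only [Sum.inl.injEq]
      rw [sub_self, mul_zero]
    · unfold ChevalleyDatum.xMat
      rw [Matrix.of_apply, Matrix.of_apply, Matrix.one_apply]
      simp only [reduceCtorEq, if_false, sub_zero]
      by_cases hw : w = ⟨s, hs⟩
      · rw [if_pos hw, if_pos hw]
        ring
      · rw [if_neg hw, if_neg hw, mul_zero]
  · unfold ChevalleyDatum.xMat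
    rw [Matrix.of_apply, Matrix.of_apply]
    by_cases hv : v = ⟨s, hs⟩
    · simp only [hv, if_true]
      rcases i with a | w
      · rw [Matrix.one_apply]
        simp
      · rw [Matrix.one_apply]
        simp only [Sum.inr.injEq]
        rw [hv, sub_self, mul_zero]
    · simp only [hv, if_false]
      by_cases hvn : v.val = D.negIdx.getD s 0
      · simp only [hvn, if_true]
        have hLv : L v = - L ⟨s, hs⟩ := by
          have h1 := hneg.2
          unfold ChevalleyDatum.neg at h1
          rw [← hvn, hlvc v, hlvs] at h1
          exact h1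
        rcases i with a | w
        · rw [Matrix.one_apply]
          simp only [reduceCtorEq, if_false, sub_zero]
          ring
        · rw [Matrix.one_apply]
          simp only [Sum.inr.injEq]
          by_cases hwv : w = v
          · simp only [if_pos hwv, sub_self, mul_zero]
          · simp only [if_neg hwv, sub_zero]
            by_cases hws : w = ⟨s, hs⟩
            · exfalso
              subst hws
              simp only [lvl, Sum.elim_inr, hlvs, hLv] at hij
              rw [hlvs] at hpos
              linarith
            · rw [if_neg hws, if_neg hws, mul_zero]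
      · simp only [hvn, if_false]
        rcases i with a | w
        · rw [Matrix.one_apply]
          simp
        · rw [Matrix.one_apply]
          simp only [Sum.inr.injEq]
          rw [add_sub_cancel_left, add_sub_cancel_left]
          apply parx1_h8_sum_lin
          intro km hkm
          obtain ⟨h1, h2⟩ := bttroot1_h9_lev_chain D hD L hL s v.val w.val hs v.isLt w.isLt km hkm
          rw [hlvc, hlvc] at h2
          simp only [lvl, Sum.elim_inr] at hij
          rw [hij] at h2
          have h3 : ((km.1 : ℝ) - 1) * lv D L s = 0 := by linarith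
          rcases mul_eq_zero.1 h3 with h4 | h4
          · have : (km.1 : ℝ) = 1 := by linarith
            exact_mod_cast this
          · exact absurd h4 hpos.ne'

end grp

end Cfsg.Agent.Lib.helper8.PAR
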