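import Mathlib
import Cfsg.Agent.Lib.Helper10.BGL.Btc
import Cfsg.Agent.Lib.helper8.BGLPAR1
import Cfsg.Agent.Lib.helper8.BGLPAR2
import Cfsg.Agent.Lib.helper8.BGLPARX1h8

/-!
# Project BGL, block PAR (helper8), row PAR3: the level function of a node and the generator step
-/

set_option autoImplicit false

namespace Cfsg.Agent.Lib.helper8.PAR

open Cfsg.Lie Cfsg.Lie.ChevalleyDatum Cfsg.Agent.Lib.helper8 Cfsg.Agent.Lib.helper8.BTT

universe u

section lvlfun
variable (D : ChevalleyDatum)

/-- the level function of the node `j`: a positive multiple of the `j`-th root coordinate -/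
noncomputable def parL (m : List (List ℤ)) (j : ℕ) : Fin D.nroots → ℝ :=
  lamL D (bttroot2_vec D (m.getD j []))

theorem parL_mem (m : List (List ℤ)) (j : ℕ) : parL D m j ∈ levE D := ⟨_, rfl⟩

theorem parL_lv (m : List (List ℤ)) (j r : ℕ) (hr : r < D.nroots) :
    lv D (parL D m j) r = ((h8gk D (m.getD j []) r : ℤ) : ℝ) :=
  bttroot2_h8_lv_gk D _ r hr

variable (m : List (List ℤ)) (hP : parChk D m = true) (hBN : H8BN D) (j : ℕ) (hj : j < D.rank)

include hP hBN hj in
theorem parL_d_pos : 0 < lv D (parL D m j) (D.simple j) := by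
  rw [parL_lv D m j _ (h8simple_pos D hBN j hj).1]
  exact_mod_cast (parChk_spec D m hP j hj).1

include hP hBN hj in
theorem parL_simple_ne (i : ℕ) (hi : i < D.rank) (hij : i ≠ j) :
    lv D (parL D m j) (D.simple i) = 0 := by
  rw [parL_lv D m j _ (h8simple_pos D hBN i hi).1]
  exact_mod_cast (parChk_spec D m hP j hj).2.1 i hi hij

include hP hBN hj in
theorem parL_dom : Dom D (parL D m j) := by
  intro i hi
  by_cases hij : i = j
  · rw [hij]
    exact (parL_d_pos D m hP hBN j hj).le
  · rw [parL_simple_ne D m hP hBN j hj i hi hij]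

include hP hBN hj in
theorem parL_zeroSet : zeroSet D (parL D m j) = {i | i < D.rank ∧ i ≠ j} := by
  ext i
  constructor
  · rintro ⟨hi, h0⟩
    refine ⟨hi, ?_⟩
    rintro rfl
    exact absurd h0 (parL_d_pos D m hP hBN i hj).ne'
  · rintro ⟨hi, hij⟩
    exact ⟨hi, parL_simple_ne D m hP hBN j hj i hi hij⟩

include hP hj in
theorem parL_pos (r : ℕ) (hr : D.IsPosRoot r) :
    lv D (parL D m j) r = 0 ∨ lv D (parL D m j) (D.simple j) ≤ lv D (parL D m j) r := by
  by_cases hs : D.simple j < D.nroots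
  · rw [parL_lv D m j _ hr.1, parL_lv D m j _ hs]
    rcases (parChk_spec D m hP j hj).2.2.1 r hr with h | h
    · left
      exact_mod_cast h
    · right
      exact_mod_cast h
  · have h0 : (0 : ℤ) < h8gk D (m.getD j []) (D.simple j) := (parChk_spec D m hP j hj).1
    rw [parL_lv D m j _ hr.1]
    have h1 : lv D (parL D m j) (D.simple j) = 0 := by
      unfold lv
      rw [dif_neg hs]
    rw [h1]
    rcases (parChk_spec D m hP j hj).2.2.1 r hr with h | h
    · left
      exact_mod_cast h
    · right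
      have : (0 : ℤ) ≤ h8gk D (m.getD j []) r := le_trans h0.le h
      exact_mod_cast this

theorem parL_zero_iff (hLv : h8lvlChk D m = true) (j : ℕ) (hj : j < D.rank) (r : ℕ)
    (hr : r < D.nroots) :
    lv D (parL D m j) r = 0 ↔ (D.coroot.getD r #[]).getD j 0 = 0 := by
  rw [parL_lv D m j r hr]
  obtain ⟨h1, h2⟩ := h8lvlChk_spec D m hLv r hr j hj
  constructor
  · intro h
    have h0 : h8gk D (m.getD j []) r = 0 := by exact_mod_cast h
    rw [h0] at h1 h2
    have a : ¬ 0 < (D.coroot.getD r #[]).getD j 0 := fun h => lt_irrefl 0 (h1.1 h)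
    have b : ¬ (D.coroot.getD r #[]).getD j 0 < 0 := fun h => lt_irrefl 0 (h2.1 h)
    omega
  · intro h
    rw [h] at h1 h2
    have a : ¬ 0 < h8gk D (m.getD j []) r := fun h => lt_irrefl 0 (h1.2 h)
    have b : ¬ h8gk D (m.getD j []) r < 0 := fun h => lt_irrefl 0 (h2.2 h)
    have : h8gk D (m.getD j []) r = 0 := by omega
    exact_mod_cast this

end lvlfun

section grp
variable {F : Type u} [Field F] (D : ChevalleyDatum)

/-- the generator step: an element of `Par` commuting with `x_r(1)` commutes with `x_r(t)` modulo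
levels `> d`, if `0 < d ≤ L r` -/
theorem par_gen_step (hD : D ∈ [chevG2, chevB2, chevD4, chevF4, chevE6, chevE7, chevE8])
    (L : Fin D.nroots → ℝ) (hL : L ∈ levE D) (d : ℝ) (hd : 0 < d) (r : ℕ) (hr : r < D.nroots)
    (hdr : d ≤ lv D L r) (x : Matrix D.Idx D.Idx F) (hx : Par (lvl D L) x)
    (hcomm : x * D.x F r 1 = D.x F r 1 * x) (t : F) :
    RaiseS (lvl D L) d (x * D.x F r t - D.x F r t * x) := by
  have hpos : 0 < lv D L r := lt_of_lt_of_le hd hdr
  set R : Matrix D.Idx D.Idx F := (D.x F r t - 1) - t • (D.x F r 1 - 1) with hR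
  have hRS : RaiseS (lvl D L) d R := by
    intro a b hne
    have hk : ∃ k : ℕ, 1 ≤ k ∧ lvl D L a = lvl D L b + (k : ℝ) * lv D L r := by
      by_cases h1 : (D.x F r t - 1) a b = 0
      · have h2 : (D.x F r 1 - 1) a b ≠ 0 := by
          intro h2
          apply hne
          rw [hR, Matrix.sub_apply, Matrix.smul_apply, h1, h2, smul_zero, sub_zero]
        exact x_entry D hD L hL r hr 1 a b h2
      · exact x_entry D hD L hL r hr t a b h1
    obtain ⟨k, hk1, hk2⟩ := hk
    have hk3 : k ≠ 1 := by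
      rintro rfl
      apply hne
      have := parx1_h8_entry_lin D hD L hL r hr hpos t a b (by rw [hk2]; push_cast; ring)
      rw [hR, Matrix.sub_apply, Matrix.smul_apply, this, smul_eq_mul, sub_self]
    have hk4 : (2 : ℝ) ≤ (k : ℝ) := by
      have : 2 ≤ k := by omega
      exact_mod_cast this
    rw [hk2]
    nlinarith
  have e : x * D.x F r t - D.x F r t * x =
      t • (x * D.x F r 1 - D.x F r 1 * x) + (x * R - R * x) := by
    rw [hR]
    simp only [mul_sub, sub_mul, mul_one, one_mul, Matrix.mul_smul, Matrix.smul_mul, smul_sub]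
    abel
  rw [e, hcomm, sub_self, smul_zero, zero_add]
  exact raiseS_sub _ _ _ _ (par_mul_raiseS _ _ _ _ hx hRS) (raiseS_mul_par _ _ _ _ hRS hx)

end grp

end Cfsg.Agent.Lib.helper8.PAR
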