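import Cfsg.Agent.Lib.helper8.BTT.Defs
import Cfsg.Agent.Lib.helper8.ChevLvlTab
import Cfsg.Prelude.Def_LieTypes
import Cfsg.Prelude.Def_ChevB2

/-!
Project BTT row ROOT2 (by helper8 under own name `bttroot2_h8_exists_height`, EXACT Skel
statement): a level function which is `≥ 1` on the positive roots.
-/

set_option autoImplicit false

namespace Cfsg.Agent.Lib.helper8.BTT

open Cfsg.Lie Cfsg.Lie.ChevalleyDatum Cfsg.Agent.Lib.helper8

universe u

def bttroot2_chk (D : ChevalleyDatum) (m : List (List ℤ)) : Bool :=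
  (List.range D.nroots).all fun r => !(decide (D.IsPosRoot r)) ||
    decide (1 ≤ ((List.range D.rank).map fun k => h8gk D (m.getD k []) r).sum)

theorem bttroot2_chk_G2 : bttroot2_chk chevG2 h8lvlM_G2 = true := by decide +kernel
theorem bttroot2_chk_B2 : bttroot2_chk chevB2 h8lvlM_B2 = true := by decide +kernel
theorem bttroot2_chk_D4 : bttroot2_chk chevD4 h8lvlM_D4 = true := by decide +kernel
theorem bttroot2_chk_F4 : bttroot2_chk chevF4 h8lvlM_F4 = true := by decide +kernel
theorem bttroot2_chk_E6 : bttroot2_chk chevE6 h8lvlM_E6 = true := by decide +kernel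
theorem bttroot2_chk_E7 : bttroot2_chk chevE7 h8lvlM_E7 = true := by decide +kernel
theorem bttroot2_chk_E8 : bttroot2_chk chevE8 h8lvlM_E8 = true := by decide +kernel

section root
variable (D : ChevalleyDatum)

theorem bttroot2_h8_list_sum (f : ℕ → ℤ) : ∀ n : ℕ,
    ((List.range n).map f).sum = ∑ j ∈ Finset.range n, f j
  | 0 => by simp
  | n + 1 => by
    rw [List.range_succ, List.map_append, List.sum_append, Finset.sum_range_succ,
      bttroot2_h8_list_sum f n]
    simp

/-- the vector of a multiplier list -/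
def bttroot2_vec (mk : List ℤ) : Fin D.rank → ℝ := fun i => ((mk.getD i 0 : ℤ) : ℝ)

theorem bttroot2_h8_lv_gk (mk : List ℤ) (r : ℕ) (hr : r < D.nroots) :
    lv D (lamL D (bttroot2_vec D mk)) r = ((h8gk D mk r : ℤ) : ℝ) := by
  unfold lv
  rw [dif_pos hr]
  show ∑ i : Fin D.rank, bttroot2_vec D mk i * ((D.cartan i r : ℤ) : ℝ) = _
  unfold h8gk bttroot2_vec
  rw [bttroot2_h8_list_sum, Int.cast_sum, Finset.sum_range]
  apply Finset.sum_congr rfl
  intro i _
  push_cast
  rfl

theorem bttroot2_h8_tables (hD : D ∈ [chevG2, chevB2, chevD4, chevF4, chevE6, chevE7, chevE8]) :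
    ∃ m : List (List ℤ), bttroot2_chk D m = true := by
  simp only [List.mem_cons, List.not_mem_nil, or_false] at hD
  rcases hD with rfl | rfl | rfl | rfl | rfl | rfl | rfl
  · exact ⟨_, bttroot2_chk_G2⟩
  · exact ⟨_, bttroot2_chk_B2⟩
  · exact ⟨_, bttroot2_chk_D4⟩
  · exact ⟨_, bttroot2_chk_F4⟩
  · exact ⟨_, bttroot2_chk_E6⟩
  · exact ⟨_, bttroot2_chk_E7⟩
  · exact ⟨_, bttroot2_chk_E8⟩

/-- ROOT2 [M] -/
theorem bttroot2_h8_exists_height
    (hD : D ∈ [chevG2, chevB2, chevD4, chevF4, chevE6, chevE7, chevE8]) :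
    ∃ L₀ ∈ levE D, ∀ r, D.IsPosRoot r → 1 ≤ lv D L₀ r := by
  obtain ⟨m, hm⟩ := bttroot2_h8_tables D hD
  refine ⟨∑ k ∈ Finset.range D.rank, lamL D (bttroot2_vec D (m.getD k [])), ?_, ?_⟩
  · apply Submodule.sum_mem
    intro k _
    exact ⟨_, rfl⟩
  · intro r hr
    unfold bttroot2_chk at hm
    simp only [List.all_eq_true, List.mem_range, Bool.or_eq_true, Bool.not_eq_true',
      decide_eq_false_iff_not, decide_eq_true_eq] at hm
    have h1 := (hm r hr.1).resolve_left (fun h => h hr)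
    rw [bttroot2_h8_list_sum] at h1
    have h2 : lv D (∑ k ∈ Finset.range D.rank, lamL D (bttroot2_vec D (m.getD k []))) r =
        ∑ k ∈ Finset.range D.rank, ((h8gk D (m.getD k []) r : ℤ) : ℝ) := by
      unfold lv
      rw [dif_pos hr.1, Finset.sum_apply]
      apply Finset.sum_congr rfl
      intro k _
      have := bttroot2_h8_lv_gk D (m.getD k []) r hr.1
      unfold lv at this
      rw [dif_pos hr.1] at this
      exact this
    rw [h2]
    have h3 : ((1 : ℤ) : ℝ) ≤ ((∑ k ∈ Finset.range D.rank, h8gk D (m.getD k []) r : ℤ) : ℝ) :=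
      Int.cast_le.2 h1
    simpa using h3

end root

end Cfsg.Agent.Lib.helper8.BTT
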