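import Cfsg.Agent.Lib.helper8.BTT.Defs
import Cfsg.Agent.Lib.helper8.BTTROOT2h8

/-!
Project BTT row ROOT2 (verbatim name; proof in `BTTROOT2h8`).
-/

set_option autoImplicit false

namespace Cfsg.Agent.Lib.helper8.BTT

open Cfsg.Lie Cfsg.Lie.ChevalleyDatum

universe u

section root
variable (D : ChevalleyDatum)

/-- ROOT2 [M]: a level function which is `≥ 1` on the positive roots (sum of the functionals
`h8gk D (m.getD k [])` of `h8lvl_all`, `h8lvlChk_spec`; a positive root has a positive coroot
coefficient). -/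
theorem exists_height (hD : D ∈ [chevG2, chevB2, chevD4, chevF4, chevE6, chevE7, chevE8])
    : ∃ L₀ ∈ levE D, ∀ r, D.IsPosRoot r → 1 ≤ lv D L₀ r := bttroot2_h8_exists_height D hD

end root

end Cfsg.Agent.Lib.helper8.BTT
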