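import Mathlib
import Cfsg.Agent.Lib.Helper10.BGL.Btc
import Cfsg.Agent.Lib.helper14.ChevCentUJ
import Cfsg.Agent.Lib.helper14.BGLSPX1
import Cfsg.Agent.Lib.Helper9.BTTROOT1h9
import Cfsg.Agent.Lib.helper8.BTTROOT2

/-!
# Project BGL, block PAR (helper8), row PARE: `par_B_entry` (VERBATIM vs SkelPAR)
-/

set_option autoImplicit false

namespace Cfsg.Agent.Lib.helper8.PAR

open Cfsg.Lie Cfsg.Lie.ChevalleyDatum Cfsg.Agent.Lib.helper8 Cfsg.Agent.Lib.helper8.BTT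

universe u

section grp
variable {F : Type u} [Field F] (D : ChevalleyDatum)

/-- `Fil ℓ 1` matrices have unit diagonal -/
theorem pare_diag (ℓ : D.Idx → ℝ) (M : Matrix D.Idx D.Idx F) (h : Fil ℓ 1 M) (a : D.Idx) :
    M a a = 1 := by
  by_contra hne
  have h1 : (M - 1) a a ≠ 0 := by
    rw [Matrix.sub_apply, Matrix.one_apply_eq]
    intro h0
    exact hne (sub_eq_zero.1 h0)
  have := h a a h1
  linarith

/-- off-diagonal non-zero entries of `Fil ℓ 1` matrices raise the level by at least `1` -/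
theorem pare_off (ℓ : D.Idx → ℝ) (M : Matrix D.Idx D.Idx F) (h : Fil ℓ 1 M) (a b : D.Idx)
    (hab : a ≠ b) (hne : M a b ≠ 0) : ℓ b + 1 ≤ ℓ a := by
  apply h a b
  rw [Matrix.sub_apply, Matrix.one_apply_ne hab, sub_zero]
  exact hne

/-- PARE [M]: for `b ∈ B` and a positive root `r` the entry (row `h_k`, column `e_{-r}`) of
`b x_r(1) b⁻¹` is `χ c_k(r)` with `χ ≠ 0`. -/
theorem par_B_entry [Finite F] (hD : D ∈ [chevG2, chevB2, chevD4, chevF4, chevE6, chevE7, chevE8])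
    (b : GL D.Idx F) (hb : b ∈ D.borelSubgroup F) (r : ℕ) (hr : D.IsPosRoot r)
    (hnr : D.neg r < D.nroots) (k : ℕ) (hk : k < D.rank)
    (hck : (((D.coroot.getD r #[]).getD k 0 : ℤ) : F) ≠ 0)
    (x : GL D.Idx F) (hx : (x : Matrix D.Idx D.Idx F) = D.x F r 1) :
    ((b * x * b⁻¹ : GL D.Idx F) : Matrix D.Idx D.Idx F) (Sum.inl ⟨k, hk⟩)
      (Sum.inr ⟨D.neg r, hnr⟩) ≠ 0 := by
  classical
  have hB := h8base_all.{u} D hD
  have hxe : x = h8xU D hB r 1 := Units.ext (by rw [hx, h8xU_val])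
  obtain ⟨u, hu, h, hh, rfl⟩ := Cfsg.Agent.Lib.helper14.cf_B_decomp D hB b hb
  obtain ⟨χ, hχ, hact⟩ := h8perm_H_id D hB h hh r hr.1
  obtain ⟨L₀, hL₀, hpos⟩ := exists_height D hD
  have hLr : 1 ≤ lv D L₀ r := hpos r hr
  obtain ⟨-, hneg⟩ := bttroot1_h9_lev_neg D hD L₀ hL₀ r hr.1
  have hu1 : Fil (lvl D L₀) 1 (u : Matrix D.Idx D.Idx F) := U_fil D hD L₀ hL₀ hpos u hu
  have hu2 : Fil (lvl D L₀) 1 ((u⁻¹ : GL D.Idx F) : Matrix D.Idx D.Idx F) :=
    fil_inv (lvl D L₀) 1 zero_le_one u hu1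
  set p : D.Idx := Sum.inl ⟨k, hk⟩ with hp
  set q : D.Idx := Sum.inr ⟨D.neg r, hnr⟩ with hq
  have hlp : lvl D L₀ p = 0 := rfl
  have hlq : lvl D L₀ q = - lv D L₀ r := by
    rw [← hneg]
    unfold lv
    rw [dif_pos hnr]
    rfl
  have hpq : p ≠ q := by
    rw [hp, hq]
    exact Sum.inl_ne_inr
  set X : Matrix D.Idx D.Idx F := D.x F r (χ * 1) with hX
  have e1 : (u * h) * x * (u * h)⁻¹ = u * h8xU D hB r (χ * 1) * u⁻¹ := by
    rw [← hact 1, hxe]
    group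
  have e2 : ((u * h * x * (u * h)⁻¹ : GL D.Idx F) : Matrix D.Idx D.Idx F) =
      (u : Matrix D.Idx D.Idx F) * (X - 1) * ((u⁻¹ : GL D.Idx F) : Matrix D.Idx D.Idx F) + 1 := by
    have huu : (u : Matrix D.Idx D.Idx F) * ((u⁻¹ : GL D.Idx F) : Matrix D.Idx D.Idx F) = 1 := by
      rw [← Units.val_mul, mul_inv_cancel, Units.val_one]
    rw [e1, Units.val_mul, Units.val_mul, h8xU_val, ← hX]
    have e3 : (u : Matrix D.Idx D.Idx F) * (X - 1) *
        ((u⁻¹ : GL D.Idx F) : Matrix D.Idx D.Idx F) =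
        (u : Matrix D.Idx D.Idx F) * X * ((u⁻¹ : GL D.Idx F) : Matrix D.Idx D.Idx F) -
          (u : Matrix D.Idx D.Idx F) * ((u⁻¹ : GL D.Idx F) : Matrix D.Idx D.Idx F) := by
      noncomm_ring
    rw [e3, huu, sub_add_cancel]
  have hXe : ∀ a a', (X - 1) a a' ≠ 0 → lvl D L₀ a' + lv D L₀ r ≤ lvl D L₀ a := by
    intro a a' hne
    obtain ⟨k', hk1, hk2⟩ := x_entry D hD L₀ hL₀ r hr.1 (χ * 1) a a' hne
    rw [hk2]
    have : (1 : ℝ) ≤ (k' : ℝ) := by exact_mod_cast hk1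
    nlinarith
  -- the row `p` of `u (X - 1)`
  have h2 : ((u : Matrix D.Idx D.Idx F) * (X - 1)) p q = (X - 1) p q := by
    rw [Matrix.mul_apply, Finset.sum_eq_single p]
    · rw [pare_diag D _ _ hu1 p, one_mul]
    · intro a _ hap
      by_contra hne
      have h3 : (u : Matrix D.Idx D.Idx F) p a ≠ 0 := left_ne_zero_of_mul hne
      have h4 : (X - 1) a q ≠ 0 := right_ne_zero_of_mul hne
      have h5 := pare_off D _ _ hu1 p a (Ne.symm hap) h3
      have h6 := hXe a q h4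
      rw [hlp] at h5
      rw [hlq] at h6
      linarith
    · intro h
      exact absurd (Finset.mem_univ p) h
  have h1 : ∀ a', a' ≠ q → ((u : Matrix D.Idx D.Idx F) * (X - 1)) p a' *
      ((u⁻¹ : GL D.Idx F) : Matrix D.Idx D.Idx F) a' q = 0 := by
    intro a' ha'
    by_contra hne
    have h3 : ((u : Matrix D.Idx D.Idx F) * (X - 1)) p a' ≠ 0 := left_ne_zero_of_mul hne
    have h4 : ((u⁻¹ : GL D.Idx F) : Matrix D.Idx D.Idx F) a' q ≠ 0 := right_ne_zero_of_mul hne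
    obtain ⟨a, h5, h6⟩ := bttgen3_mul_entry _ _ p a' h3
    have h7 := pare_off D _ _ hu2 a' q ha' h4
    have h8 := hXe a a' h6
    have h9 : lvl D L₀ a ≤ lvl D L₀ p := by
      by_cases hap : p = a
      · rw [hap]
      · have := pare_off D _ _ hu1 p a hap h5
        linarith
    rw [hlp] at h9
    rw [hlq] at h7
    linarith
  rw [e2, Matrix.add_apply, Matrix.one_apply_ne hpq, add_zero, Matrix.mul_apply,
    Finset.sum_eq_single q]
  · rw [h2, pare_diag D _ _ hu2 q, mul_one, Matrix.sub_apply, Matrix.one_apply_ne hpq, sub_zero,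
      hX, Cfsg.Agent.Lib.helper14.BGLSP.bglspx1_x_eq D hr.1, hp, hq,
      Cfsg.Agent.Lib.helper14.BGLSP.bglspx1_row_inl_inr]
    have hne : (⟨D.neg r, hnr⟩ : Fin D.nroots) ≠ ⟨r, hr.1⟩ := by
      intro h
      have h3 : D.neg r = r := congrArg Fin.val h
      rw [h3] at hneg
      linarith
    have hc2 : ((⟨D.neg r, hnr⟩ : Fin D.nroots) : ℕ) = D.negIdx.getD r 0 := rfl
    rw [if_neg hne, if_pos hc2]
    exact mul_ne_zero hck (mul_ne_zero hχ one_ne_zero)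
  · intro a' _ ha'
    exact h1 a' ha'
  · intro h
    exact absurd (Finset.mem_univ q) h

end grp

end Cfsg.Agent.Lib.helper8.PAR
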