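import Mathlib
import Cfsg.Agent.Lib.Helper10.BGL.Btc
import Cfsg.Agent.Lib.helper14.ChevCentUJ
import Cfsg.Agent.Lib.helper14.BGLSPX1
import Cfsg.Agent.Lib.Helper9.BTTROOT1h9
import Cfsg.Agent.S1048
import Cfsg.Agent.Lib.helper8.BGLPAR3
import Cfsg.Agent.Lib.helper8.BGLPARE

/-!
# Project BGL, block PAR (helper8), row PAR4: the algebraic core

An element of `G ∩ P_{J'}` (`J'` the complement of the node `j`) which commutes with `x_r(1)` for
every positive root `r` involving the `j`-th fundamental root lies in `B`.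
-/

set_option autoImplicit false

namespace Cfsg.Agent.Lib.helper8.PAR

open Cfsg.Lie Cfsg.Lie.ChevalleyDatum Cfsg.Agent.Lib.helper8 Cfsg.Agent.Lib.helper8.BTT
  Cfsg.Agent.Lib.helper14

universe u

/-- `r ↦ -r` is an involution -/
def parNegChk (D : ChevalleyDatum) : Bool :=
  (List.range D.nroots).all fun r => decide (D.neg (D.neg r) = r)

theorem parNegChk_G2 : parNegChk chevG2 = true := by decide +kernel
theorem parNegChk_B2 : parNegChk chevB2 = true := by decide +kernel
theorem parNegChk_D4 : parNegChk chevD4 = true := by decide +kernel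
theorem parNegChk_F4 : parNegChk chevF4 = true := by decide +kernel
theorem parNegChk_E6 : parNegChk chevE6 = true := by decide +kernel
theorem parNegChk_E7 : parNegChk chevE7 = true := by decide +kernel
theorem parNegChk_E8 : parNegChk chevE8 = true := by decide +kernel

theorem par_neg_neg (D : ChevalleyDatum)
    (hD : D ∈ [chevG2, chevB2, chevD4, chevF4, chevE6, chevE7, chevE8]) (r : ℕ)
    (hr : r < D.nroots) : D.neg (D.neg r) = r := by
  have h : parNegChk D = true := by
    simp only [List.mem_cons, List.not_mem_nil, or_false] at hD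
    rcases hD with rfl | rfl | rfl | rfl | rfl | rfl | rfl
    · exact parNegChk_G2
    · exact parNegChk_B2
    · exact parNegChk_D4
    · exact parNegChk_F4
    · exact parNegChk_E6
    · exact parNegChk_E7
    · exact parNegChk_E8
  unfold parNegChk at h
  rw [List.all_eq_true] at h
  exact of_decide_eq_true (h r (List.mem_range.2 hr))

section grp
variable {F : Type u} [Field F] (D : ChevalleyDatum)

/-- the row `h_k` of `x_s(t)` vanishes in the column `e_{-r}` if `s ≠ r` -/
theorem par_x_row_zero (hD : D ∈ [chevG2, chevB2, chevD4, chevF4, chevE6, chevE7, chevE8])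
    (s r : ℕ) (hs : s < D.nroots) (hr : r < D.nroots) (hsr : s ≠ r) (hnr : D.neg r < D.nroots)
    (t : F) (k : Fin D.rank) :
    D.x F s t (Sum.inl k) (Sum.inr ⟨D.neg r, hnr⟩) = 0 := by
  rw [Cfsg.Agent.Lib.helper14.BGLSP.bglspx1_x_eq D hs,
    Cfsg.Agent.Lib.helper14.BGLSP.bglspx1_row_inl_inr]
  split_ifs with h1 h2
  · rfl
  · exfalso
    apply hsr
    have h3 : D.neg r = D.neg s := h2
    have h4 := congrArg D.neg h3
    rw [par_neg_neg D hD r hr, par_neg_neg D hD s hs] at h4
    exact h4.symm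
  · rfl

/-- PAR4: the algebraic core. -/
theorem par_cent_le_B [Finite F]
    (hD : D ∈ [chevG2, chevB2, chevD4, chevF4, chevE6, chevE7, chevE8]) (j : ℕ) (hj : j < D.rank)
    (c : GL D.Idx F) (hcG : c ∈ D.group F) (hcP : c ∈ D.parabolicSubgroup F {i | i ≠ j})
    (hcomm : ∀ r, D.IsPosRoot r → (D.coroot.getD r #[]).getD j 0 ≠ 0 →
      (c : Matrix D.Idx D.Idx F) * D.x F r 1 = D.x F r 1 * (c : Matrix D.Idx D.Idx F)) :
    c ∈ D.borelSubgroup F := by
  classical
  obtain ⟨m, hLv, hP⟩ := parChk_all D hD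
  have hB := h8base_all.{u} D hD
  have hA := h8reflAll D hD
  have hC := h8commAll.{u} D hD
  have hBN := h8bn_all D hD
  have hW := h8bn2_all D hD
  obtain ⟨hO, hO2⟩ := h8ord_all D hD
  set L := parL D m j with hLdef
  have hL : L ∈ levE D := parL_mem D m j
  have hdom : Dom D L := parL_dom D m hP hBN j hj
  set d := lv D L (D.simple j) with hddef
  have hd : 0 < d := parL_d_pos D m hP hBN j hj
  set UJ := D.unipotentRadical F {i | i ≠ j} with hUJ
  -- `P_{J'} ⊆ Par`
  have hPJ : D.parabolicSubgroup F {i | i ≠ j} ≤ D.parabolicSubgroup F (zeroSet D L) := by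
    unfold ChevalleyDatum.parabolicSubgroup
    apply sup_le_sup_left
    apply Subgroup.closure_mono
    rintro g ⟨i, hiJ, hi, hg⟩
    refine ⟨i, ?_, hi, hg⟩
    rw [hLdef, parL_zeroSet D m hP hBN j hj]
    exact ⟨hi, hiJ⟩
  have hcPar : Par (lvl D L) (c : Matrix D.Idx D.Idx F) :=
    bglbt3_PJ_le_par D hD L hL hdom c (hPJ hcP)
  have hBP : D.borelSubgroup F ≤ D.parabolicSubgroup F {i | i ≠ j} := by
    unfold ChevalleyDatum.parabolicSubgroup
    exact le_sup_left
  have hBUJ : D.borelSubgroup F ≤ Subgroup.normalizer (UJ : Set (GL D.Idx F)) :=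
    le_trans hBP (Cfsg.Agent.S1048.result (F := F) D hD {i | i ≠ j}).1
  -- levels of the roots outside `Φ_{J'}`
  have hlev : ∀ r, D.IsPosRoot r → (D.coroot.getD r #[]).getD j 0 ≠ 0 → d ≤ lv D L r := by
    intro r hr hrj
    rcases parL_pos D m hP j hj r hr with h | h
    · exact absurd ((parL_zero_iff D m hLv j hj r hr.1).1 h) hrj
    · exact h
  have hnotin : ∀ r, r < D.nroots → ¬ D.InRootSub {i | i ≠ j} r →
      (D.coroot.getD r #[]).getD j 0 ≠ 0 := by
    intro r hr hnot h0
    apply hnot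
    refine ⟨hr, fun i _ hi => ?_⟩
    have : i = j := by
      by_contra hne
      exact hi hne
    rw [this]
    exact h0
  -- the kernel
  set Cn := parCn (lvl D L) d UJ with hCn
  have hcCn : c ∈ Cn := by
    rw [hCn, hUJ]
    unfold ChevalleyDatum.unipotentRadical
    apply parCn_of_gen
    · rintro s ⟨r, t, hr, hrJ, hs⟩
      rw [hs]
      have := hlev r hr (hnotin r hr.1 hrJ)
      exact x_par D hD L hL r hr.1 t (by linarith)
    · exact hcPar
    · rintro s ⟨r, t, hr, hrJ, hs⟩
      rw [hs]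
      have hrj := hnotin r hr.1 hrJ
      exact par_gen_step D hD L hL d hd r hr.1 (hlev r hr hrj) _ hcPar (hcomm r hr hrj) t
  have hconj : ∀ b ∈ D.borelSubgroup F, ∀ x ∈ Cn, b * x * b⁻¹ ∈ Cn := by
    intro b hb x hx
    apply parCn_conj (lvl D L) d UJ b x (B_par D hD L hL hdom b hb) _ hx
    intro v hv
    have hbi := hBUJ (Subgroup.inv_mem _ hb)
    have := (Subgroup.mem_normalizer_iff.mp hbi v).mp hv
    rwa [inv_inv] at this
  have hBC : D.borelSubgroup F ≤ Subgroup.normalizer (Cn : Set (GL D.Idx F)) := by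
    intro b hb
    rw [Subgroup.mem_normalizer_iff]
    intro x
    constructor
    · exact hconj b hb x
    · intro h
      have := hconj b⁻¹ (Subgroup.inv_mem _ hb) _ h
      have e : b⁻¹ * (b * x * b⁻¹) * b⁻¹⁻¹ = x := by group
      rwa [e] at this
  have hover := h8overgroup D hB hA hC hBN hW hO2 (Cn ⊔ D.borelSubgroup F) le_sup_right
  have hempty : {g : GL D.Idx F | ∃ i < D.rank, g = h8nU D hB (D.simple i) (1 : F) ∧
      g ∈ Cn ⊔ D.borelSubgroup F} = ∅ := by
    rw [Set.eq_empty_iff_forall_notMem]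
    rintro g ⟨i, hi, rfl, hmem⟩
    have hprod := Subgroup.coe_mul_of_right_le_normalizer_left Cn (D.borelSubgroup F) hBC
    have hmem' : h8nU D hB (D.simple i) (1 : F) ∈
        ((Cn ⊔ D.borelSubgroup F : Subgroup (GL D.Idx F)) : Set (GL D.Idx F)) := hmem
    rw [hprod] at hmem'
    obtain ⟨κ, hκ, b, hb, e⟩ := hmem'
    have hκ' : κ ∈ Cn := hκ
    obtain ⟨r, hr, hgr, hrne, hrlt, k, hk, hck⟩ := (parChk_spec D m hP j hj).2.2.2 i hi
    have hlr : lv D L r = d := by
      rw [hddef, hLdef, parL_lv D m j r hr.1, parL_lv D m j _ (h8simple_pos D hBN j hj).1, hgr]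
    have hrj : (D.coroot.getD r #[]).getD j 0 ≠ 0 := by
      intro h0
      have := (parL_zero_iff D m hLv j hj r hr.1).2 h0
      rw [← hLdef, hlr] at this
      exact hd.ne' this
    obtain ⟨η, hη, hact⟩ := h8act_nU (F := F) D hB hA i hi r hr.1
    have hxU : h8xU D hB r (1 : F) ∈ UJ := by
      rw [hUJ]
      unfold ChevalleyDatum.unipotentRadical
      apply Subgroup.subset_closure
      refine ⟨r, 1, hr, ?_, h8xU_val D hB r 1⟩
      intro hin
      exact hrj (hin.2 j hj (by simp))
    have hv : b * h8xU D hB r 1 * b⁻¹ ∈ UJ :=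
      (Subgroup.mem_normalizer_iff.mp (hBUJ hb) _).mp hxU
    have hκeq : κ = h8nU D hB (D.simple i) (1 : F) * b⁻¹ := by rw [← e]; group
    have e1 : κ * (b * h8xU D hB r 1 * b⁻¹) = h8xU D hB (D.reflectRoot i r) (η * 1) * κ := by
      rw [← hact 1, hκeq]
      group
    have e2 : (κ : Matrix D.Idx D.Idx F) *
        ((b * h8xU D hB r 1 * b⁻¹ : GL D.Idx F) : Matrix D.Idx D.Idx F) =
        D.x F (D.reflectRoot i r) (η * 1) * (κ : Matrix D.Idx D.Idx F) := by
      have := congrArg (fun z : GL D.Idx F => (z : Matrix D.Idx D.Idx F)) e1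
      simpa only [Units.val_mul, h8xU_val] using this
    have hRS := parCn_transport (lvl D L) d UJ κ _ _ hκ' hv e2
    obtain ⟨hnr, hlvn⟩ := bttroot1_h9_lev_neg D hD L hL r hr.1
    have hzero : (D.x F (D.reflectRoot i r) (η * 1) -
        ((b * h8xU D hB r 1 * b⁻¹ : GL D.Idx F) : Matrix D.Idx D.Idx F))
        (Sum.inl ⟨k, hk⟩) (Sum.inr ⟨D.neg r, hnr⟩) = 0 := by
      by_contra hne
      have := hRS _ _ hne
      have h1 : lvl D L (Sum.inr ⟨D.neg r, hnr⟩) = lv D L (D.neg r) := by
        unfold lv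
        rw [dif_pos hnr]
        rfl
      have h2 : lvl D L (Sum.inl ⟨k, hk⟩) = 0 := rfl
      rw [h1, h2, hlvn, hlr] at this
      linarith
    rw [Matrix.sub_apply, par_x_row_zero D hD _ r hrlt hr.1 hrne hnr, zero_sub, neg_eq_zero]
      at hzero
    have hckF : (((D.coroot.getD r #[]).getD k 0 : ℤ) : F) ≠ 0 := by
      rcases Int.natAbs_eq ((D.coroot.getD r #[]).getD k 0) with h | h
      · rw [h, hck]
        simp
      · rw [h, hck]
        simp
    exact par_B_entry D hD b hb r hr hnr k hk hckF _ (h8xU_val D hB r 1) hzero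
  rw [hempty, Subgroup.closure_empty, sup_bot_eq] at hover
  apply hover
  rw [Subgroup.mem_inf]
  exact ⟨Subgroup.mem_sup_left hcCn, hcG⟩

end grp

end Cfsg.Agent.Lib.helper8.PAR
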