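import Mathlib
import Cfsg.Agent.Lib.Helper10.BGL.Btc
import Cfsg.Agent.Lib.Helper5.BTTGRP12core
import Cfsg.Agent.Lib.helper8.BTTROOT2
import Cfsg.Agent.S1048
import Cfsg.Agent.Lib.helper8.BGLPAR4

/-!
# Project BGL, block PAR (helper8), row PAR5: `par_main` as a core on the statements of
`uk_main` (`huk`) and `bk_main` (`hbk`)
-/

set_option autoImplicit false

namespace Cfsg.Agent.Lib.helper8.PAR

open Cfsg.Lie Cfsg.Lie.ChevalleyDatum Cfsg.Agent.Lib.helper8 Cfsg.Agent.Lib.helper8.BTT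
  Cfsg.Agent.Lib.Helper10.BGL

universe u

section grp
variable {F : Type u} [Field F] (D : ChevalleyDatum)

/-- `G ∩ Par ℓ_j = P_{J'}`, `J'` the complement of the node `j` -/
theorem par_PJ_iff [Fintype F] (p : ℕ) [Fact p.Prime] [CharP F p]
    (hD : D ∈ [chevG2, chevB2, chevD4, chevF4, chevE6, chevE7, chevE8]) (m : List (List ℤ))
    (hP : parChk D m = true) (j : ℕ) (hj : j < D.rank) (z : GL D.Idx F) (hzG : z ∈ D.group F) :
    z ∈ D.parabolicSubgroup F {i | i ≠ j} ↔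
      Par (lvl D (parL D m j)) (z : Matrix D.Idx D.Idx F) := by
  have hBN := h8bn_all D hD
  have hL : parL D m j ∈ levE D := parL_mem D m j
  have hdom : Dom D (parL D m j) := parL_dom D m hP hBN j hj
  have hz := parL_zeroSet D m hP hBN j hj
  have e : D.parabolicSubgroup F {i | i ≠ j} = D.parabolicSubgroup F (zeroSet D (parL D m j)) := by
    unfold ChevalleyDatum.parabolicSubgroup
    congr 2
    ext g
    constructor
    · rintro ⟨i, hiJ, hi, hg⟩
      refine ⟨i, ?_, hi, hg⟩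
      rw [hz]
      exact ⟨hi, hiJ⟩
    · rintro ⟨i, hiJ, hi, hg⟩
      rw [hz] at hiJ
      exact ⟨i, hiJ.2, hi, hg⟩
  rw [e]
  constructor
  · intro h
    exact bglbt3_PJ_le_par D hD _ hL hdom z h
  · intro h
    exact bglbt3_par_le_PJ D p hD _ hL hdom z hzG h

end grp

section main

variable {K : Type u} [Field K] [Finite K]

/-- PAR5: `par_main` from the statements of `uk_main` and `bk_main`. -/
theorem par_main_core [CharP K 2] (D : ChevalleyDatum)
    (hD : D ∈ [chevG2, chevB2, chevD4, chevF4, chevE6, chevE7, chevE8]) (a : ℕ)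
    (H : Subgroup (GL D.Idx K)) (hH : H ≤ D.group K) (hL : Lq D K (2 ^ a) ≤ H)
    (huk : ∀ g ∈ H, g ∈ D.posUnipotent K →
      RatM D (2 ^ a) ((g : GL D.Idx K) : Matrix D.Idx D.Idx K))
    (hbk : ∀ g ∈ H, g ∈ D.borelSubgroup K →
      RatM D (2 ^ a) ((g : GL D.Idx K) : Matrix D.Idx D.Idx K))
    (J : Set ℕ) (hJ : ∃ i, i < D.rank ∧ i ∉ J) :
    ∀ g ∈ H, g ∈ D.parabolicSubgroup K J →
      RatM D (2 ^ a) ((g : GL D.Idx K) : Matrix D.Idx D.Idx K) := by
  classical
  have : Fintype K := Fintype.ofFinite K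
  have : Fact (Nat.Prime 2) := ⟨Nat.prime_two⟩
  obtain ⟨j, hj, hjJ⟩ := hJ
  obtain ⟨m, hLv, hP⟩ := parChk_all D hD
  have hB := h8base_all.{u} D hD
  have hBN := h8bn_all D hD
  set φ : K →+* K := ((sig (K := K) 2 a : K ≃+* K) : K →+* K) with hφ
  have hrat : ∀ z : GL D.Idx K, RatM D (2 ^ a) ((z : GL D.Idx K) : Matrix D.Idx D.Idx K) ↔
      h8Psi D φ z = z := fun z => ratM_iff 2 D a z
  intro g hgH hgP
  have hgG : g ∈ D.group K := hH hgH
  have hPP' : D.parabolicSubgroup K J ≤ D.parabolicSubgroup K {i | i ≠ j} := by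
    unfold ChevalleyDatum.parabolicSubgroup
    apply sup_le_sup_left
    apply Subgroup.closure_mono
    rintro z ⟨i, hiJ, hi, hz⟩
    refine ⟨i, ?_, hi, hz⟩
    rintro rfl
    exact hjJ hiJ
  have hgP' : g ∈ D.parabolicSubgroup K {i | i ≠ j} := hPP' hgP
  have hσG : h8Psi D φ g ∈ D.group K :=
    h8Psi_group_le D hB hB φ (Subgroup.mem_map_of_mem _ hgG)
  set c := g⁻¹ * h8Psi D φ g with hc
  have hcG : c ∈ D.group K := (D.group K).mul_mem ((D.group K).inv_mem hgG) hσG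
  have hcP : c ∈ D.parabolicSubgroup K {i | i ≠ j} := by
    rw [par_PJ_iff D 2 hD m hP j hj c hcG, hc, Units.val_mul]
    have h1 := (par_PJ_iff D 2 hD m hP j hj g hgG).1 hgP'
    have h2 : Par (lvl D (parL D m j))
        ((h8Psi D φ g : GL D.Idx K) : Matrix D.Idx D.Idx K) := by
      rw [h8Psi_val]
      exact bglbt2_par_map φ _ _ h1
    exact par_mul _ _ _ (par_inv _ g h1) h2
  -- `c` commutes with the `x_r(1)`
  have hcomm : ∀ r, D.IsPosRoot r → (D.coroot.getD r #[]).getD j 0 ≠ 0 →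
      (c : Matrix D.Idx D.Idx K) * D.x K r 1 = D.x K r 1 * (c : Matrix D.Idx D.Idx K) := by
    intro r hr hrj
    set x := h8xU D hB r (1 : K) with hx
    have hxL : x ∈ Lq D K (2 ^ a) := x_mem_Lq D _ r 1 (one_pow _) x (h8xU_val D hB r 1)
    have hxUJ : x ∈ D.unipotentRadical K {i | i ≠ j} := by
      unfold ChevalleyDatum.unipotentRadical
      apply Subgroup.subset_closure
      refine ⟨r, 1, hr, ?_, h8xU_val D hB r 1⟩
      intro hin
      exact hrj (hin.2 j hj (by simp))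
    have hyUJ : g * x * g⁻¹ ∈ D.unipotentRadical K {i | i ≠ j} :=
      (Subgroup.mem_normalizer_iff.mp
        ((Cfsg.Agent.S1048.result (F := K) D hD {i | i ≠ j}).1 hgP') _).mp hxUJ
    have hyH : g * x * g⁻¹ ∈ H := H.mul_mem (H.mul_mem hgH (hL hxL)) (H.inv_mem hgH)
    have hyr := huk _ hyH (bttgrp12_UJ_le_U D _ hyUJ)
    rw [hrat] at hyr
    have hσx : h8Psi D φ x = x := by
      rw [hx, h8Psi_xU D hB hB, map_one]
    rw [map_mul, map_mul, map_inv, hσx] at hyr
    have e : c * x = x * c := by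
      rw [hc]
      have h1 : h8Psi D φ g * x = g * x * g⁻¹ * h8Psi D φ g := by
        rw [← hyr]
        group
      calc g⁻¹ * h8Psi D φ g * x = g⁻¹ * (h8Psi D φ g * x) := by group
        _ = g⁻¹ * (g * x * g⁻¹ * h8Psi D φ g) := by rw [h1]
        _ = x * (g⁻¹ * h8Psi D φ g) := by group
    have := congrArg (fun z : GL D.Idx K => (z : Matrix D.Idx D.Idx K)) e
    simpa only [Units.val_mul, hx, h8xU_val] using this
  have hcB : c ∈ D.borelSubgroup K := par_cent_le_B D hD j hj c hcG hcP hcomm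
  -- Lang for the Borel subgroup
  obtain ⟨L₀, hL₀, hpos⟩ := exists_height D hD
  have hdom : Dom D L₀ := by
    intro i hi
    have := hpos _ (h8simple_pos D hBN i hi)
    linarith
  have hz : zeroSet D L₀ = ∅ := by
    rw [Set.eq_empty_iff_forall_notMem]
    rintro i ⟨hi, h0⟩
    have := hpos _ (h8simple_pos D hBN i hi)
    rw [h0] at this
    linarith
  have hPB : D.parabolicSubgroup K (zeroSet D L₀) = D.borelSubgroup K := by
    unfold ChevalleyDatum.parabolicSubgroup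
    have : {z : GL D.Idx K | ∃ i ∈ zeroSet D L₀, i < D.rank ∧
        (z : Matrix D.Idx D.Idx K) = D.nMat K (D.simple i) 1} = ∅ := by
      rw [Set.eq_empty_iff_forall_notMem]
      rintro z ⟨i, hi, _⟩
      rw [hz] at hi
      exact hi
    rw [this, Subgroup.closure_empty, sup_bot_eq]
  have hy : g⁻¹ * h8Psi D φ g ∈ D.parabolicSubgroup K (zeroSet D L₀) := by
    rw [hPB]
    exact hcB
  obtain ⟨uP, huP, hfix, n₀, hn₀, hmg⟩ := btc_lang D 2 hD φ L₀ hL₀ hdom g hgG hy
  rw [hPB] at hmg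
  have hm : uP * n₀ ∈ Lq D K (2 ^ a) := btc_mem_Lq 2 D hD a uP huP hfix n₀ hn₀
  have hbH : (uP * n₀)⁻¹ * g ∈ H := H.mul_mem (H.inv_mem (hL hm)) hgH
  have hbr := hbk _ hbH hmg
  rw [← mem_ratS] at hbr ⊢
  have hmr := Lq_le_ratS 2 D a hm
  have e : g = (uP * n₀) * ((uP * n₀)⁻¹ * g) := by group
  rw [e]
  exact Subgroup.mul_mem _ hmr hbr

end main

end Cfsg.Agent.Lib.helper8.PAR
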