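import Mathlib
import Cfsg.Agent.Lib.Helper22.C3L.Defs
import Cfsg.Agent.Lib.helper8.C3S.Defs
import Cfsg.Agent.Lib.Helper22.C3LKER

set_option autoImplicit false
set_option linter.unusedVariables false
set_option linter.unusedSectionVars false

/-!
# Project C3S (S5664, leader helper8), row STEPAG : Step A for a general transitive group of `K`-linear maps.
-/

namespace Cfsg.Agent.Lib.helper8.C3S

open Module Cfsg.Agent.Lib.Helper22.C3L

variable {F K V : Type*} [Field F] [Field K] [Algebra F K] [AddCommGroup V] [Module F V] [Module K V]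
  [IsScalarTower F K V]

/-- STEPAG : Step A of C3L for a general subgroup `C` of `K`-linear maps which is transitive on the non-zero vectors. -/
theorem stepA_gen (hr : (finrank F K).Prime) (hm : 2 ≤ finrank K V) (C : Subgroup (V ≃ₗ[F] V))
    (hCK : ∀ g ∈ C, ∀ (a : K) (x : V), g (a • x) = a • g x)
    (hT : ∀ v w : V, v ≠ 0 → w ≠ 0 → ∃ g ∈ C, g v = w)
    (H : Subgroup (V ≃ₗ[F] V)) (hC : C ≤ H) (hN : NotNorm K H) : MovesOut K H := by
  classical
  -- the predicate `a ∈ E v`
  set P : V → K → Prop := fun v a => ∀ h ∈ H, ∃ b : K, h (a • v) = b • h v with hPdef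
  -- invariance under `C1`
  have hP_C1 : ∀ g ∈ C, ∀ (v : V) (a : K), P v a → P (g v) a := by
    intro g hg v a hva h hh
    have hgK := hCK g hg
    obtain ⟨b, hb⟩ := hva (h * g) (H.mul_mem hh (hC hg))
    refine ⟨b, ?_⟩
    rw [← hgK a v]
    simpa [LinearEquiv.mul_apply] using hb
  -- independence of the non-zero vector
  have hP_ind : ∀ v w : V, v ≠ 0 → w ≠ 0 → ∀ a : K, P v a → P w a := by
    intro v w hv hw a hva
    obtain ⟨g, hg, rfl⟩ := hT v w hv hw
    exact hP_C1 g hg v a hva
  -- a non-zero vector
  have : Nontrivial V := Module.nontrivial_of_finrank_pos (R := K) (by omega)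
  obtain ⟨v0, hv0⟩ := exists_ne (0 : V)
  -- the intermediate field `E`
  let E : Subalgebra F K :=
    { carrier := {a | P v0 a}
      mul_mem' := by
        intro a a' ha ha'
        show P v0 (a * a')
        by_cases h0 : a' • v0 = 0
        · intro h hh
          refine ⟨0, ?_⟩
          rw [mul_smul, h0, smul_zero, map_zero, zero_smul]
        · intro h hh
          obtain ⟨b', hb'⟩ := ha' h hh
          obtain ⟨b, hb⟩ := hP_ind v0 (a' • v0) hv0 h0 a ha h hh
          refine ⟨b * b', ?_⟩
          rw [mul_smul, hb, hb', mul_smul]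
      one_mem' := by
        show P v0 1
        intro h hh
        exact ⟨1, by rw [one_smul, one_smul]⟩
      add_mem' := by
        intro a a' ha ha'
        show P v0 (a + a')
        intro h hh
        obtain ⟨b, hb⟩ := ha h hh
        obtain ⟨b', hb'⟩ := ha' h hh
        refine ⟨b + b', ?_⟩
        rw [add_smul, map_add, hb, hb', add_smul]
      zero_mem' := by
        show P v0 0
        intro h hh
        exact ⟨0, by rw [zero_smul, map_zero, zero_smul]⟩
      algebraMap_mem' := by
        intro c
        show P v0 (algebraMap F K c)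
        intro h hh
        refine ⟨algebraMap F K c, ?_⟩
        rw [algebraMap_smul, algebraMap_smul, map_smul] }
  have hEmem : ∀ a : K, a ∈ E ↔ P v0 a := fun a => Iff.rfl
  have := Subalgebra.isSimpleOrder_of_finrank_prime F K hr
  rcases eq_bot_or_eq_top E with hE | hE
  · -- `E = F`
    intro v hv a ha
    have haE : ¬ P v a := by
      intro hva
      have h1 : a ∈ E := (hEmem a).mpr (hP_ind v v0 hv hv0 a hva)
      rw [hE, Algebra.mem_bot] at h1
      obtain ⟨c, hc⟩ := h1
      exact ha ⟨c, hc⟩
    rw [hPdef] at haE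
    push Not at haE
    obtain ⟨h, hh, hne⟩ := haE
    have hhv : h v ≠ 0 := fun h0 => hv (by simpa using h0)
    obtain ⟨g, hg, hgv⟩ := hT (h v) v hhv hv
    have hgK := hCK g hg
    refine ⟨g * h, H.mul_mem (hC hg) hh, ?_, ?_⟩
    · rw [LinearEquiv.mul_apply, hgv]
    · intro b hb
      apply hne b
      apply g.injective
      rw [hgK b (h v), hgv]
      simpa [LinearEquiv.mul_apply] using hb
  · -- `E = K` : impossible
    exfalso
    obtain ⟨h, hh, a, hbad⟩ := hN
    have hall : ∀ (v : V) (a : K), P v a := by
      intro v a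
      by_cases hv : v = 0
      · intro h' _
        refine ⟨0, ?_⟩
        rw [hv, smul_zero, map_zero, smul_zero]
      · apply hP_ind v0 v hv0 hv a
        rw [← hEmem, hE]
        exact Algebra.mem_top
    -- `T = h a h⁻¹`
    set T : V →ₗ[F] V := (h : V →ₗ[F] V) ∘ₗ kmul F K a ∘ₗ (h.symm : V →ₗ[F] V) with hTdef
    have hTx : ∀ y, ∃ b : K, T y = b • y := by
      intro y
      obtain ⟨b, hb⟩ := hall (h.symm y) a h hh
      refine ⟨b, ?_⟩
      rw [hTdef]
      simp only [LinearMap.comp_apply, LinearEquiv.coe_coe, kmul_apply]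
      rw [hb, LinearEquiv.apply_symm_apply]
    obtain ⟨b, hb⟩ := ker_lemma hm T hTx
    obtain ⟨x, hx⟩ := hbad b
    apply hx
    have := hb (h x)
    rw [hTdef] at this
    simp only [LinearMap.comp_apply, LinearEquiv.coe_coe, kmul_apply, LinearEquiv.symm_apply_apply] at this
    exact this

end Cfsg.Agent.Lib.helper8.C3S
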