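import Mathlib
import Cfsg.Agent.Lib.Helper13.OTS.Defs
import Cfsg.Agent.Lib.Helper21.OTSTYCLASS
import Cfsg.Agent.Lib.helper15.OTSQS2CTX
import Cfsg.Agent.Lib.helper17.OTSQOCTX
import Cfsg.Agent.Lib.Helper24.S5972SPLIT

set_option autoImplicit false

/-!
# Project OTS (designer helper13), row QS2TY (`qs2_ty`), CORE (helper8)

The statement of row FIXTY (`q_fix_ty`) for `(qs2Q y Q₀, qs2X κ y)` enters as the hypothesis `hfixty`; TYCLASS, QS2CTX, TYUNIQ, QOCTX and `o_split`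
are cited from main.
-/

namespace Cfsg.Agent.Lib.Helper13.OTS

open Polynomial Module Cfsg.Agent.Lib.Helper13.S5955 Cfsg.Agent.Lib.helper15.S5972

/-- `SCy` is a sign -/
theorem otsqs2ty_scy_sq (i g : ℕ) : SCy i g * SCy i g = 1 := by
  unfold SCy
  split_ifs <;> norm_num

theorem otsqs2ty_scy_pm (i g : ℕ) : SCy i g = 1 ∨ SCy i g = -1 := by
  unfold SCy
  split_ifs
  · exact Or.inl rfl
  · exact Or.inr rfl

/-- the fixed space of `qs2X κ y` for a fixed-point-free `y` carries `Q₀` -/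
theorem otsqs2ty_fix_type {F : Type*} [Field F] [Fintype F] {h : ℕ} {κ : Type}
    (y : Module.End F (Fin h ⊕ Fin h → F)) (hfix : fixS y = ⊥) (Q₀ : QuadraticForm F (κ → F))
    (k : ℕ) (s : ℤ) :
    Cfsg.Agent.Lib.Helper16.OSemi.IsType (fun w : ↥(fixS (qs2X κ y)) => qs2Q y Q₀ (w : _)) k s ↔
      Cfsg.Agent.Lib.Helper16.OSemi.IsType (⇑Q₀) k s := by
  have hfix' : ∀ v, y v = v → v = 0 := by
    intro v hv
    have : v ∈ fixS y := (s5972os2_mem_fixS y v).mpr hv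
    rw [hfix] at this
    exact (Submodule.mem_bot F).mp this
  have hmem : ∀ w : (Fin h ⊕ Fin h → F) × (κ → F), w ∈ fixS (qs2X κ y) ↔ w.1 = 0 := by
    intro w
    rw [s5972os2_mem_fixS, qs2X_apply]
    constructor
    · intro hw
      exact hfix' w.1 (congrArg Prod.fst hw)
    · intro hw
      ext : 1
      · show y w.1 = w.1
        rw [hw, map_zero]
      · rfl
  let e : ↥(fixS (qs2X κ y)) ≃ (κ → F) :=
    { toFun := fun w => (w : (Fin h ⊕ Fin h → F) × (κ → F)).2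
      invFun := fun v => ⟨(0, v), (hmem (0, v)).mpr rfl⟩
      left_inv := by
        intro w
        apply Subtype.ext
        have h1 := (hmem w.1).mp w.2
        ext : 1
        · exact h1.symm
        · rfl
      right_inv := fun v => rfl }
  refine Cfsg.Agent.Lib.Helper16.OSemi.isType_congr e (⇑Q₀) _ ?_ k s |>.symm
  intro w
  have h1 := (hmem w.1).mp w.2
  show Q₀ (w : (Fin h ⊕ Fin h → F) × (κ → F)).2 = qs2Q y Q₀ (w : _)
  rw [qs2Q_apply, h1, map_zero, LinearMap.zero_apply, zero_add]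

theorem otsqs2ty_core {F : Type*} [Field F] [Fintype F] {p : ℕ} [Fact p.Prime] [CharP F p] {h : ℕ}
    {κ : Type} [Fintype κ] [DecidableEq κ] (r : ℕ) [Fact r.Prime] (hrp : r ≠ p) (hr2 : r ≠ 2)
    (y : Module.End F (Fin h ⊕ Fin h → F)) (hy : SCtx r (stdB h F) y) (hfix : fixS y = ⊥)
    (Q₀ : QuadraticForm F (κ → F)) (hQ₀ : (QuadraticMap.polarBilin Q₀).Nondegenerate) (k₀ : ℕ)
    (hκ : Fintype.card κ = 2 * k₀) (s₀ : ℤ) (hs₀1 : s₀ = 1 ∨ s₀ = -1)
    (hs₀ : Cfsg.Agent.Lib.Helper16.OSemi.IsType (⇑Q₀) k₀ s₀) (i : ℕ)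
    (hi : i = orderOf ((Fintype.card F : ℕ) : ZMod r))
    (hfixty : QCtx r (qs2Q y Q₀) (qs2X κ y) → ∀ (d : ℕ) (ε : ℤ),
      finrank F ((Fin h ⊕ Fin h → F) × (κ → F)) = 2 * d → (ε = 1 ∨ ε = -1) →
      QTy (qs2Q y Q₀) ⊤ ε →
      Even (finrank F (fixS (qs2X κ y))) ∧ Even (finrank F (cycS r (qs2X κ y))) ∧
        QTy (qs2Q y Q₀) (cycS r (qs2X κ y)) (SCy i (finrank F (cycS r (qs2X κ y)))) ∧
        QTy (qs2Q y Q₀) (fixS (qs2X κ y)) (ε * SCy i (finrank F (cycS r (qs2X κ y))))) :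
    QTy (qs2Q y Q₀) ⊤ (s₀ * SCy i (2 * h)) := by
  have hrodd : Odd r := (Fact.out : r.Prime).odd_of_ne_two hr2
  have hr1 : 1 < r := (Fact.out : r.Prime).one_lt
  obtain ⟨hctx, hdimV, hdimfix, -⟩ := qs2_ctx r hrodd hr1 y hy hfix Q₀ hQ₀
  have hV : finrank F ((Fin h ⊕ Fin h → F) × (κ → F)) = 2 * (h + k₀) := by
    rw [hdimV, hκ]; ring
  obtain ⟨-, hcompl, -, -⟩ := o_split hrp (q_octx hctx)
  have hsum := Submodule.finrank_add_eq_of_isCompl hcompl
  have hcyc : finrank F (cycS r (qs2X κ y)) = 2 * h := by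
    rw [hdimfix, hdimV] at hsum
    omega
  have htopnd : SND (qB (qs2Q y Q₀)) (⊤ : Submodule F ((Fin h ⊕ Fin h → F) × (κ → F))) := by
    intro u _ hu
    exact hctx.nd u (fun v => hu v Submodule.mem_top)
  have htopev : Even (finrank F (⊤ : Submodule F ((Fin h ⊕ Fin h → F) × (κ → F)))) := by
    rw [finrank_top, hV]
    exact even_two_mul _
  -- the type `ε'` of the whole space
  have key : ∀ ε' : ℤ, (ε' = 1 ∨ ε' = -1) → QTy (qs2Q y Q₀) ⊤ ε' →
      QTy (qs2Q y Q₀) ⊤ (s₀ * SCy i (2 * h)) := by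
    intro ε' hε' hty
    obtain ⟨-, -, -, hfx⟩ := hfixty hctx (h + k₀) ε' hV hε' hty
    rw [hcyc] at hfx
    unfold QTy at hfx
    rw [hdimfix, hκ, Nat.mul_div_cancel_left k₀ (by norm_num : 0 < 2)] at hfx
    have hfx' := (otsqs2ty_fix_type y hfix Q₀ k₀ (ε' * SCy i (2 * h))).mp hfx
    -- uniqueness of the type of `Q₀`
    have heq : ε' * SCy i (2 * h) = s₀ := by
      have hpm : ε' * SCy i (2 * h) = 1 ∨ ε' * SCy i (2 * h) = -1 := by
        rcases hε' with h1 | h1 <;> rcases otsqs2ty_scy_pm i (2 * h) with h3 | h3 <;>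
          rw [h1, h3] <;> norm_num
      rcases hpm with h1 | h1 <;> rcases hs₀1 with h3 | h3
      · rw [h1, h3]
      · exfalso
        rw [h1] at hfx'
        rw [h3] at hs₀
        exact Cfsg.Agent.Lib.Helper16.OSemi.isType_unique _ _ hfx' hs₀
      · exfalso
        rw [h1] at hfx'
        rw [h3] at hs₀
        exact Cfsg.Agent.Lib.Helper16.OSemi.isType_unique _ _ hs₀ hfx'
      · rw [h1, h3]
    have : s₀ * SCy i (2 * h) = ε' := by
      rw [← heq, mul_assoc, otsqs2ty_scy_sq, mul_one]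
    rw [this]
    exact hty
  rcases q_ty_class (qs2Q y Q₀) ⊤ htopnd htopev with ⟨-, hty⟩ | ⟨-, hty, -⟩
  · exact key 1 (Or.inl rfl) hty
  · exact key (-1) (Or.inr rfl) hty

end Cfsg.Agent.Lib.Helper13.OTS
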