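import Mathlib
import Cfsg.Agent.Lib.Helper13.OTS.Defs
import Cfsg.Agent.Lib.helper8.OTSQS2TYcore
import Cfsg.Agent.Lib.Helper21.OTSFIXTY

set_option autoImplicit false

/-!
# Project OTS (designer helper13), row QS2TY (`qs2_ty`), verbatim wrapper (helper8):
`otsqs2ty_core` + helper21's FIXTY `q_fix_ty`.
-/

namespace Cfsg.Agent.Lib.Helper13.OTS

open Polynomial Module Cfsg.Agent.Lib.Helper13.S5955 Cfsg.Agent.Lib.helper15.S5972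

/-- QS2TY [M]: the type of `qs2Q y Q₀`. -/
theorem qs2_ty {F : Type*} [Field F] [Fintype F] {p : ℕ} [Fact p.Prime] [CharP F p] {h : ℕ}
    {κ : Type} [Fintype κ] [DecidableEq κ] (r : ℕ) [Fact r.Prime] (hrp : r ≠ p) (hr2 : r ≠ 2)
    (y : Module.End F (Fin h ⊕ Fin h → F)) (hy : SCtx r (stdB h F) y) (hfix : fixS y = ⊥)
    (Q₀ : QuadraticForm F (κ → F)) (hQ₀ : (QuadraticMap.polarBilin Q₀).Nondegenerate) (k₀ : ℕ)
    (hκ : Fintype.card κ = 2 * k₀) (s₀ : ℤ) (hs₀1 : s₀ = 1 ∨ s₀ = -1)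
    (hs₀ : Cfsg.Agent.Lib.Helper16.OSemi.IsType (⇑Q₀) k₀ s₀) (i : ℕ)
    (hi : i = orderOf ((Fintype.card F : ℕ) : ZMod r)) :
    QTy (qs2Q y Q₀) ⊤ (s₀ * SCy i (2 * h)) :=
  otsqs2ty_core r hrp hr2 y hy hfix Q₀ hQ₀ k₀ hκ s₀ hs₀1 hs₀ i hi
    (fun hctx d ε hV hε hty => q_fix_ty hrp hr2 hctx d hV ε hε hty i hi)

end Cfsg.Agent.Lib.Helper13.OTS
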