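import Mathlib
import Cfsg.Agent.Lib.Helper10.O4320.Defs
import Cfsg.Agent.Lib.Helper25.CharLinear
import Cfsg.Agent.Lib.helper23.BRSUMH
import Cfsg.Agent.Lib.helper4.BTCNT
import Cfsg.Agent.Lib.Helper10.BRINVOL

/-!
# Project O4320 (S0977), piece TVAL, core: `o4320tval_core`

The value of a character at an involution `t` inverting `P` (`|P| = p` odd), for a character with the constant integer value `v` on `P ∖ 1`;
the monotonicity of the multiplicity of the trivial character (piece MONO) is taken as a hypothesis here.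
-/

set_option autoImplicit false
set_option linter.unusedVariables false
set_option linter.unusedSectionVars false

namespace Cfsg.Agent.Lib.Helper10.O4320

open Classical
open scoped ComplexConjugate
open Cfsg.Agent.Lib.helper7.BR Cfsg.Agent.Lib.Helper25 Cfsg.Agent.Lib.Helper29

universe u

section generic

variable {G : Type u} [Group G] [Fintype G] {p : ℕ} [Fact p.Prime]

/-- the dihedral group `P ∪ P t` for an involution `t` inverting `P`. -/
def o4320tval_H (P : Subgroup G) (t : G) (ht2 : t * t = 1) (hinv : ∀ x ∈ P, t * x * t⁻¹ = x⁻¹) :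
    Subgroup G where
  carrier := {g | g ∈ P ∨ g * t ∈ P}
  one_mem' := Or.inl P.one_mem
  mul_mem' := by
    intro a b ha hb
    have htinv : t⁻¹ = t := inv_eq_of_mul_eq_one_right ht2
    rcases ha with ha | ha <;> rcases hb with hb | hb
    · exact Or.inl (P.mul_mem ha hb)
    · right
      have : a * b * t = a * (b * t) := by group
      rw [this]
      exact P.mul_mem ha hb
    · right
      have h1 : t * b * t⁻¹ ∈ P := by rw [hinv b hb]; exact P.inv_mem hb
      have : a * b * t = (a * t) * (t * b * t⁻¹) := by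
        rw [htinv]
        calc a * b * t = a * (t * t) * b * t := by rw [ht2, mul_one]
          _ = (a * t) * (t * b * t) := by group
      rw [this]
      exact P.mul_mem ha h1
    · left
      have h1 : t * (b * t) * t⁻¹ ∈ P := by rw [hinv _ hb]; exact P.inv_mem hb
      have : a * b = (a * t) * (t * (b * t) * t⁻¹) := by
        rw [htinv]
        calc a * b = a * (t * t) * b * (t * t) := by rw [ht2, mul_one, mul_one]
          _ = (a * t) * (t * (b * t) * t) := by group
      rw [this]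
      exact P.mul_mem ha h1
  inv_mem' := by
    intro a ha
    have htinv : t⁻¹ = t := inv_eq_of_mul_eq_one_right ht2
    rcases ha with ha | ha
    · exact Or.inl (P.inv_mem ha)
    · right
      have h1 : t * (a * t)⁻¹ * t⁻¹ ∈ P := by
        rw [hinv _ (P.inv_mem ha)]; exact P.inv_mem (P.inv_mem ha)
      have : a⁻¹ * t = t * (a * t)⁻¹ * t⁻¹ := by
        rw [htinv]
        calc a⁻¹ * t = (t * t) * a⁻¹ * t := by rw [ht2, one_mul]
          _ = t * (a * t)⁻¹ * t := by
            rw [mul_inv_rev, htinv]; group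
      rw [this]
      exact h1

theorem o4320tval_mem_H (P : Subgroup G) (t : G) (ht2 : t * t = 1) (hinv : ∀ x ∈ P, t * x * t⁻¹ = x⁻¹)
    (g : G) : g ∈ o4320tval_H P t ht2 hinv ↔ g ∈ P ∨ g * t ∈ P := Iff.rfl

/-- an involution does not lie in a group of odd prime order -/
theorem o4320tval_not_mem (hodd : p ≠ 2) (P : Sylow p G) (hP : Nat.card ↥(P : Subgroup G) = p)
    (t : G) (ht1 : t ≠ 1) (ht2 : t * t = 1) : t ∉ (P : Subgroup G) := by
  intro ht
  have hp : p.Prime := Fact.out
  have ho : orderOf t = 2 := orderOf_eq_prime (by rw [pow_two]; exact ht2) ht1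
  have h1 : orderOf t ∣ p := by
    have := Subgroup.orderOf_dvd_natCard (P : Subgroup G) ht
    rwa [hP] at this
  rw [ho] at h1
  exact hodd ((Nat.prime_dvd_prime_iff_eq Nat.prime_two hp).mp h1).symm

/-- the sum of a class function over the dihedral group `P ∪ P t`. -/
theorem o4320tval_sum (hodd : p ≠ 2) (P : Sylow p G) (hP : Nat.card ↥(P : Subgroup G) = p)
    (t : G) (ht1 : t ≠ 1) (ht2 : t * t = 1) (hinv : ∀ x ∈ (P : Subgroup G), t * x * t⁻¹ = x⁻¹)
    (χ : G → ℂ) (hcf : Cfsg.IsClassFunction G χ) :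
    ∑ x : ↥(o4320tval_H (P : Subgroup G) t ht2 hinv), χ (x : G) =
      ∑ x : ↥(P : Subgroup G), χ (x : G) + (p : ℂ) * χ t := by
  have htP := o4320tval_not_mem hodd P hP t ht1 ht2
  have htinv : t⁻¹ = t := inv_eq_of_mul_eq_one_right ht2
  set A : Finset G := Finset.univ.filter (fun g => g ∈ (P : Subgroup G)) with hA
  set B : Finset G := Finset.univ.filter (fun g => g * t ∈ (P : Subgroup G)) with hB
  have hH : ∑ x : ↥(o4320tval_H (P : Subgroup G) t ht2 hinv), χ (x : G) = ∑ g ∈ A ∪ B, χ g := by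
    symm
    apply Finset.sum_subtype
    intro g
    rw [Finset.mem_union, hA, hB, Finset.mem_filter, Finset.mem_filter]
    simp only [Finset.mem_univ, true_and]
    exact (o4320tval_mem_H (P : Subgroup G) t ht2 hinv g).symm
  have hPs : ∑ x : ↥(P : Subgroup G), χ (x : G) = ∑ g ∈ A, χ g := by
    symm
    apply Finset.sum_subtype
    intro g
    rw [hA, Finset.mem_filter]
    simp only [Finset.mem_univ, true_and]
  have hdisj : Disjoint A B := by
    rw [Finset.disjoint_left]
    intro g hgA hgB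
    rw [hA, Finset.mem_filter] at hgA
    rw [hB, Finset.mem_filter] at hgB
    apply htP
    have : t = g⁻¹ * (g * t) := by group
    rw [this]
    exact (P : Subgroup G).mul_mem ((P : Subgroup G).inv_mem hgA.2) hgB.2
  have hcardA : A.card = p := by
    rw [← hP, Nat.card_eq_fintype_card, Fintype.card_subtype]
  have hcardB : B.card = p := by
    rw [← hcardA]
    apply Finset.card_bij (fun g _ => g * t)
    · intro g hg
      rw [hB, Finset.mem_filter] at hg
      rw [hA, Finset.mem_filter]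
      exact ⟨Finset.mem_univ _, hg.2⟩
    · intro a _ b _ hab
      exact mul_right_cancel hab
    · intro b hb
      rw [hA, Finset.mem_filter] at hb
      refine ⟨b * t, ?_, ?_⟩
      · rw [hB, Finset.mem_filter]
        refine ⟨Finset.mem_univ _, ?_⟩
        rw [mul_assoc, ht2, mul_one]
        exact hb.2
      · rw [mul_assoc, ht2, mul_one]
  have hBs : ∑ g ∈ B, χ g = (p : ℂ) * χ t := by
    have hval : ∀ g ∈ B, χ g = χ t := by
      intro g hg
      rw [hB, Finset.mem_filter] at hg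
      have hc := Cfsg.Agent.Lib.Helper13.BT.btcnt_conj hodd P hP t ht2 hinv hg.2
      have hgt : g * t * t = g := by rw [mul_assoc, ht2, mul_one]
      rw [hgt] at hc
      obtain ⟨c, hc⟩ := hc
      have : g = (c : G) * t * (c : G)⁻¹ := by
        have := hc
        unfold SemiconjBy at this
        rw [eq_mul_inv_iff_mul_eq]
        exact this.symm
      rw [this]
      exact hcf t c
    rw [Finset.sum_congr rfl hval, Finset.sum_const, hcardB, nsmul_eq_mul]
  rw [hH, Finset.sum_union hdisj, hPs, hBs]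

/-- the order of the dihedral group `P ∪ P t`. -/
theorem o4320tval_card (hodd : p ≠ 2) (P : Sylow p G) (hP : Nat.card ↥(P : Subgroup G) = p)
    (t : G) (ht1 : t ≠ 1) (ht2 : t * t = 1) (hinv : ∀ x ∈ (P : Subgroup G), t * x * t⁻¹ = x⁻¹) :
    Nat.card ↥(o4320tval_H (P : Subgroup G) t ht2 hinv) = 2 * p := by
  have h := o4320tval_sum hodd P hP t ht1 ht2 hinv (fun _ => (1 : ℂ)) (fun _ _ => rfl)
  simp only [Finset.sum_const, Finset.card_univ, nsmul_eq_mul, mul_one] at h
  rw [← Nat.card_eq_fintype_card, ← Nat.card_eq_fintype_card, hP] at h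
  have h2 : ((Nat.card ↥(o4320tval_H (P : Subgroup G) t ht2 hinv) : ℕ) : ℂ) = ((2 * p : ℕ) : ℂ) := by
    rw [h]; push_cast; ring
  exact_mod_cast h2

/-- the sum of a function over `P` with the constant value `v` on `P ∖ 1`. -/
theorem o4320tval_sumP (P : Sylow p G) (hP : Nat.card ↥(P : Subgroup G) = p)
    (χ : G → ℂ) (d : ℕ) (hd : χ 1 = (d : ℂ)) (v : ℤ)
    (hv : ∀ x ∈ (P : Subgroup G), x ≠ 1 → χ x = (v : ℂ)) :
    ∑ x : ↥(P : Subgroup G), χ (x : G) = (d : ℂ) + ((p : ℂ) - 1) * (v : ℂ) := by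
  have hval : ∀ x : ↥(P : Subgroup G), x ≠ 1 → χ (x : G) = (v : ℂ) := by
    intro x hx
    exact hv x x.2 (fun h => hx (Subtype.ext h))
  rw [← Finset.add_sum_erase Finset.univ _ (Finset.mem_univ (1 : ↥(P : Subgroup G)))]
  rw [Finset.sum_congr rfl (fun x hx => hval x (Finset.ne_of_mem_erase hx))]
  rw [Finset.sum_const, Finset.card_erase_of_mem (Finset.mem_univ _), Finset.card_univ,
    nsmul_eq_mul, ← Nat.card_eq_fintype_card, hP]
  have hpos : 1 ≤ p := (Fact.out : p.Prime).one_lt.le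
  rw [Nat.cast_sub hpos]
  simp [hd]

/-- TVAL with the monotonicity (piece MONO) as a hypothesis. -/
theorem o4320tval_core (hodd : p ≠ 2) (P : Sylow p G) (hP : Nat.card ↥(P : Subgroup G) = p)
    (t : G) (ht1 : t ≠ 1) (ht2 : t * t = 1) (hinv : ∀ x ∈ (P : Subgroup G), t * x * t⁻¹ = x⁻¹)
    (χ : G → ℂ) (hχ : Cfsg.IsCharacter G χ) (d : ℕ) (hd : χ 1 = (d : ℂ)) (v : ℤ)
    (hv : ∀ x ∈ (P : Subgroup G), x ≠ 1 → χ x = (v : ℂ))
    (hmono : ∀ (K H : Subgroup G), K ≤ H → ∀ (mK mH : ℕ),
      ∑ x : ↥K, χ (x : G) = (Nat.card ↥K : ℂ) * (mK : ℂ) →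
      ∑ x : ↥H, χ (x : G) = (Nat.card ↥H : ℂ) * (mH : ℂ) → mH ≤ mK) :
    ∃ (k : ℤ) (m₀ m₁ : ℕ), χ t = (k : ℂ) ∧ (d : ℤ) + ((p : ℤ) - 1) * v + (p : ℤ) * k = 2 * (p : ℤ) * (m₀ : ℤ) ∧
      (d : ℤ) + ((p : ℤ) - 1) * v - (p : ℤ) * k = 2 * (p : ℤ) * (m₁ : ℤ) := by
  have hcf : Cfsg.IsClassFunction G χ := Cfsg.Agent.Lib.helper2.isCharacter_isClassFunction hχ
  obtain ⟨k, hk, _⟩ := char_involution_int χ hχ t (by rw [pow_two]; exact ht2) d hd
  obtain ⟨m, hm⟩ := sum_subgroup_nat (P : Subgroup G) χ hχ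
  obtain ⟨m₀, hm₀⟩ := sum_subgroup_nat (o4320tval_H (P : Subgroup G) t ht2 hinv) χ hχ
  have hle : (P : Subgroup G) ≤ o4320tval_H (P : Subgroup G) t ht2 hinv := fun g hg => Or.inl hg
  have hmm : m₀ ≤ m := hmono _ _ hle m m₀ hm hm₀
  have hm' := hm
  have hm₀' := hm₀
  rw [o4320tval_sumP P hP χ d hd v hv, hP] at hm'
  rw [o4320tval_sum hodd P hP t ht1 ht2 hinv χ hcf, o4320tval_sumP P hP χ d hd v hv,
    o4320tval_card hodd P hP t ht1 ht2 hinv, hk] at hm₀'
  have e1 : (d : ℤ) + ((p : ℤ) - 1) * v = (p : ℤ) * (m : ℤ) := by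
    have : (((d : ℤ) + ((p : ℤ) - 1) * v : ℤ) : ℂ) = (((p : ℤ) * (m : ℤ) : ℤ) : ℂ) := by
      push_cast; exact hm'
    exact_mod_cast this
  have e2 : (d : ℤ) + ((p : ℤ) - 1) * v + (p : ℤ) * k = 2 * (p : ℤ) * (m₀ : ℤ) := by
    have : (((d : ℤ) + ((p : ℤ) - 1) * v + (p : ℤ) * k : ℤ) : ℂ) = ((2 * (p : ℤ) * (m₀ : ℤ) : ℤ) : ℂ) := by
      push_cast; push_cast at hm₀'; exact hm₀'
    exact_mod_cast this
  refine ⟨k, m₀, m - m₀, hk, e2, ?_⟩
  rw [Nat.cast_sub hmm]
  linear_combination 2 * e1 - e2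

end generic

end Cfsg.Agent.Lib.Helper10.O4320
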