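import Mathlib
import Cfsg.Agent.Lib.Helper10.O4320.Defs
import Cfsg.Agent.Lib.Helper25.CharLinear
import Cfsg.Agent.Lib.helper8.O4320TVALCore
import Cfsg.Agent.Lib.helper3.O4320MONO

/-!
# Project O4320 (S0977), piece TVAL: `tval`

The value of a character at an involution `t` inverting `P` (`|P| = p` odd), for a character with the constant integer value `v` on `P ∖ 1`
(`o4320tval_core` of `O4320TVALCore` with the monotonicity `triv_mult_mono` of piece MONO).
-/

set_option autoImplicit false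
set_option linter.unusedVariables false
set_option linter.unusedSectionVars false

namespace Cfsg.Agent.Lib.Helper10.O4320

open Classical
open scoped ComplexConjugate
open Cfsg.Agent.Lib.helper7.BR Cfsg.Agent.Lib.Helper25 Cfsg.Agent.Lib.Helper29

universe u

section generic

variable {G : Type u} [Group G] [Fintype G] {p : ℕ} [Fact p.Prime]

/-- TVAL [M-L]: the value of a character at an involution `t` inverting `P` (`|P| = p` odd), for a character with the constant integer value `v` on `P ∖ 1`: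
`χ t = k ∈ ℤ`, `|k| ≤ (d + (p - 1) v)/p` and `k ≡ (d + (p - 1) v)/p (mod 2)`. -/
theorem tval (hodd : p ≠ 2) (P : Sylow p G) (hP : Nat.card ↥(P : Subgroup G) = p)
    (t : G) (ht1 : t ≠ 1) (ht2 : t * t = 1) (hinv : ∀ x ∈ (P : Subgroup G), t * x * t⁻¹ = x⁻¹)
    (χ : G → ℂ) (hχ : Cfsg.IsCharacter G χ) (d : ℕ) (hd : χ 1 = (d : ℂ)) (v : ℤ)
    (hv : ∀ x ∈ (P : Subgroup G), x ≠ 1 → χ x = (v : ℂ)) :
    ∃ (k : ℤ) (m₀ m₁ : ℕ), χ t = (k : ℂ) ∧ (d : ℤ) + ((p : ℤ) - 1) * v + (p : ℤ) * k = 2 * (p : ℤ) * (m₀ : ℤ) ∧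
      (d : ℤ) + ((p : ℤ) - 1) * v - (p : ℤ) * k = 2 * (p : ℤ) * (m₁ : ℤ) :=
  o4320tval_core hodd P hP t ht1 ht2 hinv χ hχ d hd v hv
    (fun K H hKH mK mH hK hH => triv_mult_mono K H hKH χ hχ mK mH hK hH)

end generic

end Cfsg.Agent.Lib.Helper10.O4320
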