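import Mathlib
import Cfsg.Agent.Lib.Helper10.O4320.Defs
import Cfsg.Agent.Lib.Helper25.CharLinear
import Cfsg.Agent.Lib.helper2.CharNat
import Cfsg.Agent.Lib.helper23.BRCLS
import Cfsg.Agent.Lib.Helper18.O4320FUSE
import Cfsg.Agent.Lib.helper3.O4320RAT

/-!
# Project O4320 / O5040, generic piece TOPP: the characters which do not vanish on `P ∖ 1`, `|P| = p`, `C_G(P) = P`, `|N_G(P) : C_G(P)| = p - 1`
(any prime `p`): integer values `v χ` on `P ∖ 1`, `∑ v² = p`, `∑ v χ(1) = 0`, `v ≡ χ(1) mod p`.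
(The generic-`p` version of `Helper25.O4320TOP5core`.)
-/

set_option autoImplicit false
set_option linter.unusedVariables false
set_option linter.unusedSectionVars false

namespace Cfsg.Agent.Lib.Helper10.O4320

open Classical
open scoped ComplexConjugate
open Cfsg.Agent.Lib.helper7.BR Cfsg.Agent.Lib.Helper25 Cfsg.Agent.Lib.Helper29

universe u

variable {G : Type u} [Group G] [Fintype G] {p : ℕ} [Fact p.Prime]

/-- TOPP, core (`FUSE` and `RAT` as hypotheses). -/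
theorem o4320topp_core (P : Sylow p G) (hP : Nat.card ↥(P : Subgroup G) = p)
    (hcen : cen P = (P : Subgroup G))
    (hF : ∀ x y : G, x ∈ (P : Subgroup G) → x ≠ 1 → y ∈ (P : Subgroup G) → y ≠ 1 → IsConj x y)
    (hR : ∀ (χ : G → ℂ), Cfsg.IsCharacter G χ → ∀ d : ℕ, χ 1 = (d : ℂ) → ∀ c : ℂ,
      (∀ x ∈ (P : Subgroup G), x ≠ 1 → χ x = c) → ∃ v : ℤ, c = (v : ℂ) ∧ (p : ℤ) ∣ (d : ℤ) - v) :
    ∃ (B : Finset (Cfsg.IrrCharacter G)) (v : Cfsg.IrrCharacter G → ℤ), trivIrr G ∈ B ∧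
      v (trivIrr G) = 1 ∧ ∑ χ ∈ B, (v χ) ^ 2 = (p : ℤ) ∧
      (∀ χ ∈ B, v χ ≠ 0 ∧ (p : ℤ) ∣ (leoDeg χ : ℤ) - v χ) ∧
      (∀ χ ∈ B, ∀ x ∈ (P : Subgroup G), x ≠ 1 → (χ : G → ℂ) x = (v χ : ℂ)) ∧
      (∀ χ : Cfsg.IrrCharacter G, χ ∉ B → ∀ x ∈ (P : Subgroup G), x ≠ 1 → (χ : G → ℂ) x = 0) ∧
      ∑ χ ∈ B, v χ * (leoDeg χ : ℤ) = 0 := by
  have : Fintype (Cfsg.IrrCharacter G) := Fintype.ofFinite _
  have hp : p.Prime := Fact.out
  -- a generator
  have hne : (P : Subgroup G) ≠ ⊥ := by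
    intro h
    rw [h, Subgroup.card_bot] at hP
    exact hp.one_lt.ne hP
  obtain ⟨⟨x0, hx0⟩, hx01'⟩ := (Subgroup.ne_bot_iff_exists_ne_one).mp hne
  have hx01 : x0 ≠ 1 := by
    intro h
    apply hx01'
    exact Subtype.ext h
  -- every irreducible character is constant on `P ∖ 1`
  have hconst : ∀ (χ : Cfsg.IrrCharacter G), ∀ x ∈ (P : Subgroup G), x ≠ 1 →
      (χ : G → ℂ) x = (χ : G → ℂ) x0 :=
    fun χ x hx hx1 => irr_isConj_eq χ (hF x x0 hx hx1 hx0 hx01)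
  have hex : ∀ χ : Cfsg.IrrCharacter G, ∃ v : ℤ, (χ : G → ℂ) x0 = (v : ℂ) ∧
      (p : ℤ) ∣ (leoDeg χ : ℤ) - v :=
    fun χ => hR (χ : G → ℂ) (Cfsg.Agent.Lib.helper2.isCharacter_of_irr χ) (leoDeg χ) (leoDeg_spec χ)
      ((χ : G → ℂ) x0) (hconst χ)
  choose v hv using hex
  have hvtriv : v (trivIrr G) = 1 := by
    have h := (hv (trivIrr G)).1
    rw [trivIrr_apply] at h
    have : ((v (trivIrr G) : ℤ) : ℂ) = ((1 : ℤ) : ℂ) := by rw [← h]; norm_num
    exact_mod_cast this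
  -- column orthogonality at `(x0, x0)`
  have hcentr : Nat.card ↥(Subgroup.centralizer ({x0} : Set G)) = p := by
    rw [centralizer_eq_cen P hP x0 hx0 hx01, hcen, hP]
  have hcol := irr_column_orthogonality (G := G) x0 x0
  rw [if_pos (IsConj.refl x0), hcentr] at hcol
  have hsq : ∑ χ : Cfsg.IrrCharacter G, (v χ) ^ 2 = (p : ℤ) := by
    have : ((∑ χ : Cfsg.IrrCharacter G, (v χ) ^ 2 : ℤ) : ℂ) = (((p : ℤ)) : ℂ) := by
      rw [Int.cast_sum]
      have h5 : (((p : ℤ)) : ℂ) = ((p : ℕ) : ℂ) := by norm_num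
      rw [h5, ← hcol]
      apply Finset.sum_congr rfl
      intro χ _
      rw [(hv χ).1, map_intCast]
      push_cast
      ring
    exact_mod_cast this
  -- column orthogonality at `(1, x0)`
  have hcol1 := irr_column_orthogonality (G := G) 1 x0
  have hnc : ¬ IsConj x0 (1 : G) := by
    intro h
    exact hx01 (isConj_one_left.mp h)
  rw [if_neg hnc] at hcol1
  have hvd : ∑ χ : Cfsg.IrrCharacter G, v χ * (leoDeg χ : ℤ) = 0 := by
    have : ((∑ χ : Cfsg.IrrCharacter G, v χ * (leoDeg χ : ℤ) : ℤ) : ℂ) = ((0 : ℤ) : ℂ) := by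
      rw [Int.cast_sum, Int.cast_zero, ← hcol1]
      apply Finset.sum_congr rfl
      intro χ _
      rw [(hv χ).1, map_intCast, leoDeg_spec]
      push_cast
      ring
    exact_mod_cast this
  -- the support
  set B : Finset (Cfsg.IrrCharacter G) := Finset.univ.filter (fun χ => v χ ≠ 0) with hB
  have hmemB : ∀ χ, χ ∈ B ↔ v χ ≠ 0 := by
    intro χ
    rw [hB, Finset.mem_filter]
    simp
  have htrivB : trivIrr G ∈ B := by
    rw [hmemB, hvtriv]; norm_num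
  have hsqB : ∑ χ ∈ B, (v χ) ^ 2 = (p : ℤ) := by
    rw [← hsq, hB]
    apply Finset.sum_filter_of_ne
    intro χ _ h h0
    apply h
    rw [h0]; ring
  have hvdB : ∑ χ ∈ B, v χ * (leoDeg χ : ℤ) = 0 := by
    rw [← hvd, hB]
    apply Finset.sum_filter_of_ne
    intro χ _ h h0
    apply h
    rw [h0]; ring
  refine ⟨B, v, htrivB, hvtriv, hsqB, ?_, ?_, ?_, hvdB⟩
  · intro χ hχ
    exact ⟨(hmemB χ).mp hχ, (hv χ).2⟩
  · intro χ _ x hx hx1
    rw [hconst χ x hx hx1, (hv χ).1]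
  · intro χ hχ x hx hx1
    have h0 : v χ = 0 := by
      by_contra h
      exact hχ ((hmemB χ).mpr h)
    rw [hconst χ x hx hx1, (hv χ).1, h0, Int.cast_zero]

/-- TOPP (generic `p`): the characters which do not vanish on `P ∖ 1` when `|P| = p`, `C_G(P) = P`, `|N_G(P) : C_G(P)| = p - 1`. -/
theorem o4320topp_generic (P : Sylow p G) (hP : Nat.card ↥(P : Subgroup G) = p)
    (hcen : cen P = (P : Subgroup G)) (hrel : (cen P).relIndex (nrm P) = p - 1) :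
    ∃ (B : Finset (Cfsg.IrrCharacter G)) (v : Cfsg.IrrCharacter G → ℤ), trivIrr G ∈ B ∧
      v (trivIrr G) = 1 ∧ ∑ χ ∈ B, (v χ) ^ 2 = (p : ℤ) ∧
      (∀ χ ∈ B, v χ ≠ 0 ∧ (p : ℤ) ∣ (leoDeg χ : ℤ) - v χ) ∧
      (∀ χ ∈ B, ∀ x ∈ (P : Subgroup G), x ≠ 1 → (χ : G → ℂ) x = (v χ : ℂ)) ∧
      (∀ χ : Cfsg.IrrCharacter G, χ ∉ B → ∀ x ∈ (P : Subgroup G), x ≠ 1 → (χ : G → ℂ) x = 0) ∧
      ∑ χ ∈ B, v χ * (leoDeg χ : ℤ) = 0 :=
  o4320topp_core P hP hcen (fun x y hx hx1 hy hy1 => fuse_top P hP hrel x y hx hx1 hy hy1)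
    (fun χ hχ d hd c hc => rat_vals P hP χ hχ d hd c hc)

/-- an integer with square one is `± 1`. -/
theorem o4320topp_pm_one (z : ℤ) (h : z ^ 2 = 1) : z = 1 ∨ z = -1 := by
  have : (z - 1) * (z + 1) = 0 := by nlinarith
  rcases mul_eq_zero.mp this with h | h
  · left; linarith
  · right; linarith

/-- the patterns of non-zero integers with `∑ v² = 7`: seven `± 1`, or one `± 2` and three `± 1`. -/
theorem o4320topp_seven_cases {ι : Type*} (B : Finset ι) (v : ι → ℤ) (h0 : ∀ χ ∈ B, v χ ≠ 0)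
    (hsq : ∑ χ ∈ B, (v χ) ^ 2 = 7) :
    (B.card = 7 ∧ ∀ χ ∈ B, v χ = 1 ∨ v χ = -1) ∨
      ∃ χ0 ∈ B, (v χ0 = 2 ∨ v χ0 = -2) ∧ (B.erase χ0).card = 3 ∧ ∀ χ ∈ B.erase χ0, v χ = 1 ∨ v χ = -1 := by
  have hge1 : ∀ χ ∈ B, 1 ≤ (v χ) ^ 2 := by
    intro χ hχ
    have h := h0 χ hχ
    have : 0 < (v χ) ^ 2 := by positivity
    linarith
  by_cases hall : ∀ χ ∈ B, (v χ) ^ 2 = 1
  · left
    constructor
    · have h1 : ∑ χ ∈ B, (v χ) ^ 2 = ∑ χ ∈ B, (1 : ℤ) := Finset.sum_congr rfl hall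
      rw [hsq, Finset.sum_const, nsmul_eq_mul, mul_one] at h1
      exact_mod_cast h1.symm
    · intro χ hχ
      exact o4320topp_pm_one _ (hall χ hχ)
  · right
    simp only [not_forall] at hall
    obtain ⟨χ0, hχ0, hne1⟩ := hall
    have h4 : 4 ≤ (v χ0) ^ 2 := by
      have hz := h0 χ0 hχ0
      have h2 : 2 ≤ v χ0 ∨ v χ0 ≤ -2 := by
        by_contra hcon
        rw [not_or, not_le, not_le] at hcon
        obtain ⟨ha, hb⟩ := hcon
        have : v χ0 = -1 ∨ v χ0 = 0 ∨ v χ0 = 1 := by omega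
        rcases this with h | h | h
        · exact hne1 (by rw [h]; norm_num)
        · exact hz h
        · exact hne1 (by rw [h]; norm_num)
      rcases h2 with h | h <;> nlinarith
    have hsplit : (v χ0) ^ 2 + ∑ χ ∈ B.erase χ0, (v χ) ^ 2 = 7 := by
      rw [Finset.add_sum_erase B (fun χ => (v χ) ^ 2) hχ0]
      exact hsq
    have hnn : ∀ χ ∈ B.erase χ0, 0 ≤ (v χ) ^ 2 := fun χ _ => by positivity
    have hrest0 : 0 ≤ ∑ χ ∈ B.erase χ0, (v χ) ^ 2 := Finset.sum_nonneg hnn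
    have hle7 : (v χ0) ^ 2 ≤ 7 := by linarith
    have hv2 : v χ0 = 2 ∨ v χ0 = -2 := by
      have hlt : v χ0 < 3 := by nlinarith
      have hgt : -3 < v χ0 := by nlinarith
      have h2 : 2 ≤ v χ0 ∨ v χ0 ≤ -2 := by
        by_contra hcon
        rw [not_or, not_le, not_le] at hcon
        nlinarith
      omega
    have hv4 : (v χ0) ^ 2 = 4 := by
      rcases hv2 with h | h <;> rw [h] <;> norm_num
    have hrest : ∑ χ ∈ B.erase χ0, (v χ) ^ 2 = 3 := by linarith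
    have hall1 : ∀ χ ∈ B.erase χ0, (v χ) ^ 2 = 1 := by
      intro χ hχ
      by_contra hne
      have hχB : χ ∈ B := (Finset.mem_erase.mp hχ).2
      have hz := h0 χ hχB
      have h4' : 4 ≤ (v χ) ^ 2 := by
        have h2 : 2 ≤ v χ ∨ v χ ≤ -2 := by
          by_contra hcon
          rw [not_or, not_le, not_le] at hcon
          obtain ⟨ha, hb⟩ := hcon
          have : v χ = -1 ∨ v χ = 0 ∨ v χ = 1 := by omega
          rcases this with h | h | h
          · exact hne (by rw [h]; norm_num)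
          · exact hz h
          · exact hne (by rw [h]; norm_num)
        rcases h2 with h | h <;> nlinarith
      have hle : (v χ) ^ 2 ≤ ∑ ψ ∈ B.erase χ0, (v ψ) ^ 2 := Finset.single_le_sum hnn hχ
      linarith
    refine ⟨χ0, hχ0, hv2, ?_, ?_⟩
    · have h1 : ∑ χ ∈ B.erase χ0, (v χ) ^ 2 = ∑ χ ∈ B.erase χ0, (1 : ℤ) := Finset.sum_congr rfl hall1
      rw [hrest, Finset.sum_const, nsmul_eq_mul, mul_one] at h1
      exact_mod_cast h1.symm
    · intro χ hχ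
      exact o4320topp_pm_one _ (hall1 χ hχ)

end Cfsg.Agent.Lib.Helper10.O4320
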