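import Mathlib
import Cfsg.Prelude.Def_Characters
import Cfsg.Prelude.Def_Blocks
import Cfsg.Agent.Lib.Helper25.CharLinear
import Cfsg.Agent.Lib.Helper29.LeoOrbit
import Cfsg.Agent.Lib.helper7.BR.Defs
import Cfsg.Agent.Lib.Helper13.BT.Defs
import Cfsg.Agent.Lib.helper23.BRCONG
import Cfsg.Agent.Lib.helper23.BRPERF
import Cfsg.Agent.Lib.helper2.CharInt
import Cfsg.Agent.Lib.helper2.CharNat

/-!
# Project BT (S0997 / S0998), piece XDEG : the degrees of the members of `X`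
-/

set_option autoImplicit false
set_option linter.unusedVariables false
set_option linter.unusedSectionVars false

namespace Cfsg.Agent.Lib.Helper13.BT

open Classical
open scoped ComplexConjugate
open Cfsg.Agent.Lib.Helper25 Cfsg.Agent.Lib.Helper29
open Cfsg.Agent.Lib.helper7.BR

universe u

variable {G : Type u} [Group G] [Fintype G] {p : ℕ} [Fact p.Prime]

/-- a non-trivial element of a subgroup of order `p` has order `p` -/
theorem btxdeg_orderOf (P : Sylow p G) (hP : Nat.card ↥(P : Subgroup G) = p) (x : G)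
    (hx : x ∈ (P : Subgroup G)) (hx1 : x ≠ 1) : orderOf x = p := by
  have h0 : orderOf (⟨x, hx⟩ : ↥(P : Subgroup G)) ∣ Nat.card ↥(P : Subgroup G) :=
    orderOf_dvd_natCard (⟨x, hx⟩ : ↥(P : Subgroup G))
  have h1 : orderOf (⟨x, hx⟩ : ↥(P : Subgroup G)) ∣ p := by
    obtain ⟨k, hk⟩ := h0
    exact ⟨k, hP.symm.trans hk⟩
  have h2 : orderOf (⟨x, hx⟩ : ↥(P : Subgroup G)) = orderOf x := Subgroup.orderOf_mk x hx
  rw [h2] at h1
  rcases (Nat.dvd_prime (Fact.out : p.Prime)).mp h1 with h | h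
  · exact absurd (orderOf_eq_one_iff.mp h) hx1
  · exact h

/-- a subgroup of order `p` has a non-trivial element -/
theorem btxdeg_exists (P : Sylow p G) (hP : Nat.card ↥(P : Subgroup G) = p) :
    ∃ x : G, x ∈ (P : Subgroup G) ∧ x ≠ 1 := by
  have hp : p.Prime := Fact.out
  by_contra hcon
  have hbot : (P : Subgroup G) = ⊥ := by
    rw [Subgroup.eq_bot_iff_forall]
    intro x hx
    by_contra hx1
    exact hcon ⟨x, hx, hx1⟩
  rw [hbot, Subgroup.card_bot] at hP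
  exact hp.one_lt.ne hP

/-- XDEG : the degrees of the members of `X` (`deg_congr_of_const`, `deg_ge_two`, `irr_degree_dvd_card`) -/
theorem X_degrees (hperf : commutator G = ⊤) {P : Sylow p G} (hP : Nat.card ↥(P : Subgroup G) = p)
    {e : ℕ} {X Y : Finset (Cfsg.IrrCharacter G)} {a : Cfsg.IrrCharacter G → ℤ} {ε : ℤ}
    (hB : PB3 p e P X Y a ε) :
    leoDeg (trivIrr G) = 1 ∧ a (trivIrr G) = 1 ∧ (∀ ξ ∈ X, ξ ≠ trivIrr G → 2 ≤ leoDeg ξ) ∧
      (∀ ξ ∈ X, (p : ℤ) ∣ (leoDeg ξ : ℤ) - a ξ) ∧ (∀ ξ : Cfsg.IrrCharacter G, leoDeg ξ ∣ Nat.card G) := by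
  refine ⟨?_, ?_, ?_, ?_, ?_⟩
  · have h1 := leoDeg_spec (trivIrr G)
    rw [trivIrr_apply] at h1
    exact_mod_cast h1.symm
  · obtain ⟨x, hx, hx1⟩ := btxdeg_exists P hP
    have h1 := hB.valX (trivIrr G) hB.triv_mem x
      (by rw [btxdeg_orderOf P hP x hx hx1])
    rw [trivIrr_apply] at h1
    exact_mod_cast h1.symm
  · intro ξ hξ hne
    obtain ⟨d, hd2, hd⟩ := deg_ge_two hperf ξ hne
    have h1 := leoDeg_spec ξ
    rw [hd] at h1
    have h2 : d = leoDeg ξ := by exact_mod_cast h1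
    omega
  · intro ξ hξ
    refine deg_congr_of_const P hP (ξ : G → ℂ) (Cfsg.Agent.Lib.helper2.isCharacter_of_irr ξ) (a ξ)
      ?_ (leoDeg ξ) (leoDeg_spec ξ)
    intro x hx hx1
    exact hB.valX ξ hξ x (by rw [btxdeg_orderOf P hP x hx hx1])
  · intro ξ
    obtain ⟨n, hn0, hn1, hn2⟩ := Cfsg.Agent.Lib.helper2.irr_degree_dvd_card ξ
    have h1 := leoDeg_spec ξ
    rw [hn1] at h1
    have h2 : n = leoDeg ξ := by exact_mod_cast h1
    rw [← h2]
    exact hn2

end Cfsg.Agent.Lib.Helper13.BT
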