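import Mathlib
import Cfsg.Prelude.Def_Characters
import Cfsg.Prelude.Def_Blocks
import Cfsg.Agent.Lib.Helper25.CharLinear
import Cfsg.Agent.Lib.Helper29.LeoOrbit
import Cfsg.Agent.Lib.helper7.BR.Defs
import Cfsg.Agent.Lib.Helper13.BT.Defs
import Cfsg.Agent.Lib.helper23.BRCONG
import Cfsg.Agent.Lib.helper2.CharNat

/-!
# Project BT (S0997 / S0998), piece YDEG : the common degree of the members of `Y`
-/

set_option autoImplicit false
set_option linter.unusedVariables false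
set_option linter.unusedSectionVars false

namespace Cfsg.Agent.Lib.Helper13.BT

open Classical
open scoped ComplexConjugate
open Cfsg.Agent.Lib.Helper25 Cfsg.Agent.Lib.Helper29
open Cfsg.Agent.Lib.helper7.BR

universe u

variable {G : Type u} [Group G] [Fintype G] {p : ℕ} [Fact p.Prime]

/-- YDEG : the members of `Y` have the same degree `z ≡ ε e (mod p)`, and the relation at `1` -/
theorem Y_degrees {P : Sylow p G} (hP : Nat.card ↥(P : Subgroup G) = p)
    {e : ℕ} {X Y : Finset (Cfsg.IrrCharacter G)} {a : Cfsg.IrrCharacter G → ℤ} {ε : ℤ}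
    (hB : PB3 p e P X Y a ε) :
    ∃ z : ℕ, 1 ≤ z ∧ (∀ η ∈ Y, leoDeg η = z) ∧ (p : ℤ) ∣ (z : ℤ) - ε * (e : ℤ) ∧
      ∑ ξ ∈ X, a ξ * (leoDeg ξ : ℤ) = ε * (z : ℤ) := by
  have hp : p.Prime := Fact.out
  have hYne : Y.Nonempty := by
    rw [Finset.nonempty_iff_ne_empty]
    intro h0
    have h1 := hB.cardY
    rw [h0, Finset.card_empty, zero_mul] at h1
    have := hp.two_le
    omega
  obtain ⟨η₀, hη₀⟩ := hYne
  have hreg1 : ¬ p ∣ orderOf (1 : G) := by
    rw [orderOf_one]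
    exact hp.not_dvd_one
  refine ⟨leoDeg η₀, leoDeg_pos η₀, ?_, ?_, ?_⟩
  · intro η hη
    have h1 := hB.agree η hη η₀ hη₀ 1 hreg1
    rw [leoDeg_spec, leoDeg_spec] at h1
    exact_mod_cast h1
  · exact deg_congr_of_sum P hP (η₀ : G → ℂ) (Cfsg.Agent.Lib.helper2.isCharacter_of_irr η₀) ε e
      (leoDeg η₀) (leoDeg_spec η₀) (hB.sumP η₀ hη₀)
  · have h1 := hB.rel η₀ hη₀ 1 hreg1
    rw [leoDeg_spec] at h1
    have h2 : ((∑ ξ ∈ X, a ξ * (leoDeg ξ : ℤ) : ℤ) : ℂ) = ((ε * (leoDeg η₀ : ℤ) : ℤ) : ℂ) := by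
      push_cast
      rw [h1]
      refine Finset.sum_congr rfl (fun ξ _ => ?_)
      rw [leoDeg_spec]
    exact_mod_cast h2

end Cfsg.Agent.Lib.Helper13.BT
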