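import Mathlib
import Cfsg.Agent.Lib.Helper18.SDM.Defs
import Cfsg.Agent.Lib.Helper18.SDM.Defs2

/-!
# Project SDM (designer helper18), row B2 (writer helper8): the permutation of a monomial element.
`mono_perm`, `isPermOf_coeff_ne_zero`, `isPermOf_unique`, `isPermOf_one`, `isPermOf_mul`, `isPermOf_inv`,
`isPermOf_permG`, `mem_NQ_iff`, `mono_wv`, verbatim against `Helper18/SDM/Skel.lean.txt`.
-/

set_option autoImplicit false
set_option linter.unusedSectionVars false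
set_option linter.unusedVariables false

namespace Cfsg.Agent.Lib.Helper18.QBN

open Cfsg.Agent.Lib.helper14.UBN QuadraticMap

universe u v

variable {F : Type u} [Field F] {W : Type v} [AddCommGroup W] [Module F W] {n : ℕ}

theorem sdmb2_xv_ne_zero (j : Fin n) : (xv W j : QV F n W) ≠ 0 := by
  intro h
  have h1 : (xv W j : QV F n W).1 j = (0 : QV F n W).1 j := by rw [h]
  rw [xv_fst, if_pos rfl] at h1
  exact one_ne_zero h1

theorem sdmb2_smul_xv_inj {c c' : F} {i i' : Fin n} (hc : c ≠ 0)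
    (h : c • (xv W i : QV F n W) = c' • xv W i') : i = i' := by
  by_contra hne
  have h1 : (c • (xv W i : QV F n W)).1 i = (c' • (xv W i' : QV F n W)).1 i := by rw [h]
  rw [Prod.smul_fst, Prod.smul_fst, Pi.smul_apply, Pi.smul_apply, xv_fst, xv_fst, if_pos rfl,
    if_neg hne, smul_zero, smul_eq_mul, mul_one] at h1
  exact hc h1

theorem sdmb2_le_eq_zero {Q₀ : QuadraticForm F W} (g : GQ n Q₀) {v : QV F n W} (h : le g v = 0) :
    v = 0 := by
  apply (le g).injective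
  rw [h, map_zero]

/-- [ROW B2] -/
theorem isPermOf_coeff_ne_zero {Q₀ : QuadraticForm F W} {g : GQ n Q₀} {π : Equiv.Perm (Fin n)}
    (h : IsPermOf g π) (j : Fin n) : ∃ c : F, c ≠ 0 ∧ le g (xv W j) = c • xv W (π j) := by
  obtain ⟨c, hc⟩ := h j
  refine ⟨c, ?_, hc⟩
  intro h0
  rw [h0, zero_smul] at hc
  exact sdmb2_xv_ne_zero j (sdmb2_le_eq_zero g hc)

/-- [ROW B2] -/
theorem mono_perm (hn : Even n) {Q₀ : QuadraticForm F W} (g : GQ n Q₀) (h : IsMonoQ g) :
    ∃ π : Equiv.Perm (Fin n), RvC π ∧ IsPermOf g π := by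
  choose σ c hσ using h
  have hc : ∀ j, c j ≠ 0 := by
    intro j h0
    have h1 := hσ j
    rw [h0, zero_smul] at h1
    exact sdmb2_xv_ne_zero j (sdmb2_le_eq_zero g h1)
  have hinj : Function.Injective σ := by
    intro j j' hjj
    by_contra hne
    have h1 : le g (c j' • xv W j - c j • xv W j') = 0 := by
      rw [map_sub, map_smul, map_smul, hσ j, hσ j', hjj, smul_smul, smul_smul, mul_comm, sub_self]
    have h2 := sdmb2_le_eq_zero g h1
    have h3 : (c j' • (xv W j : QV F n W) - c j • xv W j').1 j = (0 : QV F n W).1 j := by rw [h2]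
    rw [Prod.fst_sub, Pi.sub_apply, Prod.smul_fst, Prod.smul_fst, Pi.smul_apply, Pi.smul_apply,
      xv_fst, xv_fst, if_pos rfl, if_neg hne, smul_zero, sub_zero, smul_eq_mul, mul_one] at h3
    exact hc j' h3
  have hbij : Function.Bijective σ := Finite.injective_iff_bijective.mp hinj
  refine ⟨Equiv.ofBijective σ hbij, ?_, fun j => ⟨c j, hσ j⟩⟩
  intro j
  show σ (rv j) = rv (σ j)
  have h1 : polar (frQ n Q₀) (le g (xv W j)) (le g (xv W (rv j))) = 1 := by
    rw [le_polar, polar_xv hn, rv_rv, xv_fst, if_pos rfl]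
  rw [hσ j, hσ (rv j), polar_smul_left, polar_smul_right, polar_xv hn, xv_fst] at h1
  by_contra hne
  have hne' : ¬ rv (σ (rv j)) = σ j := by
    intro e
    apply hne
    rw [← e, rv_rv]
  rw [if_neg hne', smul_zero, smul_zero] at h1
  exact zero_ne_one h1

/-- [ROW B2] -/
theorem isPermOf_unique {Q₀ : QuadraticForm F W} {g : GQ n Q₀} {π ρ : Equiv.Perm (Fin n)}
    (h : IsPermOf g π) (h' : IsPermOf g ρ) : π = ρ := by
  apply Equiv.ext
  intro j
  obtain ⟨c, hc, e⟩ := isPermOf_coeff_ne_zero h j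
  obtain ⟨c', e'⟩ := h' j
  rw [e] at e'
  exact sdmb2_smul_xv_inj hc e'

/-- [ROW B2] -/
theorem isPermOf_one {Q₀ : QuadraticForm F W} : IsPermOf (1 : GQ n Q₀) 1 := by
  intro j
  refine ⟨1, ?_⟩
  rw [le_one, one_smul]
  rfl

/-- [ROW B2] -/
theorem isPermOf_mul {Q₀ : QuadraticForm F W} {g h : GQ n Q₀} {π ρ : Equiv.Perm (Fin n)}
    (hg : IsPermOf g π) (hh : IsPermOf h ρ) : IsPermOf (g * h) (π * ρ) := by
  intro j
  obtain ⟨c, hc⟩ := hh j
  obtain ⟨c', hc'⟩ := hg (ρ j)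
  refine ⟨c * c', ?_⟩
  rw [le_mul, hc, map_smul, hc', smul_smul]
  rfl

/-- [ROW B2] -/
theorem isPermOf_inv {Q₀ : QuadraticForm F W} {g : GQ n Q₀} {π : Equiv.Perm (Fin n)}
    (hg : IsPermOf g π) : IsPermOf g⁻¹ π⁻¹ := by
  intro j
  obtain ⟨c, hc, e⟩ := isPermOf_coeff_ne_zero hg (π⁻¹ j)
  have e2 : π (π⁻¹ j) = j := Equiv.apply_symm_apply π j
  rw [e2] at e
  refine ⟨c⁻¹, ?_⟩
  have e3 : (xv W j : QV F n W) = le g (c⁻¹ • xv W (π⁻¹ j)) := by
    rw [map_smul, e, smul_smul, inv_mul_cancel₀ hc, one_smul]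
  rw [e3, le_inv_apply']

/-- [ROW B2] -/
theorem isPermOf_permG (hn : Even n) (Q₀ : QuadraticForm F W) (π : Equiv.Perm (Fin n)) (hπ : RvC π) :
    IsPermOf (permG hn Q₀ π hπ) π := by
  intro j
  refine ⟨1, ?_⟩
  rw [permG_xv, one_smul]

/-- [ROW B2] -/
theorem mem_NQ_iff (hn : Even n) {Q₀ : QuadraticForm F W} (g : GQ n Q₀) :
    g ∈ NQ n Q₀ ↔ ∃ π : Equiv.Perm (Fin n), RvC π ∧ IsPermOf g π := by
  constructor
  · intro hg
    exact mono_perm hn g hg.1
  · rintro ⟨π, _, hπ⟩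
    refine ⟨fun j => ?_, fun j => ?_⟩
    · obtain ⟨c, hc⟩ := hπ j
      exact ⟨π j, c, hc⟩
    · obtain ⟨c, hc⟩ := isPermOf_inv hπ j
      exact ⟨π⁻¹ j, c, hc⟩

/-- [ROW B2] the monomial group stabilises `W = (frame)^⊥` -/
theorem mono_wv (hn : Even n) {Q₀ : QuadraticForm F W} (g : GQ n Q₀) (hg : g ∈ NQ n Q₀) (w : W) :
    ∃ w' : W, le g (wv F n w) = wv F n w' := by
  refine ⟨(le g (wv F n w)).2, ?_⟩
  apply Prod.ext
  · funext i
    rw [wv_fst]
    obtain ⟨j, c, hc⟩ := hg.2 (rv i)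
    have e1 : (xv W (rv i) : QV F n W) = le g (c • xv W j) := by
      rw [← hc, le_inv_apply]
    have e2 := polar_xv hn Q₀ (le g (wv F n w)) (rv i)
    rw [rv_rv] at e2
    rw [← e2, e1, le_polar, polar_smul_right, polar_xv hn, wv_fst, smul_zero]
  · rfl

end Cfsg.Agent.Lib.Helper18.QBN
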