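import Mathlib
import Cfsg.Prelude.Def_ChevStructure
import Cfsg.Prelude.Def_ChevG2
import Cfsg.Prelude.Def_LieTwisted
import Cfsg.Agent.Lib.helper8.ChevRee7
import Cfsg.Agent.Lib.helper8.ChevOrd4

set_option autoImplicit false

namespace Cfsg.Agent.Lib.helper8

open Cfsg.Lie Cfsg.Lie.ChevalleyDatum

universe u

variable {K : Type u} [Field K] {hB : H8Base.{u} chevG2}

theorem h8mul4_comm {G : Type*} [Group G] (a b c d a' b' c' d' : G) (h1 : Commute b a')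
    (h2 : Commute c a') (h3 : Commute d a') (h4 : Commute c b') (h5 : Commute d b')
    (h6 : Commute d c') :
    (a * b * c * d) * (a' * b' * c' * d') = (a * a') * (b * b') * (c * c') * (d * d') := by
  rw [Commute.mul_mul_mul_comm ((h3.mul_right h5).mul_right h6) (a * b * c) d',
    Commute.mul_mul_mul_comm (h2.mul_right h4) (a * b) c',
    Commute.mul_mul_mul_comm h1 a b']

/-- the abelian part of `U` -/
def h8reeQ4 (hB : H8Base.{u} chevG2) (c8 c9 c10 c11 : K) : GL chevG2.Idx K :=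
  h8xU chevG2 hB 8 c8 * h8xU chevG2 hB 9 c9 * h8xU chevG2 hB 10 c10 * h8xU chevG2 hB 11 c11

theorem h8reeQ4_zero : h8reeQ4 hB (0 : K) 0 0 0 = 1 := by
  unfold h8reeQ4
  simp [h8xU_zero']

theorem h8reeQ4_mem_group (c8 c9 c10 c11 : K) : h8reeQ4 hB c8 c9 c10 c11 ∈ chevG2.group K := by
  unfold h8reeQ4
  exact Subgroup.mul_mem _ (Subgroup.mul_mem _ (Subgroup.mul_mem _
    (h8xU_mem_group chevG2 hB _ _) (h8xU_mem_group chevG2 hB _ _))
    (h8xU_mem_group chevG2 hB _ _)) (h8xU_mem_group chevG2 hB _ _)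

section
variable [CharP K 3] (hC : H8CommAll.{u} chevG2)

include hC in
theorem h8reeQ4_mul (c8 c9 c10 c11 d8 d9 d10 d11 : K) :
    h8reeQ4 hB c8 c9 c10 c11 * h8reeQ4 hB d8 d9 d10 d11 =
      h8reeQ4 hB (c8 + d8) (c9 + d9) (c10 + d10) (c11 + d11) := by
  unfold h8reeQ4
  rw [h8mul4_comm _ _ _ _ _ _ _ _ (h8ree_comm_pos hB hC _ _ (by decide) (by decide) _ _)
    (h8ree_comm_pos hB hC _ _ (by decide) (by decide) _ _)
    (h8ree_comm_pos hB hC _ _ (by decide) (by decide) _ _)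
    (h8ree_comm_pos hB hC _ _ (by decide) (by decide) _ _)
    (h8ree_comm_pos hB hC _ _ (by decide) (by decide) _ _)
    (h8ree_comm_pos hB hC _ _ (by decide) (by decide) _ _),
    h8xU_add chevG2 hB 8 (by decide), h8xU_add chevG2 hB 9 (by decide),
    h8xU_add chevG2 hB 10 (by decide), h8xU_add chevG2 hB 11 (by decide)]

include hC in
theorem h8reeQ4_inv (c8 c9 c10 c11 : K) :
    (h8reeQ4 hB c8 c9 c10 c11)⁻¹ = h8reeQ4 hB (-c8) (-c9) (-c10) (-c11) := by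
  rw [inv_eq_iff_mul_eq_one, h8reeQ4_mul hC]
  simp only [add_neg_cancel]
  exact h8reeQ4_zero

include hC in
/-- the two simple root subgroups commute up to the abelian part -/
theorem h8ree_swap (a b : K) :
    h8xU chevG2 hB 7 a * h8xU chevG2 hB 6 b =
      h8xU chevG2 hB 6 b * h8xU chevG2 hB 7 a *
        h8reeQ4 hB (-(a * b)) (-(a ^ 2 * b)) (b * a ^ 3) (b ^ 2 * a ^ 3) := by
  by_cases ha : a = 0
  · subst ha
    simp [h8xU_zero', h8reeQ4_zero]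
  by_cases hb : b = 0
  · subst hb
    simp [h8xU_zero', h8reeQ4_zero]
  have h := h8ree_I1 hB a b ha hb
  have e1 : h8xU chevG2 hB 6 b * h8xU chevG2 hB 7 a * h8xU chevG2 hB 10 (b * a ^ 3) *
      h8xU chevG2 hB 11 (b ^ 2 * a ^ 3) =
      h8xU chevG2 hB 6 b * h8xU chevG2 hB 7 a * h8reeQ4 hB 0 0 (b * a ^ 3) (b ^ 2 * a ^ 3) := by
    unfold h8reeQ4
    simp only [h8xU_zero', one_mul]
    group
  have e2 : h8xU chevG2 hB 7 a * h8xU chevG2 hB 6 b * h8xU chevG2 hB 8 (a * b) *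
      h8xU chevG2 hB 9 (a ^ 2 * b) =
      h8xU chevG2 hB 7 a * h8xU chevG2 hB 6 b * h8reeQ4 hB (a * b) (a ^ 2 * b) 0 0 := by
    unfold h8reeQ4
    simp only [h8xU_zero', mul_one]
    group
  rw [e1, e2] at h
  have h2 : h8xU chevG2 hB 7 a * h8xU chevG2 hB 6 b =
      h8xU chevG2 hB 6 b * h8xU chevG2 hB 7 a * h8reeQ4 hB 0 0 (b * a ^ 3) (b ^ 2 * a ^ 3) *
        (h8reeQ4 hB (a * b) (a ^ 2 * b) 0 0)⁻¹ := by
    rw [h, mul_inv_cancel_right]
  rw [h2, h8reeQ4_inv hC, mul_assoc, h8reeQ4_mul hC]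
  simp only [zero_add, neg_zero, add_zero]

/-- the standard form of an element of `U` -/
def h8reeStd (hB : H8Base.{u} chevG2) (t6 t7 c8 c9 c10 c11 : K) : GL chevG2.Idx K :=
  h8xU chevG2 hB 6 t6 * h8xU chevG2 hB 7 t7 * h8reeQ4 hB c8 c9 c10 c11

theorem h8reeLk : h8Lk chevG2 0 = [6, 7, 8, 9, 10, 11] := by decide +kernel

theorem h8reeStd_eq_ord (t6 t7 c8 c9 c10 c11 : K) :
    h8reeStd hB t6 t7 c8 c9 c10 c11 =
      h8wordU chevG2 hB (h8ordW chevG2 0 fun r => [t6, t7, c8, c9, c10, c11].getD (r - 6) 0) := by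
  unfold h8ordW
  rw [h8reeLk]
  simp only [List.map_cons, List.map_nil, h8wordU_cons]
  have e0 : h8wordU chevG2 hB ([] : List (ℕ × K)) = 1 := rfl
  rw [e0]
  unfold h8reeStd h8reeQ4
  simp only [mul_one, mul_assoc]
  rfl

theorem h8reeStd_inj (hO2 : H8Ord2 chevG2) (t6 t7 c8 c9 c10 c11 t6' t7' c8' c9' c10' c11' : K)
    (h : h8reeStd hB t6 t7 c8 c9 c10 c11 = h8reeStd hB t6' t7' c8' c9' c10' c11') :
    t6 = t6' ∧ t7 = t7' ∧ c8 = c8' ∧ c9 = c9' ∧ c10 = c10' ∧ c11 = c11' := by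
  rw [h8reeStd_eq_ord, h8reeStd_eq_ord] at h
  have hun := h8ord_unique chevG2 hB hO2 chevG2.nroots 0 (by omega) _ _ h
  rw [h8reeLk] at hun
  exact ⟨hun 6 (by simp), hun 7 (by simp), hun 8 (by simp), hun 9 (by simp), hun 10 (by simp),
    hun 11 (by simp)⟩

theorem h8reeStd_exists (hC : H8CommAll.{u} chevG2) (hO : H8Ord chevG2) (g : GL chevG2.Idx K)
    (hg : g ∈ chevG2.posUnipotent K) :
    ∃ t6 t7 c8 c9 c10 c11 : K, g = h8reeStd hB t6 t7 c8 c9 c10 c11 := by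
  rw [← h8Vk_zero] at hg
  obtain ⟨t, ht⟩ := h8ord_exists chevG2 hB hC hO chevG2.nroots 0 (by omega) g hg
  refine ⟨t 6, t 7, t 8, t 9, t 10, t 11, ?_⟩
  rw [ht, h8reeStd_eq_ord]
  congr 1

theorem h8reeStd_mem_U (t6 t7 c8 c9 c10 c11 : K) :
    h8reeStd hB t6 t7 c8 c9 c10 c11 ∈ chevG2.posUnipotent K := by
  rw [h8reeStd_eq_ord, ← h8Vk_zero]
  exact h8ordW_mem chevG2 hB 0 _

end

end Cfsg.Agent.Lib.helper8
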