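import Mathlib
import Cfsg.Prelude.Def_ChevStructure
import Cfsg.Prelude.Def_ChevG2
import Cfsg.Prelude.Def_LieTwisted
import Cfsg.Agent.Lib.helper8.ChevRee8

set_option autoImplicit false

namespace Cfsg.Agent.Lib.helper8

open Cfsg.Lie Cfsg.Lie.ChevalleyDatum

universe u

variable {K : Type u} [Field K] {hB : H8Base.{u} chevG2}

section
variable [CharP K 3] (R : H8Ree K hB) (hC : H8CommAll.{u} chevG2)

include hC in
theorem h8reeS_Q4 (c8 c9 c10 c11 : K) :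
    h8reeS R (h8reeQ4 hB c8 c9 c10 c11) =
      h8reeQ4 hB (R.f c10) (R.f c11) ((R.f c8) ^ 3) ((R.f c9) ^ 3) := by
  unfold h8reeQ4
  rw [h8reeS_mul4 R _ _ _ _ (h8xU_mem_group chevG2 hB _ _) (h8xU_mem_group chevG2 hB _ _)
    (h8xU_mem_group chevG2 hB _ _) (h8xU_mem_group chevG2 hB _ _),
    h8reeS_xU R 8 (by decide), h8reeS_xU R 9 (by decide), h8reeS_xU R 10 (by decide),
    h8reeS_xU R 11 (by decide), h8reeE_short R 8 (by decide), h8reeE_short R 9 (by decide),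
    h8reeE_long R 10 (by decide), h8reeE_long R 11 (by decide)]
  have h8 : h8reeRho 8 = 10 := rfl
  have h9 : h8reeRho 9 = 11 := rfl
  have h10 : h8reeRho 10 = 8 := rfl
  have h11 : h8reeRho 11 = 9 := rfl
  rw [h8, h9, h10, h11]
  exact h8comm4 _ _ _ _ (h8ree_comm_pos hB hC _ _ (by decide) (by decide) _ _)
    (h8ree_comm_pos hB hC _ _ (by decide) (by decide) _ _)
    (h8ree_comm_pos hB hC _ _ (by decide) (by decide) _ _)
    (h8ree_comm_pos hB hC _ _ (by decide) (by decide) _ _)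

include hC in
theorem h8reeS_Std (t6 t7 c8 c9 c10 c11 : K) :
    h8reeS R (h8reeStd hB t6 t7 c8 c9 c10 c11) =
      h8reeStd hB ((R.f t7) ^ 3) (R.f t6)
        (R.f c10 - R.f t6 * (R.f t7) ^ 3) (R.f c11 - (R.f t6) ^ 2 * (R.f t7) ^ 3)
        ((R.f c8) ^ 3 + (R.f t7) ^ 3 * (R.f t6) ^ 3)
        ((R.f c9) ^ 3 + ((R.f t7) ^ 3) ^ 2 * (R.f t6) ^ 3) := by
  unfold h8reeStd
  rw [h8reeS_mul R _ _ (Subgroup.mul_mem _ (h8xU_mem_group chevG2 hB _ _)
    (h8xU_mem_group chevG2 hB _ _)) (h8reeQ4_mem_group _ _ _ _),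
    h8reeS_mul R _ _ (h8xU_mem_group chevG2 hB _ _) (h8xU_mem_group chevG2 hB _ _),
    h8reeS_xU R 6 (by decide), h8reeS_xU R 7 (by decide), h8reeE_long R 6 (by decide),
    h8reeE_short R 7 (by decide), h8reeS_Q4 R hC]
  have h6 : h8reeRho 6 = 7 := rfl
  have h7 : h8reeRho 7 = 6 := rfl
  rw [h6, h7, h8ree_swap hC, mul_assoc, h8reeQ4_mul hC]
  congr 2 <;> ring

include hC in
/-- a word of the first kind in standard form -/
theorem h8reeWordU_std (e : ℕ) (hfe : ∀ t : K, R.f t = t ^ e) (t u v : K) :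
    h8wordU chevG2 hB (reeWordU e t u v) =
      h8reeStd hB t (R.f t) (R.f u) (R.f v) (u + t * (R.f t) ^ 3) (v + t ^ 2 * (R.f t) ^ 3) := by
  rw [h8reeWordU_eq R hC e hfe]
  unfold h8reeW1 h8reeP h8reeStd
  simp only [one_mul]
  have e1 : h8xU chevG2 hB 7 (R.f t) * h8xU chevG2 hB 6 t * h8xU chevG2 hB 8 (R.f t * t) *
      h8xU chevG2 hB 9 (R.f t ^ 2 * t) =
      h8xU chevG2 hB 7 (R.f t) * h8xU chevG2 hB 6 t * h8reeQ4 hB (R.f t * t) (R.f t ^ 2 * t) 0 0 := by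
    unfold h8reeQ4
    simp only [h8xU_zero', mul_one]
    group
  have e2 : h8xU chevG2 hB 8 (R.f u) * h8xU chevG2 hB 9 (R.f v) * h8xU chevG2 hB 10 u *
      h8xU chevG2 hB 11 v = h8reeQ4 hB (R.f u) (R.f v) u v := rfl
  rw [e1, e2, h8ree_swap hC, mul_assoc, mul_assoc, h8reeQ4_mul hC, h8reeQ4_mul hC]
  congr 2 <;> ring

include hC in
/-- fixed points of the twist in `U` are words of the first kind -/
theorem h8ree_U_fix (hO : H8Ord chevG2) (hO2 : H8Ord2 chevG2) (e : ℕ)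
    (hfe : ∀ t : K, R.f t = t ^ e) (g : GL chevG2.Idx K) (hg : g ∈ chevG2.posUnipotent K)
    (hfix : h8reeS R g = g) : ∃ t u v : K, g = h8wordU chevG2 hB (reeWordU e t u v) := by
  obtain ⟨t6, t7, c8, c9, c10, c11, rfl⟩ := h8reeStd_exists (hB := hB) hC hO g hg
  rw [h8reeS_Std R hC] at hfix
  obtain ⟨h6, h7, h8, h9, h10, h11⟩ := h8reeStd_inj hO2 _ _ _ _ _ _ _ _ _ _ _ _ hfix
  refine ⟨t6, c10 - t6 * (R.f t6) ^ 3, c11 - t6 ^ 2 * (R.f t6) ^ 3, ?_⟩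
  rw [h8reeWordU_std R hC e hfe]
  have hff : ∀ x : K, R.f (R.f x) ^ 3 = x := R.hf
  have e7 : t7 = R.f t6 := h7.symm
  subst e7
  congr 1
  · rw [map_sub, map_mul, map_pow, hff, ← h8, hff]
  · rw [map_sub, map_mul, map_pow, map_pow, hff, ← h9, hff]
  · ring
  · ring

include hC in
theorem h8reeWordU_inj (hO2 : H8Ord2 chevG2) (e : ℕ) (hfe : ∀ t : K, R.f t = t ^ e)
    (t u v t' u' v' : K)
    (h : h8wordU chevG2 hB (reeWordU e t u v) = h8wordU chevG2 hB (reeWordU e t' u' v')) :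
    t = t' ∧ u = u' ∧ v = v' := by
  rw [h8reeWordU_std R hC e hfe, h8reeWordU_std R hC e hfe] at h
  obtain ⟨h6, h7, h8, h9, h10, h11⟩ := h8reeStd_inj hO2 _ _ _ _ _ _ _ _ _ _ _ _ h
  subst h6
  exact ⟨rfl, add_right_cancel h10, add_right_cancel h11⟩

end

end Cfsg.Agent.Lib.helper8
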