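import Mathlib
import Cfsg.Prelude.Def_ChevStructure
import Cfsg.Prelude.Def_ChevG2
import Cfsg.Prelude.Def_LieTwisted
import Cfsg.Agent.Lib.helper8.ChevRee9

set_option autoImplicit false

namespace Cfsg.Agent.Lib.helper8

open Cfsg.Lie Cfsg.Lie.ChevalleyDatum

universe u

variable {K : Type u} [Field K]

/-- a finite field of order `3 ^ (2 * m + 1)` has characteristic 3 -/
theorem h8ree_char3 [Fintype K] {m : ℕ} (hK : Fintype.card K = 3 ^ (2 * m + 1)) : CharP K 3 := by
  obtain ⟨p', hp'⟩ := CharP.exists K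
  obtain ⟨n, hp'prime, hcard⟩ := FiniteField.card K p'
  have hpp : p' = 3 := by
    have h1 : p' ∣ 3 ^ (2 * m + 1) := by
      rw [← hK, hcard]
      exact dvd_pow_self p' n.ne_zero
    have h2 := hp'prime.dvd_of_dvd_pow h1
    exact (Nat.prime_dvd_prime_iff_eq hp'prime Nat.prime_three).mp h2
  subst hpp
  exact hp'

/-- the Ree twist of a finite field of order `3 ^ (2 * m + 1)` -/
theorem h8ree_setup [Fintype K] {m : ℕ} (hK : Fintype.card K = 3 ^ (2 * m + 1))
    (hB : H8Base.{u} chevG2) [CharP K 3] :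
    ∃ R : H8Ree K hB, ∀ t : K, R.f t = t ^ (3 ^ m) := by
  haveI : Fact (Nat.Prime 3) := ⟨Nat.prime_three⟩
  haveI : ExpChar K 3 := ExpChar.prime Nat.prime_three
  have hf : ∀ t : K, (iterateFrobeniusEquiv K 3 m) ((iterateFrobeniusEquiv K 3 m) t) ^ 3 = t := by
    intro t
    rw [iterateFrobeniusEquiv_def, iterateFrobeniusEquiv_def, ← pow_mul, ← pow_mul]
    have : 3 ^ m * (3 ^ m * 3) = 3 ^ (2 * m + 1) := by ring
    rw [this, ← hK]
    exact FiniteField.pow_card t
  obtain ⟨R, hR⟩ := h8ree_exists' hB (iterateFrobeniusEquiv K 3 m) hf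
  refine ⟨R, fun t => ?_⟩
  rw [hR]
  exact iterateFrobeniusEquiv_def K 3 m t

end Cfsg.Agent.Lib.helper8
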