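import Mathlib
import Cfsg.Prelude.Def_ChevStructure
import Cfsg.Prelude.Def_ChevG2
import Cfsg.Prelude.Def_LieTwisted
import Cfsg.Agent.Lib.helper8.ChevRee10
import Cfsg.Agent.Lib.helper8.ChevOrdAll

set_option autoImplicit false

namespace Cfsg.Agent.Lib.helper8

open Cfsg.Lie Cfsg.Lie.ChevalleyDatum

universe u

variable {K : Type u} [Field K]

theorem h8reeWordU_mem (hB : H8Base.{u} chevG2) (e : ℕ) (t u v : K) :
    h8wordU chevG2 hB (reeWordU e t u v) ∈ twistedG2 K e := by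
  unfold twistedG2 ChevalleyDatum.genSubgroup
  apply Subgroup.subset_closure
  exact ⟨reeWordU e t u v, ⟨t, u, v, Or.inl rfl⟩, h8wordU_val chevG2 hB _⟩

theorem h8reeWordV_mem (hB : H8Base.{u} chevG2) (e : ℕ) (t u v : K) :
    h8wordU chevG2 hB (reeWordV e t u v) ∈ twistedG2 K e := by
  unfold twistedG2 ChevalleyDatum.genSubgroup
  apply Subgroup.subset_closure
  exact ⟨reeWordV e t u v, ⟨t, u, v, Or.inr rfl⟩, h8wordU_val chevG2 hB _⟩

/-- the elements of `U` in the Ree group -/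
theorem h8ree_U_iff [Fintype K] {m : ℕ} (hK : Fintype.card K = 3 ^ (2 * m + 1))
    (hB : H8Base.{u} chevG2) (g : GL chevG2.Idx K) :
    g ∈ chevG2.posUnipotent K ⊓ twistedG2 K (3 ^ m) ↔
      ∃ t u v : K, g = h8wordU chevG2 hB (reeWordU (3 ^ m) t u v) := by
  have hD : chevG2 ∈ [chevG2, chevB2, chevD4, chevF4, chevE6, chevE7, chevE8] := by simp
  have hC := h8commAll.{u} chevG2 hD
  obtain ⟨hO, hO2⟩ := h8ord_all chevG2 hD
  haveI := h8ree_char3 hK
  obtain ⟨R, hfe⟩ := h8ree_setup hK hB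
  constructor
  · rintro ⟨hU, hG⟩
    exact h8ree_U_fix R hC hO hO2 (3 ^ m) hfe g hU (h8ree_G1_fix R hC (3 ^ m) hfe g hG).2
  · rintro ⟨t, u, v, rfl⟩
    refine ⟨?_, h8reeWordU_mem hB _ t u v⟩
    rw [h8reeWordU_std R hC (3 ^ m) hfe]
    exact h8reeStd_mem_U _ _ _ _ _ _

/-- the number of elements of `U` in the Ree group -/
theorem h8ree_U_card [Fintype K] {m : ℕ} (hK : Fintype.card K = 3 ^ (2 * m + 1)) :
    Nat.card ↥(chevG2.posUnipotent K ⊓ twistedG2 K (3 ^ m)) = (3 ^ (2 * m + 1)) ^ 3 := by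
  have hD : chevG2 ∈ [chevG2, chevB2, chevD4, chevF4, chevE6, chevE7, chevE8] := by simp
  have hB := h8base_all.{u} chevG2 hD
  have hC := h8commAll.{u} chevG2 hD
  obtain ⟨hO, hO2⟩ := h8ord_all chevG2 hD
  haveI := h8ree_char3 hK
  obtain ⟨R, hfe⟩ := h8ree_setup hK hB
  have hbij : Function.Bijective (fun p : K × K × K =>
      (⟨h8wordU chevG2 hB (reeWordU (3 ^ m) p.1 p.2.1 p.2.2),
        (h8ree_U_iff hK hB _).mpr ⟨p.1, p.2.1, p.2.2, rfl⟩⟩ :
        ↥(chevG2.posUnipotent K ⊓ twistedG2 K (3 ^ m)))) := by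
    constructor
    · rintro ⟨t, u, v⟩ ⟨t', u', v'⟩ h
      have h' := congrArg Subtype.val h
      simp only at h'
      obtain ⟨h1, h2, h3⟩ := h8reeWordU_inj R hC hO2 (3 ^ m) hfe _ _ _ _ _ _ h'
      rw [h1, h2, h3]
    · rintro ⟨g, hg⟩
      obtain ⟨t, u, v, rfl⟩ := (h8ree_U_iff hK hB g).mp hg
      exact ⟨(t, u, v), rfl⟩
  rw [← Nat.card_congr (Equiv.ofBijective _ hbij), Nat.card_eq_fintype_card, Fintype.card_prod,
    Fintype.card_prod, hK]
  ring

end Cfsg.Agent.Lib.helper8
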