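import Mathlib
import Cfsg.Prelude.Def_ChevStructure
import Cfsg.Prelude.Def_ChevG2
import Cfsg.Prelude.Def_LieTwisted
import Cfsg.Agent.Lib.helper8.ChevRee11
import Cfsg.Agent.Lib.helper8.ChevTw1

set_option autoImplicit false

namespace Cfsg.Agent.Lib.helper8

open Cfsg.Lie Cfsg.Lie.ChevalleyDatum

universe u

variable {K : Type u} [Field K] {hB : H8Base.{u} chevG2}

/-- the permutation `ρ` of the roots of `G₂` -/
def h8reeRhoF (r : Fin chevG2.nroots) : Fin chevG2.nroots :=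
  ⟨h8reeRho r.val, h8reeRho_lt r.val r.2⟩

/-- the permutation of the roots induced by a fixed element of `N` commutes with `ρ` -/
theorem h8ree_Pi_comm [CharP K 3] (R : H8Ree K hB) (hA : H8ReflAll chevG2) (hBN : H8BN chevG2)
    (hW : H8BN2 chevG2) (hO2 : H8Ord2 chevG2) (n : ↥(chevG2.monomialSubgroup K))
    (hfix : h8reeS R n.val = n.val) (r : Fin chevG2.nroots) :
    h8Pi chevG2 hB hA hBN hW hO2 n (h8reeRhoF r) = h8reeRhoF (h8Pi chevG2 hB hA hBN hW hO2 n r) := by
  have hnG : n.val ∈ chevG2.group K := h8_N_le_group chevG2 hB n.2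
  obtain ⟨c, hc, h1⟩ := h8Pi_act chevG2 hB hA hBN hW hO2 n r
  obtain ⟨c', hc', h2⟩ := h8Pi_act chevG2 hB hA hBN hW hO2 n (h8reeRhoF r)
  have e1 := congrArg (h8reeS R) (h1 1)
  rw [h8reeS_mul R _ _ (Subgroup.mul_mem _ hnG (h8xU_mem_group chevG2 hB _ _))
    (Subgroup.inv_mem _ hnG), h8reeS_mul R _ _ hnG (h8xU_mem_group chevG2 hB _ _),
    h8reeS_inv R _ hnG, hfix, h8reeS_xU R _ r.2,
    h8reeS_xU R (h8Pi chevG2 hB hA hBN hW hO2 n r).val (Fin.is_lt _), h8reeE_one] at e1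
  have e2 := h2 1
  have e3 : h8xU chevG2 hB (h8reeRhoF r).val (1 : K) = h8xU chevG2 hB (h8reeRho r.val) 1 := rfl
  rw [e3, e1] at e2
  apply Fin.ext
  have := h8x_inj_root chevG2 hB hA hBN hW hO2 _ _
    (h8reeRho_lt _ (Fin.is_lt (h8Pi chevG2 hB hA hBN hW hO2 n r)))
    (Fin.is_lt (h8Pi chevG2 hB hA hBN hW hO2 n (h8reeRhoF r))) _ _
    (h8reeE_ne_zero R _ _ (by simpa using hc)) (by simpa using hc') e2
  exact this.symm

theorem h8ree_w0_val : ∀ r < 12, h8sW chevG2 [0, 1, 0, 1, 0, 1] r = chevG2.negIdx.getD r 0 := by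
  decide +kernel

set_option synthInstance.maxSize 1000 in
set_option synthInstance.maxHeartbeats 200000 in
theorem h8ree_neg_pos : ∀ r < 12, ¬ chevG2.IsPosRoot r → chevG2.IsPosRoot (chevG2.negIdx.getD r 0) := by
  decide +kernel

theorem h8ree_negneg : ∀ r < 12, chevG2.negIdx.getD (chevG2.negIdx.getD r 0) 0 = r := by
  decide +kernel

/-- the longest element of the Weyl group of `G₂` -/
def h8reeW0 (hA : H8ReflAll chevG2) : Equiv.Perm (Fin chevG2.nroots) :=
  h8wPerm chevG2 hA [0, 1, 0, 1, 0, 1]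

theorem h8reeW0_val (hA : H8ReflAll chevG2) (r : Fin chevG2.nroots) :
    (h8reeW0 hA r).val = chevG2.negIdx.getD r.val 0 := by
  unfold h8reeW0
  rw [h8wPerm_val chevG2 hA _ (by decide)]
  exact h8ree_w0_val r.val r.2

theorem h8reeW0_mem (hA : H8ReflAll chevG2) : h8reeW0 hA ∈ h8W chevG2 hA :=
  (h8W_mem_iff chevG2 hA _).mpr ⟨_, by decide, rfl⟩

theorem h8reeW0_sq (hA : H8ReflAll chevG2) : h8reeW0 hA * h8reeW0 hA = 1 := by
  apply Equiv.ext
  intro r
  apply Fin.ext
  rw [Equiv.Perm.mul_apply, h8reeW0_val, h8reeW0_val]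
  exact h8ree_negneg r.val r.2

theorem h8reeW0_ne_one (hA : H8ReflAll chevG2) : h8reeW0 hA ≠ 1 := by
  intro h
  have := congrArg (fun v : Equiv.Perm (Fin chevG2.nroots) => (v ⟨0, by decide⟩).val) h
  simp only [h8reeW0_val] at this
  revert this
  decide

/-- an element of the Weyl group of `G₂` commuting with `ρ` is trivial or the longest element -/
theorem h8ree_W_cent (hA : H8ReflAll chevG2) (hBN : H8BN chevG2) (hW : H8BN2 chevG2)
    (hO2 : H8Ord2 chevG2) (v : Equiv.Perm (Fin chevG2.nroots)) (hv : v ∈ h8W chevG2 hA)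
    (hcomm : ∀ r, v (h8reeRhoF r) = h8reeRhoF (v r)) : v = 1 ∨ v = h8reeW0 hA := by
  have hD : chevG2 ∈ [chevG2, chevB2, chevD4, chevF4, chevE6, chevE7, chevE8] := by simp
  have hB0 := h8base_all.{0} chevG2 hD
  have key : ∀ v' : Equiv.Perm (Fin chevG2.nroots), v' ∈ h8W chevG2 hA →
      (∀ r, v' (h8reeRhoF r) = h8reeRhoF (v' r)) →
      chevG2.IsPosRoot (v' ⟨7, by decide⟩).val → v' = 1 := by
    intro v' hv' hc hp
    apply h8W_simple_pos chevG2 hB0 hA hBN hW hO2 v' hv'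
    intro i
    have hi : i = ⟨0, by decide⟩ ∨ i = ⟨1, by decide⟩ := by
      rcases i with ⟨i, hi⟩
      have : i < 2 := hi
      interval_cases i
      · left; rfl
      · right; rfl
    rcases hi with rfl | rfl
    · exact hp
    · have e : h8simF chevG2 hBN ⟨1, by decide⟩ = h8reeRhoF ⟨7, by decide⟩ := by
        apply Fin.ext
        rfl
      rw [e, hc]
      exact (h8reeRho_pos _ (Fin.is_lt _)).1 hp
  by_cases hp : chevG2.IsPosRoot (v ⟨7, by decide⟩).val
  · left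
    exact key v hv hcomm hp
  · right
    have h1 : h8reeW0 hA * v = 1 := by
      apply key _ (Subgroup.mul_mem _ (h8reeW0_mem hA) hv)
      · intro r
        rw [Equiv.Perm.mul_apply, Equiv.Perm.mul_apply, hcomm]
        apply Fin.ext
        rw [h8reeW0_val]
        show chevG2.negIdx.getD (h8reeRho (v r).val) 0 = h8reeRho (h8reeW0 hA (v r)).val
        rw [h8reeW0_val]
        exact ((h8reeRho_neg (v r).val (Fin.is_lt _)).1).symm
      · rw [Equiv.Perm.mul_apply, h8reeW0_val]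
        exact h8ree_neg_pos _ (Fin.is_lt _) hp
    have h2 : v = (h8reeW0 hA)⁻¹ := eq_inv_of_mul_eq_one_right h1
    rw [h2]
    exact inv_eq_of_mul_eq_one_right (h8reeW0_sq hA)

end Cfsg.Agent.Lib.helper8
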