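import Mathlib
import Cfsg.Prelude.Def_ChevStructure
import Cfsg.Prelude.Def_ChevF4
import Cfsg.Prelude.Def_LieTwisted
import Cfsg.Agent.Lib.helper8.ChevTF6

set_option autoImplicit false

namespace Cfsg.Agent.Lib.helper8

open Cfsg.Lie Cfsg.Lie.ChevalleyDatum

universe u

variable {K : Type u} [Field K] {hB : H8Base.{u} chevF4}

theorem h8tfE_short (R : H8TF K hB) (r : ℕ) (hr : h8tfK r = 1) (s : K) :
    h8tfE R r s = (R.f s) ^ 2 := by
  unfold h8tfE
  rw [hr]

theorem h8tfE_long (R : H8TF K hB) (r : ℕ) (hr : h8tfK r = 0) (s : K) :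
    h8tfE R r s = R.f s := by
  unfold h8tfE
  rw [hr, zero_add, pow_one]

/-- a fixed element of a class of type `A₁ × A₁` -/
def h8tfPair (R : H8TF K hB) (r rbar : ℕ) (t : K) : GL chevF4.Idx K :=
  h8xU chevF4 hB r (R.f t) * h8xU chevF4 hB rbar t

/-- a fixed element of a class of type `B₂` -/
def h8tfCls (R : H8TF K hB) (a b ab aab : ℕ) (t v : K) : GL chevF4.Idx K :=
  h8xU chevF4 hB a (R.f t) * h8xU chevF4 hB b t * h8xU chevF4 hB ab (R.f t * t + v) *
    h8xU chevF4 hB aab ((R.f v) ^ 2)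

theorem h8tfPair_mem_group (R : H8TF K hB) (r rbar : ℕ) (t : K) :
    h8tfPair R r rbar t ∈ chevF4.group K :=
  Subgroup.mul_mem _ (h8xU_mem_group chevF4 hB _ _) (h8xU_mem_group chevF4 hB _ _)

theorem h8tfCls_mem_group (R : H8TF K hB) (a b ab aab : ℕ) (t v : K) :
    h8tfCls R a b ab aab t v ∈ chevF4.group K :=
  Subgroup.mul_mem _ (Subgroup.mul_mem _ (Subgroup.mul_mem _
    (h8xU_mem_group chevF4 hB _ _) (h8xU_mem_group chevF4 hB _ _))
    (h8xU_mem_group chevF4 hB _ _)) (h8xU_mem_group chevF4 hB _ _)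

section
variable [CharP K 2] (R : H8TF K hB) (hC : H8CommAll.{u} chevF4)

theorem h8tfS_mul4 (a b c d : GL chevF4.Idx K) (ha : a ∈ chevF4.group K)
    (hb : b ∈ chevF4.group K) (hc : c ∈ chevF4.group K) (hd : d ∈ chevF4.group K) :
    h8tfS R (a * b * c * d) = h8tfS R a * h8tfS R b * h8tfS R c * h8tfS R d := by
  rw [h8tfS_mul R _ _ (Subgroup.mul_mem _ (Subgroup.mul_mem _ ha hb) hc) hd,
    h8tfS_mul R _ _ (Subgroup.mul_mem _ ha hb) hc, h8tfS_mul R _ _ ha hb]

include hC in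
theorem h8tfPair_fix (t : K) : h8tfS R (h8tfPair R 33 24 t) = h8tfPair R 33 24 t := by
  unfold h8tfPair
  rw [h8tfS_mul R _ _ (h8xU_mem_group chevF4 hB _ _) (h8xU_mem_group chevF4 hB _ _),
    h8tfS_xU R 33 (by decide), h8tfS_xU R 24 (by decide), h8tfE_short R 33 rfl,
    h8tfE_long R 24 rfl]
  have h33 : h8tfRho 33 = 24 := rfl
  have h24 : h8tfRho 24 = 33 := rfl
  rw [h33, h24, R.hf]
  exact ((h8tf_comm_33_24 hB hC (R.f t) t).eq).symm

include hC in
theorem h8tfPair_fix' (t : K) : h8tfS R (h8tfPair R 14 23 t) = h8tfPair R 14 23 t := by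
  unfold h8tfPair
  rw [h8tfS_mul R _ _ (h8xU_mem_group chevF4 hB _ _) (h8xU_mem_group chevF4 hB _ _),
    h8tfS_xU R 14 (by decide), h8tfS_xU R 23 (by decide), h8tfE_short R 14 rfl,
    h8tfE_long R 23 rfl]
  have h14 : h8tfRho 14 = 23 := rfl
  have h23 : h8tfRho 23 = 14 := rfl
  rw [h14, h23, R.hf]
  exact ((h8tf_comm_14_23 hB hC (R.f t) t).eq).symm

theorem h8tf_cls_calc {G : Type*} [Group G] (a b p q q' p' : G) (hc : Commute (q * q') p') :
    a * b * p * q * q' * p' = a * b * (p * p') * (q * q') := by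
  calc a * b * p * q * q' * p' = a * b * p * ((q * q') * p') := by group
    _ = a * b * p * (p' * (q * q')) := by rw [hc.eq]
    _ = a * b * (p * p') * (q * q') := by group

include hC in
theorem h8tfCls_fix (t v : K) :
    h8tfS R (h8tfCls R 27 25 28 30 t v) = h8tfCls R 27 25 28 30 t v := by
  unfold h8tfCls
  rw [h8tfS_mul4 R _ _ _ _ (h8xU_mem_group chevF4 hB _ _) (h8xU_mem_group chevF4 hB _ _)
    (h8xU_mem_group chevF4 hB _ _) (h8xU_mem_group chevF4 hB _ _),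
    h8tfS_xU R 27 (by decide), h8tfS_xU R 25 (by decide), h8tfS_xU R 28 (by decide),
    h8tfS_xU R 30 (by decide), h8tfE_short R 27 rfl, h8tfE_long R 25 rfl,
    h8tfE_short R 28 rfl, h8tfE_long R 30 rfl]
  have h27 : h8tfRho 27 = 25 := rfl
  have h25 : h8tfRho 25 = 27 := rfl
  have h28 : h8tfRho 28 = 30 := rfl
  have h30 : h8tfRho 30 = 28 := rfl
  rw [h27, h25, h28, h30, R.hf, map_pow, R.hf, h8tf_I1 hB hC (R.f t) t,
    h8tf_cls_calc _ _ _ _ _ _ (by
      rw [h8xU_add chevF4 hB 30 (by decide)]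
      exact (h8tf_comm_28_30 hB hC _ _).symm),
    h8xU_add chevF4 hB 28 (by decide), h8xU_add chevF4 hB 30 (by decide)]
  congr 2
  rw [map_add, map_mul, add_pow_two, mul_pow, R.hf]
  have h2 : (2 : K) = 0 := CharTwo.two_eq_zero
  rw [h2]
  ring_nf
  rw [h2, mul_zero, zero_add]

include hC in
theorem h8tfCls_fix' (t v : K) :
    h8tfS R (h8tfCls R 20 22 19 17 t v) = h8tfCls R 20 22 19 17 t v := by
  unfold h8tfCls
  rw [h8tfS_mul4 R _ _ _ _ (h8xU_mem_group chevF4 hB _ _) (h8xU_mem_group chevF4 hB _ _)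
    (h8xU_mem_group chevF4 hB _ _) (h8xU_mem_group chevF4 hB _ _),
    h8tfS_xU R 20 (by decide), h8tfS_xU R 22 (by decide), h8tfS_xU R 19 (by decide),
    h8tfS_xU R 17 (by decide), h8tfE_short R 20 rfl, h8tfE_long R 22 rfl,
    h8tfE_short R 19 rfl, h8tfE_long R 17 rfl]
  have h20 : h8tfRho 20 = 22 := rfl
  have h22 : h8tfRho 22 = 20 := rfl
  have h19 : h8tfRho 19 = 17 := rfl
  have h17 : h8tfRho 17 = 19 := rfl
  rw [h20, h22, h19, h17, R.hf, map_pow, R.hf, h8tf_I1' hB hC (R.f t) t,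
    h8tf_cls_calc _ _ _ _ _ _ (by
      rw [h8xU_add chevF4 hB 17 (by decide)]
      exact (h8tf_comm_19_17 hB hC _ _).symm),
    h8xU_add chevF4 hB 19 (by decide), h8xU_add chevF4 hB 17 (by decide)]
  congr 2
  rw [map_add, map_mul, add_pow_two, mul_pow, R.hf]
  have h2 : (2 : K) = 0 := CharTwo.two_eq_zero
  rw [h2]
  ring_nf
  rw [h2, mul_zero, zero_add]

end

end Cfsg.Agent.Lib.helper8
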