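import Mathlib
import Cfsg.Prelude.Def_ChevStructure
import Cfsg.Prelude.Def_ChevF4
import Cfsg.Prelude.Def_LieTwisted
import Cfsg.Agent.Lib.helper8.ChevTF7

set_option autoImplicit false

namespace Cfsg.Agent.Lib.helper8

open Cfsg.Lie Cfsg.Lie.ChevalleyDatum

universe u

variable {K : Type u} [Field K] {hB : H8Base.{u} chevF4}

theorem h8tf_pairWord_eq (R : H8TF K hB) (e : ℕ) (hfe : ∀ t : K, R.f t = t ^ e) (t : K) :
    h8wordU chevF4 hB (f4PairWord e f4p1 f4p4 t) = h8tfPair R 33 24 t := by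
  unfold f4PairWord f4p1 f4p4 h8tfPair
  simp only [h8wordU_cons]
  have e0 : h8wordU chevF4 hB ([] : List (ℕ × K)) = 1 := rfl
  rw [e0, mul_one, hfe]

theorem h8tf_pairWord_eq' (R : H8TF K hB) (e : ℕ) (hfe : ∀ t : K, R.f t = t ^ e) (t : K) :
    h8wordU chevF4 hB (f4PairWord e f4m1 f4m4 t) = h8tfPair R 14 23 t := by
  unfold f4PairWord f4m1 f4m4 h8tfPair
  simp only [h8wordU_cons]
  have e0 : h8wordU chevF4 hB ([] : List (ℕ × K)) = 1 := rfl
  rw [e0, mul_one, hfe]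

theorem h8tf_clsWord_eq (R : H8TF K hB) (e : ℕ) (hfe : ∀ t : K, R.f t = t ^ e) (t v : K) :
    h8wordU chevF4 hB (b2ClassWord e f4a f4b f4ab f4aab t v) = h8tfCls R 27 25 28 30 t v := by
  unfold b2ClassWord f4a f4b f4ab f4aab h8tfCls
  simp only [h8wordU_cons]
  have e0 : h8wordU chevF4 hB ([] : List (ℕ × K)) = 1 := rfl
  have e1 : t ^ (e + 1) = R.f t * t := by rw [pow_succ, hfe]
  have e2 : v ^ (2 * e) = R.f v ^ 2 := by rw [pow_mul', hfe]
  rw [e0, mul_one, e1, e2, hfe t]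
  group

theorem h8tf_clsWord_eq' (R : H8TF K hB) (e : ℕ) (hfe : ∀ t : K, R.f t = t ^ e) (t v : K) :
    h8wordU chevF4 hB (b2ClassWord e f4ma f4mb f4mab f4maab t v) = h8tfCls R 20 22 19 17 t v := by
  unfold b2ClassWord f4ma f4mb f4mab f4maab h8tfCls
  simp only [h8wordU_cons]
  have e0 : h8wordU chevF4 hB ([] : List (ℕ × K)) = 1 := rfl
  have e1 : t ^ (e + 1) = R.f t * t := by rw [pow_succ, hfe]
  have e2 : v ^ (2 * e) = R.f v ^ 2 := by rw [pow_mul', hfe]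
  rw [e0, mul_one, e1, e2, hfe t]
  group

theorem h8tf_word_mem (e : ℕ) (w : List (ℕ × K)) (hw : w ∈ f4Words K e) :
    h8wordU chevF4 hB w ∈ twistedF4 K e := by
  unfold twistedF4 ChevalleyDatum.genSubgroup
  apply Subgroup.subset_closure
  exact ⟨w, hw, h8wordU_val chevF4 hB w⟩

theorem h8tfPair_mem (R : H8TF K hB) (e : ℕ) (hfe : ∀ t : K, R.f t = t ^ e) (t : K) :
    h8tfPair R 33 24 t ∈ twistedF4 K e := by
  rw [← h8tf_pairWord_eq R e hfe]
  exact h8tf_word_mem e _ (Or.inl ⟨t, Or.inl rfl⟩)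

theorem h8tfPair_mem' (R : H8TF K hB) (e : ℕ) (hfe : ∀ t : K, R.f t = t ^ e) (t : K) :
    h8tfPair R 14 23 t ∈ twistedF4 K e := by
  rw [← h8tf_pairWord_eq' R e hfe]
  exact h8tf_word_mem e _ (Or.inl ⟨t, Or.inr rfl⟩)

theorem h8tfCls_mem (R : H8TF K hB) (e : ℕ) (hfe : ∀ t : K, R.f t = t ^ e) (t v : K) :
    h8tfCls R 27 25 28 30 t v ∈ twistedF4 K e := by
  rw [← h8tf_clsWord_eq R e hfe]
  exact h8tf_word_mem e _ (Or.inr ⟨t, v, Or.inl rfl⟩)

theorem h8tfCls_mem' (R : H8TF K hB) (e : ℕ) (hfe : ∀ t : K, R.f t = t ^ e) (t v : K) :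
    h8tfCls R 20 22 19 17 t v ∈ twistedF4 K e := by
  rw [← h8tf_clsWord_eq' R e hfe]
  exact h8tf_word_mem e _ (Or.inr ⟨t, v, Or.inr rfl⟩)

/-- the group `²F₄` consists of fixed points of the twist -/
theorem h8tf_G1_fix [CharP K 2] (R : H8TF K hB) (hC : H8CommAll.{u} chevF4) (e : ℕ)
    (hfe : ∀ t : K, R.f t = t ^ e) (g : GL chevF4.Idx K) (hg : g ∈ twistedF4 K e) :
    g ∈ chevF4.group K ∧ h8tfS R g = g := by
  unfold twistedF4 ChevalleyDatum.genSubgroup at hg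
  have hgens : ∀ x ∈ {g : GL chevF4.Idx K | ∃ w ∈ f4Words K e,
      (g : Matrix chevF4.Idx chevF4.Idx K) = chevF4.wordMat K w},
      x ∈ chevF4.group K ∧ h8tfS R x = x := by
    rintro x ⟨w, hw, hx⟩
    have hxw : x = h8wordU chevF4 hB w := by
      apply Units.ext
      rw [hx, h8wordU_val]
    refine ⟨hxw ▸ h8wordU_mem_group chevF4 hB w, ?_⟩
    rw [hxw]
    rcases hw with ⟨t, rfl | rfl⟩ | ⟨t, v, rfl | rfl⟩
    · rw [h8tf_pairWord_eq R e hfe, h8tfPair_fix R hC]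
    · rw [h8tf_pairWord_eq' R e hfe, h8tfPair_fix' R hC]
    · rw [h8tf_clsWord_eq R e hfe, h8tfCls_fix R hC]
    · rw [h8tf_clsWord_eq' R e hfe, h8tfCls_fix' R hC]
  induction hg using Subgroup.closure_induction with
  | mem x hx => exact hgens x hx
  | one => exact ⟨Subgroup.one_mem _, h8tfS_one R⟩
  | mul x y _ _ ihx ihy =>
    exact ⟨Subgroup.mul_mem _ ihx.1 ihy.1, by rw [h8tfS_mul R x y ihx.1 ihy.1, ihx.2, ihy.2]⟩
  | inv x _ ih =>
    exact ⟨Subgroup.inv_mem _ ih.1, by rw [h8tfS_inv R x ih.1, ih.2]⟩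

/-- a finite field of order `2 ^ (2 * m + 1)` has characteristic 2 -/
theorem h8tf_char2 [Fintype K] {m : ℕ} (hK : Fintype.card K = 2 ^ (2 * m + 1)) : CharP K 2 := by
  obtain ⟨p', hp'⟩ := CharP.exists K
  obtain ⟨n, hp'prime, hcard⟩ := FiniteField.card K p'
  have hpp : p' = 2 := by
    have h1 : p' ∣ 2 ^ (2 * m + 1) := by
      rw [← hK, hcard]
      exact dvd_pow_self p' n.ne_zero
    have h2 := hp'prime.dvd_of_dvd_pow h1
    exact (Nat.prime_dvd_prime_iff_eq hp'prime Nat.prime_two).mp h2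
  subst hpp
  exact hp'

/-- the twist of a finite field of order `2 ^ (2 * m + 1)` -/
theorem h8tf_setup [Fintype K] {m : ℕ} (hK : Fintype.card K = 2 ^ (2 * m + 1))
    (hB : H8Base.{u} chevF4) [CharP K 2] :
    ∃ R : H8TF K hB, ∀ t : K, R.f t = t ^ (2 ^ m) := by
  haveI : Fact (Nat.Prime 2) := ⟨Nat.prime_two⟩
  haveI : ExpChar K 2 := ExpChar.prime Nat.prime_two
  have hf : ∀ t : K, (iterateFrobeniusEquiv K 2 m) ((iterateFrobeniusEquiv K 2 m) t) ^ 2 = t := by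
    intro t
    rw [iterateFrobeniusEquiv_def, iterateFrobeniusEquiv_def, ← pow_mul, ← pow_mul]
    have : 2 ^ m * (2 ^ m * 2) = 2 ^ (2 * m + 1) := by ring
    rw [this, ← hK]
    exact FiniteField.pow_card t
  obtain ⟨R, hR⟩ := h8tf_exists' hB (iterateFrobeniusEquiv K 2 m) hf
  refine ⟨R, fun t => ?_⟩
  rw [hR]
  exact iterateFrobeniusEquiv_def K 2 m t

end Cfsg.Agent.Lib.helper8
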