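import Mathlib
import Cfsg.Prelude.Def_ChevStructure
import Cfsg.Prelude.Def_ChevF4
import Cfsg.Prelude.Def_LieTwisted
import Cfsg.Agent.Lib.helper8.ChevTF8
import Cfsg.Agent.Lib.helper8.ChevRee8

set_option autoImplicit false

namespace Cfsg.Agent.Lib.helper8

open Cfsg.Lie Cfsg.Lie.ChevalleyDatum

universe u

variable {K : Type u} [Field K] {hB : H8Base.{u} chevF4}

theorem h8tfLk : h8Lk chevF4 0 = [24, 25, 26, 27, 28, 29, 30, 31, 32, 33, 34, 35, 36, 37, 38, 39,
    40, 41, 42, 43, 44, 45, 46, 47] := by decide +kernel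

theorem h8tf_commTab2 : ∀ r ∈ [28, 30], ∀ s ∈ [25, 27, 28, 30], s ≠ r →
    ∀ c ∈ chevF4.commTerms r s, c.2.1 % 2 = 0 := by decide +kernel

section
variable [CharP K 2] (hC : H8CommAll.{u} chevF4)

include hC in
theorem h8tf_central (r s : ℕ) (hr : r ∈ [28, 30]) (hs : s ∈ [25, 27, 28, 30]) (t v : K) :
    Commute (h8xU chevF4 hB r t) (h8xU chevF4 hB s v) := by
  by_cases hsr : s = r
  · subst hsr
    show h8xU chevF4 hB s t * h8xU chevF4 hB s v = h8xU chevF4 hB s v * h8xU chevF4 hB s t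
    have hs' : s < chevF4.nroots := by
      simp only [List.mem_cons, List.not_mem_nil, or_false] at hs
      rcases hs with rfl | rfl | rfl | rfl <;> decide
    rw [h8xU_add chevF4 hB s hs', h8xU_add chevF4 hB s hs', add_comm]
  · have hr' : r < chevF4.nroots ∧ s < chevF4.nroots ∧ s ≠ chevF4.negIdx.getD r 0 := by
      simp only [List.mem_cons, List.not_mem_nil, or_false] at hr hs
      rcases hr with rfl | rfl <;> rcases hs with rfl | rfl | rfl | rfl <;> decide
    apply h8comm_char chevF4 hB hC r s hr'.1 hr'.2.1 hsr hr'.2.2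
    intro c hc
    rw [CharP.intCast_eq_zero_iff K 2]
    exact Int.dvd_of_emod_eq_zero (h8tf_commTab2 r hr s hs hsr c hc)

/-- the standard form of an element of the root subgroups of the class of type `B₂` -/
def h8tfStd2 (hB : H8Base.{u} chevF4) (t25 t27 c28 c30 : K) : GL chevF4.Idx K :=
  h8xU chevF4 hB 25 t25 * h8xU chevF4 hB 27 t27 * h8xU chevF4 hB 28 c28 * h8xU chevF4 hB 30 c30

omit [CharP K 2] in
theorem h8tf_swap_aux {G : Type*} [Group G] (x y p q : G) (h : y * x = x * y * p * q)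
    (hp : p * p = 1) (hq : q * q = 1) (hc : p * q = q * p) : x * y = y * x * p * q := by
  have hpi : p⁻¹ = p := inv_eq_of_mul_eq_one_right hp
  have hqi : q⁻¹ = q := inv_eq_of_mul_eq_one_right hq
  have h1 : x * y = y * x * (p * q)⁻¹ := by
    rw [h]
    group
  rw [h1, mul_inv_rev, hpi, hqi, ← hc]
  group

include hC in
theorem h8tf_swap (a b : K) :
    h8xU chevF4 hB 27 a * h8xU chevF4 hB 25 b =
      h8xU chevF4 hB 25 b * h8xU chevF4 hB 27 a * h8xU chevF4 hB 28 (a * b) *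
        h8xU chevF4 hB 30 (a ^ 2 * b) := by
  have h := h8tf_I1 hB hC a b
  have h1 : h8xU chevF4 hB 28 (a * b) * h8xU chevF4 hB 28 (a * b) = 1 := by
    rw [h8xU_add chevF4 hB 28 (by decide), CharTwo.add_self_eq_zero, h8xU_zero']
  have h2 : h8xU chevF4 hB 30 (a ^ 2 * b) * h8xU chevF4 hB 30 (a ^ 2 * b) = 1 := by
    rw [h8xU_add chevF4 hB 30 (by decide), CharTwo.add_self_eq_zero, h8xU_zero']
  have hc := (h8tf_central (hB := hB) hC 28 30 (by decide) (by decide) (a * b) (a ^ 2 * b)).eq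
  exact h8tf_swap_aux _ _ _ _ h h1 h2 hc

include hC in
theorem h8tfStd2_mul25 (s b a c d : K) :
    h8xU chevF4 hB 25 s * h8tfStd2 hB b a c d = h8tfStd2 hB (s + b) a c d := by
  unfold h8tfStd2
  rw [← h8xU_add chevF4 hB 25 (by decide)]
  group

include hC in
theorem h8tfStd2_mul27 (s b a c d : K) :
    h8xU chevF4 hB 27 s * h8tfStd2 hB b a c d =
      h8tfStd2 hB b (s + a) (s * b + c) (s ^ 2 * b + d) := by
  unfold h8tfStd2
  have c1 := (h8tf_central (hB := hB) hC 28 27 (by decide) (by decide) (s * b) a).eq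
  have c2 := (h8tf_central (hB := hB) hC 30 27 (by decide) (by decide) (s ^ 2 * b) a).eq
  have c3 := (h8tf_central (hB := hB) hC 30 28 (by decide) (by decide) (s ^ 2 * b) c).eq
  calc h8xU chevF4 hB 27 s * (h8xU chevF4 hB 25 b * h8xU chevF4 hB 27 a * h8xU chevF4 hB 28 c *
        h8xU chevF4 hB 30 d)
      = (h8xU chevF4 hB 27 s * h8xU chevF4 hB 25 b) * h8xU chevF4 hB 27 a * h8xU chevF4 hB 28 c *
        h8xU chevF4 hB 30 d := by group
    _ = h8xU chevF4 hB 25 b * h8xU chevF4 hB 27 s * h8xU chevF4 hB 28 (s * b) *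
        (h8xU chevF4 hB 30 (s ^ 2 * b) * h8xU chevF4 hB 27 a) * h8xU chevF4 hB 28 c *
        h8xU chevF4 hB 30 d := by rw [h8tf_swap hC]; group
    _ = h8xU chevF4 hB 25 b * h8xU chevF4 hB 27 s * (h8xU chevF4 hB 28 (s * b) *
        h8xU chevF4 hB 27 a) * (h8xU chevF4 hB 30 (s ^ 2 * b) * h8xU chevF4 hB 28 c) *
        h8xU chevF4 hB 30 d := by rw [c2]; group
    _ = h8xU chevF4 hB 25 b * (h8xU chevF4 hB 27 s * h8xU chevF4 hB 27 a) *
        (h8xU chevF4 hB 28 (s * b) * h8xU chevF4 hB 28 c) * (h8xU chevF4 hB 30 (s ^ 2 * b) *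
        h8xU chevF4 hB 30 d) := by rw [c1, c3]; group
    _ = _ := by
      rw [h8xU_add chevF4 hB 27 (by decide), h8xU_add chevF4 hB 28 (by decide),
        h8xU_add chevF4 hB 30 (by decide)]

include hC in
theorem h8tfStd2_mul28 (s b a c d : K) :
    h8xU chevF4 hB 28 s * h8tfStd2 hB b a c d = h8tfStd2 hB b a (s + c) d := by
  unfold h8tfStd2
  have c1 := (h8tf_central (hB := hB) hC 28 25 (by decide) (by decide) s b).eq
  have c2 := (h8tf_central (hB := hB) hC 28 27 (by decide) (by decide) s a).eq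
  calc h8xU chevF4 hB 28 s * (h8xU chevF4 hB 25 b * h8xU chevF4 hB 27 a * h8xU chevF4 hB 28 c *
        h8xU chevF4 hB 30 d)
      = (h8xU chevF4 hB 28 s * h8xU chevF4 hB 25 b) * h8xU chevF4 hB 27 a * h8xU chevF4 hB 28 c *
        h8xU chevF4 hB 30 d := by group
    _ = h8xU chevF4 hB 25 b * (h8xU chevF4 hB 28 s * h8xU chevF4 hB 27 a) * h8xU chevF4 hB 28 c *
        h8xU chevF4 hB 30 d := by rw [c1]; group
    _ = h8xU chevF4 hB 25 b * h8xU chevF4 hB 27 a * (h8xU chevF4 hB 28 s * h8xU chevF4 hB 28 c) *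
        h8xU chevF4 hB 30 d := by rw [c2]; group
    _ = _ := by rw [h8xU_add chevF4 hB 28 (by decide)]

include hC in
theorem h8tfStd2_mul30 (s b a c d : K) :
    h8xU chevF4 hB 30 s * h8tfStd2 hB b a c d = h8tfStd2 hB b a c (s + d) := by
  unfold h8tfStd2
  have c1 := (h8tf_central (hB := hB) hC 30 25 (by decide) (by decide) s b).eq
  have c2 := (h8tf_central (hB := hB) hC 30 27 (by decide) (by decide) s a).eq
  have c3 := (h8tf_central (hB := hB) hC 30 28 (by decide) (by decide) s c).eq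
  calc h8xU chevF4 hB 30 s * (h8xU chevF4 hB 25 b * h8xU chevF4 hB 27 a * h8xU chevF4 hB 28 c *
        h8xU chevF4 hB 30 d)
      = (h8xU chevF4 hB 30 s * h8xU chevF4 hB 25 b) * h8xU chevF4 hB 27 a * h8xU chevF4 hB 28 c *
        h8xU chevF4 hB 30 d := by group
    _ = h8xU chevF4 hB 25 b * (h8xU chevF4 hB 30 s * h8xU chevF4 hB 27 a) * h8xU chevF4 hB 28 c *
        h8xU chevF4 hB 30 d := by rw [c1]; group
    _ = h8xU chevF4 hB 25 b * h8xU chevF4 hB 27 a * (h8xU chevF4 hB 30 s * h8xU chevF4 hB 28 c) *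
        h8xU chevF4 hB 30 d := by rw [c2]; group
    _ = h8xU chevF4 hB 25 b * h8xU chevF4 hB 27 a * h8xU chevF4 hB 28 c *
        (h8xU chevF4 hB 30 s * h8xU chevF4 hB 30 d) := by rw [c3]; group
    _ = _ := by rw [h8xU_add chevF4 hB 30 (by decide)]

end

/-- the generators of the root subgroups of a list of roots -/
def h8XLSet (D : ChevalleyDatum) (K : Type u) [Field K] (L : List ℕ) : Set (GL D.Idx K) :=
  {g | ∃ (r : ℕ) (t : K), r ∈ L ∧ (g : Matrix D.Idx D.Idx K) = D.x K r t}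

theorem h8tfStd2_zero : h8tfStd2 hB (0 : K) 0 0 0 = 1 := by
  unfold h8tfStd2
  simp only [h8xU_zero', mul_one]

theorem h8tfStd2_exists [CharP K 2] (hC : H8CommAll.{u} chevF4) (g : GL chevF4.Idx K)
    (hg : g ∈ Subgroup.closure (h8XLSet chevF4 K [25, 27, 28, 30])) :
    ∃ b a c d : K, g = h8tfStd2 hB b a c d := by
  have hstep : ∀ (r : ℕ) (s : K), r ∈ [25, 27, 28, 30] → ∀ b a c d : K,
      ∃ b' a' c' d' : K, h8xU chevF4 hB r s * h8tfStd2 hB b a c d = h8tfStd2 hB b' a' c' d' := by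
    intro r s hr b a c d
    simp only [List.mem_cons, List.not_mem_nil, or_false] at hr
    rcases hr with rfl | rfl | rfl | rfl
    · exact ⟨_, _, _, _, h8tfStd2_mul25 hC s b a c d⟩
    · exact ⟨_, _, _, _, h8tfStd2_mul27 hC s b a c d⟩
    · exact ⟨_, _, _, _, h8tfStd2_mul28 hC s b a c d⟩
    · exact ⟨_, _, _, _, h8tfStd2_mul30 hC s b a c d⟩
  induction hg using Subgroup.closure_induction_left with
  | one => exact ⟨0, 0, 0, 0, h8tfStd2_zero.symm⟩
  | mul_left x hx y _ ih =>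
    obtain ⟨b, a, c, d, rfl⟩ := ih
    obtain ⟨r, s, hr, hxv⟩ := hx
    have hx' : x = h8xU chevF4 hB r s := Units.ext (by rw [hxv, h8xU_val])
    rw [hx']
    obtain ⟨b', a', c', d', e⟩ := hstep r s hr b a c d
    exact ⟨b', a', c', d', e⟩
  | inv_mul_cancel x hx y _ ih =>
    obtain ⟨b, a, c, d, rfl⟩ := ih
    obtain ⟨r, s, hr, hxv⟩ := hx
    have hx' : x = h8xU chevF4 hB r s := Units.ext (by rw [hxv, h8xU_val])
    rw [hx', h8xU_inv]
    obtain ⟨b', a', c', d', e⟩ := hstep r (-s) hr b a c d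
    exact ⟨b', a', c', d', e⟩

theorem h8tfStd2_eq_ord (b a c d : K) :
    h8tfStd2 hB b a c d = h8wordU chevF4 hB (h8ordW chevF4 0 fun r =>
      if r = 25 then b else if r = 27 then a else if r = 28 then c else if r = 30 then d
      else 0) := by
  unfold h8ordW
  rw [h8tfLk]
  simp only [List.map_cons, List.map_nil, h8wordU_cons]
  have e0 : h8wordU chevF4 hB ([] : List (ℕ × K)) = 1 := rfl
  rw [e0]
  unfold h8tfStd2
  simp [h8xU_zero', mul_assoc]

theorem h8tfStd2_inj (hO2 : H8Ord2 chevF4) (b a c d b' a' c' d' : K)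
    (h : h8tfStd2 hB b a c d = h8tfStd2 hB b' a' c' d') :
    b = b' ∧ a = a' ∧ c = c' ∧ d = d' := by
  rw [h8tfStd2_eq_ord, h8tfStd2_eq_ord] at h
  have hun := h8ord_unique chevF4 hB hO2 chevF4.nroots 0 (by omega) _ _ h
  rw [h8tfLk] at hun
  have h25 := hun 25 (by simp)
  have h27 := hun 27 (by simp)
  have h28 := hun 28 (by simp)
  have h30 := hun 30 (by simp)
  simp at h25 h27 h28 h30
  exact ⟨h25, h27, h28, h30⟩

end Cfsg.Agent.Lib.helper8
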