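import Mathlib
import Cfsg.Prelude.Def_ChevStructure
import Cfsg.Prelude.Def_ChevF4
import Cfsg.Prelude.Def_LieTwisted
import Cfsg.Agent.Lib.helper8.ChevTF9

set_option autoImplicit false

namespace Cfsg.Agent.Lib.helper8

open Cfsg.Lie Cfsg.Lie.ChevalleyDatum

universe u

variable {K : Type u} [Field K] {hB : H8Base.{u} chevF4}

section
variable [CharP K 2] (R : H8TF K hB) (hC : H8CommAll.{u} chevF4)

omit [CharP K 2] in
theorem h8tf_cls_calc' {G : Type*} [Group G] (a b p q p' q' : G) (hc : Commute q p') :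
    a * b * p * q * p' * q' = a * b * (p * p') * (q * q') := by
  calc a * b * p * q * p' * q' = a * b * p * (q * p') * q' := by group
    _ = a * b * p * (p' * q) * q' := by rw [hc.eq]
    _ = a * b * (p * p') * (q * q') := by group

include hC in
/-- the twist of an element in standard form -/
theorem h8tfS_Std2 (b a c d : K) :
    h8tfS R (h8tfStd2 hB b a c d) =
      h8tfStd2 hB ((R.f a) ^ 2) (R.f b) (R.f b * (R.f a) ^ 2 + R.f d)
        ((R.f b) ^ 2 * (R.f a) ^ 2 + (R.f c) ^ 2) := by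
  unfold h8tfStd2
  rw [h8tfS_mul4 R _ _ _ _ (h8xU_mem_group chevF4 hB _ _) (h8xU_mem_group chevF4 hB _ _)
    (h8xU_mem_group chevF4 hB _ _) (h8xU_mem_group chevF4 hB _ _),
    h8tfS_xU R 25 (by decide), h8tfS_xU R 27 (by decide), h8tfS_xU R 28 (by decide),
    h8tfS_xU R 30 (by decide), h8tfE_long R 25 rfl, h8tfE_short R 27 rfl,
    h8tfE_short R 28 rfl, h8tfE_long R 30 rfl]
  have h27 : h8tfRho 27 = 25 := rfl
  have h25 : h8tfRho 25 = 27 := rfl
  have h28 : h8tfRho 28 = 30 := rfl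
  have h30 : h8tfRho 30 = 28 := rfl
  rw [h27, h25, h28, h30, h8tf_swap hC (R.f b) ((R.f a) ^ 2),
    h8tf_cls_calc _ _ _ _ _ _ (by
      rw [h8xU_add chevF4 hB 30 (by decide)]
      exact (h8tf_comm_28_30 hB hC _ _).symm),
    h8xU_add chevF4 hB 28 (by decide), h8xU_add chevF4 hB 30 (by decide)]

include hC in
/-- the fixed points of the twist on the root subgroups of the class of type `B₂` -/
theorem h8tf_X2_fix (hO2 : H8Ord2 chevF4) (g : GL chevF4.Idx K)
    (hg : g ∈ Subgroup.closure (h8XLSet chevF4 K [25, 27, 28, 30])) (hfix : h8tfS R g = g) :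
    ∃ t v : K, g = h8tfCls R 27 25 28 30 t v := by
  obtain ⟨b, a, c, d, rfl⟩ := h8tfStd2_exists (hB := hB) hC g hg
  rw [h8tfS_Std2 R hC] at hfix
  obtain ⟨h1, h2, h3, h4⟩ := h8tfStd2_inj hO2 _ _ _ _ _ _ _ _ hfix
  refine ⟨b, R.f d + a * b, ?_⟩
  unfold h8tfCls h8tfStd2
  rw [h8tf_I1 hB hC a b, h2,
    h8tf_cls_calc' _ _ _ _ _ _ (h8tf_comm_28_30 hB hC _ _).symm,
    h8xU_add chevF4 hB 28 (by decide), h8xU_add chevF4 hB 30 (by decide)]
  have e1 : a * b + c = a * b + (R.f d + a * b) := by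
    rw [← h3, h2, h1]
    ring
  have e2 : a ^ 2 * b + d = R.f (R.f d + a * b) ^ 2 := by
    rw [map_add, map_mul, add_pow_two, mul_pow, R.hf, h1]
    have h2' : (2 : K) = 0 := CharTwo.two_eq_zero
    rw [h2', ← h2]
    ring
  rw [e1, e2]

/-- the standard form of an element of the root subgroups of the class of type `A₁ × A₁` -/
def h8tfStd1 (hB : H8Base.{u} chevF4) (t24 t33 : K) : GL chevF4.Idx K :=
  h8xU chevF4 hB 24 t24 * h8xU chevF4 hB 33 t33

include hC in
theorem h8tfStd1_exists (g : GL chevF4.Idx K)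
    (hg : g ∈ Subgroup.closure (h8XLSet chevF4 K [24, 33])) :
    ∃ b a : K, g = h8tfStd1 hB b a := by
  have hstep : ∀ (r : ℕ) (s : K), r ∈ [24, 33] → ∀ b a : K,
      ∃ b' a' : K, h8xU chevF4 hB r s * h8tfStd1 hB b a = h8tfStd1 hB b' a' := by
    intro r s hr b a
    simp only [List.mem_cons, List.not_mem_nil, or_false] at hr
    rcases hr with rfl | rfl
    · refine ⟨s + b, a, ?_⟩
      unfold h8tfStd1
      rw [← mul_assoc, h8xU_add chevF4 hB 24 (by decide)]
    · refine ⟨b, s + a, ?_⟩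
      unfold h8tfStd1
      rw [← mul_assoc, (h8tf_comm_33_24 hB hC s b).eq, mul_assoc,
        h8xU_add chevF4 hB 33 (by decide)]
  induction hg using Subgroup.closure_induction_left with
  | one =>
    refine ⟨0, 0, ?_⟩
    unfold h8tfStd1
    rw [h8xU_zero', h8xU_zero', one_mul]
  | mul_left x hx y _ ih =>
    obtain ⟨b, a, rfl⟩ := ih
    obtain ⟨r, s, hr, hxv⟩ := hx
    have hx' : x = h8xU chevF4 hB r s := Units.ext (by rw [hxv, h8xU_val])
    rw [hx']
    obtain ⟨b', a', e⟩ := hstep r s hr b a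
    exact ⟨b', a', e⟩
  | inv_mul_cancel x hx y _ ih =>
    obtain ⟨b, a, rfl⟩ := ih
    obtain ⟨r, s, hr, hxv⟩ := hx
    have hx' : x = h8xU chevF4 hB r s := Units.ext (by rw [hxv, h8xU_val])
    rw [hx', h8xU_inv]
    obtain ⟨b', a', e⟩ := hstep r (-s) hr b a
    exact ⟨b', a', e⟩

omit [CharP K 2] in
theorem h8tfStd1_eq_ord (b a : K) :
    h8tfStd1 hB b a = h8wordU chevF4 hB (h8ordW chevF4 0 fun r =>
      if r = 24 then b else if r = 33 then a else 0) := by
  unfold h8ordW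
  rw [h8tfLk]
  simp only [List.map_cons, List.map_nil, h8wordU_cons]
  have e0 : h8wordU chevF4 hB ([] : List (ℕ × K)) = 1 := rfl
  rw [e0]
  unfold h8tfStd1
  simp [h8xU_zero']

omit [CharP K 2] in
theorem h8tfStd1_inj (hO2 : H8Ord2 chevF4) (b a b' a' : K)
    (h : h8tfStd1 hB b a = h8tfStd1 hB b' a') : b = b' ∧ a = a' := by
  rw [h8tfStd1_eq_ord, h8tfStd1_eq_ord] at h
  have hun := h8ord_unique chevF4 hB hO2 chevF4.nroots 0 (by omega) _ _ h
  rw [h8tfLk] at hun
  have h24 := hun 24 (by simp)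
  have h33 := hun 33 (by simp)
  simp at h24 h33
  exact ⟨h24, h33⟩

include hC in
/-- the fixed points of the twist on the root subgroups of the class of type `A₁ × A₁` -/
theorem h8tf_X1_fix (hO2 : H8Ord2 chevF4) (g : GL chevF4.Idx K)
    (hg : g ∈ Subgroup.closure (h8XLSet chevF4 K [24, 33])) (hfix : h8tfS R g = g) :
    ∃ t : K, g = h8tfPair R 33 24 t := by
  obtain ⟨b, a, rfl⟩ := h8tfStd1_exists (hB := hB) hC g hg
  unfold h8tfStd1 at hfix
  rw [h8tfS_mul R _ _ (h8xU_mem_group chevF4 hB _ _) (h8xU_mem_group chevF4 hB _ _),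
    h8tfS_xU R 24 (by decide), h8tfS_xU R 33 (by decide), h8tfE_long R 24 rfl,
    h8tfE_short R 33 rfl] at hfix
  have h33 : h8tfRho 33 = 24 := rfl
  have h24 : h8tfRho 24 = 33 := rfl
  rw [h33, h24, (h8tf_comm_33_24 hB hC _ _).eq] at hfix
  obtain ⟨h1, h2⟩ := h8tfStd1_inj hO2 _ _ _ _ hfix
  refine ⟨b, ?_⟩
  unfold h8tfPair h8tfStd1
  rw [h2, (h8tf_comm_33_24 hB hC _ _).eq]

end

end Cfsg.Agent.Lib.helper8
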