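import Mathlib
import Cfsg.Prelude.Def_ChevStructure
import Cfsg.Prelude.Def_ChevF4
import Cfsg.Prelude.Def_LieTwisted
import Cfsg.Agent.Lib.helper8.ChevTF10
import Cfsg.Agent.S1048

set_option autoImplicit false

namespace Cfsg.Agent.Lib.helper8

open Cfsg.Lie Cfsg.Lie.ChevalleyDatum

universe u

variable {K : Type u} [Field K] {hB : H8Base.{u} chevF4}

/-- the data of a twisted fundamental class: a set `J` of nodes and the list `L` of the positive
roots of the subsystem spanned by `J` -/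
structure H8TFJ (J : Set ℕ) (L : List ℕ) : Prop where
  inJ : ∀ r ∈ L, chevF4.IsPosRoot r ∧ chevF4.InRootSub J r
  notJ : ∀ r, chevF4.IsPosRoot r → r ∉ L → ¬ chevF4.InRootSub J r
  rhoL : ∀ r ∈ L, h8tfRho r ∈ L
  rhoJ : ∀ r, chevF4.IsPosRoot r → r ∉ L → h8tfRho r ∉ L

theorem h8tf_inJ_iff (J : Set ℕ) (r : ℕ) :
    chevF4.InRootSub J r ↔ r < 48 ∧ (0 ∉ J → (chevF4.coroot.getD r #[]).getD 0 0 = 0) ∧
      (1 ∉ J → (chevF4.coroot.getD r #[]).getD 1 0 = 0) ∧
      (2 ∉ J → (chevF4.coroot.getD r #[]).getD 2 0 = 0) ∧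
      (3 ∉ J → (chevF4.coroot.getD r #[]).getD 3 0 = 0) := by
  unfold ChevalleyDatum.InRootSub
  constructor
  · rintro ⟨h1, h2⟩
    exact ⟨h1, h2 0 (by decide), h2 1 (by decide), h2 2 (by decide), h2 3 (by decide)⟩
  · rintro ⟨h1, h2, h3, h4, h5⟩
    refine ⟨h1, fun i hi hiJ => ?_⟩
    have hi' : i < 4 := hi
    interval_cases i
    · exact h2 hiJ
    · exact h3 hiJ
    · exact h4 hiJ
    · exact h5 hiJ

set_option synthInstance.maxSize 1000 in
set_option synthInstance.maxHeartbeats 400000 in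
theorem h8tf_J2_tab : ∀ r < 48, (r ∈ [25, 27, 28, 30] → chevF4.IsPosRoot r ∧
    (chevF4.coroot.getD r #[]).getD 0 0 = 0 ∧ (chevF4.coroot.getD r #[]).getD 3 0 = 0 ∧
    h8tfRho r ∈ [25, 27, 28, 30]) ∧
    (chevF4.IsPosRoot r → r ∉ [25, 27, 28, 30] →
      ¬ ((chevF4.coroot.getD r #[]).getD 0 0 = 0 ∧ (chevF4.coroot.getD r #[]).getD 3 0 = 0) ∧
      h8tfRho r ∉ [25, 27, 28, 30]) := by decide +kernel

set_option synthInstance.maxSize 1000 in
set_option synthInstance.maxHeartbeats 400000 in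
theorem h8tf_J1_tab : ∀ r < 48, (r ∈ [24, 33] → chevF4.IsPosRoot r ∧
    (chevF4.coroot.getD r #[]).getD 1 0 = 0 ∧ (chevF4.coroot.getD r #[]).getD 2 0 = 0 ∧
    h8tfRho r ∈ [24, 33]) ∧
    (chevF4.IsPosRoot r → r ∉ [24, 33] →
      ¬ ((chevF4.coroot.getD r #[]).getD 1 0 = 0 ∧ (chevF4.coroot.getD r #[]).getD 2 0 = 0) ∧
      h8tfRho r ∉ [24, 33]) := by decide +kernel

theorem h8tfJ2 : H8TFJ ({1, 2} : Set ℕ) [25, 27, 28, 30] where
  inJ := by
    intro r hr
    have hr48 : r < 48 := by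
      simp only [List.mem_cons, List.not_mem_nil, or_false] at hr
      rcases hr with rfl | rfl | rfl | rfl <;> decide
    obtain ⟨h1, h2, h3, _⟩ := (h8tf_J2_tab r hr48).1 hr
    refine ⟨h1, (h8tf_inJ_iff _ r).mpr ⟨hr48, fun _ => h2, fun h => absurd (by simp) h,
      fun h => absurd (by simp) h, fun _ => h3⟩⟩
  notJ := by
    intro r hr hrL hJ
    obtain ⟨h48, h0, _, _, h3⟩ := (h8tf_inJ_iff _ r).mp hJ
    exact ((h8tf_J2_tab r h48).2 hr hrL).1 ⟨h0 (by simp), h3 (by simp)⟩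
  rhoL := by
    intro r hr
    have hr48 : r < 48 := by
      simp only [List.mem_cons, List.not_mem_nil, or_false] at hr
      rcases hr with rfl | rfl | rfl | rfl <;> decide
    exact ((h8tf_J2_tab r hr48).1 hr).2.2.2
  rhoJ := fun r hr hrL => ((h8tf_J2_tab r hr.1).2 hr hrL).2

theorem h8tfJ1 : H8TFJ ({0, 3} : Set ℕ) [24, 33] where
  inJ := by
    intro r hr
    have hr48 : r < 48 := by
      simp only [List.mem_cons, List.not_mem_nil, or_false] at hr
      rcases hr with rfl | rfl <;> decide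
    obtain ⟨h1, h2, h3, _⟩ := (h8tf_J1_tab r hr48).1 hr
    refine ⟨h1, (h8tf_inJ_iff _ r).mpr ⟨hr48, fun h => absurd (by simp) h, fun _ => h2,
      fun _ => h3, fun h => absurd (by simp) h⟩⟩
  notJ := by
    intro r hr hrL hJ
    obtain ⟨h48, _, h1, h2, _⟩ := (h8tf_inJ_iff _ r).mp hJ
    exact ((h8tf_J1_tab r h48).2 hr hrL).1 ⟨h1 (by simp), h2 (by simp)⟩
  rhoL := by
    intro r hr
    have hr48 : r < 48 := by
      simp only [List.mem_cons, List.not_mem_nil, or_false] at hr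
      rcases hr with rfl | rfl <;> decide
    exact ((h8tf_J1_tab r hr48).1 hr).2.2.2
  rhoJ := fun r hr hrL => ((h8tf_J1_tab r hr.1).2 hr hrL).2

section
variable {J : Set ℕ} {L : List ℕ} (hJ : H8TFJ J L)

theorem h8tf_F4_mem : chevF4 ∈ [chevG2, chevB2, chevD4, chevF4, chevE6, chevE7, chevE8] := by simp

include hJ in
theorem h8tf_XL_le_U : Subgroup.closure (h8XLSet chevF4 K L) ≤ chevF4.posUnipotent K := by
  unfold ChevalleyDatum.posUnipotent
  apply Subgroup.closure_mono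
  rintro g ⟨r, t, hr, hg⟩
  exact ⟨r, t, (hJ.inJ r hr).1, hg⟩

include hJ in
theorem h8tf_XL_le_LJ : Subgroup.closure (h8XLSet chevF4 K L) ≤ chevF4.leviSubgroup K J := by
  unfold ChevalleyDatum.leviSubgroup
  refine le_trans ?_ le_sup_right
  apply Subgroup.closure_mono
  rintro g ⟨r, t, hr, hg⟩
  exact ⟨r, t, (hJ.inJ r hr).2, hg⟩

theorem h8tf_UJ_le_U : chevF4.unipotentRadical K J ≤ chevF4.posUnipotent K := by
  unfold ChevalleyDatum.unipotentRadical ChevalleyDatum.posUnipotent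
  apply Subgroup.closure_mono
  rintro g ⟨r, t, hr, _, hg⟩
  exact ⟨r, t, hr, hg⟩

theorem h8tf_U_le_PJ : chevF4.posUnipotent K ≤ chevF4.parabolicSubgroup K J := by
  unfold ChevalleyDatum.parabolicSubgroup
  exact le_trans (h8U_le_B chevF4) le_sup_left

/-- `U` normalises `U_J` -/
theorem h8tf_U_conj_UJ (g : GL chevF4.Idx K) (hg : g ∈ chevF4.posUnipotent K)
    (y : GL chevF4.Idx K) (hy : y ∈ chevF4.unipotentRadical K J) :
    g * y * g⁻¹ ∈ chevF4.unipotentRadical K J :=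
  (Subgroup.mem_normalizer_iff.mp
    ((Cfsg.Agent.S1048.result (F := K) chevF4 h8tf_F4_mem J).1 (h8tf_U_le_PJ hg)) y).mp hy

include hJ in
/-- the decomposition `U = U_J X_S` -/
theorem h8tf_U_decomp (hB : H8Base.{u} chevF4) (g : GL chevF4.Idx K)
    (hg : g ∈ chevF4.posUnipotent K) :
    ∃ y ∈ chevF4.unipotentRadical K J, ∃ x ∈ Subgroup.closure (h8XLSet chevF4 K L),
      g = y * x := by
  have hstep : ∀ (r : ℕ) (t : K), chevF4.IsPosRoot r →
      ∀ y ∈ chevF4.unipotentRadical K J, ∀ x ∈ Subgroup.closure (h8XLSet chevF4 K L),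
      ∃ y' ∈ chevF4.unipotentRadical K J, ∃ x' ∈ Subgroup.closure (h8XLSet chevF4 K L),
        h8xU chevF4 hB r t * (y * x) = y' * x' := by
    intro r t hr y hy x hx
    by_cases hrL : r ∈ L
    · refine ⟨h8xU chevF4 hB r t * y * (h8xU chevF4 hB r t)⁻¹, ?_, h8xU chevF4 hB r t * x, ?_, ?_⟩
      · apply h8tf_U_conj_UJ _ _ y hy
        unfold ChevalleyDatum.posUnipotent
        exact Subgroup.subset_closure ⟨r, t, hr, h8xU_val chevF4 hB r t⟩
      · exact Subgroup.mul_mem _ (Subgroup.subset_closure ⟨r, t, hrL, h8xU_val chevF4 hB r t⟩) hx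
      · group
    · refine ⟨h8xU chevF4 hB r t * y, ?_, x, hx, by group⟩
      apply Subgroup.mul_mem _ _ hy
      unfold ChevalleyDatum.unipotentRadical
      exact Subgroup.subset_closure ⟨r, t, hr, hJ.notJ r hr hrL, h8xU_val chevF4 hB r t⟩
  unfold ChevalleyDatum.posUnipotent at hg
  induction hg using Subgroup.closure_induction_left with
  | one => exact ⟨1, Subgroup.one_mem _, 1, Subgroup.one_mem _, by group⟩
  | mul_left x hx y _ ih =>
    obtain ⟨y', hy', x', hx', rfl⟩ := ih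
    obtain ⟨r, t, hr, hxv⟩ := hx
    have hxe : x = h8xU chevF4 hB r t := Units.ext (by rw [hxv, h8xU_val])
    rw [hxe]
    exact hstep r t hr y' hy' x' hx'
  | inv_mul_cancel x hx y _ ih =>
    obtain ⟨y', hy', x', hx', rfl⟩ := ih
    obtain ⟨r, t, hr, hxv⟩ := hx
    have hxe : x = h8xU chevF4 hB r t := Units.ext (by rw [hxv, h8xU_val])
    rw [hxe, h8xU_inv]
    exact hstep r (-t) hr y' hy' x' hx'

include hJ in
/-- uniqueness of the decomposition `U = U_J X_S` -/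
theorem h8tf_U_decomp_unique (y y' x x' : GL chevF4.Idx K)
    (hy : y ∈ chevF4.unipotentRadical K J) (hy' : y' ∈ chevF4.unipotentRadical K J)
    (hx : x ∈ Subgroup.closure (h8XLSet chevF4 K L))
    (hx' : x' ∈ Subgroup.closure (h8XLSet chevF4 K L)) (h : y * x = y' * x') :
    y = y' ∧ x = x' := by
  have h1 : y'⁻¹ * y = x' * x⁻¹ := by
    rw [inv_mul_eq_iff_eq_mul, ← mul_assoc, ← h]
    group
  have h2 : y'⁻¹ * y ∈ chevF4.unipotentRadical K J ⊓ chevF4.leviSubgroup K J := by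
    refine Subgroup.mem_inf.mpr ⟨Subgroup.mul_mem _ (Subgroup.inv_mem _ hy') hy, ?_⟩
    rw [h1]
    exact Subgroup.mul_mem _ (h8tf_XL_le_LJ hJ hx') (Subgroup.inv_mem _ (h8tf_XL_le_LJ hJ hx))
  rw [(Cfsg.Agent.S1048.result (F := K) chevF4 h8tf_F4_mem J).2.2, Subgroup.mem_bot] at h2
  have hyy : y = y' := by
    rw [inv_mul_eq_one] at h2
    exact h2.symm
  refine ⟨hyy, ?_⟩
  rw [hyy] at h
  exact mul_left_cancel h

variable [CharP K 2] (R : H8TF K hB)

include hJ in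
theorem h8tfS_UJ (x : GL chevF4.Idx K) (hx : x ∈ chevF4.unipotentRadical K J) :
    h8tfS R x ∈ chevF4.unipotentRadical K J := by
  unfold ChevalleyDatum.unipotentRadical at hx
  refine h8tfS_closure R _ ?_ _ ?_ x hx
  · rintro g ⟨r, t, hr, _, hg⟩
    rw [h8ree_eq_xU chevF4 hB g r t hg]
    exact h8xU_mem_group chevF4 hB _ _
  · rintro g ⟨r, t, hr, hrJ, hg⟩
    rw [h8ree_eq_xU chevF4 hB g r t hg, h8tfS_xU R r hr.1]
    unfold ChevalleyDatum.unipotentRadical
    apply Subgroup.subset_closure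
    have hrL : r ∉ L := fun h => hrJ (hJ.inJ r h).2
    exact ⟨h8tfRho r, _, (h8tfRho_pos r hr.1).1 hr,
      hJ.notJ _ ((h8tfRho_pos r hr.1).1 hr) (hJ.rhoJ r hr hrL), h8xU_val chevF4 hB _ _⟩

include hJ in
theorem h8tfS_XL (x : GL chevF4.Idx K) (hx : x ∈ Subgroup.closure (h8XLSet chevF4 K L)) :
    h8tfS R x ∈ Subgroup.closure (h8XLSet chevF4 K L) := by
  refine h8tfS_closure R _ ?_ _ ?_ x hx
  · rintro g ⟨r, t, hr, hg⟩
    rw [h8ree_eq_xU chevF4 hB g r t hg]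
    exact h8xU_mem_group chevF4 hB _ _
  · rintro g ⟨r, t, hr, hg⟩
    rw [h8ree_eq_xU chevF4 hB g r t hg, h8tfS_xU R r (hJ.inJ r hr).1.1]
    apply Subgroup.subset_closure
    exact ⟨h8tfRho r, _, hJ.rhoL r hr, h8xU_val chevF4 hB _ _⟩

include hJ in
/-- the decomposition `U = U_J X_S` of a fixed point has fixed components -/
theorem h8tf_U_decomp_fix (g : GL chevF4.Idx K) (hg : g ∈ chevF4.posUnipotent K)
    (hfix : h8tfS R g = g) :
    ∃ y ∈ chevF4.unipotentRadical K J, ∃ x ∈ Subgroup.closure (h8XLSet chevF4 K L),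
      g = y * x ∧ h8tfS R y = y ∧ h8tfS R x = x := by
  obtain ⟨y, hy, x, hx, rfl⟩ := h8tf_U_decomp hJ hB g hg
  refine ⟨y, hy, x, hx, rfl, ?_⟩
  have hyG := h8_U_le_group chevF4 (h8tf_UJ_le_U hy)
  have hxG := h8_U_le_group chevF4 (h8tf_XL_le_U hJ hx)
  rw [h8tfS_mul R _ _ hyG hxG] at hfix
  exact h8tf_U_decomp_unique hJ _ _ _ _ (h8tfS_UJ hJ R y hy) hy (h8tfS_XL hJ R x hx) hx hfix

end

end Cfsg.Agent.Lib.helper8
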