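import Mathlib
import Cfsg.Prelude.Def_ChevStructure
import Cfsg.Prelude.Def_ChevF4
import Cfsg.Prelude.Def_LieTwisted
import Cfsg.Agent.Lib.helper8.ChevTF11
import Cfsg.Agent.Lib.helper8.ChevTw1
import Cfsg.Agent.Lib.helper8.ChevRee12

set_option autoImplicit false

namespace Cfsg.Agent.Lib.helper8

open Cfsg.Lie Cfsg.Lie.ChevalleyDatum

universe u

variable {K : Type u} [Field K] {hB : H8Base.{u} chevF4}

/-- the permutation `ρ` of the roots of `F₄` -/
def h8tfRhoF (r : Fin chevF4.nroots) : Fin chevF4.nroots :=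
  ⟨h8tfRho r.val, h8tfRho_lt r.val r.2⟩

/-- the permutation of the roots induced by a fixed element of `N` commutes with `ρ` -/
theorem h8tf_Pi_comm [CharP K 2] (R : H8TF K hB) (hA : H8ReflAll chevF4) (hBN : H8BN chevF4)
    (hW : H8BN2 chevF4) (hO2 : H8Ord2 chevF4) (n : ↥(chevF4.monomialSubgroup K))
    (hfix : h8tfS R n.val = n.val) (r : Fin chevF4.nroots) :
    h8Pi chevF4 hB hA hBN hW hO2 n (h8tfRhoF r) = h8tfRhoF (h8Pi chevF4 hB hA hBN hW hO2 n r) := by
  have hnG : n.val ∈ chevF4.group K := h8_N_le_group chevF4 hB n.2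
  obtain ⟨c, hc, h1⟩ := h8Pi_act chevF4 hB hA hBN hW hO2 n r
  obtain ⟨c', hc', h2⟩ := h8Pi_act chevF4 hB hA hBN hW hO2 n (h8tfRhoF r)
  have e1 := congrArg (h8tfS R) (h1 1)
  rw [h8tfS_mul R _ _ (Subgroup.mul_mem _ hnG (h8xU_mem_group chevF4 hB _ _))
    (Subgroup.inv_mem _ hnG), h8tfS_mul R _ _ hnG (h8xU_mem_group chevF4 hB _ _),
    h8tfS_inv R _ hnG, hfix, h8tfS_xU R _ r.2,
    h8tfS_xU R (h8Pi chevF4 hB hA hBN hW hO2 n r).val (Fin.is_lt _), h8tfE_one] at e1
  have e2 := h2 1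
  have e3 : h8xU chevF4 hB (h8tfRhoF r).val (1 : K) = h8xU chevF4 hB (h8tfRho r.val) 1 := rfl
  rw [e3, e1] at e2
  apply Fin.ext
  have := h8x_inj_root chevF4 hB hA hBN hW hO2 _ _
    (h8tfRho_lt _ (Fin.is_lt (h8Pi chevF4 hB hA hBN hW hO2 n r)))
    (Fin.is_lt (h8Pi chevF4 hB hA hBN hW hO2 n (h8tfRhoF r))) _ _
    (h8tfE_ne_zero R _ _ (by simpa using hc)) (by simpa using hc') e2
  exact this.symm

/-- checker: reflections preserve sums of roots -/
def h8tfAddChk : Bool :=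
  (List.range 4).all fun j => (List.range 48).all fun x => (List.range 48).all fun y =>
    match chevF4.chainRoot x y 1 with
    | some z => decide (chevF4.chainRoot (chevF4.reflectRoot j x) (chevF4.reflectRoot j y) 1 =
        some (chevF4.reflectRoot j z))
    | none => true

theorem h8tfAddChk_eq : h8tfAddChk = true := by decide +kernel

/-- reflections preserve sums of roots -/
theorem h8tfAdd_refl (j : ℕ) (hj : j < 4) (x : ℕ) (hx : x < 48) (y : ℕ) (hy : y < 48) (z : ℕ)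
    (h : chevF4.chainRoot x y 1 = some z) :
    chevF4.chainRoot (chevF4.reflectRoot j x) (chevF4.reflectRoot j y) 1 =
      some (chevF4.reflectRoot j z) := by
  have h0 := h8tfAddChk_eq
  unfold h8tfAddChk at h0
  rw [List.all_eq_true] at h0
  have h1 := h0 j (List.mem_range.mpr hj)
  rw [List.all_eq_true] at h1
  have h2 := h1 x (List.mem_range.mpr hx)
  rw [List.all_eq_true] at h2
  have h3 := h2 y (List.mem_range.mpr hy)
  rw [h] at h3
  exact of_decide_eq_true h3

/-- checker: a sum of negative roots is negative -/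
def h8tfNegChk : Bool :=
  (List.range 48).all fun x => (List.range 48).all fun y =>
    match chevF4.chainRoot x y 1 with
    | some z => !(decide (chevF4.IsNegRoot x) && decide (chevF4.IsNegRoot y)) ||
        decide (chevF4.IsNegRoot z)
    | none => true

theorem h8tfNegChk_eq : h8tfNegChk = true := by decide +kernel

/-- a sum of negative roots is negative -/
theorem h8tfAdd_neg (x : ℕ) (hx : x < 48) (y : ℕ) (hy : y < 48) (z : ℕ)
    (h : chevF4.chainRoot x y 1 = some z) (hnx : chevF4.IsNegRoot x) (hny : chevF4.IsNegRoot y) :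
    chevF4.IsNegRoot z := by
  have h0 := h8tfNegChk_eq
  unfold h8tfNegChk at h0
  rw [List.all_eq_true] at h0
  have h1 := h0 x (List.mem_range.mpr hx)
  rw [List.all_eq_true] at h1
  have h2 := h1 y (List.mem_range.mpr hy)
  rw [h] at h2
  simp only [Bool.or_eq_true, Bool.not_eq_true', Bool.and_eq_false_iff, decide_eq_false_iff_not,
    decide_eq_true_eq] at h2
  rcases h2 with (h2 | h2) | h2
  · exact absurd hnx h2
  · exact absurd hny h2
  · exact h2

theorem h8sW_cons (D : ChevalleyDatum) (i : ℕ) (w : List ℕ) (s : ℕ) :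
    h8sW D (i :: w) s = D.reflectRoot i (h8sW D w s) := rfl

/-- the elements of the Weyl group preserve sums of roots -/
theorem h8tfAdd_word (hA : H8ReflAll chevF4) (w : List ℕ) (hw : ∀ i ∈ w, i < chevF4.rank)
    (x y z : ℕ) (hx : x < 48) (hy : y < 48) (h : chevF4.chainRoot x y 1 = some z) :
    chevF4.chainRoot (h8sW chevF4 w x) (h8sW chevF4 w y) 1 = some (h8sW chevF4 w z) := by
  induction w with
  | nil => exact h
  | cons i w ih =>
    have hw' : ∀ j ∈ w, j < chevF4.rank := fun j hj => hw j (List.mem_cons_of_mem _ hj)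
    have hi : i < 4 := hw i List.mem_cons_self
    have h1 := ih hw'
    have hx' := h8sW_lt chevF4 hA w hw' x hx
    have hy' := h8sW_lt chevF4 hA w hw' y hy
    rw [h8sW_cons, h8sW_cons, h8sW_cons]
    exact h8tfAdd_refl i hi _ hx' _ hy' _ h1

theorem h8tf_w1_comm : ∀ r < 48, h8sW chevF4 [0, 3] (h8tfRho r) = h8tfRho (h8sW chevF4 [0, 3] r) := by
  decide +kernel

theorem h8tf_w2_comm : ∀ r < 48,
    h8sW chevF4 [1, 2, 1, 2] (h8tfRho r) = h8tfRho (h8sW chevF4 [1, 2, 1, 2] r) := by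
  decide +kernel

/-- the first generator of the twisted Weyl group -/
def h8tfW1 (hA : H8ReflAll chevF4) : Equiv.Perm (Fin chevF4.nroots) := h8wPerm chevF4 hA [0, 3]

/-- the second generator of the twisted Weyl group -/
def h8tfW2 (hA : H8ReflAll chevF4) : Equiv.Perm (Fin chevF4.nroots) :=
  h8wPerm chevF4 hA [1, 2, 1, 2]

theorem h8tfW1_comm (hA : H8ReflAll chevF4) (r : Fin chevF4.nroots) :
    h8tfW1 hA (h8tfRhoF r) = h8tfRhoF (h8tfW1 hA r) := by
  apply Fin.ext
  unfold h8tfW1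
  rw [h8wPerm_val chevF4 hA _ (by decide)]
  show _ = h8tfRho (h8wPerm chevF4 hA [0, 3] r).val
  rw [h8wPerm_val chevF4 hA _ (by decide)]
  exact h8tf_w1_comm r.val r.2

theorem h8tfW2_comm (hA : H8ReflAll chevF4) (r : Fin chevF4.nroots) :
    h8tfW2 hA (h8tfRhoF r) = h8tfRhoF (h8tfW2 hA r) := by
  apply Fin.ext
  unfold h8tfW2
  rw [h8wPerm_val chevF4 hA _ (by decide)]
  show _ = h8tfRho (h8wPerm chevF4 hA [1, 2, 1, 2] r).val
  rw [h8wPerm_val chevF4 hA _ (by decide)]
  exact h8tf_w2_comm r.val r.2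

theorem h8tfW1_mem (hA : H8ReflAll chevF4) : h8tfW1 hA ∈ h8W chevF4 hA :=
  (h8W_mem_iff chevF4 hA _).mpr ⟨_, by decide, rfl⟩

theorem h8tfW2_mem (hA : H8ReflAll chevF4) : h8tfW2 hA ∈ h8W chevF4 hA :=
  (h8W_mem_iff chevF4 hA _).mpr ⟨_, by decide, rfl⟩

theorem h8tf_notpos_neg (hB0 : H8Base.{0} chevF4) (r : ℕ) (hr : r < 48)
    (h : ¬ chevF4.IsPosRoot r) : chevF4.IsNegRoot r := by
  rcases hB0.posneg r hr with hp | hn
  · exact absurd hp h
  · exact hn

theorem h8tf_neg_notpos (hB0 : H8Base.{0} chevF4) (hBN : H8BN chevF4) (r : ℕ)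
    (h : chevF4.IsNegRoot r) : ¬ chevF4.IsPosRoot r :=
  fun hp => h8pos_not_neg chevF4 hB0 hBN r hp h

theorem h8tf_refl_tab : chevF4.reflectRoot 0 24 = 24 ∧ chevF4.reflectRoot 1 25 = 30 ∧
    chevF4.reflectRoot 2 27 = 28 ∧ chevF4.reflectRoot 1 28 = 28 ∧ chevF4.reflectRoot 2 30 = 30 ∧
    chevF4.reflectRoot 1 30 = 25 ∧ chevF4.chainRoot 27 25 1 = some 28 ∧
    chevF4.chainRoot 27 28 1 = some 30 := by decide +kernel

end Cfsg.Agent.Lib.helper8
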