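import Mathlib
import Cfsg.Prelude.Def_ChevStructure
import Cfsg.Prelude.Def_ChevF4
import Cfsg.Prelude.Def_LieTwisted
import Cfsg.Agent.Lib.helper8.ChevTF12
import Cfsg.Agent.Lib.helper8.ChevTw2

set_option autoImplicit false

namespace Cfsg.Agent.Lib.helper8

open Cfsg.Lie Cfsg.Lie.ChevalleyDatum

universe u

section
variable (hB0 : H8Base.{0} chevF4) (hA : H8ReflAll chevF4) (hBN : H8BN chevF4)
  (hW : H8BN2 chevF4) (hO2 : H8Ord2 chevF4)

include hB0 in
/-- an element of the Weyl group maps a sum of two roots made negative to a negative root -/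
theorem h8tf_W_add_neg (v : Equiv.Perm (Fin chevF4.nroots)) (hv : v ∈ h8W chevF4 hA)
    (x y z : Fin chevF4.nroots) (h : chevF4.chainRoot x.val y.val 1 = some z.val)
    (hx : ¬ chevF4.IsPosRoot (v x).val) (hy : ¬ chevF4.IsPosRoot (v y).val) :
    chevF4.IsNegRoot (v z).val := by
  obtain ⟨w, hw, rfl⟩ := (h8W_mem_iff chevF4 hA v).mp hv
  rw [h8wPerm_val chevF4 hA w hw] at hx hy ⊢
  have hx' := h8sW_lt chevF4 hA w hw x.val x.2
  have hy' := h8sW_lt chevF4 hA w hw y.val y.2
  exact h8tfAdd_neg _ hx' _ hy' _ (h8tfAdd_word hA w hw _ _ _ x.2 y.2 h)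
    (h8tf_notpos_neg hB0 _ hx' hx) (h8tf_notpos_neg hB0 _ hy' hy)

theorem h8tf_sPerm_eq (i : ℕ) (hi : i < 4) (r r' : Fin chevF4.nroots)
    (h : chevF4.reflectRoot i r.val = r'.val) : h8sPerm chevF4 hA i r = r' := by
  apply Fin.ext
  rw [h8sPerm_val chevF4 hA i hi, h]

theorem h8tf_simF (i : Fin chevF4.rank) (r : Fin chevF4.nroots)
    (h : chevF4.simple i.val = r.val) : h8simF chevF4 hBN i = r := Fin.ext h

theorem h8tfRhoF_pos (r : Fin chevF4.nroots) :
    chevF4.IsPosRoot (h8tfRhoF r).val ↔ chevF4.IsPosRoot r.val := by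
  constructor
  · intro h
    have := (h8tfRho_pos _ (h8tfRho_lt r.val r.2)).1 h
    rwa [h8tfRho_invol r.val r.2] at this
  · exact (h8tfRho_pos r.val r.2).1

include hB0 hBN hW hO2 in
/-- the centraliser of `ρ` in the Weyl group is generated by `w₁` and `w₂` -/
theorem h8tf_cent : ∀ (n : ℕ) (v : Equiv.Perm (Fin chevF4.nroots)), v ∈ h8W chevF4 hA →
    (∀ r, v (h8tfRhoF r) = h8tfRhoF (v r)) → h8Ninv chevF4 v = n →
    v ∈ Subgroup.closure {h8tfW1 hA, h8tfW2 hA} := by
  intro n
  induction n using Nat.strong_induction_on with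
  | _ n ih =>
    intro v hv hcomm hn
    have hs0 : h8simF chevF4 hBN ⟨0, by decide⟩ = ⟨33, by decide⟩ := Fin.ext rfl
    have hs1 : h8simF chevF4 hBN ⟨1, by decide⟩ = ⟨27, by decide⟩ := Fin.ext rfl
    have hs2 : h8simF chevF4 hBN ⟨2, by decide⟩ = ⟨25, by decide⟩ := Fin.ext rfl
    have hs3 : h8simF chevF4 hBN ⟨3, by decide⟩ = ⟨24, by decide⟩ := Fin.ext rfl
    have hr33 : h8tfRhoF ⟨33, by decide⟩ = ⟨24, by decide⟩ := Fin.ext (by decide)
    have hr27 : h8tfRhoF ⟨27, by decide⟩ = ⟨25, by decide⟩ := Fin.ext (by decide)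
    obtain ⟨t1, t2, t3, t4, t5, t6, t7, t8⟩ := h8tf_refl_tab
    by_cases h1 : chevF4.IsPosRoot (v ⟨33, by decide⟩).val
    · by_cases h2 : chevF4.IsPosRoot (v ⟨27, by decide⟩).val
      · -- all simple roots stay positive
        have : v = 1 := by
          apply h8W_simple_pos chevF4 hB0 hA hBN hW hO2 v hv
          intro i
          have hi : i = ⟨0, by decide⟩ ∨ i = ⟨1, by decide⟩ ∨ i = ⟨2, by decide⟩ ∨
              i = ⟨3, by decide⟩ := by
            rcases i with ⟨i, hi⟩
            have : i < 4 := hi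
            interval_cases i
            · left; rfl
            · right; left; rfl
            · right; right; left; rfl
            · right; right; right; rfl
          rcases hi with rfl | rfl | rfl | rfl
          · rw [hs0]; exact h1
          · rw [hs1]; exact h2
          · rw [hs2, ← hr27, hcomm]; exact (h8tfRhoF_pos _).mpr h2
          · rw [hs3, ← hr33, hcomm]; exact (h8tfRhoF_pos _).mpr h1
        rw [this]
        exact Subgroup.one_mem _
      · -- the class of type B₂ is made negative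
        have h25 : ¬ chevF4.IsPosRoot (v ⟨25, by decide⟩).val := by
          rw [← hr27, hcomm]
          exact fun h => h2 ((h8tfRhoF_pos _).mp h)
        have h28 : ¬ chevF4.IsPosRoot (v ⟨28, by decide⟩).val :=
          h8tf_neg_notpos hB0 hBN _ (h8tf_W_add_neg hB0 hA v hv ⟨27, by decide⟩ ⟨25, by decide⟩
            ⟨28, by decide⟩ t7 h2 h25)
        have h30 : ¬ chevF4.IsPosRoot (v ⟨30, by decide⟩).val :=
          h8tf_neg_notpos hB0 hBN _ (h8tf_W_add_neg hB0 hA v hv ⟨27, by decide⟩ ⟨28, by decide⟩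
            ⟨30, by decide⟩ t8 h2 h28)
        have hsm : ∀ i, i < chevF4.rank → h8sPerm chevF4 hA i ∈ h8W chevF4 hA := fun i hi =>
          Subgroup.subset_closure ⟨i, hi, rfl⟩
        have e1 : h8sPerm chevF4 hA 1 ⟨25, by decide⟩ = ⟨30, by decide⟩ :=
          h8tf_sPerm_eq hA 1 (by decide) _ _ t2
        have e2 : h8sPerm chevF4 hA 2 ⟨27, by decide⟩ = ⟨28, by decide⟩ :=
          h8tf_sPerm_eq hA 2 (by decide) _ _ t3
        have e3 : h8sPerm chevF4 hA 1 ⟨28, by decide⟩ = ⟨28, by decide⟩ :=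
          h8tf_sPerm_eq hA 1 (by decide) _ _ t4
        have e4 : h8sPerm chevF4 hA 2 ⟨30, by decide⟩ = ⟨30, by decide⟩ :=
          h8tf_sPerm_eq hA 2 (by decide) _ _ t5
        have e5 : h8sPerm chevF4 hA 1 ⟨30, by decide⟩ = ⟨25, by decide⟩ :=
          h8tf_sPerm_eq hA 1 (by decide) _ _ t6
        have hv1 := Subgroup.mul_mem _ hv (hsm 1 (by decide))
        have hv2 := Subgroup.mul_mem _ hv1 (hsm 2 (by decide))
        have hv3 := Subgroup.mul_mem _ hv2 (hsm 1 (by decide))
        have l1 := h8Ninv_mul_simple chevF4 hB0 hA hBN hW hO2 v hv ⟨1, by decide⟩ (by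
          rw [hs1]; exact h2)
        have l2 := h8Ninv_mul_simple chevF4 hB0 hA hBN hW hO2 _ hv1 ⟨2, by decide⟩ (by
          rw [hs2, Equiv.Perm.mul_apply, e1]; exact h30)
        have l3 := h8Ninv_mul_simple chevF4 hB0 hA hBN hW hO2 _ hv2 ⟨1, by decide⟩ (by
          rw [hs1, Equiv.Perm.mul_apply, Equiv.Perm.mul_apply, e2, e3]; exact h28)
        have l4 := h8Ninv_mul_simple chevF4 hB0 hA hBN hW hO2 _ hv3 ⟨2, by decide⟩ (by
          rw [hs2, Equiv.Perm.mul_apply, Equiv.Perm.mul_apply, Equiv.Perm.mul_apply, e1, e4, e5]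
          exact h25)
        have ew : v * h8tfW2 hA = v * h8sPerm chevF4 hA 1 * h8sPerm chevF4 hA 2 *
            h8sPerm chevF4 hA 1 * h8sPerm chevF4 hA 2 := by
          unfold h8tfW2
          rw [h8wPerm_cons', h8wPerm_cons', h8wPerm_cons', h8wPerm_cons']
          have : h8wPerm chevF4 hA [] = 1 := rfl
          rw [this, mul_one]
          simp only [mul_assoc]
        have hlt : h8Ninv chevF4 (v * h8tfW2 hA) < n := by
          rw [ew]
          simp only at l1 l2 l3 l4
          omega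
        have hmem := ih _ hlt (v * h8tfW2 hA) (Subgroup.mul_mem _ hv (h8tfW2_mem hA)) (by
          intro r
          rw [Equiv.Perm.mul_apply, Equiv.Perm.mul_apply, h8tfW2_comm, hcomm]) rfl
        have : v = (v * h8tfW2 hA) * (h8tfW2 hA)⁻¹ := by group
        rw [this]
        exact Subgroup.mul_mem _ hmem (Subgroup.inv_mem _ (Subgroup.subset_closure (by simp)))
    · -- the class of type A₁ × A₁ is made negative
      have h24 : ¬ chevF4.IsPosRoot (v ⟨24, by decide⟩).val := by
        rw [← hr33, hcomm]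
        exact fun h => h1 ((h8tfRhoF_pos _).mp h)
      have hsm : ∀ i, i < chevF4.rank → h8sPerm chevF4 hA i ∈ h8W chevF4 hA := fun i hi =>
        Subgroup.subset_closure ⟨i, hi, rfl⟩
      have e1 : h8sPerm chevF4 hA 0 ⟨24, by decide⟩ = ⟨24, by decide⟩ :=
        h8tf_sPerm_eq hA 0 (by decide) _ _ t1
      have hv1 := Subgroup.mul_mem _ hv (hsm 0 (by decide))
      have l1 := h8Ninv_mul_simple chevF4 hB0 hA hBN hW hO2 v hv ⟨0, by decide⟩ (by
        rw [hs0]; exact h1)
      have l2 := h8Ninv_mul_simple chevF4 hB0 hA hBN hW hO2 _ hv1 ⟨3, by decide⟩ (by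
        rw [hs3, Equiv.Perm.mul_apply, e1]; exact h24)
      have ew : v * h8tfW1 hA = v * h8sPerm chevF4 hA 0 * h8sPerm chevF4 hA 3 := by
        unfold h8tfW1
        rw [h8wPerm_cons', h8wPerm_cons']
        have : h8wPerm chevF4 hA [] = 1 := rfl
        rw [this, mul_one]
        simp only [mul_assoc]
      have hlt : h8Ninv chevF4 (v * h8tfW1 hA) < n := by
        rw [ew]
        simp only at l1 l2
        omega
      have hmem := ih _ hlt (v * h8tfW1 hA) (Subgroup.mul_mem _ hv (h8tfW1_mem hA)) (by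
        intro r
        rw [Equiv.Perm.mul_apply, Equiv.Perm.mul_apply, h8tfW1_comm, hcomm]) rfl
      have : v = (v * h8tfW1 hA) * (h8tfW1 hA)⁻¹ := by group
      rw [this]
      exact Subgroup.mul_mem _ hmem (Subgroup.inv_mem _ (Subgroup.subset_closure (by simp)))

end

end Cfsg.Agent.Lib.helper8
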