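import Mathlib

set_option autoImplicit false

namespace Cfsg.Agent.Lib.helper8

open DihedralGroup

section
variable {G : Type*} [Group G] {n : ℕ} [NeZero n] (a c : G)

theorem h8dih_pow_add (hc : c ^ n = 1) (i j : ZMod n) :
    c ^ (i + j).val = c ^ i.val * c ^ j.val := by
  rw [ZMod.val_add, ← pow_add]
  exact (pow_eq_pow_mod _ hc).symm

theorem h8dih_pow_sub (hc : c ^ n = 1) (i j : ZMod n) :
    c ^ (j - i).val = (c ^ i.val)⁻¹ * c ^ j.val := by
  have h := h8dih_pow_add c hc (j - i) i
  rw [sub_add_cancel] at h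
  have hcm : c ^ (j - i).val * c ^ i.val = c ^ i.val * c ^ (j - i).val := by
    rw [← pow_add, ← pow_add, add_comm]
  rw [h, hcm, inv_mul_cancel_left]

theorem h8dih_conj_pow (ha : a * a = 1) (hac : a * c * a = c⁻¹) (k : ℕ) :
    a * c ^ k * a = (c ^ k)⁻¹ := by
  have hai : a⁻¹ = a := inv_eq_of_mul_eq_one_right ha
  have := conj_pow (a := a) (b := c) (i := k)
  rw [hai, hac] at this
  rw [← this, inv_pow]

/-- the homomorphism from a dihedral group defined by a reflection and a rotation -/
noncomputable def h8dihHom (ha : a * a = 1) (hc : c ^ n = 1) (hac : a * c * a = c⁻¹) :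
    DihedralGroup n →* G :=
  MonoidHom.mk' (fun x => match x with
    | r i => c ^ i.val
    | sr i => a * c ^ i.val) (by
    intro x y
    rcases x with i | i <;> rcases y with j | j
    · show c ^ (i + j).val = c ^ i.val * c ^ j.val
      exact h8dih_pow_add c hc i j
    · show a * c ^ (j - i).val = c ^ i.val * (a * c ^ j.val)
      rw [h8dih_pow_sub c hc, ← h8dih_conj_pow a c ha hac]
      have : a * (a * c ^ i.val * a * c ^ j.val) = (a * a) * c ^ i.val * (a * c ^ j.val) := by group
      rw [this, ha, one_mul]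
    · show a * c ^ (i + j).val = a * c ^ i.val * c ^ j.val
      rw [h8dih_pow_add c hc, mul_assoc]
    · show c ^ (j - i).val = a * c ^ i.val * (a * c ^ j.val)
      rw [h8dih_pow_sub c hc, ← h8dih_conj_pow a c ha hac]
      group)

theorem h8dihHom_r (ha : a * a = 1) (hc : c ^ n = 1) (hac : a * c * a = c⁻¹) (i : ZMod n) :
    h8dihHom a c ha hc hac (r i) = c ^ i.val := rfl

theorem h8dihHom_sr (ha : a * a = 1) (hc : c ^ n = 1) (hac : a * c * a = c⁻¹) (i : ZMod n) :
    h8dihHom a c ha hc hac (sr i) = a * c ^ i.val := rfl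

theorem h8dihHom_injective (ha : a * a = 1) (hc : c ^ n = 1) (hac : a * c * a = c⁻¹)
    (hord : orderOf c = n) (hn : 2 < n) : Function.Injective (h8dihHom a c ha hc hac) := by
  rw [injective_iff_map_eq_one]
  intro x hx
  rcases x with i | i
  · rw [h8dihHom_r] at hx
    have hdvd : n ∣ i.val := by
      have := orderOf_dvd_of_pow_eq_one hx
      rwa [hord] at this
    have hlt : i.val < n := ZMod.val_lt i
    have h0 : i.val = 0 := Nat.eq_zero_of_dvd_of_lt hdvd hlt
    have : i = 0 := by
      rw [← ZMod.natCast_zmod_val i, h0, Nat.cast_zero]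
    rw [this]
    rfl
  · exfalso
    rw [h8dihHom_sr] at hx
    have hai : a = (c ^ i.val)⁻¹ := eq_inv_of_mul_eq_one_left hx
    have hcomm : a * c = c * a := by
      rw [hai]
      have : Commute (c ^ i.val)⁻¹ c := ((Commute.refl c).pow_left _).inv_left
      exact this.eq
    have h2 : c * c = 1 := by
      have h3 : a * c * a = c := by rw [hcomm, mul_assoc, ha, mul_one]
      rw [h3] at hac
      calc c * c = c * c⁻¹ := by rw [← hac]
        _ = 1 := mul_inv_cancel c
    have : orderOf c ∣ 2 := orderOf_dvd_of_pow_eq_one (by rw [pow_two]; exact h2)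
    rw [hord] at this
    have := Nat.le_of_dvd (by norm_num) this
    omega

theorem h8dihHom_range (ha : a * a = 1) (hc : c ^ n = 1) (hac : a * c * a = c⁻¹) :
    (h8dihHom a c ha hc hac).range = Subgroup.closure {a, c} := by
  apply le_antisymm
  · rintro _ ⟨x, rfl⟩
    rcases x with i | i
    · rw [h8dihHom_r]
      exact Subgroup.pow_mem _ (Subgroup.subset_closure (by simp)) _
    · rw [h8dihHom_sr]
      exact Subgroup.mul_mem _ (Subgroup.subset_closure (by simp))
        (Subgroup.pow_mem _ (Subgroup.subset_closure (by simp)) _)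
  · rw [Subgroup.closure_le]
    rintro x (rfl | rfl)
    · refine ⟨sr 0, ?_⟩
      rw [h8dihHom_sr, ZMod.val_zero, pow_zero, mul_one]
    · refine ⟨r 1, ?_⟩
      rw [h8dihHom_r]
      have hn1 : 1 < n ∨ n = 1 := by
        have := NeZero.ne n
        omega
      rcases hn1 with h | h
      · haveI : Fact (1 < n) := ⟨h⟩
        rw [ZMod.val_one, pow_one]
      · subst h
        rw [pow_one] at hc
        rw [hc]
        simp

end

end Cfsg.Agent.Lib.helper8
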