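import Mathlib
import Cfsg.Prelude.Def_ChevStructure
import Cfsg.Prelude.Def_ChevF4
import Cfsg.Prelude.Def_LieTwisted
import Cfsg.Agent.Lib.helper8.ChevTF13
import Cfsg.Agent.Lib.helper8.ChevTF14
import Cfsg.Agent.Lib.helper8.ChevTw7

set_option autoImplicit false

namespace Cfsg.Agent.Lib.helper8

open Cfsg.Lie Cfsg.Lie.ChevalleyDatum

universe u

theorem h8tf_wPerm_eq_one (hA : H8ReflAll chevF4) (w : List ℕ) (hw : ∀ i ∈ w, i < chevF4.rank)
    (h : ∀ r < 48, h8sW chevF4 w r = r) : h8wPerm chevF4 hA w = 1 := by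
  apply Equiv.ext
  intro r
  apply Fin.ext
  rw [h8wPerm_val chevF4 hA w hw]
  exact h r.val r.2

theorem h8tf_w1sq_tab : ∀ r < 48, h8sW chevF4 ([0, 3] ++ [0, 3]) r = r := by decide +kernel

theorem h8tf_w2sq_tab : ∀ r < 48, h8sW chevF4 ([1, 2, 1, 2] ++ [1, 2, 1, 2]) r = r := by
  decide +kernel

theorem h8tf_c8_tab : ∀ r < 48, h8sW chevF4 (h8repW ([0, 3] ++ [1, 2, 1, 2]) 8) r = r := by
  decide +kernel

theorem h8tf_c4_tab : h8sW chevF4 (h8repW ([0, 3] ++ [1, 2, 1, 2]) 4) 33 ≠ 33 := by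
  decide +kernel

theorem h8tfW1_sq (hA : H8ReflAll chevF4) : h8tfW1 hA * h8tfW1 hA = 1 := by
  unfold h8tfW1
  rw [← h8wPerm_append]
  exact h8tf_wPerm_eq_one hA _ (by decide) h8tf_w1sq_tab

theorem h8tfW2_sq (hA : H8ReflAll chevF4) : h8tfW2 hA * h8tfW2 hA = 1 := by
  unfold h8tfW2
  rw [← h8wPerm_append]
  exact h8tf_wPerm_eq_one hA _ (by decide) h8tf_w2sq_tab

theorem h8tfC_pow8 (hA : H8ReflAll chevF4) : (h8tfW1 hA * h8tfW2 hA) ^ 8 = 1 := by
  unfold h8tfW1 h8tfW2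
  rw [← h8wPerm_append, ← h8wPerm_repW]
  exact h8tf_wPerm_eq_one hA _ (by decide) h8tf_c8_tab

theorem h8tfC_pow4 (hA : H8ReflAll chevF4) : (h8tfW1 hA * h8tfW2 hA) ^ 4 ≠ 1 := by
  unfold h8tfW1 h8tfW2
  rw [← h8wPerm_append, ← h8wPerm_repW]
  intro h
  have := congrArg (fun v : Equiv.Perm (Fin chevF4.nroots) => (v ⟨33, by decide⟩).val) h
  simp only [Equiv.Perm.coe_one, id_eq] at this
  rw [h8wPerm_val chevF4 hA _ (by decide)] at this
  exact h8tf_c4_tab this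

theorem h8tfC_order (hA : H8ReflAll chevF4) : orderOf (h8tfW1 hA * h8tfW2 hA) = 8 := by
  have := orderOf_eq_prime_pow (p := 2) (n := 2) (x := h8tfW1 hA * h8tfW2 hA)
    (by norm_num; exact h8tfC_pow4 hA) (by norm_num; exact h8tfC_pow8 hA)
  rw [this]
  norm_num

theorem h8tfC_conj (hA : H8ReflAll chevF4) :
    h8tfW1 hA * (h8tfW1 hA * h8tfW2 hA) * h8tfW1 hA = (h8tfW1 hA * h8tfW2 hA)⁻¹ := by
  rw [eq_inv_iff_mul_eq_one]
  have h1 := h8tfW1_sq hA
  have h2 := h8tfW2_sq hA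
  calc h8tfW1 hA * (h8tfW1 hA * h8tfW2 hA) * h8tfW1 hA * (h8tfW1 hA * h8tfW2 hA)
      = (h8tfW1 hA * h8tfW1 hA) * h8tfW2 hA * (h8tfW1 hA * h8tfW1 hA) * h8tfW2 hA := by group
    _ = 1 := by rw [h1, one_mul, mul_one, h2]

/-- the isomorphism of the dihedral group of order 16 onto the twisted Weyl group -/
noncomputable def h8tfDih (hA : H8ReflAll chevF4) :
    DihedralGroup 8 →* Equiv.Perm (Fin chevF4.nroots) :=
  h8dihHom (h8tfW1 hA) (h8tfW1 hA * h8tfW2 hA) (h8tfW1_sq hA) (h8tfC_pow8 hA) (h8tfC_conj hA)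

theorem h8tfDih_injective (hA : H8ReflAll chevF4) : Function.Injective (h8tfDih hA) :=
  h8dihHom_injective _ _ _ _ _ (h8tfC_order hA) (by norm_num)

theorem h8tfDih_range (hA : H8ReflAll chevF4) :
    (h8tfDih hA).range = Subgroup.closure {h8tfW1 hA, h8tfW2 hA} := by
  unfold h8tfDih
  rw [h8dihHom_range]
  apply le_antisymm
  · rw [Subgroup.closure_le]
    rintro x (rfl | rfl)
    · exact Subgroup.subset_closure (by simp)
    · exact Subgroup.mul_mem _ (Subgroup.subset_closure (by simp))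
        (Subgroup.subset_closure (by simp))
  · rw [Subgroup.closure_le]
    rintro x (rfl | rfl)
    · exact Subgroup.subset_closure (by simp)
    · have : h8tfW2 hA = (h8tfW1 hA)⁻¹ * (h8tfW1 hA * h8tfW2 hA) := by group
      rw [this]
      exact Subgroup.mul_mem _ (Subgroup.inv_mem _ (Subgroup.subset_closure (by simp)))
        (Subgroup.subset_closure (by simp))

end Cfsg.Agent.Lib.helper8
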