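import Mathlib
import Cfsg.Prelude.Def_ChevStructure
import Cfsg.Prelude.Def_ChevF4
import Cfsg.Prelude.Def_LieTwisted
import Cfsg.Agent.Lib.helper8.ChevTF15
import Cfsg.Agent.Lib.helper8.ChevCent2

set_option autoImplicit false

namespace Cfsg.Agent.Lib.helper8

open Cfsg.Lie Cfsg.Lie.ChevalleyDatum

universe u

variable {K : Type u} [Field K] {hB : H8Base.{u} chevF4}

theorem h8tf_ct_pair : ∀ r ∈ [33, 14], ∀ s ∈ [24, 23], chevF4.commTerms r s = [] := by
  decide +kernel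

theorem h8tf_comm_pm (hC : H8CommAll.{u} chevF4) (r s : ℕ) (hr : r ∈ [33, 14])
    (hs : s ∈ [24, 23]) (a b : K) : Commute (h8xU chevF4 hB r a) (h8xU chevF4 hB s b) := by
  have h := h8tf_ct_pair r hr s hs
  have hr' : r < chevF4.nroots ∧ s < chevF4.nroots ∧ s ≠ r ∧ s ≠ chevF4.negIdx.getD r 0 := by
    simp only [List.mem_cons, List.not_mem_nil, or_false] at hr hs
    rcases hr with rfl | rfl <;> rcases hs with rfl | rfl <;> decide
  exact h8xU_commute chevF4 hB hC r s hr'.1 hr'.2.1 hr'.2.2.1 hr'.2.2.2 h a b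

/-- an element `n_{p₁}(a) n_{p₄}(b)` as a product of three commuting pairs -/
theorem h8tf_nn_eq (hC : H8CommAll.{u} chevF4) (a b : K) :
    h8nU chevF4 hB 33 a * h8nU chevF4 hB 24 b =
      (h8xU chevF4 hB 33 a * h8xU chevF4 hB 24 b) *
        (h8xU chevF4 hB 14 (-a⁻¹) * h8xU chevF4 hB 23 (-b⁻¹)) *
        (h8xU chevF4 hB 33 a * h8xU chevF4 hB 24 b) := by
  rw [h8nU_eq, h8nU_eq]
  have n33 : chevF4.negIdx.getD 33 0 = 14 := by decide
  have n24 : chevF4.negIdx.getD 24 0 = 23 := by decide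
  rw [n33, n24]
  have c1 := (h8tf_comm_pm (hB := hB) hC 33 24 (by decide) (by decide) a b).eq
  have c2 := (h8tf_comm_pm (hB := hB) hC 14 24 (by decide) (by decide) (-a⁻¹) b).eq
  have c3 := (h8tf_comm_pm (hB := hB) hC 33 23 (by decide) (by decide) a (-b⁻¹)).eq
  calc h8xU chevF4 hB 33 a * h8xU chevF4 hB 14 (-a⁻¹) * h8xU chevF4 hB 33 a *
        (h8xU chevF4 hB 24 b * h8xU chevF4 hB 23 (-b⁻¹) * h8xU chevF4 hB 24 b)
      = h8xU chevF4 hB 33 a * h8xU chevF4 hB 14 (-a⁻¹) * (h8xU chevF4 hB 33 a *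
        h8xU chevF4 hB 24 b) * h8xU chevF4 hB 23 (-b⁻¹) * h8xU chevF4 hB 24 b := by group
    _ = h8xU chevF4 hB 33 a * (h8xU chevF4 hB 14 (-a⁻¹) * h8xU chevF4 hB 24 b) *
        (h8xU chevF4 hB 33 a * h8xU chevF4 hB 23 (-b⁻¹)) * h8xU chevF4 hB 24 b := by
      rw [c1]; group
    _ = h8xU chevF4 hB 33 a * (h8xU chevF4 hB 24 b * h8xU chevF4 hB 14 (-a⁻¹)) *
        (h8xU chevF4 hB 23 (-b⁻¹) * h8xU chevF4 hB 33 a) * h8xU chevF4 hB 24 b := by
      rw [c2, c3]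
    _ = _ := by group

section
variable [CharP K 2] (R : H8TF K hB) (hC : H8CommAll.{u} chevF4)

include hC in
theorem h8tf_nn_mem (e : ℕ) (hfe : ∀ t : K, R.f t = t ^ e) (t : K) :
    h8nU chevF4 hB 33 (R.f t) * h8nU chevF4 hB 24 t ∈ twistedF4 K e := by
  rw [h8tf_nn_eq hC, CharTwo.neg_eq, CharTwo.neg_eq, ← map_inv₀]
  exact Subgroup.mul_mem _ (Subgroup.mul_mem _ (h8tfPair_mem R e hfe t)
    (h8tfPair_mem' R e hfe t⁻¹)) (h8tfPair_mem R e hfe t)

theorem h8tf_nWU_03 : (h8nWU chevF4 hB [0, 3] : GL chevF4.Idx K) =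
    h8nU chevF4 hB 33 1 * h8nU chevF4 hB 24 1 := by
  unfold h8nWU
  simp only [List.map_cons, List.map_nil, List.prod_cons, List.prod_nil, mul_one]
  rfl

include hC in
/-- the representative `n₁` of the first generator of the twisted Weyl group lies in `²F₄` -/
theorem h8tf_n1_mem (e : ℕ) (hfe : ∀ t : K, R.f t = t ^ e) :
    (h8nWU chevF4 hB [0, 3] : GL chevF4.Idx K) ∈ twistedF4 K e := by
  rw [h8tf_nWU_03]
  have := h8tf_nn_mem R hC e hfe 1
  rwa [map_one] at this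

include hC in
/-- the torus elements of the first class lie in `²F₄` -/
theorem h8tf_torus1_mem (e : ℕ) (hfe : ∀ t : K, R.f t = t ^ e) (t : K) :
    h8hU chevF4 hB 33 (R.f t) * h8hU chevF4 hB 24 t ∈ twistedF4 K e := by
  rw [h8hU_eq_nn', h8hU_eq_nn']
  have hcomm : ∀ t : K, Commute (h8nU chevF4 hB 33 (1 : K))⁻¹ (h8nU chevF4 hB 24 t) := by
    intro t
    apply Commute.inv_left
    rw [h8nU_eq, h8nU_eq]
    have n33 : chevF4.negIdx.getD 33 0 = 14 := by decide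
    have n24 : chevF4.negIdx.getD 24 0 = 23 := by decide
    rw [n33, n24]
    have c := fun (r s : ℕ) (hr : r ∈ [33, 14]) (hs : s ∈ [24, 23]) (a b : K) =>
      h8tf_comm_pm (hB := hB) hC r s hr hs a b
    exact ((((c 33 24 (by decide) (by decide) _ _).mul_left
      (c 14 24 (by decide) (by decide) _ _)).mul_left (c 33 24 (by decide) (by decide) _ _)).mul_right
      (((c 33 23 (by decide) (by decide) _ _).mul_left
      (c 14 23 (by decide) (by decide) _ _)).mul_left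
      (c 33 23 (by decide) (by decide) _ _))).mul_right
      (((c 33 24 (by decide) (by decide) _ _).mul_left
      (c 14 24 (by decide) (by decide) _ _)).mul_left (c 33 24 (by decide) (by decide) _ _))
  have e1 : h8nU chevF4 hB 33 (R.f t) * (h8nU chevF4 hB 33 1)⁻¹ *
      (h8nU chevF4 hB 24 t * (h8nU chevF4 hB 24 1)⁻¹) =
      (h8nU chevF4 hB 33 (R.f t) * h8nU chevF4 hB 24 t) *
        (h8nU chevF4 hB 33 1 * h8nU chevF4 hB 24 1)⁻¹ := by
    calc _ = h8nU chevF4 hB 33 (R.f t) * ((h8nU chevF4 hB 33 1)⁻¹ * h8nU chevF4 hB 24 t) *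
          (h8nU chevF4 hB 24 1)⁻¹ := by group
      _ = h8nU chevF4 hB 33 (R.f t) * (h8nU chevF4 hB 24 t * (h8nU chevF4 hB 33 1)⁻¹) *
          (h8nU chevF4 hB 24 1)⁻¹ := by rw [(hcomm t).eq]
      _ = h8nU chevF4 hB 33 (R.f t) * h8nU chevF4 hB 24 t * ((h8nU chevF4 hB 33 1)⁻¹ *
          (h8nU chevF4 hB 24 1)⁻¹) := by group
      _ = h8nU chevF4 hB 33 (R.f t) * h8nU chevF4 hB 24 t * ((h8nU chevF4 hB 24 1)⁻¹ *
          (h8nU chevF4 hB 33 1)⁻¹) := by rw [((hcomm 1).inv_right).eq]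
      _ = _ := by group
  rw [e1]
  have h1 := h8tf_nn_mem R hC e hfe 1
  rw [map_one] at h1
  exact Subgroup.mul_mem _ (h8tf_nn_mem R hC e hfe t) (Subgroup.inv_mem _ h1)

end

end Cfsg.Agent.Lib.helper8
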