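import Mathlib
import Cfsg.Prelude.Def_ChevStructure
import Cfsg.Prelude.Def_ChevF4
import Cfsg.Agent.Lib.helper8.ChevRee1

set_option autoImplicit false

namespace Cfsg.Agent.Lib.helper8

open Cfsg.Lie Cfsg.Lie.ChevalleyDatum

def h8tfBrL : List (ℕ × H8Poly) := [(19, [(1, 1, 0)]), (17, [(1, 0, 2)])]

def h8tfBrR : List (ℕ × H8Poly) :=
    [(25, [(1, -2, 2)]), (27, [(1, 1, -2)]), (28, [(1, -1, 0)]),
      (27, [(1, 0, -2)]), (20, [(1, 0, 2)]), (27, [(1, 0, -2)]),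
      (27, [(1, 0, 0)]), (20, [(1, 0, 0)]), (27, [(1, 0, 0)]),
      (25, [(1, -2, 0)]), (22, [(1, 2, 0)]), (25, [(1, -2, 0)]),
      (25, [(1, 0, 0)]), (22, [(1, 0, 0)]), (25, [(1, 0, 0)]),
      (27, [(1, 0, 0)]), (20, [(1, 0, 0)]), (27, [(1, 0, 0)]),
      (25, [(1, 0, 0)]), (22, [(1, 0, 0)]), (25, [(1, 0, 0)]),
      (27, [(1, 0, 0)]), (20, [(1, 0, 0)]), (27, [(1, 0, 0)]),
      (25, [(1, 0, 0)]), (22, [(1, 0, 0)]), (25, [(1, 0, 0)]),
      (25, [(1, -2, 2)]), (27, [(1, 1, -2)]), (30, [(1, 0, -2)])]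

theorem h8tf_bruhat_chk0 : h8wordEqColP 2 chevF4 h8tfBrL h8tfBrR 0 = true := by
  decide +kernel

theorem h8tf_bruhat_chk1 : h8wordEqColP 2 chevF4 h8tfBrL h8tfBrR 1 = true := by
  decide +kernel

theorem h8tf_bruhat_chk2 : h8wordEqColP 2 chevF4 h8tfBrL h8tfBrR 2 = true := by
  decide +kernel

theorem h8tf_bruhat_chk3 : h8wordEqColP 2 chevF4 h8tfBrL h8tfBrR 3 = true := by
  decide +kernel

theorem h8tf_bruhat_chk4 : h8wordEqColP 2 chevF4 h8tfBrL h8tfBrR 4 = true := by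
  decide +kernel

theorem h8tf_bruhat_chk5 : h8wordEqColP 2 chevF4 h8tfBrL h8tfBrR 5 = true := by
  decide +kernel

theorem h8tf_bruhat_chk6 : h8wordEqColP 2 chevF4 h8tfBrL h8tfBrR 6 = true := by
  decide +kernel

theorem h8tf_bruhat_chk7 : h8wordEqColP 2 chevF4 h8tfBrL h8tfBrR 7 = true := by
  decide +kernel

theorem h8tf_bruhat_chk8 : h8wordEqColP 2 chevF4 h8tfBrL h8tfBrR 8 = true := by
  decide +kernel

theorem h8tf_bruhat_chk9 : h8wordEqColP 2 chevF4 h8tfBrL h8tfBrR 9 = true := by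
  decide +kernel

theorem h8tf_bruhat_chk10 : h8wordEqColP 2 chevF4 h8tfBrL h8tfBrR 10 = true := by
  decide +kernel

theorem h8tf_bruhat_chk11 : h8wordEqColP 2 chevF4 h8tfBrL h8tfBrR 11 = true := by
  decide +kernel

theorem h8tf_bruhat_chk12 : h8wordEqColP 2 chevF4 h8tfBrL h8tfBrR 12 = true := by
  decide +kernel

theorem h8tf_bruhat_chk13 : h8wordEqColP 2 chevF4 h8tfBrL h8tfBrR 13 = true := by
  decide +kernel

theorem h8tf_bruhat_chk14 : h8wordEqColP 2 chevF4 h8tfBrL h8tfBrR 14 = true := by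
  decide +kernel

theorem h8tf_bruhat_chk15 : h8wordEqColP 2 chevF4 h8tfBrL h8tfBrR 15 = true := by
  decide +kernel

theorem h8tf_bruhat_chk16 : h8wordEqColP 2 chevF4 h8tfBrL h8tfBrR 16 = true := by
  decide +kernel

theorem h8tf_bruhat_chk17 : h8wordEqColP 2 chevF4 h8tfBrL h8tfBrR 17 = true := by
  decide +kernel

theorem h8tf_bruhat_chk18 : h8wordEqColP 2 chevF4 h8tfBrL h8tfBrR 18 = true := by
  decide +kernel

theorem h8tf_bruhat_chk19 : h8wordEqColP 2 chevF4 h8tfBrL h8tfBrR 19 = true := by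
  decide +kernel

theorem h8tf_bruhat_chk20 : h8wordEqColP 2 chevF4 h8tfBrL h8tfBrR 20 = true := by
  decide +kernel

theorem h8tf_bruhat_chk21 : h8wordEqColP 2 chevF4 h8tfBrL h8tfBrR 21 = true := by
  decide +kernel

theorem h8tf_bruhat_chk22 : h8wordEqColP 2 chevF4 h8tfBrL h8tfBrR 22 = true := by
  decide +kernel

theorem h8tf_bruhat_chk23 : h8wordEqColP 2 chevF4 h8tfBrL h8tfBrR 23 = true := by
  decide +kernel

theorem h8tf_bruhat_chk24 : h8wordEqColP 2 chevF4 h8tfBrL h8tfBrR 24 = true := by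
  decide +kernel

theorem h8tf_bruhat_chk25 : h8wordEqColP 2 chevF4 h8tfBrL h8tfBrR 25 = true := by
  decide +kernel

end Cfsg.Agent.Lib.helper8
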