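import Mathlib
import Cfsg.Prelude.Def_ChevStructure
import Cfsg.Prelude.Def_ChevF4
import Cfsg.Agent.Lib.helper8.ChevTF17a

set_option autoImplicit false

namespace Cfsg.Agent.Lib.helper8

open Cfsg.Lie Cfsg.Lie.ChevalleyDatum

theorem h8tf_bruhat_chk26 : h8wordEqColP 2 chevF4 h8tfBrL h8tfBrR 26 = true := by
  decide +kernel

theorem h8tf_bruhat_chk27 : h8wordEqColP 2 chevF4 h8tfBrL h8tfBrR 27 = true := by
  decide +kernel

theorem h8tf_bruhat_chk28 : h8wordEqColP 2 chevF4 h8tfBrL h8tfBrR 28 = true := by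
  decide +kernel

theorem h8tf_bruhat_chk29 : h8wordEqColP 2 chevF4 h8tfBrL h8tfBrR 29 = true := by
  decide +kernel

theorem h8tf_bruhat_chk30 : h8wordEqColP 2 chevF4 h8tfBrL h8tfBrR 30 = true := by
  decide +kernel

theorem h8tf_bruhat_chk31 : h8wordEqColP 2 chevF4 h8tfBrL h8tfBrR 31 = true := by
  decide +kernel

theorem h8tf_bruhat_chk32 : h8wordEqColP 2 chevF4 h8tfBrL h8tfBrR 32 = true := by
  decide +kernel

theorem h8tf_bruhat_chk33 : h8wordEqColP 2 chevF4 h8tfBrL h8tfBrR 33 = true := by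
  decide +kernel

theorem h8tf_bruhat_chk34 : h8wordEqColP 2 chevF4 h8tfBrL h8tfBrR 34 = true := by
  decide +kernel

theorem h8tf_bruhat_chk35 : h8wordEqColP 2 chevF4 h8tfBrL h8tfBrR 35 = true := by
  decide +kernel

theorem h8tf_bruhat_chk36 : h8wordEqColP 2 chevF4 h8tfBrL h8tfBrR 36 = true := by
  decide +kernel

theorem h8tf_bruhat_chk37 : h8wordEqColP 2 chevF4 h8tfBrL h8tfBrR 37 = true := by
  decide +kernel

theorem h8tf_bruhat_chk38 : h8wordEqColP 2 chevF4 h8tfBrL h8tfBrR 38 = true := by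
  decide +kernel

theorem h8tf_bruhat_chk39 : h8wordEqColP 2 chevF4 h8tfBrL h8tfBrR 39 = true := by
  decide +kernel

theorem h8tf_bruhat_chk40 : h8wordEqColP 2 chevF4 h8tfBrL h8tfBrR 40 = true := by
  decide +kernel

theorem h8tf_bruhat_chk41 : h8wordEqColP 2 chevF4 h8tfBrL h8tfBrR 41 = true := by
  decide +kernel

theorem h8tf_bruhat_chk42 : h8wordEqColP 2 chevF4 h8tfBrL h8tfBrR 42 = true := by
  decide +kernel

theorem h8tf_bruhat_chk43 : h8wordEqColP 2 chevF4 h8tfBrL h8tfBrR 43 = true := by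
  decide +kernel

theorem h8tf_bruhat_chk44 : h8wordEqColP 2 chevF4 h8tfBrL h8tfBrR 44 = true := by
  decide +kernel

theorem h8tf_bruhat_chk45 : h8wordEqColP 2 chevF4 h8tfBrL h8tfBrR 45 = true := by
  decide +kernel

theorem h8tf_bruhat_chk46 : h8wordEqColP 2 chevF4 h8tfBrL h8tfBrR 46 = true := by
  decide +kernel

theorem h8tf_bruhat_chk47 : h8wordEqColP 2 chevF4 h8tfBrL h8tfBrR 47 = true := by
  decide +kernel

theorem h8tf_bruhat_chk48 : h8wordEqColP 2 chevF4 h8tfBrL h8tfBrR 48 = true := by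
  decide +kernel

theorem h8tf_bruhat_chk49 : h8wordEqColP 2 chevF4 h8tfBrL h8tfBrR 49 = true := by
  decide +kernel

theorem h8tf_bruhat_chk50 : h8wordEqColP 2 chevF4 h8tfBrL h8tfBrR 50 = true := by
  decide +kernel

theorem h8tf_bruhat_chk51 : h8wordEqColP 2 chevF4 h8tfBrL h8tfBrR 51 = true := by
  decide +kernel

theorem h8tf_bruhat_col : ∀ c < 52, h8wordEqColP 2 chevF4 h8tfBrL h8tfBrR c = true := by
  intro c hc
  interval_cases c
  · exact h8tf_bruhat_chk0
  · exact h8tf_bruhat_chk1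
  · exact h8tf_bruhat_chk2
  · exact h8tf_bruhat_chk3
  · exact h8tf_bruhat_chk4
  · exact h8tf_bruhat_chk5
  · exact h8tf_bruhat_chk6
  · exact h8tf_bruhat_chk7
  · exact h8tf_bruhat_chk8
  · exact h8tf_bruhat_chk9
  · exact h8tf_bruhat_chk10
  · exact h8tf_bruhat_chk11
  · exact h8tf_bruhat_chk12
  · exact h8tf_bruhat_chk13
  · exact h8tf_bruhat_chk14
  · exact h8tf_bruhat_chk15
  · exact h8tf_bruhat_chk16
  · exact h8tf_bruhat_chk17
  · exact h8tf_bruhat_chk18
  · exact h8tf_bruhat_chk19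
  · exact h8tf_bruhat_chk20
  · exact h8tf_bruhat_chk21
  · exact h8tf_bruhat_chk22
  · exact h8tf_bruhat_chk23
  · exact h8tf_bruhat_chk24
  · exact h8tf_bruhat_chk25
  · exact h8tf_bruhat_chk26
  · exact h8tf_bruhat_chk27
  · exact h8tf_bruhat_chk28
  · exact h8tf_bruhat_chk29
  · exact h8tf_bruhat_chk30
  · exact h8tf_bruhat_chk31
  · exact h8tf_bruhat_chk32
  · exact h8tf_bruhat_chk33
  · exact h8tf_bruhat_chk34
  · exact h8tf_bruhat_chk35
  · exact h8tf_bruhat_chk36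
  · exact h8tf_bruhat_chk37
  · exact h8tf_bruhat_chk38
  · exact h8tf_bruhat_chk39
  · exact h8tf_bruhat_chk40
  · exact h8tf_bruhat_chk41
  · exact h8tf_bruhat_chk42
  · exact h8tf_bruhat_chk43
  · exact h8tf_bruhat_chk44
  · exact h8tf_bruhat_chk45
  · exact h8tf_bruhat_chk46
  · exact h8tf_bruhat_chk47
  · exact h8tf_bruhat_chk48
  · exact h8tf_bruhat_chk49
  · exact h8tf_bruhat_chk50
  · exact h8tf_bruhat_chk51

theorem h8tf_bruhat_chk : h8wordEqP 2 chevF4 h8tfBrL h8tfBrR = true := by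
  unfold h8wordEqP
  rw [List.all_eq_true]
  intro c hc
  have h52 : chevF4.rank + chevF4.nroots = 52 := by decide
  rw [h52, List.mem_range] at hc
  exact h8tf_bruhat_col c hc

end Cfsg.Agent.Lib.helper8
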