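import Mathlib
import Cfsg.Prelude.Def_ChevStructure
import Cfsg.Prelude.Def_ChevF4
import Cfsg.Agent.Lib.helper8.ChevTF16
import Cfsg.Agent.Lib.helper8.ChevTF17b
import Cfsg.Agent.Lib.helper8.ChevTwO3

set_option autoImplicit false

namespace Cfsg.Agent.Lib.helper8

open Cfsg.Lie Cfsg.Lie.ChevalleyDatum

universe u

variable {K : Type u} [Field K] {hB : H8Base.{u} chevF4}

/-- a root element whose root is made negative by `w` lies in `U_w⁻` -/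
theorem h8xU_mem_Um (D : ChevalleyDatum) (hB : H8Base.{u} D) (hA : H8ReflAll D) (w : List ℕ)
    (hw : ∀ j ∈ w, j < D.rank) (r : ℕ) (hr : D.IsPosRoot r) (hneg : D.IsNegRoot (h8sW D w r))
    (t : K) : h8xU D hB r t ∈ Subgroup.closure (h8UmSet D K (h8nWU D hB w)) := by
  apply Subgroup.subset_closure
  refine ⟨r, t, hr, ?_, h8xU_val D hB r t⟩
  intro z hz
  rw [Subgroup.mem_map] at hz
  obtain ⟨y, hy, rfl⟩ := hz
  obtain ⟨s, rfl⟩ := h8rootSubgroup_mem D hB r hr.1 y hy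
  obtain ⟨c', _, hact⟩ := h8actN_act D hB _ _ _ (h8actN_word (F := K) D hB hA w hw r hr.1)
  show h8nWU D hB w * h8xU D hB r s * (h8nWU D hB w)⁻¹ ∈ D.negUnipotent K
  rw [hact]
  exact h8xU_mem_V D hB _ hneg _

theorem h8tf_w2_tab : ∀ r ∈ [25, 27, 28, 30], chevF4.IsPosRoot r ∧
    chevF4.IsNegRoot (h8sW chevF4 [1, 2, 1, 2] r) := by decide +kernel


theorem h8tf_bruhat_R [CharP K 2] (a b : K) (ha : a ≠ 0) (hb : b ≠ 0) :
    h8evWord a b h8tfBrR =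
      [(25, b ^ 2 / a ^ 2), (27, a / b ^ 2), (28, a⁻¹)] ++ chevF4.hWord 27 (b ^ 2)⁻¹ ++
        chevF4.hWord 25 (a ^ 2)⁻¹ ++
        (chevF4.nWord 27 (1 : K) ++ chevF4.nWord 25 1 ++ chevF4.nWord 27 1 ++ chevF4.nWord 25 1) ++
        [(25, b ^ 2 / a ^ 2), (27, a / b ^ 2), (30, (b ^ 2)⁻¹)] := by
  have hev : ∀ i j : ℤ, H8Poly.ev a b [(1, i, j)] = a ^ i * b ^ j := by
    intro i j
    simp [H8Poly.ev, H8Poly.mev]
  have n27 : chevF4.neg 27 = 20 := by decide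
  have n25 : chevF4.neg 25 = 22 := by decide
  unfold h8tfBrR h8evWord ChevalleyDatum.hWord ChevalleyDatum.nWord
  simp only [List.map_cons, List.map_nil, hev, n27, n25, List.cons_append, List.nil_append,
    CharTwo.neg_eq, inv_one, inv_inv, zpow_neg, zpow_ofNat]
  simp only [List.cons.injEq, Prod.mk.injEq, true_and, and_true]
  field_simp
  simp only [and_self]

theorem h8tf_bruhat_L (a b : K) :
    h8evWord a b h8tfBrL = [(19, a), (17, b ^ 2)] := by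
  have hev : ∀ i j : ℤ, H8Poly.ev a b [(1, i, j)] = a ^ i * b ^ j := by
    intro i j
    simp [H8Poly.ev, H8Poly.mev]
  unfold h8tfBrL h8evWord
  simp only [List.map_cons, List.map_nil, hev, zpow_ofNat, pow_one, pow_zero, mul_one, one_mul]

/-- the explicit Bruhat decomposition of `x_{-a-b}(u) x_{-2a-b}(s²)` in the subgroup of type `B₂`
in characteristic two -/
theorem h8tf_bruhat [CharP K 2] (a b : K) (ha : a ≠ 0) (hb : b ≠ 0) :
    h8xU chevF4 hB 19 a * h8xU chevF4 hB 17 (b ^ 2) =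
      (h8xU chevF4 hB 25 (b ^ 2 / a ^ 2) * h8xU chevF4 hB 27 (a / b ^ 2) * h8xU chevF4 hB 28 a⁻¹) *
        (h8hU chevF4 hB 27 (b ^ 2)⁻¹ * h8hU chevF4 hB 25 (a ^ 2)⁻¹ * h8nWU chevF4 hB [1, 2, 1, 2]) *
        (h8xU chevF4 hB 25 (b ^ 2 / a ^ 2) * h8xU chevF4 hB 27 (a / b ^ 2) *
          h8xU chevF4 hB 30 (b ^ 2)⁻¹) := by
  have h := h8wordEqP_sound 2 chevF4 a b ha hb _ _ h8tf_bruhat_chk
  have hU : h8wordU chevF4 hB (h8evWord a b h8tfBrL) =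
      h8wordU chevF4 hB (h8evWord a b h8tfBrR) :=
    Units.ext (by rw [h8wordU_val, h8wordU_val]; exact h)
  rw [h8tf_bruhat_L, h8tf_bruhat_R a b ha hb] at hU
  simp only [h8wordU_append, h8wordU_cons] at hU
  have e0 : h8wordU chevF4 hB ([] : List (ℕ × K)) = 1 := rfl
  have s1 : chevF4.simple 1 = 27 := by decide
  have s2 : chevF4.simple 2 = 25 := by decide
  have eN : (h8nWU chevF4 hB [1, 2, 1, 2] : GL chevF4.Idx K) =
      h8wordU chevF4 hB (chevF4.nWord 27 (1 : K)) * h8wordU chevF4 hB (chevF4.nWord 25 (1 : K)) *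
        h8wordU chevF4 hB (chevF4.nWord 27 (1 : K)) * h8wordU chevF4 hB (chevF4.nWord 25 (1 : K)) := by
    unfold h8nWU
    simp only [List.map_cons, List.map_nil, List.prod_cons, List.prod_nil, mul_one, s1, s2]
    unfold h8nU
    group
  rw [eN]
  unfold h8hU
  rw [e0, mul_one, mul_one] at hU
  rw [hU]
  group


theorem h8xU_mem_XL (D : ChevalleyDatum) (hB : H8Base.{u} D) (L : List ℕ) (r : ℕ) (hr : r ∈ L)
    (t : K) : h8xU D hB r t ∈ Subgroup.closure (h8XLSet D K L) :=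
  Subgroup.subset_closure ⟨r, t, hr, h8xU_val D hB r t⟩

section
variable [CharP K 2] (R : H8TF K hB) (hA : H8ReflAll chevF4) (hC : H8CommAll.{u} chevF4)
  (hBN : H8BN chevF4) (hO2 : H8Ord2 chevF4)

include hA hC hBN hO2 in
/-- the monomial part of the Bruhat decomposition of a negative fixed element of the class of
type `B₂` lies in `²F₄` -/
theorem h8tf_m2_mem (e : ℕ) (hfe : ∀ t : K, R.f t = t ^ e) (a : K) (ha : a ≠ 0) :
    h8hU chevF4 hB 27 ((R.f a) ^ 2)⁻¹ * h8hU chevF4 hB 25 (a ^ 2)⁻¹ *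
      h8nWU chevF4 hB [1, 2, 1, 2] ∈ twistedF4 K e := by
  have hs : R.f a ≠ 0 := (map_ne_zero R.f).2 ha
  have hw : ∀ j ∈ [1, 2, 1, 2], j < chevF4.rank := by decide
  have hgmem := h8tfCls_mem' R e hfe 0 a
  have hgfix := h8tfCls_fix' R hC 0 a
  have hg_eq : h8tfCls R 20 22 19 17 0 a =
      h8xU chevF4 hB 19 a * h8xU chevF4 hB 17 ((R.f a) ^ 2) := by
    unfold h8tfCls
    rw [map_zero, h8xU_zero', h8xU_zero', zero_mul, zero_add, one_mul, one_mul]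
  have hbr := h8tf_bruhat (hB := hB) a (R.f a) ha hs
  rw [← hg_eq] at hbr
  set u1 := h8xU chevF4 hB 25 ((R.f a) ^ 2 / a ^ 2) * h8xU chevF4 hB 27 (a / (R.f a) ^ 2) *
    h8xU chevF4 hB 28 a⁻¹ with hu1
  set u2 := h8xU chevF4 hB 25 ((R.f a) ^ 2 / a ^ 2) * h8xU chevF4 hB 27 (a / (R.f a) ^ 2) *
    h8xU chevF4 hB 30 ((R.f a) ^ 2)⁻¹ with hu2
  set m := h8hU chevF4 hB 27 ((R.f a) ^ 2)⁻¹ * h8hU chevF4 hB 25 (a ^ 2)⁻¹ *
    h8nWU chevF4 hB [1, 2, 1, 2] with hm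
  have hu1X : u1 ∈ Subgroup.closure (h8XLSet chevF4 K [25, 27, 28, 30]) :=
    Subgroup.mul_mem _ (Subgroup.mul_mem _ (h8xU_mem_XL chevF4 hB _ 25 (by decide) _)
      (h8xU_mem_XL chevF4 hB _ 27 (by decide) _)) (h8xU_mem_XL chevF4 hB _ 28 (by decide) _)
  have hu2X : u2 ∈ Subgroup.closure (h8XLSet chevF4 K [25, 27, 28, 30]) :=
    Subgroup.mul_mem _ (Subgroup.mul_mem _ (h8xU_mem_XL chevF4 hB _ 25 (by decide) _)
      (h8xU_mem_XL chevF4 hB _ 27 (by decide) _)) (h8xU_mem_XL chevF4 hB _ 30 (by decide) _)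
  have hu1U : u1 ∈ chevF4.posUnipotent K :=
    Subgroup.mul_mem _ (Subgroup.mul_mem _
      (h8xU_mem_U chevF4 hB 25 (h8tf_w2_tab 25 (by decide)).1 _)
      (h8xU_mem_U chevF4 hB 27 (h8tf_w2_tab 27 (by decide)).1 _))
      (h8xU_mem_U chevF4 hB 28 (h8tf_w2_tab 28 (by decide)).1 _)
  have hH : h8hU chevF4 hB 27 ((R.f a) ^ 2)⁻¹ * h8hU chevF4 hB 25 (a ^ 2)⁻¹ ∈
      chevF4.diagonalSubgroup K :=
    Subgroup.mul_mem _ (h8hU_mem_H chevF4 hB 27 (by decide) _ (inv_ne_zero (pow_ne_zero _ hs)))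
      (h8hU_mem_H chevF4 hB 25 (by decide) _ (inv_ne_zero (pow_ne_zero _ ha)))
  have hmN : m ∈ chevF4.monomialSubgroup K :=
    Subgroup.mul_mem _ (h8H_le_N chevF4 hH) (h8nWU_mem_N chevF4 hB hA _ hw)
  have hu2m : u2 ∈ Subgroup.closure (h8UmSet chevF4 K m) := by
    have hsub := h8UmSet_mono_H chevF4 hB (h8nWU chevF4 hB [1, 2, 1, 2])
      (h8hU chevF4 hB 27 ((R.f a) ^ 2)⁻¹ * h8hU chevF4 hB 25 (a ^ 2)⁻¹) 1 hH (Subgroup.one_mem _)
    rw [mul_one] at hsub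
    refine Subgroup.closure_mono hsub ?_
    exact Subgroup.mul_mem _ (Subgroup.mul_mem _
      (h8xU_mem_Um chevF4 hB hA _ hw 25 (h8tf_w2_tab 25 (by decide)).1
        (h8tf_w2_tab 25 (by decide)).2 _)
      (h8xU_mem_Um chevF4 hB hA _ hw 27 (h8tf_w2_tab 27 (by decide)).1
        (h8tf_w2_tab 27 (by decide)).2 _))
      (h8xU_mem_Um chevF4 hB hA _ hw 30 (h8tf_w2_tab 30 (by decide)).1
        (h8tf_w2_tab 30 (by decide)).2 _)
  have hu1G := h8_U_le_group chevF4 hu1U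
  have hmG := h8_N_le_group chevF4 hB hmN
  have hu2G := h8_U_le_group chevF4 (h8Um_le_U chevF4 _ hu2m)
  have hfix2 : h8tfS R u1 * h8tfS R m * h8tfS R u2 = u1 * m * u2 := by
    rw [← h8tfS_mul R _ _ hu1G hmG, ← h8tfS_mul R _ _ (Subgroup.mul_mem _ hu1G hmG) hu2G, ← hbr]
    exact hgfix
  obtain ⟨h1, h2, h3⟩ := h8normal_unique_strong chevF4 hB hA hC hBN _ u1 _ m _ u2
    (h8tfS_U R u1 hu1U) hu1U (h8tfS_N R _ hmN) hmN (h8tfS_Um R _ hmG u2 hu2m) hu2m hfix2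
  obtain ⟨t1, v1, e1⟩ := h8tf_X2_fix R hC hO2 u1 hu1X h2
  obtain ⟨t2, v2, e2⟩ := h8tf_X2_fix R hC hO2 u2 hu2X h3
  have hu1mem : u1 ∈ twistedF4 K e := by rw [e1]; exact h8tfCls_mem R e hfe t1 v1
  have hu2mem : u2 ∈ twistedF4 K e := by rw [e2]; exact h8tfCls_mem R e hfe t2 v2
  have em : m = u1⁻¹ * h8tfCls R 20 22 19 17 0 a * u2⁻¹ := by rw [hbr]; group
  rw [em]
  exact Subgroup.mul_mem _ (Subgroup.mul_mem _ (Subgroup.inv_mem _ hu1mem) hgmem)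
    (Subgroup.inv_mem _ hu2mem)

include hA hC hBN hO2 in
/-- the representative `n₂` of the second generator of the twisted Weyl group lies in `²F₄` -/
theorem h8tf_n2_mem (e : ℕ) (hfe : ∀ t : K, R.f t = t ^ e) :
    (h8nWU chevF4 hB [1, 2, 1, 2] : GL chevF4.Idx K) ∈ twistedF4 K e := by
  have h := h8tf_m2_mem R hA hC hBN hO2 e hfe 1 one_ne_zero
  rwa [map_one, one_pow, inv_one, h8hU_one, h8hU_one, one_mul, one_mul] at h

include hA hC hBN hO2 in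
/-- the torus elements of the second class lie in `²F₄` -/
theorem h8tf_torus2_mem (e : ℕ) (hfe : ∀ t : K, R.f t = t ^ e) (t : K) (ht : t ≠ 0) :
    h8hU chevF4 hB 27 (R.f t) * h8hU chevF4 hB 25 t ∈ twistedF4 K e := by
  have ha : R.f (R.f t⁻¹) ≠ 0 := (map_ne_zero R.f).2 ((map_ne_zero R.f).2 (inv_ne_zero ht))
  have h := h8tf_m2_mem R hA hC hBN hO2 e hfe (R.f (R.f t⁻¹)) ha
  have e1 : (R.f (R.f t⁻¹)) ^ 2 = t⁻¹ := R.hf t⁻¹
  have e2 : (R.f (R.f (R.f t⁻¹))) ^ 2 = R.f t⁻¹ := R.hf (R.f t⁻¹)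
  rw [e1, e2, inv_inv, map_inv₀, inv_inv] at h
  have h2 := h8tf_n2_mem R hA hC hBN hO2 e hfe
  have := Subgroup.mul_mem _ h (Subgroup.inv_mem _ h2)
  rwa [mul_inv_cancel_right] at this

end

end Cfsg.Agent.Lib.helper8
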