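import Mathlib
import Cfsg.Prelude.Def_ChevStructure
import Cfsg.Prelude.Def_ChevF4
import Cfsg.Prelude.Def_LieTwisted
import Cfsg.Agent.Lib.helper8.ChevTF17
import Cfsg.Agent.Lib.helper8.ChevTwH2
import Cfsg.Agent.Lib.helper8.ChevTits5

set_option autoImplicit false

namespace Cfsg.Agent.Lib.helper8

open Cfsg.Lie Cfsg.Lie.ChevalleyDatum

universe u

variable {K : Type u} [Field K] {hB : H8Base.{u} chevF4}

theorem h8tf_cartan_data :
    h8KF chevF4 33 24 = 0 ∧ h8KF chevF4 24 24 = 2 ∧ h8KF chevF4 27 24 = 0 ∧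
    h8KF chevF4 25 24 = -1 ∧ h8KF chevF4 33 25 = 0 ∧ h8KF chevF4 24 25 = -1 ∧
    h8KF chevF4 27 25 = -2 ∧ h8KF chevF4 25 25 = 2 := by decide +kernel

theorem h8tf_simple_data : chevF4.simple 0 = 33 ∧ chevF4.simple 1 = 27 ∧ chevF4.simple 2 = 25 ∧
    chevF4.simple 3 = 24 ∧ chevF4.negIdx.getD 33 0 = 14 ∧ chevF4.negIdx.getD 27 0 = 20 ∧
    chevF4.negIdx.getD 25 0 = 22 ∧ chevF4.negIdx.getD 24 0 = 23 ∧
    h8tfRho 24 = 33 ∧ h8tfRho 25 = 27 ∧ h8tfK 24 = 0 ∧ h8tfK 25 = 0 := by decide +kernel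

theorem h8tf_lt_data : ∀ r ∈ [33, 27, 25, 24, 14, 20, 22, 23], r < chevF4.nroots := by
  decide +kernel

/-- the characters of a fixed element of `H` are compatible with the twist -/
theorem h8tf_chi_sig [CharP K 2] (R : H8TF K hB) (hA : H8ReflAll chevF4) (hW : H8BN2 chevF4)
    (k : GL chevF4.Idx K) (hk : k ∈ chevF4.diagonalSubgroup K) (hfix : h8tfS R k = k)
    (r : ℕ) (hr : r < 48) :
    h8chi chevF4 hB k (h8tfRho r) = h8tfE R r (h8chi chevF4 hB k r) := by
  have hkG : k ∈ chevF4.group K := h8_H_le_group chevF4 hB hk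
  have h1 := congrArg (h8tfS R) ((h8chi_spec chevF4 hB k hk r hr).2 1)
  rw [h8tfS_mul R _ _ (Subgroup.mul_mem _ hkG (h8xU_mem_group chevF4 hB _ _))
    (Subgroup.inv_mem _ hkG), h8tfS_mul R _ _ hkG (h8xU_mem_group chevF4 hB _ _),
    h8tfS_inv R _ hkG, hfix, h8tfS_xU R _ hr, h8tfS_xU R _ hr, h8tfE_one, mul_one] at h1
  exact h8chi_unique chevF4 hB hA hW k hk (h8tfRho r) (h8tfRho_lt r hr) _ h1

/-- an element of `H` acting trivially on the simple root subgroups is trivial -/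
theorem h8tf_H_inj (hA : H8ReflAll chevF4) (hBN : H8BN chevF4)
    (hW : H8BN2 chevF4) (k : GL chevF4.Idx K) (hk : k ∈ chevF4.diagonalSubgroup K)
    (h33 : h8chi chevF4 hB k 33 = 1) (h27 : h8chi chevF4 hB k 27 = 1)
    (h25 : h8chi chevF4 hB k 25 = 1) (h24 : h8chi chevF4 hB k 24 = 1) : k = 1 := by
  have hD : chevF4 ∈ [chevG2, chevB2, chevD4, chevF4, chevE6, chevE7, chevE8] := by simp
  have hkG : k ∈ chevF4.group K := h8_H_le_group chevF4 hB hk
  obtain ⟨s0, s1, s2, s3, n33, n27, n25, n24, _⟩ := h8tf_simple_data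
  have hnegs : ∀ r m, r < chevF4.nroots → chevF4.negIdx.getD r 0 = m →
      h8chi chevF4 hB k r = 1 → h8chi chevF4 hB k m = 1 := by
    intro r m hr hm h1
    have := h8chi_neg chevF4 hB hA hW k hk r hr
    rw [hm, h1, inv_one] at this
    exact this
  have h14 := hnegs 33 14 (h8tf_lt_data 33 (by simp)) n33 h33
  have h20 := hnegs 27 20 (h8tf_lt_data 27 (by simp)) n27 h27
  have h22 := hnegs 25 22 (h8tf_lt_data 25 (by simp)) n25 h25
  have h23 := hnegs 24 23 (h8tf_lt_data 24 (by simp)) n24 h24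
  have hcomm : ∀ r ∈ [33, 27, 25, 24, 14, 20, 22, 23], ∀ t : K,
      h8xU chevF4 hB r t * k = k * h8xU chevF4 hB r t := by
    intro r hr t
    have hlt : r < chevF4.nroots := h8tf_lt_data r hr
    have h1 : h8chi chevF4 hB k r = 1 := by
      simp only [List.mem_cons, List.not_mem_nil, or_false] at hr
      rcases hr with rfl | rfl | rfl | rfl | rfl | rfl | rfl | rfl
      · exact h33
      · exact h27
      · exact h25
      · exact h24
      · exact h14
      · exact h20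
      · exact h22
      · exact h23
    have := (h8chi_spec chevF4 hB k hk r hlt).2 t
    rw [h1, one_mul, mul_inv_eq_iff_eq_mul] at this
    exact this.symm
  have hj4 : ∀ j < chevF4.rank, j = 0 ∨ j = 1 ∨ j = 2 ∨ j = 3 := by
    intro j hj
    have : j < 4 := hj
    omega
  have hle : chevF4.group K ≤ Subgroup.centralizer ({k} : Set (GL chevF4.Idx K)) := by
    apply h8group_le_of_simple chevF4 hB hA hBN
    · intro j hj t
      rw [Subgroup.mem_centralizer_iff]
      intro x hx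
      rw [Set.mem_singleton_iff] at hx
      rw [hx]
      rcases hj4 j hj with rfl | rfl | rfl | rfl
      · rw [s0]; exact (hcomm 33 (by simp) t).symm
      · rw [s1]; exact (hcomm 27 (by simp) t).symm
      · rw [s2]; exact (hcomm 25 (by simp) t).symm
      · rw [s3]; exact (hcomm 24 (by simp) t).symm
    · intro j hj t
      rw [Subgroup.mem_centralizer_iff]
      intro x hx
      rw [Set.mem_singleton_iff] at hx
      rw [hx]
      rcases hj4 j hj with rfl | rfl | rfl | rfl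
      · rw [s0, n33]; exact (hcomm 14 (by simp) t).symm
      · rw [s1, n27]; exact (hcomm 20 (by simp) t).symm
      · rw [s2, n25]; exact (hcomm 22 (by simp) t).symm
      · rw [s3, n24]; exact (hcomm 23 (by simp) t).symm
  obtain ⟨hsimp, hnc⟩ := h8simple_main (F := K) chevF4 hD (fun h => by
    rcases h with h | h
    · exact absurd (congrArg ChevalleyDatum.rank h) (by decide)
    · exact absurd (congrArg ChevalleyDatum.rank h) (by decide))
  have := h8center_trivial hsimp hnc ⟨k, hkG⟩ (fun g => by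
    apply Subtype.ext
    have h1 := hle g.2
    rw [Subgroup.mem_centralizer_iff] at h1
    exact h1 k rfl)
  exact congrArg Subtype.val this

/-- an auxiliary computation with the Tits endomorphism -/
theorem h8tf_inj_aux (f : K ≃+* K) (hf : ∀ t : K, f (f t) ^ 2 = t) (a : K) (ha : a ≠ 0)
    (h : a ^ 3 = f a ^ 4) : a = 1 := by
  have h2 : f a ^ 3 = a ^ 2 := by
    have := congrArg f h
    rw [map_pow, map_pow] at this
    rw [this]
    have e : f (f a) ^ 4 = (f (f a) ^ 2) ^ 2 := by ring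
    rw [e, hf]
  have h3 : a ^ 9 = a ^ 8 := by
    calc a ^ 9 = (a ^ 3) ^ 3 := by ring
      _ = (f a ^ 3) ^ 4 := by rw [h]; ring
      _ = a ^ 8 := by rw [h2]; ring
  have h4 : a ^ 8 * (a - 1) = 0 := by ring_nf; ring_nf at h3; linear_combination h3
  rcases mul_eq_zero.mp h4 with h5 | h5
  · exact absurd ((pow_eq_zero_iff (n := 8) (by norm_num)).mp h5) ha
  · exact sub_eq_zero.mp h5

/-- `|H ∩ ²F₄(q)| = (q - 1)²` -/
theorem h8tf_H_card [Fintype K] {m : ℕ} (hK : Fintype.card K = 2 ^ (2 * m + 1)) :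
    Nat.card ↥(chevF4.diagonalSubgroup K ⊓ twistedF4 K (2 ^ m)) = (2 ^ (2 * m + 1) - 1) ^ 2 := by
  classical
  have hD : chevF4 ∈ [chevG2, chevB2, chevD4, chevF4, chevE6, chevE7, chevE8] := by simp
  have hB := h8base_all.{u} chevF4 hD
  have hA := h8reflAll chevF4 hD
  have hC := h8commAll.{u} chevF4 hD
  have hBN := h8bn_all chevF4 hD
  have hW := h8bn2_all chevF4 hD
  obtain ⟨hO, hO2⟩ := h8ord_all chevF4 hD
  have := h8tf_char2 hK
  obtain ⟨R, hfe⟩ := h8tf_setup hK hB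
  obtain ⟨k1, k2, k3, k4, k5, k6, k7, k8⟩ := h8tf_cartan_data
  obtain ⟨s0, s1, s2, s3, n33, n27, n25, n24, r24, r25, kk24, kk25⟩ := h8tf_simple_data
  have l33 : 33 < chevF4.nroots := h8tf_lt_data 33 (by simp)
  have l27 : 27 < chevF4.nroots := h8tf_lt_data 27 (by simp)
  have l25 : 25 < chevF4.nroots := h8tf_lt_data 25 (by simp)
  have l24 : 24 < chevF4.nroots := h8tf_lt_data 24 (by simp)
  rw [h8KF_eq chevF4 hA.ca _ _ l24] at k1 k2 k3 k4
  rw [h8KF_eq chevF4 hA.ca _ _ l25] at k5 k6 k7 k8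
  -- characters of fixed elements
  have hsig33 : ∀ k ∈ chevF4.diagonalSubgroup K ⊓ twistedF4 K (2 ^ m),
      h8chi chevF4 hB k 33 = R.f (h8chi chevF4 hB k 24) := by
    intro k hk
    have hfix := (h8tf_G1_fix R hC (2 ^ m) hfe k hk.2).2
    have := h8tf_chi_sig R hA hW k hk.1 hfix 24 (by norm_num)
    rwa [r24, h8tfE_long R 24 kk24] at this
  have hsig27 : ∀ k ∈ chevF4.diagonalSubgroup K ⊓ twistedF4 K (2 ^ m),
      h8chi chevF4 hB k 27 = R.f (h8chi chevF4 hB k 25) := by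
    intro k hk
    have hfix := (h8tf_G1_fix R hC (2 ^ m) hfe k hk.2).2
    have := h8tf_chi_sig R hA hW k hk.1 hfix 25 (by norm_num)
    rwa [r25, h8tfE_long R 25 kk25] at this
  -- the characters of the torus elements
  have hchi : ∀ (c1 c2 c3 c4 : K), c1 ≠ 0 → c2 ≠ 0 → c3 ≠ 0 → c4 ≠ 0 → ∀ r < chevF4.nroots,
      h8chi chevF4 hB (h8hU chevF4 hB 33 c1 * h8hU chevF4 hB 24 c2 *
        (h8hU chevF4 hB 27 c3 * h8hU chevF4 hB 25 c4)) r =
      c1 ^ (h8K chevF4 33 r) * c2 ^ (h8K chevF4 24 r) *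
        (c3 ^ (h8K chevF4 27 r) * c4 ^ (h8K chevF4 25 r)) := by
    intro c1 c2 c3 c4 h1 h2 h3 h4 r hr
    have m1 := h8hU_mem_H chevF4 hB 33 l33 c1 h1
    have m2 := h8hU_mem_H chevF4 hB 24 l24 c2 h2
    have m3 := h8hU_mem_H chevF4 hB 27 l27 c3 h3
    have m4 := h8hU_mem_H chevF4 hB 25 l25 c4 h4
    rw [h8chi_mul chevF4 hB hA hW _ _ (Subgroup.mul_mem _ m1 m2) (Subgroup.mul_mem _ m3 m4) r hr,
      h8chi_mul chevF4 hB hA hW _ _ m1 m2 r hr, h8chi_mul chevF4 hB hA hW _ _ m3 m4 r hr,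
      h8chi_hU chevF4 hB hA hW 33 l33 c1 h1 r hr, h8chi_hU chevF4 hB hA hW 24 l24 c2 h2 r hr,
      h8chi_hU chevF4 hB hA hW 27 l27 c3 h3 r hr, h8chi_hU chevF4 hB hA hW 25 l25 c4 h4 r hr]
  -- the upper bound
  have hup : Nat.card ↥(chevF4.diagonalSubgroup K ⊓ twistedF4 K (2 ^ m)) ≤
      Nat.card ({x : K // x ≠ 0} × {y : K // y ≠ 0}) := by
    apply Nat.card_le_card_of_injective
      (fun k : ↥(chevF4.diagonalSubgroup K ⊓ twistedF4 K (2 ^ m)) =>
        ((⟨h8chi chevF4 hB k.val 24, (h8chi_spec chevF4 hB k.val k.2.1 24 l24).1⟩ :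
          {x : K // x ≠ 0}),
        (⟨h8chi chevF4 hB k.val 25, (h8chi_spec chevF4 hB k.val k.2.1 25 l25).1⟩ :
          {y : K // y ≠ 0})))
    intro k k' hkk
    simp only [Prod.mk.injEq, Subtype.mk.injEq] at hkk
    obtain ⟨e24, e25⟩ := hkk
    have hzmem : k.val⁻¹ * k'.val ∈ chevF4.diagonalSubgroup K ⊓ twistedF4 K (2 ^ m) :=
      Subgroup.mul_mem _ (Subgroup.inv_mem _ k.2) k'.2
    have hz24 : h8chi chevF4 hB (k.val⁻¹ * k'.val) 24 = 1 := by
      rw [h8chi_mul chevF4 hB hA hW _ _ (Subgroup.inv_mem _ k.2.1) k'.2.1 24 l24,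
        h8chi_inv chevF4 hB hA hW _ k.2.1 24 l24, e24,
        inv_mul_cancel₀ (h8chi_spec chevF4 hB k'.val k'.2.1 24 l24).1]
    have hz25 : h8chi chevF4 hB (k.val⁻¹ * k'.val) 25 = 1 := by
      rw [h8chi_mul chevF4 hB hA hW _ _ (Subgroup.inv_mem _ k.2.1) k'.2.1 25 l25,
        h8chi_inv chevF4 hB hA hW _ k.2.1 25 l25, e25,
        inv_mul_cancel₀ (h8chi_spec chevF4 hB k'.val k'.2.1 25 l25).1]
    have hz : k.val⁻¹ * k'.val = 1 := by
      apply h8tf_H_inj hA hBN hW _ hzmem.1 _ _ hz25 hz24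
      · rw [hsig33 _ hzmem, hz24, map_one]
      · rw [hsig27 _ hzmem, hz25, map_one]
    exact Subtype.ext (inv_mul_eq_one.mp hz)
  -- the lower bound
  have hlow : Nat.card ({x : K // x ≠ 0} × {y : K // y ≠ 0}) ≤
      Nat.card ↥(chevF4.diagonalSubgroup K ⊓ twistedF4 K (2 ^ m)) := by
    apply Nat.card_le_card_of_injective
      (fun p : {x : K // x ≠ 0} × {y : K // y ≠ 0} =>
        (⟨h8hU chevF4 hB 33 (R.f p.1.val) * h8hU chevF4 hB 24 p.1.val *
          (h8hU chevF4 hB 27 (R.f p.2.val) * h8hU chevF4 hB 25 p.2.val),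
          Subgroup.mul_mem _ (Subgroup.mul_mem _
            (h8hU_mem_H chevF4 hB 33 l33 _ ((map_ne_zero R.f).mpr p.1.2))
            (h8hU_mem_H chevF4 hB 24 l24 _ p.1.2))
            (Subgroup.mul_mem _ (h8hU_mem_H chevF4 hB 27 l27 _ ((map_ne_zero R.f).mpr p.2.2))
            (h8hU_mem_H chevF4 hB 25 l25 _ p.2.2)),
          Subgroup.mul_mem _ (h8tf_torus1_mem R hC (2 ^ m) hfe p.1.val)
            (h8tf_torus2_mem R hA hC hBN hO2 (2 ^ m) hfe p.2.val p.2.2)⟩ :
          ↥(chevF4.diagonalSubgroup K ⊓ twistedF4 K (2 ^ m))))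
    rintro ⟨⟨t, ht⟩, ⟨s, hs⟩⟩ ⟨⟨t', ht'⟩, ⟨s', hs'⟩⟩ heq
    have heq' := congrArg Subtype.val heq
    simp only at heq'
    have e24 := congrArg (fun g => h8chi chevF4 hB g 24) heq'
    have e25 := congrArg (fun g => h8chi chevF4 hB g 25) heq'
    beta_reduce at e24 e25
    have hft : R.f t ≠ 0 := (map_ne_zero R.f).mpr ht
    have hfs : R.f s ≠ 0 := (map_ne_zero R.f).mpr hs
    have hft' : R.f t' ≠ 0 := (map_ne_zero R.f).mpr ht'
    have hfs' : R.f s' ≠ 0 := (map_ne_zero R.f).mpr hs'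
    rw [hchi _ _ _ _ hft ht hfs hs 24 l24, hchi _ _ _ _ hft' ht' hfs' hs' 24 l24,
      k1, k2, k3, k4] at e24
    rw [hchi _ _ _ _ hft ht hfs hs 25 l25, hchi _ _ _ _ hft' ht' hfs' hs' 25 l25,
      k5, k6, k7, k8] at e25
    simp only [zpow_neg, zpow_ofNat] at e24 e25
    -- e24 : t ^ 2 * s⁻¹ = t' ^ 2 * s'⁻¹ ;  e25 : t⁻¹ * ((f s ^ 2)⁻¹ * s ^ 2) = ...
    have ha0 : t / t' ≠ 0 := div_ne_zero ht ht'
    have hb : (t / t') ^ 2 = s / s' := by
      field_simp
      field_simp at e24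
      linear_combination e24
    have hγ : t / t' = 1 := by
      apply h8tf_inj_aux R.f R.hf _ ha0
      have hfb : R.f (t / t') ^ 2 = R.f s / R.f s' := by
        rw [← map_pow, hb, map_div₀]
      have e4 : R.f (t / t') ^ 4 = (R.f s / R.f s') ^ 2 := by
        rw [← hfb]; ring
      rw [e4]
      have e5 : (t / t') ^ 4 = (s / s') ^ 2 := by rw [← hb]; ring
      have e6 : (t / t') ^ 3 * (t / t') = (s / s') ^ 2 := by rw [← e5]; ring
      have : (t / t') ^ 3 = (s / s') ^ 2 / (t / t') := by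
        rw [eq_div_iff ha0]; exact e6
      rw [this]
      field_simp
      field_simp at e25
      linear_combination e25
    have htt : t = t' := (div_eq_one_iff_eq ht').mp hγ
    subst htt
    have hss : s = s' := by
      rw [div_self ht, one_pow] at hb
      exact ((div_eq_one_iff_eq hs').mp hb.symm)
    subst hss
    rfl
  have hcard : Nat.card ({x : K // x ≠ 0} × {y : K // y ≠ 0}) =
      (2 ^ (2 * m + 1) - 1) ^ 2 := by
    rw [Nat.card_prod, h8card_ne_zero, hK, sq]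
  rw [le_antisymm hup hlow, hcard]

end Cfsg.Agent.Lib.helper8
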