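import Mathlib
import Cfsg.Prelude.Def_ChevStructure
import Cfsg.Prelude.Def_ChevF4
import Cfsg.Prelude.Def_LieTwisted
import Cfsg.Agent.Lib.helper8.ChevTF17

set_option autoImplicit false

namespace Cfsg.Agent.Lib.helper8

open Cfsg.Lie Cfsg.Lie.ChevalleyDatum

universe u

variable {K : Type u} [Field K] {hB : H8Base.{u} chevF4}

/-- the sixteen elements of the twisted Weyl group as words in the simple reflections -/
def h8tfWd (k : ℕ) : List ℕ :=
  (if k % 2 = 1 then [0, 3] else []) ++ h8repW ([0, 3] ++ [1, 2, 1, 2]) (k / 2)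

theorem h8tfWd_lt (k : ℕ) : ∀ i ∈ h8tfWd k, i < chevF4.rank := by
  intro i hi
  unfold h8tfWd at hi
  have h4 : chevF4.rank = 4 := rfl
  rw [h4]
  rcases List.mem_append.mp hi with h | h
  · split_ifs at h
    · simp only [List.mem_cons, List.not_mem_nil, or_false] at h
      rcases h with rfl | rfl <;> norm_num
    · cases h
  · have := h8repW_mem _ _ _ h
    simp only [List.cons_append, List.nil_append, List.mem_cons, List.not_mem_nil,
      or_false] at this
    rcases this with rfl | rfl | rfl | rfl | rfl | rfl <;> norm_num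

/-- every element of the twisted Weyl group is one of the sixteen words -/
theorem h8tf_cent_word (hA : H8ReflAll chevF4) (v : Equiv.Perm (Fin chevF4.nroots))
    (hv : v ∈ Subgroup.closure {h8tfW1 hA, h8tfW2 hA}) :
    ∃ k < 16, v = h8wPerm chevF4 hA (h8tfWd k) := by
  rw [← h8tfDih_range] at hv
  obtain ⟨d, rfl⟩ := hv
  have hc : h8wPerm chevF4 hA ([0, 3] ++ [1, 2, 1, 2]) = h8tfW1 hA * h8tfW2 hA := by
    rw [h8wPerm_append]
    rfl
  rcases d with i | i
  · refine ⟨2 * i.val, by have := ZMod.val_lt i; omega, ?_⟩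
    unfold h8tfWd h8tfDih
    rw [h8dihHom_r, if_neg (by omega), List.nil_append, h8wPerm_repW, hc]
    congr 1
    omega
  · refine ⟨2 * i.val + 1, by have := ZMod.val_lt i; omega, ?_⟩
    unfold h8tfWd h8tfDih
    rw [h8dihHom_sr, if_pos (by omega), h8wPerm_append, h8wPerm_repW, hc]
    have : (2 * i.val + 1) / 2 = i.val := by omega
    rw [this]
    rfl

/-- the elements of the twisted Weyl group normalising `U_J`, first class -/
def h8tfNormChk (L : List ℕ) (wJ : List ℕ) : Bool :=
  (List.range 16).all fun k =>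
    !((List.range 48).all fun r => !(decide (chevF4.IsPosRoot r)) || decide (r ∈ L) ||
      (decide (chevF4.IsPosRoot (h8sW chevF4 (h8tfWd k) r)) &&
        !(decide (h8sW chevF4 (h8tfWd k) r ∈ L)))) ||
    ((List.range 48).all fun r => decide (h8sW chevF4 (h8tfWd k) r = r)) ||
    ((List.range 48).all fun r => decide (h8sW chevF4 (h8tfWd k) r = h8sW chevF4 wJ r))

theorem h8tfNormChk1 : h8tfNormChk [24, 33] [0, 3] = true := by decide +kernel

theorem h8tfNormChk2 : h8tfNormChk [25, 27, 28, 30] [1, 2, 1, 2] = true := by decide +kernel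

theorem h8tfNormChk_spec (L wJ : List ℕ) (h : h8tfNormChk L wJ = true) (k : ℕ) (hk : k < 16)
    (hpos : ∀ r < 48, chevF4.IsPosRoot r → r ∉ L →
      chevF4.IsPosRoot (h8sW chevF4 (h8tfWd k) r) ∧ h8sW chevF4 (h8tfWd k) r ∉ L) :
    (∀ r < 48, h8sW chevF4 (h8tfWd k) r = r) ∨
      (∀ r < 48, h8sW chevF4 (h8tfWd k) r = h8sW chevF4 wJ r) := by
  unfold h8tfNormChk at h
  rw [List.all_eq_true] at h
  have hk' := h k (List.mem_range.mpr hk)
  simp only [Bool.or_eq_true, Bool.not_eq_true', List.all_eq_true, List.mem_range,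
    decide_eq_true_eq] at hk'
  rcases hk' with (h1 | h2) | h3
  · exfalso
    rw [← Bool.not_eq_true, List.all_eq_true] at h1
    apply h1
    intro r hr
    rw [List.mem_range] at hr
    by_cases hp : chevF4.IsPosRoot r
    · by_cases hL : r ∈ L
      · simp [hL]
      · obtain ⟨h5, h6⟩ := hpos r hr hp hL
        simp [hp, hL, h5, h6]
    · simp [hp]
  · exact Or.inl h2
  · exact Or.inr h3

end Cfsg.Agent.Lib.helper8
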