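import Mathlib
import Cfsg.Prelude.Def_ChevStructure
import Cfsg.Prelude.Def_ChevF4
import Cfsg.Prelude.Def_LieTwisted
import Cfsg.Agent.Lib.helper8.ChevTF20
import Cfsg.Agent.Lib.helper8.ChevPar2

set_option autoImplicit false

namespace Cfsg.Agent.Lib.helper8

open Cfsg.Lie Cfsg.Lie.ChevalleyDatum

universe u

variable {K : Type u} [Field K] {hB : H8Base.{u} chevF4}

section
variable {J : Set ℕ} {L : List ℕ} (hJ : H8TFJ J L)

theorem h8tf_LJ_le_PJ : chevF4.leviSubgroup K J ≤ chevF4.parabolicSubgroup K J := by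
  rw [← (Cfsg.Agent.S1048.result (F := K) chevF4 h8tf_F4_mem J).2.1]
  exact le_sup_right

/-- a word in the simple reflections of `J` is represented in the Levi subgroup -/
theorem h8tf_nWU_mem_LJ (hB : H8Base.{u} chevF4) (w : List ℕ) (hw : ∀ i ∈ w, i < chevF4.rank ∧ i ∈ J) :
    (h8nWU chevF4 hB w : GL chevF4.Idx K) ∈ chevF4.leviSubgroup K J := by
  unfold h8nWU
  apply Subgroup.list_prod_mem
  intro g hg
  rw [List.mem_map] at hg
  obtain ⟨i, hi, rfl⟩ := hg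
  obtain ⟨h1, h2⟩ := h8simChk_spec chevF4 (h8simChk_all chevF4 h8tf_F4_mem) J i (hw i hi).1
    (hw i hi).2
  rw [h8nU_eq]
  have hx : ∀ r, chevF4.InRootSub J r → ∀ t : K, h8xU chevF4 hB r t ∈ chevF4.leviSubgroup K J := by
    intro r hr t
    unfold ChevalleyDatum.leviSubgroup
    exact Subgroup.mem_sup_right (Subgroup.subset_closure ⟨r, t, hr, h8xU_val chevF4 hB r t⟩)
  exact Subgroup.mul_mem _ (Subgroup.mul_mem _ (hx _ h1 _) (hx _ h2 _)) (hx _ h1 _)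

include hJ in
/-- an element of `N` in `P_J` permutes the positive roots outside `Φ_J` -/
theorem h8tf_norm_UJ (hB0 : H8Base.{0} chevF4) (hA : H8ReflAll chevF4) (hBN : H8BN chevF4)
    (hW : H8BN2 chevF4) (hO2 : H8Ord2 chevF4) (m : ↥(chevF4.monomialSubgroup K))
    (hm : m.val ∈ chevF4.parabolicSubgroup K J) (r : Fin chevF4.nroots)
    (hr : chevF4.IsPosRoot r.val) (hrL : r.val ∉ L) :
    chevF4.IsPosRoot ((h8Pi chevF4 hB hA hBN hW hO2 m) r).val ∧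
      ((h8Pi chevF4 hB hA hBN hW hO2 m) r).val ∉ L := by
  obtain ⟨c, hc, hact⟩ := h8Pi_act chevF4 hB hA hBN hW hO2 m r
  set s := ((h8Pi chevF4 hB hA hBN hW hO2 m) r).val with hs
  have hslt : s < chevF4.nroots := Fin.is_lt _
  have hxU : h8xU chevF4 hB r.val (1 : K) ∈ chevF4.unipotentRadical K J := by
    unfold ChevalleyDatum.unipotentRadical
    exact Subgroup.subset_closure ⟨r.val, 1, hr, hJ.notJ r.val hr hrL, h8xU_val chevF4 hB _ _⟩
  have hconj : h8xU chevF4 hB s (c * 1) ∈ chevF4.unipotentRadical K J := by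
    rw [← hact 1]
    exact (Subgroup.mem_normalizer_iff.mp
      ((Cfsg.Agent.S1048.result (F := K) chevF4 h8tf_F4_mem J).1 hm) _).mp hxU
  have hne : h8xU chevF4 hB s (c * 1) ≠ 1 := by
    intro h1
    rw [← h8xU_zero' chevF4 hB s] at h1
    have := h8xU_inj_t chevF4 hB hA hW s hslt _ _ h1
    rw [mul_one] at this
    exact hc this
  constructor
  · by_contra hnp
    have hneg := h8tf_notpos_neg hB0 s hslt hnp
    have hbot : h8xU chevF4 hB s (c * 1) ∈ chevF4.borelSubgroup K ⊓ chevF4.negUnipotent K :=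
      ⟨h8U_le_B chevF4 (h8tf_UJ_le_U hconj), h8xU_mem_V chevF4 hB s hneg _⟩
    rw [h8_B_inf_V chevF4 hB hBN.negOK, Subgroup.mem_bot] at hbot
    exact hne hbot
  · intro hsL
    have hbot : h8xU chevF4 hB s (c * 1) ∈
        chevF4.unipotentRadical K J ⊓ chevF4.leviSubgroup K J :=
      ⟨hconj, h8tf_XL_le_LJ hJ (h8xU_mem_XL chevF4 hB L s hsL _)⟩
    rw [(Cfsg.Agent.S1048.result (F := K) chevF4 h8tf_F4_mem J).2.2, Subgroup.mem_bot] at hbot
    exact hne hbot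

variable [CharP K 2] (R : H8TF K hB)

include hJ in
/-- the Bruhat decomposition of a fixed element of the negative root subgroups of a twisted
fundamental class -/
theorem h8tf_rank1 (hB0 : H8Base.{0} chevF4) (hA : H8ReflAll chevF4) (hC : H8CommAll.{u} chevF4)
    (hBN : H8BN chevF4) (hW : H8BN2 chevF4) (hO : H8Ord chevF4) (hO2 : H8Ord2 chevF4)
    (wJ : List ℕ) (hwJ : ∀ i ∈ wJ, i < chevF4.rank ∧ i ∈ J)
    (hchk : h8tfNormChk L wJ = true) (Lm : List ℕ)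
    (hLm : ∀ r ∈ Lm, chevF4.InRootSub J r ∧ chevF4.IsNegRoot r)
    (v : GL chevF4.Idx K) (hv : v ∈ Subgroup.closure (h8XLSet chevF4 K Lm))
    (hfix : h8tfS R v = v) (hne : v ≠ 1) :
    ∃ x₁ ∈ Subgroup.closure (h8XLSet chevF4 K L), ∃ m : ↥(chevF4.monomialSubgroup K),
      ∃ x₂ ∈ Subgroup.closure (h8XLSet chevF4 K L),
      h8tfS R x₁ = x₁ ∧ h8tfS R m.val = m.val ∧ h8tfS R x₂ = x₂ ∧ v = x₁ * m.val * x₂ ∧
        h8Pi chevF4 hB hA hBN hW hO2 m = h8wPerm chevF4 hA wJ := by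
  have hvL : v ∈ chevF4.leviSubgroup K J := by
    have hle : Subgroup.closure (h8XLSet chevF4 K Lm) ≤ chevF4.leviSubgroup K J := by
      unfold ChevalleyDatum.leviSubgroup
      refine le_trans ?_ le_sup_right
      apply Subgroup.closure_mono
      rintro g ⟨r, t, hr, hg⟩
      exact ⟨r, t, (hLm r hr).1, hg⟩
    exact hle hv
  have hvV : v ∈ chevF4.negUnipotent K := by
    have hle : Subgroup.closure (h8XLSet chevF4 K Lm) ≤ chevF4.negUnipotent K := by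
      unfold ChevalleyDatum.negUnipotent
      apply Subgroup.closure_mono
      rintro g ⟨r, t, hr, hg⟩
      exact ⟨r, t, (hLm r hr).2, hg⟩
    exact hle hv
  have hvG : v ∈ chevF4.group K := h8_V_le_group' chevF4 hvV
  obtain ⟨u1, hu1, m, hm, u, hu, hveq, f1, f2, f3⟩ := h8tf_normal R hA hC hBN hW hO v hvG hfix
  have huU : u ∈ chevF4.posUnipotent K := h8Um_le_U chevF4 _ hu
  have hmP : m ∈ chevF4.parabolicSubgroup K J := by
    have : m = u1⁻¹ * v * u⁻¹ := by rw [hveq]; group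
    rw [this]
    exact Subgroup.mul_mem _ (Subgroup.mul_mem _ (Subgroup.inv_mem _ (h8tf_U_le_PJ hu1))
      (h8tf_LJ_le_PJ hvL)) (Subgroup.inv_mem _ (h8tf_U_le_PJ huU))
  -- the permutation induced by `m`
  have hcomm : ∀ r, h8Pi chevF4 hB hA hBN hW hO2 ⟨m, hm⟩ (h8tfRhoF r) =
      h8tfRhoF (h8Pi chevF4 hB hA hBN hW hO2 ⟨m, hm⟩ r) :=
    fun r => h8tf_Pi_comm R hA hBN hW hO2 ⟨m, hm⟩ f2 r
  have hcl := h8tf_cent hB0 hA hBN hW hO2 _ _ (h8Pi_mem_W chevF4 hB hA hBN hW hO2 ⟨m, hm⟩)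
    hcomm rfl
  obtain ⟨k, hk, hπ⟩ := h8tf_cent_word hA _ hcl
  have hpos : ∀ r < 48, chevF4.IsPosRoot r → r ∉ L →
      chevF4.IsPosRoot (h8sW chevF4 (h8tfWd k) r) ∧ h8sW chevF4 (h8tfWd k) r ∉ L := by
    intro r hr hrp hrL
    have := h8tf_norm_UJ (hB := hB) hJ hB0 hA hBN hW hO2 ⟨m, hm⟩ hmP ⟨r, hr⟩ hrp hrL
    rw [hπ, h8wPerm_val chevF4 hA _ (h8tfWd_lt k)] at this
    exact this
  have hwJ' : ∀ i ∈ wJ, i < chevF4.rank := fun i hi => (hwJ i hi).1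
  have hπJ : h8Pi chevF4 hB hA hBN hW hO2 ⟨m, hm⟩ = h8wPerm chevF4 hA wJ := by
    rcases h8tfNormChk_spec L wJ hchk k hk hpos with h1 | h2
    · exfalso
      have hπ1 : h8Pi chevF4 hB hA hBN hW hO2 ⟨m, hm⟩ = 1 := by
        rw [hπ]
        apply Equiv.ext
        intro r
        apply Fin.ext
        rw [h8wPerm_val chevF4 hA _ (h8tfWd_lt k), h1 r.val r.2]
        rfl
      have hmH := h8Pi_ker chevF4 hB hA hBN hW hO2 ⟨m, hm⟩ hπ1
      have hbot : v ∈ chevF4.borelSubgroup K ⊓ chevF4.negUnipotent K := by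
        refine ⟨?_, hvV⟩
        rw [hveq]
        exact Subgroup.mul_mem _ (Subgroup.mul_mem _ (h8U_le_B chevF4 hu1)
          (h8H_le_B chevF4 hmH)) (h8U_le_B chevF4 huU)
      rw [h8_B_inf_V chevF4 hB hBN.negOK, Subgroup.mem_bot] at hbot
      exact hne hbot
    · rw [hπ]
      apply Equiv.ext
      intro r
      apply Fin.ext
      rw [h8wPerm_val chevF4 hA _ (h8tfWd_lt k), h8wPerm_val chevF4 hA _ hwJ', h2 r.val r.2]
  -- `m` lies in the Levi subgroup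
  have hmL : m ∈ chevF4.leviSubgroup K J := by
    have hnN := h8nWU_mem_N (F := K) chevF4 hB hA wJ hwJ'
    have hH : m * (h8nWU chevF4 hB wJ)⁻¹ ∈ chevF4.diagonalSubgroup K := by
      apply h8Pi_ker chevF4 hB hA hBN hW hO2
        ⟨m * (h8nWU chevF4 hB wJ)⁻¹, Subgroup.mul_mem _ hm (Subgroup.inv_mem _ hnN)⟩
      have : (⟨m * (h8nWU chevF4 hB wJ)⁻¹, Subgroup.mul_mem _ hm (Subgroup.inv_mem _ hnN)⟩ :
          ↥(chevF4.monomialSubgroup K)) = ⟨m, hm⟩ * ⟨h8nWU chevF4 hB wJ, hnN⟩⁻¹ := rfl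
      rw [this, map_mul, map_inv, h8Pi_nWU chevF4 hB hA hBN hW hO2 wJ hwJ', hπJ, mul_inv_cancel]
    have : m = (m * (h8nWU chevF4 hB wJ)⁻¹) * h8nWU chevF4 hB wJ := by group
    rw [this]
    refine Subgroup.mul_mem _ ?_ (h8tf_nWU_mem_LJ hB wJ hwJ)
    unfold ChevalleyDatum.leviSubgroup
    exact Subgroup.mem_sup_left hH
  -- decompose the unipotent parts
  obtain ⟨y₁, hy₁, x₁, hx₁, e1, _, fx₁⟩ := h8tf_U_decomp_fix hJ R u1 hu1 f1
  obtain ⟨y₂, hy₂, x₂, hx₂, e2, _, fx₂⟩ := h8tf_U_decomp_fix hJ R u huU f3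
  refine ⟨x₁, hx₁, ⟨m, hm⟩, x₂, hx₂, fx₁, f2, fx₂, ?_, hπJ⟩
  have hlL : x₁ * m * x₂ ∈ chevF4.leviSubgroup K J :=
    Subgroup.mul_mem _ (Subgroup.mul_mem _ (h8tf_XL_le_LJ hJ hx₁) hmL) (h8tf_XL_le_LJ hJ hx₂)
  have hx₂U := h8tf_XL_le_U hJ hx₂
  have hy₂' : x₂⁻¹ * y₂ * x₂ ∈ chevF4.unipotentRadical K J := by
    have := h8tf_U_conj_UJ (J := J) x₂⁻¹ (Subgroup.inv_mem _ hx₂U) y₂ hy₂
    rwa [inv_inv] at this
  have hnorm := (Cfsg.Agent.S1048.result (F := K) chevF4 h8tf_F4_mem J).1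
    (h8tf_LJ_le_PJ hlL)
  have hconj : (x₁ * m * x₂) * (x₂⁻¹ * y₂ * x₂) * (x₁ * m * x₂)⁻¹ ∈
      chevF4.unipotentRadical K J := (Subgroup.mem_normalizer_iff.mp hnorm _).mp hy₂'
  have hbot : v * (x₁ * m * x₂)⁻¹ ∈ chevF4.unipotentRadical K J ⊓ chevF4.leviSubgroup K J := by
    refine ⟨?_, Subgroup.mul_mem _ hvL (Subgroup.inv_mem _ hlL)⟩
    have : v * (x₁ * m * x₂)⁻¹ =
        y₁ * ((x₁ * m * x₂) * (x₂⁻¹ * y₂ * x₂) * (x₁ * m * x₂)⁻¹) := by
      rw [hveq, e1, e2]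
      group
    rw [this]
    exact Subgroup.mul_mem _ hy₁ hconj
  rw [(Cfsg.Agent.S1048.result (F := K) chevF4 h8tf_F4_mem J).2.2, Subgroup.mem_bot] at hbot
  exact mul_inv_eq_one.mp hbot

end

end Cfsg.Agent.Lib.helper8
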