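import Mathlib
import Cfsg.Prelude.Def_ChevStructure
import Cfsg.Prelude.Def_ChevF4
import Cfsg.Prelude.Def_LieTwisted
import Cfsg.Agent.Lib.helper8.ChevTF21

set_option autoImplicit false

namespace Cfsg.Agent.Lib.helper8

open Cfsg.Lie Cfsg.Lie.ChevalleyDatum

universe u

variable {K : Type u} [Field K] {hB : H8Base.{u} chevF4}

/-- every element of the twisted Weyl group maps the roots of a twisted fundamental class to
roots of the same sign -/
def h8tfSignChk (L Lm : List ℕ) : Bool :=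
  (List.range 16).all fun k =>
    (L.all fun r => decide (chevF4.IsPosRoot (h8sW chevF4 (h8tfWd k) r))) ||
    ((L.all fun r => decide (chevF4.IsNegRoot (h8sW chevF4 (h8tfWd k) r))) &&
      (Lm.all fun r => decide (chevF4.IsPosRoot (h8sW chevF4 (h8tfWd k) r))))

theorem h8tfSignChk1 : h8tfSignChk [24, 33] [23, 14] = true := by decide +kernel

theorem h8tfSignChk2 : h8tfSignChk [25, 27, 28, 30] [22, 20, 19, 17] = true := by decide +kernel

/-- the data of a class: `w_J` exchanges `L` and `-L` -/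
def h8tfClsChk (J : List ℕ) (L Lm wJ : List ℕ) : Bool :=
  (L.all fun r => decide (h8sW chevF4 wJ r ∈ Lm)) &&
  (Lm.all fun r => decide (h8sW chevF4 wJ r ∈ L)) &&
  (Lm.all fun r => decide (chevF4.IsNegRoot r) && decide (r < 48) &&
    (List.range 4).all fun i => decide (i ∈ J) ||
      decide ((chevF4.coroot.getD r #[]).getD i 0 = 0)) &&
  (wJ.all fun i => decide (i < 4) && decide (i ∈ J))

theorem h8tfClsChk1 : h8tfClsChk [0, 3] [24, 33] [23, 14] [0, 3] = true := by decide +kernel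

theorem h8tfClsChk2 : h8tfClsChk [1, 2] [25, 27, 28, 30] [22, 20, 19, 17] [1, 2, 1, 2] = true := by
  decide +kernel


/-- the data of a twisted fundamental class -/
structure H8TFC (J : Set ℕ) (L Lm wJ : List ℕ) : Prop where
  hJ : H8TFJ J L
  wJlt : ∀ i ∈ wJ, i < chevF4.rank ∧ i ∈ J
  norm : h8tfNormChk L wJ = true
  sign : h8tfSignChk L Lm = true
  hLm : ∀ r ∈ Lm, chevF4.InRootSub J r ∧ chevF4.IsNegRoot r
  wL : ∀ r ∈ L, h8sW chevF4 wJ r ∈ Lm
  wLm : ∀ r ∈ Lm, h8sW chevF4 wJ r ∈ L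
  sq : ∀ hA : H8ReflAll chevF4, h8wPerm chevF4 hA wJ * h8wPerm chevF4 hA wJ = 1

theorem h8tfClsChk_spec (Jl : List ℕ) (J : Set ℕ) (hJJ : ∀ i, i ∈ Jl ↔ i ∈ J)
    (L Lm wJ : List ℕ) (h : h8tfClsChk Jl L Lm wJ = true) :
    (∀ r ∈ L, h8sW chevF4 wJ r ∈ Lm) ∧ (∀ r ∈ Lm, h8sW chevF4 wJ r ∈ L) ∧
    (∀ r ∈ Lm, chevF4.InRootSub J r ∧ chevF4.IsNegRoot r) ∧
    (∀ i ∈ wJ, i < chevF4.rank ∧ i ∈ J) := by
  unfold h8tfClsChk at h
  simp only [Bool.and_eq_true, List.all_eq_true, decide_eq_true_eq, Bool.or_eq_true,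
    List.mem_range] at h
  obtain ⟨⟨⟨h1, h2⟩, h3⟩, h4⟩ := h
  refine ⟨h1, h2, ?_, ?_⟩
  · intro r hr
    obtain ⟨⟨h5, h6⟩, h7⟩ := h3 r hr
    refine ⟨⟨h6, ?_⟩, h5⟩
    intro i hi hiJ
    rcases h7 i hi with h8 | h8
    · exact absurd ((hJJ i).mp h8) hiJ
    · exact h8
  · intro i hi
    exact ⟨(h4 i hi).1, (hJJ i).mp (h4 i hi).2⟩

theorem h8tfC1 : H8TFC ({0, 3} : Set ℕ) [24, 33] [23, 14] [0, 3] := by
  obtain ⟨h1, h2, h3, h4⟩ := h8tfClsChk_spec [0, 3] ({0, 3} : Set ℕ) (by intro i; simp) _ _ _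
    h8tfClsChk1
  exact ⟨h8tfJ1, h4, h8tfNormChk1, h8tfSignChk1, h3, h1, h2, fun hA => h8tfW1_sq hA⟩

theorem h8tfC2 : H8TFC ({1, 2} : Set ℕ) [25, 27, 28, 30] [22, 20, 19, 17] [1, 2, 1, 2] := by
  obtain ⟨h1, h2, h3, h4⟩ := h8tfClsChk_spec [1, 2] ({1, 2} : Set ℕ) (by intro i; simp) _ _ _
    h8tfClsChk2
  exact ⟨h8tfJ2, h4, h8tfNormChk2, h8tfSignChk2, h3, h1, h2, fun hA => h8tfW2_sq hA⟩

/-- conjugation maps a group generated by root subgroups into a subgroup if it does so on the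
generators -/
theorem h8conj_XL (D : ChevalleyDatum) (hB : H8Base.{u} D) (g : GL D.Idx K) (L : List ℕ)
    (T : Subgroup (GL D.Idx K)) (h : ∀ r ∈ L, ∀ t : K, g * h8xU D hB r t * g⁻¹ ∈ T)
    (x : GL D.Idx K) (hx : x ∈ Subgroup.closure (h8XLSet D K L)) : g * x * g⁻¹ ∈ T := by
  induction hx using Subgroup.closure_induction with
  | mem y hy =>
    obtain ⟨r, t, hr, hy⟩ := hy
    have : y = h8xU D hB r t := Units.ext (by rw [hy, h8xU_val])
    rw [this]
    exact h r hr t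
  | one =>
    have : g * 1 * g⁻¹ = 1 := by group
    rw [this]
    exact Subgroup.one_mem _
  | mul a b _ _ ha hb =>
    have : g * (a * b) * g⁻¹ = (g * a * g⁻¹) * (g * b * g⁻¹) := by group
    rw [this]
    exact Subgroup.mul_mem _ ha hb
  | inv a _ ha =>
    have : g * a⁻¹ * g⁻¹ = (g * a * g⁻¹)⁻¹ := by group
    rw [this]
    exact Subgroup.inv_mem _ ha

/-- `H` normalises a group generated by root subgroups -/
theorem h8conj_XL_H (D : ChevalleyDatum) (hB : H8Base.{u} D) (h : GL D.Idx K)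
    (hh : h ∈ D.diagonalSubgroup K) (L : List ℕ) (hL : ∀ r ∈ L, r < D.nroots)
    (x : GL D.Idx K) (hx : x ∈ Subgroup.closure (h8XLSet D K L)) :
    h * x * h⁻¹ ∈ Subgroup.closure (h8XLSet D K L) := by
  apply h8conj_XL D hB h L _ _ x hx
  intro r hr t
  obtain ⟨c, _, hact⟩ := h8perm_H_id D hB h hh r (hL r hr)
  rw [hact]
  exact h8xU_mem_XL D hB L r hr _

end Cfsg.Agent.Lib.helper8
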