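import Mathlib
import Cfsg.Prelude.Def_ChevStructure
import Cfsg.Prelude.Def_ChevF4
import Cfsg.Prelude.Def_LieTwisted
import Cfsg.Agent.Lib.helper8.ChevTF22

set_option autoImplicit false

namespace Cfsg.Agent.Lib.helper8

open Cfsg.Lie Cfsg.Lie.ChevalleyDatum

universe u

variable {K : Type u} [Field K] {hB : H8Base.{u} chevF4}

section
variable {J : Set ℕ} {L Lm wJ : List ℕ} (C : H8TFC J L Lm wJ)
  (hB0 : H8Base.{0} chevF4) (hA : H8ReflAll chevF4) (hC : H8CommAll.{u} chevF4)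
  (hBN : H8BN chevF4) (hW : H8BN2 chevF4) (hO : H8Ord chevF4) (hO2 : H8Ord2 chevF4)

include C in
theorem h8tfC_L_lt : ∀ r ∈ L, r < chevF4.nroots := fun r hr => (C.hJ.inJ r hr).1.1

include C in
theorem h8tfC_Lm_lt : ∀ r ∈ Lm, r < chevF4.nroots := fun r hr => (C.hLm r hr).2.1

include C in
theorem h8tfC_w_lt : ∀ i ∈ wJ, i < chevF4.rank := fun i hi => (C.wJlt i hi).1

include C hA in
/-- the representative of `w_J` conjugates `X_S` into `X_{-S}` -/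
theorem h8tfC_conj_s (x : GL chevF4.Idx K) (hx : x ∈ Subgroup.closure (h8XLSet chevF4 K L)) :
    h8nWU chevF4 hB wJ * x * (h8nWU chevF4 hB wJ)⁻¹ ∈
      Subgroup.closure (h8XLSet chevF4 K Lm) := by
  apply h8conj_XL chevF4 hB _ L _ _ x hx
  intro r hr t
  obtain ⟨c, _, hact⟩ := h8actN_act chevF4 hB _ _ _
    (h8actN_word (F := K) chevF4 hB hA wJ (h8tfC_w_lt C) r (h8tfC_L_lt C r hr))
  rw [hact]
  exact h8xU_mem_XL chevF4 hB Lm _ (C.wL r hr) _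

include C hA in
/-- the representative of `w_J` conjugates `X_{-S}` into `X_S` -/
theorem h8tfC_conj_s' (x : GL chevF4.Idx K) (hx : x ∈ Subgroup.closure (h8XLSet chevF4 K Lm)) :
    h8nWU chevF4 hB wJ * x * (h8nWU chevF4 hB wJ)⁻¹ ∈
      Subgroup.closure (h8XLSet chevF4 K L) := by
  apply h8conj_XL chevF4 hB _ Lm _ _ x hx
  intro r hr t
  obtain ⟨c, _, hact⟩ := h8actN_act chevF4 hB _ _ _
    (h8actN_word (F := K) chevF4 hB hA wJ (h8tfC_w_lt C) r (h8tfC_Lm_lt C r hr))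
  rw [hact]
  exact h8xU_mem_XL chevF4 hB L _ (C.wLm r hr) _

include C hA hBN hW hO2 in
/-- the square of the representative of `w_J` lies in `H` -/
theorem h8tfC_sq_mem :
    (h8nWU chevF4 hB wJ : GL chevF4.Idx K) * h8nWU chevF4 hB wJ ∈ chevF4.diagonalSubgroup K := by
  have hsN := h8nWU_mem_N (F := K) chevF4 hB hA wJ (h8tfC_w_lt C)
  apply h8Pi_ker chevF4 hB hA hBN hW hO2 ⟨_, Subgroup.mul_mem _ hsN hsN⟩
  have : (⟨(h8nWU chevF4 hB wJ : GL chevF4.Idx K) * h8nWU chevF4 hB wJ,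
      Subgroup.mul_mem _ hsN hsN⟩ : ↥(chevF4.monomialSubgroup K)) = ⟨_, hsN⟩ * ⟨_, hsN⟩ := rfl
  rw [this, map_mul, h8Pi_nWU chevF4 hB hA hBN hW hO2 wJ (h8tfC_w_lt C)]
  exact C.sq hA

include C hA hBN hW hO2 in
/-- the inverse of the representative of `w_J` conjugates `X_S` into `X_{-S}` -/
theorem h8tfC_conj_sinv (x : GL chevF4.Idx K)
    (hx : x ∈ Subgroup.closure (h8XLSet chevF4 K L)) :
    (h8nWU chevF4 hB wJ)⁻¹ * x * h8nWU chevF4 hB wJ ∈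
      Subgroup.closure (h8XLSet chevF4 K Lm) := by
  have h1 := h8tfC_conj_s (hB := hB) C hA x hx
  have h2 := h8conj_XL_H chevF4 hB _ (Subgroup.inv_mem _ (h8tfC_sq_mem (hB := hB) C hA hBN hW hO2))
    Lm (h8tfC_Lm_lt C) _ h1
  have e : (h8nWU chevF4 hB wJ)⁻¹ * x * h8nWU chevF4 hB wJ =
      ((h8nWU chevF4 hB wJ : GL chevF4.Idx K) * h8nWU chevF4 hB wJ)⁻¹ *
        (h8nWU chevF4 hB wJ * x * (h8nWU chevF4 hB wJ)⁻¹) *
        ((h8nWU chevF4 hB wJ * h8nWU chevF4 hB wJ)⁻¹)⁻¹ := by group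
  rw [e]
  exact h2

variable [CharP K 2] (R : H8TF K hB) (G1 : Subgroup (GL chevF4.Idx K))
  (hG1 : ∀ g ∈ G1, g ∈ chevF4.group K ∧ h8tfS R g = g)
  (hXfix : ∀ g ∈ Subgroup.closure (h8XLSet chevF4 K L), h8tfS R g = g → g ∈ G1)

include C hG1 hXfix hA hBN in
/-- an element of `B¹` is a product of an element normalised by `n_S` and a fixed element
of `X_S` -/
theorem h8tf_B1_decomp (b : GL chevF4.Idx K) (hb : b ∈ chevF4.borelSubgroup K) (hb1 : b ∈ G1) :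
    ∃ c ∈ G1, ∃ x ∈ Subgroup.closure (h8XLSet chevF4 K L), x ∈ G1 ∧ b = c * x ∧
      c ∈ chevF4.borelSubgroup K ∧
      h8nWU chevF4 hB wJ * c * (h8nWU chevF4 hB wJ)⁻¹ ∈ chevF4.borelSubgroup K := by
  obtain ⟨dep, par, horb⟩ := hBN.orb
  have hmemB : b ∈ ((chevF4.posUnipotent K ⊔ chevF4.diagonalSubgroup K :
      Subgroup (GL chevF4.Idx K)) : Set (GL chevF4.Idx K)) := hb
  rw [Subgroup.coe_mul_of_right_le_normalizer_left _ _ (h8_H_le_normalizer_U chevF4 hB)] at hmemB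
  obtain ⟨u, hu, h, hh, hbe⟩ := hmemB
  have hbe' : b = u * h := hbe.symm
  subst hbe'
  have huG := h8_U_le_group chevF4 hu
  have hhG := h8_H_le_group chevF4 hB hh
  have hfix : h8tfS R (u * h) = u * h := (hG1 _ hb1).2
  rw [h8tfS_mul R _ _ huG hhG] at hfix
  have hbot : u⁻¹ * h8tfS R u ∈ chevF4.posUnipotent K ⊓ chevF4.diagonalSubgroup K := by
    refine ⟨Subgroup.mul_mem _ (Subgroup.inv_mem _ hu) (h8tfS_U R u hu), ?_⟩
    have : u⁻¹ * h8tfS R u = h * (h8tfS R h)⁻¹ := by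
      rw [inv_mul_eq_iff_eq_mul, ← mul_assoc, ← hfix]
      group
    rw [this]
    exact Subgroup.mul_mem _ hh (Subgroup.inv_mem _ (h8tfS_H R h hh))
  rw [h8_U_inf_H chevF4 hB, Subgroup.mem_bot, inv_mul_eq_one] at hbot
  have hfu : h8tfS R u = u := hbot.symm
  have hfh : h8tfS R h = h := by
    rw [hfu] at hfix
    exact mul_left_cancel hfix
  obtain ⟨y, hy, x, hx, rfl, _, fx⟩ := h8tf_U_decomp_fix C.hJ R u hu hfu
  have hxG := h8_U_le_group chevF4 (h8tf_XL_le_U C.hJ hx)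
  have hx'' : h⁻¹ * x * (h⁻¹)⁻¹ ∈ Subgroup.closure (h8XLSet chevF4 K L) :=
    h8conj_XL_H chevF4 hB _ (Subgroup.inv_mem _ hh) L (h8tfC_L_lt C) x hx
  have hx''fix : h8tfS R (h⁻¹ * x * (h⁻¹)⁻¹) = h⁻¹ * x * (h⁻¹)⁻¹ := by
    rw [h8tfS_mul R _ _ (Subgroup.mul_mem _ (Subgroup.inv_mem _ hhG) hxG)
      (Subgroup.inv_mem _ (Subgroup.inv_mem _ hhG)),
      h8tfS_mul R _ _ (Subgroup.inv_mem _ hhG) hxG, h8tfS_inv R _ (Subgroup.inv_mem _ hhG),
      h8tfS_inv R _ hhG, hfh, fx]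
  have hx''G := hXfix _ hx'' hx''fix
  have hs := h8nWU_mem_N (F := K) chevF4 hB hA wJ (h8tfC_w_lt C)
  have hsL : (h8nWU chevF4 hB wJ : GL chevF4.Idx K) ∈ chevF4.leviSubgroup K J :=
    h8tf_nWU_mem_LJ hB wJ C.wJlt
  refine ⟨y * h, ?_, h⁻¹ * x * (h⁻¹)⁻¹, hx'', hx''G, by group, ?_, ?_⟩
  · have : y * h = (y * x * h) * (h⁻¹ * x * (h⁻¹)⁻¹)⁻¹ := by group
    rw [this]
    exact Subgroup.mul_mem _ hb1 (Subgroup.inv_mem _ hx''G)
  · exact Subgroup.mul_mem _ (h8U_le_B chevF4 (h8tf_UJ_le_U hy)) (h8H_le_B chevF4 hh)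
  · have e : h8nWU chevF4 hB wJ * (y * h) * (h8nWU chevF4 hB wJ)⁻¹ =
        (h8nWU chevF4 hB wJ * y * (h8nWU chevF4 hB wJ)⁻¹) *
          (h8nWU chevF4 hB wJ * h * (h8nWU chevF4 hB wJ)⁻¹) := by group
    rw [e]
    refine Subgroup.mul_mem _ (h8U_le_B chevF4 (h8tf_UJ_le_U (J := J) ?_)) (h8H_le_B chevF4 ?_)
    · exact (Subgroup.mem_normalizer_iff.mp
        ((Cfsg.Agent.S1048.result (F := K) chevF4 h8tf_F4_mem J).1 (h8tf_LJ_le_PJ hsL)) _).mp hy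
    · exact (Subgroup.mem_normalizer_iff.mp
        (h8N_le_normalizer_H (F := K) chevF4 hB hA dep par horb hs) _).mp hh

end

end Cfsg.Agent.Lib.helper8
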