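import Mathlib
import Cfsg.Prelude.Def_ChevStructure
import Cfsg.Prelude.Def_ChevF4
import Cfsg.Prelude.Def_LieTwisted
import Cfsg.Agent.Lib.helper8.ChevTF23

set_option autoImplicit false

namespace Cfsg.Agent.Lib.helper8

open Cfsg.Lie Cfsg.Lie.ChevalleyDatum

universe u

variable {K : Type u} [Field K] {hB : H8Base.{u} chevF4}

section
variable {J : Set ℕ} {L Lm wJ : List ℕ} (C : H8TFC J L Lm wJ)
  (hB0 : H8Base.{0} chevF4) (hA : H8ReflAll chevF4) (hC : H8CommAll.{u} chevF4)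
  (hBN : H8BN chevF4) (hW : H8BN2 chevF4) (hO : H8Ord chevF4) (hO2 : H8Ord2 chevF4)
  [CharP K 2] (R : H8TF K hB)

include C hB0 hA hBN hW hO2 in
/-- a fixed element of `N` conjugates `X_S` or `X_{-S}` into `U` -/
theorem h8tf_sign (n : GL chevF4.Idx K) (hn : n ∈ chevF4.monomialSubgroup K)
    (hfix : h8tfS R n = n) :
    (∀ x ∈ Subgroup.closure (h8XLSet chevF4 K L), n⁻¹ * x * n ∈ chevF4.posUnipotent K) ∨
    (∀ x ∈ Subgroup.closure (h8XLSet chevF4 K Lm), n⁻¹ * x * n ∈ chevF4.posUnipotent K) := by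
  have hnG := h8_N_le_group chevF4 hB hn
  have hfix' : h8tfS R n⁻¹ = n⁻¹ := by rw [h8tfS_inv R n hnG, hfix]
  have hcomm : ∀ r, h8Pi chevF4 hB hA hBN hW hO2 ⟨n⁻¹, Subgroup.inv_mem _ hn⟩ (h8tfRhoF r) =
      h8tfRhoF (h8Pi chevF4 hB hA hBN hW hO2 ⟨n⁻¹, Subgroup.inv_mem _ hn⟩ r) :=
    fun r => h8tf_Pi_comm R hA hBN hW hO2 ⟨n⁻¹, Subgroup.inv_mem _ hn⟩ hfix' r
  have hcl := h8tf_cent hB0 hA hBN hW hO2 _ _
    (h8Pi_mem_W chevF4 hB hA hBN hW hO2 ⟨n⁻¹, Subgroup.inv_mem _ hn⟩) hcomm rfl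
  obtain ⟨k, hk, hπ⟩ := h8tf_cent_word hA _ hcl
  have hact : ∀ r (hr : r < chevF4.nroots), ∃ c : K, c ≠ 0 ∧ ∀ t : K,
      n⁻¹ * h8xU chevF4 hB r t * n = h8xU chevF4 hB (h8sW chevF4 (h8tfWd k) r) (c * t) := by
    intro r hr
    obtain ⟨c, hc, h1⟩ := h8Pi_act chevF4 hB hA hBN hW hO2 ⟨n⁻¹, Subgroup.inv_mem _ hn⟩ ⟨r, hr⟩
    refine ⟨c, hc, fun t => ?_⟩
    have := h1 t
    rw [hπ, h8wPerm_val chevF4 hA _ (h8tfWd_lt k)] at this
    simpa using this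
  have hsign := C.sign
  unfold h8tfSignChk at hsign
  rw [List.all_eq_true] at hsign
  have hk' := hsign k (List.mem_range.mpr hk)
  simp only [Bool.or_eq_true, Bool.and_eq_true, List.all_eq_true, decide_eq_true_eq] at hk'
  have hgen : ∀ M : List ℕ, (∀ r ∈ M, r < chevF4.nroots) →
      (∀ r ∈ M, chevF4.IsPosRoot (h8sW chevF4 (h8tfWd k) r)) →
      ∀ x ∈ Subgroup.closure (h8XLSet chevF4 K M), n⁻¹ * x * n ∈ chevF4.posUnipotent K := by
    intro M hM hpos x hx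
    have := h8conj_XL chevF4 hB n⁻¹ M (chevF4.posUnipotent K) (by
      intro r hr t
      obtain ⟨c, _, h1⟩ := hact r (hM r hr)
      rw [inv_inv, h1]
      exact h8xU_mem_U chevF4 hB _ (hpos r hr) _) x hx
    rwa [inv_inv] at this
  rcases hk' with h1 | ⟨_, h2⟩
  · exact Or.inl (hgen L (h8tfC_L_lt C) h1)
  · exact Or.inr (hgen Lm (h8tfC_Lm_lt C) h2)

variable (G1 : Subgroup (GL chevF4.Idx K))
  (hG1 : ∀ g ∈ G1, g ∈ chevF4.group K ∧ h8tfS R g = g)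
  (hXfix : ∀ g ∈ Subgroup.closure (h8XLSet chevF4 K L), h8tfS R g = g → g ∈ G1)
  (hnS : (h8nWU chevF4 hB wJ : GL chevF4.Idx K) ∈ G1)

include C hB0 hA hC hBN hW hO hO2 hG1 hXfix hnS in
/-- the double coset axiom of `²F₄` for a twisted fundamental class -/
theorem h8tf_bn_axiom (n : GL chevF4.Idx K) (hn : n ∈ chevF4.monomialSubgroup K) (hn1 : n ∈ G1)
    (b : GL chevF4.Idx K) (hb : b ∈ chevF4.borelSubgroup K) (hb1 : b ∈ G1) :
    (∃ b1 ∈ chevF4.borelSubgroup K ⊓ G1, ∃ b2 ∈ chevF4.borelSubgroup K ⊓ G1,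
      h8nWU chevF4 hB wJ * b * n = b1 * (h8nWU chevF4 hB wJ * n) * b2) ∨
    (∃ b1 ∈ chevF4.borelSubgroup K ⊓ G1, ∃ b2 ∈ chevF4.borelSubgroup K ⊓ G1,
      h8nWU chevF4 hB wJ * b * n = b1 * n * b2) := by
  set s : GL chevF4.Idx K := h8nWU chevF4 hB wJ with hs
  have hsN : s ∈ chevF4.monomialSubgroup K := h8nWU_mem_N chevF4 hB hA wJ (h8tfC_w_lt C)
  obtain ⟨c, hc1, x, hx, hx1, rfl, hcB, hscB⟩ := h8tf_B1_decomp C hA hBN R G1 hG1 hXfix b hb hb1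
  have hsc1 : s * c * s⁻¹ ∈ G1 := Subgroup.mul_mem _ (Subgroup.mul_mem _ hnS hc1)
    (Subgroup.inv_mem _ hnS)
  rcases h8tf_sign C hB0 hA hBN hW hO2 R n hn (hG1 n hn1).2 with hA1 | hB1
  · -- the class stays positive
    left
    refine ⟨s * c * s⁻¹, ⟨hscB, hsc1⟩, n⁻¹ * x * n,
      ⟨h8U_le_B chevF4 (hA1 x hx), Subgroup.mul_mem _ (Subgroup.mul_mem _
        (Subgroup.inv_mem _ hn1) hx1) hn1⟩, by group⟩
  · -- the class becomes negative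
    by_cases hx0 : x = 1
    · left
      refine ⟨s * c * s⁻¹, ⟨hscB, hsc1⟩, 1, Subgroup.one_mem _, ?_⟩
      rw [hx0]
      group
    · right
      have hv := h8tfC_conj_s (hB := hB) C hA x hx
      have hv1 : s * x * s⁻¹ ∈ G1 := Subgroup.mul_mem _ (Subgroup.mul_mem _ hnS hx1)
        (Subgroup.inv_mem _ hnS)
      have hvne : s * x * s⁻¹ ≠ 1 := by
        intro h
        apply hx0
        have : x = s⁻¹ * (s * x * s⁻¹) * s := by group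
        rw [this, h]
        group
      obtain ⟨x₁, hx₁, m, x₂, hx₂, f1, f2, f3, hveq, hπ⟩ := h8tf_rank1 C.hJ R hB0 hA hC hBN hW hO hO2
        wJ C.wJlt C.norm Lm C.hLm _ hv (hG1 _ hv1).2 hvne
      have hx₁1 := hXfix x₁ hx₁ f1
      have hx₂1 := hXfix x₂ hx₂ f3
      have hm1 : m.val ∈ G1 := by
        have : m.val = x₁⁻¹ * (s * x * s⁻¹) * x₂⁻¹ := by rw [hveq]; group
        rw [this]
        exact Subgroup.mul_mem _ (Subgroup.mul_mem _ (Subgroup.inv_mem _ hx₁1) hv1)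
          (Subgroup.inv_mem _ hx₂1)
      have hmsH : m.val * s ∈ chevF4.diagonalSubgroup K := by
        apply h8Pi_ker chevF4 hB hA hBN hW hO2 ⟨m.val * s, Subgroup.mul_mem _ m.2 hsN⟩
        have : (⟨m.val * s, Subgroup.mul_mem _ m.2 hsN⟩ : ↥(chevF4.monomialSubgroup K)) =
            m * ⟨s, hsN⟩ := rfl
        rw [this, map_mul, hπ, h8Pi_nWU chevF4 hB hA hBN hW hO2 wJ (h8tfC_w_lt C)]
        exact C.sq hA
      have hx₂' : s⁻¹ * x₂ * s ∈ Subgroup.closure (h8XLSet chevF4 K Lm) :=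
        h8tfC_conj_sinv (hB := hB) C hA hBN hW hO2 x₂ hx₂
      have hb2U := hB1 _ hx₂'
      refine ⟨s * c * s⁻¹ * x₁ * (m.val * s), ⟨?_, ?_⟩, n⁻¹ * (s⁻¹ * x₂ * s) * n,
        ⟨h8U_le_B chevF4 hb2U, ?_⟩, ?_⟩
      · exact Subgroup.mul_mem _ (Subgroup.mul_mem _ hscB
          (h8U_le_B chevF4 (h8tf_XL_le_U C.hJ hx₁))) (h8H_le_B chevF4 hmsH)
      · exact Subgroup.mul_mem _ (Subgroup.mul_mem _ hsc1 hx₁1) (Subgroup.mul_mem _ hm1 hnS)
      · exact Subgroup.mul_mem _ (Subgroup.mul_mem _ (Subgroup.inv_mem _ hn1)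
          (Subgroup.mul_mem _ (Subgroup.mul_mem _ (Subgroup.inv_mem _ hnS) hx₂1) hnS)) hn1
      · have e1 : s * (c * x) * n = (s * c * s⁻¹) * (s * x * s⁻¹) * s * n := by group
        rw [e1, hveq]
        group

end

end Cfsg.Agent.Lib.helper8
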