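import Mathlib
import Cfsg.Prelude.Def_ChevStructure
import Cfsg.Prelude.Def_ChevF4
import Cfsg.Prelude.Def_LieTwisted
import Cfsg.Prelude.Def_LieExceptional
import Cfsg.Agent.Lib.helper8.ChevTF24

set_option autoImplicit false

namespace Cfsg.Agent.Lib.helper8

open Cfsg.Lie Cfsg.Lie.ChevalleyDatum

universe u

variable {K : Type u} [Field K] {hB : H8Base.{u} chevF4}

/-- a subgroup containing the four families of generators contains `²F₄` -/
theorem h8tf_gen_le (R : H8TF K hB) (e : ℕ) (hfe : ∀ t : K, R.f t = t ^ e)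
    (T : Subgroup (GL chevF4.Idx K)) (h1 : ∀ t, h8tfPair R 33 24 t ∈ T)
    (h2 : ∀ t, h8tfPair R 14 23 t ∈ T) (h3 : ∀ t v, h8tfCls R 27 25 28 30 t v ∈ T)
    (h4 : ∀ t v, h8tfCls R 20 22 19 17 t v ∈ T) : twistedF4 K e ≤ T := by
  unfold twistedF4 ChevalleyDatum.genSubgroup
  rw [Subgroup.closure_le]
  rintro x ⟨w, hw, hx⟩
  have hxw : x = h8wordU chevF4 hB w := by
    apply Units.ext
    rw [hx, h8wordU_val]
  rw [hxw]
  rcases hw with ⟨t, rfl | rfl⟩ | ⟨t, v, rfl | rfl⟩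
  · rw [h8tf_pairWord_eq R e hfe]; exact h1 t
  · rw [h8tf_pairWord_eq' R e hfe]; exact h2 t
  · rw [h8tf_clsWord_eq R e hfe]; exact h3 t v
  · rw [h8tf_clsWord_eq' R e hfe]; exact h4 t v

theorem h8tfPair_mem_XL (R : H8TF K hB) (r rbar : ℕ) (M : List ℕ) (hr : r ∈ M) (hrb : rbar ∈ M)
    (t : K) : h8tfPair R r rbar t ∈ Subgroup.closure (h8XLSet chevF4 K M) :=
  Subgroup.mul_mem _ (h8xU_mem_XL chevF4 hB M r hr _) (h8xU_mem_XL chevF4 hB M rbar hrb _)

theorem h8tfCls_mem_XL (R : H8TF K hB) (a b ab aab : ℕ) (M : List ℕ) (ha : a ∈ M) (hb : b ∈ M)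
    (hab : ab ∈ M) (haab : aab ∈ M) (t v : K) :
    h8tfCls R a b ab aab t v ∈ Subgroup.closure (h8XLSet chevF4 K M) :=
  Subgroup.mul_mem _ (Subgroup.mul_mem _ (Subgroup.mul_mem _ (h8xU_mem_XL chevF4 hB M a ha _)
    (h8xU_mem_XL chevF4 hB M b hb _)) (h8xU_mem_XL chevF4 hB M ab hab _))
    (h8xU_mem_XL chevF4 hB M aab haab _)

theorem h8tf_W1_ne_W2 (hA : H8ReflAll chevF4) : h8tfW1 hA ≠ h8tfW2 hA := by
  intro h
  have h1 : (h8tfW1 hA ⟨33, by decide⟩).val = (h8tfW2 hA ⟨33, by decide⟩).val := by rw [h]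
  unfold h8tfW1 h8tfW2 at h1
  rw [h8wPerm_val chevF4 hA _ (by decide), h8wPerm_val chevF4 hA _ (by decide)] at h1
  revert h1
  decide +kernel

section
variable [CharP K 2] (R : H8TF K hB) (hC : H8CommAll.{u} chevF4) (hO2 : H8Ord2 chevF4)

include hC hO2 in
theorem h8tf_Xfix1 (e : ℕ) (hfe : ∀ t : K, R.f t = t ^ e) :
    ∀ g ∈ Subgroup.closure (h8XLSet chevF4 K [24, 33]), h8tfS R g = g → g ∈ twistedF4 K e := by
  intro g hg hfix
  obtain ⟨t, rfl⟩ := h8tf_X1_fix R hC hO2 g hg hfix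
  exact h8tfPair_mem R e hfe t

include hC hO2 in
theorem h8tf_Xfix2 (e : ℕ) (hfe : ∀ t : K, R.f t = t ^ e) :
    ∀ g ∈ Subgroup.closure (h8XLSet chevF4 K [25, 27, 28, 30]), h8tfS R g = g →
      g ∈ twistedF4 K e := by
  intro g hg hfix
  obtain ⟨t, v, rfl⟩ := h8tf_X2_fix R hC hO2 g hg hfix
  exact h8tfCls_mem R e hfe t v

include hC hO2 in
/-- a non-trivial fixed element of the first class -/
theorem h8tfPair_ne_one : h8tfPair R 33 24 (1 : K) ≠ 1 := by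
  intro h
  unfold h8tfPair at h
  rw [map_one, (h8tf_comm_33_24 hB hC 1 1).eq] at h
  have h0 : h8tfStd1 hB (0 : K) 0 = 1 := by
    unfold h8tfStd1
    rw [h8xU_zero', h8xU_zero', mul_one]
  have h1 : h8tfStd1 hB (1 : K) 1 = h8tfStd1 hB (0 : K) 0 := by
    rw [h0]
    exact h
  exact one_ne_zero (h8tfStd1_inj hO2 _ _ _ _ h1).1

omit [CharP K 2] in
include hO2 in
/-- a non-trivial fixed element of the second class -/
theorem h8tfCls_ne_one : h8tfCls R 27 25 28 30 (0 : K) 1 ≠ 1 := by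
  intro h
  unfold h8tfCls at h
  rw [map_zero, map_one, h8xU_zero', h8xU_zero', zero_mul, zero_add, one_pow, one_mul] at h
  have h1 : h8tfStd2 hB (0 : K) 0 1 1 = h8tfStd2 hB (0 : K) 0 0 0 := by
    rw [h8tfStd2_zero]
    unfold h8tfStd2
    rw [h8xU_zero', h8xU_zero', one_mul]
    exact h
  exact one_ne_zero (h8tfStd2_inj hO2 _ _ _ _ _ _ _ _ h1).2.2.1

end

end Cfsg.Agent.Lib.helper8
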