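import Mathlib
import Cfsg.Prelude.Def_ChevStructure
import Cfsg.Prelude.Def_ChevF4
import Cfsg.Prelude.Def_LieTwisted
import Cfsg.Prelude.Def_LieExceptional
import Cfsg.Agent.Lib.helper8.ChevTF25

set_option autoImplicit false

namespace Cfsg.Agent.Lib.helper8

open Cfsg.Lie Cfsg.Lie.ChevalleyDatum

universe u

variable {K : Type u} [Field K]

/-- the `(B, N)`-pair of `²F₄(q)` -/
theorem h8tf_bnpair [Fintype K] {m : ℕ} (hK : Fintype.card K = 2 ^ (2 * m + 1))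
    (hB : H8Base.{u} chevF4) :
    ∃ P : Cfsg.BNPair ↥(twistedF4 K (2 ^ m)),
      P.B = (chevF4.borelSubgroup K ⊓ twistedF4 K (2 ^ m)).subgroupOf (twistedF4 K (2 ^ m)) ∧
      P.N = (chevF4.monomialSubgroup K ⊓ twistedF4 K (2 ^ m)).subgroupOf (twistedF4 K (2 ^ m)) ∧
      P.S = {s : ↥(twistedF4 K (2 ^ m)) | s.val = h8nWU chevF4 hB [0, 3] ∨
        s.val = h8nWU chevF4 hB [1, 2, 1, 2]} := by
  have hD : chevF4 ∈ [chevG2, chevB2, chevD4, chevF4, chevE6, chevE7, chevE8] := by simp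
  have hB0 := h8base_all.{0} chevF4 hD
  have hA := h8reflAll chevF4 hD
  have hC := h8commAll.{u} chevF4 hD
  have hBN := h8bn_all chevF4 hD
  have hW := h8bn2_all chevF4 hD
  obtain ⟨hO, hO2⟩ := h8ord_all chevF4 hD
  have := h8tf_char2 hK
  obtain ⟨R, hfe⟩ := h8tf_setup hK hB
  set G1 := twistedF4 K (2 ^ m) with hG1def
  have hG1 : ∀ g ∈ G1, g ∈ chevF4.group K ∧ h8tfS R g = g :=
    fun g hg => h8tf_G1_fix R hC (2 ^ m) hfe g hg
  have hX1 := h8tf_Xfix1 R hC hO2 (2 ^ m) hfe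
  have hX2 := h8tf_Xfix2 R hC hO2 (2 ^ m) hfe
  have hn1 : (h8nWU chevF4 hB [0, 3] : GL chevF4.Idx K) ∈ G1 := h8tf_n1_mem R hC (2 ^ m) hfe
  have hn2 : (h8nWU chevF4 hB [1, 2, 1, 2] : GL chevF4.Idx K) ∈ G1 :=
    h8tf_n2_mem R hA hC hBN hO2 (2 ^ m) hfe
  have hw1 : ∀ j ∈ [0, 3], j < chevF4.rank := by decide
  have hw2 : ∀ j ∈ [1, 2, 1, 2], j < chevF4.rank := by decide
  have hs1N := h8nWU_mem_N (F := K) chevF4 hB hA _ hw1
  have hs2N := h8nWU_mem_N (F := K) chevF4 hB hA _ hw2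
  obtain ⟨dep, par, horb⟩ := hBN.orb
  have hBNH := h8_B_inf_N (F := K) chevF4 hB hA dep par horb
  have hNnorm := h8N_le_normalizer_H (F := K) chevF4 hB hA dep par horb
  have hHN := h8H_le_N (F := K) chevF4
  have hBmem : ∀ x : ↥G1, x ∈ (chevF4.borelSubgroup K ⊓ G1).subgroupOf G1 ↔
      x.val ∈ chevF4.borelSubgroup K := by
    intro x
    rw [Subgroup.mem_subgroupOf, Subgroup.mem_inf]
    exact ⟨fun h => h.1, fun h => ⟨h, x.2⟩⟩
  have hNmem : ∀ x : ↥G1, x ∈ (chevF4.monomialSubgroup K ⊓ G1).subgroupOf G1 ↔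
      x.val ∈ chevF4.monomialSubgroup K := by
    intro x
    rw [Subgroup.mem_subgroupOf, Subgroup.mem_inf]
    exact ⟨fun h => h.1, fun h => ⟨h, x.2⟩⟩
  have hsq1 := h8tfC_sq_mem (K := K) (hB := hB) h8tfC1 hA hBN hW hO2
  have hsq2 := h8tfC_sq_mem (K := K) (hB := hB) h8tfC2 hA hBN hW hO2
  -- rank one decompositions of the negative generators
  have hneg : ∀ {J : Set ℕ} {L Lm wJ : List ℕ} (Cc : H8TFC J L Lm wJ),
      (∀ g ∈ Subgroup.closure (h8XLSet chevF4 K L), h8tfS R g = g → g ∈ G1) →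
      ∀ v ∈ Subgroup.closure (h8XLSet chevF4 K Lm), v ∈ G1 →
      ∃ b1 ∈ chevF4.borelSubgroup K ⊓ G1, ∃ n ∈ chevF4.monomialSubgroup K ⊓ G1,
        ∃ b2 ∈ chevF4.borelSubgroup K ⊓ G1, v = b1 * n * b2 := by
    intro J L Lm wJ Cc hXf v hv hv1
    by_cases hv0 : v = 1
    · exact ⟨1, Subgroup.one_mem _, 1, Subgroup.one_mem _, 1, Subgroup.one_mem _, by rw [hv0]; group⟩
    · obtain ⟨x₁, hx₁, mm, x₂, hx₂, f1, f2, f3, hveq, _⟩ := h8tf_rank1 Cc.hJ R hB0 hA hC hBN hW hO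
        hO2 wJ Cc.wJlt Cc.norm Lm Cc.hLm v hv (hG1 v hv1).2 hv0
      have hx₁1 := hXf x₁ hx₁ f1
      have hx₂1 := hXf x₂ hx₂ f3
      refine ⟨x₁, ⟨h8U_le_B chevF4 (h8tf_XL_le_U Cc.hJ hx₁), hx₁1⟩, mm.val, ⟨mm.2, ?_⟩, x₂,
        ⟨h8U_le_B chevF4 (h8tf_XL_le_U Cc.hJ hx₂), hx₂1⟩, hveq⟩
      have : mm.val = x₁⁻¹ * v * x₂⁻¹ := by rw [hveq]; group
      rw [this]
      exact Subgroup.mul_mem _ (Subgroup.mul_mem _ (Subgroup.inv_mem _ hx₁1) hv1)
        (Subgroup.inv_mem _ hx₂1)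
  refine ⟨{ B := (chevF4.borelSubgroup K ⊓ G1).subgroupOf G1
            N := (chevF4.monomialSubgroup K ⊓ G1).subgroupOf G1
            S := {s : ↥G1 | s.val = h8nWU chevF4 hB [0, 3] ∨
              s.val = h8nWU chevF4 hB [1, 2, 1, 2]}
            sup_eq_top := ?_, conj_mem := ?_, subset := ?_, sq_mem := ?_, inj := ?_,
            closure_sup := ?_, mul_mem_union := ?_, conj_ne := ?_ }, rfl, rfl, rfl⟩
  · -- sup_eq_top
    rw [eq_top_iff]
    intro g _
    have hle : G1 ≤ (((chevF4.borelSubgroup K ⊓ G1).subgroupOf G1 ⊔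
        (chevF4.monomialSubgroup K ⊓ G1).subgroupOf G1 : Subgroup ↥G1)).map G1.subtype := by
      have hBle : ∀ x ∈ chevF4.borelSubgroup K ⊓ G1,
          x ∈ (((chevF4.borelSubgroup K ⊓ G1).subgroupOf G1 ⊔
            (chevF4.monomialSubgroup K ⊓ G1).subgroupOf G1 : Subgroup ↥G1)).map G1.subtype := by
        intro x hx
        exact ⟨⟨x, hx.2⟩, Subgroup.mem_sup_left ((hBmem _).mpr hx.1), rfl⟩
      have hNle : ∀ x ∈ chevF4.monomialSubgroup K ⊓ G1,
          x ∈ (((chevF4.borelSubgroup K ⊓ G1).subgroupOf G1 ⊔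
            (chevF4.monomialSubgroup K ⊓ G1).subgroupOf G1 : Subgroup ↥G1)).map G1.subtype := by
        intro x hx
        exact ⟨⟨x, hx.2⟩, Subgroup.mem_sup_right ((hNmem _).mpr hx.1), rfl⟩
      have hposU : ∀ x ∈ chevF4.posUnipotent K, x ∈ G1 →
          x ∈ (((chevF4.borelSubgroup K ⊓ G1).subgroupOf G1 ⊔
            (chevF4.monomialSubgroup K ⊓ G1).subgroupOf G1 : Subgroup ↥G1)).map G1.subtype :=
        fun x hx hx1 => hBle x ⟨h8U_le_B chevF4 hx, hx1⟩
      have hnegc : ∀ {J : Set ℕ} {L Lm wJ : List ℕ} (Cc : H8TFC J L Lm wJ),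
          (∀ g ∈ Subgroup.closure (h8XLSet chevF4 K L), h8tfS R g = g → g ∈ G1) →
          ∀ v ∈ Subgroup.closure (h8XLSet chevF4 K Lm), v ∈ G1 →
          v ∈ (((chevF4.borelSubgroup K ⊓ G1).subgroupOf G1 ⊔
            (chevF4.monomialSubgroup K ⊓ G1).subgroupOf G1 : Subgroup ↥G1)).map G1.subtype := by
        intro J L Lm wJ Cc hXf v hv hv1
        obtain ⟨b1, hb1, n, hn, b2, hb2, rfl⟩ := hneg Cc hXf v hv hv1
        exact Subgroup.mul_mem _ (Subgroup.mul_mem _ (hBle _ hb1) (hNle _ hn)) (hBle _ hb2)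
      apply h8tf_gen_le R (2 ^ m) hfe
      · intro t
        exact hposU _ (h8tf_XL_le_U h8tfJ1 (h8tfPair_mem_XL R 33 24 [24, 33] (by simp) (by simp) t))
          (h8tfPair_mem R _ hfe t)
      · intro t
        exact hnegc h8tfC1 hX1 _ (h8tfPair_mem_XL R 14 23 [23, 14] (by simp) (by simp) t)
          (h8tfPair_mem' R _ hfe t)
      · intro t v
        exact hposU _ (h8tf_XL_le_U h8tfJ2 (h8tfCls_mem_XL R 27 25 28 30 [25, 27, 28, 30]
          (by simp) (by simp) (by simp) (by simp) t v)) (h8tfCls_mem R _ hfe t v)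
      · intro t v
        exact hnegc h8tfC2 hX2 _ (h8tfCls_mem_XL R 20 22 19 17 [22, 20, 19, 17]
          (by simp) (by simp) (by simp) (by simp) t v) (h8tfCls_mem' R _ hfe t v)
    obtain ⟨y, hy, hyg⟩ := hle g.2
    have : y = g := Subtype.ext hyg
    rw [← this]
    exact hy
  · -- conj_mem
    intro n hn t ht
    rw [hNmem] at hn
    rw [Subgroup.mem_inf, hBmem, hNmem] at ht
    rw [hBmem]
    have htH : t.val ∈ chevF4.diagonalSubgroup K := by
      rw [← hBNH]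
      exact Subgroup.mem_inf.mpr ht
    exact h8H_le_B chevF4 ((Subgroup.mem_normalizer_iff.mp (hNnorm hn) t.val).mp htH)
  · -- subset
    rintro s (hs | hs)
    · show s ∈ (chevF4.monomialSubgroup K ⊓ G1).subgroupOf G1
      rw [hNmem, hs]
      exact hs1N
    · show s ∈ (chevF4.monomialSubgroup K ⊓ G1).subgroupOf G1
      rw [hNmem, hs]
      exact hs2N
  · -- sq_mem
    rintro s (hs | hs)
    · rw [hBmem]
      show s.val * s.val ∈ _
      rw [hs]
      exact h8H_le_B chevF4 hsq1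
    · rw [hBmem]
      show s.val * s.val ∈ _
      rw [hs]
      exact h8H_le_B chevF4 hsq2
  · -- inj
    have hne : ∀ (a b : GL chevF4.Idx K) (ha : a ∈ chevF4.monomialSubgroup K)
        (hb : b ∈ chevF4.monomialSubgroup K),
        h8Pi chevF4 hB hA hBN hW hO2 ⟨a, ha⟩ ≠ h8Pi chevF4 hB hA hBN hW hO2 ⟨b, hb⟩ →
        a⁻¹ * b ∈ chevF4.borelSubgroup K → False := by
      intro a b ha hb hne hmem
      have hmN : a⁻¹ * b ∈ chevF4.monomialSubgroup K :=
        Subgroup.mul_mem _ (Subgroup.inv_mem _ ha) hb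
      have hH : a⁻¹ * b ∈ chevF4.diagonalSubgroup K := by
        rw [← hBNH]
        exact Subgroup.mem_inf.mpr ⟨hmem, hmN⟩
      have hP := h8Pi_H chevF4 hB hA hBN hW hO2 ⟨_, hmN⟩ hH
      have hsp : (⟨a⁻¹ * b, hmN⟩ : ↥(chevF4.monomialSubgroup K)) = ⟨a, ha⟩⁻¹ * ⟨b, hb⟩ := rfl
      rw [hsp, map_mul, map_inv, inv_mul_eq_one] at hP
      exact hne hP
    have hP1 := h8Pi_nWU (F := K) chevF4 hB hA hBN hW hO2 _ hw1
    have hP2 := h8Pi_nWU (F := K) chevF4 hB hA hBN hW hO2 _ hw2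
    rintro s (hs | hs) s' (hs' | hs') hmem
    · exact Subtype.ext (hs.trans hs'.symm)
    · exfalso
      rw [hBmem] at hmem
      have hmem' : s.val⁻¹ * s'.val ∈ chevF4.borelSubgroup K := hmem
      rw [hs, hs'] at hmem'
      refine hne _ _ hs1N hs2N ?_ hmem'
      rw [hP1, hP2]
      exact h8tf_W1_ne_W2 hA
    · exfalso
      rw [hBmem] at hmem
      have hmem' : s.val⁻¹ * s'.val ∈ chevF4.borelSubgroup K := hmem
      rw [hs, hs'] at hmem'
      refine hne _ _ hs2N hs1N ?_ hmem'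
      rw [hP1, hP2]
      exact (h8tf_W1_ne_W2 hA).symm
    · exact Subtype.ext (hs.trans hs'.symm)
  · -- closure_sup
    apply le_antisymm
    · apply sup_le
      · rw [Subgroup.closure_le]
        rintro s (hs | hs)
        · show s ∈ (chevF4.monomialSubgroup K ⊓ G1).subgroupOf G1
          rw [hNmem, hs]
          exact hs1N
        · show s ∈ (chevF4.monomialSubgroup K ⊓ G1).subgroupOf G1
          rw [hNmem, hs]
          exact hs2N
      · exact inf_le_right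
    · intro g hg
      rw [hNmem] at hg
      -- the permutation induced by `g` lies in the twisted Weyl group
      have hcomm : ∀ r, h8Pi chevF4 hB hA hBN hW hO2 ⟨g.val, hg⟩ (h8tfRhoF r) =
          h8tfRhoF (h8Pi chevF4 hB hA hBN hW hO2 ⟨g.val, hg⟩ r) :=
        fun r => h8tf_Pi_comm R hA hBN hW hO2 ⟨g.val, hg⟩ (hG1 g.val g.2).2 r
      have hcl := h8tf_cent hB0 hA hBN hW hO2 _ _
        (h8Pi_mem_W chevF4 hB hA hBN hW hO2 ⟨g.val, hg⟩) hcomm rfl
      have lift : ∀ y ∈ Subgroup.closure {h8tfW1 hA, h8tfW2 hA},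
          ∃ n' : ↥G1, n' ∈ Subgroup.closure {s : ↥G1 | s.val = h8nWU chevF4 hB [0, 3] ∨
            s.val = h8nWU chevF4 hB [1, 2, 1, 2]} ∧
          ∃ hn' : n'.val ∈ chevF4.monomialSubgroup K,
            h8Pi chevF4 hB hA hBN hW hO2 ⟨n'.val, hn'⟩ = y := by
        intro y hy
        induction hy using Subgroup.closure_induction with
        | mem y hy =>
          rcases hy with rfl | rfl
          · exact ⟨⟨_, hn1⟩, Subgroup.subset_closure (Or.inl rfl), hs1N,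
              h8Pi_nWU chevF4 hB hA hBN hW hO2 _ hw1⟩
          · exact ⟨⟨_, hn2⟩, Subgroup.subset_closure (Or.inr rfl), hs2N,
              h8Pi_nWU chevF4 hB hA hBN hW hO2 _ hw2⟩
        | one => exact ⟨1, Subgroup.one_mem _, Subgroup.one_mem _, map_one _⟩
        | mul a b _ _ ha hb =>
          obtain ⟨na, hna, hNa, ea⟩ := ha
          obtain ⟨nb, hnb, hNb, eb⟩ := hb
          refine ⟨na * nb, Subgroup.mul_mem _ hna hnb, Subgroup.mul_mem _ hNa hNb, ?_⟩
          rw [← ea, ← eb, ← map_mul]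
          rfl
        | inv a _ ha =>
          obtain ⟨na, hna, hNa, ea⟩ := ha
          refine ⟨na⁻¹, Subgroup.inv_mem _ hna, Subgroup.inv_mem _ hNa, ?_⟩
          rw [← ea, ← map_inv]
          rfl
      obtain ⟨n', hn'cl, hN', e⟩ := lift _ hcl
      have hmem : n'.val⁻¹ * g.val ∈ chevF4.monomialSubgroup K :=
        Subgroup.mul_mem _ (Subgroup.inv_mem _ hN') hg
      have hH : n'.val⁻¹ * g.val ∈ chevF4.diagonalSubgroup K := by
        apply h8Pi_ker chevF4 hB hA hBN hW hO2 ⟨n'.val⁻¹ * g.val, hmem⟩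
        have : (⟨n'.val⁻¹ * g.val, hmem⟩ : ↥(chevF4.monomialSubgroup K)) =
            ⟨n'.val, hN'⟩⁻¹ * ⟨g.val, hg⟩ := rfl
        rw [this, map_mul, map_inv, e, inv_mul_cancel]
      have hg' : g = n' * (n'⁻¹ * g) := by group
      rw [hg']
      refine Subgroup.mul_mem _ (Subgroup.mem_sup_left hn'cl) (Subgroup.mem_sup_right ?_)
      rw [Subgroup.mem_inf, hBmem, hNmem]
      exact ⟨h8H_le_B chevF4 hH, hHN hH⟩
  · -- mul_mem_union
    have key : ∀ {J : Set ℕ} {L Lm wJ : List ℕ} (Cc : H8TFC J L Lm wJ),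
        (∀ g ∈ Subgroup.closure (h8XLSet chevF4 K L), h8tfS R g = g → g ∈ G1) →
        (h8nWU chevF4 hB wJ : GL chevF4.Idx K) ∈ G1 →
        ∀ s : ↥G1, s.val = h8nWU chevF4 hB wJ →
        ∀ n ∈ (chevF4.monomialSubgroup K ⊓ G1).subgroupOf G1,
        ∀ b ∈ (chevF4.borelSubgroup K ⊓ G1).subgroupOf G1,
        s * b * n ∈ DoubleCoset.doubleCoset (s * n)
          (((chevF4.borelSubgroup K ⊓ G1).subgroupOf G1 : Subgroup ↥G1) : Set ↥G1)
          ((chevF4.borelSubgroup K ⊓ G1).subgroupOf G1) ∪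
        DoubleCoset.doubleCoset n
          (((chevF4.borelSubgroup K ⊓ G1).subgroupOf G1 : Subgroup ↥G1) : Set ↥G1)
          ((chevF4.borelSubgroup K ⊓ G1).subgroupOf G1) := by
      intro J L Lm wJ Cc hXf hnS s hs n hn b hb
      rw [hNmem] at hn
      rw [hBmem] at hb
      rcases h8tf_bn_axiom Cc hB0 hA hC hBN hW hO hO2 R G1 hG1 hXf hnS n.val hn n.2 b.val hb b.2
        with ⟨b1, hb1, b2, hb2, e⟩ | ⟨b1, hb1, b2, hb2, e⟩
      · left
        rw [DoubleCoset.mem_doubleCoset]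
        refine ⟨⟨b1, hb1.2⟩, (hBmem _).mpr hb1.1, ⟨b2, hb2.2⟩, (hBmem _).mpr hb2.1, ?_⟩
        apply Subtype.ext
        show s.val * b.val * n.val = b1 * (s.val * n.val) * b2
        rw [hs]
        exact e
      · right
        rw [DoubleCoset.mem_doubleCoset]
        refine ⟨⟨b1, hb1.2⟩, (hBmem _).mpr hb1.1, ⟨b2, hb2.2⟩, (hBmem _).mpr hb2.1, ?_⟩
        apply Subtype.ext
        show s.val * b.val * n.val = b1 * n.val * b2
        rw [hs]
        exact e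
    rintro s (hs | hs) n hn b hb
    · exact key h8tfC1 hX1 hn1 s hs n hn b hb
    · exact key h8tfC2 hX2 hn2 s hs n hn b hb
  · -- conj_ne
    have key : ∀ {J : Set ℕ} {L Lm wJ : List ℕ} (Cc : H8TFC J L Lm wJ),
        (h8nWU chevF4 hB wJ : GL chevF4.Idx K) *
          h8nWU chevF4 hB wJ ∈ chevF4.diagonalSubgroup K →
        ∀ x ∈ Subgroup.closure (h8XLSet chevF4 K L), x ∈ G1 → x ≠ 1 →
        ∀ s : ↥G1, s.val = h8nWU chevF4 hB wJ →
        (fun b : ↥G1 => s * b * s) ''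
          (((chevF4.borelSubgroup K ⊓ G1).subgroupOf G1 : Subgroup ↥G1) : Set ↥G1) ≠
          (((chevF4.borelSubgroup K ⊓ G1).subgroupOf G1 : Subgroup ↥G1) : Set ↥G1) := by
      intro J L Lm wJ Cc hsq x hx hxG hx1 s hs heq
      have hxU : x ∈ chevF4.posUnipotent K := h8tf_XL_le_U Cc.hJ hx
      have hxB : (⟨x, hxG⟩ : ↥G1) ∈
          (((chevF4.borelSubgroup K ⊓ G1).subgroupOf G1 : Subgroup ↥G1) : Set ↥G1) :=
        (hBmem _).mpr (h8U_le_B chevF4 hxU)
      have himg := Set.mem_image_of_mem (fun b : ↥G1 => s * b * s) hxB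
      rw [heq] at himg
      have himg' : s.val * x * s.val ∈ chevF4.borelSubgroup K := (hBmem _).mp himg
      rw [hs] at himg'
      have hV : h8nWU chevF4 hB wJ * x * (h8nWU chevF4 hB wJ)⁻¹ ∈ chevF4.negUnipotent K := by
        have h1 := h8tfC_conj_s (hB := hB) Cc hA x hx
        have hle : Subgroup.closure (h8XLSet chevF4 K Lm) ≤ chevF4.negUnipotent K := by
          unfold ChevalleyDatum.negUnipotent
          apply Subgroup.closure_mono
          rintro g ⟨r, t, hr, hg⟩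
          exact ⟨r, t, (Cc.hLm r hr).2, hg⟩
        exact hle h1
      have e2 : h8nWU chevF4 hB wJ * x * (h8nWU chevF4 hB wJ)⁻¹ =
          (h8nWU chevF4 hB wJ * x * h8nWU chevF4 hB wJ) *
            (h8nWU chevF4 hB wJ * h8nWU chevF4 hB wJ)⁻¹ := by group
      have hBm : h8nWU chevF4 hB wJ * x * (h8nWU chevF4 hB wJ)⁻¹ ∈ chevF4.borelSubgroup K := by
        rw [e2]
        exact Subgroup.mul_mem _ himg' (Subgroup.inv_mem _ (h8H_le_B chevF4 hsq))
      have hbot : h8nWU chevF4 hB wJ * x * (h8nWU chevF4 hB wJ)⁻¹ ∈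
          chevF4.borelSubgroup K ⊓ chevF4.negUnipotent K := ⟨hBm, hV⟩
      rw [h8_B_inf_V chevF4 hB hBN.negOK, Subgroup.mem_bot] at hbot
      apply hx1
      have : x = (h8nWU chevF4 hB wJ)⁻¹ *
          (h8nWU chevF4 hB wJ * x * (h8nWU chevF4 hB wJ)⁻¹) * h8nWU chevF4 hB wJ := by group
      rw [this, hbot]
      group
    rintro s (hs | hs)
    · exact key h8tfC1 hsq1 _ (h8tfPair_mem_XL R 33 24 [24, 33] (by simp) (by simp) 1)
        (h8tfPair_mem R _ hfe 1) (h8tfPair_ne_one R hC hO2) s hs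
    · exact key h8tfC2 hsq2 _ (h8tfCls_mem_XL R 27 25 28 30 [25, 27, 28, 30]
        (by simp) (by simp) (by simp) (by simp) 0 1) (h8tfCls_mem R _ hfe 0 1)
        (h8tfCls_ne_one R hO2) s hs

end Cfsg.Agent.Lib.helper8
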