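import Mathlib
import Cfsg.Prelude.Def_ChevStructure
import Cfsg.Prelude.Def_ChevF4
import Cfsg.Prelude.Def_LieTwisted
import Cfsg.Prelude.Def_LieExceptional
import Cfsg.Agent.Lib.helper8.ChevTF19
import Cfsg.Agent.Lib.helper8.ChevTF26

set_option autoImplicit false

namespace Cfsg.Agent.Lib.helper8

open Cfsg.Lie Cfsg.Lie.ChevalleyDatum

universe u

variable {K : Type u} [Field K] {hB : H8Base.{u} chevF4}

/-- the fixed points of the twist on the diagonal subgroup -/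
def h8tfHfix [CharP K 2] (R : H8TF K hB) : Subgroup (GL chevF4.Idx K) where
  carrier := {k | k ∈ chevF4.diagonalSubgroup K ∧ h8tfS R k = k}
  mul_mem' := by
    rintro a b ⟨ha, fa⟩ ⟨hb, fb⟩
    refine ⟨Subgroup.mul_mem _ ha hb, ?_⟩
    rw [h8tfS_mul R _ _ (h8_H_le_group chevF4 hB ha) (h8_H_le_group chevF4 hB hb), fa, fb]
  one_mem' := ⟨Subgroup.one_mem _, h8tfS_one R⟩
  inv_mem' := by
    rintro a ⟨ha, fa⟩
    refine ⟨Subgroup.inv_mem _ ha, ?_⟩
    rw [h8tfS_inv R _ (h8_H_le_group chevF4 hB ha), fa]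

theorem h8tfHfix_mem [CharP K 2] (R : H8TF K hB) (k : GL chevF4.Idx K) :
    k ∈ h8tfHfix R ↔ k ∈ chevF4.diagonalSubgroup K ∧ h8tfS R k = k := Iff.rfl

/-- every fixed point of the twist on `H` lies in `²F₄` -/
theorem h8tf_Hfix_le [Fintype K] {m : ℕ} (hK : Fintype.card K = 2 ^ (2 * m + 1))
    (hB : H8Base.{u} chevF4) [CharP K 2] (R : H8TF K hB) (hfe : ∀ t : K, R.f t = t ^ (2 ^ m))
    (k : GL chevF4.Idx K) (hk : k ∈ chevF4.diagonalSubgroup K) (hfix : h8tfS R k = k) :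
    k ∈ twistedF4 K (2 ^ m) := by
  classical
  have hD : chevF4 ∈ [chevG2, chevB2, chevD4, chevF4, chevE6, chevE7, chevE8] := by simp
  have hA := h8reflAll chevF4 hD
  have hC := h8commAll.{u} chevF4 hD
  have hBN := h8bn_all chevF4 hD
  have hW := h8bn2_all chevF4 hD
  obtain ⟨s0, s1, s2, s3, n33, n27, n25, n24, r24, r25, kk24, kk25⟩ := h8tf_simple_data
  have l25 : 25 < chevF4.nroots := h8tf_lt_data 25 (by simp)
  have l24 : 24 < chevF4.nroots := h8tf_lt_data 24 (by simp)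
  have hsig33 : ∀ k ∈ h8tfHfix R, h8chi chevF4 hB k 33 = R.f (h8chi chevF4 hB k 24) := by
    intro k hk
    have := h8tf_chi_sig R hA hW k hk.1 hk.2 24 (by norm_num)
    rwa [r24, h8tfE_long R 24 kk24] at this
  have hsig27 : ∀ k ∈ h8tfHfix R, h8chi chevF4 hB k 27 = R.f (h8chi chevF4 hB k 25) := by
    intro k hk
    have := h8tf_chi_sig R hA hW k hk.1 hk.2 25 (by norm_num)
    rwa [r25, h8tfE_long R 25 kk25] at this
  have hup : Nat.card ↥(h8tfHfix R) ≤ Nat.card ({x : K // x ≠ 0} × {y : K // y ≠ 0}) := by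
    apply Nat.card_le_card_of_injective
      (fun k : ↥(h8tfHfix R) =>
        ((⟨h8chi chevF4 hB k.val 24, (h8chi_spec chevF4 hB k.val k.2.1 24 l24).1⟩ :
          {x : K // x ≠ 0}),
        (⟨h8chi chevF4 hB k.val 25, (h8chi_spec chevF4 hB k.val k.2.1 25 l25).1⟩ :
          {y : K // y ≠ 0})))
    intro k k' hkk
    simp only [Prod.mk.injEq, Subtype.mk.injEq] at hkk
    obtain ⟨e24, e25⟩ := hkk
    have hzmem : k.val⁻¹ * k'.val ∈ h8tfHfix R :=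
      Subgroup.mul_mem _ (Subgroup.inv_mem _ k.2) k'.2
    have hz24 : h8chi chevF4 hB (k.val⁻¹ * k'.val) 24 = 1 := by
      rw [h8chi_mul chevF4 hB hA hW _ _ (Subgroup.inv_mem _ k.2.1) k'.2.1 24 l24,
        h8chi_inv chevF4 hB hA hW _ k.2.1 24 l24, e24,
        inv_mul_cancel₀ (h8chi_spec chevF4 hB k'.val k'.2.1 24 l24).1]
    have hz25 : h8chi chevF4 hB (k.val⁻¹ * k'.val) 25 = 1 := by
      rw [h8chi_mul chevF4 hB hA hW _ _ (Subgroup.inv_mem _ k.2.1) k'.2.1 25 l25,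
        h8chi_inv chevF4 hB hA hW _ k.2.1 25 l25, e25,
        inv_mul_cancel₀ (h8chi_spec chevF4 hB k'.val k'.2.1 25 l25).1]
    have hz : k.val⁻¹ * k'.val = 1 := by
      apply h8tf_H_inj hA hBN hW _ hzmem.1 _ _ hz25 hz24
      · rw [hsig33 _ hzmem, hz24, map_one]
      · rw [hsig27 _ hzmem, hz25, map_one]
    exact Subtype.ext (inv_mul_eq_one.mp hz)
  have hcard : Nat.card ({x : K // x ≠ 0} × {y : K // y ≠ 0}) =
      (2 ^ (2 * m + 1) - 1) ^ 2 := by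
    rw [Nat.card_prod, h8card_ne_zero, hK, sq]
  have hle : chevF4.diagonalSubgroup K ⊓ twistedF4 K (2 ^ m) ≤ h8tfHfix R := by
    intro g hg
    exact ⟨hg.1, (h8tf_G1_fix R hC (2 ^ m) hfe g hg.2).2⟩
  have hcard1 := h8tf_H_card hK
  have heq : chevF4.diagonalSubgroup K ⊓ twistedF4 K (2 ^ m) = h8tfHfix R := by
    apply Subgroup.eq_of_le_of_card_ge hle
    rw [hcard1, ← hcard]
    exact hup
  have : k ∈ h8tfHfix R := ⟨hk, hfix⟩
  rw [← heq] at this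
  exact this.2

/-- `B¹ = U¹ H¹` for `²F₄` -/
theorem h8tf_B1_UH [Fintype K] {m : ℕ} (hK : Fintype.card K = 2 ^ (2 * m + 1))
    (b : GL chevF4.Idx K) (hbB : b ∈ chevF4.borelSubgroup K) (hbG : b ∈ twistedF4 K (2 ^ m)) :
    ∃ u ∈ chevF4.posUnipotent K ⊓ twistedF4 K (2 ^ m),
      ∃ h ∈ chevF4.diagonalSubgroup K ⊓ twistedF4 K (2 ^ m), b = u * h := by
  have hD : chevF4 ∈ [chevG2, chevB2, chevD4, chevF4, chevE6, chevE7, chevE8] := by simp
  have hB := h8base_all.{u} chevF4 hD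
  have hC := h8commAll.{u} chevF4 hD
  have := h8tf_char2 hK
  obtain ⟨R, hfe⟩ := h8tf_setup hK hB
  have hmem : b ∈ ((chevF4.posUnipotent K ⊔ chevF4.diagonalSubgroup K :
      Subgroup (GL chevF4.Idx K)) : Set (GL chevF4.Idx K)) := hbB
  rw [Subgroup.coe_mul_of_right_le_normalizer_left _ _ (h8_H_le_normalizer_U chevF4 hB)] at hmem
  obtain ⟨u, hu, h, hh, hbe⟩ := hmem
  have hbe' : b = u * h := hbe.symm
  subst hbe'
  have huG := h8_U_le_group chevF4 hu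
  have hhG := h8_H_le_group chevF4 hB hh
  have hfix : h8tfS R (u * h) = u * h := (h8tf_G1_fix R hC (2 ^ m) hfe _ hbG).2
  rw [h8tfS_mul R _ _ huG hhG] at hfix
  have hbot : u⁻¹ * h8tfS R u ∈ chevF4.posUnipotent K ⊓ chevF4.diagonalSubgroup K := by
    refine ⟨Subgroup.mul_mem _ (Subgroup.inv_mem _ hu) (h8tfS_U R u hu), ?_⟩
    have : u⁻¹ * h8tfS R u = h * (h8tfS R h)⁻¹ := by
      rw [inv_mul_eq_iff_eq_mul, ← mul_assoc, ← hfix]
      group
    rw [this]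
    exact Subgroup.mul_mem _ hh (Subgroup.inv_mem _ (h8tfS_H R h hh))
  rw [h8_U_inf_H chevF4 hB, Subgroup.mem_bot, inv_mul_eq_one] at hbot
  have hfh : h8tfS R h = h := by
    rw [← hbot] at hfix
    exact mul_left_cancel hfix
  have hh1 := h8tf_Hfix_le hK hB R hfe h hh hfh
  have hu1 : u ∈ twistedF4 K (2 ^ m) := by
    have : u = (u * h) * h⁻¹ := by group
    rw [this]
    exact Subgroup.mul_mem _ hbG (Subgroup.inv_mem _ hh1)
  exact ⟨u, ⟨hu, hu1⟩, h, ⟨hh, hh1⟩, rfl⟩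

/-- `|B¹| = |U¹| |H¹|` for `²F₄` -/
theorem h8tf_B_card [Fintype K] {m : ℕ} (hK : Fintype.card K = 2 ^ (2 * m + 1))
    (P : Cfsg.BNPair ↥(twistedF4 K (2 ^ m)))
    (hPB : P.B = (chevF4.borelSubgroup K ⊓ twistedF4 K (2 ^ m)).subgroupOf
      (twistedF4 K (2 ^ m))) :
    Nat.card ↥P.B = Nat.card ↥(chevF4.posUnipotent K ⊓ twistedF4 K (2 ^ m)) *
      Nat.card ↥(chevF4.diagonalSubgroup K ⊓ twistedF4 K (2 ^ m)) := by
  classical
  have hD : chevF4 ∈ [chevG2, chevB2, chevD4, chevF4, chevE6, chevE7, chevE8] := by simp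
  have hB := h8base_all.{u} chevF4 hD
  have hmemB : ∀ c : ↥(twistedF4 K (2 ^ m)), c ∈ P.B ↔ c.val ∈ chevF4.borelSubgroup K := by
    intro c
    rw [hPB, Subgroup.mem_subgroupOf]
    exact ⟨fun h => h.1, fun h => ⟨h, c.2⟩⟩
  rw [← Nat.card_prod]
  symm
  apply Nat.card_congr
  refine Equiv.ofBijective
    (fun p : ↥(chevF4.posUnipotent K ⊓ twistedF4 K (2 ^ m)) ×
        ↥(chevF4.diagonalSubgroup K ⊓ twistedF4 K (2 ^ m)) =>
      (⟨⟨p.1.val * p.2.val, Subgroup.mul_mem _ p.1.2.2 p.2.2.2⟩, (hmemB _).2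
        (Subgroup.mul_mem _ (h8U_le_B chevF4 p.1.2.1) (h8H_le_B chevF4 p.2.2.1))⟩ : ↥P.B))
    ⟨?_, ?_⟩
  · rintro ⟨⟨u, hu⟩, ⟨t, ht⟩⟩ ⟨⟨u', hu'⟩, ⟨t', ht'⟩⟩ e
    have e' : u * t = u' * t' := congrArg (fun x : ↥P.B => x.val.val) e
    have h1 : u'⁻¹ * u ∈ chevF4.posUnipotent K ⊓ chevF4.diagonalSubgroup K := by
      rw [Subgroup.mem_inf]
      refine ⟨Subgroup.mul_mem _ (Subgroup.inv_mem _ hu'.1) hu.1, ?_⟩
      have : u'⁻¹ * u = t' * t⁻¹ := by
        have : u'⁻¹ * u = u'⁻¹ * (u * t) * t⁻¹ := by group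
        rw [this, e']; group
      rw [this]
      exact Subgroup.mul_mem _ ht'.1 (Subgroup.inv_mem _ ht.1)
    rw [h8_U_inf_H chevF4 hB, Subgroup.mem_bot] at h1
    have huu : u = u' := by
      have : u = u' * (u'⁻¹ * u) := by group
      rw [this, h1, mul_one]
    subst huu
    have htt : t = t' := mul_left_cancel e'
    subst htt
    rfl
  · rintro ⟨⟨b, hbG⟩, hbB⟩
    obtain ⟨u, hu, h, hh, e⟩ := h8tf_B1_UH hK b ((hmemB _).1 hbB) hbG
    refine ⟨(⟨u, hu⟩, ⟨h, hh⟩), ?_⟩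
    apply Subtype.ext
    apply Subtype.ext
    exact e.symm

end Cfsg.Agent.Lib.helper8
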