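import Mathlib
import Cfsg.Prelude.Def_ChevStructure
import Cfsg.Prelude.Def_ChevF4
import Cfsg.Prelude.Def_LieTwisted
import Cfsg.Prelude.Def_LieExceptional
import Cfsg.Agent.Lib.helper8.ChevTF27
import Cfsg.Agent.Lib.helper8.ChevTwO4

set_option autoImplicit false

namespace Cfsg.Agent.Lib.helper8

open Cfsg.Lie Cfsg.Lie.ChevalleyDatum H3

universe u

variable {K : Type u} [Field K] {hB : H8Base.{u} chevF4}

section
variable {J : Set ℕ} {L Lm wJ : List ℕ} (C : H8TFC J L Lm wJ)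
  (hB0 : H8Base.{0} chevF4) (hA : H8ReflAll chevF4) (hC : H8CommAll.{u} chevF4)
  (hBN : H8BN chevF4) (hW : H8BN2 chevF4) (hO : H8Ord chevF4) (hO2 : H8Ord2 chevF4)

include C hA in
/-- the root subgroups of a class lie in `U_w⁻` for `w = w_J` -/
theorem h8tfC_XL_le_Um : Subgroup.closure (h8XLSet chevF4 K L) ≤
    Subgroup.closure (h8UmSet chevF4 K (h8nWU chevF4 hB wJ)) := by
  rw [Subgroup.closure_le]
  rintro g ⟨r, t, hr, hg⟩
  have : g = h8xU chevF4 hB r t := Units.ext (by rw [hg, h8xU_val])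
  rw [this]
  exact h8xU_mem_Um chevF4 hB hA wJ (h8tfC_w_lt C) r (C.hJ.inJ r hr).1 (C.hLm _ (C.wL r hr)).2 t

variable [CharP K 2] (R : H8TF K hB) (G1 : Subgroup (GL chevF4.Idx K))
  (hG1 : ∀ g ∈ G1, g ∈ chevF4.group K ∧ h8tfS R g = g)
  (hXfix : ∀ g ∈ Subgroup.closure (h8XLSet chevF4 K L), h8tfS R g = g → g ∈ G1)

include C hA hC hBN hG1 hXfix in
/-- the size of a rank one double coset of `²F₄` -/
theorem h8tf_dc_card (P : Cfsg.BNPair ↥G1)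
    (hPB : P.B = (chevF4.borelSubgroup K ⊓ G1).subgroupOf G1)
    (hnS : (h8nWU chevF4 hB wJ : GL chevF4.Idx K) ∈ G1) :
    Nat.card ↥(dc P (⟨h8nWU chevF4 hB wJ, hnS⟩ : ↥G1)) =
      Nat.card ↥P.B * Nat.card ↥(Subgroup.closure (h8XLSet chevF4 K L) ⊓ G1) := by
  classical
  have hnN : (h8nWU chevF4 hB wJ : GL chevF4.Idx K) ∈ chevF4.monomialSubgroup K :=
    h8nWU_mem_N chevF4 hB hA wJ (h8tfC_w_lt C)
  have hmemB : ∀ c : ↥G1, c ∈ P.B ↔ c.val ∈ chevF4.borelSubgroup K := by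
    intro c
    rw [hPB, Subgroup.mem_subgroupOf]
    exact ⟨fun h => h.1, fun h => ⟨h, c.2⟩⟩
  have hmem : ∀ (b : ↥P.B) (x : ↥(Subgroup.closure (h8XLSet chevF4 K L) ⊓ G1)),
      (b.val * ⟨h8nWU chevF4 hB wJ, hnS⟩ * ⟨x.val, x.2.2⟩ : ↥G1) ∈
        dc P (⟨h8nWU chevF4 hB wJ, hnS⟩ : ↥G1) := by
    intro b x
    exact mem_dc.2 ⟨b.val, b.2, _, (hmemB _).2 (h8U_le_B chevF4 (h8tf_XL_le_U C.hJ x.2.1)), rfl⟩
  rw [← Nat.card_prod]
  symm
  apply Nat.card_congr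
  refine Equiv.ofBijective
    (fun p : ↥P.B × ↥(Subgroup.closure (h8XLSet chevF4 K L) ⊓ G1) => ⟨_, hmem p.1 p.2⟩) ⟨?_, ?_⟩
  · rintro ⟨b, x⟩ ⟨b', x'⟩ h
    have h0 : b.val.val * h8nWU chevF4 hB wJ * x.val = b'.val.val * h8nWU chevF4 hB wJ * x'.val :=
      congrArg (fun y : ↥(dc P (⟨h8nWU chevF4 hB wJ, hnS⟩ : ↥G1)) => y.val.val) h
    have hx := h8tfC_XL_le_Um (hB := hB) C hA x.2.1
    have hx' := h8tfC_XL_le_Um (hB := hB) C hA x'.2.1
    obtain ⟨hbb, hxx⟩ := (h8normal_unique chevF4 hB hA hC hBN _ _ _ _ _ _ ((hmemB _).1 b.2)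
      ((hmemB _).1 b'.2) hnN hnN hx hx' h0).2 rfl
    have hb : b = b' := Subtype.ext (Subtype.ext hbb)
    have hxe : x = x' := Subtype.ext hxx
    rw [hb, hxe]
  · rintro ⟨g, hg⟩
    obtain ⟨c1, hc1, c2, hc2, eg⟩ := mem_dc.1 hg
    obtain ⟨c, hc1', x, hx, hx1, hcx, hcB, hscB⟩ := h8tf_B1_decomp C hA hBN R G1 hG1 hXfix c2.val
      ((hmemB _).1 hc2) c2.2
    have hbG : c1.val * (h8nWU chevF4 hB wJ * c * (h8nWU chevF4 hB wJ)⁻¹) ∈ G1 :=
      Subgroup.mul_mem _ c1.2 (Subgroup.mul_mem _ (Subgroup.mul_mem _ hnS hc1')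
        (Subgroup.inv_mem _ hnS))
    have hbB : c1.val * (h8nWU chevF4 hB wJ * c * (h8nWU chevF4 hB wJ)⁻¹) ∈
        chevF4.borelSubgroup K := Subgroup.mul_mem _ ((hmemB _).1 hc1) hscB
    refine ⟨(⟨⟨_, hbG⟩, (hmemB _).2 hbB⟩, ⟨x, hx, hx1⟩), ?_⟩
    apply Subtype.ext
    apply Subtype.ext
    show c1.val * (h8nWU chevF4 hB wJ * c * (h8nWU chevF4 hB wJ)⁻¹) * h8nWU chevF4 hB wJ * x =
      g.val
    have eg' : g.val = c1.val * h8nWU chevF4 hB wJ * c2.val := congrArg Subtype.val eg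
    rw [eg', hcx]
    group

end

section
variable [CharP K 2] (R : H8TF K hB) (hC : H8CommAll.{u} chevF4) (hO2 : H8Ord2 chevF4)

include hC in
/-- a fixed element of the class of type `B₂` in standard form -/
theorem h8tfCls_eq_Std2 (t v : K) :
    h8tfCls R 27 25 28 30 t v = h8tfStd2 hB t (R.f t) v ((R.f t) ^ 2 * t + (R.f v) ^ 2) := by
  unfold h8tfCls h8tfStd2
  rw [h8tf_swap hC (R.f t) t,
    h8tf_cls_calc' _ _ _ _ _ _ (h8tf_comm_28_30 hB hC _ _).symm,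
    h8xU_add chevF4 hB 28 (by decide), h8xU_add chevF4 hB 30 (by decide)]
  have e1 : R.f t * t + (R.f t * t + v) = v := by
    rw [← add_assoc, CharTwo.add_self_eq_zero, zero_add]
  rw [e1]

include hC hO2 in
theorem h8tfCls_inj (t v t' v' : K)
    (h : h8tfCls R 27 25 28 30 t v = h8tfCls R 27 25 28 30 t' v') : t = t' ∧ v = v' := by
  rw [h8tfCls_eq_Std2 R hC, h8tfCls_eq_Std2 R hC] at h
  obtain ⟨h1, _, h3, _⟩ := h8tfStd2_inj hO2 _ _ _ _ _ _ _ _ h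
  exact ⟨h1, h3⟩

include hC hO2 in
theorem h8tfPair_inj (t t' : K) (h : h8tfPair R 33 24 t = h8tfPair R 33 24 t') : t = t' := by
  unfold h8tfPair at h
  rw [(h8tf_comm_33_24 hB hC _ _).eq, (h8tf_comm_33_24 hB hC _ _).eq] at h
  exact (h8tfStd1_inj hO2 _ _ _ _ h).1

include hC hO2 in
/-- the number of fixed elements of the first class in `²F₄` -/
theorem h8tf_X1_card [Finite K] (e : ℕ) (hfe : ∀ t : K, R.f t = t ^ e) :
    Nat.card ↥(Subgroup.closure (h8XLSet chevF4 K [24, 33]) ⊓ twistedF4 K e) = Nat.card K := by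
  symm
  apply Nat.card_congr
  refine Equiv.ofBijective (fun t : K =>
    (⟨h8tfPair R 33 24 t, h8tfPair_mem_XL R 33 24 [24, 33] (by simp) (by simp) t,
      h8tfPair_mem R e hfe t⟩ :
      ↥(Subgroup.closure (h8XLSet chevF4 K [24, 33]) ⊓ twistedF4 K e))) ⟨?_, ?_⟩
  · intro t t' h
    exact h8tfPair_inj R hC hO2 t t' (congrArg Subtype.val h)
  · rintro ⟨g, hg, hg1⟩
    obtain ⟨t, rfl⟩ := h8tf_X1_fix R hC hO2 g hg (h8tf_G1_fix R hC e hfe g hg1).2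
    exact ⟨t, rfl⟩

include hC hO2 in
/-- the number of fixed elements of the second class in `²F₄` -/
theorem h8tf_X2_card [Finite K] (e : ℕ) (hfe : ∀ t : K, R.f t = t ^ e) :
    Nat.card ↥(Subgroup.closure (h8XLSet chevF4 K [25, 27, 28, 30]) ⊓ twistedF4 K e) =
      Nat.card K * Nat.card K := by
  rw [← Nat.card_prod]
  symm
  apply Nat.card_congr
  refine Equiv.ofBijective (fun p : K × K =>
    (⟨h8tfCls R 27 25 28 30 p.1 p.2, h8tfCls_mem_XL R 27 25 28 30 [25, 27, 28, 30]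
      (by simp) (by simp) (by simp) (by simp) p.1 p.2, h8tfCls_mem R e hfe p.1 p.2⟩ :
      ↥(Subgroup.closure (h8XLSet chevF4 K [25, 27, 28, 30]) ⊓ twistedF4 K e))) ⟨?_, ?_⟩
  · rintro ⟨t, v⟩ ⟨t', v'⟩ h
    obtain ⟨h1, h2⟩ := h8tfCls_inj R hC hO2 t v t' v' (congrArg Subtype.val h)
    rw [h1, h2]
  · rintro ⟨g, hg, hg1⟩
    obtain ⟨t, v, rfl⟩ := h8tf_X2_fix R hC hO2 g hg (h8tf_G1_fix R hC e hfe g hg1).2
    exact ⟨(t, v), rfl⟩

end

end Cfsg.Agent.Lib.helper8
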