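import Mathlib
import Cfsg.Prelude.Def_ChevStructure
import Cfsg.Prelude.Def_ChevF4
import Cfsg.Prelude.Def_LieTwisted
import Cfsg.Agent.Lib.helper8.ChevTF28

set_option autoImplicit false

namespace Cfsg.Agent.Lib.helper8

open Cfsg.Lie Cfsg.Lie.ChevalleyDatum

/-- the sixteen elements of the twisted Weyl group of `²F₄` as reduced words -/
def h8ofW (k : ℕ) : List ℕ :=
  ([[],
    [0, 3],
    [1, 2, 1, 2],
    [0, 3, 1, 2, 1, 2],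
    [1, 2, 1, 2, 0, 3],
    [0, 3, 1, 2, 1, 2, 0, 3],
    [1, 2, 1, 2, 0, 3, 1, 2, 1, 2],
    [0, 3, 1, 2, 1, 2, 0, 3, 1, 2, 1, 2],
    [1, 2, 1, 2, 0, 3, 1, 2, 1, 2, 0, 3],
    [0, 3, 1, 2, 1, 2, 0, 3, 1, 2, 1, 2, 0, 3],
    [1, 2, 1, 2, 0, 3, 1, 2, 1, 2, 0, 3, 1, 2, 1, 2],
    [0, 3, 1, 2, 1, 2, 0, 3, 1, 2, 1, 2, 0, 3, 1, 2, 1, 2],
    [1, 2, 1, 2, 0, 3, 1, 2, 1, 2, 0, 3, 1, 2, 1, 2, 0, 3],
    [0, 3, 1, 2, 1, 2, 0, 3, 1, 2, 1, 2, 0, 3, 1, 2, 1, 2, 0, 3],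
    [1, 2, 1, 2, 0, 3, 1, 2, 1, 2, 0, 3, 1, 2, 1, 2, 0, 3, 1, 2, 1, 2],
    [0, 3, 1, 2, 1, 2, 0, 3, 1, 2, 1, 2, 0, 3, 1, 2, 1, 2, 0, 3, 1, 2, 1, 2]] : List (List ℕ)).getD k []

/-- the two generators -/
def h8ofJ (j : ℕ) : List ℕ := ([[0, 3], [1, 2, 1, 2]] : List (List ℕ)).getD j []

/-- the first generator of a word -/
def h8ofFl (k : ℕ) : ℕ := ([0, 0, 1, 0, 1, 0, 1, 0, 1, 0, 1, 0, 1, 0, 1, 0] : List ℕ).getD k 0

/-- the index of the rest of a word -/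
def h8ofPar (k : ℕ) : ℕ := ([0, 0, 0, 2, 1, 4, 3, 6, 5, 8, 7, 10, 9, 12, 11, 14] : List ℕ).getD k 0

/-- the exponents of `q` in the sizes of the double cosets -/
def h8ofLen (k : ℕ) : ℕ := ([0, 1, 2, 3, 3, 4, 5, 6, 6, 7, 8, 9, 9, 10, 11, 12] : List ℕ).getD k 0

/-- the exponents for the generators -/
def h8ofA (j : ℕ) : ℕ := ([1, 2] : List ℕ).getD j 0

/-- the multiplication table: generator times element -/
def h8ofMt (j k : ℕ) : ℕ :=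
  (([[1, 0, 3, 2, 5, 4, 7, 6, 9, 8, 11, 10, 13, 12, 15, 14],
    [2, 4, 0, 6, 1, 8, 3, 10, 5, 12, 7, 14, 9, 15, 11, 13]] : List (List ℕ)).getD j []).getD k 0

set_option synthInstance.maxSize 1000 in
set_option synthInstance.maxHeartbeats 400000 in
theorem h8of_F1 : ∀ k < 16, 1 ≤ k → h8ofPar k < k ∧ h8ofFl k < 2 ∧
    h8ofW k = h8ofJ (h8ofFl k) ++ h8ofW (h8ofPar k) ∧
    h8posW chevF4 (h8ofJ (h8ofFl k)) (h8ofW (h8ofPar k)) = true ∧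
    h8ofLen k = h8ofA (h8ofFl k) + h8ofLen (h8ofPar k) := by decide +kernel

theorem h8of_F2 : ∀ k, ∀ i ∈ h8ofW k, i < chevF4.rank := by
  intro k
  by_cases hk : k < 16
  · revert k
    decide +kernel
  · intro i hi
    have : h8ofW k = [] := by
      unfold h8ofW
      exact List.getD_eq_default _ _ (by simpa using hk)
    rw [this] at hi
    exact absurd hi List.not_mem_nil

theorem h8of_F3 : ∀ j < 2, ∀ k < 16, h8ofMt j k < 16 ∧ ∀ r < chevF4.nroots,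
    h8sW chevF4 (h8ofJ j ++ h8ofW k) r = h8sW chevF4 (h8ofW (h8ofMt j k)) r := by decide +kernel

theorem h8of_F4 : ∀ k < 16, ∀ k' < 16, k ≠ k' → ∃ r < chevF4.nroots,
    h8sW chevF4 (h8ofW k) r ≠ h8sW chevF4 (h8ofW k') r := by decide +kernel

set_option synthInstance.maxSize 1000 in
set_option synthInstance.maxHeartbeats 400000 in
theorem h8of_F6 : ∀ r < chevF4.nroots, chevF4.IsPosRoot r →
    chevF4.IsNegRoot (h8sW chevF4 (h8ofW 15) r) := by decide +kernel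

theorem h8of_F7 : ∀ j < 2, ∀ i ∈ h8ofJ j, i < chevF4.rank := by decide +kernel

end Cfsg.Agent.Lib.helper8
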