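import Mathlib
import Cfsg.Prelude.Def_ChevStructure
import Cfsg.Prelude.Def_ChevF4
import Cfsg.Prelude.Def_LieTwisted
import Cfsg.Prelude.Def_LieExceptional
import Cfsg.Agent.Lib.helper8.ChevTF29

set_option autoImplicit false

namespace Cfsg.Agent.Lib.helper8

open Cfsg.Lie Cfsg.Lie.ChevalleyDatum H3

universe u

variable {K : Type u} [Field K]

/-- the size of the big cell of `²F₄`: `|B¹ n₀ B¹| = |B¹| |U¹|` -/
theorem h8tf_dc_w0_card [Fintype K] {m : ℕ} (hK : Fintype.card K = 2 ^ (2 * m + 1))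
    (hB : H8Base.{u} chevF4) (P : Cfsg.BNPair ↥(twistedF4 K (2 ^ m)))
    (hPB : P.B = (chevF4.borelSubgroup K ⊓ twistedF4 K (2 ^ m)).subgroupOf
      (twistedF4 K (2 ^ m)))
    (w : List ℕ) (hw : ∀ i ∈ w, i < chevF4.rank)
    (hneg : ∀ r < chevF4.nroots, chevF4.IsPosRoot r → chevF4.IsNegRoot (h8sW chevF4 w r))
    (hn1 : (h8nWU chevF4 hB w : GL chevF4.Idx K) ∈ twistedF4 K (2 ^ m)) :
    Nat.card ↥(dc P (⟨h8nWU chevF4 hB w, hn1⟩ : ↥(twistedF4 K (2 ^ m)))) =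
      Nat.card ↥P.B * Nat.card ↥(chevF4.posUnipotent K ⊓ twistedF4 K (2 ^ m)) := by
  classical
  have hD : chevF4 ∈ [chevG2, chevB2, chevD4, chevF4, chevE6, chevE7, chevE8] := by simp
  have hA := h8reflAll chevF4 hD
  have hC := h8commAll.{u} chevF4 hD
  have hBN := h8bn_all chevF4 hD
  obtain ⟨dep, par, horb⟩ := hBN.orb
  have hnN : (h8nWU chevF4 hB w : GL chevF4.Idx K) ∈ chevF4.monomialSubgroup K :=
    h8nWU_mem_N chevF4 hB hA w hw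
  have hmemB : ∀ c : ↥(twistedF4 K (2 ^ m)), c ∈ P.B ↔ c.val ∈ chevF4.borelSubgroup K := by
    intro c
    rw [hPB, Subgroup.mem_subgroupOf]
    exact ⟨fun h => h.1, fun h => ⟨h, c.2⟩⟩
  have hUm : chevF4.posUnipotent K ≤
      Subgroup.closure (h8UmSet chevF4 K (h8nWU chevF4 hB w)) := by
    unfold ChevalleyDatum.posUnipotent
    rw [Subgroup.closure_le]
    rintro g ⟨r, t, hr, hg⟩
    have : g = h8xU chevF4 hB r t := Units.ext (by rw [hg, h8xU_val])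
    rw [this]
    exact h8xU_mem_Um chevF4 hB hA w hw r hr (hneg r hr.1 hr) t
  have hmem : ∀ (b : ↥P.B) (x : ↥(chevF4.posUnipotent K ⊓ twistedF4 K (2 ^ m))),
      (b.val * ⟨h8nWU chevF4 hB w, hn1⟩ * ⟨x.val, x.2.2⟩ : ↥(twistedF4 K (2 ^ m))) ∈
        dc P (⟨h8nWU chevF4 hB w, hn1⟩ : ↥(twistedF4 K (2 ^ m))) := by
    intro b x
    exact mem_dc.2 ⟨b.val, b.2, _, (hmemB _).2 (h8U_le_B chevF4 x.2.1), rfl⟩
  rw [← Nat.card_prod]
  symm
  apply Nat.card_congr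
  refine Equiv.ofBijective
    (fun p : ↥P.B × ↥(chevF4.posUnipotent K ⊓ twistedF4 K (2 ^ m)) => ⟨_, hmem p.1 p.2⟩) ⟨?_, ?_⟩
  · rintro ⟨b, x⟩ ⟨b', x'⟩ h
    have h0 : b.val.val * h8nWU chevF4 hB w * x.val = b'.val.val * h8nWU chevF4 hB w * x'.val :=
      congrArg (fun y : ↥(dc P (⟨h8nWU chevF4 hB w, hn1⟩ : ↥(twistedF4 K (2 ^ m)))) => y.val.val) h
    obtain ⟨hbb, hxx⟩ := (h8normal_unique chevF4 hB hA hC hBN _ _ _ _ _ _ ((hmemB _).1 b.2)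
      ((hmemB _).1 b'.2) hnN hnN (hUm x.2.1) (hUm x'.2.1) h0).2 rfl
    have hb : b = b' := Subtype.ext (Subtype.ext hbb)
    have hxe : x = x' := Subtype.ext hxx
    rw [hb, hxe]
  · rintro ⟨g, hg⟩
    obtain ⟨c1, hc1, c2, hc2, eg⟩ := mem_dc.1 hg
    obtain ⟨u, hu, h, hh, e⟩ := h8tf_B1_UH hK c2.val ((hmemB _).1 hc2) c2.2
    have hconjH : h8nWU chevF4 hB w * h * (h8nWU chevF4 hB w)⁻¹ ∈ chevF4.diagonalSubgroup K :=
      (Subgroup.mem_normalizer_iff.mp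
        (h8N_le_normalizer_H (F := K) chevF4 hB hA dep par horb hnN) _).mp hh.1
    have hconjU : h⁻¹ * u * (h⁻¹)⁻¹ ∈ chevF4.posUnipotent K :=
      (Subgroup.mem_normalizer_iff.mp
        (h8_H_le_normalizer_U chevF4 hB (Subgroup.inv_mem _ hh.1)) _).mp hu.1
    have hbG : c1.val * (h8nWU chevF4 hB w * h * (h8nWU chevF4 hB w)⁻¹) ∈ twistedF4 K (2 ^ m) :=
      Subgroup.mul_mem _ c1.2 (Subgroup.mul_mem _ (Subgroup.mul_mem _ hn1 hh.2)
        (Subgroup.inv_mem _ hn1))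
    have hbB : c1.val * (h8nWU chevF4 hB w * h * (h8nWU chevF4 hB w)⁻¹) ∈
        chevF4.borelSubgroup K :=
      Subgroup.mul_mem _ ((hmemB _).1 hc1) (h8H_le_B chevF4 hconjH)
    have hxG : h⁻¹ * u * (h⁻¹)⁻¹ ∈ twistedF4 K (2 ^ m) :=
      Subgroup.mul_mem _ (Subgroup.mul_mem _ (Subgroup.inv_mem _ hh.2) hu.2)
        (Subgroup.inv_mem _ (Subgroup.inv_mem _ hh.2))
    refine ⟨(⟨⟨_, hbG⟩, (hmemB _).2 hbB⟩, ⟨_, hconjU, hxG⟩), ?_⟩
    apply Subtype.ext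
    apply Subtype.ext
    show c1.val * (h8nWU chevF4 hB w * h * (h8nWU chevF4 hB w)⁻¹) * h8nWU chevF4 hB w *
      (h⁻¹ * u * (h⁻¹)⁻¹) = g.val
    have eg' : g.val = c1.val * h8nWU chevF4 hB w * c2.val := congrArg Subtype.val eg
    rw [eg', e]
    group

end Cfsg.Agent.Lib.helper8
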