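import Mathlib
import Cfsg.Prelude.Def_ChevStructure
import Cfsg.Prelude.Def_ChevF4
import Cfsg.Prelude.Def_LieTwisted
import Cfsg.Prelude.Def_LieExceptional
import Cfsg.Agent.Lib.helper8.ChevTF30

set_option autoImplicit false

namespace Cfsg.Agent.Lib.helper8

open Cfsg.Lie Cfsg.Lie.ChevalleyDatum H3

universe u

variable {K : Type u} [Field K]

/-- the orders of `U¹` and of `²F₄(q)` -/
theorem h8tf_card_both [Fintype K] {m : ℕ} (hK : Fintype.card K = 2 ^ (2 * m + 1)) :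
    Nat.card ↥(chevF4.posUnipotent K ⊓ twistedF4 K (2 ^ m)) = (2 ^ (2 * m + 1)) ^ 12 ∧
    Nat.card ↥(twistedF4 K (2 ^ m)) =
      (2 ^ (2 * m + 1)) ^ 12 * (2 ^ (2 * m + 1) - 1) * ((2 ^ (2 * m + 1)) ^ 3 + 1) *
        ((2 ^ (2 * m + 1)) ^ 4 - 1) * ((2 ^ (2 * m + 1)) ^ 6 + 1) := by
  classical
  have hD : chevF4 ∈ [chevG2, chevB2, chevD4, chevF4, chevE6, chevE7, chevE8] := by simp
  have hB := h8base_all.{u} chevF4 hD
  have hB0 := h8base_all.{0} chevF4 hD
  have hA := h8reflAll chevF4 hD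
  have hC := h8commAll.{u} chevF4 hD
  have hBN := h8bn_all chevF4 hD
  have hW := h8bn2_all chevF4 hD
  obtain ⟨hO, hO2⟩ := h8ord_all chevF4 hD
  have := h8tf_char2 hK
  obtain ⟨R, hfe⟩ := h8tf_setup hK hB
  set q := 2 ^ (2 * m + 1) with hq
  have hKq : Nat.card K = q := by rw [Nat.card_eq_fintype_card, hK]
  have hG1 : ∀ g ∈ twistedF4 K (2 ^ m), g ∈ chevF4.group K ∧ h8tfS R g = g :=
    fun g hg => h8tf_G1_fix R hC (2 ^ m) hfe g hg
  have hX1 := h8tf_Xfix1 R hC hO2 (2 ^ m) hfe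
  have hX2 := h8tf_Xfix2 R hC hO2 (2 ^ m) hfe
  have hn1 : (h8nWU chevF4 hB [0, 3] : GL chevF4.Idx K) ∈ twistedF4 K (2 ^ m) :=
    h8tf_n1_mem R hC (2 ^ m) hfe
  have hn2 : (h8nWU chevF4 hB [1, 2, 1, 2] : GL chevF4.Idx K) ∈ twistedF4 K (2 ^ m) :=
    h8tf_n2_mem R hA hC hBN hO2 (2 ^ m) hfe
  obtain ⟨P, hPB, hPN, hPS⟩ := h8tf_bnpair hK hB
  -- the generators and the sixteen elements
  have hwJ : ∀ j, ∀ i ∈ h8ofJ j, i < chevF4.rank := by
    intro j
    by_cases hj : j < 2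
    · exact h8of_F7 j hj
    · intro i hi
      have : h8ofJ j = [] := by
        unfold h8ofJ
        exact List.getD_eq_default _ _ (by simp only [List.length_cons, List.length_nil]; omega)
      rw [this] at hi
      exact absurd hi List.not_mem_nil
  have hsJ1 : ∀ j, (h8nWU chevF4 hB (h8ofJ j) : GL chevF4.Idx K) ∈ twistedF4 K (2 ^ m) := by
    intro j
    by_cases hj : j < 2
    · interval_cases j
      · exact hn1
      · exact hn2
    · have : h8ofJ j = [] := by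
        unfold h8ofJ
        exact List.getD_eq_default _ _ (by simp only [List.length_cons, List.length_nil]; omega)
      rw [this]
      unfold h8nWU
      simp
  have hnk1 : ∀ k, (h8nWU chevF4 hB (h8ofW k) : GL chevF4.Idx K) ∈ twistedF4 K (2 ^ m) := by
    intro k
    induction k using Nat.strong_induction_on with
    | _ k ih =>
      by_cases hk : k < 16
      · by_cases hk1 : 1 ≤ k
        · obtain ⟨h1, _, h3, _, _⟩ := h8of_F1 k hk hk1
          rw [h3, h8nWU_append]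
          exact Subgroup.mul_mem _ (hsJ1 _) (ih _ h1)
        · have : k = 0 := by omega
          subst this
          have : h8ofW 0 = [] := rfl
          rw [this]
          unfold h8nWU
          simp
      · have : h8ofW k = [] := by
          unfold h8ofW
          exact List.getD_eq_default _ _ (by simpa using hk)
        rw [this]
        unfold h8nWU
        simp
  let sJ : ℕ → ↥(twistedF4 K (2 ^ m)) := fun j => ⟨h8nWU chevF4 hB (h8ofJ j), hsJ1 j⟩
  let nn : ℕ → ↥(twistedF4 K (2 ^ m)) := fun k => ⟨h8nWU chevF4 hB (h8ofW k), hnk1 k⟩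
  have hS : ∀ j < 2, sJ j ∈ P.S := by
    intro j hj
    rw [hPS]
    interval_cases j
    · exact Or.inl rfl
    · exact Or.inr rfl
  have hSall : ∀ s ∈ P.S, ∃ j < 2, s = sJ j := by
    intro s hs
    rw [hPS] at hs
    rcases hs with e | e
    · exact ⟨0, by norm_num, Subtype.ext e⟩
    · exact ⟨1, by norm_num, Subtype.ext e⟩
  have hN : ∀ k, nn k ∈ P.N := by
    intro k
    rw [hPN, Subgroup.mem_subgroupOf]
    exact ⟨h8nWU_mem_N chevF4 hB hA _ (h8of_F2 k), hnk1 k⟩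
  have hmemB : ∀ c : ↥(twistedF4 K (2 ^ m)), c ∈ P.B ↔ c.val ∈ chevF4.borelSubgroup K := by
    intro c
    rw [hPB, Subgroup.mem_subgroupOf]
    exact ⟨fun h => h.1, fun h => ⟨h, c.2⟩⟩
  have hstep : ∀ k < 16, 1 ≤ k → nn k = sJ (h8ofFl k) * nn (h8ofPar k) := by
    intro k hk hk1
    obtain ⟨_, _, h3, _, _⟩ := h8of_F1 k hk hk1
    apply Subtype.ext
    show h8nWU chevF4 hB (h8ofW k) = h8nWU chevF4 hB (h8ofJ (h8ofFl k)) *
      h8nWU chevF4 hB (h8ofW (h8ofPar k))
    rw [← h8nWU_append, ← h3]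
  have hPp : ∀ k < 16, 1 ≤ k → Pp P (sJ (h8ofFl k)) (nn (h8ofPar k)) := by
    intro k hk hk1
    obtain ⟨_, h2, _, h4, _⟩ := h8of_F1 k hk hk1
    apply h8tw_Pp chevF4 hB hA hC hBN (twistedF4 K (2 ^ m)) P hPB _ _ (hS _ h2) (hN _)
      (h8nWU_mem_N chevF4 hB hA _ (hwJ _)) (h8nWU_mem_N chevF4 hB hA _ (h8of_F2 _))
    intro b hb
    obtain ⟨b1, hb1, b2, hb2, e⟩ := h8bn_pos_word chevF4 hB hA hC hBN _ (h8of_F2 (h8ofPar k))
      _ (hwJ (h8ofFl k)) h4 b hb
    refine ⟨b1, hb1, b2, hb2, ?_⟩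
    show h8nWU chevF4 hB (h8ofJ (h8ofFl k)) * b * h8nWU chevF4 hB (h8ofW (h8ofPar k)) =
      b1 * (h8nWU chevF4 hB (h8ofJ (h8ofFl k)) * h8nWU chevF4 hB (h8ofW (h8ofPar k))) * b2
    rw [← h8nWU_append]
    exact e
  have hBpos : 0 < Nat.card ↥P.B := Nat.card_pos
  -- rank one
  have hrk1 : ∀ j < 2, Nat.card ↥(dc P (sJ j)) = Nat.card ↥P.B * q ^ h8ofA j := by
    intro j hj
    interval_cases j
    · have := h8tf_dc_card h8tfC1 hA hC hBN R (twistedF4 K (2 ^ m)) hG1 hX1 P hPB hn1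
      rw [h8tf_X1_card R hC hO2 (2 ^ m) hfe, hKq] at this
      have e : h8ofA 0 = 1 := rfl
      rw [e, pow_one]
      exact this
    · have := h8tf_dc_card h8tfC2 hA hC hBN R (twistedF4 K (2 ^ m)) hG1 hX2 P hPB hn2
      rw [h8tf_X2_card R hC hO2 (2 ^ m) hfe, hKq] at this
      have e : h8ofA 1 = 2 := rfl
      rw [e, sq]
      exact this
  -- the sizes of the sixteen double cosets
  have hsize : ∀ k < 16, Nat.card ↥(dc P (nn k)) = Nat.card ↥P.B * q ^ h8ofLen k := by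
    intro k
    induction k using Nat.strong_induction_on with
    | _ k ih =>
      intro hk
      by_cases hk1 : 1 ≤ k
      · obtain ⟨h1, h2, _, _, h5⟩ := h8of_F1 k hk hk1
        have hmul := h8dc_card_mul P (hS _ h2) (hN (h8ofPar k)) (hPp k hk hk1)
        rw [← hstep k hk hk1, hrk1 _ h2, ih _ h1 (by omega)] at hmul
        apply Nat.eq_of_mul_eq_mul_right hBpos
        rw [hmul, h5, pow_add]
        ring
      · have : k = 0 := by omega
        subst this
        have e1 : nn 0 = 1 := by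
          apply Subtype.ext
          show h8nWU chevF4 hB (h8ofW 0) = 1
          have : h8ofW 0 = [] := rfl
          rw [this]
          unfold h8nWU
          simp
        rw [e1, dc_one]
        have : h8ofLen 0 = 0 := rfl
        rw [this, pow_zero, mul_one]
        rfl
  -- the multiplication table
  have hmt : ∀ j < 2, ∀ k < 16, dc P (sJ j * nn k) = dc P (nn (h8ofMt j k)) := by
    intro j hj k hk
    obtain ⟨_, h2⟩ := h8of_F3 j hj k hk
    rw [dc_eq_iff (P.N.mul_mem (S_mem_N (hS j hj)) (hN k)) (hN _), hmemB]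
    apply h8H_le_B
    have happ : ∀ i ∈ h8ofJ j ++ h8ofW k, i < chevF4.rank := by
      intro i hi
      rw [List.mem_append] at hi
      rcases hi with hi | hi
      · exact hwJ j i hi
      · exact h8of_F2 k i hi
    have := h8nWU_same_H (K := K) chevF4 hB hA hBN hW hO2 _ _ happ (h8of_F2 (h8ofMt j k)) h2
    rw [h8nWU_append] at this
    exact this
  -- covering
  have hcover : ∀ g : ↥(twistedF4 K (2 ^ m)), ∃ k < 16, g ∈ dc P (nn k) := by
    have hstab : ∀ t ∈ (P.B : Set ↥(twistedF4 K (2 ^ m))) ∪ P.S,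
        ∀ x ∈ {x : ↥(twistedF4 K (2 ^ m)) | ∃ k < 16, x ∈ dc P (nn k)},
        t * x ∈ {x : ↥(twistedF4 K (2 ^ m)) | ∃ k < 16, x ∈ dc P (nn k)} ∧
        t⁻¹ * x ∈ {x : ↥(twistedF4 K (2 ^ m)) | ∃ k < 16, x ∈ dc P (nn k)} := by
      rintro t (ht | ht) x ⟨k, hk, hx⟩
      · exact ⟨⟨k, hk, dc_mul_left ht hx⟩, ⟨k, hk, dc_mul_left (P.B.inv_mem ht) hx⟩⟩
      · obtain ⟨j, hj, rfl⟩ := hSall t ht
        obtain ⟨b1, hb1, b2, hb2, rfl⟩ := mem_dc.1 hx
        have hk' := (h8of_F3 j hj k hk).1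
        constructor
        · have e : sJ j * (b1 * nn k * b2) = (sJ j * b1 * nn k) * b2 := by group
          rw [e]
          rcases t3 (hS j hj) (hN k) hb1 with h | h
          · rw [hmt j hj k hk] at h
            exact ⟨_, hk', dc_mul_right hb2 h⟩
          · exact ⟨k, hk, dc_mul_right hb2 h⟩
        · have e : (sJ j)⁻¹ * (b1 * nn k * b2) = ((sJ j)⁻¹ * b1 * nn k) * b2 := by group
          rw [e]
          rcases t3_inv (hS j hj) (hN k) hb1 with h | h
          · rw [dc_sinv_mul (hS j hj) (hN k), hmt j hj k hk] at h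
            exact ⟨_, hk', dc_mul_right hb2 h⟩
          · exact ⟨k, hk, dc_mul_right hb2 h⟩
    intro g
    have hg : g ∈ Subgroup.closure ((P.B : Set ↥(twistedF4 K (2 ^ m))) ∪ P.S) := by
      rw [top_eq_closure]
      exact Subgroup.mem_top g
    have h1 : (1 : ↥(twistedF4 K (2 ^ m))) ∈
        {x : ↥(twistedF4 K (2 ^ m)) | ∃ k < 16, x ∈ dc P (nn k)} := by
      refine ⟨0, by norm_num, ?_⟩
      have e1 : nn 0 = 1 := by
        apply Subtype.ext
        show h8nWU chevF4 hB (h8ofW 0) = 1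
        have : h8ofW 0 = [] := rfl
        rw [this]
        unfold h8nWU
        simp
      rw [e1]
      exact dc_self 1
    have := (closure_mul_mem hstab hg 1 h1).1
    rw [mul_one] at this
    exact this
  -- disjointness
  have hdisj : ∀ k < 16, ∀ k' < 16, ∀ g : ↥(twistedF4 K (2 ^ m)), g ∈ dc P (nn k) →
      g ∈ dc P (nn k') → k = k' := by
    intro k hk k' hk' g hg hg'
    by_contra hne
    have e : dc P (nn k) = dc P (nn k') := (dc_eq_of_mem hg).symm.trans (dc_eq_of_mem hg')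
    rw [dc_eq_iff (hN k) (hN k'), hmemB] at e
    have hcell : ∃ d1 ∈ chevF4.borelSubgroup K, ∃ d2 ∈ chevF4.borelSubgroup K,
        (nn k').val = d1 * (nn k).val * d2 :=
      ⟨1, Subgroup.one_mem _, _, e, by
        show (nn k').val = 1 * (nn k).val * ((nn k).val⁻¹ * (nn k').val)
        group⟩
    have hH := h8cell_disjoint chevF4 hB hA hC hBN _ _
      (h8nWU_mem_N chevF4 hB hA _ (h8of_F2 k')) (h8nWU_mem_N chevF4 hB hA _ (h8of_F2 k)) hcell
    have hsame := h8nWU_H_same (K := K) chevF4 hB hA hBN hW hO2 _ _ (h8of_F2 k') (h8of_F2 k) hH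
    obtain ⟨r, hr, hrne⟩ := h8of_F4 k hk k' hk' hne
    exact hrne (hsame r hr).symm
  -- the sum
  have hsum : Nat.card ↥(twistedF4 K (2 ^ m)) = ∑ k : Fin 16, Nat.card ↥(dc P (nn k.val)) := by
    rw [← Nat.card_sigma]
    symm
    apply Nat.card_congr
    refine Equiv.ofBijective (fun x : (Σ k : Fin 16, ↥(dc P (nn k.val))) => x.2.val) ⟨?_, ?_⟩
    · rintro ⟨k, x, hx⟩ ⟨k', x', hx'⟩ h
      have hxx : x = x' := h
      subst hxx
      have := hdisj k.val k.2 k'.val k'.2 x hx hx'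
      have hkk : k = k' := Fin.ext this
      subst hkk
      rfl
    · intro g
      obtain ⟨k, hk, hg⟩ := hcover g
      exact ⟨⟨⟨k, hk⟩, ⟨g, hg⟩⟩, rfl⟩
  -- the order of `U¹`
  have hU : Nat.card ↥(chevF4.posUnipotent K ⊓ twistedF4 K (2 ^ m)) = q ^ 12 := by
    have h1 := h8tf_dc_w0_card hK hB P hPB (h8ofW 15) (h8of_F2 15) h8of_F6 (hnk1 15)
    have h2 := hsize 15 (by norm_num)
    have e : h8ofLen 15 = 12 := rfl
    rw [e] at h2
    have h3 : Nat.card ↥P.B * Nat.card ↥(chevF4.posUnipotent K ⊓ twistedF4 K (2 ^ m)) =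
        Nat.card ↥P.B * q ^ 12 := by rw [← h1, ← h2]
    exact Nat.eq_of_mul_eq_mul_left hBpos h3
  refine ⟨hU, ?_⟩
  have hBcard := h8tf_B_card hK P hPB
  rw [hU, h8tf_H_card hK] at hBcard
  rw [hsum]
  have hterm : ∀ k : Fin 16, Nat.card ↥(dc P (nn k.val)) =
      q ^ 12 * (q - 1) ^ 2 * q ^ h8ofLen k.val := by
    intro k
    rw [hsize k.val k.2, hBcard]
  simp only [hterm, Fin.sum_univ_succ, Fin.sum_univ_zero, Fin.val_zero, Fin.val_succ]
  have hl : ∀ k, h8ofLen k =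
      ([0, 1, 2, 3, 3, 4, 5, 6, 6, 7, 8, 9, 9, 10, 11, 12] : List ℕ).getD k 0 := fun _ => rfl
  simp only [hl, zero_add, List.getD_cons_zero, List.getD_cons_succ]
  obtain ⟨n, hn⟩ : ∃ n, q = n + 1 := ⟨q - 1, by
    have : 0 < q := by rw [hq]; positivity
    omega⟩
  rw [hn]
  have e4 : (n + 1) ^ 4 - 1 = n * ((n + 1) ^ 3 + (n + 1) ^ 2 + (n + 1) + 1) := by
    apply Nat.sub_eq_of_eq_add
    ring
  rw [e4, Nat.add_sub_cancel]
  ring

end Cfsg.Agent.Lib.helper8
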