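import Mathlib
import Cfsg.Prelude.Def_ChevStructure
import Cfsg.Prelude.Def_ChevF4
import Cfsg.Agent.Lib.helper8.ChevTI15
import Cfsg.Agent.Lib.helper8.ChevTF29
import Cfsg.Agent.Lib.helper8.ChevFix1
import Cfsg.Agent.Lib.helper8.ChevTits1

/-!
# Project TWIF4 (S2184), pieces NSQ + NNE and the bridge between `h8nWU` over `K` and words over `ZMod 2`
-/

set_option autoImplicit false

namespace Cfsg.Agent.Lib.helper8.TWIF4

open Cfsg.Lie Cfsg.Lie.ChevalleyDatum Cfsg.Agent.Lib.helper8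

universe u

variable {K : Type u} [Field K]

/-- the word of roots of `n_w` in characteristic two -/
def nRoots (w : List ℕ) : List ℕ :=
  w.flatMap fun i => [chevF4.simple i, chevF4.neg (chevF4.simple i), chevF4.simple i]

theorem nRoots_cons (i : ℕ) (w : List ℕ) :
    nRoots (i :: w) = [chevF4.simple i, chevF4.neg (chevF4.simple i), chevF4.simple i] ++ nRoots w := by
  unfold nRoots
  rw [List.flatMap_cons]

theorem nRoots_append (w w' : List ℕ) : nRoots (w ++ w') = nRoots w ++ nRoots w' := by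
  unfold nRoots
  rw [List.flatMap_append]

theorem nU_tiW (hB0 : H8Base.{0} chevF4) (r : ℕ) :
    (h8nU chevF4 hB0 r 1 : GL chevF4.Idx (ZMod 2)) = h8tiW hB0 [r, chevF4.neg r, r] := by
  have h1 : (-(1 : ZMod 2)⁻¹) = 1 := by rw [inv_one]; decide
  have e : chevF4.nWord r (1 : ZMod 2) = [(r, 1), (chevF4.neg r, 1), (r, 1)] := by
    unfold ChevalleyDatum.nWord
    rw [h1]
  unfold h8nU
  rw [e, h8wordU_cons, h8wordU_cons, h8wordU_cons, h8tiW_cons, h8tiW_cons, h8tiW_cons, h8tiW_nil]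
  have : h8wordU chevF4 hB0 ([] : List (ℕ × ZMod 2)) = 1 := by
    unfold h8wordU
    rw [List.map_nil, List.prod_nil]
  rw [this]

/-- over `ZMod 2` the representative `n_w` is a word in the root elements `x_r(1)` -/
theorem nWU_tiW (hB0 : H8Base.{0} chevF4) (w : List ℕ) :
    (h8nWU chevF4 hB0 w : GL chevF4.Idx (ZMod 2)) = h8tiW hB0 (nRoots w) := by
  induction w with
  | nil =>
    have : nRoots [] = [] := by unfold nRoots; rw [List.flatMap_nil]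
    rw [this, h8tiW_nil]
    unfold h8nWU
    rw [List.map_nil, List.prod_nil]
  | cons i w ih =>
    rw [h8nWU_cons, ih, nRoots_cons, h8tiW_append, nU_tiW]

/-- the ring homomorphism from the prime field -/
noncomputable def f2hom (K : Type u) [Field K] [CharP K 2] : ZMod 2 →+* K := ZMod.castHom (dvd_refl 2) K

/-- transfer of `n_w` from the prime field -/
theorem Psi_nWU [CharP K 2] (hB0 : H8Base.{0} chevF4) (hB : H8Base.{u} chevF4) (w : List ℕ) :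
    h8Psi chevF4 (f2hom K) (h8nWU chevF4 hB0 w) = (h8nWU chevF4 hB w : GL chevF4.Idx K) := by
  induction w with
  | nil =>
    show h8Psi chevF4 (f2hom K) 1 = 1
    exact map_one _
  | cons i w ih =>
    rw [h8nWU_cons, h8nWU_cons, map_mul, ih, h8Psi_nU chevF4 hB0 hB, map_one]

/-- transfer of a word in the root elements `x_r(1)` from the prime field -/
theorem Psi_tiW [CharP K 2] (hB0 : H8Base.{0} chevF4) (hB : H8Base.{u} chevF4) (l : List ℕ) :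
    h8Psi chevF4 (f2hom K) (h8tiW hB0 l) = ((l.map fun r => h8xU chevF4 hB r (1 : K)).prod) := by
  induction l with
  | nil =>
    show h8Psi chevF4 (f2hom K) 1 = 1
    exact map_one _
  | cons r l ih =>
    rw [h8tiW_cons, map_mul, ih, h8Psi_xU chevF4 hB0 hB, map_one, List.map_cons, List.prod_cons]

theorem nsq_mem : ∀ k < 16, ∀ r ∈ nRoots (h8ofW k), r ∈ h8tiRoots := by decide +kernel

theorem nsq_chk1 : ∀ k ∈ [1, 2], ∀ j < 52,
    h8tiAct (nRoots (h8ofW k) ++ nRoots (h8ofW k)) (2 ^ j) = h8tiAct [] (2 ^ j) := by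
  decide +kernel

theorem nsq_chk15a : ∀ j < 13,
    h8tiAct (nRoots (h8ofW 15) ++ nRoots (h8ofW 15)) (2 ^ j) = h8tiAct [] (2 ^ j) := by
  decide +kernel

theorem nsq_chk15b : ∀ j < 13,
    h8tiAct (nRoots (h8ofW 15) ++ nRoots (h8ofW 15)) (2 ^ (13 + j)) = h8tiAct [] (2 ^ (13 + j)) := by
  decide +kernel

theorem nsq_chk15c : ∀ j < 13,
    h8tiAct (nRoots (h8ofW 15) ++ nRoots (h8ofW 15)) (2 ^ (26 + j)) = h8tiAct [] (2 ^ (26 + j)) := by
  decide +kernel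

theorem nsq_chk15d : ∀ j < 13,
    h8tiAct (nRoots (h8ofW 15) ++ nRoots (h8ofW 15)) (2 ^ (39 + j)) = h8tiAct [] (2 ^ (39 + j)) := by
  decide +kernel

theorem nsq_chk15 : ∀ j < 52,
    h8tiAct (nRoots (h8ofW 15) ++ nRoots (h8ofW 15)) (2 ^ j) = h8tiAct [] (2 ^ j) := by
  intro j hj
  by_cases h1 : j < 13
  · exact nsq_chk15a j h1
  by_cases h2 : j < 26
  · have := nsq_chk15b (j - 13) (by omega)
    rwa [show 13 + (j - 13) = j by omega] at this
  by_cases h3 : j < 39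
  · have := nsq_chk15c (j - 26) (by omega)
    rwa [show 26 + (j - 26) = j by omega] at this
  · have := nsq_chk15d (j - 39) (by omega)
    rwa [show 39 + (j - 39) = j by omega] at this

theorem nsq_word (hB0 : H8Base.{0} chevF4) (k : ℕ) (hk16 : k < 16)
    (h : ∀ j < 52, h8tiAct (nRoots (h8ofW k) ++ nRoots (h8ofW k)) (2 ^ j) = h8tiAct [] (2 ^ j)) :
    (h8nWU chevF4 hB0 (h8ofW k) : GL chevF4.Idx (ZMod 2)) * h8nWU chevF4 hB0 (h8ofW k) = 1 := by
  rw [nWU_tiW, ← h8tiW_append, ← h8tiW_nil hB0]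
  apply h8tiW_eq
  · intro r hr
    rcases List.mem_append.mp hr with h | h <;> exact nsq_mem k hk16 r h
  · intro r hr
    cases hr
  · exact h

theorem nsq_pal {G : Type*} [Group G] (x y : G) (hx : x * x = 1) (hy : y * y = 1) :
    (x * y * x) * (x * y * x) = 1 := by
  calc (x * y * x) * (x * y * x) = x * y * (x * x) * y * x := by group
    _ = x * (y * y) * x := by rw [hx]; group
    _ = 1 := by rw [hy, mul_one, hx]

theorem nsq_app (hB0 : H8Base.{0} chevF4) (w1 w2 : List ℕ)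
    (h1 : (h8nWU chevF4 hB0 w1 : GL chevF4.Idx (ZMod 2)) * h8nWU chevF4 hB0 w1 = 1)
    (h2 : (h8nWU chevF4 hB0 w2 : GL chevF4.Idx (ZMod 2)) * h8nWU chevF4 hB0 w2 = 1) :
    (h8nWU chevF4 hB0 (w1 ++ w2 ++ w1) : GL chevF4.Idx (ZMod 2)) * h8nWU chevF4 hB0 (w1 ++ w2 ++ w1) = 1 := by
  rw [h8nWU_append, h8nWU_append]
  exact nsq_pal (h8nWU chevF4 hB0 w1 : GL chevF4.Idx (ZMod 2)) (h8nWU chevF4 hB0 w2) h1 h2

theorem nsq_lists : h8ofW 5 = h8ofW 1 ++ h8ofW 2 ++ h8ofW 1 ∧ h8ofW 6 = h8ofW 2 ++ h8ofW 1 ++ h8ofW 2 ∧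
    h8ofW 9 = h8ofW 1 ++ h8ofW 6 ++ h8ofW 1 ∧ h8ofW 10 = h8ofW 2 ++ h8ofW 5 ++ h8ofW 2 ∧
    h8ofW 13 = h8ofW 1 ++ h8ofW 10 ++ h8ofW 1 ∧ h8ofW 14 = h8ofW 2 ++ h8ofW 9 ++ h8ofW 2 := by decide

/-- NSQ over the prime field -/
theorem f4_nsq0 (hB0 : H8Base.{0} chevF4) (k : ℕ) (hk : k ∈ [1, 2, 5, 6, 9, 10, 13, 14, 15]) :
    (h8nWU chevF4 hB0 (h8ofW k) : GL chevF4.Idx (ZMod 2)) * h8nWU chevF4 hB0 (h8ofW k) = 1 := by
  have e1 := nsq_word hB0 1 (by norm_num) (nsq_chk1 1 (by simp))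
  have e2 := nsq_word hB0 2 (by norm_num) (nsq_chk1 2 (by simp))
  have e15 := nsq_word hB0 15 (by norm_num) nsq_chk15
  obtain ⟨l5, l6, l9, l10, l13, l14⟩ := nsq_lists
  have e5 : (h8nWU chevF4 hB0 (h8ofW 5) : GL chevF4.Idx (ZMod 2)) * h8nWU chevF4 hB0 (h8ofW 5) = 1 :=
    Eq.mpr (congrArg (fun l => (h8nWU chevF4 hB0 l : GL chevF4.Idx (ZMod 2)) * h8nWU chevF4 hB0 l = 1) l5)
      (nsq_app hB0 _ _ e1 e2)
  have e6 : (h8nWU chevF4 hB0 (h8ofW 6) : GL chevF4.Idx (ZMod 2)) * h8nWU chevF4 hB0 (h8ofW 6) = 1 :=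
    Eq.mpr (congrArg (fun l => (h8nWU chevF4 hB0 l : GL chevF4.Idx (ZMod 2)) * h8nWU chevF4 hB0 l = 1) l6)
      (nsq_app hB0 _ _ e2 e1)
  have e9 : (h8nWU chevF4 hB0 (h8ofW 9) : GL chevF4.Idx (ZMod 2)) * h8nWU chevF4 hB0 (h8ofW 9) = 1 :=
    Eq.mpr (congrArg (fun l => (h8nWU chevF4 hB0 l : GL chevF4.Idx (ZMod 2)) * h8nWU chevF4 hB0 l = 1) l9)
      (nsq_app hB0 _ _ e1 e6)
  have e10 : (h8nWU chevF4 hB0 (h8ofW 10) : GL chevF4.Idx (ZMod 2)) * h8nWU chevF4 hB0 (h8ofW 10) = 1 :=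
    Eq.mpr (congrArg (fun l => (h8nWU chevF4 hB0 l : GL chevF4.Idx (ZMod 2)) * h8nWU chevF4 hB0 l = 1) l10)
      (nsq_app hB0 _ _ e2 e5)
  have e13 : (h8nWU chevF4 hB0 (h8ofW 13) : GL chevF4.Idx (ZMod 2)) * h8nWU chevF4 hB0 (h8ofW 13) = 1 :=
    Eq.mpr (congrArg (fun l => (h8nWU chevF4 hB0 l : GL chevF4.Idx (ZMod 2)) * h8nWU chevF4 hB0 l = 1) l13)
      (nsq_app hB0 _ _ e1 e10)
  have e14 : (h8nWU chevF4 hB0 (h8ofW 14) : GL chevF4.Idx (ZMod 2)) * h8nWU chevF4 hB0 (h8ofW 14) = 1 :=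
    Eq.mpr (congrArg (fun l => (h8nWU chevF4 hB0 l : GL chevF4.Idx (ZMod 2)) * h8nWU chevF4 hB0 l = 1) l14)
      (nsq_app hB0 _ _ e2 e9)
  simp only [List.mem_cons, List.not_mem_nil, or_false] at hk
  rcases hk with rfl | rfl | rfl | rfl | rfl | rfl | rfl | rfl | rfl
  · exact e1
  · exact e2
  · exact e5
  · exact e6
  · exact e9
  · exact e10
  · exact e13
  · exact e14
  · exact e15

/-- NSQ : the representatives of the involutions of the twisted Weyl group are involutions -/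
theorem f4_nsq [CharP K 2] (hB : H8Base.{u} chevF4) (k : ℕ)
    (hk : k ∈ [1, 2, 5, 6, 9, 10, 13, 14, 15]) :
    (h8nWU chevF4 hB (h8ofW k) : GL chevF4.Idx K) * h8nWU chevF4 hB (h8ofW k) = 1 := by
  have hD : chevF4 ∈ [chevG2, chevB2, chevD4, chevF4, chevE6, chevE7, chevE8] := by simp
  have hB0 := h8base_all.{0} chevF4 hD
  rw [← Psi_nWU hB0 hB, ← map_mul, f4_nsq0 hB0 k hk, map_one]

theorem nne_chk : ∀ k ∈ [1, 2], h8tiAct (nRoots (h8ofW k)) (2 ^ 37) < 2 ^ 52 ∧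
    h8tiAct [] (2 ^ 37) < 2 ^ 52 ∧
    h8tiAct (nRoots (h8ofW k)) (2 ^ 37) ≠ h8tiAct [] (2 ^ 37) := by decide +kernel

/-- NNE : the representatives of `a` and `b` are not trivial -/
theorem f4_nne [CharP K 2] (hB : H8Base.{u} chevF4) (k : ℕ) (hk : k ∈ [1, 2]) :
    (h8nWU chevF4 hB (h8ofW k) : GL chevF4.Idx K) ≠ 1 := by
  have hD : chevF4 ∈ [chevG2, chevB2, chevD4, chevF4, chevE6, chevE7, chevE8] := by simp
  have hB0 := h8base_all.{0} chevF4 hD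
  have hk16 : k < 16 := by
    simp only [List.mem_cons, List.not_mem_nil, or_false] at hk
    omega
  intro h
  rw [← Psi_nWU hB0 hB, ← map_one (h8Psi chevF4 (f2hom K))] at h
  have h2 := h8Psi_injective chevF4 (f2hom K) h
  rw [nWU_tiW, ← h8tiW_nil hB0] at h2
  obtain ⟨c1, c2, c3⟩ := nne_chk k hk
  exact h8tiW_ne hB0 _ _ (nsq_mem k hk16) (by intro r hr; cases hr) (2 ^ 37) c1 c2 c3 h2

end Cfsg.Agent.Lib.helper8.TWIF4
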