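import Mathlib
import Cfsg.Prelude.Def_ChevStructure
import Cfsg.Agent.Lib.helper14.INV.F4Defs
import Cfsg.Agent.Lib.helper8.ChevPair
import Cfsg.Agent.Lib.helper8.ChevW0

/-!
# Project INVE7 (generic lemmas): conjugation inside `N` by a word, replaying fusion paths
-/

set_option autoImplicit false

namespace Cfsg.Agent.Lib.helper14.INV

open Cfsg.Lie Cfsg.Lie.ChevalleyDatum Cfsg.Agent.Lib.helper8 Cfsg.Agent.Lib.helper14

universe u

variable {F : Type u} [Field F]

/-- conjugating `h₀ n_w` by `n_v` gives an element of `N` acting on the roots through the word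
`v ++ w ++ v.reverse` -/
theorem conjN_act (D : ChevalleyDatum) (hB : H8Base.{u} D) (hA : H8ReflAll D) (v w : List ℕ)
    (hv : ValidW D v) (hw : ValidW D w) (h0 : GL D.Idx F) (hh : h0 ∈ D.diagonalSubgroup F) :
    (h8nWU D hB v : GL D.Idx F) * (h0 * h8nWU D hB w) * (h8nWU D hB v : GL D.Idx F)⁻¹ ∈
        D.monomialSubgroup F ∧
    ∀ r < D.nroots, H8Act D hB
      ((h8nWU D hB v : GL D.Idx F) * (h0 * h8nWU D hB w) * (h8nWU D hB v : GL D.Idx F)⁻¹) r
      (h8sW D (v ++ w ++ v.reverse) r) := by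
  have hvN := h8nWU_mem_N (F := F) D hB hA v hv
  have hwN := h8nWU_mem_N (F := F) D hB hA w hw
  have hvr : ValidW D v.reverse := fun i hi => hv i (List.mem_reverse.mp hi)
  constructor
  · exact Subgroup.mul_mem _ (Subgroup.mul_mem _ hvN (Subgroup.mul_mem _ (h8H_le_N D hh) hwN))
      (Subgroup.inv_mem _ hvN)
  · intro r hr
    have hr1 : h8sW D v.reverse r < D.nroots := h8sW_lt D hA v.reverse hvr r hr
    have hr2 : h8sW D w (h8sW D v.reverse r) < D.nroots := h8sW_lt D hA w hw _ hr1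
    -- the action of `n_v⁻¹`
    have a1 : H8Act D hB (h8nWU D hB v : GL D.Idx F)⁻¹ r (h8sW D v.reverse r) := by
      have h1 := h8nWU_act (F := F) D hB hA v hv (h8sW D v.reverse r) hr1
      rw [h8sW_reverse D hA v hv r hr] at h1
      exact h8act_inv D hB _ _ _ h1
    have a2 : H8Act D hB (h8nWU D hB w : GL D.Idx F) (h8sW D v.reverse r)
        (h8sW D w (h8sW D v.reverse r)) := h8nWU_act (F := F) D hB hA w hw _ hr1
    have a3 : H8Act D hB h0 (h8sW D w (h8sW D v.reverse r)) (h8sW D w (h8sW D v.reverse r)) :=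
      h8perm_H_id D hB h0 hh _ hr2
    have a4 : H8Act D hB (h8nWU D hB v : GL D.Idx F) (h8sW D w (h8sW D v.reverse r))
        (h8sW D v (h8sW D w (h8sW D v.reverse r))) := h8nWU_act (F := F) D hB hA v hv _ hr2
    have e : h8sW D (v ++ w ++ v.reverse) r = h8sW D v (h8sW D w (h8sW D v.reverse r)) := by
      rw [h8sW_append, h8sW_append]
    rw [e]
    exact h8act_mul D hB _ _ _ _ _ a1
      (h8act_mul D hB _ _ _ _ _ (h8act_mul D hB _ _ _ _ _ a2 a3) a4)

/-- conjugating an involution `h₀ n_w` by `n_v` gives an involution -/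
theorem conjN_sq {G : Type*} [Group G] (a y : G) (hy : y * y = 1) :
    (a * y * a⁻¹) * (a * y * a⁻¹) = 1 := by
  have : (a * y * a⁻¹) * (a * y * a⁻¹) = a * (y * y) * a⁻¹ := by group
  rw [this, hy]
  group

end Cfsg.Agent.Lib.helper14.INV
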