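import Mathlib

/-!
# Project U3 (leader helper16), piece SYMM3 (helper8)

`symm3_scalar`: a non-degenerate symmetric `3 × 3` matrix over a finite field of odd order is congruent to a
scalar matrix `μ • 1` (with `μ` = the product of the entries of a diagonalisation).  Statement verbatim from
`Helper16/U3/Skel.lean.txt`.
-/

set_option autoImplicit false
set_option linter.style.haveILetI false

namespace Cfsg.Agent.Lib.Helper16.U3

open scoped Matrix

/-- over a finite field of odd order, `a x² + b y² = c` is solvable for `a, b ≠ 0`. -/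
theorem u3symm3_repr {K : Type*} [Field K] [Fintype K] (h2 : (2 : K) ≠ 0) (a b c : K) (ha : a ≠ 0) (hb : b ≠ 0) :
    ∃ x y : K, a * x ^ 2 + b * y ^ 2 = c := by
  classical
  have hodd : Fintype.card K % 2 = 1 := by
    apply FiniteField.odd_card_of_char_ne_two
    intro h
    have : CharP K 2 := h ▸ ringChar.charP K
    exact h2 (by simpa using CharP.cast_eq_zero K 2)
  have hf : (Polynomial.C a * Polynomial.X ^ 2 - Polynomial.C c : Polynomial K).degree = 2 := by
    rw [Polynomial.degree_sub_eq_left_of_degree_lt]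
    · rw [Polynomial.degree_C_mul_X_pow 2 ha]; rfl
    · rw [Polynomial.degree_C_mul_X_pow 2 ha]
      exact lt_of_le_of_lt Polynomial.degree_C_le (by decide)
  have hg : (Polynomial.C b * Polynomial.X ^ 2 : Polynomial K).degree = 2 := by
    rw [Polynomial.degree_C_mul_X_pow 2 hb]; rfl
  obtain ⟨x, y, hxy⟩ := FiniteField.exists_root_sum_quadratic hf hg hodd
  refine ⟨x, y, ?_⟩
  simp at hxy
  linear_combination hxy

/-- the diagonal case, with `μ = a b c`. -/
theorem u3symm3_diag {K : Type*} [Field K] [Fintype K] (h2 : (2 : K) ≠ 0) (a b c : K) (ha : a ≠ 0) (hb : b ≠ 0) (hc : c ≠ 0) :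
    ∃ (A : Matrix (Fin 3) (Fin 3) K), Aᵀ * Matrix.diagonal ![a, b, c] * A = (a * b * c) • (1 : Matrix (Fin 3) (Fin 3) K) := by
  set μ := a * b * c with hμ
  have hμ0 : μ ≠ 0 := mul_ne_zero (mul_ne_zero ha hb) hc
  obtain ⟨x, y, hxy⟩ := u3symm3_repr h2 a b μ ha hb
  obtain ⟨s, t, hst⟩ := u3symm3_repr h2 (a * b * μ) c μ (mul_ne_zero (mul_ne_zero ha hb) hμ0) hc
  refine ⟨!![x, -b * y * s, b * c * y * t / μ; y, a * x * s, -a * c * x * t / μ; 0, t, a * b * μ * s / μ], ?_⟩
  ext i j
  fin_cases i <;> fin_cases j <;>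
    simp [Matrix.mul_apply, Fin.sum_univ_three, Matrix.diagonal] <;> field_simp
  all_goals first
    | ring1
    | linear_combination hxy
    | linear_combination (a * b * s ^ 2) * hxy + hst
    | linear_combination (-(b * s * a * c * t)) * hxy
    | linear_combination (a * b * c * c * t ^ 2) * hxy + (a * b * c * μ) * hst - μ ^ 2 * hμ

/-- SYMM3 : a non-degenerate symmetric matrix of size 3 over a finite field of odd order is congruent to a scalar matrix. -/
theorem symm3_scalar {K : Type*} [Field K] [Finite K] (h2 : (2 : K) ≠ 0) (G : Matrix (Fin 3) (Fin 3) K)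
    (hG : Gᵀ = G) (hdet : G.det ≠ 0) :
    ∃ (A : Matrix (Fin 3) (Fin 3) K) (μ : K), A.det ≠ 0 ∧ μ ≠ 0 ∧ Aᵀ * G * A = μ • (1 : Matrix (Fin 3) (Fin 3) K) := by
  classical
  haveI := Fintype.ofFinite K
  haveI : Invertible (2 : K) := invertibleOfNonzero h2
  have hGs : ∀ i j, G i j = G j i := fun i j => by
    have := congrFun (congrFun hG j) i
    simpa [Matrix.transpose_apply] using this
  have hB : LinearMap.IsSymm (Matrix.toBilin' G) := by
    refine ⟨fun x y => ?_⟩
    simp only [Matrix.toBilin'_apply, RingHom.id_apply]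
    rw [Finset.sum_comm]
    refine Finset.sum_congr rfl fun i _ => Finset.sum_congr rfl fun j _ => ?_
    rw [hGs j i]; ring
  obtain ⟨v, hv⟩ := LinearMap.BilinForm.exists_orthogonal_basis hB
  have hfr : Module.finrank K (Fin 3 → K) = 3 := by simp
  let b : Module.Basis (Fin 3) K (Fin 3 → K) := v.reindex (finCongr hfr)
  have hb : ∀ i j : Fin 3, i ≠ j → Matrix.toBilin' G (b i) (b j) = 0 := by
    intro i j hij
    have := LinearMap.isOrthoᵢ_def.1 hv ((finCongr hfr).symm i) ((finCongr hfr).symm j)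
      (fun h => hij ((finCongr hfr).symm.injective h))
    simpa [b] using this
  let P : Matrix (Fin 3) (Fin 3) K := (Pi.basisFun K (Fin 3)).toMatrix b
  have hPdet : P.det ≠ 0 := by
    haveI : Invertible P := Module.Basis.invertibleToMatrix _ _
    exact (Matrix.isUnit_det_of_invertible P).ne_zero
  have hPe : ∀ i j, P i j = b j i := fun i j => by simp [P, Module.Basis.toMatrix_apply]
  have hD : ∀ i j, (Pᵀ * G * P) i j = Matrix.toBilin' G (b i) (b j) := by
    intro i j
    simp only [Matrix.toBilin'_apply, Matrix.mul_apply, Matrix.transpose_apply, hPe, Finset.sum_mul]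
    rw [Finset.sum_comm]
  set D := Pᵀ * G * P with hDdef
  have hDdiag : D = Matrix.diagonal ![D 0 0, D 1 1, D 2 2] := by
    ext i j
    by_cases hij : i = j
    · subst hij; fin_cases i <;> simp [Matrix.diagonal]
    · rw [hD i j, hb i j hij, Matrix.diagonal_apply_ne _ hij]
  have hDdet : D.det = D 0 0 * D 1 1 * D 2 2 := by
    conv_lhs => rw [hDdiag]
    rw [Matrix.det_diagonal]; simp [Fin.prod_univ_three]
  have hDdet' : D.det ≠ 0 := by
    rw [hDdef, Matrix.det_mul, Matrix.det_mul, Matrix.det_transpose]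
    exact mul_ne_zero (mul_ne_zero hPdet hdet) hPdet
  rw [hDdet] at hDdet'
  have ha : D 0 0 ≠ 0 := fun h => hDdet' (by rw [h]; ring)
  have hb' : D 1 1 ≠ 0 := fun h => hDdet' (by rw [h]; ring)
  have hc : D 2 2 ≠ 0 := fun h => hDdet' (by rw [h]; ring)
  obtain ⟨A', hA'⟩ := u3symm3_diag h2 (D 0 0) (D 1 1) (D 2 2) ha hb' hc
  have hmain : (P * A')ᵀ * G * (P * A') = (D 0 0 * D 1 1 * D 2 2) • (1 : Matrix (Fin 3) (Fin 3) K) := by
    rw [← hA', ← hDdiag, hDdef, Matrix.transpose_mul]
    simp only [Matrix.mul_assoc]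
  refine ⟨P * A', D 0 0 * D 1 1 * D 2 2, ?_, hDdet', hmain⟩
  intro h0
  have := congrArg Matrix.det hmain
  rw [Matrix.det_mul, Matrix.det_mul, Matrix.det_transpose, h0, Matrix.det_smul, Matrix.det_one] at this
  simp at this
  exact hDdet' (pow_eq_zero_iff (by norm_num) |>.1 this.symm)

end Cfsg.Agent.Lib.Helper16.U3
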