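import Mathlib
import Cfsg.Prelude.Def_ChevStructure
import Cfsg.Agent.Lib.helper8.ChevSLh
import Cfsg.Agent.Lib.helper8.ChevRefl

set_option autoImplicit false

namespace Cfsg.Agent.Lib.helper8

open Cfsg.Lie Cfsg.Lie.ChevalleyDatum

variable {F : Type*} [Field F]

def h8simpleChkSL (D : ChevalleyDatum) : Bool :=
  (List.range D.rank).all fun i => decide (D.simple i < D.nroots) &&
    (List.range D.nroots).all fun s => decide (h8hexpR D (D.simple i) s = D.cartan i s)

theorem h8simpleChkSL_spec (D : ChevalleyDatum) (h : h8simpleChkSL D = true) (i : ℕ) (hi : i < D.rank) :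
    D.simple i < D.nroots ∧ ∀ s < D.nroots, h8hexpR D (D.simple i) s = D.cartan i s := by
  unfold h8simpleChkSL at h
  simp only [List.all_eq_true, List.mem_range, Bool.and_eq_true, decide_eq_true_eq] at h
  exact h i hi

theorem h8hMat_simple_SL (D : ChevalleyDatum) (hD : H8SL D) (hS : h8simpleChkSL D = true) (i : ℕ)
    (hi : i < D.rank) (c : F) (hc : c ≠ 0) :
    D.hMat F (D.simple i) c =
      Matrix.diagonal (Sum.elim (fun _ => (1 : F)) (fun s : Fin D.nroots => c ^ (D.cartan i s))) := by
  obtain ⟨h1, h2⟩ := h8simpleChkSL_spec D hS i hi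
  rw [h8hMat_diag D hD (D.simple i) h1 c hc]
  congr 1
  funext idx
  rcases idx with j | s
  · show c ^ (0 : ℤ) = 1
    rw [zpow_zero]
  · show c ^ (h8hexpR D (D.simple i) s.val) = c ^ (D.cartan i s.val)
    rw [h2 s.val s.2]

def h8simpleChkRefl (D : ChevalleyDatum) : Bool :=
  (List.range D.rank).all fun i => decide (D.simple i < D.nroots) &&
    (List.range (D.rank + D.nroots)).all fun c =>
      decide (h8diagExp (h8hCol D (D.simple i) c) c =
        some (if c < D.rank then 0 else D.cartan i (c - D.rank)))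

theorem h8hMat_simple_refl (D : ChevalleyDatum) (hD : h8hDiagChk D = true)
    (hS : h8simpleChkRefl D = true) (i : ℕ)
    (hi : i < D.rank) (c : F) (hc : c ≠ 0) :
    D.hMat F (D.simple i) c =
      Matrix.diagonal (Sum.elim (fun _ => (1 : F)) (fun s : Fin D.nroots => c ^ (D.cartan i s))) := by
  unfold h8simpleChkRefl at hS
  simp only [List.all_eq_true, List.mem_range, Bool.and_eq_true, decide_eq_true_eq] at hS
  obtain ⟨h1, h2⟩ := hS i hi
  rw [h8hMat_diag_refl D hD (D.simple i) h1 c hc]
  congr 1
  funext idx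
  have := h2 (h8code D idx) (h8code_lt D idx)
  unfold h8hexpRefl
  rw [this]
  rcases idx with j | s
  · have : h8code D (Sum.inl j) < D.rank := j.2
    rw [if_pos this]
    show c ^ (0 : ℤ) = 1
    rw [zpow_zero]
  · have h3 : ¬ h8code D (Sum.inr s) < D.rank := by
      show ¬ D.rank + s.val < D.rank
      omega
    have h4 : h8code D (Sum.inr s) - D.rank = s.val := by
      show D.rank + s.val - D.rank = s.val
      omega
    rw [if_neg h3, h4]
    rfl

end Cfsg.Agent.Lib.helper8
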