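import Mathlib
import Cfsg.Prelude.Def_LieExceptional
import Cfsg.Agent.Lib.helper8.H3BNLen
import Cfsg.Agent.Lib.helper8.H3BNSimple
import Cfsg.Agent.Lib.helper8.SylowConj

set_option autoImplicit false

namespace Cfsg.Agent.Lib.helper8

open Subgroup

/-- image of a subgroup under an isomorphism followed by an inner automorphism -/
theorem h8au_map_trans {Γ : Type*} [Group Γ] (K : Subgroup Γ) (θ : Γ ≃* Γ) (x : Γ) :
    K.map (θ.trans (MulAut.conj x)).toMonoidHom =
      (K.map θ.toMonoidHom).map (MulAut.conj x).toMonoidHom := by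
  rw [Subgroup.map_map]
  rfl

theorem h8au_map_conj_conj {Γ : Type*} [Group Γ] (K : Subgroup Γ) (x y : Γ) :
    (K.map (MulAut.conj y).toMonoidHom).map (MulAut.conj x).toMonoidHom =
      K.map (MulAut.conj (x * y)).toMonoidHom := by
  rw [Subgroup.map_map]
  congr 1
  ext z
  simp [mul_assoc]

theorem h8au_map_conj_one {Γ : Type*} [Group Γ] (K : Subgroup Γ) :
    K.map (MulAut.conj (1 : Γ)).toMonoidHom = K := by
  ext z
  simp

theorem h8au_map_conj_mem {Γ : Type*} [Group Γ] (K : Subgroup Γ) (x : Γ) (hx : x ∈ K) :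
    K.map (MulAut.conj x).toMonoidHom = K := by
  ext z
  rw [Subgroup.mem_map]
  constructor
  · rintro ⟨y, hy, rfl⟩
    exact K.mul_mem (K.mul_mem hx hy) (K.inv_mem hx)
  · intro hz
    refine ⟨x⁻¹ * z * x, K.mul_mem (K.mul_mem (K.inv_mem hx) hz) hx, ?_⟩
    simp [mul_assoc]

/-- a Sylow subgroup is moved back to itself by an inner automorphism -/
theorem h8au_sylow_back {Γ : Type*} [Group Γ] [Finite Γ] (p : ℕ) [Fact p.Prime] (U W : Subgroup Γ)
    (hU : Nat.card U = p ^ (Nat.card Γ).factorization p) (hW : Nat.card W = Nat.card U) :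
    ∃ y : Γ, W = U.map (MulAut.conj y).toMonoidHom := by
  let S : Sylow p Γ := Sylow.ofCard U hU
  let S' : Sylow p Γ := Sylow.ofCard W (hW.trans hU)
  obtain ⟨y, hy⟩ := MulAction.exists_smul_eq Γ S S'
  refine ⟨y, ?_⟩
  have h1 : ((y • S : Sylow p Γ) : Subgroup Γ) = (S' : Subgroup Γ) := by rw [hy]
  have h2 : (S' : Subgroup Γ) = W := rfl
  have h3 : (S : Subgroup Γ) = U := rfl
  rw [← h2, ← h1]
  ext z
  rw [h8_mem_smul_sylow, h3, Subgroup.mem_map]
  constructor
  · intro h
    exact ⟨_, h, by simp [mul_assoc]⟩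
  · rintro ⟨w, hw, rfl⟩
    have : y⁻¹ * (MulAut.conj y).toMonoidHom w * y = w := by simp [mul_assoc]
    rw [this]
    exact hw

/-- Normalising an automorphism so that it fixes `U` and `V`. -/
theorem h8au_normalize {Γ : Type*} [Group Γ] [Finite Γ] (p : ℕ) [Fact p.Prime] (U V : Subgroup Γ)
    (hU : Nat.card U = p ^ (Nat.card Γ).factorization p) (hV : Nat.card V = Nat.card U)
    (hUV : U ⊓ V = ⊥)
    (hd : ∀ z : Γ, U.map (MulAut.conj z).toMonoidHom ⊓ U = ⊥ →
      ∃ u ∈ U, U.map (MulAut.conj z).toMonoidHom = V.map (MulAut.conj u).toMonoidHom)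
    (θ : Γ ≃* Γ) :
    ∃ x : Γ, U.map (θ.trans (MulAut.conj x)).toMonoidHom = U ∧
      V.map (θ.trans (MulAut.conj x)).toMonoidHom = V := by
  have hcU : Nat.card (U.map θ.toMonoidHom) = Nat.card U :=
    Subgroup.card_map_of_injective θ.injective
  obtain ⟨y, hy⟩ := h8au_sylow_back p U (U.map θ.toMonoidHom) hU hcU
  -- θ₁ = conj y⁻¹ ∘ θ fixes U
  have h1U : U.map (θ.trans (MulAut.conj y⁻¹)).toMonoidHom = U := by
    rw [h8au_map_trans, hy, h8au_map_conj_conj, inv_mul_cancel, h8au_map_conj_one]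
  set θ₁ := θ.trans (MulAut.conj y⁻¹) with hθ₁
  have hcV : Nat.card (V.map θ₁.toMonoidHom) = Nat.card U := by
    rw [Subgroup.card_map_of_injective θ₁.injective, hV]
  obtain ⟨z, hz⟩ := h8au_sylow_back p U (V.map θ₁.toMonoidHom) hU hcV
  have hinf : U.map (MulAut.conj z).toMonoidHom ⊓ U = ⊥ := by
    rw [← hz, eq_bot_iff]
    intro w hw
    rw [Subgroup.mem_inf] at hw
    obtain ⟨⟨v, hv, rfl⟩, hw2⟩ := hw
    rw [← h1U] at hw2
    obtain ⟨u, hu, huv⟩ := hw2
    have : u = v := θ₁.injective huv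
    subst this
    have : u ∈ U ⊓ V := ⟨hu, hv⟩
    rw [hUV, Subgroup.mem_bot] at this
    rw [this, map_one]
    exact Subgroup.one_mem _
  obtain ⟨u, hu, huV⟩ := hd z hinf
  refine ⟨u⁻¹ * y⁻¹, ?_, ?_⟩
  · have e : θ.trans (MulAut.conj (u⁻¹ * y⁻¹)) = θ₁.trans (MulAut.conj u⁻¹) := by
      ext w
      simp [hθ₁, mul_assoc]
    rw [e, h8au_map_trans, h1U]
    exact h8au_map_conj_mem U _ (U.inv_mem hu)
  · have e : θ.trans (MulAut.conj (u⁻¹ * y⁻¹)) = θ₁.trans (MulAut.conj u⁻¹) := by
      ext w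
      simp [hθ₁, mul_assoc]
    rw [e, h8au_map_trans, hz, huV, h8au_map_conj_conj, inv_mul_cancel, h8au_map_conj_one]

end Cfsg.Agent.Lib.helper8

namespace Cfsg.Agent.Lib.helper8.H3

variable {G : Type*} [Group G] (P : Cfsg.BNPair G)

theorem parabolic_singleton_ne_B {s : G} (hs : s ∈ P.S) : P.parabolic {s} ≠ P.B := by
  intro h
  apply S_not_mem_B (P := P) hs
  rw [← h]
  exact (le_sup_right : Subgroup.closure {s} ≤ P.parabolic {s})
    (Subgroup.subset_closure rfl)

/-- an overgroup of `B` other than `B` contains a distinguished generator -/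
theorem exists_S_mem_of_ne {M : Subgroup G} (hM : P.B ≤ M) (hne : M ≠ P.B) :
    ∃ t ∈ P.S, t ∈ M := by
  by_contra hcon
  push Not at hcon
  apply hne
  rw [eq_parabolic_of_le (P := P) hM]
  have : {s | s ∈ P.S ∧ s ∈ M} = (∅ : Set G) := by
    ext s
    simp only [Set.mem_ofPred_eq, Set.mem_empty_iff_false, iff_false, not_and]
    exact hcon s
  rw [this, parabolic_empty]

/-- a subgroup between `B` and `P_s` is `B` or `P_s` -/
theorem eq_of_le_singleton {M : Subgroup G} (hM : P.B ≤ M) {s : G} (hs : s ∈ P.S)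
    (hle : M ≤ P.parabolic {s}) (hne : M ≠ P.B) : M = P.parabolic {s} := by
  obtain ⟨t, ht, htM⟩ := exists_S_mem_of_ne P hM hne
  have hts : t ∈ ({s} : Set G) :=
    mem_of_mem_parabolic (P := P) (Set.singleton_subset_iff.2 hs) ht (hle htM)
  rw [Set.mem_singleton_iff] at hts
  subst hts
  apply le_antisymm hle
  apply sup_le hM
  rw [Subgroup.closure_le]
  intro x hx
  rw [Set.mem_singleton_iff] at hx
  rw [hx]
  exact htM

/-- an automorphism fixing `B` permutes the minimal parabolic subgroups -/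
theorem aut_parabolic_singleton (θ : G ≃* G) (hθ : P.B.map θ.toMonoidHom = P.B) {s : G}
    (hs : s ∈ P.S) : ∃ s' ∈ P.S, (P.parabolic {s}).map θ.toMonoidHom = P.parabolic {s'} := by
  have hθ' : P.B.map θ.symm.toMonoidHom = P.B := by
    conv_lhs => rw [← hθ]
    rw [Subgroup.map_map]
    ext z
    simp
  set M := (P.parabolic {s}).map θ.toMonoidHom with hMdef
  have hBM : P.B ≤ M := by
    rw [← hθ]
    exact Subgroup.map_mono le_sup_left
  have hMne : M ≠ P.B := by
    intro h
    apply parabolic_singleton_ne_B P hs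
    have h2 : (P.parabolic {s}).map θ.toMonoidHom = P.B.map θ.toMonoidHom := by
      rw [hθ]; exact h
    exact Subgroup.map_injective θ.injective h2
  obtain ⟨t, ht, htM⟩ := exists_S_mem_of_ne P hBM hMne
  refine ⟨t, ht, ?_⟩
  have hPt : P.parabolic {t} ≤ M := by
    apply sup_le hBM
    rw [Subgroup.closure_le]
    intro x hx
    rw [Set.mem_singleton_iff] at hx
    rw [hx]
    exact htM
  set M' := (P.parabolic {t}).map θ.symm.toMonoidHom with hM'def
  have hBM' : P.B ≤ M' := by
    rw [← hθ']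
    exact Subgroup.map_mono le_sup_left
  have hM'le : M' ≤ P.parabolic {s} := by
    have : M' ≤ M.map θ.symm.toMonoidHom := Subgroup.map_mono hPt
    refine le_trans this ?_
    rw [hMdef, Subgroup.map_map]
    intro z hz
    obtain ⟨w, hw, rfl⟩ := hz
    simpa using hw
  have hM'ne : M' ≠ P.B := by
    intro h
    apply parabolic_singleton_ne_B P ht
    have h2 : (P.parabolic {t}).map θ.symm.toMonoidHom = P.B.map θ.symm.toMonoidHom := by
      rw [hθ']; exact h
    exact Subgroup.map_injective θ.symm.injective h2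
  have hM'eq := eq_of_le_singleton P hBM' hs hM'le hM'ne
  -- apply θ
  have : M'.map θ.toMonoidHom = P.parabolic {t} := by
    rw [hM'def, Subgroup.map_map]
    ext z
    simp
  rw [← this, hM'eq]

end Cfsg.Agent.Lib.helper8.H3
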