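import Mathlib
import Cfsg.Prelude.Def_ChevStructure
import Cfsg.Agent.Lib.helper8.ChevCnt6
import Cfsg.Agent.Lib.helper8.ChevFix4
import Cfsg.Agent.Lib.helper8.ChevBaseAll
import Cfsg.Agent.Lib.helper8.ChevReflAll
import Cfsg.Agent.Lib.helper8.ChevCommAll
import Cfsg.Agent.Lib.helper8.ChevBNAll
import Cfsg.Agent.Lib.helper8.ChevBNAll2
import Cfsg.Agent.Lib.helper8.ChevOrdAll
import Cfsg.Agent.Lib.helper8.ChevAU1

set_option autoImplicit false

namespace Cfsg.Agent.Lib.helper8

open Cfsg.Lie Cfsg.Lie.ChevalleyDatum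

universe u

variable {F : Type u} [Field F]

theorem h8au_gen_eq (D : ChevalleyDatum) (hB : H8Base.{u} D) (g : GL D.Idx F) (r : ℕ) (t : F)
    (hg : (g : Matrix D.Idx D.Idx F) = D.x F r t) : g = h8xU D hB r t :=
  Units.ext (by rw [hg, h8xU_val])

theorem h8au_xU_ne_one (D : ChevalleyDatum) (hB : H8Base.{u} D) (hA : H8ReflAll D)
    (hW : H8BN2 D) (r : ℕ) (hr : r < D.nroots) (c : F) (hc : c ≠ 0) : h8xU D hB r c ≠ 1 := by
  intro h
  apply hc
  apply h8xU_inj_t D hB hA hW r hr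
  rw [h, h8xU_zero]

/-- an element of `N` either sends every positive root to a negative one or
    `n U n⁻¹` meets `U` -/
theorem h8au_N_conj_U (D : ChevalleyDatum) (hB : H8Base.{u} D) (hA : H8ReflAll D)
    (hBN : H8BN D) (hW : H8BN2 D) (m : GL D.Idx F) (hm : m ∈ D.monomialSubgroup F)
    (h : (D.posUnipotent F).map (MulAut.conj m).toMonoidHom ⊓ D.posUnipotent F = ⊥) :
    (D.posUnipotent F).map (MulAut.conj m).toMonoidHom ≤ D.negUnipotent F := by
  obtain ⟨dep, par, horb⟩ := hBN.orb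
  obtain ⟨σ, τ, a1, a2, a3, a4, a5, a6, a7⟩ := h8perm_N D hB hA dep par horb m hm
  have key : ∀ r, D.IsPosRoot r → D.IsNegRoot (σ r) := by
    intro r hr
    rcases hB.posneg (σ r) (a1 r hr.1) with hp | hn
    · exfalso
      obtain ⟨c, hc, hact⟩ := a7 r hr.1
      have h1 : h8xU D hB (σ r) (c * 1) ∈
          (D.posUnipotent F).map (MulAut.conj m).toMonoidHom ⊓ D.posUnipotent F := by
        refine ⟨⟨h8xU D hB r 1, h8xU_mem_U D hB r hr 1, ?_⟩, h8xU_mem_U D hB _ hp _⟩
        rw [← hact 1]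
        rfl
      rw [h, Subgroup.mem_bot] at h1
      exact h8au_xU_ne_one D hB hA hW (σ r) (a1 r hr.1) (c * 1) (by simpa using hc) h1
    · exact hn
  conv_lhs => unfold ChevalleyDatum.posUnipotent
  rw [MonoidHom.map_closure, Subgroup.closure_le]
  rintro g ⟨g0, ⟨r, t, hr, hg0⟩, rfl⟩
  obtain ⟨c, hc, hact⟩ := a7 r hr.1
  have e : g0 = h8xU D hB r t := h8au_gen_eq D hB g0 r t hg0
  have : (MulAut.conj m).toMonoidHom g0 = h8xU D hB (σ r) (c * t) := by
    rw [e, ← hact t]
    rfl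
  rw [this]
  exact h8xU_mem_V D hB _ (key r hr) _

theorem h8au_card_V [Finite F] (D : ChevalleyDatum) (hB : H8Base.{u} D) (hA : H8ReflAll D)
    (hW : H8BN2 D) : Nat.card (D.negUnipotent F) = Nat.card (D.posUnipotent F) := by
  obtain ⟨w, hw⟩ := hW.w0
  rw [← h8_conj_U_eq_V (F := F) D hB hA w hw]
  exact Subgroup.card_map_of_injective (MulAut.conj _).injective

/-- the Bruhat analysis: a conjugate of `U` meeting `U` trivially is a `U`-conjugate of `V` -/
theorem h8au_d [Finite F] (D : ChevalleyDatum)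
    (hD : D ∈ [chevG2, chevB2, chevD4, chevF4, chevE6, chevE7, chevE8])
    (z : GL D.Idx F) (hz : z ∈ D.group F)
    (h : (D.posUnipotent F).map (MulAut.conj z).toMonoidHom ⊓ D.posUnipotent F = ⊥) :
    ∃ u ∈ D.posUnipotent F, (D.posUnipotent F).map (MulAut.conj z).toMonoidHom =
      (D.negUnipotent F).map (MulAut.conj u).toMonoidHom := by
  have hB := h8base_all.{u} D hD
  have hA := h8reflAll D hD
  have hC := h8commAll.{u} D hD
  have hBN := h8bn_all D hD
  have hW := h8bn2_all D hD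
  obtain ⟨hO, hO2⟩ := h8ord_all D hD
  obtain ⟨dep, par, horb⟩ := hBN.orb
  obtain ⟨b, hb, n, hn, u', hu', rfl⟩ := h8normal_exists D hB hA hC hBN hW hO z hz
  have hu'U : u' ∈ D.posUnipotent F := h8Um_le_U D n hu'
  have hmemB : b ∈ ((D.posUnipotent F ⊔ D.diagonalSubgroup F : Subgroup (GL D.Idx F)) :
      Set (GL D.Idx F)) := hb
  rw [Subgroup.coe_mul_of_right_le_normalizer_left _ _ (h8_H_le_normalizer_U D hB)] at hmemB
  obtain ⟨u, hu, t, ht, rfl⟩ := hmemB
  have htN : t ∈ D.monomialSubgroup F := by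
    unfold ChevalleyDatum.monomialSubgroup
    exact Subgroup.mem_sup_left ht
  have hm : t * n ∈ D.monomialSubgroup F := Subgroup.mul_mem _ htN hn
  have e1 : (D.posUnipotent F).map (MulAut.conj (u * t * n * u')).toMonoidHom =
      ((D.posUnipotent F).map (MulAut.conj (t * n)).toMonoidHom).map
        (MulAut.conj u).toMonoidHom := by
    have : u * t * n * u' = u * ((t * n) * u') := by group
    rw [this, ← h8au_map_conj_conj, ← h8au_map_conj_conj,
      h8au_map_conj_mem (D.posUnipotent F) u' hu'U]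
  rw [e1] at h ⊢
  have h2 : (D.posUnipotent F).map (MulAut.conj (t * n)).toMonoidHom ⊓ D.posUnipotent F = ⊥ := by
    rw [eq_bot_iff]
    intro w hw
    rw [Subgroup.mem_inf] at hw
    have : u * w * u⁻¹ ∈ ((D.posUnipotent F).map (MulAut.conj (t * n)).toMonoidHom).map
        (MulAut.conj u).toMonoidHom ⊓ D.posUnipotent F := by
      refine ⟨⟨w, hw.1, rfl⟩, ?_⟩
      exact Subgroup.mul_mem _ (Subgroup.mul_mem _ hu hw.2) (Subgroup.inv_mem _ hu)
    rw [h, Subgroup.mem_bot] at this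
    rw [Subgroup.mem_bot]
    have : w = u⁻¹ * (u * w * u⁻¹) * u := by group
    rw [this, ‹u * w * u⁻¹ = 1›]
    group
  have h3 := h8au_N_conj_U D hB hA hBN hW (t * n) hm h2
  have h4 : (D.posUnipotent F).map (MulAut.conj (t * n)).toMonoidHom = D.negUnipotent F := by
    apply Subgroup.eq_of_le_of_card_ge h3
    rw [h8au_card_V D hB hA hW, Subgroup.card_map_of_injective (MulAut.conj _).injective]
  exact ⟨u, hu, by rw [h4]⟩

end Cfsg.Agent.Lib.helper8
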