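import Mathlib
import Cfsg.Agent.Lib.Helper18.OPE.Defs
import Cfsg.Agent.Lib.Helper16.OStd
import Cfsg.Agent.Lib.Helper16.OHelp
import Cfsg.Agent.Lib.Helper16.PlusFam

set_option autoImplicit false

/-!
# Project OPE (designer helper18), row QPLANEEX, part a (helper8): planes from isometric embeddings / pairs of vectors
-/

namespace Cfsg.Agent.Lib.Helper18.OPE

open Polynomial Module Cfsg.Agent.Lib.Helper13.S5955 Cfsg.Agent.Lib.helper15.S5972

/-- an isometric embedding of a nondegenerate standard plane of type `s` into `N` gives a nondegenerate plane of type `s` -/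
theorem opeqplaneex_embed {F : Type*} [Field F] [Fintype F]
    {V : Type*} [AddCommGroup V] [Module F V] [FiniteDimensional F V]
    (Q : QuadraticForm F V) (N : Submodule F V) {κ : Type} [Fintype κ] [DecidableEq κ]
    (Q₂ : QuadraticForm F (κ → F)) (hnd : (QuadraticMap.polarBilin Q₂).Nondegenerate)
    (hκ : Fintype.card κ = 2) (s : ℤ) (hs : Cfsg.Agent.Lib.Helper16.OSemi.IsType (⇑Q₂) 1 s)
    (T : (κ → F) →ₗ[F] V) (hT : ∀ w, T w ∈ N) (hQ : ∀ w, Q (T w) = Q₂ w) :
    ∃ P : Submodule F V, P ≤ N ∧ SND (QuadraticMap.polarBilin Q) P ∧ finrank F P = 2 ∧ QTy Q P s := by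
  have hpol : ∀ a b, QuadraticMap.polar (⇑Q) (T a) (T b) = QuadraticMap.polar (⇑Q₂) a b := by
    intro a b
    unfold QuadraticMap.polar
    rw [← map_add, hQ, hQ, hQ]
  have hinj : Function.Injective T := by
    rw [← LinearMap.ker_eq_bot, LinearMap.ker_eq_bot']
    intro a ha
    apply hnd.1 a
    intro b
    rw [QuadraticMap.polarBilin_apply_apply, ← hpol, ha]
    unfold QuadraticMap.polar
    rw [zero_add, map_zero]
    ring
  have hdim : finrank F (LinearMap.range T) = 2 := by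
    rw [LinearMap.finrank_range_of_inj hinj, Module.finrank_fintype_fun_eq_card, hκ]
  refine ⟨LinearMap.range T, ?_, ?_, hdim, ?_⟩
  · rintro _ ⟨w, rfl⟩
    exact hT w
  · rintro _ ⟨a, rfl⟩ hall
    have : a = 0 := by
      apply hnd.1 a
      intro b
      rw [QuadraticMap.polarBilin_apply_apply, ← hpol]
      exact hall (T b) ⟨b, rfl⟩
    rw [this, map_zero]
  · unfold QTy
    rw [hdim]
    have e := LinearEquiv.ofInjective T hinj
    refine (Cfsg.Agent.Lib.Helper16.OSemi.isType_congr (LinearEquiv.ofInjective T hinj).toEquiv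
      (fun w : ↥(LinearMap.range T) => Q (w : V)) (⇑Q₂) ?_ 1 s).mpr hs
    intro w
    show Q ((LinearEquiv.ofInjective T hinj w : ↥(LinearMap.range T)) : V) = Q₂ w
    rw [LinearEquiv.ofInjective_apply]
    exact hQ w

/-- the value of `Q` on a combination of two vectors -/
theorem opeqplaneex_comb {F : Type*} [Field F] {V : Type*} [AddCommGroup V] [Module F V]
    (Q : QuadraticForm F V) (a b : V) (x y : F) :
    Q (x • a + y • b) = x ^ 2 * Q a + x * y * QuadraticMap.polar (⇑Q) a b + y ^ 2 * Q b := by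
  have h1 : Q (x • a + y • b) = Q (x • a) + Q (y • b) + QuadraticMap.polar (⇑Q) (x • a) (y • b) := by
    unfold QuadraticMap.polar
    ring
  rw [h1, QuadraticMap.map_smul, QuadraticMap.map_smul, QuadraticMap.polar_smul_left,
    QuadraticMap.polar_smul_right]
  simp only [smul_eq_mul]
  ring

/-- a hyperbolic pair in `N` spans a nondegenerate plane of type `1` -/
theorem opeqplaneex_hyp {F : Type*} [Field F] [Fintype F]
    {V : Type*} [AddCommGroup V] [Module F V] [FiniteDimensional F V]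
    (Q : QuadraticForm F V) (N : Submodule F V) (a b : V) (ha : a ∈ N) (hb : b ∈ N)
    (hQa : Q a = 0) (hQb : Q b = 0) (hab : QuadraticMap.polar (⇑Q) a b = 1) :
    ∃ P : Submodule F V, P ≤ N ∧ SND (QuadraticMap.polarBilin Q) P ∧ finrank F P = 2 ∧ QTy Q P 1 := by
  let T : (Fin 1 ⊕ Fin 1 → F) →ₗ[F] V :=
    (LinearMap.proj (Sum.inl 0)).smulRight a + (LinearMap.proj (Sum.inr 0)).smulRight b
  have hTapp : ∀ w, T w = w (Sum.inl 0) • a + w (Sum.inr 0) • b := fun w => rfl
  refine opeqplaneex_embed Q N (Cfsg.Agent.Lib.Helper16.qfPlus 1 F)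
    (Cfsg.Agent.Lib.Helper16.qfPlus_nondeg 1 F) (by simp) 1
    (Cfsg.Agent.Lib.Helper16.OSemi.isType_plus 1) T ?_ ?_
  · intro w
    rw [hTapp]
    exact N.add_mem (N.smul_mem _ ha) (N.smul_mem _ hb)
  · intro w
    rw [hTapp, opeqplaneex_comb, hQa, hQb, hab]
    show _ = Cfsg.quadFormPlus 1 F w
    unfold Cfsg.quadFormPlus
    simp

/-- an elliptic pair in `N` spans a nondegenerate plane of type `-1` -/
theorem opeqplaneex_ell {F : Type*} [Field F] [Fintype F]
    {V : Type*} [AddCommGroup V] [Module F V] [FiniteDimensional F V]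
    (Q : QuadraticForm F V) (N : Submodule F V) (a b : V) (ha : a ∈ N) (hb : b ∈ N) (ζ : F)
    (hζ : ∀ t : F, t ^ 2 + t + ζ ≠ 0)
    (hQa : Q a = 1) (hQb : Q b = ζ) (hab : QuadraticMap.polar (⇑Q) a b = 1) :
    ∃ P : Submodule F V, P ≤ N ∧ SND (QuadraticMap.polarBilin Q) P ∧ finrank F P = 2 ∧
      QTy Q P (-1) := by
  let T : ((Fin 0 ⊕ Fin 0) ⊕ Fin 2 → F) →ₗ[F] V :=
    (LinearMap.proj (Sum.inr 0)).smulRight a + (LinearMap.proj (Sum.inr 1)).smulRight b
  have hTapp : ∀ w, T w = w (Sum.inr 0) • a + w (Sum.inr 1) • b := fun w => rfl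
  have haniso := Cfsg.Agent.Lib.Helper16.OSemi.aniso_of_irred ζ hζ
  refine opeqplaneex_embed Q N (Cfsg.Agent.Lib.Helper16.qfMinus 0 F 1 ζ)
    (Cfsg.Agent.Lib.Helper16.OSemi.qfMinus_nondeg 0 1 ζ haniso) (by simp) (-1)
    (Cfsg.Agent.Lib.Helper16.OSemi.isType_minus 0 1 ζ haniso) T ?_ ?_
  · intro w
    rw [hTapp]
    exact N.add_mem (N.smul_mem _ ha) (N.smul_mem _ hb)
  · intro w
    rw [hTapp, opeqplaneex_comb, hQa, hQb, hab]
    show _ = Cfsg.quadFormMinus 0 F 1 ζ w
    unfold Cfsg.quadFormMinus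
    simp only [Finset.univ_eq_empty, Finset.sum_empty, zero_add]
    ring

end Cfsg.Agent.Lib.Helper18.OPE
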