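import Mathlib
import Cfsg.Agent.Lib.Helper18.OPE.Defs
import Cfsg.Agent.Lib.Helper16.OClass1
import Cfsg.Agent.Lib.helper8.OPEQPLANEEXa

set_option autoImplicit false

/-!
# Project OPE (designer helper18), row QPLANEEX (`q_plane_ex`), helper8

A nondegenerate space of even dimension `≥ 4` contains nondegenerate planes of both types, all characteristics:
coordinates on `N`, helper16's `classify`, explicit hyperbolic / elliptic pairs, `opeqplaneex_hyp` / `opeqplaneex_ell`.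
-/

namespace Cfsg.Agent.Lib.Helper18.OPE

open Polynomial Module Cfsg.Agent.Lib.Helper13.S5955 Cfsg.Agent.Lib.helper15.S5972

/-- an irreducible `t² + t + ζ` over a finite field -/
theorem opeqplaneex_irred {F : Type*} [Field F] [Finite F] : ∃ ζ : F, ∀ t : F, t ^ 2 + t + ζ ≠ 0 := by
  by_contra h
  have h' : ∀ ζ : F, ∃ t : F, t ^ 2 + t + ζ = 0 := by
    intro ζ
    by_contra hh
    exact h ⟨ζ, fun t ht => hh ⟨t, ht⟩⟩
  have hsurj : Function.Surjective (fun t : F => t ^ 2 + t) := by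
    intro c
    obtain ⟨t, ht⟩ := h' (-c)
    exact ⟨t, by
      show t ^ 2 + t = c
      linear_combination ht⟩
  have hinj := Finite.injective_iff_surjective.mpr hsurj
  have h1 : (fun t : F => t ^ 2 + t) 0 = (fun t : F => t ^ 2 + t) (-1) := by
    show (0 : F) ^ 2 + 0 = (-1) ^ 2 + -1
    ring
  have := hinj h1
  exact one_ne_zero (neg_eq_zero.mp this.symm)

/-- planes of both types in (an isometric image of) the standard plus space of dimension `2k ≥ 4` -/
theorem opeqplaneex_std_plus {F : Type*} [Field F] [Fintype F]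
    {V : Type*} [AddCommGroup V] [Module F V] [FiniteDimensional F V]
    (Q : QuadraticForm F V) (N : Submodule F V) (k : ℕ) (hk : 2 ≤ k)
    (L : (Fin k ⊕ Fin k → F) →ₗ[F] V) (hLN : ∀ v, L v ∈ N)
    (hL : ∀ v, Q (L v) = Cfsg.quadFormPlus k F v) (s : ℤ) (hs : s = 1 ∨ s = -1) :
    ∃ P : Submodule F V, P ≤ N ∧ SND (QuadraticMap.polarBilin Q) P ∧ finrank F P = 2 ∧ QTy Q P s := by
  classical
  have hpol : ∀ u v, QuadraticMap.polar (⇑Q) (L u) (L v) =
      QuadraticMap.polar (Cfsg.quadFormPlus k F) u v := by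
    intro u v
    unfold QuadraticMap.polar
    rw [← map_add, hL, hL, hL]
  let i₀ : Fin k := ⟨0, by omega⟩
  let i₁ : Fin k := ⟨1, by omega⟩
  have hne : i₁ ≠ i₀ := by
    intro h
    have := congrArg Fin.val h
    simp [i₀, i₁] at this
  rcases hs with rfl | rfl
  · let u : Fin k ⊕ Fin k → F := Sum.elim (Pi.single i₀ 1) 0
    let v : Fin k ⊕ Fin k → F := Sum.elim 0 (Pi.single i₀ 1)
    refine opeqplaneex_hyp Q N (L u) (L v) (hLN u) (hLN v) ?_ ?_ ?_
    · rw [hL]
      unfold Cfsg.quadFormPlus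
      simp [u]
    · rw [hL]
      unfold Cfsg.quadFormPlus
      simp [v]
    · rw [hpol, Cfsg.Agent.Lib.Helper16.polar_plus]
      simp [u, v, Pi.single_apply]
  · obtain ⟨ζ, hζ⟩ := opeqplaneex_irred (F := F)
    let u : Fin k ⊕ Fin k → F := Sum.elim (Pi.single i₀ 1) (Pi.single i₀ 1)
    let v : Fin k ⊕ Fin k → F := Sum.elim (Pi.single i₁ 1) (Pi.single i₀ 1 + ζ • Pi.single i₁ 1)
    refine opeqplaneex_ell Q N (L u) (L v) (hLN u) (hLN v) ζ hζ ?_ ?_ ?_
    · rw [hL]
      unfold Cfsg.quadFormPlus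
      simp [u, Pi.single_apply]
    · rw [hL]
      unfold Cfsg.quadFormPlus
      simp [v, Pi.single_apply, hne, hne.symm, mul_add, Finset.sum_add_distrib]
    · rw [hpol, Cfsg.Agent.Lib.Helper16.polar_plus]
      simp [u, v, Pi.single_apply, hne, hne.symm, mul_add, Finset.sum_add_distrib]

/-- planes of both types in (an isometric image of) the standard minus space of dimension `2m + 2 ≥ 4` -/
theorem opeqplaneex_std_minus {F : Type*} [Field F] [Fintype F]
    {V : Type*} [AddCommGroup V] [Module F V] [FiniteDimensional F V]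
    (Q : QuadraticForm F V) (N : Submodule F V) (m : ℕ) (hm : 1 ≤ m) (ζ : F)
    (hζ : ∀ t : F, t ^ 2 + t + ζ ≠ 0)
    (L : ((Fin m ⊕ Fin m) ⊕ Fin 2 → F) →ₗ[F] V) (hLN : ∀ v, L v ∈ N)
    (hL : ∀ v, Q (L v) = Cfsg.quadFormMinus m F 1 ζ v) (s : ℤ) (hs : s = 1 ∨ s = -1) :
    ∃ P : Submodule F V, P ≤ N ∧ SND (QuadraticMap.polarBilin Q) P ∧ finrank F P = 2 ∧ QTy Q P s := by
  classical
  have hpol : ∀ u v, QuadraticMap.polar (⇑Q) (L u) (L v) =
      QuadraticMap.polar (Cfsg.quadFormMinus m F 1 ζ) u v := by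
    intro u v
    unfold QuadraticMap.polar
    rw [← map_add, hL, hL, hL]
  let j₀ : Fin m := ⟨0, by omega⟩
  rcases hs with rfl | rfl
  · let u : (Fin m ⊕ Fin m) ⊕ Fin 2 → F := Sum.elim (Sum.elim (Pi.single j₀ 1) 0) 0
    let v : (Fin m ⊕ Fin m) ⊕ Fin 2 → F := Sum.elim (Sum.elim 0 (Pi.single j₀ 1)) 0
    refine opeqplaneex_hyp Q N (L u) (L v) (hLN u) (hLN v) ?_ ?_ ?_
    · rw [hL]
      unfold Cfsg.quadFormMinus
      simp [u]
    · rw [hL]
      unfold Cfsg.quadFormMinus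
      simp [v]
    · rw [hpol, Cfsg.Agent.Lib.Helper16.polar_minus']
      simp [u, v, Pi.single_apply]
  · let u : (Fin m ⊕ Fin m) ⊕ Fin 2 → F := Sum.elim 0 (Pi.single 0 1)
    let v : (Fin m ⊕ Fin m) ⊕ Fin 2 → F := Sum.elim 0 (Pi.single 1 1)
    refine opeqplaneex_ell Q N (L u) (L v) (hLN u) (hLN v) ζ hζ ?_ ?_ ?_
    · rw [hL]
      unfold Cfsg.quadFormMinus
      simp [u]
    · rw [hL]
      unfold Cfsg.quadFormMinus
      simp [v]
    · rw [hpol, Cfsg.Agent.Lib.Helper16.polar_minus']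
      simp [u, v]

/-- QPLANEEX [M-L]: a nondegenerate space of even dimension `≥ 4` contains nondegenerate planes of both types, ALL characteristics. -/
theorem q_plane_ex {F : Type*} [Field F] [Fintype F]
    {V : Type*} [AddCommGroup V] [Module F V] [FiniteDimensional F V]
    (Q : QuadraticForm F V) (N : Submodule F V) (hN : SND (QuadraticMap.polarBilin Q) N)
    (hev : Even (finrank F N)) (h4 : 4 ≤ finrank F N) (s : ℤ) (hs : s = 1 ∨ s = -1) :
    ∃ P : Submodule F V, P ≤ N ∧ SND (QuadraticMap.polarBilin Q) P ∧ finrank F P = 2 ∧ QTy Q P s := by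
  classical
  obtain ⟨k, hk⟩ := hev
  have hk2 : 2 ≤ k := by omega
  let b := Module.finBasis F ↥N
  let Ψ₀ : (Fin (finrank F N) → F) ≃ₗ[F] ↥N := b.equivFun.symm
  let Qc : QuadraticForm F (Fin (finrank F N) → F) := (Q.comp N.subtype).comp Ψ₀.toLinearMap
  have hQc : ∀ v, Qc v = Q ((Ψ₀ v : ↥N) : V) := fun v => rfl
  have hpolc : ∀ u v, QuadraticMap.polar (⇑Qc) u v =
      QuadraticMap.polar (⇑Q) ((Ψ₀ u : ↥N) : V) ((Ψ₀ v : ↥N) : V) := by
    intro u v
    unfold QuadraticMap.polar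
    rw [hQc, hQc, hQc, map_add, Submodule.coe_add]
  have hleft : ∀ x, (∀ y, QuadraticMap.polarBilin Qc x y = 0) → x = 0 := by
    intro x hx
    have h0 : ((Ψ₀ x : ↥N) : V) = 0 := by
      apply hN _ (Ψ₀ x).2
      intro v hv
      have := hx (Ψ₀.symm ⟨v, hv⟩)
      rw [QuadraticMap.polarBilin_apply_apply, hpolc, LinearEquiv.apply_symm_apply] at this
      rw [QuadraticMap.polarBilin_apply_apply]
      exact this
    have h1 : Ψ₀ x = 0 := Subtype.ext h0
    exact (LinearEquiv.map_eq_zero_iff Ψ₀).mp h1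
  have hndc : (QuadraticMap.polarBilin Qc).Nondegenerate := by
    refine ⟨hleft, ?_⟩
    intro y hy
    apply hleft
    intro x
    have := hy x
    rw [QuadraticMap.polarBilin_apply_apply] at this ⊢
    rw [QuadraticMap.polar_comm]
    exact this
  have hcard : Fintype.card (Fin (finrank F N)) = 2 * k := by
    rw [Fintype.card_fin]; omega
  rcases Cfsg.Agent.Lib.Helper16.OSemi.classify (by omega : 1 ≤ k) hcard Qc hndc with
    ⟨Φ, hΦ⟩ | ⟨ζ, hζ, Φ, hΦ⟩
  · let L : (Fin k ⊕ Fin k → F) →ₗ[F] V := N.subtype ∘ₗ Ψ₀.toLinearMap ∘ₗ Φ.toLinearMap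
    have hLapp : ∀ v, L v = ((Ψ₀ (Φ v) : ↥N) : V) := fun v => rfl
    refine opeqplaneex_std_plus Q N k hk2 L ?_ ?_ s hs
    · intro v
      rw [hLapp]
      exact (Ψ₀ (Φ v)).2
    · intro v
      rw [hLapp, ← hQc, hΦ]
  · let L : ((Fin (k - 1) ⊕ Fin (k - 1)) ⊕ Fin 2 → F) →ₗ[F] V :=
      N.subtype ∘ₗ Ψ₀.toLinearMap ∘ₗ Φ.toLinearMap
    have hLapp : ∀ v, L v = ((Ψ₀ (Φ v) : ↥N) : V) := fun v => rfl
    refine opeqplaneex_std_minus Q N (k - 1) (by omega) ζ hζ L ?_ ?_ s hs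
    · intro v
      rw [hLapp]
      exact (Ψ₀ (Φ v)).2
    · intro v
      rw [hLapp, ← hQc, hΦ]

end Cfsg.Agent.Lib.Helper18.OPE
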