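import Mathlib
import Cfsg.Agent.Lib.helper8.OME.Defs
import Cfsg.Agent.Lib.Helper11.OPEAP2
import Cfsg.Agent.Lib.helper8.OPEQPLANEEX

set_option autoImplicit false
set_option linter.unusedVariables false
set_option linter.unusedSectionVars false

/-!
# Project OME (designer helper8), row AP2M (`ap_pairs_total_minus`): the number of pairs `(v₁, v₂)` with `Q v₁ = 1`, `Q v₂ = ζ`, `B v₁ v₂ = 1`
in an ELLIPTIC `2a`-space (helper8; twin of helper11's `ap_pairs_total`, reusing `opeap2_value_count` and `opeap2_vals`).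
-/

namespace Cfsg.Agent.Lib.helper8.OME

open Polynomial Module Cfsg.Agent.Lib.Helper13.S5955 Cfsg.Agent.Lib.helper15.S5972
  Cfsg.Agent.Lib.Helper18.OPE
open scoped Matrix

theorem omeap2m_Qadd {F : Type*} [Field F] {V : Type*} [AddCommGroup V] [Module F V]
    (Q : QuadraticForm F V) (a b : V) :
    Q (a + b) = Q a + Q b + QuadraticMap.polarBilin Q a b := by
  rw [QuadraticMap.polarBilin_apply_apply]
  unfold QuadraticMap.polar
  ring

theorem omeap2m_self {F : Type*} [Field F] {V : Type*} [AddCommGroup V] [Module F V]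
    (Q : QuadraticForm F V) (e : V) (he : Q e = 0) : QuadraticMap.polarBilin Q e e = 0 := by
  rw [QuadraticMap.polarBilin_apply_apply, QuadraticMap.polar_self, he]; simp

/-- a nondegenerate space of even dimension `≥ 4` contains a singular pair `e`, `f` with `B e f = 1` -/
theorem omeap2m_pair {F : Type*} [Field F] [Fintype F]
    {V : Type*} [AddCommGroup V] [Module F V] [FiniteDimensional F V]
    (Q : QuadraticForm F V) (N : Submodule F V) (hN : SND (QuadraticMap.polarBilin Q) N)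
    (hev : Even (finrank F N)) (h4 : 4 ≤ finrank F N) :
    ∃ e ∈ N, ∃ f ∈ N, Q e = 0 ∧ Q f = 0 ∧ QuadraticMap.polarBilin Q e f = 1 := by
  classical
  obtain ⟨P, hPN, hPnd, hP2, hPty⟩ := q_plane_ex Q N hN hev h4 1 (Or.inl rfl)
  obtain ⟨U, hUP, hUs, hUd⟩ := ((qty_iff Q P hPnd (by rw [hP2]; exact even_two)).1).mpr hPty
  have hU1 : finrank F U = 1 := by omega
  obtain ⟨e, he, he0⟩ : ∃ e ∈ U, e ≠ 0 := by
    have hne : U ≠ ⊥ := by
      intro h
      rw [h, finrank_bot] at hU1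
      exact zero_ne_one hU1
    exact Submodule.exists_mem_ne_zero_of_ne_bot hne
  have heN : e ∈ N := hPN (hUP he)
  have hex : ∃ g ∈ N, QuadraticMap.polarBilin Q e g ≠ 0 := by
    by_contra hcon
    apply he0
    apply hN e heN
    intro v hv
    by_contra hne
    exact hcon ⟨v, hv, hne⟩
  obtain ⟨g, hgN, hg⟩ := hex
  have hQe : Q e = 0 := hUs e he
  have hee := omeap2m_self Q e hQe
  -- normalise
  obtain ⟨g', hg'N, hB1⟩ : ∃ g' ∈ N, QuadraticMap.polarBilin Q e g' = 1 :=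
    ⟨(QuadraticMap.polarBilin Q e g)⁻¹ • g, N.smul_mem _ hgN, by
      rw [map_smul, smul_eq_mul, inv_mul_cancel₀ hg]⟩
  have hsym : QuadraticMap.polarBilin Q g' e = 1 := by rw [opeqtysum_symm]; exact hB1
  refine ⟨e, heN, g' + (-Q g') • e, N.add_mem hg'N (N.smul_mem _ heN), hQe, ?_, ?_⟩
  · rw [omeap2m_Qadd, QuadraticMap.map_smul, hQe, map_smul, smul_eq_mul, hsym]
    simp
  · rw [map_add, map_smul, smul_eq_mul, hB1, hee]; ring

/-- a vector with `Q v₁ ≠ 0` of a nondegenerate space of even dimension `≥ 4` has a singular partner `w₀` with `B v₁ w₀ = 1` -/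
theorem omeap2m_partner {F : Type*} [Field F] [Fintype F]
    {V : Type*} [AddCommGroup V] [Module F V] [FiniteDimensional F V]
    (Q : QuadraticForm F V) (N : Submodule F V) (hN : SND (QuadraticMap.polarBilin Q) N)
    (hev : Even (finrank F N)) (h4 : 4 ≤ finrank F N) (v₁ : V) (hv₁ : v₁ ∈ N) (hQ1 : Q v₁ ≠ 0) :
    ∃ w₀ ∈ N, Q w₀ = 0 ∧ QuadraticMap.polarBilin Q v₁ w₀ = 1 := by
  classical
  obtain ⟨e, heN, f, hfN, hQe, hQf, hef⟩ := omeap2m_pair Q N hN hev h4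
  have hfe : QuadraticMap.polarBilin Q f e = 1 := by rw [opeqtysum_symm]; exact hef
  have hee := omeap2m_self Q e hQe
  have hff := omeap2m_self Q f hQf
  by_cases h1 : QuadraticMap.polarBilin Q v₁ e ≠ 0
  · refine ⟨(QuadraticMap.polarBilin Q v₁ e)⁻¹ • e, N.smul_mem _ heN, ?_, ?_⟩
    · rw [QuadraticMap.map_smul, hQe, smul_zero]
    · rw [map_smul, smul_eq_mul, inv_mul_cancel₀ h1]
  by_cases h2 : QuadraticMap.polarBilin Q v₁ f ≠ 0
  · refine ⟨(QuadraticMap.polarBilin Q v₁ f)⁻¹ • f, N.smul_mem _ hfN, ?_, ?_⟩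
    · rw [QuadraticMap.map_smul, hQf, smul_zero]
    · rw [map_smul, smul_eq_mul, inv_mul_cancel₀ h2]
  rw [not_not] at h1 h2
  have hv0 : v₁ ≠ 0 := by
    intro h
    rw [h, map_zero] at hQ1
    exact hQ1 rfl
  have hex : ∃ g ∈ N, QuadraticMap.polarBilin Q v₁ g ≠ 0 := by
    by_contra hcon
    apply hv0
    apply hN v₁ hv₁
    intro v hv
    by_contra hne
    exact hcon ⟨v, hv, hne⟩
  obtain ⟨g, hgN, hg⟩ := hex
  obtain ⟨u, huN, hu1⟩ : ∃ u ∈ N, QuadraticMap.polarBilin Q v₁ u = 1 :=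
    ⟨(QuadraticMap.polarBilin Q v₁ g)⁻¹ • g, N.smul_mem _ hgN, by
      rw [map_smul, smul_eq_mul, inv_mul_cancel₀ hg]⟩
  -- make `u` orthogonal to `e` and `f`
  set u' := u + (-(QuadraticMap.polarBilin Q u f)) • e + (-(QuadraticMap.polarBilin Q u e)) • f with hu'
  have hu'N : u' ∈ N := N.add_mem (N.add_mem huN (N.smul_mem _ heN)) (N.smul_mem _ hfN)
  have hu'e : QuadraticMap.polarBilin Q u' e = 0 := by
    rw [hu']
    simp only [map_add, map_smul, LinearMap.add_apply, LinearMap.smul_apply, smul_eq_mul, hee, hfe]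
    ring
  have hu'f : QuadraticMap.polarBilin Q u' f = 0 := by
    rw [hu']
    simp only [map_add, map_smul, LinearMap.add_apply, LinearMap.smul_apply, smul_eq_mul, hff, hef]
    ring
  have hu'1 : QuadraticMap.polarBilin Q v₁ u' = 1 := by
    rw [hu']
    simp only [map_add, map_smul, smul_eq_mul, h1, h2, hu1]
    ring
  refine ⟨u' + (e + (-Q u') • f), N.add_mem hu'N (N.add_mem heN (N.smul_mem _ hfN)), ?_, ?_⟩
  · rw [omeap2m_Qadd, omeap2m_Qadd Q e, QuadraticMap.map_smul, hQe, hQf]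
    simp only [map_add, map_smul, smul_eq_mul, hu'e, hu'f, hef]
    ring
  · simp only [map_add, map_smul, smul_eq_mul, h1, h2, hu'1]
    ring

/-- splitting off the hyperbolic plane `⟨v₁, w₀⟩` -/
theorem omeap2m_split {F : Type*} [Field F] [Fintype F]
    {V : Type*} [AddCommGroup V] [Module F V] [FiniteDimensional F V]
    (Q : QuadraticForm F V) (N : Submodule F V) (hN : SND (QuadraticMap.polarBilin Q) N) (a : ℕ) (ha : 1 ≤ a)
    (hdim : finrank F N = 2 * a) (hty : QTy Q N (-1)) (v₁ w₀ : V) (hv₁ : v₁ ∈ N) (hw₀ : w₀ ∈ N)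
    (hQ1 : Q v₁ = 1) (hQ0 : Q w₀ = 0) (hB : QuadraticMap.polarBilin Q v₁ w₀ = 1) :
    ∃ N₀ : Submodule F V, N₀ ≤ N ∧ SND (QuadraticMap.polarBilin Q) N₀ ∧ finrank F N₀ = 2 * (a - 1) ∧ QTy Q N₀ (-1) ∧
      (∀ n ∈ N₀, QuadraticMap.polarBilin Q v₁ n = 0 ∧ QuadraticMap.polarBilin Q w₀ n = 0) ∧
      (∀ v ∈ N, ∃ α β : F, ∃ n ∈ N₀, v = α • v₁ + β • w₀ + n) := by
  classical
  have hsymm := opeqtysum_symm Q
  have hB' : QuadraticMap.polarBilin Q w₀ v₁ = 1 := by rw [hsymm]; exact hB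
  have h11 : QuadraticMap.polarBilin Q v₁ v₁ = 2 := by
    rw [QuadraticMap.polarBilin_apply_apply, QuadraticMap.polar_self, hQ1]; simp
  have h00 : QuadraticMap.polarBilin Q w₀ w₀ = 0 := by
    rw [QuadraticMap.polarBilin_apply_apply, QuadraticMap.polar_self, hQ0]; simp
  -- the plane
  have hli : LinearIndependent F ![v₁, w₀] := by
    rw [LinearIndependent.pair_iff]
    intro s t hst
    have e1 : QuadraticMap.polarBilin Q (s • v₁ + t • w₀) w₀ = 0 := by rw [hst]; simp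
    have e2 : QuadraticMap.polarBilin Q (s • v₁ + t • w₀) v₁ = 0 := by rw [hst]; simp
    rw [map_add, map_smul, map_smul, LinearMap.add_apply, LinearMap.smul_apply, LinearMap.smul_apply, hB, h00,
      smul_eq_mul, smul_eq_mul, mul_one, mul_zero, add_zero] at e1
    rw [map_add, map_smul, map_smul, LinearMap.add_apply, LinearMap.smul_apply, LinearMap.smul_apply, h11, hB',
      smul_eq_mul, smul_eq_mul, mul_one, e1, zero_mul, zero_add] at e2
    exact ⟨e1, e2⟩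
  have hrange : Set.range ![v₁, w₀] = {v₁, w₀} := by
    rw [Matrix.range_cons, Matrix.range_cons, Matrix.range_empty, Set.union_empty]
    rfl
  have hP2 : finrank F (Submodule.span F ({v₁, w₀} : Set V)) = 2 := by
    rw [← hrange, finrank_span_eq_card hli, Fintype.card_fin]
  have hPN : Submodule.span F ({v₁, w₀} : Set V) ≤ N := by
    rw [Submodule.span_le]
    intro x hx
    rcases hx with rfl | rfl
    · exact hv₁
    · exact hw₀
  have hPnd : SND (QuadraticMap.polarBilin Q) (Submodule.span F ({v₁, w₀} : Set V)) := by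
    intro p hp hall
    obtain ⟨s, t, rfl⟩ := Submodule.mem_span_pair.mp hp
    have e1 := hall w₀ (Submodule.subset_span (by simp))
    have e2 := hall v₁ (Submodule.subset_span (by simp))
    rw [map_add, map_smul, map_smul, LinearMap.add_apply, LinearMap.smul_apply, LinearMap.smul_apply, hB, h00,
      smul_eq_mul, smul_eq_mul, mul_one, mul_zero, add_zero] at e1
    rw [map_add, map_smul, map_smul, LinearMap.add_apply, LinearMap.smul_apply, LinearMap.smul_apply, h11, hB',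
      smul_eq_mul, smul_eq_mul, mul_one, e1, zero_mul, zero_add] at e2
    rw [e1, e2, zero_smul, zero_smul, add_zero]
  have hw0ne : w₀ ≠ 0 := by
    intro h0
    rw [h0, map_zero] at hB
    exact zero_ne_one hB
  have hPhyp : QHyp Q (Submodule.span F ({v₁, w₀} : Set V)) := by
    refine ⟨Submodule.span F {w₀}, ?_, ?_, ?_⟩
    · apply Submodule.span_mono
      intro x hx
      rw [Set.mem_singleton_iff] at hx
      rw [hx]; simp
    · intro u hu
      obtain ⟨c, rfl⟩ := Submodule.mem_span_singleton.mp hu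
      rw [QuadraticMap.map_smul, hQ0, smul_zero]
    · rw [finrank_span_singleton hw0ne, hP2]
  have hPty : QTy Q (Submodule.span F ({v₁, w₀} : Set V)) 1 :=
    ((qty_iff Q _ hPnd (by rw [hP2]; exact even_two)).1).mp hPhyp
  obtain ⟨hdisj, hsup, hN0nd, horth, hN0dim⟩ := Cfsg.Agent.Lib.Helper18.ONE.nd_perp_symm (QuadraticMap.polarBilin Q) hsymm N
    (Submodule.span F ({v₁, w₀} : Set V)) hN hPN hPnd
  have hN0d : finrank F ↥(N ⊓ LinearMap.BilinForm.orthogonal (QuadraticMap.polarBilin Q) (Submodule.span F ({v₁, w₀} : Set V))) = 2 * (a - 1) := by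
    omega
  have hN0ev : Even (finrank F ↥(N ⊓ LinearMap.BilinForm.orthogonal (QuadraticMap.polarBilin Q) (Submodule.span F ({v₁, w₀} : Set V)))) := by
    rw [hN0d]; exact even_two_mul _
  have hN0ty : QTy Q (N ⊓ LinearMap.BilinForm.orthogonal (QuadraticMap.polarBilin Q) (Submodule.span F ({v₁, w₀} : Set V))) (-1) := by
    rcases (qty_iff Q _ hN0nd hN0ev).2.2 with h | h
    · exfalso
      have := qty_sum Q _ _ hPnd hN0nd horth (by rw [hP2]; exact even_two) hN0ev 1 1 hPty h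
      rw [hsup, one_mul] at this
      exact qty_uniq Q N this hty
    · exact h
  refine ⟨_, inf_le_left, hN0nd, hN0d, hN0ty, ?_, ?_⟩
  · intro n hn
    exact ⟨horth v₁ (Submodule.subset_span (by simp)) n hn, horth w₀ (Submodule.subset_span (by simp)) n hn⟩
  · intro v hv
    rw [← hsup] at hv
    obtain ⟨p, hp, n, hn, rfl⟩ := Submodule.mem_sup.mp hv
    obtain ⟨s, t, rfl⟩ := Submodule.mem_span_pair.mp hp
    exact ⟨s, t, n, hn, rfl⟩

/-- for a fixed `v₁`, the number of `v₂` -/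
theorem omeap2m_fiber {F : Type*} [Field F] [Fintype F]
    {V : Type*} [AddCommGroup V] [Module F V] [FiniteDimensional F V]
    (Q : QuadraticForm F V) (N : Submodule F V) (hN : SND (QuadraticMap.polarBilin Q) N) (a : ℕ)
    (ha : 2 ≤ a) (hdim : finrank F N = 2 * a) (hty : QTy Q N (-1)) (ζ : F)
    (hζ : ∀ t : F, t ^ 2 + t + ζ ≠ 0) (v₁ : V) (hv₁ : v₁ ∈ N) (hQ1 : Q v₁ = 1) :
    (Nat.card {v₂ : V // v₂ ∈ N ∧ Q v₂ = ζ ∧ QuadraticMap.polarBilin Q v₁ v₂ = 1} : ℤ) =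
      (Fintype.card F : ℤ) ^ (2 * (a - 1)) + (Fintype.card F : ℤ) ^ (a - 1) := by
  classical
  have : Finite V := Module.finite_of_finite F
  obtain ⟨w₀, hw₀, hQ0, hB⟩ := omeap2m_partner Q N hN (by rw [hdim]; exact even_two_mul a) (by omega) v₁ hv₁
    (by rw [hQ1]; exact one_ne_zero)
  obtain ⟨N₀, hN₀N, hN₀nd, hN₀d, hN₀ty, hN₀o, hN₀s⟩ := omeap2m_split Q N hN a (by omega) hdim hty v₁ w₀ hv₁ hw₀ hQ1 hQ0 hB
  -- the bijection
  let φ : (Σ α : F, {n : V // n ∈ N₀ ∧ Q n = ζ + α ^ 2 - α}) →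
      {v₂ : V // v₂ ∈ N ∧ Q v₂ = ζ ∧ QuadraticMap.polarBilin Q v₁ v₂ = 1} := fun x =>
    ⟨x.1 • v₁ + (1 - 2 * x.1) • w₀ + x.2.1, by
      obtain ⟨e1, e2, e3⟩ := opeap2_vals Q v₁ w₀ x.2.1 hQ1 hQ0 hB (hN₀o _ x.2.2.1).1 (hN₀o _ x.2.2.1).2 x.1 (1 - 2 * x.1)
      refine ⟨N.add_mem (N.add_mem (N.smul_mem _ hv₁) (N.smul_mem _ hw₀)) (hN₀N x.2.2.1), ?_, ?_⟩
      · rw [e1, x.2.2.2]; ring
      · rw [e2]; ring⟩
  have hφ : Function.Bijective φ := by
    constructor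
    · rintro ⟨α, n, hn, hQn⟩ ⟨α', n', hn', hQn'⟩ h
      have h' : α • v₁ + (1 - 2 * α) • w₀ + n = α' • v₁ + (1 - 2 * α') • w₀ + n' := congrArg Subtype.val h
      have e3 := (opeap2_vals Q v₁ w₀ n hQ1 hQ0 hB (hN₀o _ hn).1 (hN₀o _ hn).2 α (1 - 2 * α)).2.2
      have e3' := (opeap2_vals Q v₁ w₀ n' hQ1 hQ0 hB (hN₀o _ hn').1 (hN₀o _ hn').2 α' (1 - 2 * α')).2.2
      rw [h', e3'] at e3
      subst e3
      have : n = n' := add_left_cancel h'
      subst this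
      rfl
    · rintro ⟨v₂, hv₂N, hv₂Q, hv₂B⟩
      obtain ⟨α, β, n, hn, rfl⟩ := hN₀s v₂ hv₂N
      obtain ⟨e1, e2, e3⟩ := opeap2_vals Q v₁ w₀ n hQ1 hQ0 hB (hN₀o _ hn).1 (hN₀o _ hn).2 α β
      rw [e2] at hv₂B
      rw [e1] at hv₂Q
      have hβ : β = 1 - 2 * α := by linear_combination hv₂B
      subst hβ
      refine ⟨⟨α, n, hn, ?_⟩, rfl⟩
      linear_combination hv₂Q
  have hcard : Nat.card {v₂ : V // v₂ ∈ N ∧ Q v₂ = ζ ∧ QuadraticMap.polarBilin Q v₁ v₂ = 1} =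
      ∑ α : F, Nat.card {n : V // n ∈ N₀ ∧ Q n = ζ + α ^ 2 - α} := by
    rw [← Nat.card_sigma]
    exact (Nat.card_congr (Equiv.ofBijective φ hφ)).symm
  have hq : (Fintype.card F : ℤ) ≠ 0 := by
    have : 0 < Fintype.card F := Fintype.card_pos
    exact_mod_cast this.ne'
  have hval : ∀ α : F, (Fintype.card F : ℤ) * (Nat.card {n : V // n ∈ N₀ ∧ Q n = ζ + α ^ 2 - α} : ℤ) =
      (Fintype.card F : ℤ) ^ (2 * (a - 1)) - (-1) * (Fintype.card F : ℤ) ^ (a - 1) := by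
    intro α
    apply opeap2_value_count Q N₀ hN₀nd (a - 1) (by omega) hN₀d (-1) hN₀ty
    have := hζ (-α)
    intro h0
    apply this
    linear_combination h0
  apply mul_left_cancel₀ hq
  rw [hcard, Nat.cast_sum, Finset.mul_sum, Finset.sum_congr rfl (fun α _ => hval α), Finset.sum_const, Finset.card_univ,
    nsmul_eq_mul]
  ring

/-- AP2M [L] (twin of OPE `ap_pairs_total`, Helper11/OPEAP2.lean, for an ELLIPTIC `2a`-space `N`, `a ≥ 2`): the number of pairs `(v₁, v₂)` in `N` with `Q v₁ = 1`, `Q v₂ = ζ`, `B v₁ v₂ = 1`.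
`#{v₁ ∈ N : Q v₁ = 1} = q^(2a-1) + q^(a-1)` (`isType_N1` with `s = -1`).  For each `v₁`: a singular `w₀ ∈ N` with `B v₁ w₀ = 1`, `P₀ = ⟨v₁, w₀⟩` hyperbolic, `N₀ = N ⊓ P₀^⊥` of dimension `2a - 2` and type `-1`;
`v₂ = α v₁ + β w₀ + n`: `2α + β = 1`, `Q n = ζ + α² - α ≠ 0`: `q · (q^(2a-3) + q^(a-2))` choices.  Total `q^(2a-2) (q^a + 1)(q^(a-1) + 1)`. -/
theorem ap_pairs_total_minus {F : Type*} [Field F] [Fintype F]
    {V : Type*} [AddCommGroup V] [Module F V] [FiniteDimensional F V]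
    (Q : QuadraticForm F V) (N : Submodule F V) (hN : SND (QuadraticMap.polarBilin Q) N) (a : ℕ)
    (ha : 2 ≤ a) (hdim : finrank F N = 2 * a) (hty : QTy Q N (-1)) (ζ : F)
    (hζ : ∀ t : F, t ^ 2 + t + ζ ≠ 0) :
    Nat.card {v : V × V // v.1 ∈ N ∧ v.2 ∈ N ∧ Q v.1 = 1 ∧ Q v.2 = ζ ∧
      QuadraticMap.polarBilin Q v.1 v.2 = 1} =
      Fintype.card F ^ (2 * a - 2) * (Fintype.card F ^ a + 1) * (Fintype.card F ^ (a - 1) + 1) := by
  classical
  have : Finite V := Module.finite_of_finite F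
  have : Fintype {v₁ : V // v₁ ∈ N ∧ Q v₁ = 1} := Fintype.ofFinite _
  let ψ : {v : V × V // v.1 ∈ N ∧ v.2 ∈ N ∧ Q v.1 = 1 ∧ Q v.2 = ζ ∧ QuadraticMap.polarBilin Q v.1 v.2 = 1} ≃
      (Σ v₁ : {v₁ : V // v₁ ∈ N ∧ Q v₁ = 1}, {v₂ : V // v₂ ∈ N ∧ Q v₂ = ζ ∧ QuadraticMap.polarBilin Q v₁.1 v₂ = 1}) :=
    { toFun := fun v => ⟨⟨v.1.1, v.2.1, v.2.2.2.1⟩, ⟨v.1.2, v.2.2.1, v.2.2.2.2.1, v.2.2.2.2.2⟩⟩
      invFun := fun x => ⟨(x.1.1, x.2.1), x.1.2.1, x.2.2.1, x.1.2.2, x.2.2.2.1, x.2.2.2.2⟩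
      left_inv := fun v => rfl
      right_inv := fun x => rfl }
  have hq0 : 0 < Fintype.card F := Fintype.card_pos
  have hq : (Fintype.card F : ℤ) ≠ 0 := by exact_mod_cast hq0.ne'
  have hA := opeap2_value_count Q N hN a (by omega) hdim (-1) hty 1 one_ne_zero
  have hcard : (Nat.card {v : V × V // v.1 ∈ N ∧ v.2 ∈ N ∧ Q v.1 = 1 ∧ Q v.2 = ζ ∧
      QuadraticMap.polarBilin Q v.1 v.2 = 1} : ℤ) =
      (Nat.card {v₁ : V // v₁ ∈ N ∧ Q v₁ = 1} : ℤ) *
        ((Fintype.card F : ℤ) ^ (2 * (a - 1)) + (Fintype.card F : ℤ) ^ (a - 1)) := by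
    rw [Nat.card_congr ψ, Nat.card_sigma, Nat.cast_sum,
      Finset.sum_congr rfl (fun v₁ _ => omeap2m_fiber Q N hN a ha hdim hty ζ hζ v₁.1 v₁.2.1 v₁.2.2),
      Finset.sum_const, Finset.card_univ, nsmul_eq_mul, Nat.card_eq_fintype_card]
  obtain ⟨b, rfl⟩ : ∃ b, a = b + 2 := ⟨a - 2, by omega⟩
  have h1 : 1 ≤ Fintype.card F ^ (b + 2) := Nat.one_le_pow _ _ hq0
  have h2 : 1 ≤ Fintype.card F ^ (b + 2 - 1) := Nat.one_le_pow _ _ hq0
  have e1 : 2 * (b + 2) - 2 = 2 * b + 2 := by omega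
  have e2 : b + 2 - 1 = b + 1 := by omega
  rw [e2] at hcard h2
  rw [e1, e2]
  have : ((Nat.card {v : V × V // v.1 ∈ N ∧ v.2 ∈ N ∧ Q v.1 = 1 ∧ Q v.2 = ζ ∧
      QuadraticMap.polarBilin Q v.1 v.2 = 1} : ℕ) : ℤ) =
      ((Fintype.card F ^ (2 * b + 2) * (Fintype.card F ^ (b + 2) + 1) * (Fintype.card F ^ (b + 1) + 1) : ℕ) : ℤ) := by
    apply mul_left_cancel₀ hq
    rw [hcard, ← mul_assoc, hA]
    push_cast
    ring
  exact_mod_cast this

end Cfsg.Agent.Lib.helper8.OME
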