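import Mathlib
import Cfsg.Agent.Lib.Helper19.S5954.Defs

set_option autoImplicit false
set_option linter.unusedVariables false
set_option linter.unusedSectionVars false

/-!
# Project S5954, row UANISO (helper8): `h_aniso` verbatim (UBETA is not needed).
-/

namespace Cfsg.Agent.Lib.Helper19.S5954

open Polynomial Module Cfsg.Agent.Lib.Helper13.S5955 Cfsg.Agent.Lib.helper14.JTa Cfsg.Agent.Lib.Helper11.S5956U

variable {F : Type*} [Field F] {V : Type*} [AddCommGroup V] [Module F V]

/-- powers of `x - 1` preserve an invariant subspace -/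
theorem s5954uaniso_pow_mem {x : Module.End F V} (N : Submodule F V) (hN : SInv x N) (k : ℕ)
    (v : V) (hv : v ∈ N) : ((x - 1) ^ k) v ∈ N := by
  induction k with
  | zero => simpa using hv
  | succ k ih =>
    rw [pow_succ', Module.End.mul_apply, LinearMap.sub_apply, Module.End.one_apply]
    exact N.sub_mem (hN _ ih) ih

/-- UANISO [M] (no dependency: a sesquilinear form, `σ ≠ 1`, all of whose vectors are isotropic vanishes). -/
theorem h_aniso {r : ℕ} (hr : 0 < r) {σ : F →+* F} {B : V →ₛₗ[σ] V →ₗ[F] F} {x : Module.End F V}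
    (h : HCtx r σ B x) (N : Submodule F V) (hN : SInv x N) (hNnd : HND B N) (s : ℕ) (hs : 1 ≤ s)
    (hnil : ∀ v ∈ N, ((x - 1) ^ s) v = 0) (hne : ∃ v ∈ N, ((x - 1) ^ (s - 1)) v ≠ 0) :
    ∃ v ∈ N, B v (((x - 1) ^ (s - 1)) v) ≠ 0 := by
  by_contra hcon
  have hiso : ∀ v ∈ N, B v (((x - 1) ^ (s - 1)) v) = 0 := by
    intro v hv
    by_contra h'
    exact hcon ⟨v, hv, h'⟩
  set M : Module.End F V := (x - 1) ^ (s - 1) with hM
  -- `β` is not identically zero
  obtain ⟨v₀, hv₀, hw⟩ := hne
  have hwN : M v₀ ∈ N := s5954uaniso_pow_mem N hN (s - 1) v₀ hv₀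
  obtain ⟨u, hu, hut⟩ : ∃ u ∈ N, B u (M v₀) ≠ 0 := by
    by_contra h'
    apply hw
    apply hNnd _ hwN
    intro u hu
    by_contra h''
    apply h'
    refine ⟨u, hu, ?_⟩
    intro h3
    apply h''
    rw [← h.symm u (M v₀), h3, map_zero]
  -- skew-symmetry from isotropy
  have hskew : ∀ a ∈ N, ∀ b ∈ N, B b (M a) = - B a (M b) := by
    intro a ha b hb
    have h1 := hiso (a + b) (N.add_mem ha hb)
    simp only [map_add, LinearMap.add_apply] at h1
    rw [hiso a ha, hiso b hb] at h1
    linear_combination h1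
  -- the key identity
  have hkey : ∀ c : F, c * B u (M v₀) = σ c * B u (M v₀) := by
    intro c
    have hcv : c • v₀ ∈ N := N.smul_mem c hv₀
    have h1 := hskew (c • v₀) hcv u hu
    have h3 := hskew v₀ hv₀ u hu
    -- `B u (M (c v₀)) = c * B u (M v₀)`, `B (c v₀) (M u) = σ c * B v₀ (M u)`
    simp only [map_smul, LinearMap.map_smulₛₗ, LinearMap.smul_apply, smul_eq_mul] at h1
    rw [h1, h3]
    ring
  obtain ⟨c, hc⟩ := h.ne
  have := hkey c
  exact hc (mul_right_cancel₀ hut this).symm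

end Cfsg.Agent.Lib.Helper19.S5954
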