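import Mathlib
import Cfsg.Agent.Lib.Helper19.SO8.Defs

set_option autoImplicit false

/-!
# SO8 row STRUCT (`sr_struct`), core (helper8): from the statements of PEEL1 (`peel_one`) and STRUCT1 (`sr_struct_aux`).
-/

namespace Cfsg.Agent.Lib.Helper19.SO8

open Polynomial

/-- `X + 1 ∣ X ^ m - 1` in characteristic 2 -/
theorem so8struct_X_add_one_dvd {F : Type*} [Field F] [CharP F 2] (m : ℕ) :
    (X + 1 : F[X]) ∣ X ^ m - 1 := by
  have h2 : (X + 1 : F[X]) = X - 1 := by
    have h : (2 : F[X]) = 0 := by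
      have : CharP F[X] 2 := inferInstance
      exact CharTwo.two_eq_zero
    have : (X + 1 : F[X]) - (X - 1) = 2 := by ring
    rw [h] at this
    exact sub_eq_zero.mp this
  rw [h2]
  simpa using sub_dvd_pow_sub_pow (X : F[X]) 1 m

/-- `(X + 1) ^ j` is coprime to `g` when `g(1) ≠ 0` (characteristic 2) -/
theorem so8struct_coprime {F : Type*} [Field F] [CharP F 2] (g : F[X]) (h1 : g.eval 1 ≠ 0) (j : ℕ) :
    IsCoprime ((X + 1 : F[X]) ^ j) g := by
  have h2 : (X + 1 : F[X]) = X - C 1 := by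
    have h : (2 : F[X]) = 0 := by
      have : CharP F[X] 2 := inferInstance
      exact CharTwo.two_eq_zero
    have : (X + 1 : F[X]) - (X - C 1) = 2 := by simp; ring
    rw [h] at this
    exact sub_eq_zero.mp this
  apply IsCoprime.pow_left
  rw [h2]
  have hirr : Irreducible (X - C (1 : F)) := irreducible_X_sub_C 1
  rw [hirr.coprime_iff_not_dvd]
  intro hdvd
  exact h1 (dvd_iff_isRoot.mp hdvd)

theorem so8struct_core {F : Type*} [Field F] [Fintype F] [CharP F 2]
    (hP : ∀ (χ : F[X]), χ ≠ 0 → χ.reverse = χ → Even χ.natDegree →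
      ∃ (k : ℕ) (g : F[X]), χ = (X + 1) ^ (2 * k) * g ∧ g.eval 1 ≠ 0 ∧ g.reverse = g)
    (hS : ∀ (n : ℕ) (g : F[X]), g ≠ 0 → g.reverse = g → g.eval 1 ≠ 0 → g.natDegree = 2 * n →
      ∃ w : ℕ → Bool → ℕ, (∑ e ∈ Finset.range (n + 1), e * (w e true + w e false) = n) ∧
        (∀ e ε, w e ε ≠ 0 → 1 ≤ e ∧ e ≤ n) ∧
        ∀ m t : ℕ, (∀ e ε, w e ε ≠ 0 → tyN (Fintype.card F) e ε ∣ m) → (∀ e ε, w e ε ≤ 2 ^ t) →
          g ∣ (X ^ m - 1 : F[X]) ^ (2 ^ t))
    (n : ℕ) (χ : F[X]) (hχ : χ ≠ 0) (hr : χ.reverse = χ) (hd : χ.natDegree = 2 * n) :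
    ∃ (k : ℕ) (w : ℕ → Bool → ℕ),
      (k + ∑ e ∈ Finset.range (n + 1), e * (w e true + w e false) = n) ∧
      (∀ e ε, w e ε ≠ 0 → 1 ≤ e ∧ e ≤ n) ∧
      ∀ m t : ℕ, (∀ e ε, w e ε ≠ 0 → tyN (Fintype.card F) e ε ∣ m) → 2 * k ≤ 2 ^ t →
        (∀ e ε, w e ε ≤ 2 ^ t) → χ ∣ (X ^ m - 1 : F[X]) ^ (2 ^ t) := by
  obtain ⟨k, g, hχg, hg1, hgr⟩ := hP χ hχ hr ⟨n, by rw [hd]; ring⟩
  have hg0 : g ≠ 0 := by
    rintro rfl
    exact hχ (by rw [hχg, mul_zero])
  -- degrees
  have hmonic : ((X + 1 : F[X]) ^ (2 * k)).Monic := by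
    have h := (monic_X_add_C (1 : F)).pow (2 * k)
    simpa using h
  have hdeg : χ.natDegree = 2 * k + g.natDegree := by
    rw [hχg, hmonic.natDegree_mul' hg0]
    congr 1
    have h1 : (X + 1 : F[X]) = X + C 1 := by simp
    rw [h1, natDegree_pow, natDegree_X_add_C, mul_one]
  have hkn : k ≤ n := by omega
  have hgd : g.natDegree = 2 * (n - k) := by omega
  obtain ⟨w, hsum, hsupp, hdiv⟩ := hS (n - k) g hg0 hgr hg1 hgd
  refine ⟨k, w, ?_, ?_, ?_⟩
  · -- the sum over range (n+1) equals the sum over range (n-k+1)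
    have hsub : Finset.range (n - k + 1) ⊆ Finset.range (n + 1) := by
      intro e he
      rw [Finset.mem_range] at he ⊢
      omega
    have heq : ∑ e ∈ Finset.range (n + 1), e * (w e true + w e false) =
        ∑ e ∈ Finset.range (n - k + 1), e * (w e true + w e false) := by
      symm
      apply Finset.sum_subset hsub
      intro e _ he
      rw [Finset.mem_range, not_lt] at he
      have ht : w e true = 0 := by
        by_contra h
        have := (hsupp e true h).2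
        omega
      have hf : w e false = 0 := by
        by_contra h
        have := (hsupp e false h).2
        omega
      rw [ht, hf, add_zero, mul_zero]
    rw [heq, hsum]
    omega
  · intro e ε h
    have := hsupp e ε h
    exact ⟨this.1, by omega⟩
  · intro m t hm hk ht
    have h1 : g ∣ (X ^ m - 1 : F[X]) ^ (2 ^ t) := hdiv m t hm ht
    have h2 : ((X + 1 : F[X]) ^ (2 * k)) ∣ (X ^ m - 1 : F[X]) ^ (2 ^ t) :=
      (pow_dvd_pow _ hk).trans (pow_dvd_pow_of_dvd (so8struct_X_add_one_dvd m) _)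
    rw [hχg]
    exact (so8struct_coprime g hg1 (2 * k)).mul_dvd h2 h1

end Cfsg.Agent.Lib.Helper19.SO8
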