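import Mathlib
import Cfsg.Agent.Lib.Helper19.SO8.Defs
import Cfsg.Agent.Lib.helper8.SO8STRUCTcore
import Cfsg.Agent.Lib.Helper20.SO8PEEL1
import Cfsg.Agent.Lib.Helper19.SO8STRUCT1

set_option autoImplicit false

/-!
# SO8 row STRUCT (`sr_struct`), verbatim (helper8): `so8struct_core` + PEEL1 (`peel_one`) + STRUCT1 (`sr_struct_aux`).
-/

namespace Cfsg.Agent.Lib.Helper19.SO8

open Polynomial Cfsg.Agent.Lib.Helper13.OTS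

/-- STRUCT [M]: PEEL1 (`χ = (X+1)^(2k) g`, `natDegree g = 2 (n - k)`) + STRUCT1 for `g`; `(X + 1) ^ (2 k) ∣ (X ^ m - 1) ^ (2 ^ t)` (`X - 1 ∣ X ^ m - 1`: `sub_one_dvd`-type lemma / `one_sub_dvd`, `pow_dvd_pow`);
`IsCoprime ((X+1)^(2k)) g` from `g.eval 1 ≠ 0`. -/
theorem sr_struct {F : Type*} [Field F] [Fintype F] [CharP F 2] (n : ℕ) (χ : F[X]) (hχ : χ ≠ 0)
    (hr : χ.reverse = χ) (hd : χ.natDegree = 2 * n) :
    ∃ (k : ℕ) (w : ℕ → Bool → ℕ),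
      (k + ∑ e ∈ Finset.range (n + 1), e * (w e true + w e false) = n) ∧
      (∀ e ε, w e ε ≠ 0 → 1 ≤ e ∧ e ≤ n) ∧
      ∀ m t : ℕ, (∀ e ε, w e ε ≠ 0 → tyN (Fintype.card F) e ε ∣ m) → 2 * k ≤ 2 ^ t →
        (∀ e ε, w e ε ≤ 2 ^ t) → χ ∣ (X ^ m - 1 : F[X]) ^ (2 ^ t) :=
  so8struct_core (fun χ hχ hr hev => peel_one χ hχ hr hev)
    (fun n g hg hr h1 hd => sr_struct_aux n g hg hr h1 hd) n χ hχ hr hd

end Cfsg.Agent.Lib.Helper19.SO8
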