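import Mathlib
import Cfsg.Agent.Lib.helper17.SLP.Defs
import Cfsg.Agent.Lib.helper3.SP4.Defs
import Cfsg.Agent.Lib.helper8.SP4D1

/-!
# Project SP4 (designer helper3), row D2 `rd_comm` (writer helper8): the commutator relations of `Comm4` at the level of
the root subgroups `RG X`.
-/

set_option autoImplicit false

namespace Cfsg.Agent.Lib.helper3.SP4

open Cfsg.Agent.Lib.helper17.SLP

universe u v

section D

variable {F : Type u} [Field F] [Fintype F] {G : Type v} [Group G]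

/-- D2 [M]. -/
theorem rd_comm (φa φb : Matrix.SpecialLinearGroup (Fin 2) F →* G) (K : Comm4 φa φb) :
    (∀ a ∈ RG (rx φa), ∀ d ∈ RG (xd φa φb), Commute a d) ∧
      (∀ b ∈ RG (rx φb), ∀ d ∈ RG (xd φa φb), Commute b d) ∧
      (∀ c ∈ RG (xc φa φb), ∀ d ∈ RG (xd φa φb), Commute c d) ∧
      (∀ b ∈ RG (rx φb), ∀ c ∈ RG (xc φa φb), Commute b c) ∧
      (∀ a ∈ RG (rx φa), ∀ c ∈ RG (xc φa φb), a * c * a⁻¹ * c⁻¹ ∈ RG (xd φa φb)) ∧
      (∀ a ∈ RG (rx φa), ∀ b ∈ RG (rx φb), ∃ c ∈ RG (xc φa φb), ∃ d ∈ RG (xd φa φb),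
        a * b * a⁻¹ * b⁻¹ = c * d) := by
  have ha := sp4d1_mem (rx φa) (sp4d1_rx_add φa)
  have hb := sp4d1_mem (rx φb) (sp4d1_rx_add φb)
  have hc := sp4d1_mem (xc φa φb) (sp4d1_xc_add φa φb)
  have hd := sp4d1_mem (xd φa φb) (sp4d1_xd_add φa φb)
  refine ⟨?_, ?_, ?_, ?_, ?_, ?_⟩
  · intro a haa d hdd
    obtain ⟨s, rfl⟩ := (ha a).mp haa
    obtain ⟨t, rfl⟩ := (hd d).mp hdd
    exact K.ad s t
  · intro b hbb d hdd
    obtain ⟨s, rfl⟩ := (hb b).mp hbb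
    obtain ⟨t, rfl⟩ := (hd d).mp hdd
    exact K.bd s t
  · intro c hcc d hdd
    obtain ⟨s, rfl⟩ := (hc c).mp hcc
    obtain ⟨t, rfl⟩ := (hd d).mp hdd
    exact K.cd s t
  · intro b hbb c hcc
    obtain ⟨s, rfl⟩ := (hb b).mp hbb
    obtain ⟨t, rfl⟩ := (hc c).mp hcc
    exact K.bc s t
  · intro a haa c hcc
    obtain ⟨s, rfl⟩ := (ha a).mp haa
    obtain ⟨t, rfl⟩ := (hc c).mp hcc
    have h := K.ac s t
    unfold cm at h
    rw [h]
    exact (hd _).mpr ⟨_, rfl⟩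
  · intro a haa b hbb
    obtain ⟨s, rfl⟩ := (ha a).mp haa
    obtain ⟨t, rfl⟩ := (hb b).mp hbb
    have h := K.ab s t
    unfold cm at h
    exact ⟨_, (hc _).mpr ⟨_, rfl⟩, _, (hd _).mpr ⟨_, rfl⟩, h⟩

end D

end Cfsg.Agent.Lib.helper3.SP4
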