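import Mathlib
import Cfsg.Agent.Lib.helper17.SLP.Defs
import Cfsg.Agent.Lib.helper3.SP4.Defs
import Cfsg.Agent.Lib.helper8.SP4D1

/-!
# Project SP4 (designer helper3), row D3 `rd_tor` (writer helper8): the torus `TT` normalises the four root subgroups.
-/

set_option autoImplicit false

namespace Cfsg.Agent.Lib.helper3.SP4

open Cfsg.Agent.Lib.helper17.SLP

universe u v

section D0

variable {F : Type u} [Field F] {G : Type v} [Group G]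

theorem sp4d3_rh_inv (φ : Matrix.SpecialLinearGroup (Fin 2) F →* G) (s : Fˣ) :
    (rh φ s)⁻¹ = rh φ s⁻¹ := by
  unfold rh
  rw [← map_inv, slpm1_hM_inv]

/-- if all generators `h_a(s)`, `h_b(r)` act on the additive map `X` through characters, the torus (and the inverses of its
elements) normalise `RG X` -/
theorem sp4d3_aux (φa φb : Matrix.SpecialLinearGroup (Fin 2) F →* G) (X : F → G)
    (hX : ∀ s t, X (s + t) = X s * X t)
    (h1 : ∀ s : Fˣ, ∃ c : F, Act (rh φa s) X c) (h2 : ∀ r : Fˣ, ∃ c : F, Act (rh φb r) X c) :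
    ∀ τ ∈ TT φa φb, (∀ g ∈ RG X, τ * g * τ⁻¹ ∈ RG X) ∧ (∀ g ∈ RG X, τ⁻¹ * g * τ ∈ RG X) := by
  have hm := sp4d1_mem X hX
  intro τ hτ
  unfold TT at hτ
  induction hτ using Subgroup.closure_induction with
  | mem y hy =>
    rcases hy with ⟨s, rfl⟩ | ⟨r, rfl⟩
    · refine ⟨fun g hg => ?_, fun g hg => ?_⟩
      · obtain ⟨t, rfl⟩ := (hm g).mp hg
        obtain ⟨c, hc⟩ := h1 s
        exact (hm _).mpr ⟨_, hc t⟩
      · obtain ⟨t, rfl⟩ := (hm g).mp hg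
        obtain ⟨c, hc⟩ := h1 s⁻¹
        have e : (rh φa s)⁻¹ * X t * rh φa s = rh φa s⁻¹ * X t * (rh φa s⁻¹)⁻¹ := by
          rw [← sp4d3_rh_inv, inv_inv]
        rw [e]
        exact (hm _).mpr ⟨_, hc t⟩
    · refine ⟨fun g hg => ?_, fun g hg => ?_⟩
      · obtain ⟨t, rfl⟩ := (hm g).mp hg
        obtain ⟨c, hc⟩ := h2 r
        exact (hm _).mpr ⟨_, hc t⟩
      · obtain ⟨t, rfl⟩ := (hm g).mp hg
        obtain ⟨c, hc⟩ := h2 r⁻¹
        have e : (rh φb r)⁻¹ * X t * rh φb r = rh φb r⁻¹ * X t * (rh φb r⁻¹)⁻¹ := by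
          rw [← sp4d3_rh_inv, inv_inv]
        rw [e]
        exact (hm _).mpr ⟨_, hc t⟩
  | one =>
    refine ⟨fun g hg => ?_, fun g hg => ?_⟩ <;> simpa using hg
  | mul a b _ _ iha ihb =>
    refine ⟨fun g hg => ?_, fun g hg => ?_⟩
    · have e : a * b * g * (a * b)⁻¹ = a * (b * g * b⁻¹) * a⁻¹ := by group
      rw [e]
      exact iha.1 _ (ihb.1 g hg)
    · have e : (a * b)⁻¹ * g * (a * b) = b⁻¹ * (a⁻¹ * g * a) * b := by group
      rw [e]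
      exact ihb.2 _ (iha.2 g hg)
  | inv a _ iha =>
    refine ⟨fun g hg => ?_, fun g hg => ?_⟩
    · rw [inv_inv]
      exact iha.2 g hg
    · rw [inv_inv]
      exact iha.1 g hg

end D0

section D

variable {F : Type u} [Field F] [Fintype F] {G : Type v} [Group G]

/-- D3 [M]. -/
theorem rd_tor (φa φb : Matrix.SpecialLinearGroup (Fin 2) F →* G) (R : Tor4 φa φb) :
    (∀ τ ∈ TT φa φb, ∀ g ∈ RG (rx φa), τ * g * τ⁻¹ ∈ RG (rx φa)) ∧
      (∀ τ ∈ TT φa φb, ∀ g ∈ RG (rx φb), τ * g * τ⁻¹ ∈ RG (rx φb)) ∧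
      (∀ τ ∈ TT φa φb, ∀ g ∈ RG (xc φa φb), τ * g * τ⁻¹ ∈ RG (xc φa φb)) ∧
      (∀ τ ∈ TT φa φb, ∀ g ∈ RG (xd φa φb), τ * g * τ⁻¹ ∈ RG (xd φa φb)) :=
  ⟨fun τ hτ => (sp4d3_aux φa φb (rx φa) (sp4d1_rx_add φa) (fun s => ⟨_, R.aa s⟩)
      (fun r => ⟨_, R.ab r⟩) τ hτ).1,
    fun τ hτ => (sp4d3_aux φa φb (rx φb) (sp4d1_rx_add φb) (fun s => ⟨_, R.ba s⟩)
      (fun r => ⟨_, R.bb r⟩) τ hτ).1,
    fun τ hτ => (sp4d3_aux φa φb (xc φa φb) (sp4d1_xc_add φa φb) (fun s => ⟨_, R.ca s⟩)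
      (fun r => ⟨_, R.cb r⟩) τ hτ).1,
    fun τ hτ => (sp4d3_aux φa φb (xd φa φb) (sp4d1_xd_add φa φb) (fun s => ⟨_, R.da s⟩)
      (fun r => ⟨_, R.db r⟩) τ hτ).1⟩

end D

end Cfsg.Agent.Lib.helper3.SP4
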