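import Mathlib
import Cfsg.Agent.Lib.helper17.SLP.Defs
import Cfsg.Agent.Lib.helper3.SP4.Defs
import Cfsg.Agent.Lib.helper8.SP4D1

/-!
# Project SP4 (designer helper3), row D5 `rd_weylX` (writer helper8): the Weyl elements permute the root subgroups.
-/

set_option autoImplicit false

namespace Cfsg.Agent.Lib.helper3.SP4

open Cfsg.Agent.Lib.helper17.SLP

universe u v

section D0

variable {F : Type u} [Field F] {G : Type v} [Group G]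

/-- `n X(t) n⁻¹ = Y (c t)` for all `t` maps `RG X` into `RG Y` -/
theorem sp4d5_fwd (X Y : F → G) (hX : ∀ s t, X (s + t) = X s * X t)
    (hY : ∀ s t, Y (s + t) = Y s * Y t) (n : G) (e : F → F)
    (h : ∀ t, n * X t * n⁻¹ = Y (e t)) : ∀ g ∈ RG X, n * g * n⁻¹ ∈ RG Y := by
  intro g hg
  obtain ⟨t, rfl⟩ := (sp4d1_mem X hX g).mp hg
  exact (sp4d1_mem Y hY _).mpr ⟨_, h t⟩

/-- `n X(t) n⁻¹ = Y (e t)` with `e` surjective: `n⁻¹ Y(t) n ∈ RG X` -/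
theorem sp4d5_bwd (X Y : F → G) (hX : ∀ s t, X (s + t) = X s * X t)
    (hY : ∀ s t, Y (s + t) = Y s * Y t) (n : G) (e : F → F) (he : Function.Surjective e)
    (h : ∀ t, n * X t * n⁻¹ = Y (e t)) : ∀ g ∈ RG Y, n⁻¹ * g * n ∈ RG X := by
  intro g hg
  obtain ⟨t, rfl⟩ := (sp4d1_mem Y hY g).mp hg
  obtain ⟨t', rfl⟩ := he t
  refine (sp4d1_mem X hX _).mpr ⟨t', ?_⟩
  rw [← h t']
  group

end D0

section D

variable {F : Type u} [Field F] [Fintype F] {G : Type v} [Group G]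

/-- D5 [S-M]. -/
theorem rd_weylX (φa φb : Matrix.SpecialLinearGroup (Fin 2) F →* G) (W : Wact4 φa φb) :
    (∀ g ∈ RG (rx φb), rn φa * g * (rn φa)⁻¹ ∈ RG (xd φa φb)) ∧
      (∀ g ∈ RG (xd φa φb), rn φa * g * (rn φa)⁻¹ ∈ RG (rx φb)) ∧
      (∀ g ∈ RG (xc φa φb), rn φa * g * (rn φa)⁻¹ ∈ RG (xc φa φb)) ∧
      (∀ g ∈ RG (rx φb), (rn φa)⁻¹ * g * rn φa ∈ RG (xd φa φb)) ∧
      (∀ g ∈ RG (xd φa φb), (rn φa)⁻¹ * g * rn φa ∈ RG (rx φb)) ∧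
      (∀ g ∈ RG (xc φa φb), (rn φa)⁻¹ * g * rn φa ∈ RG (xc φa φb)) ∧
      (∀ g ∈ RG (rx φa), rn φb * g * (rn φb)⁻¹ ∈ RG (xc φa φb)) ∧
      (∀ g ∈ RG (xc φa φb), rn φb * g * (rn φb)⁻¹ ∈ RG (rx φa)) ∧
      (∀ g ∈ RG (xd φa φb), rn φb * g * (rn φb)⁻¹ ∈ RG (xd φa φb)) ∧
      (∀ g ∈ RG (rx φa), (rn φb)⁻¹ * g * rn φb ∈ RG (xc φa φb)) ∧
      (∀ g ∈ RG (xc φa φb), (rn φb)⁻¹ * g * rn φb ∈ RG (rx φa)) ∧
      (∀ g ∈ RG (xd φa φb), (rn φb)⁻¹ * g * rn φb ∈ RG (xd φa φb)) := by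
  have ha := sp4d1_rx_add φa
  have hb := sp4d1_rx_add φb
  have hc := sp4d1_xc_add φa φb
  have hd := sp4d1_xd_add φa φb
  have hid : Function.Surjective (fun t : F => t) := fun t => ⟨t, rfl⟩
  have hneg : Function.Surjective (fun t : F => -t) := fun t => ⟨-t, neg_neg t⟩
  exact ⟨sp4d5_fwd _ _ hb hd _ (fun t => t) W.a_b,
    sp4d5_fwd _ _ hd hb _ (fun t => t) W.a_d,
    sp4d5_fwd _ _ hc hc _ (fun t => -t) W.a_c,
    sp4d5_bwd _ _ hd hb _ (fun t => t) hid W.a_d,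
    sp4d5_bwd _ _ hb hd _ (fun t => t) hid W.a_b,
    sp4d5_bwd _ _ hc hc _ (fun t => -t) hneg W.a_c,
    sp4d5_fwd _ _ ha hc _ (fun t => -t) W.b_a,
    sp4d5_fwd _ _ hc ha _ (fun t => t) W.b_c,
    sp4d5_fwd _ _ hd hd _ (fun t => t) W.b_d,
    sp4d5_bwd _ _ hc ha _ (fun t => t) hid W.b_c,
    sp4d5_bwd _ _ ha hc _ (fun t => -t) hneg W.b_a,
    sp4d5_bwd _ _ hd hd _ (fun t => t) hid W.b_d⟩

end D

end Cfsg.Agent.Lib.helper3.SP4
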