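import Mathlib
import Cfsg.Agent.Lib.helper23.TD4V.Defs
import Cfsg.Agent.Lib.helper23.TD4VComm0
import Cfsg.Agent.Lib.helper23.TD4VComm1
import Cfsg.Agent.Lib.helper23.TD4VComm2
import Cfsg.Agent.Lib.helper23.TD4VComm3
import Cfsg.Agent.Lib.helper8.ChevBN3

/-!
# Project T3M (matrix side of S2110; designer helper8): collection rules in `D₄(K)` (machine generated)

`X r t = x_r(t)` (helper23.TD4V).  For every ordered pair `r ≠ s` of roots of `chevD4` with `r + s ≠ 23` (not opposite):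
`t3mc_t_r_s : X s u * (X r t * z) = X r t * (X s u * (X k (± (t * u)) * z))` (or without the third factor), the commutator rule
`td4vc_c_r_s` of helper23 in tail form.  `t3mc_m_r` merges two root elements of the same root.  `t3mc_cs`, `t3mc_skL`, `t3mc_skR`:
congruence steps used to compare two collected words.
-/

set_option autoImplicit false
set_option linter.unusedSimpArgs false
set_option linter.unnecessarySeqFocus false
set_option linter.unreachableTactic false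
set_option linter.unusedTactic false
set_option linter.unusedVariables false

namespace Cfsg.Agent.Lib.helper8.T3M

open Cfsg.Lie Cfsg.Lie.ChevalleyDatum Matrix
open Cfsg.Agent.Lib.helper8
open Cfsg.Agent.Lib.helper23.TD4V

universe u

variable {K : Type u} [Field K]

theorem t3mc_cs {r : ℕ} {a b : K} {z z' : GG K} (h1 : a = b) (h2 : z = z') : X r a * z = X r b * z' := by
  rw [h1, h2]

theorem t3mc_skL {r : ℕ} {a : K} {z z' : GG K} (h1 : a = 0) (h2 : z = z') : X r a * z = z' := by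
  rw [h1, h2]
  have h : (X r 0 : GG K) = 1 := h8xU_zero chevD4 hB r
  rw [h, one_mul]

theorem t3mc_skR {r : ℕ} {b : K} {z z' : GG K} (h1 : b = 0) (h2 : z = z') : z = X r b * z' := by
  rw [h1, h2]
  have h : (X r 0 : GG K) = 1 := h8xU_zero chevD4 hB r
  rw [h, one_mul]

theorem t3mc_zero (r : ℕ) : (X r 0 : GG K) = 1 := h8xU_zero chevD4 hB r

theorem t3mc_inv (r : ℕ) (a : K) : (X r a : GG K)⁻¹ = X r (-a) := td4vc_inv r a

theorem t3mc_t_0_1 (t u : K) (z : GG K) :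
    X 1 u * (X 0 t * z) = X 0 t * (X 1 u * z) := by
  rw [← mul_assoc, td4vc_c_0_1, mul_assoc]

theorem t3mc_t_0_2 (t u : K) (z : GG K) :
    X 2 u * (X 0 t * z) = X 0 t * (X 2 u * z) := by
  rw [← mul_assoc, td4vc_c_0_2, mul_assoc]

theorem t3mc_t_0_3 (t u : K) (z : GG K) :
    X 3 u * (X 0 t * z) = X 0 t * (X 3 u * z) := by
  rw [← mul_assoc, td4vc_c_0_3, mul_assoc]

theorem t3mc_t_0_4 (t u : K) (z : GG K) :
    X 4 u * (X 0 t * z) = X 0 t * (X 4 u * z) := by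
  rw [← mul_assoc, td4vc_c_0_4, mul_assoc]

theorem t3mc_t_0_5 (t u : K) (z : GG K) :
    X 5 u * (X 0 t * z) = X 0 t * (X 5 u * z) := by
  rw [← mul_assoc, td4vc_c_0_5, mul_assoc]

theorem t3mc_t_0_6 (t u : K) (z : GG K) :
    X 6 u * (X 0 t * z) = X 0 t * (X 6 u * z) := by
  rw [← mul_assoc, td4vc_c_0_6, mul_assoc]

theorem t3mc_t_0_7 (t u : K) (z : GG K) :
    X 7 u * (X 0 t * z) = X 0 t * (X 7 u * z) := by
  rw [← mul_assoc, td4vc_c_0_7, mul_assoc]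

theorem t3mc_t_0_8 (t u : K) (z : GG K) :
    X 8 u * (X 0 t * z) = X 0 t * (X 8 u * z) := by
  rw [← mul_assoc, td4vc_c_0_8, mul_assoc]

theorem t3mc_t_0_9 (t u : K) (z : GG K) :
    X 9 u * (X 0 t * z) = X 0 t * (X 9 u * z) := by
  rw [← mul_assoc, td4vc_c_0_9, mul_assoc]

theorem t3mc_t_0_10 (t u : K) (z : GG K) :
    X 10 u * (X 0 t * z) = X 0 t * (X 10 u * z) := by
  rw [← mul_assoc, td4vc_c_0_10, mul_assoc]

theorem t3mc_t_0_11 (t u : K) (z : GG K) :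
    X 11 u * (X 0 t * z) = X 0 t * (X 11 u * z) := by
  rw [← mul_assoc, td4vc_c_0_11, mul_assoc]

theorem t3mc_t_0_12 (t u : K) (z : GG K) :
    X 12 u * (X 0 t * z) = X 0 t * (X 12 u * z) := by
  rw [← mul_assoc, td4vc_c_0_12, mul_assoc]

theorem t3mc_t_0_13 (t u : K) (z : GG K) :
    X 13 u * (X 0 t * z) = X 0 t * (X 13 u * z) := by
  rw [← mul_assoc, td4vc_c_0_13, mul_assoc]

theorem t3mc_t_0_14 (t u : K) (z : GG K) :
    X 14 u * (X 0 t * z) = X 0 t * (X 14 u * (X 1 (-(t * u)) * z)) := by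
  rw [← mul_assoc, td4vc_c_0_14, mul_assoc, mul_assoc]

theorem t3mc_t_0_15 (t u : K) (z : GG K) :
    X 15 u * (X 0 t * z) = X 0 t * (X 15 u * (X 2 (t * u) * z)) := by
  rw [← mul_assoc, td4vc_c_0_15, mul_assoc, mul_assoc]

theorem t3mc_t_0_16 (t u : K) (z : GG K) :
    X 16 u * (X 0 t * z) = X 0 t * (X 16 u * (X 3 (t * u) * z)) := by
  rw [← mul_assoc, td4vc_c_0_16, mul_assoc, mul_assoc]

theorem t3mc_t_0_17 (t u : K) (z : GG K) :
    X 17 u * (X 0 t * z) = X 0 t * (X 17 u * (X 4 (-(t * u)) * z)) := by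
  rw [← mul_assoc, td4vc_c_0_17, mul_assoc, mul_assoc]

theorem t3mc_t_0_18 (t u : K) (z : GG K) :
    X 18 u * (X 0 t * z) = X 0 t * (X 18 u * z) := by
  rw [← mul_assoc, td4vc_c_0_18, mul_assoc]

theorem t3mc_t_0_19 (t u : K) (z : GG K) :
    X 19 u * (X 0 t * z) = X 0 t * (X 19 u * (X 6 (t * u) * z)) := by
  rw [← mul_assoc, td4vc_c_0_19, mul_assoc, mul_assoc]

theorem t3mc_t_0_20 (t u : K) (z : GG K) :
    X 20 u * (X 0 t * z) = X 0 t * (X 20 u * (X 7 (-(t * u)) * z)) := by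
  rw [← mul_assoc, td4vc_c_0_20, mul_assoc, mul_assoc]

theorem t3mc_t_0_21 (t u : K) (z : GG K) :
    X 21 u * (X 0 t * z) = X 0 t * (X 21 u * (X 8 (-(t * u)) * z)) := by
  rw [← mul_assoc, td4vc_c_0_21, mul_assoc, mul_assoc]

theorem t3mc_t_0_22 (t u : K) (z : GG K) :
    X 22 u * (X 0 t * z) = X 0 t * (X 22 u * (X 9 (t * u) * z)) := by
  rw [← mul_assoc, td4vc_c_0_22, mul_assoc, mul_assoc]

theorem t3mc_t_1_0 (t u : K) (z : GG K) :
    X 0 u * (X 1 t * z) = X 1 t * (X 0 u * z) := by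
  rw [← mul_assoc, td4vc_c_1_0, mul_assoc]

theorem t3mc_t_1_2 (t u : K) (z : GG K) :
    X 2 u * (X 1 t * z) = X 1 t * (X 2 u * z) := by
  rw [← mul_assoc, td4vc_c_1_2, mul_assoc]

theorem t3mc_t_1_3 (t u : K) (z : GG K) :
    X 3 u * (X 1 t * z) = X 1 t * (X 3 u * z) := by
  rw [← mul_assoc, td4vc_c_1_3, mul_assoc]

theorem t3mc_t_1_4 (t u : K) (z : GG K) :
    X 4 u * (X 1 t * z) = X 1 t * (X 4 u * z) := by
  rw [← mul_assoc, td4vc_c_1_4, mul_assoc]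

theorem t3mc_t_1_5 (t u : K) (z : GG K) :
    X 5 u * (X 1 t * z) = X 1 t * (X 5 u * z) := by
  rw [← mul_assoc, td4vc_c_1_5, mul_assoc]

theorem t3mc_t_1_6 (t u : K) (z : GG K) :
    X 6 u * (X 1 t * z) = X 1 t * (X 6 u * z) := by
  rw [← mul_assoc, td4vc_c_1_6, mul_assoc]

theorem t3mc_t_1_7 (t u : K) (z : GG K) :
    X 7 u * (X 1 t * z) = X 1 t * (X 7 u * z) := by
  rw [← mul_assoc, td4vc_c_1_7, mul_assoc]

theorem t3mc_t_1_8 (t u : K) (z : GG K) :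
    X 8 u * (X 1 t * z) = X 1 t * (X 8 u * z) := by
  rw [← mul_assoc, td4vc_c_1_8, mul_assoc]

theorem t3mc_t_1_9 (t u : K) (z : GG K) :
    X 9 u * (X 1 t * z) = X 1 t * (X 9 u * (X 0 (-(t * u)) * z)) := by
  rw [← mul_assoc, td4vc_c_1_9, mul_assoc, mul_assoc]

theorem t3mc_t_1_10 (t u : K) (z : GG K) :
    X 10 u * (X 1 t * z) = X 1 t * (X 10 u * z) := by
  rw [← mul_assoc, td4vc_c_1_10, mul_assoc]

theorem t3mc_t_1_11 (t u : K) (z : GG K) :
    X 11 u * (X 1 t * z) = X 1 t * (X 11 u * z) := by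
  rw [← mul_assoc, td4vc_c_1_11, mul_assoc]

theorem t3mc_t_1_12 (t u : K) (z : GG K) :
    X 12 u * (X 1 t * z) = X 1 t * (X 12 u * (X 2 (-(t * u)) * z)) := by
  rw [← mul_assoc, td4vc_c_1_12, mul_assoc, mul_assoc]

theorem t3mc_t_1_13 (t u : K) (z : GG K) :
    X 13 u * (X 1 t * z) = X 1 t * (X 13 u * (X 3 (-(t * u)) * z)) := by
  rw [← mul_assoc, td4vc_c_1_13, mul_assoc, mul_assoc]

theorem t3mc_t_1_14 (t u : K) (z : GG K) :
    X 14 u * (X 1 t * z) = X 1 t * (X 14 u * z) := by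
  rw [← mul_assoc, td4vc_c_1_14, mul_assoc]

theorem t3mc_t_1_15 (t u : K) (z : GG K) :
    X 15 u * (X 1 t * z) = X 1 t * (X 15 u * z) := by
  rw [← mul_assoc, td4vc_c_1_15, mul_assoc]

theorem t3mc_t_1_16 (t u : K) (z : GG K) :
    X 16 u * (X 1 t * z) = X 1 t * (X 16 u * z) := by
  rw [← mul_assoc, td4vc_c_1_16, mul_assoc]

theorem t3mc_t_1_17 (t u : K) (z : GG K) :
    X 17 u * (X 1 t * z) = X 1 t * (X 17 u * (X 5 (-(t * u)) * z)) := by
  rw [← mul_assoc, td4vc_c_1_17, mul_assoc, mul_assoc]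

theorem t3mc_t_1_18 (t u : K) (z : GG K) :
    X 18 u * (X 1 t * z) = X 1 t * (X 18 u * (X 6 (t * u) * z)) := by
  rw [← mul_assoc, td4vc_c_1_18, mul_assoc, mul_assoc]

theorem t3mc_t_1_19 (t u : K) (z : GG K) :
    X 19 u * (X 1 t * z) = X 1 t * (X 19 u * z) := by
  rw [← mul_assoc, td4vc_c_1_19, mul_assoc]

theorem t3mc_t_1_20 (t u : K) (z : GG K) :
    X 20 u * (X 1 t * z) = X 1 t * (X 20 u * (X 10 (t * u) * z)) := by
  rw [← mul_assoc, td4vc_c_1_20, mul_assoc, mul_assoc]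

theorem t3mc_t_1_21 (t u : K) (z : GG K) :
    X 21 u * (X 1 t * z) = X 1 t * (X 21 u * (X 11 (t * u) * z)) := by
  rw [← mul_assoc, td4vc_c_1_21, mul_assoc, mul_assoc]

theorem t3mc_t_1_23 (t u : K) (z : GG K) :
    X 23 u * (X 1 t * z) = X 1 t * (X 23 u * (X 14 (t * u) * z)) := by
  rw [← mul_assoc, td4vc_c_1_23, mul_assoc, mul_assoc]

theorem t3mc_t_2_0 (t u : K) (z : GG K) :
    X 0 u * (X 2 t * z) = X 2 t * (X 0 u * z) := by
  rw [← mul_assoc, td4vc_c_2_0, mul_assoc]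

theorem t3mc_t_2_1 (t u : K) (z : GG K) :
    X 1 u * (X 2 t * z) = X 2 t * (X 1 u * z) := by
  rw [← mul_assoc, td4vc_c_2_1, mul_assoc]

theorem t3mc_t_2_3 (t u : K) (z : GG K) :
    X 3 u * (X 2 t * z) = X 2 t * (X 3 u * z) := by
  rw [← mul_assoc, td4vc_c_2_3, mul_assoc]

theorem t3mc_t_2_4 (t u : K) (z : GG K) :
    X 4 u * (X 2 t * z) = X 2 t * (X 4 u * z) := by
  rw [← mul_assoc, td4vc_c_2_4, mul_assoc]

theorem t3mc_t_2_5 (t u : K) (z : GG K) :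
    X 5 u * (X 2 t * z) = X 2 t * (X 5 u * z) := by
  rw [← mul_assoc, td4vc_c_2_5, mul_assoc]

theorem t3mc_t_2_6 (t u : K) (z : GG K) :
    X 6 u * (X 2 t * z) = X 2 t * (X 6 u * z) := by
  rw [← mul_assoc, td4vc_c_2_6, mul_assoc]

theorem t3mc_t_2_7 (t u : K) (z : GG K) :
    X 7 u * (X 2 t * z) = X 2 t * (X 7 u * z) := by
  rw [← mul_assoc, td4vc_c_2_7, mul_assoc]

theorem t3mc_t_2_8 (t u : K) (z : GG K) :
    X 8 u * (X 2 t * z) = X 2 t * (X 8 u * (X 0 (t * u) * z)) := by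
  rw [← mul_assoc, td4vc_c_2_8, mul_assoc, mul_assoc]

theorem t3mc_t_2_9 (t u : K) (z : GG K) :
    X 9 u * (X 2 t * z) = X 2 t * (X 9 u * z) := by
  rw [← mul_assoc, td4vc_c_2_9, mul_assoc]

theorem t3mc_t_2_10 (t u : K) (z : GG K) :
    X 10 u * (X 2 t * z) = X 2 t * (X 10 u * z) := by
  rw [← mul_assoc, td4vc_c_2_10, mul_assoc]

theorem t3mc_t_2_11 (t u : K) (z : GG K) :
    X 11 u * (X 2 t * z) = X 2 t * (X 11 u * (X 1 (-(t * u)) * z)) := by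
  rw [← mul_assoc, td4vc_c_2_11, mul_assoc, mul_assoc]

theorem t3mc_t_2_12 (t u : K) (z : GG K) :
    X 12 u * (X 2 t * z) = X 2 t * (X 12 u * z) := by
  rw [← mul_assoc, td4vc_c_2_12, mul_assoc]

theorem t3mc_t_2_13 (t u : K) (z : GG K) :
    X 13 u * (X 2 t * z) = X 2 t * (X 13 u * (X 4 (-(t * u)) * z)) := by
  rw [← mul_assoc, td4vc_c_2_13, mul_assoc, mul_assoc]

theorem t3mc_t_2_14 (t u : K) (z : GG K) :
    X 14 u * (X 2 t * z) = X 2 t * (X 14 u * z) := by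
  rw [← mul_assoc, td4vc_c_2_14, mul_assoc]

theorem t3mc_t_2_15 (t u : K) (z : GG K) :
    X 15 u * (X 2 t * z) = X 2 t * (X 15 u * z) := by
  rw [← mul_assoc, td4vc_c_2_15, mul_assoc]

theorem t3mc_t_2_16 (t u : K) (z : GG K) :
    X 16 u * (X 2 t * z) = X 2 t * (X 16 u * (X 5 (-(t * u)) * z)) := by
  rw [← mul_assoc, td4vc_c_2_16, mul_assoc, mul_assoc]

theorem t3mc_t_2_17 (t u : K) (z : GG K) :
    X 17 u * (X 2 t * z) = X 2 t * (X 17 u * z) := by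
  rw [← mul_assoc, td4vc_c_2_17, mul_assoc]

theorem t3mc_t_2_18 (t u : K) (z : GG K) :
    X 18 u * (X 2 t * z) = X 2 t * (X 18 u * (X 7 (t * u) * z)) := by
  rw [← mul_assoc, td4vc_c_2_18, mul_assoc, mul_assoc]

theorem t3mc_t_2_19 (t u : K) (z : GG K) :
    X 19 u * (X 2 t * z) = X 2 t * (X 19 u * (X 10 (t * u) * z)) := by
  rw [← mul_assoc, td4vc_c_2_19, mul_assoc, mul_assoc]

theorem t3mc_t_2_20 (t u : K) (z : GG K) :
    X 20 u * (X 2 t * z) = X 2 t * (X 20 u * z) := by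
  rw [← mul_assoc, td4vc_c_2_20, mul_assoc]

theorem t3mc_t_2_22 (t u : K) (z : GG K) :
    X 22 u * (X 2 t * z) = X 2 t * (X 22 u * (X 12 (t * u) * z)) := by
  rw [← mul_assoc, td4vc_c_2_22, mul_assoc, mul_assoc]

theorem t3mc_t_2_23 (t u : K) (z : GG K) :
    X 23 u * (X 2 t * z) = X 2 t * (X 23 u * (X 15 (-(t * u)) * z)) := by
  rw [← mul_assoc, td4vc_c_2_23, mul_assoc, mul_assoc]

theorem t3mc_t_3_0 (t u : K) (z : GG K) :
    X 0 u * (X 3 t * z) = X 3 t * (X 0 u * z) := by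
  rw [← mul_assoc, td4vc_c_3_0, mul_assoc]

theorem t3mc_t_3_1 (t u : K) (z : GG K) :
    X 1 u * (X 3 t * z) = X 3 t * (X 1 u * z) := by
  rw [← mul_assoc, td4vc_c_3_1, mul_assoc]

theorem t3mc_t_3_2 (t u : K) (z : GG K) :
    X 2 u * (X 3 t * z) = X 3 t * (X 2 u * z) := by
  rw [← mul_assoc, td4vc_c_3_2, mul_assoc]

theorem t3mc_t_3_4 (t u : K) (z : GG K) :
    X 4 u * (X 3 t * z) = X 3 t * (X 4 u * z) := by
  rw [← mul_assoc, td4vc_c_3_4, mul_assoc]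

theorem t3mc_t_3_5 (t u : K) (z : GG K) :
    X 5 u * (X 3 t * z) = X 3 t * (X 5 u * z) := by
  rw [← mul_assoc, td4vc_c_3_5, mul_assoc]

theorem t3mc_t_3_6 (t u : K) (z : GG K) :
    X 6 u * (X 3 t * z) = X 3 t * (X 6 u * z) := by
  rw [← mul_assoc, td4vc_c_3_6, mul_assoc]

theorem t3mc_t_3_7 (t u : K) (z : GG K) :
    X 7 u * (X 3 t * z) = X 3 t * (X 7 u * (X 0 (t * u) * z)) := by
  rw [← mul_assoc, td4vc_c_3_7, mul_assoc, mul_assoc]

theorem t3mc_t_3_8 (t u : K) (z : GG K) :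
    X 8 u * (X 3 t * z) = X 3 t * (X 8 u * z) := by
  rw [← mul_assoc, td4vc_c_3_8, mul_assoc]

theorem t3mc_t_3_9 (t u : K) (z : GG K) :
    X 9 u * (X 3 t * z) = X 3 t * (X 9 u * z) := by
  rw [← mul_assoc, td4vc_c_3_9, mul_assoc]

theorem t3mc_t_3_10 (t u : K) (z : GG K) :
    X 10 u * (X 3 t * z) = X 3 t * (X 10 u * (X 1 (-(t * u)) * z)) := by
  rw [← mul_assoc, td4vc_c_3_10, mul_assoc, mul_assoc]

theorem t3mc_t_3_11 (t u : K) (z : GG K) :
    X 11 u * (X 3 t * z) = X 3 t * (X 11 u * z) := by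
  rw [← mul_assoc, td4vc_c_3_11, mul_assoc]

theorem t3mc_t_3_12 (t u : K) (z : GG K) :
    X 12 u * (X 3 t * z) = X 3 t * (X 12 u * (X 4 (-(t * u)) * z)) := by
  rw [← mul_assoc, td4vc_c_3_12, mul_assoc, mul_assoc]

theorem t3mc_t_3_13 (t u : K) (z : GG K) :
    X 13 u * (X 3 t * z) = X 3 t * (X 13 u * z) := by
  rw [← mul_assoc, td4vc_c_3_13, mul_assoc]

theorem t3mc_t_3_14 (t u : K) (z : GG K) :
    X 14 u * (X 3 t * z) = X 3 t * (X 14 u * z) := by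
  rw [← mul_assoc, td4vc_c_3_14, mul_assoc]

theorem t3mc_t_3_15 (t u : K) (z : GG K) :
    X 15 u * (X 3 t * z) = X 3 t * (X 15 u * (X 5 (-(t * u)) * z)) := by
  rw [← mul_assoc, td4vc_c_3_15, mul_assoc, mul_assoc]

theorem t3mc_t_3_16 (t u : K) (z : GG K) :
    X 16 u * (X 3 t * z) = X 3 t * (X 16 u * z) := by
  rw [← mul_assoc, td4vc_c_3_16, mul_assoc]

theorem t3mc_t_3_17 (t u : K) (z : GG K) :
    X 17 u * (X 3 t * z) = X 3 t * (X 17 u * z) := by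
  rw [← mul_assoc, td4vc_c_3_17, mul_assoc]

theorem t3mc_t_3_18 (t u : K) (z : GG K) :
    X 18 u * (X 3 t * z) = X 3 t * (X 18 u * (X 8 (t * u) * z)) := by
  rw [← mul_assoc, td4vc_c_3_18, mul_assoc, mul_assoc]

theorem t3mc_t_3_19 (t u : K) (z : GG K) :
    X 19 u * (X 3 t * z) = X 3 t * (X 19 u * (X 11 (t * u) * z)) := by
  rw [← mul_assoc, td4vc_c_3_19, mul_assoc, mul_assoc]

theorem t3mc_t_3_21 (t u : K) (z : GG K) :
    X 21 u * (X 3 t * z) = X 3 t * (X 21 u * z) := by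
  rw [← mul_assoc, td4vc_c_3_21, mul_assoc]

theorem t3mc_t_3_22 (t u : K) (z : GG K) :
    X 22 u * (X 3 t * z) = X 3 t * (X 22 u * (X 13 (t * u) * z)) := by
  rw [← mul_assoc, td4vc_c_3_22, mul_assoc, mul_assoc]

theorem t3mc_t_3_23 (t u : K) (z : GG K) :
    X 23 u * (X 3 t * z) = X 3 t * (X 23 u * (X 16 (-(t * u)) * z)) := by
  rw [← mul_assoc, td4vc_c_3_23, mul_assoc, mul_assoc]

theorem t3mc_t_4_0 (t u : K) (z : GG K) :
    X 0 u * (X 4 t * z) = X 4 t * (X 0 u * z) := by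
  rw [← mul_assoc, td4vc_c_4_0, mul_assoc]

theorem t3mc_t_4_1 (t u : K) (z : GG K) :
    X 1 u * (X 4 t * z) = X 4 t * (X 1 u * z) := by
  rw [← mul_assoc, td4vc_c_4_1, mul_assoc]

theorem t3mc_t_4_2 (t u : K) (z : GG K) :
    X 2 u * (X 4 t * z) = X 4 t * (X 2 u * z) := by
  rw [← mul_assoc, td4vc_c_4_2, mul_assoc]

theorem t3mc_t_4_3 (t u : K) (z : GG K) :
    X 3 u * (X 4 t * z) = X 4 t * (X 3 u * z) := by
  rw [← mul_assoc, td4vc_c_4_3, mul_assoc]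

theorem t3mc_t_4_5 (t u : K) (z : GG K) :
    X 5 u * (X 4 t * z) = X 4 t * (X 5 u * z) := by
  rw [← mul_assoc, td4vc_c_4_5, mul_assoc]

theorem t3mc_t_4_6 (t u : K) (z : GG K) :
    X 6 u * (X 4 t * z) = X 4 t * (X 6 u * (X 0 (-(t * u)) * z)) := by
  rw [← mul_assoc, td4vc_c_4_6, mul_assoc, mul_assoc]

theorem t3mc_t_4_7 (t u : K) (z : GG K) :
    X 7 u * (X 4 t * z) = X 4 t * (X 7 u * z) := by
  rw [← mul_assoc, td4vc_c_4_7, mul_assoc]

theorem t3mc_t_4_8 (t u : K) (z : GG K) :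
    X 8 u * (X 4 t * z) = X 4 t * (X 8 u * z) := by
  rw [← mul_assoc, td4vc_c_4_8, mul_assoc]

theorem t3mc_t_4_9 (t u : K) (z : GG K) :
    X 9 u * (X 4 t * z) = X 4 t * (X 9 u * z) := by
  rw [← mul_assoc, td4vc_c_4_9, mul_assoc]

theorem t3mc_t_4_10 (t u : K) (z : GG K) :
    X 10 u * (X 4 t * z) = X 4 t * (X 10 u * (X 2 (-(t * u)) * z)) := by
  rw [← mul_assoc, td4vc_c_4_10, mul_assoc, mul_assoc]

theorem t3mc_t_4_11 (t u : K) (z : GG K) :
    X 11 u * (X 4 t * z) = X 4 t * (X 11 u * (X 3 (-(t * u)) * z)) := by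
  rw [← mul_assoc, td4vc_c_4_11, mul_assoc, mul_assoc]

theorem t3mc_t_4_12 (t u : K) (z : GG K) :
    X 12 u * (X 4 t * z) = X 4 t * (X 12 u * z) := by
  rw [← mul_assoc, td4vc_c_4_12, mul_assoc]

theorem t3mc_t_4_13 (t u : K) (z : GG K) :
    X 13 u * (X 4 t * z) = X 4 t * (X 13 u * z) := by
  rw [← mul_assoc, td4vc_c_4_13, mul_assoc]

theorem t3mc_t_4_14 (t u : K) (z : GG K) :
    X 14 u * (X 4 t * z) = X 4 t * (X 14 u * (X 5 (-(t * u)) * z)) := by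
  rw [← mul_assoc, td4vc_c_4_14, mul_assoc, mul_assoc]

theorem t3mc_t_4_15 (t u : K) (z : GG K) :
    X 15 u * (X 4 t * z) = X 4 t * (X 15 u * z) := by
  rw [← mul_assoc, td4vc_c_4_15, mul_assoc]

theorem t3mc_t_4_16 (t u : K) (z : GG K) :
    X 16 u * (X 4 t * z) = X 4 t * (X 16 u * z) := by
  rw [← mul_assoc, td4vc_c_4_16, mul_assoc]

theorem t3mc_t_4_17 (t u : K) (z : GG K) :
    X 17 u * (X 4 t * z) = X 4 t * (X 17 u * z) := by
  rw [← mul_assoc, td4vc_c_4_17, mul_assoc]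

theorem t3mc_t_4_18 (t u : K) (z : GG K) :
    X 18 u * (X 4 t * z) = X 4 t * (X 18 u * (X 9 (t * u) * z)) := by
  rw [← mul_assoc, td4vc_c_4_18, mul_assoc, mul_assoc]

theorem t3mc_t_4_20 (t u : K) (z : GG K) :
    X 20 u * (X 4 t * z) = X 4 t * (X 20 u * (X 12 (t * u) * z)) := by
  rw [← mul_assoc, td4vc_c_4_20, mul_assoc, mul_assoc]

theorem t3mc_t_4_21 (t u : K) (z : GG K) :
    X 21 u * (X 4 t * z) = X 4 t * (X 21 u * (X 13 (t * u) * z)) := by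
  rw [← mul_assoc, td4vc_c_4_21, mul_assoc, mul_assoc]

theorem t3mc_t_4_22 (t u : K) (z : GG K) :
    X 22 u * (X 4 t * z) = X 4 t * (X 22 u * z) := by
  rw [← mul_assoc, td4vc_c_4_22, mul_assoc]

theorem t3mc_t_4_23 (t u : K) (z : GG K) :
    X 23 u * (X 4 t * z) = X 4 t * (X 23 u * (X 17 (t * u) * z)) := by
  rw [← mul_assoc, td4vc_c_4_23, mul_assoc, mul_assoc]

theorem t3mc_t_5_0 (t u : K) (z : GG K) :
    X 0 u * (X 5 t * z) = X 5 t * (X 0 u * z) := by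
  rw [← mul_assoc, td4vc_c_5_0, mul_assoc]

theorem t3mc_t_5_1 (t u : K) (z : GG K) :
    X 1 u * (X 5 t * z) = X 5 t * (X 1 u * z) := by
  rw [← mul_assoc, td4vc_c_5_1, mul_assoc]

theorem t3mc_t_5_2 (t u : K) (z : GG K) :
    X 2 u * (X 5 t * z) = X 5 t * (X 2 u * z) := by
  rw [← mul_assoc, td4vc_c_5_2, mul_assoc]

theorem t3mc_t_5_3 (t u : K) (z : GG K) :
    X 3 u * (X 5 t * z) = X 5 t * (X 3 u * z) := by
  rw [← mul_assoc, td4vc_c_5_3, mul_assoc]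

theorem t3mc_t_5_4 (t u : K) (z : GG K) :
    X 4 u * (X 5 t * z) = X 5 t * (X 4 u * z) := by
  rw [← mul_assoc, td4vc_c_5_4, mul_assoc]

theorem t3mc_t_5_6 (t u : K) (z : GG K) :
    X 6 u * (X 5 t * z) = X 5 t * (X 6 u * (X 1 (-(t * u)) * z)) := by
  rw [← mul_assoc, td4vc_c_5_6, mul_assoc, mul_assoc]

theorem t3mc_t_5_7 (t u : K) (z : GG K) :
    X 7 u * (X 5 t * z) = X 5 t * (X 7 u * (X 2 (-(t * u)) * z)) := by
  rw [← mul_assoc, td4vc_c_5_7, mul_assoc, mul_assoc]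

theorem t3mc_t_5_8 (t u : K) (z : GG K) :
    X 8 u * (X 5 t * z) = X 5 t * (X 8 u * (X 3 (-(t * u)) * z)) := by
  rw [← mul_assoc, td4vc_c_5_8, mul_assoc, mul_assoc]

theorem t3mc_t_5_9 (t u : K) (z : GG K) :
    X 9 u * (X 5 t * z) = X 5 t * (X 9 u * (X 4 (-(t * u)) * z)) := by
  rw [← mul_assoc, td4vc_c_5_9, mul_assoc, mul_assoc]

theorem t3mc_t_5_10 (t u : K) (z : GG K) :
    X 10 u * (X 5 t * z) = X 5 t * (X 10 u * z) := by
  rw [← mul_assoc, td4vc_c_5_10, mul_assoc]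

theorem t3mc_t_5_11 (t u : K) (z : GG K) :
    X 11 u * (X 5 t * z) = X 5 t * (X 11 u * z) := by
  rw [← mul_assoc, td4vc_c_5_11, mul_assoc]

theorem t3mc_t_5_12 (t u : K) (z : GG K) :
    X 12 u * (X 5 t * z) = X 5 t * (X 12 u * z) := by
  rw [← mul_assoc, td4vc_c_5_12, mul_assoc]

theorem t3mc_t_5_13 (t u : K) (z : GG K) :
    X 13 u * (X 5 t * z) = X 5 t * (X 13 u * z) := by
  rw [← mul_assoc, td4vc_c_5_13, mul_assoc]

theorem t3mc_t_5_14 (t u : K) (z : GG K) :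
    X 14 u * (X 5 t * z) = X 5 t * (X 14 u * z) := by
  rw [← mul_assoc, td4vc_c_5_14, mul_assoc]

theorem t3mc_t_5_15 (t u : K) (z : GG K) :
    X 15 u * (X 5 t * z) = X 5 t * (X 15 u * z) := by
  rw [← mul_assoc, td4vc_c_5_15, mul_assoc]

theorem t3mc_t_5_16 (t u : K) (z : GG K) :
    X 16 u * (X 5 t * z) = X 5 t * (X 16 u * z) := by
  rw [← mul_assoc, td4vc_c_5_16, mul_assoc]

theorem t3mc_t_5_17 (t u : K) (z : GG K) :
    X 17 u * (X 5 t * z) = X 5 t * (X 17 u * z) := by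
  rw [← mul_assoc, td4vc_c_5_17, mul_assoc]

theorem t3mc_t_5_19 (t u : K) (z : GG K) :
    X 19 u * (X 5 t * z) = X 5 t * (X 19 u * (X 14 (t * u) * z)) := by
  rw [← mul_assoc, td4vc_c_5_19, mul_assoc, mul_assoc]

theorem t3mc_t_5_20 (t u : K) (z : GG K) :
    X 20 u * (X 5 t * z) = X 5 t * (X 20 u * (X 15 (t * u) * z)) := by
  rw [← mul_assoc, td4vc_c_5_20, mul_assoc, mul_assoc]

theorem t3mc_t_5_21 (t u : K) (z : GG K) :
    X 21 u * (X 5 t * z) = X 5 t * (X 21 u * (X 16 (t * u) * z)) := by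
  rw [← mul_assoc, td4vc_c_5_21, mul_assoc, mul_assoc]

theorem t3mc_t_5_22 (t u : K) (z : GG K) :
    X 22 u * (X 5 t * z) = X 5 t * (X 22 u * (X 17 (t * u) * z)) := by
  rw [← mul_assoc, td4vc_c_5_22, mul_assoc, mul_assoc]

theorem t3mc_t_5_23 (t u : K) (z : GG K) :
    X 23 u * (X 5 t * z) = X 5 t * (X 23 u * z) := by
  rw [← mul_assoc, td4vc_c_5_23, mul_assoc]

theorem t3mc_t_6_0 (t u : K) (z : GG K) :
    X 0 u * (X 6 t * z) = X 6 t * (X 0 u * z) := by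
  rw [← mul_assoc, td4vc_c_6_0, mul_assoc]

theorem t3mc_t_6_1 (t u : K) (z : GG K) :
    X 1 u * (X 6 t * z) = X 6 t * (X 1 u * z) := by
  rw [← mul_assoc, td4vc_c_6_1, mul_assoc]

theorem t3mc_t_6_2 (t u : K) (z : GG K) :
    X 2 u * (X 6 t * z) = X 6 t * (X 2 u * z) := by
  rw [← mul_assoc, td4vc_c_6_2, mul_assoc]

theorem t3mc_t_6_3 (t u : K) (z : GG K) :
    X 3 u * (X 6 t * z) = X 6 t * (X 3 u * z) := by
  rw [← mul_assoc, td4vc_c_6_3, mul_assoc]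

theorem t3mc_t_6_4 (t u : K) (z : GG K) :
    X 4 u * (X 6 t * z) = X 6 t * (X 4 u * (X 0 (t * u) * z)) := by
  rw [← mul_assoc, td4vc_c_6_4, mul_assoc, mul_assoc]

theorem t3mc_t_6_5 (t u : K) (z : GG K) :
    X 5 u * (X 6 t * z) = X 6 t * (X 5 u * (X 1 (t * u) * z)) := by
  rw [← mul_assoc, td4vc_c_6_5, mul_assoc, mul_assoc]

theorem t3mc_t_6_7 (t u : K) (z : GG K) :
    X 7 u * (X 6 t * z) = X 6 t * (X 7 u * z) := by
  rw [← mul_assoc, td4vc_c_6_7, mul_assoc]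

theorem t3mc_t_6_8 (t u : K) (z : GG K) :
    X 8 u * (X 6 t * z) = X 6 t * (X 8 u * z) := by
  rw [← mul_assoc, td4vc_c_6_8, mul_assoc]

theorem t3mc_t_6_9 (t u : K) (z : GG K) :
    X 9 u * (X 6 t * z) = X 6 t * (X 9 u * z) := by
  rw [← mul_assoc, td4vc_c_6_9, mul_assoc]

theorem t3mc_t_6_10 (t u : K) (z : GG K) :
    X 10 u * (X 6 t * z) = X 6 t * (X 10 u * z) := by
  rw [← mul_assoc, td4vc_c_6_10, mul_assoc]

theorem t3mc_t_6_11 (t u : K) (z : GG K) :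
    X 11 u * (X 6 t * z) = X 6 t * (X 11 u * z) := by
  rw [← mul_assoc, td4vc_c_6_11, mul_assoc]

theorem t3mc_t_6_12 (t u : K) (z : GG K) :
    X 12 u * (X 6 t * z) = X 6 t * (X 12 u * (X 7 (-(t * u)) * z)) := by
  rw [← mul_assoc, td4vc_c_6_12, mul_assoc, mul_assoc]

theorem t3mc_t_6_13 (t u : K) (z : GG K) :
    X 13 u * (X 6 t * z) = X 6 t * (X 13 u * (X 8 (-(t * u)) * z)) := by
  rw [← mul_assoc, td4vc_c_6_13, mul_assoc, mul_assoc]

theorem t3mc_t_6_14 (t u : K) (z : GG K) :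
    X 14 u * (X 6 t * z) = X 6 t * (X 14 u * z) := by
  rw [← mul_assoc, td4vc_c_6_14, mul_assoc]

theorem t3mc_t_6_15 (t u : K) (z : GG K) :
    X 15 u * (X 6 t * z) = X 6 t * (X 15 u * (X 10 (t * u) * z)) := by
  rw [← mul_assoc, td4vc_c_6_15, mul_assoc, mul_assoc]

theorem t3mc_t_6_16 (t u : K) (z : GG K) :
    X 16 u * (X 6 t * z) = X 6 t * (X 16 u * (X 11 (t * u) * z)) := by
  rw [← mul_assoc, td4vc_c_6_16, mul_assoc, mul_assoc]

theorem t3mc_t_6_18 (t u : K) (z : GG K) :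
    X 18 u * (X 6 t * z) = X 6 t * (X 18 u * z) := by
  rw [← mul_assoc, td4vc_c_6_18, mul_assoc]

theorem t3mc_t_6_19 (t u : K) (z : GG K) :
    X 19 u * (X 6 t * z) = X 6 t * (X 19 u * z) := by
  rw [← mul_assoc, td4vc_c_6_19, mul_assoc]

theorem t3mc_t_6_20 (t u : K) (z : GG K) :
    X 20 u * (X 6 t * z) = X 6 t * (X 20 u * z) := by
  rw [← mul_assoc, td4vc_c_6_20, mul_assoc]

theorem t3mc_t_6_21 (t u : K) (z : GG K) :
    X 21 u * (X 6 t * z) = X 6 t * (X 21 u * z) := by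
  rw [← mul_assoc, td4vc_c_6_21, mul_assoc]

theorem t3mc_t_6_22 (t u : K) (z : GG K) :
    X 22 u * (X 6 t * z) = X 6 t * (X 22 u * (X 18 (-(t * u)) * z)) := by
  rw [← mul_assoc, td4vc_c_6_22, mul_assoc, mul_assoc]

theorem t3mc_t_6_23 (t u : K) (z : GG K) :
    X 23 u * (X 6 t * z) = X 6 t * (X 23 u * (X 19 (-(t * u)) * z)) := by
  rw [← mul_assoc, td4vc_c_6_23, mul_assoc, mul_assoc]

theorem t3mc_t_7_0 (t u : K) (z : GG K) :
    X 0 u * (X 7 t * z) = X 7 t * (X 0 u * z) := by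
  rw [← mul_assoc, td4vc_c_7_0, mul_assoc]

theorem t3mc_t_7_1 (t u : K) (z : GG K) :
    X 1 u * (X 7 t * z) = X 7 t * (X 1 u * z) := by
  rw [← mul_assoc, td4vc_c_7_1, mul_assoc]

theorem t3mc_t_7_2 (t u : K) (z : GG K) :
    X 2 u * (X 7 t * z) = X 7 t * (X 2 u * z) := by
  rw [← mul_assoc, td4vc_c_7_2, mul_assoc]

theorem t3mc_t_7_3 (t u : K) (z : GG K) :
    X 3 u * (X 7 t * z) = X 7 t * (X 3 u * (X 0 (-(t * u)) * z)) := by
  rw [← mul_assoc, td4vc_c_7_3, mul_assoc, mul_assoc]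

theorem t3mc_t_7_4 (t u : K) (z : GG K) :
    X 4 u * (X 7 t * z) = X 7 t * (X 4 u * z) := by
  rw [← mul_assoc, td4vc_c_7_4, mul_assoc]

theorem t3mc_t_7_5 (t u : K) (z : GG K) :
    X 5 u * (X 7 t * z) = X 7 t * (X 5 u * (X 2 (t * u) * z)) := by
  rw [← mul_assoc, td4vc_c_7_5, mul_assoc, mul_assoc]

theorem t3mc_t_7_6 (t u : K) (z : GG K) :
    X 6 u * (X 7 t * z) = X 7 t * (X 6 u * z) := by
  rw [← mul_assoc, td4vc_c_7_6, mul_assoc]

theorem t3mc_t_7_8 (t u : K) (z : GG K) :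
    X 8 u * (X 7 t * z) = X 7 t * (X 8 u * z) := by
  rw [← mul_assoc, td4vc_c_7_8, mul_assoc]

theorem t3mc_t_7_9 (t u : K) (z : GG K) :
    X 9 u * (X 7 t * z) = X 7 t * (X 9 u * z) := by
  rw [← mul_assoc, td4vc_c_7_9, mul_assoc]

theorem t3mc_t_7_10 (t u : K) (z : GG K) :
    X 10 u * (X 7 t * z) = X 7 t * (X 10 u * z) := by
  rw [← mul_assoc, td4vc_c_7_10, mul_assoc]

theorem t3mc_t_7_11 (t u : K) (z : GG K) :
    X 11 u * (X 7 t * z) = X 7 t * (X 11 u * (X 6 (-(t * u)) * z)) := by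
  rw [← mul_assoc, td4vc_c_7_11, mul_assoc, mul_assoc]

theorem t3mc_t_7_12 (t u : K) (z : GG K) :
    X 12 u * (X 7 t * z) = X 7 t * (X 12 u * z) := by
  rw [← mul_assoc, td4vc_c_7_12, mul_assoc]

theorem t3mc_t_7_13 (t u : K) (z : GG K) :
    X 13 u * (X 7 t * z) = X 7 t * (X 13 u * (X 9 (-(t * u)) * z)) := by
  rw [← mul_assoc, td4vc_c_7_13, mul_assoc, mul_assoc]

theorem t3mc_t_7_14 (t u : K) (z : GG K) :
    X 14 u * (X 7 t * z) = X 7 t * (X 14 u * (X 10 (t * u) * z)) := by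
  rw [← mul_assoc, td4vc_c_7_14, mul_assoc, mul_assoc]

theorem t3mc_t_7_15 (t u : K) (z : GG K) :
    X 15 u * (X 7 t * z) = X 7 t * (X 15 u * z) := by
  rw [← mul_assoc, td4vc_c_7_15, mul_assoc]

theorem t3mc_t_7_17 (t u : K) (z : GG K) :
    X 17 u * (X 7 t * z) = X 7 t * (X 17 u * (X 12 (t * u) * z)) := by
  rw [← mul_assoc, td4vc_c_7_17, mul_assoc, mul_assoc]

theorem t3mc_t_7_18 (t u : K) (z : GG K) :
    X 18 u * (X 7 t * z) = X 7 t * (X 18 u * z) := by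
  rw [← mul_assoc, td4vc_c_7_18, mul_assoc]

theorem t3mc_t_7_19 (t u : K) (z : GG K) :
    X 19 u * (X 7 t * z) = X 7 t * (X 19 u * z) := by
  rw [← mul_assoc, td4vc_c_7_19, mul_assoc]

theorem t3mc_t_7_20 (t u : K) (z : GG K) :
    X 20 u * (X 7 t * z) = X 7 t * (X 20 u * z) := by
  rw [← mul_assoc, td4vc_c_7_20, mul_assoc]

theorem t3mc_t_7_21 (t u : K) (z : GG K) :
    X 21 u * (X 7 t * z) = X 7 t * (X 21 u * (X 18 (-(t * u)) * z)) := by
  rw [← mul_assoc, td4vc_c_7_21, mul_assoc, mul_assoc]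

theorem t3mc_t_7_22 (t u : K) (z : GG K) :
    X 22 u * (X 7 t * z) = X 7 t * (X 22 u * z) := by
  rw [← mul_assoc, td4vc_c_7_22, mul_assoc]

theorem t3mc_t_7_23 (t u : K) (z : GG K) :
    X 23 u * (X 7 t * z) = X 7 t * (X 23 u * (X 20 (t * u) * z)) := by
  rw [← mul_assoc, td4vc_c_7_23, mul_assoc, mul_assoc]

theorem t3mc_t_8_0 (t u : K) (z : GG K) :
    X 0 u * (X 8 t * z) = X 8 t * (X 0 u * z) := by
  rw [← mul_assoc, td4vc_c_8_0, mul_assoc]

theorem t3mc_t_8_1 (t u : K) (z : GG K) :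
    X 1 u * (X 8 t * z) = X 8 t * (X 1 u * z) := by
  rw [← mul_assoc, td4vc_c_8_1, mul_assoc]

theorem t3mc_t_8_2 (t u : K) (z : GG K) :
    X 2 u * (X 8 t * z) = X 8 t * (X 2 u * (X 0 (-(t * u)) * z)) := by
  rw [← mul_assoc, td4vc_c_8_2, mul_assoc, mul_assoc]

theorem t3mc_t_8_3 (t u : K) (z : GG K) :
    X 3 u * (X 8 t * z) = X 8 t * (X 3 u * z) := by
  rw [← mul_assoc, td4vc_c_8_3, mul_assoc]

theorem t3mc_t_8_4 (t u : K) (z : GG K) :
    X 4 u * (X 8 t * z) = X 8 t * (X 4 u * z) := by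
  rw [← mul_assoc, td4vc_c_8_4, mul_assoc]

theorem t3mc_t_8_5 (t u : K) (z : GG K) :
    X 5 u * (X 8 t * z) = X 8 t * (X 5 u * (X 3 (t * u) * z)) := by
  rw [← mul_assoc, td4vc_c_8_5, mul_assoc, mul_assoc]

theorem t3mc_t_8_6 (t u : K) (z : GG K) :
    X 6 u * (X 8 t * z) = X 8 t * (X 6 u * z) := by
  rw [← mul_assoc, td4vc_c_8_6, mul_assoc]

theorem t3mc_t_8_7 (t u : K) (z : GG K) :
    X 7 u * (X 8 t * z) = X 8 t * (X 7 u * z) := by
  rw [← mul_assoc, td4vc_c_8_7, mul_assoc]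

theorem t3mc_t_8_9 (t u : K) (z : GG K) :
    X 9 u * (X 8 t * z) = X 8 t * (X 9 u * z) := by
  rw [← mul_assoc, td4vc_c_8_9, mul_assoc]

theorem t3mc_t_8_10 (t u : K) (z : GG K) :
    X 10 u * (X 8 t * z) = X 8 t * (X 10 u * (X 6 (-(t * u)) * z)) := by
  rw [← mul_assoc, td4vc_c_8_10, mul_assoc, mul_assoc]

theorem t3mc_t_8_11 (t u : K) (z : GG K) :
    X 11 u * (X 8 t * z) = X 8 t * (X 11 u * z) := by
  rw [← mul_assoc, td4vc_c_8_11, mul_assoc]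

theorem t3mc_t_8_12 (t u : K) (z : GG K) :
    X 12 u * (X 8 t * z) = X 8 t * (X 12 u * (X 9 (-(t * u)) * z)) := by
  rw [← mul_assoc, td4vc_c_8_12, mul_assoc, mul_assoc]

theorem t3mc_t_8_13 (t u : K) (z : GG K) :
    X 13 u * (X 8 t * z) = X 8 t * (X 13 u * z) := by
  rw [← mul_assoc, td4vc_c_8_13, mul_assoc]

theorem t3mc_t_8_14 (t u : K) (z : GG K) :
    X 14 u * (X 8 t * z) = X 8 t * (X 14 u * (X 11 (t * u) * z)) := by
  rw [← mul_assoc, td4vc_c_8_14, mul_assoc, mul_assoc]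

theorem t3mc_t_8_16 (t u : K) (z : GG K) :
    X 16 u * (X 8 t * z) = X 8 t * (X 16 u * z) := by
  rw [← mul_assoc, td4vc_c_8_16, mul_assoc]

theorem t3mc_t_8_17 (t u : K) (z : GG K) :
    X 17 u * (X 8 t * z) = X 8 t * (X 17 u * (X 13 (t * u) * z)) := by
  rw [← mul_assoc, td4vc_c_8_17, mul_assoc, mul_assoc]

theorem t3mc_t_8_18 (t u : K) (z : GG K) :
    X 18 u * (X 8 t * z) = X 8 t * (X 18 u * z) := by
  rw [← mul_assoc, td4vc_c_8_18, mul_assoc]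

theorem t3mc_t_8_19 (t u : K) (z : GG K) :
    X 19 u * (X 8 t * z) = X 8 t * (X 19 u * z) := by
  rw [← mul_assoc, td4vc_c_8_19, mul_assoc]

theorem t3mc_t_8_20 (t u : K) (z : GG K) :
    X 20 u * (X 8 t * z) = X 8 t * (X 20 u * (X 18 (-(t * u)) * z)) := by
  rw [← mul_assoc, td4vc_c_8_20, mul_assoc, mul_assoc]

theorem t3mc_t_8_21 (t u : K) (z : GG K) :
    X 21 u * (X 8 t * z) = X 8 t * (X 21 u * z) := by
  rw [← mul_assoc, td4vc_c_8_21, mul_assoc]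

theorem t3mc_t_8_22 (t u : K) (z : GG K) :
    X 22 u * (X 8 t * z) = X 8 t * (X 22 u * z) := by
  rw [← mul_assoc, td4vc_c_8_22, mul_assoc]

theorem t3mc_t_8_23 (t u : K) (z : GG K) :
    X 23 u * (X 8 t * z) = X 8 t * (X 23 u * (X 21 (t * u) * z)) := by
  rw [← mul_assoc, td4vc_c_8_23, mul_assoc, mul_assoc]

theorem t3mc_t_9_0 (t u : K) (z : GG K) :
    X 0 u * (X 9 t * z) = X 9 t * (X 0 u * z) := by
  rw [← mul_assoc, td4vc_c_9_0, mul_assoc]

theorem t3mc_t_9_1 (t u : K) (z : GG K) :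
    X 1 u * (X 9 t * z) = X 9 t * (X 1 u * (X 0 (t * u) * z)) := by
  rw [← mul_assoc, td4vc_c_9_1, mul_assoc, mul_assoc]

theorem t3mc_t_9_2 (t u : K) (z : GG K) :
    X 2 u * (X 9 t * z) = X 9 t * (X 2 u * z) := by
  rw [← mul_assoc, td4vc_c_9_2, mul_assoc]

theorem t3mc_t_9_3 (t u : K) (z : GG K) :
    X 3 u * (X 9 t * z) = X 9 t * (X 3 u * z) := by
  rw [← mul_assoc, td4vc_c_9_3, mul_assoc]

theorem t3mc_t_9_4 (t u : K) (z : GG K) :
    X 4 u * (X 9 t * z) = X 9 t * (X 4 u * z) := by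
  rw [← mul_assoc, td4vc_c_9_4, mul_assoc]

theorem t3mc_t_9_5 (t u : K) (z : GG K) :
    X 5 u * (X 9 t * z) = X 9 t * (X 5 u * (X 4 (t * u) * z)) := by
  rw [← mul_assoc, td4vc_c_9_5, mul_assoc, mul_assoc]

theorem t3mc_t_9_6 (t u : K) (z : GG K) :
    X 6 u * (X 9 t * z) = X 9 t * (X 6 u * z) := by
  rw [← mul_assoc, td4vc_c_9_6, mul_assoc]

theorem t3mc_t_9_7 (t u : K) (z : GG K) :
    X 7 u * (X 9 t * z) = X 9 t * (X 7 u * z) := by
  rw [← mul_assoc, td4vc_c_9_7, mul_assoc]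

theorem t3mc_t_9_8 (t u : K) (z : GG K) :
    X 8 u * (X 9 t * z) = X 9 t * (X 8 u * z) := by
  rw [← mul_assoc, td4vc_c_9_8, mul_assoc]

theorem t3mc_t_9_10 (t u : K) (z : GG K) :
    X 10 u * (X 9 t * z) = X 9 t * (X 10 u * (X 7 (-(t * u)) * z)) := by
  rw [← mul_assoc, td4vc_c_9_10, mul_assoc, mul_assoc]

theorem t3mc_t_9_11 (t u : K) (z : GG K) :
    X 11 u * (X 9 t * z) = X 9 t * (X 11 u * (X 8 (-(t * u)) * z)) := by
  rw [← mul_assoc, td4vc_c_9_11, mul_assoc, mul_assoc]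

theorem t3mc_t_9_12 (t u : K) (z : GG K) :
    X 12 u * (X 9 t * z) = X 9 t * (X 12 u * z) := by
  rw [← mul_assoc, td4vc_c_9_12, mul_assoc]

theorem t3mc_t_9_13 (t u : K) (z : GG K) :
    X 13 u * (X 9 t * z) = X 9 t * (X 13 u * z) := by
  rw [← mul_assoc, td4vc_c_9_13, mul_assoc]

theorem t3mc_t_9_15 (t u : K) (z : GG K) :
    X 15 u * (X 9 t * z) = X 9 t * (X 15 u * (X 12 (t * u) * z)) := by
  rw [← mul_assoc, td4vc_c_9_15, mul_assoc, mul_assoc]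

theorem t3mc_t_9_16 (t u : K) (z : GG K) :
    X 16 u * (X 9 t * z) = X 9 t * (X 16 u * (X 13 (t * u) * z)) := by
  rw [← mul_assoc, td4vc_c_9_16, mul_assoc, mul_assoc]

theorem t3mc_t_9_17 (t u : K) (z : GG K) :
    X 17 u * (X 9 t * z) = X 9 t * (X 17 u * z) := by
  rw [← mul_assoc, td4vc_c_9_17, mul_assoc]

theorem t3mc_t_9_18 (t u : K) (z : GG K) :
    X 18 u * (X 9 t * z) = X 9 t * (X 18 u * z) := by
  rw [← mul_assoc, td4vc_c_9_18, mul_assoc]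

theorem t3mc_t_9_19 (t u : K) (z : GG K) :
    X 19 u * (X 9 t * z) = X 9 t * (X 19 u * (X 18 (-(t * u)) * z)) := by
  rw [← mul_assoc, td4vc_c_9_19, mul_assoc, mul_assoc]

theorem t3mc_t_9_20 (t u : K) (z : GG K) :
    X 20 u * (X 9 t * z) = X 9 t * (X 20 u * z) := by
  rw [← mul_assoc, td4vc_c_9_20, mul_assoc]

theorem t3mc_t_9_21 (t u : K) (z : GG K) :
    X 21 u * (X 9 t * z) = X 9 t * (X 21 u * z) := by
  rw [← mul_assoc, td4vc_c_9_21, mul_assoc]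

theorem t3mc_t_9_22 (t u : K) (z : GG K) :
    X 22 u * (X 9 t * z) = X 9 t * (X 22 u * z) := by
  rw [← mul_assoc, td4vc_c_9_22, mul_assoc]

theorem t3mc_t_9_23 (t u : K) (z : GG K) :
    X 23 u * (X 9 t * z) = X 9 t * (X 23 u * (X 22 (-(t * u)) * z)) := by
  rw [← mul_assoc, td4vc_c_9_23, mul_assoc, mul_assoc]

theorem t3mc_t_10_0 (t u : K) (z : GG K) :
    X 0 u * (X 10 t * z) = X 10 t * (X 0 u * z) := by
  rw [← mul_assoc, td4vc_c_10_0, mul_assoc]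

theorem t3mc_t_10_1 (t u : K) (z : GG K) :
    X 1 u * (X 10 t * z) = X 10 t * (X 1 u * z) := by
  rw [← mul_assoc, td4vc_c_10_1, mul_assoc]

theorem t3mc_t_10_2 (t u : K) (z : GG K) :
    X 2 u * (X 10 t * z) = X 10 t * (X 2 u * z) := by
  rw [← mul_assoc, td4vc_c_10_2, mul_assoc]

theorem t3mc_t_10_3 (t u : K) (z : GG K) :
    X 3 u * (X 10 t * z) = X 10 t * (X 3 u * (X 1 (t * u) * z)) := by
  rw [← mul_assoc, td4vc_c_10_3, mul_assoc, mul_assoc]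

theorem t3mc_t_10_4 (t u : K) (z : GG K) :
    X 4 u * (X 10 t * z) = X 10 t * (X 4 u * (X 2 (t * u) * z)) := by
  rw [← mul_assoc, td4vc_c_10_4, mul_assoc, mul_assoc]

theorem t3mc_t_10_5 (t u : K) (z : GG K) :
    X 5 u * (X 10 t * z) = X 10 t * (X 5 u * z) := by
  rw [← mul_assoc, td4vc_c_10_5, mul_assoc]

theorem t3mc_t_10_6 (t u : K) (z : GG K) :
    X 6 u * (X 10 t * z) = X 10 t * (X 6 u * z) := by
  rw [← mul_assoc, td4vc_c_10_6, mul_assoc]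

theorem t3mc_t_10_7 (t u : K) (z : GG K) :
    X 7 u * (X 10 t * z) = X 10 t * (X 7 u * z) := by
  rw [← mul_assoc, td4vc_c_10_7, mul_assoc]

theorem t3mc_t_10_8 (t u : K) (z : GG K) :
    X 8 u * (X 10 t * z) = X 10 t * (X 8 u * (X 6 (t * u) * z)) := by
  rw [← mul_assoc, td4vc_c_10_8, mul_assoc, mul_assoc]

theorem t3mc_t_10_9 (t u : K) (z : GG K) :
    X 9 u * (X 10 t * z) = X 10 t * (X 9 u * (X 7 (t * u) * z)) := by
  rw [← mul_assoc, td4vc_c_10_9, mul_assoc, mul_assoc]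

theorem t3mc_t_10_11 (t u : K) (z : GG K) :
    X 11 u * (X 10 t * z) = X 10 t * (X 11 u * z) := by
  rw [← mul_assoc, td4vc_c_10_11, mul_assoc]

theorem t3mc_t_10_12 (t u : K) (z : GG K) :
    X 12 u * (X 10 t * z) = X 10 t * (X 12 u * z) := by
  rw [← mul_assoc, td4vc_c_10_12, mul_assoc]

theorem t3mc_t_10_14 (t u : K) (z : GG K) :
    X 14 u * (X 10 t * z) = X 10 t * (X 14 u * z) := by
  rw [← mul_assoc, td4vc_c_10_14, mul_assoc]

theorem t3mc_t_10_15 (t u : K) (z : GG K) :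
    X 15 u * (X 10 t * z) = X 10 t * (X 15 u * z) := by
  rw [← mul_assoc, td4vc_c_10_15, mul_assoc]

theorem t3mc_t_10_16 (t u : K) (z : GG K) :
    X 16 u * (X 10 t * z) = X 10 t * (X 16 u * (X 14 (-(t * u)) * z)) := by
  rw [← mul_assoc, td4vc_c_10_16, mul_assoc, mul_assoc]

theorem t3mc_t_10_17 (t u : K) (z : GG K) :
    X 17 u * (X 10 t * z) = X 10 t * (X 17 u * (X 15 (-(t * u)) * z)) := by
  rw [← mul_assoc, td4vc_c_10_17, mul_assoc, mul_assoc]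

theorem t3mc_t_10_18 (t u : K) (z : GG K) :
    X 18 u * (X 10 t * z) = X 10 t * (X 18 u * z) := by
  rw [← mul_assoc, td4vc_c_10_18, mul_assoc]

theorem t3mc_t_10_19 (t u : K) (z : GG K) :
    X 19 u * (X 10 t * z) = X 10 t * (X 19 u * z) := by
  rw [← mul_assoc, td4vc_c_10_19, mul_assoc]

theorem t3mc_t_10_20 (t u : K) (z : GG K) :
    X 20 u * (X 10 t * z) = X 10 t * (X 20 u * z) := by
  rw [← mul_assoc, td4vc_c_10_20, mul_assoc]

theorem t3mc_t_10_21 (t u : K) (z : GG K) :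
    X 21 u * (X 10 t * z) = X 10 t * (X 21 u * (X 19 (-(t * u)) * z)) := by
  rw [← mul_assoc, td4vc_c_10_21, mul_assoc, mul_assoc]

theorem t3mc_t_10_22 (t u : K) (z : GG K) :
    X 22 u * (X 10 t * z) = X 10 t * (X 22 u * (X 20 (-(t * u)) * z)) := by
  rw [← mul_assoc, td4vc_c_10_22, mul_assoc, mul_assoc]

theorem t3mc_t_10_23 (t u : K) (z : GG K) :
    X 23 u * (X 10 t * z) = X 10 t * (X 23 u * z) := by
  rw [← mul_assoc, td4vc_c_10_23, mul_assoc]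

theorem t3mc_t_11_0 (t u : K) (z : GG K) :
    X 0 u * (X 11 t * z) = X 11 t * (X 0 u * z) := by
  rw [← mul_assoc, td4vc_c_11_0, mul_assoc]

theorem t3mc_t_11_1 (t u : K) (z : GG K) :
    X 1 u * (X 11 t * z) = X 11 t * (X 1 u * z) := by
  rw [← mul_assoc, td4vc_c_11_1, mul_assoc]

theorem t3mc_t_11_2 (t u : K) (z : GG K) :
    X 2 u * (X 11 t * z) = X 11 t * (X 2 u * (X 1 (t * u) * z)) := by
  rw [← mul_assoc, td4vc_c_11_2, mul_assoc, mul_assoc]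

theorem t3mc_t_11_3 (t u : K) (z : GG K) :
    X 3 u * (X 11 t * z) = X 11 t * (X 3 u * z) := by
  rw [← mul_assoc, td4vc_c_11_3, mul_assoc]

theorem t3mc_t_11_4 (t u : K) (z : GG K) :
    X 4 u * (X 11 t * z) = X 11 t * (X 4 u * (X 3 (t * u) * z)) := by
  rw [← mul_assoc, td4vc_c_11_4, mul_assoc, mul_assoc]

theorem t3mc_t_11_5 (t u : K) (z : GG K) :
    X 5 u * (X 11 t * z) = X 11 t * (X 5 u * z) := by
  rw [← mul_assoc, td4vc_c_11_5, mul_assoc]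

theorem t3mc_t_11_6 (t u : K) (z : GG K) :
    X 6 u * (X 11 t * z) = X 11 t * (X 6 u * z) := by
  rw [← mul_assoc, td4vc_c_11_6, mul_assoc]

theorem t3mc_t_11_7 (t u : K) (z : GG K) :
    X 7 u * (X 11 t * z) = X 11 t * (X 7 u * (X 6 (t * u) * z)) := by
  rw [← mul_assoc, td4vc_c_11_7, mul_assoc, mul_assoc]

theorem t3mc_t_11_8 (t u : K) (z : GG K) :
    X 8 u * (X 11 t * z) = X 11 t * (X 8 u * z) := by
  rw [← mul_assoc, td4vc_c_11_8, mul_assoc]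

theorem t3mc_t_11_9 (t u : K) (z : GG K) :
    X 9 u * (X 11 t * z) = X 11 t * (X 9 u * (X 8 (t * u) * z)) := by
  rw [← mul_assoc, td4vc_c_11_9, mul_assoc, mul_assoc]

theorem t3mc_t_11_10 (t u : K) (z : GG K) :
    X 10 u * (X 11 t * z) = X 11 t * (X 10 u * z) := by
  rw [← mul_assoc, td4vc_c_11_10, mul_assoc]

theorem t3mc_t_11_13 (t u : K) (z : GG K) :
    X 13 u * (X 11 t * z) = X 11 t * (X 13 u * z) := by
  rw [← mul_assoc, td4vc_c_11_13, mul_assoc]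

theorem t3mc_t_11_14 (t u : K) (z : GG K) :
    X 14 u * (X 11 t * z) = X 11 t * (X 14 u * z) := by
  rw [← mul_assoc, td4vc_c_11_14, mul_assoc]

theorem t3mc_t_11_15 (t u : K) (z : GG K) :
    X 15 u * (X 11 t * z) = X 11 t * (X 15 u * (X 14 (-(t * u)) * z)) := by
  rw [← mul_assoc, td4vc_c_11_15, mul_assoc, mul_assoc]

theorem t3mc_t_11_16 (t u : K) (z : GG K) :
    X 16 u * (X 11 t * z) = X 11 t * (X 16 u * z) := by
  rw [← mul_assoc, td4vc_c_11_16, mul_assoc]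

theorem t3mc_t_11_17 (t u : K) (z : GG K) :
    X 17 u * (X 11 t * z) = X 11 t * (X 17 u * (X 16 (-(t * u)) * z)) := by
  rw [← mul_assoc, td4vc_c_11_17, mul_assoc, mul_assoc]

theorem t3mc_t_11_18 (t u : K) (z : GG K) :
    X 18 u * (X 11 t * z) = X 11 t * (X 18 u * z) := by
  rw [← mul_assoc, td4vc_c_11_18, mul_assoc]

theorem t3mc_t_11_19 (t u : K) (z : GG K) :
    X 19 u * (X 11 t * z) = X 11 t * (X 19 u * z) := by
  rw [← mul_assoc, td4vc_c_11_19, mul_assoc]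

theorem t3mc_t_11_20 (t u : K) (z : GG K) :
    X 20 u * (X 11 t * z) = X 11 t * (X 20 u * (X 19 (-(t * u)) * z)) := by
  rw [← mul_assoc, td4vc_c_11_20, mul_assoc, mul_assoc]

theorem t3mc_t_11_21 (t u : K) (z : GG K) :
    X 21 u * (X 11 t * z) = X 11 t * (X 21 u * z) := by
  rw [← mul_assoc, td4vc_c_11_21, mul_assoc]

theorem t3mc_t_11_22 (t u : K) (z : GG K) :
    X 22 u * (X 11 t * z) = X 11 t * (X 22 u * (X 21 (-(t * u)) * z)) := by
  rw [← mul_assoc, td4vc_c_11_22, mul_assoc, mul_assoc]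

theorem t3mc_t_11_23 (t u : K) (z : GG K) :
    X 23 u * (X 11 t * z) = X 11 t * (X 23 u * z) := by
  rw [← mul_assoc, td4vc_c_11_23, mul_assoc]

theorem t3mc_t_12_0 (t u : K) (z : GG K) :
    X 0 u * (X 12 t * z) = X 12 t * (X 0 u * z) := by
  rw [← mul_assoc, td4vc_c_12_0, mul_assoc]

theorem t3mc_t_12_1 (t u : K) (z : GG K) :
    X 1 u * (X 12 t * z) = X 12 t * (X 1 u * (X 2 (t * u) * z)) := by
  rw [← mul_assoc, td4vc_c_12_1, mul_assoc, mul_assoc]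

theorem t3mc_t_12_2 (t u : K) (z : GG K) :
    X 2 u * (X 12 t * z) = X 12 t * (X 2 u * z) := by
  rw [← mul_assoc, td4vc_c_12_2, mul_assoc]

theorem t3mc_t_12_3 (t u : K) (z : GG K) :
    X 3 u * (X 12 t * z) = X 12 t * (X 3 u * (X 4 (t * u) * z)) := by
  rw [← mul_assoc, td4vc_c_12_3, mul_assoc, mul_assoc]

theorem t3mc_t_12_4 (t u : K) (z : GG K) :
    X 4 u * (X 12 t * z) = X 12 t * (X 4 u * z) := by
  rw [← mul_assoc, td4vc_c_12_4, mul_assoc]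

theorem t3mc_t_12_5 (t u : K) (z : GG K) :
    X 5 u * (X 12 t * z) = X 12 t * (X 5 u * z) := by
  rw [← mul_assoc, td4vc_c_12_5, mul_assoc]

theorem t3mc_t_12_6 (t u : K) (z : GG K) :
    X 6 u * (X 12 t * z) = X 12 t * (X 6 u * (X 7 (t * u) * z)) := by
  rw [← mul_assoc, td4vc_c_12_6, mul_assoc, mul_assoc]

theorem t3mc_t_12_7 (t u : K) (z : GG K) :
    X 7 u * (X 12 t * z) = X 12 t * (X 7 u * z) := by
  rw [← mul_assoc, td4vc_c_12_7, mul_assoc]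

theorem t3mc_t_12_8 (t u : K) (z : GG K) :
    X 8 u * (X 12 t * z) = X 12 t * (X 8 u * (X 9 (t * u) * z)) := by
  rw [← mul_assoc, td4vc_c_12_8, mul_assoc, mul_assoc]

theorem t3mc_t_12_9 (t u : K) (z : GG K) :
    X 9 u * (X 12 t * z) = X 12 t * (X 9 u * z) := by
  rw [← mul_assoc, td4vc_c_12_9, mul_assoc]

theorem t3mc_t_12_10 (t u : K) (z : GG K) :
    X 10 u * (X 12 t * z) = X 12 t * (X 10 u * z) := by
  rw [← mul_assoc, td4vc_c_12_10, mul_assoc]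

theorem t3mc_t_12_13 (t u : K) (z : GG K) :
    X 13 u * (X 12 t * z) = X 12 t * (X 13 u * z) := by
  rw [← mul_assoc, td4vc_c_12_13, mul_assoc]

theorem t3mc_t_12_14 (t u : K) (z : GG K) :
    X 14 u * (X 12 t * z) = X 12 t * (X 14 u * (X 15 (-(t * u)) * z)) := by
  rw [← mul_assoc, td4vc_c_12_14, mul_assoc, mul_assoc]

theorem t3mc_t_12_15 (t u : K) (z : GG K) :
    X 15 u * (X 12 t * z) = X 12 t * (X 15 u * z) := by
  rw [← mul_assoc, td4vc_c_12_15, mul_assoc]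

theorem t3mc_t_12_16 (t u : K) (z : GG K) :
    X 16 u * (X 12 t * z) = X 12 t * (X 16 u * (X 17 (-(t * u)) * z)) := by
  rw [← mul_assoc, td4vc_c_12_16, mul_assoc, mul_assoc]

theorem t3mc_t_12_17 (t u : K) (z : GG K) :
    X 17 u * (X 12 t * z) = X 12 t * (X 17 u * z) := by
  rw [← mul_assoc, td4vc_c_12_17, mul_assoc]

theorem t3mc_t_12_18 (t u : K) (z : GG K) :
    X 18 u * (X 12 t * z) = X 12 t * (X 18 u * z) := by
  rw [← mul_assoc, td4vc_c_12_18, mul_assoc]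

theorem t3mc_t_12_19 (t u : K) (z : GG K) :
    X 19 u * (X 12 t * z) = X 12 t * (X 19 u * (X 20 (-(t * u)) * z)) := by
  rw [← mul_assoc, td4vc_c_12_19, mul_assoc, mul_assoc]

theorem t3mc_t_12_20 (t u : K) (z : GG K) :
    X 20 u * (X 12 t * z) = X 12 t * (X 20 u * z) := by
  rw [← mul_assoc, td4vc_c_12_20, mul_assoc]

theorem t3mc_t_12_21 (t u : K) (z : GG K) :
    X 21 u * (X 12 t * z) = X 12 t * (X 21 u * (X 22 (-(t * u)) * z)) := by
  rw [← mul_assoc, td4vc_c_12_21, mul_assoc, mul_assoc]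

theorem t3mc_t_12_22 (t u : K) (z : GG K) :
    X 22 u * (X 12 t * z) = X 12 t * (X 22 u * z) := by
  rw [← mul_assoc, td4vc_c_12_22, mul_assoc]

theorem t3mc_t_12_23 (t u : K) (z : GG K) :
    X 23 u * (X 12 t * z) = X 12 t * (X 23 u * z) := by
  rw [← mul_assoc, td4vc_c_12_23, mul_assoc]

theorem t3mc_t_13_0 (t u : K) (z : GG K) :
    X 0 u * (X 13 t * z) = X 13 t * (X 0 u * z) := by
  rw [← mul_assoc, td4vc_c_13_0, mul_assoc]

theorem t3mc_t_13_1 (t u : K) (z : GG K) :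
    X 1 u * (X 13 t * z) = X 13 t * (X 1 u * (X 3 (t * u) * z)) := by
  rw [← mul_assoc, td4vc_c_13_1, mul_assoc, mul_assoc]

theorem t3mc_t_13_2 (t u : K) (z : GG K) :
    X 2 u * (X 13 t * z) = X 13 t * (X 2 u * (X 4 (t * u) * z)) := by
  rw [← mul_assoc, td4vc_c_13_2, mul_assoc, mul_assoc]

theorem t3mc_t_13_3 (t u : K) (z : GG K) :
    X 3 u * (X 13 t * z) = X 13 t * (X 3 u * z) := by
  rw [← mul_assoc, td4vc_c_13_3, mul_assoc]

theorem t3mc_t_13_4 (t u : K) (z : GG K) :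
    X 4 u * (X 13 t * z) = X 13 t * (X 4 u * z) := by
  rw [← mul_assoc, td4vc_c_13_4, mul_assoc]

theorem t3mc_t_13_5 (t u : K) (z : GG K) :
    X 5 u * (X 13 t * z) = X 13 t * (X 5 u * z) := by
  rw [← mul_assoc, td4vc_c_13_5, mul_assoc]

theorem t3mc_t_13_6 (t u : K) (z : GG K) :
    X 6 u * (X 13 t * z) = X 13 t * (X 6 u * (X 8 (t * u) * z)) := by
  rw [← mul_assoc, td4vc_c_13_6, mul_assoc, mul_assoc]

theorem t3mc_t_13_7 (t u : K) (z : GG K) :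
    X 7 u * (X 13 t * z) = X 13 t * (X 7 u * (X 9 (t * u) * z)) := by
  rw [← mul_assoc, td4vc_c_13_7, mul_assoc, mul_assoc]

theorem t3mc_t_13_8 (t u : K) (z : GG K) :
    X 8 u * (X 13 t * z) = X 13 t * (X 8 u * z) := by
  rw [← mul_assoc, td4vc_c_13_8, mul_assoc]

theorem t3mc_t_13_9 (t u : K) (z : GG K) :
    X 9 u * (X 13 t * z) = X 13 t * (X 9 u * z) := by
  rw [← mul_assoc, td4vc_c_13_9, mul_assoc]

theorem t3mc_t_13_11 (t u : K) (z : GG K) :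
    X 11 u * (X 13 t * z) = X 13 t * (X 11 u * z) := by
  rw [← mul_assoc, td4vc_c_13_11, mul_assoc]

theorem t3mc_t_13_12 (t u : K) (z : GG K) :
    X 12 u * (X 13 t * z) = X 13 t * (X 12 u * z) := by
  rw [← mul_assoc, td4vc_c_13_12, mul_assoc]

theorem t3mc_t_13_14 (t u : K) (z : GG K) :
    X 14 u * (X 13 t * z) = X 13 t * (X 14 u * (X 16 (-(t * u)) * z)) := by
  rw [← mul_assoc, td4vc_c_13_14, mul_assoc, mul_assoc]

theorem t3mc_t_13_15 (t u : K) (z : GG K) :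
    X 15 u * (X 13 t * z) = X 13 t * (X 15 u * (X 17 (-(t * u)) * z)) := by
  rw [← mul_assoc, td4vc_c_13_15, mul_assoc, mul_assoc]

theorem t3mc_t_13_16 (t u : K) (z : GG K) :
    X 16 u * (X 13 t * z) = X 13 t * (X 16 u * z) := by
  rw [← mul_assoc, td4vc_c_13_16, mul_assoc]

theorem t3mc_t_13_17 (t u : K) (z : GG K) :
    X 17 u * (X 13 t * z) = X 13 t * (X 17 u * z) := by
  rw [← mul_assoc, td4vc_c_13_17, mul_assoc]

theorem t3mc_t_13_18 (t u : K) (z : GG K) :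
    X 18 u * (X 13 t * z) = X 13 t * (X 18 u * z) := by
  rw [← mul_assoc, td4vc_c_13_18, mul_assoc]

theorem t3mc_t_13_19 (t u : K) (z : GG K) :
    X 19 u * (X 13 t * z) = X 13 t * (X 19 u * (X 21 (-(t * u)) * z)) := by
  rw [← mul_assoc, td4vc_c_13_19, mul_assoc, mul_assoc]

theorem t3mc_t_13_20 (t u : K) (z : GG K) :
    X 20 u * (X 13 t * z) = X 13 t * (X 20 u * (X 22 (-(t * u)) * z)) := by
  rw [← mul_assoc, td4vc_c_13_20, mul_assoc, mul_assoc]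

theorem t3mc_t_13_21 (t u : K) (z : GG K) :
    X 21 u * (X 13 t * z) = X 13 t * (X 21 u * z) := by
  rw [← mul_assoc, td4vc_c_13_21, mul_assoc]

theorem t3mc_t_13_22 (t u : K) (z : GG K) :
    X 22 u * (X 13 t * z) = X 13 t * (X 22 u * z) := by
  rw [← mul_assoc, td4vc_c_13_22, mul_assoc]

theorem t3mc_t_13_23 (t u : K) (z : GG K) :
    X 23 u * (X 13 t * z) = X 13 t * (X 23 u * z) := by
  rw [← mul_assoc, td4vc_c_13_23, mul_assoc]

theorem t3mc_t_14_0 (t u : K) (z : GG K) :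
    X 0 u * (X 14 t * z) = X 14 t * (X 0 u * (X 1 (t * u) * z)) := by
  rw [← mul_assoc, td4vc_c_14_0, mul_assoc, mul_assoc]

theorem t3mc_t_14_1 (t u : K) (z : GG K) :
    X 1 u * (X 14 t * z) = X 14 t * (X 1 u * z) := by
  rw [← mul_assoc, td4vc_c_14_1, mul_assoc]

theorem t3mc_t_14_2 (t u : K) (z : GG K) :
    X 2 u * (X 14 t * z) = X 14 t * (X 2 u * z) := by
  rw [← mul_assoc, td4vc_c_14_2, mul_assoc]

theorem t3mc_t_14_3 (t u : K) (z : GG K) :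
    X 3 u * (X 14 t * z) = X 14 t * (X 3 u * z) := by
  rw [← mul_assoc, td4vc_c_14_3, mul_assoc]

theorem t3mc_t_14_4 (t u : K) (z : GG K) :
    X 4 u * (X 14 t * z) = X 14 t * (X 4 u * (X 5 (t * u) * z)) := by
  rw [← mul_assoc, td4vc_c_14_4, mul_assoc, mul_assoc]

theorem t3mc_t_14_5 (t u : K) (z : GG K) :
    X 5 u * (X 14 t * z) = X 14 t * (X 5 u * z) := by
  rw [← mul_assoc, td4vc_c_14_5, mul_assoc]

theorem t3mc_t_14_6 (t u : K) (z : GG K) :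
    X 6 u * (X 14 t * z) = X 14 t * (X 6 u * z) := by
  rw [← mul_assoc, td4vc_c_14_6, mul_assoc]

theorem t3mc_t_14_7 (t u : K) (z : GG K) :
    X 7 u * (X 14 t * z) = X 14 t * (X 7 u * (X 10 (-(t * u)) * z)) := by
  rw [← mul_assoc, td4vc_c_14_7, mul_assoc, mul_assoc]

theorem t3mc_t_14_8 (t u : K) (z : GG K) :
    X 8 u * (X 14 t * z) = X 14 t * (X 8 u * (X 11 (-(t * u)) * z)) := by
  rw [← mul_assoc, td4vc_c_14_8, mul_assoc, mul_assoc]

theorem t3mc_t_14_10 (t u : K) (z : GG K) :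
    X 10 u * (X 14 t * z) = X 14 t * (X 10 u * z) := by
  rw [← mul_assoc, td4vc_c_14_10, mul_assoc]

theorem t3mc_t_14_11 (t u : K) (z : GG K) :
    X 11 u * (X 14 t * z) = X 14 t * (X 11 u * z) := by
  rw [← mul_assoc, td4vc_c_14_11, mul_assoc]

theorem t3mc_t_14_12 (t u : K) (z : GG K) :
    X 12 u * (X 14 t * z) = X 14 t * (X 12 u * (X 15 (t * u) * z)) := by
  rw [← mul_assoc, td4vc_c_14_12, mul_assoc, mul_assoc]

theorem t3mc_t_14_13 (t u : K) (z : GG K) :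
    X 13 u * (X 14 t * z) = X 14 t * (X 13 u * (X 16 (t * u) * z)) := by
  rw [← mul_assoc, td4vc_c_14_13, mul_assoc, mul_assoc]

theorem t3mc_t_14_15 (t u : K) (z : GG K) :
    X 15 u * (X 14 t * z) = X 14 t * (X 15 u * z) := by
  rw [← mul_assoc, td4vc_c_14_15, mul_assoc]

theorem t3mc_t_14_16 (t u : K) (z : GG K) :
    X 16 u * (X 14 t * z) = X 14 t * (X 16 u * z) := by
  rw [← mul_assoc, td4vc_c_14_16, mul_assoc]

theorem t3mc_t_14_17 (t u : K) (z : GG K) :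
    X 17 u * (X 14 t * z) = X 14 t * (X 17 u * z) := by
  rw [← mul_assoc, td4vc_c_14_17, mul_assoc]

theorem t3mc_t_14_18 (t u : K) (z : GG K) :
    X 18 u * (X 14 t * z) = X 14 t * (X 18 u * (X 19 (-(t * u)) * z)) := by
  rw [← mul_assoc, td4vc_c_14_18, mul_assoc, mul_assoc]

theorem t3mc_t_14_19 (t u : K) (z : GG K) :
    X 19 u * (X 14 t * z) = X 14 t * (X 19 u * z) := by
  rw [← mul_assoc, td4vc_c_14_19, mul_assoc]

theorem t3mc_t_14_20 (t u : K) (z : GG K) :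
    X 20 u * (X 14 t * z) = X 14 t * (X 20 u * z) := by
  rw [← mul_assoc, td4vc_c_14_20, mul_assoc]

theorem t3mc_t_14_21 (t u : K) (z : GG K) :
    X 21 u * (X 14 t * z) = X 14 t * (X 21 u * z) := by
  rw [← mul_assoc, td4vc_c_14_21, mul_assoc]

theorem t3mc_t_14_22 (t u : K) (z : GG K) :
    X 22 u * (X 14 t * z) = X 14 t * (X 22 u * (X 23 (-(t * u)) * z)) := by
  rw [← mul_assoc, td4vc_c_14_22, mul_assoc, mul_assoc]

theorem t3mc_t_14_23 (t u : K) (z : GG K) :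
    X 23 u * (X 14 t * z) = X 14 t * (X 23 u * z) := by
  rw [← mul_assoc, td4vc_c_14_23, mul_assoc]

theorem t3mc_t_15_0 (t u : K) (z : GG K) :
    X 0 u * (X 15 t * z) = X 15 t * (X 0 u * (X 2 (-(t * u)) * z)) := by
  rw [← mul_assoc, td4vc_c_15_0, mul_assoc, mul_assoc]

theorem t3mc_t_15_1 (t u : K) (z : GG K) :
    X 1 u * (X 15 t * z) = X 15 t * (X 1 u * z) := by
  rw [← mul_assoc, td4vc_c_15_1, mul_assoc]

theorem t3mc_t_15_2 (t u : K) (z : GG K) :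
    X 2 u * (X 15 t * z) = X 15 t * (X 2 u * z) := by
  rw [← mul_assoc, td4vc_c_15_2, mul_assoc]

theorem t3mc_t_15_3 (t u : K) (z : GG K) :
    X 3 u * (X 15 t * z) = X 15 t * (X 3 u * (X 5 (t * u) * z)) := by
  rw [← mul_assoc, td4vc_c_15_3, mul_assoc, mul_assoc]

theorem t3mc_t_15_4 (t u : K) (z : GG K) :
    X 4 u * (X 15 t * z) = X 15 t * (X 4 u * z) := by
  rw [← mul_assoc, td4vc_c_15_4, mul_assoc]

theorem t3mc_t_15_5 (t u : K) (z : GG K) :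
    X 5 u * (X 15 t * z) = X 15 t * (X 5 u * z) := by
  rw [← mul_assoc, td4vc_c_15_5, mul_assoc]

theorem t3mc_t_15_6 (t u : K) (z : GG K) :
    X 6 u * (X 15 t * z) = X 15 t * (X 6 u * (X 10 (-(t * u)) * z)) := by
  rw [← mul_assoc, td4vc_c_15_6, mul_assoc, mul_assoc]

theorem t3mc_t_15_7 (t u : K) (z : GG K) :
    X 7 u * (X 15 t * z) = X 15 t * (X 7 u * z) := by
  rw [← mul_assoc, td4vc_c_15_7, mul_assoc]

theorem t3mc_t_15_9 (t u : K) (z : GG K) :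
    X 9 u * (X 15 t * z) = X 15 t * (X 9 u * (X 12 (-(t * u)) * z)) := by
  rw [← mul_assoc, td4vc_c_15_9, mul_assoc, mul_assoc]

theorem t3mc_t_15_10 (t u : K) (z : GG K) :
    X 10 u * (X 15 t * z) = X 15 t * (X 10 u * z) := by
  rw [← mul_assoc, td4vc_c_15_10, mul_assoc]

theorem t3mc_t_15_11 (t u : K) (z : GG K) :
    X 11 u * (X 15 t * z) = X 15 t * (X 11 u * (X 14 (t * u) * z)) := by
  rw [← mul_assoc, td4vc_c_15_11, mul_assoc, mul_assoc]

theorem t3mc_t_15_12 (t u : K) (z : GG K) :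
    X 12 u * (X 15 t * z) = X 15 t * (X 12 u * z) := by
  rw [← mul_assoc, td4vc_c_15_12, mul_assoc]

theorem t3mc_t_15_13 (t u : K) (z : GG K) :
    X 13 u * (X 15 t * z) = X 15 t * (X 13 u * (X 17 (t * u) * z)) := by
  rw [← mul_assoc, td4vc_c_15_13, mul_assoc, mul_assoc]

theorem t3mc_t_15_14 (t u : K) (z : GG K) :
    X 14 u * (X 15 t * z) = X 15 t * (X 14 u * z) := by
  rw [← mul_assoc, td4vc_c_15_14, mul_assoc]

theorem t3mc_t_15_16 (t u : K) (z : GG K) :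
    X 16 u * (X 15 t * z) = X 15 t * (X 16 u * z) := by
  rw [← mul_assoc, td4vc_c_15_16, mul_assoc]

theorem t3mc_t_15_17 (t u : K) (z : GG K) :
    X 17 u * (X 15 t * z) = X 15 t * (X 17 u * z) := by
  rw [← mul_assoc, td4vc_c_15_17, mul_assoc]

theorem t3mc_t_15_18 (t u : K) (z : GG K) :
    X 18 u * (X 15 t * z) = X 15 t * (X 18 u * (X 20 (-(t * u)) * z)) := by
  rw [← mul_assoc, td4vc_c_15_18, mul_assoc, mul_assoc]

theorem t3mc_t_15_19 (t u : K) (z : GG K) :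
    X 19 u * (X 15 t * z) = X 15 t * (X 19 u * z) := by
  rw [← mul_assoc, td4vc_c_15_19, mul_assoc]

theorem t3mc_t_15_20 (t u : K) (z : GG K) :
    X 20 u * (X 15 t * z) = X 15 t * (X 20 u * z) := by
  rw [← mul_assoc, td4vc_c_15_20, mul_assoc]

theorem t3mc_t_15_21 (t u : K) (z : GG K) :
    X 21 u * (X 15 t * z) = X 15 t * (X 21 u * (X 23 (t * u) * z)) := by
  rw [← mul_assoc, td4vc_c_15_21, mul_assoc, mul_assoc]

theorem t3mc_t_15_22 (t u : K) (z : GG K) :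
    X 22 u * (X 15 t * z) = X 15 t * (X 22 u * z) := by
  rw [← mul_assoc, td4vc_c_15_22, mul_assoc]

theorem t3mc_t_15_23 (t u : K) (z : GG K) :
    X 23 u * (X 15 t * z) = X 15 t * (X 23 u * z) := by
  rw [← mul_assoc, td4vc_c_15_23, mul_assoc]

theorem t3mc_t_16_0 (t u : K) (z : GG K) :
    X 0 u * (X 16 t * z) = X 16 t * (X 0 u * (X 3 (-(t * u)) * z)) := by
  rw [← mul_assoc, td4vc_c_16_0, mul_assoc, mul_assoc]

theorem t3mc_t_16_1 (t u : K) (z : GG K) :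
    X 1 u * (X 16 t * z) = X 16 t * (X 1 u * z) := by
  rw [← mul_assoc, td4vc_c_16_1, mul_assoc]

theorem t3mc_t_16_2 (t u : K) (z : GG K) :
    X 2 u * (X 16 t * z) = X 16 t * (X 2 u * (X 5 (t * u) * z)) := by
  rw [← mul_assoc, td4vc_c_16_2, mul_assoc, mul_assoc]

theorem t3mc_t_16_3 (t u : K) (z : GG K) :
    X 3 u * (X 16 t * z) = X 16 t * (X 3 u * z) := by
  rw [← mul_assoc, td4vc_c_16_3, mul_assoc]

theorem t3mc_t_16_4 (t u : K) (z : GG K) :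
    X 4 u * (X 16 t * z) = X 16 t * (X 4 u * z) := by
  rw [← mul_assoc, td4vc_c_16_4, mul_assoc]

theorem t3mc_t_16_5 (t u : K) (z : GG K) :
    X 5 u * (X 16 t * z) = X 16 t * (X 5 u * z) := by
  rw [← mul_assoc, td4vc_c_16_5, mul_assoc]

theorem t3mc_t_16_6 (t u : K) (z : GG K) :
    X 6 u * (X 16 t * z) = X 16 t * (X 6 u * (X 11 (-(t * u)) * z)) := by
  rw [← mul_assoc, td4vc_c_16_6, mul_assoc, mul_assoc]

theorem t3mc_t_16_8 (t u : K) (z : GG K) :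
    X 8 u * (X 16 t * z) = X 16 t * (X 8 u * z) := by
  rw [← mul_assoc, td4vc_c_16_8, mul_assoc]

theorem t3mc_t_16_9 (t u : K) (z : GG K) :
    X 9 u * (X 16 t * z) = X 16 t * (X 9 u * (X 13 (-(t * u)) * z)) := by
  rw [← mul_assoc, td4vc_c_16_9, mul_assoc, mul_assoc]

theorem t3mc_t_16_10 (t u : K) (z : GG K) :
    X 10 u * (X 16 t * z) = X 16 t * (X 10 u * (X 14 (t * u) * z)) := by
  rw [← mul_assoc, td4vc_c_16_10, mul_assoc, mul_assoc]

theorem t3mc_t_16_11 (t u : K) (z : GG K) :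
    X 11 u * (X 16 t * z) = X 16 t * (X 11 u * z) := by
  rw [← mul_assoc, td4vc_c_16_11, mul_assoc]

theorem t3mc_t_16_12 (t u : K) (z : GG K) :
    X 12 u * (X 16 t * z) = X 16 t * (X 12 u * (X 17 (t * u) * z)) := by
  rw [← mul_assoc, td4vc_c_16_12, mul_assoc, mul_assoc]

theorem t3mc_t_16_13 (t u : K) (z : GG K) :
    X 13 u * (X 16 t * z) = X 16 t * (X 13 u * z) := by
  rw [← mul_assoc, td4vc_c_16_13, mul_assoc]

theorem t3mc_t_16_14 (t u : K) (z : GG K) :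
    X 14 u * (X 16 t * z) = X 16 t * (X 14 u * z) := by
  rw [← mul_assoc, td4vc_c_16_14, mul_assoc]

theorem t3mc_t_16_15 (t u : K) (z : GG K) :
    X 15 u * (X 16 t * z) = X 16 t * (X 15 u * z) := by
  rw [← mul_assoc, td4vc_c_16_15, mul_assoc]

theorem t3mc_t_16_17 (t u : K) (z : GG K) :
    X 17 u * (X 16 t * z) = X 16 t * (X 17 u * z) := by
  rw [← mul_assoc, td4vc_c_16_17, mul_assoc]

theorem t3mc_t_16_18 (t u : K) (z : GG K) :
    X 18 u * (X 16 t * z) = X 16 t * (X 18 u * (X 21 (-(t * u)) * z)) := by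
  rw [← mul_assoc, td4vc_c_16_18, mul_assoc, mul_assoc]

theorem t3mc_t_16_19 (t u : K) (z : GG K) :
    X 19 u * (X 16 t * z) = X 16 t * (X 19 u * z) := by
  rw [← mul_assoc, td4vc_c_16_19, mul_assoc]

theorem t3mc_t_16_20 (t u : K) (z : GG K) :
    X 20 u * (X 16 t * z) = X 16 t * (X 20 u * (X 23 (t * u) * z)) := by
  rw [← mul_assoc, td4vc_c_16_20, mul_assoc, mul_assoc]

theorem t3mc_t_16_21 (t u : K) (z : GG K) :
    X 21 u * (X 16 t * z) = X 16 t * (X 21 u * z) := by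
  rw [← mul_assoc, td4vc_c_16_21, mul_assoc]

theorem t3mc_t_16_22 (t u : K) (z : GG K) :
    X 22 u * (X 16 t * z) = X 16 t * (X 22 u * z) := by
  rw [← mul_assoc, td4vc_c_16_22, mul_assoc]

theorem t3mc_t_16_23 (t u : K) (z : GG K) :
    X 23 u * (X 16 t * z) = X 16 t * (X 23 u * z) := by
  rw [← mul_assoc, td4vc_c_16_23, mul_assoc]

theorem t3mc_t_17_0 (t u : K) (z : GG K) :
    X 0 u * (X 17 t * z) = X 17 t * (X 0 u * (X 4 (t * u) * z)) := by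
  rw [← mul_assoc, td4vc_c_17_0, mul_assoc, mul_assoc]

theorem t3mc_t_17_1 (t u : K) (z : GG K) :
    X 1 u * (X 17 t * z) = X 17 t * (X 1 u * (X 5 (t * u) * z)) := by
  rw [← mul_assoc, td4vc_c_17_1, mul_assoc, mul_assoc]

theorem t3mc_t_17_2 (t u : K) (z : GG K) :
    X 2 u * (X 17 t * z) = X 17 t * (X 2 u * z) := by
  rw [← mul_assoc, td4vc_c_17_2, mul_assoc]

theorem t3mc_t_17_3 (t u : K) (z : GG K) :
    X 3 u * (X 17 t * z) = X 17 t * (X 3 u * z) := by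
  rw [← mul_assoc, td4vc_c_17_3, mul_assoc]

theorem t3mc_t_17_4 (t u : K) (z : GG K) :
    X 4 u * (X 17 t * z) = X 17 t * (X 4 u * z) := by
  rw [← mul_assoc, td4vc_c_17_4, mul_assoc]

theorem t3mc_t_17_5 (t u : K) (z : GG K) :
    X 5 u * (X 17 t * z) = X 17 t * (X 5 u * z) := by
  rw [← mul_assoc, td4vc_c_17_5, mul_assoc]

theorem t3mc_t_17_7 (t u : K) (z : GG K) :
    X 7 u * (X 17 t * z) = X 17 t * (X 7 u * (X 12 (-(t * u)) * z)) := by
  rw [← mul_assoc, td4vc_c_17_7, mul_assoc, mul_assoc]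

theorem t3mc_t_17_8 (t u : K) (z : GG K) :
    X 8 u * (X 17 t * z) = X 17 t * (X 8 u * (X 13 (-(t * u)) * z)) := by
  rw [← mul_assoc, td4vc_c_17_8, mul_assoc, mul_assoc]

theorem t3mc_t_17_9 (t u : K) (z : GG K) :
    X 9 u * (X 17 t * z) = X 17 t * (X 9 u * z) := by
  rw [← mul_assoc, td4vc_c_17_9, mul_assoc]

theorem t3mc_t_17_10 (t u : K) (z : GG K) :
    X 10 u * (X 17 t * z) = X 17 t * (X 10 u * (X 15 (t * u) * z)) := by
  rw [← mul_assoc, td4vc_c_17_10, mul_assoc, mul_assoc]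

theorem t3mc_t_17_11 (t u : K) (z : GG K) :
    X 11 u * (X 17 t * z) = X 17 t * (X 11 u * (X 16 (t * u) * z)) := by
  rw [← mul_assoc, td4vc_c_17_11, mul_assoc, mul_assoc]

theorem t3mc_t_17_12 (t u : K) (z : GG K) :
    X 12 u * (X 17 t * z) = X 17 t * (X 12 u * z) := by
  rw [← mul_assoc, td4vc_c_17_12, mul_assoc]

theorem t3mc_t_17_13 (t u : K) (z : GG K) :
    X 13 u * (X 17 t * z) = X 17 t * (X 13 u * z) := by
  rw [← mul_assoc, td4vc_c_17_13, mul_assoc]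

theorem t3mc_t_17_14 (t u : K) (z : GG K) :
    X 14 u * (X 17 t * z) = X 17 t * (X 14 u * z) := by
  rw [← mul_assoc, td4vc_c_17_14, mul_assoc]

theorem t3mc_t_17_15 (t u : K) (z : GG K) :
    X 15 u * (X 17 t * z) = X 17 t * (X 15 u * z) := by
  rw [← mul_assoc, td4vc_c_17_15, mul_assoc]

theorem t3mc_t_17_16 (t u : K) (z : GG K) :
    X 16 u * (X 17 t * z) = X 17 t * (X 16 u * z) := by
  rw [← mul_assoc, td4vc_c_17_16, mul_assoc]

theorem t3mc_t_17_18 (t u : K) (z : GG K) :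
    X 18 u * (X 17 t * z) = X 17 t * (X 18 u * (X 22 (-(t * u)) * z)) := by
  rw [← mul_assoc, td4vc_c_17_18, mul_assoc, mul_assoc]

theorem t3mc_t_17_19 (t u : K) (z : GG K) :
    X 19 u * (X 17 t * z) = X 17 t * (X 19 u * (X 23 (-(t * u)) * z)) := by
  rw [← mul_assoc, td4vc_c_17_19, mul_assoc, mul_assoc]

theorem t3mc_t_17_20 (t u : K) (z : GG K) :
    X 20 u * (X 17 t * z) = X 17 t * (X 20 u * z) := by
  rw [← mul_assoc, td4vc_c_17_20, mul_assoc]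

theorem t3mc_t_17_21 (t u : K) (z : GG K) :
    X 21 u * (X 17 t * z) = X 17 t * (X 21 u * z) := by
  rw [← mul_assoc, td4vc_c_17_21, mul_assoc]

theorem t3mc_t_17_22 (t u : K) (z : GG K) :
    X 22 u * (X 17 t * z) = X 17 t * (X 22 u * z) := by
  rw [← mul_assoc, td4vc_c_17_22, mul_assoc]

theorem t3mc_t_17_23 (t u : K) (z : GG K) :
    X 23 u * (X 17 t * z) = X 17 t * (X 23 u * z) := by
  rw [← mul_assoc, td4vc_c_17_23, mul_assoc]

theorem t3mc_t_18_0 (t u : K) (z : GG K) :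
    X 0 u * (X 18 t * z) = X 18 t * (X 0 u * z) := by
  rw [← mul_assoc, td4vc_c_18_0, mul_assoc]

theorem t3mc_t_18_1 (t u : K) (z : GG K) :
    X 1 u * (X 18 t * z) = X 18 t * (X 1 u * (X 6 (-(t * u)) * z)) := by
  rw [← mul_assoc, td4vc_c_18_1, mul_assoc, mul_assoc]

theorem t3mc_t_18_2 (t u : K) (z : GG K) :
    X 2 u * (X 18 t * z) = X 18 t * (X 2 u * (X 7 (-(t * u)) * z)) := by
  rw [← mul_assoc, td4vc_c_18_2, mul_assoc, mul_assoc]

theorem t3mc_t_18_3 (t u : K) (z : GG K) :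
    X 3 u * (X 18 t * z) = X 18 t * (X 3 u * (X 8 (-(t * u)) * z)) := by
  rw [← mul_assoc, td4vc_c_18_3, mul_assoc, mul_assoc]

theorem t3mc_t_18_4 (t u : K) (z : GG K) :
    X 4 u * (X 18 t * z) = X 18 t * (X 4 u * (X 9 (-(t * u)) * z)) := by
  rw [← mul_assoc, td4vc_c_18_4, mul_assoc, mul_assoc]

theorem t3mc_t_18_6 (t u : K) (z : GG K) :
    X 6 u * (X 18 t * z) = X 18 t * (X 6 u * z) := by
  rw [← mul_assoc, td4vc_c_18_6, mul_assoc]

theorem t3mc_t_18_7 (t u : K) (z : GG K) :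
    X 7 u * (X 18 t * z) = X 18 t * (X 7 u * z) := by
  rw [← mul_assoc, td4vc_c_18_7, mul_assoc]

theorem t3mc_t_18_8 (t u : K) (z : GG K) :
    X 8 u * (X 18 t * z) = X 18 t * (X 8 u * z) := by
  rw [← mul_assoc, td4vc_c_18_8, mul_assoc]

theorem t3mc_t_18_9 (t u : K) (z : GG K) :
    X 9 u * (X 18 t * z) = X 18 t * (X 9 u * z) := by
  rw [← mul_assoc, td4vc_c_18_9, mul_assoc]

theorem t3mc_t_18_10 (t u : K) (z : GG K) :
    X 10 u * (X 18 t * z) = X 18 t * (X 10 u * z) := by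
  rw [← mul_assoc, td4vc_c_18_10, mul_assoc]

theorem t3mc_t_18_11 (t u : K) (z : GG K) :
    X 11 u * (X 18 t * z) = X 18 t * (X 11 u * z) := by
  rw [← mul_assoc, td4vc_c_18_11, mul_assoc]

theorem t3mc_t_18_12 (t u : K) (z : GG K) :
    X 12 u * (X 18 t * z) = X 18 t * (X 12 u * z) := by
  rw [← mul_assoc, td4vc_c_18_12, mul_assoc]

theorem t3mc_t_18_13 (t u : K) (z : GG K) :
    X 13 u * (X 18 t * z) = X 18 t * (X 13 u * z) := by
  rw [← mul_assoc, td4vc_c_18_13, mul_assoc]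

theorem t3mc_t_18_14 (t u : K) (z : GG K) :
    X 14 u * (X 18 t * z) = X 18 t * (X 14 u * (X 19 (t * u) * z)) := by
  rw [← mul_assoc, td4vc_c_18_14, mul_assoc, mul_assoc]

theorem t3mc_t_18_15 (t u : K) (z : GG K) :
    X 15 u * (X 18 t * z) = X 18 t * (X 15 u * (X 20 (t * u) * z)) := by
  rw [← mul_assoc, td4vc_c_18_15, mul_assoc, mul_assoc]

theorem t3mc_t_18_16 (t u : K) (z : GG K) :
    X 16 u * (X 18 t * z) = X 18 t * (X 16 u * (X 21 (t * u) * z)) := by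
  rw [← mul_assoc, td4vc_c_18_16, mul_assoc, mul_assoc]

theorem t3mc_t_18_17 (t u : K) (z : GG K) :
    X 17 u * (X 18 t * z) = X 18 t * (X 17 u * (X 22 (t * u) * z)) := by
  rw [← mul_assoc, td4vc_c_18_17, mul_assoc, mul_assoc]

theorem t3mc_t_18_19 (t u : K) (z : GG K) :
    X 19 u * (X 18 t * z) = X 18 t * (X 19 u * z) := by
  rw [← mul_assoc, td4vc_c_18_19, mul_assoc]

theorem t3mc_t_18_20 (t u : K) (z : GG K) :
    X 20 u * (X 18 t * z) = X 18 t * (X 20 u * z) := by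
  rw [← mul_assoc, td4vc_c_18_20, mul_assoc]

theorem t3mc_t_18_21 (t u : K) (z : GG K) :
    X 21 u * (X 18 t * z) = X 18 t * (X 21 u * z) := by
  rw [← mul_assoc, td4vc_c_18_21, mul_assoc]

theorem t3mc_t_18_22 (t u : K) (z : GG K) :
    X 22 u * (X 18 t * z) = X 18 t * (X 22 u * z) := by
  rw [← mul_assoc, td4vc_c_18_22, mul_assoc]

theorem t3mc_t_18_23 (t u : K) (z : GG K) :
    X 23 u * (X 18 t * z) = X 18 t * (X 23 u * z) := by
  rw [← mul_assoc, td4vc_c_18_23, mul_assoc]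

theorem t3mc_t_19_0 (t u : K) (z : GG K) :
    X 0 u * (X 19 t * z) = X 19 t * (X 0 u * (X 6 (-(t * u)) * z)) := by
  rw [← mul_assoc, td4vc_c_19_0, mul_assoc, mul_assoc]

theorem t3mc_t_19_1 (t u : K) (z : GG K) :
    X 1 u * (X 19 t * z) = X 19 t * (X 1 u * z) := by
  rw [← mul_assoc, td4vc_c_19_1, mul_assoc]

theorem t3mc_t_19_2 (t u : K) (z : GG K) :
    X 2 u * (X 19 t * z) = X 19 t * (X 2 u * (X 10 (-(t * u)) * z)) := by
  rw [← mul_assoc, td4vc_c_19_2, mul_assoc, mul_assoc]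

theorem t3mc_t_19_3 (t u : K) (z : GG K) :
    X 3 u * (X 19 t * z) = X 19 t * (X 3 u * (X 11 (-(t * u)) * z)) := by
  rw [← mul_assoc, td4vc_c_19_3, mul_assoc, mul_assoc]

theorem t3mc_t_19_5 (t u : K) (z : GG K) :
    X 5 u * (X 19 t * z) = X 19 t * (X 5 u * (X 14 (-(t * u)) * z)) := by
  rw [← mul_assoc, td4vc_c_19_5, mul_assoc, mul_assoc]

theorem t3mc_t_19_6 (t u : K) (z : GG K) :
    X 6 u * (X 19 t * z) = X 19 t * (X 6 u * z) := by
  rw [← mul_assoc, td4vc_c_19_6, mul_assoc]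

theorem t3mc_t_19_7 (t u : K) (z : GG K) :
    X 7 u * (X 19 t * z) = X 19 t * (X 7 u * z) := by
  rw [← mul_assoc, td4vc_c_19_7, mul_assoc]

theorem t3mc_t_19_8 (t u : K) (z : GG K) :
    X 8 u * (X 19 t * z) = X 19 t * (X 8 u * z) := by
  rw [← mul_assoc, td4vc_c_19_8, mul_assoc]

theorem t3mc_t_19_9 (t u : K) (z : GG K) :
    X 9 u * (X 19 t * z) = X 19 t * (X 9 u * (X 18 (t * u) * z)) := by
  rw [← mul_assoc, td4vc_c_19_9, mul_assoc, mul_assoc]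

theorem t3mc_t_19_10 (t u : K) (z : GG K) :
    X 10 u * (X 19 t * z) = X 19 t * (X 10 u * z) := by
  rw [← mul_assoc, td4vc_c_19_10, mul_assoc]

theorem t3mc_t_19_11 (t u : K) (z : GG K) :
    X 11 u * (X 19 t * z) = X 19 t * (X 11 u * z) := by
  rw [← mul_assoc, td4vc_c_19_11, mul_assoc]

theorem t3mc_t_19_12 (t u : K) (z : GG K) :
    X 12 u * (X 19 t * z) = X 19 t * (X 12 u * (X 20 (t * u) * z)) := by
  rw [← mul_assoc, td4vc_c_19_12, mul_assoc, mul_assoc]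

theorem t3mc_t_19_13 (t u : K) (z : GG K) :
    X 13 u * (X 19 t * z) = X 19 t * (X 13 u * (X 21 (t * u) * z)) := by
  rw [← mul_assoc, td4vc_c_19_13, mul_assoc, mul_assoc]

theorem t3mc_t_19_14 (t u : K) (z : GG K) :
    X 14 u * (X 19 t * z) = X 19 t * (X 14 u * z) := by
  rw [← mul_assoc, td4vc_c_19_14, mul_assoc]

theorem t3mc_t_19_15 (t u : K) (z : GG K) :
    X 15 u * (X 19 t * z) = X 19 t * (X 15 u * z) := by
  rw [← mul_assoc, td4vc_c_19_15, mul_assoc]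

theorem t3mc_t_19_16 (t u : K) (z : GG K) :
    X 16 u * (X 19 t * z) = X 19 t * (X 16 u * z) := by
  rw [← mul_assoc, td4vc_c_19_16, mul_assoc]

theorem t3mc_t_19_17 (t u : K) (z : GG K) :
    X 17 u * (X 19 t * z) = X 19 t * (X 17 u * (X 23 (t * u) * z)) := by
  rw [← mul_assoc, td4vc_c_19_17, mul_assoc, mul_assoc]

theorem t3mc_t_19_18 (t u : K) (z : GG K) :
    X 18 u * (X 19 t * z) = X 19 t * (X 18 u * z) := by
  rw [← mul_assoc, td4vc_c_19_18, mul_assoc]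

theorem t3mc_t_19_20 (t u : K) (z : GG K) :
    X 20 u * (X 19 t * z) = X 19 t * (X 20 u * z) := by
  rw [← mul_assoc, td4vc_c_19_20, mul_assoc]

theorem t3mc_t_19_21 (t u : K) (z : GG K) :
    X 21 u * (X 19 t * z) = X 19 t * (X 21 u * z) := by
  rw [← mul_assoc, td4vc_c_19_21, mul_assoc]

theorem t3mc_t_19_22 (t u : K) (z : GG K) :
    X 22 u * (X 19 t * z) = X 19 t * (X 22 u * z) := by
  rw [← mul_assoc, td4vc_c_19_22, mul_assoc]

theorem t3mc_t_19_23 (t u : K) (z : GG K) :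
    X 23 u * (X 19 t * z) = X 19 t * (X 23 u * z) := by
  rw [← mul_assoc, td4vc_c_19_23, mul_assoc]

theorem t3mc_t_20_0 (t u : K) (z : GG K) :
    X 0 u * (X 20 t * z) = X 20 t * (X 0 u * (X 7 (t * u) * z)) := by
  rw [← mul_assoc, td4vc_c_20_0, mul_assoc, mul_assoc]

theorem t3mc_t_20_1 (t u : K) (z : GG K) :
    X 1 u * (X 20 t * z) = X 20 t * (X 1 u * (X 10 (-(t * u)) * z)) := by
  rw [← mul_assoc, td4vc_c_20_1, mul_assoc, mul_assoc]

theorem t3mc_t_20_2 (t u : K) (z : GG K) :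
    X 2 u * (X 20 t * z) = X 20 t * (X 2 u * z) := by
  rw [← mul_assoc, td4vc_c_20_2, mul_assoc]

theorem t3mc_t_20_4 (t u : K) (z : GG K) :
    X 4 u * (X 20 t * z) = X 20 t * (X 4 u * (X 12 (-(t * u)) * z)) := by
  rw [← mul_assoc, td4vc_c_20_4, mul_assoc, mul_assoc]

theorem t3mc_t_20_5 (t u : K) (z : GG K) :
    X 5 u * (X 20 t * z) = X 20 t * (X 5 u * (X 15 (-(t * u)) * z)) := by
  rw [← mul_assoc, td4vc_c_20_5, mul_assoc, mul_assoc]

theorem t3mc_t_20_6 (t u : K) (z : GG K) :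
    X 6 u * (X 20 t * z) = X 20 t * (X 6 u * z) := by
  rw [← mul_assoc, td4vc_c_20_6, mul_assoc]

theorem t3mc_t_20_7 (t u : K) (z : GG K) :
    X 7 u * (X 20 t * z) = X 20 t * (X 7 u * z) := by
  rw [← mul_assoc, td4vc_c_20_7, mul_assoc]

theorem t3mc_t_20_8 (t u : K) (z : GG K) :
    X 8 u * (X 20 t * z) = X 20 t * (X 8 u * (X 18 (t * u) * z)) := by
  rw [← mul_assoc, td4vc_c_20_8, mul_assoc, mul_assoc]

theorem t3mc_t_20_9 (t u : K) (z : GG K) :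
    X 9 u * (X 20 t * z) = X 20 t * (X 9 u * z) := by
  rw [← mul_assoc, td4vc_c_20_9, mul_assoc]

theorem t3mc_t_20_10 (t u : K) (z : GG K) :
    X 10 u * (X 20 t * z) = X 20 t * (X 10 u * z) := by
  rw [← mul_assoc, td4vc_c_20_10, mul_assoc]

theorem t3mc_t_20_11 (t u : K) (z : GG K) :
    X 11 u * (X 20 t * z) = X 20 t * (X 11 u * (X 19 (t * u) * z)) := by
  rw [← mul_assoc, td4vc_c_20_11, mul_assoc, mul_assoc]

theorem t3mc_t_20_12 (t u : K) (z : GG K) :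
    X 12 u * (X 20 t * z) = X 20 t * (X 12 u * z) := by
  rw [← mul_assoc, td4vc_c_20_12, mul_assoc]

theorem t3mc_t_20_13 (t u : K) (z : GG K) :
    X 13 u * (X 20 t * z) = X 20 t * (X 13 u * (X 22 (t * u) * z)) := by
  rw [← mul_assoc, td4vc_c_20_13, mul_assoc, mul_assoc]

theorem t3mc_t_20_14 (t u : K) (z : GG K) :
    X 14 u * (X 20 t * z) = X 20 t * (X 14 u * z) := by
  rw [← mul_assoc, td4vc_c_20_14, mul_assoc]

theorem t3mc_t_20_15 (t u : K) (z : GG K) :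
    X 15 u * (X 20 t * z) = X 20 t * (X 15 u * z) := by
  rw [← mul_assoc, td4vc_c_20_15, mul_assoc]

theorem t3mc_t_20_16 (t u : K) (z : GG K) :
    X 16 u * (X 20 t * z) = X 20 t * (X 16 u * (X 23 (-(t * u)) * z)) := by
  rw [← mul_assoc, td4vc_c_20_16, mul_assoc, mul_assoc]

theorem t3mc_t_20_17 (t u : K) (z : GG K) :
    X 17 u * (X 20 t * z) = X 20 t * (X 17 u * z) := by
  rw [← mul_assoc, td4vc_c_20_17, mul_assoc]

theorem t3mc_t_20_18 (t u : K) (z : GG K) :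
    X 18 u * (X 20 t * z) = X 20 t * (X 18 u * z) := by
  rw [← mul_assoc, td4vc_c_20_18, mul_assoc]

theorem t3mc_t_20_19 (t u : K) (z : GG K) :
    X 19 u * (X 20 t * z) = X 20 t * (X 19 u * z) := by
  rw [← mul_assoc, td4vc_c_20_19, mul_assoc]

theorem t3mc_t_20_21 (t u : K) (z : GG K) :
    X 21 u * (X 20 t * z) = X 20 t * (X 21 u * z) := by
  rw [← mul_assoc, td4vc_c_20_21, mul_assoc]

theorem t3mc_t_20_22 (t u : K) (z : GG K) :
    X 22 u * (X 20 t * z) = X 20 t * (X 22 u * z) := by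
  rw [← mul_assoc, td4vc_c_20_22, mul_assoc]

theorem t3mc_t_20_23 (t u : K) (z : GG K) :
    X 23 u * (X 20 t * z) = X 20 t * (X 23 u * z) := by
  rw [← mul_assoc, td4vc_c_20_23, mul_assoc]

theorem t3mc_t_21_0 (t u : K) (z : GG K) :
    X 0 u * (X 21 t * z) = X 21 t * (X 0 u * (X 8 (t * u) * z)) := by
  rw [← mul_assoc, td4vc_c_21_0, mul_assoc, mul_assoc]

theorem t3mc_t_21_1 (t u : K) (z : GG K) :
    X 1 u * (X 21 t * z) = X 21 t * (X 1 u * (X 11 (-(t * u)) * z)) := by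
  rw [← mul_assoc, td4vc_c_21_1, mul_assoc, mul_assoc]

theorem t3mc_t_21_3 (t u : K) (z : GG K) :
    X 3 u * (X 21 t * z) = X 21 t * (X 3 u * z) := by
  rw [← mul_assoc, td4vc_c_21_3, mul_assoc]

theorem t3mc_t_21_4 (t u : K) (z : GG K) :
    X 4 u * (X 21 t * z) = X 21 t * (X 4 u * (X 13 (-(t * u)) * z)) := by
  rw [← mul_assoc, td4vc_c_21_4, mul_assoc, mul_assoc]

theorem t3mc_t_21_5 (t u : K) (z : GG K) :
    X 5 u * (X 21 t * z) = X 21 t * (X 5 u * (X 16 (-(t * u)) * z)) := by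
  rw [← mul_assoc, td4vc_c_21_5, mul_assoc, mul_assoc]

theorem t3mc_t_21_6 (t u : K) (z : GG K) :
    X 6 u * (X 21 t * z) = X 21 t * (X 6 u * z) := by
  rw [← mul_assoc, td4vc_c_21_6, mul_assoc]

theorem t3mc_t_21_7 (t u : K) (z : GG K) :
    X 7 u * (X 21 t * z) = X 21 t * (X 7 u * (X 18 (t * u) * z)) := by
  rw [← mul_assoc, td4vc_c_21_7, mul_assoc, mul_assoc]

theorem t3mc_t_21_8 (t u : K) (z : GG K) :
    X 8 u * (X 21 t * z) = X 21 t * (X 8 u * z) := by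
  rw [← mul_assoc, td4vc_c_21_8, mul_assoc]

theorem t3mc_t_21_9 (t u : K) (z : GG K) :
    X 9 u * (X 21 t * z) = X 21 t * (X 9 u * z) := by
  rw [← mul_assoc, td4vc_c_21_9, mul_assoc]

theorem t3mc_t_21_10 (t u : K) (z : GG K) :
    X 10 u * (X 21 t * z) = X 21 t * (X 10 u * (X 19 (t * u) * z)) := by
  rw [← mul_assoc, td4vc_c_21_10, mul_assoc, mul_assoc]

theorem t3mc_t_21_11 (t u : K) (z : GG K) :
    X 11 u * (X 21 t * z) = X 21 t * (X 11 u * z) := by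
  rw [← mul_assoc, td4vc_c_21_11, mul_assoc]

theorem t3mc_t_21_12 (t u : K) (z : GG K) :
    X 12 u * (X 21 t * z) = X 21 t * (X 12 u * (X 22 (t * u) * z)) := by
  rw [← mul_assoc, td4vc_c_21_12, mul_assoc, mul_assoc]

theorem t3mc_t_21_13 (t u : K) (z : GG K) :
    X 13 u * (X 21 t * z) = X 21 t * (X 13 u * z) := by
  rw [← mul_assoc, td4vc_c_21_13, mul_assoc]

theorem t3mc_t_21_14 (t u : K) (z : GG K) :
    X 14 u * (X 21 t * z) = X 21 t * (X 14 u * z) := by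
  rw [← mul_assoc, td4vc_c_21_14, mul_assoc]

theorem t3mc_t_21_15 (t u : K) (z : GG K) :
    X 15 u * (X 21 t * z) = X 21 t * (X 15 u * (X 23 (-(t * u)) * z)) := by
  rw [← mul_assoc, td4vc_c_21_15, mul_assoc, mul_assoc]

theorem t3mc_t_21_16 (t u : K) (z : GG K) :
    X 16 u * (X 21 t * z) = X 21 t * (X 16 u * z) := by
  rw [← mul_assoc, td4vc_c_21_16, mul_assoc]

theorem t3mc_t_21_17 (t u : K) (z : GG K) :
    X 17 u * (X 21 t * z) = X 21 t * (X 17 u * z) := by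
  rw [← mul_assoc, td4vc_c_21_17, mul_assoc]

theorem t3mc_t_21_18 (t u : K) (z : GG K) :
    X 18 u * (X 21 t * z) = X 21 t * (X 18 u * z) := by
  rw [← mul_assoc, td4vc_c_21_18, mul_assoc]

theorem t3mc_t_21_19 (t u : K) (z : GG K) :
    X 19 u * (X 21 t * z) = X 21 t * (X 19 u * z) := by
  rw [← mul_assoc, td4vc_c_21_19, mul_assoc]

theorem t3mc_t_21_20 (t u : K) (z : GG K) :
    X 20 u * (X 21 t * z) = X 21 t * (X 20 u * z) := by
  rw [← mul_assoc, td4vc_c_21_20, mul_assoc]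

theorem t3mc_t_21_22 (t u : K) (z : GG K) :
    X 22 u * (X 21 t * z) = X 21 t * (X 22 u * z) := by
  rw [← mul_assoc, td4vc_c_21_22, mul_assoc]

theorem t3mc_t_21_23 (t u : K) (z : GG K) :
    X 23 u * (X 21 t * z) = X 21 t * (X 23 u * z) := by
  rw [← mul_assoc, td4vc_c_21_23, mul_assoc]

theorem t3mc_t_22_0 (t u : K) (z : GG K) :
    X 0 u * (X 22 t * z) = X 22 t * (X 0 u * (X 9 (-(t * u)) * z)) := by
  rw [← mul_assoc, td4vc_c_22_0, mul_assoc, mul_assoc]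

theorem t3mc_t_22_2 (t u : K) (z : GG K) :
    X 2 u * (X 22 t * z) = X 22 t * (X 2 u * (X 12 (-(t * u)) * z)) := by
  rw [← mul_assoc, td4vc_c_22_2, mul_assoc, mul_assoc]

theorem t3mc_t_22_3 (t u : K) (z : GG K) :
    X 3 u * (X 22 t * z) = X 22 t * (X 3 u * (X 13 (-(t * u)) * z)) := by
  rw [← mul_assoc, td4vc_c_22_3, mul_assoc, mul_assoc]

theorem t3mc_t_22_4 (t u : K) (z : GG K) :
    X 4 u * (X 22 t * z) = X 22 t * (X 4 u * z) := by
  rw [← mul_assoc, td4vc_c_22_4, mul_assoc]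

theorem t3mc_t_22_5 (t u : K) (z : GG K) :
    X 5 u * (X 22 t * z) = X 22 t * (X 5 u * (X 17 (-(t * u)) * z)) := by
  rw [← mul_assoc, td4vc_c_22_5, mul_assoc, mul_assoc]

theorem t3mc_t_22_6 (t u : K) (z : GG K) :
    X 6 u * (X 22 t * z) = X 22 t * (X 6 u * (X 18 (t * u) * z)) := by
  rw [← mul_assoc, td4vc_c_22_6, mul_assoc, mul_assoc]

theorem t3mc_t_22_7 (t u : K) (z : GG K) :
    X 7 u * (X 22 t * z) = X 22 t * (X 7 u * z) := by
  rw [← mul_assoc, td4vc_c_22_7, mul_assoc]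

theorem t3mc_t_22_8 (t u : K) (z : GG K) :
    X 8 u * (X 22 t * z) = X 22 t * (X 8 u * z) := by
  rw [← mul_assoc, td4vc_c_22_8, mul_assoc]

theorem t3mc_t_22_9 (t u : K) (z : GG K) :
    X 9 u * (X 22 t * z) = X 22 t * (X 9 u * z) := by
  rw [← mul_assoc, td4vc_c_22_9, mul_assoc]

theorem t3mc_t_22_10 (t u : K) (z : GG K) :
    X 10 u * (X 22 t * z) = X 22 t * (X 10 u * (X 20 (t * u) * z)) := by
  rw [← mul_assoc, td4vc_c_22_10, mul_assoc, mul_assoc]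

theorem t3mc_t_22_11 (t u : K) (z : GG K) :
    X 11 u * (X 22 t * z) = X 22 t * (X 11 u * (X 21 (t * u) * z)) := by
  rw [← mul_assoc, td4vc_c_22_11, mul_assoc, mul_assoc]

theorem t3mc_t_22_12 (t u : K) (z : GG K) :
    X 12 u * (X 22 t * z) = X 22 t * (X 12 u * z) := by
  rw [← mul_assoc, td4vc_c_22_12, mul_assoc]

theorem t3mc_t_22_13 (t u : K) (z : GG K) :
    X 13 u * (X 22 t * z) = X 22 t * (X 13 u * z) := by
  rw [← mul_assoc, td4vc_c_22_13, mul_assoc]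

theorem t3mc_t_22_14 (t u : K) (z : GG K) :
    X 14 u * (X 22 t * z) = X 22 t * (X 14 u * (X 23 (t * u) * z)) := by
  rw [← mul_assoc, td4vc_c_22_14, mul_assoc, mul_assoc]

theorem t3mc_t_22_15 (t u : K) (z : GG K) :
    X 15 u * (X 22 t * z) = X 22 t * (X 15 u * z) := by
  rw [← mul_assoc, td4vc_c_22_15, mul_assoc]

theorem t3mc_t_22_16 (t u : K) (z : GG K) :
    X 16 u * (X 22 t * z) = X 22 t * (X 16 u * z) := by
  rw [← mul_assoc, td4vc_c_22_16, mul_assoc]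

theorem t3mc_t_22_17 (t u : K) (z : GG K) :
    X 17 u * (X 22 t * z) = X 22 t * (X 17 u * z) := by
  rw [← mul_assoc, td4vc_c_22_17, mul_assoc]

theorem t3mc_t_22_18 (t u : K) (z : GG K) :
    X 18 u * (X 22 t * z) = X 22 t * (X 18 u * z) := by
  rw [← mul_assoc, td4vc_c_22_18, mul_assoc]

theorem t3mc_t_22_19 (t u : K) (z : GG K) :
    X 19 u * (X 22 t * z) = X 22 t * (X 19 u * z) := by
  rw [← mul_assoc, td4vc_c_22_19, mul_assoc]

theorem t3mc_t_22_20 (t u : K) (z : GG K) :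
    X 20 u * (X 22 t * z) = X 22 t * (X 20 u * z) := by
  rw [← mul_assoc, td4vc_c_22_20, mul_assoc]

theorem t3mc_t_22_21 (t u : K) (z : GG K) :
    X 21 u * (X 22 t * z) = X 22 t * (X 21 u * z) := by
  rw [← mul_assoc, td4vc_c_22_21, mul_assoc]

theorem t3mc_t_22_23 (t u : K) (z : GG K) :
    X 23 u * (X 22 t * z) = X 22 t * (X 23 u * z) := by
  rw [← mul_assoc, td4vc_c_22_23, mul_assoc]

theorem t3mc_t_23_1 (t u : K) (z : GG K) :
    X 1 u * (X 23 t * z) = X 23 t * (X 1 u * (X 14 (-(t * u)) * z)) := by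
  rw [← mul_assoc, td4vc_c_23_1, mul_assoc, mul_assoc]

theorem t3mc_t_23_2 (t u : K) (z : GG K) :
    X 2 u * (X 23 t * z) = X 23 t * (X 2 u * (X 15 (t * u) * z)) := by
  rw [← mul_assoc, td4vc_c_23_2, mul_assoc, mul_assoc]

theorem t3mc_t_23_3 (t u : K) (z : GG K) :
    X 3 u * (X 23 t * z) = X 23 t * (X 3 u * (X 16 (t * u) * z)) := by
  rw [← mul_assoc, td4vc_c_23_3, mul_assoc, mul_assoc]

theorem t3mc_t_23_4 (t u : K) (z : GG K) :
    X 4 u * (X 23 t * z) = X 23 t * (X 4 u * (X 17 (-(t * u)) * z)) := by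
  rw [← mul_assoc, td4vc_c_23_4, mul_assoc, mul_assoc]

theorem t3mc_t_23_5 (t u : K) (z : GG K) :
    X 5 u * (X 23 t * z) = X 23 t * (X 5 u * z) := by
  rw [← mul_assoc, td4vc_c_23_5, mul_assoc]

theorem t3mc_t_23_6 (t u : K) (z : GG K) :
    X 6 u * (X 23 t * z) = X 23 t * (X 6 u * (X 19 (t * u) * z)) := by
  rw [← mul_assoc, td4vc_c_23_6, mul_assoc, mul_assoc]

theorem t3mc_t_23_7 (t u : K) (z : GG K) :
    X 7 u * (X 23 t * z) = X 23 t * (X 7 u * (X 20 (-(t * u)) * z)) := by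
  rw [← mul_assoc, td4vc_c_23_7, mul_assoc, mul_assoc]

theorem t3mc_t_23_8 (t u : K) (z : GG K) :
    X 8 u * (X 23 t * z) = X 23 t * (X 8 u * (X 21 (-(t * u)) * z)) := by
  rw [← mul_assoc, td4vc_c_23_8, mul_assoc, mul_assoc]

theorem t3mc_t_23_9 (t u : K) (z : GG K) :
    X 9 u * (X 23 t * z) = X 23 t * (X 9 u * (X 22 (t * u) * z)) := by
  rw [← mul_assoc, td4vc_c_23_9, mul_assoc, mul_assoc]

theorem t3mc_t_23_10 (t u : K) (z : GG K) :
    X 10 u * (X 23 t * z) = X 23 t * (X 10 u * z) := by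
  rw [← mul_assoc, td4vc_c_23_10, mul_assoc]

theorem t3mc_t_23_11 (t u : K) (z : GG K) :
    X 11 u * (X 23 t * z) = X 23 t * (X 11 u * z) := by
  rw [← mul_assoc, td4vc_c_23_11, mul_assoc]

theorem t3mc_t_23_12 (t u : K) (z : GG K) :
    X 12 u * (X 23 t * z) = X 23 t * (X 12 u * z) := by
  rw [← mul_assoc, td4vc_c_23_12, mul_assoc]

theorem t3mc_t_23_13 (t u : K) (z : GG K) :
    X 13 u * (X 23 t * z) = X 23 t * (X 13 u * z) := by
  rw [← mul_assoc, td4vc_c_23_13, mul_assoc]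

theorem t3mc_t_23_14 (t u : K) (z : GG K) :
    X 14 u * (X 23 t * z) = X 23 t * (X 14 u * z) := by
  rw [← mul_assoc, td4vc_c_23_14, mul_assoc]

theorem t3mc_t_23_15 (t u : K) (z : GG K) :
    X 15 u * (X 23 t * z) = X 23 t * (X 15 u * z) := by
  rw [← mul_assoc, td4vc_c_23_15, mul_assoc]

theorem t3mc_t_23_16 (t u : K) (z : GG K) :
    X 16 u * (X 23 t * z) = X 23 t * (X 16 u * z) := by
  rw [← mul_assoc, td4vc_c_23_16, mul_assoc]

theorem t3mc_t_23_17 (t u : K) (z : GG K) :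
    X 17 u * (X 23 t * z) = X 23 t * (X 17 u * z) := by
  rw [← mul_assoc, td4vc_c_23_17, mul_assoc]

theorem t3mc_t_23_18 (t u : K) (z : GG K) :
    X 18 u * (X 23 t * z) = X 23 t * (X 18 u * z) := by
  rw [← mul_assoc, td4vc_c_23_18, mul_assoc]

theorem t3mc_t_23_19 (t u : K) (z : GG K) :
    X 19 u * (X 23 t * z) = X 23 t * (X 19 u * z) := by
  rw [← mul_assoc, td4vc_c_23_19, mul_assoc]

theorem t3mc_t_23_20 (t u : K) (z : GG K) :
    X 20 u * (X 23 t * z) = X 23 t * (X 20 u * z) := by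
  rw [← mul_assoc, td4vc_c_23_20, mul_assoc]

theorem t3mc_t_23_21 (t u : K) (z : GG K) :
    X 21 u * (X 23 t * z) = X 23 t * (X 21 u * z) := by
  rw [← mul_assoc, td4vc_c_23_21, mul_assoc]

theorem t3mc_t_23_22 (t u : K) (z : GG K) :
    X 22 u * (X 23 t * z) = X 23 t * (X 22 u * z) := by
  rw [← mul_assoc, td4vc_c_23_22, mul_assoc]

theorem t3mc_m_0 (a b : K) (z : GG K) : X 0 a * (X 0 b * z) = X 0 (a + b) * z :=
  td4vc_add' 0 (by norm_num) a b z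

theorem t3mc_m_1 (a b : K) (z : GG K) : X 1 a * (X 1 b * z) = X 1 (a + b) * z :=
  td4vc_add' 1 (by norm_num) a b z

theorem t3mc_m_2 (a b : K) (z : GG K) : X 2 a * (X 2 b * z) = X 2 (a + b) * z :=
  td4vc_add' 2 (by norm_num) a b z

theorem t3mc_m_3 (a b : K) (z : GG K) : X 3 a * (X 3 b * z) = X 3 (a + b) * z :=
  td4vc_add' 3 (by norm_num) a b z

theorem t3mc_m_4 (a b : K) (z : GG K) : X 4 a * (X 4 b * z) = X 4 (a + b) * z :=
  td4vc_add' 4 (by norm_num) a b z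

theorem t3mc_m_5 (a b : K) (z : GG K) : X 5 a * (X 5 b * z) = X 5 (a + b) * z :=
  td4vc_add' 5 (by norm_num) a b z

theorem t3mc_m_6 (a b : K) (z : GG K) : X 6 a * (X 6 b * z) = X 6 (a + b) * z :=
  td4vc_add' 6 (by norm_num) a b z

theorem t3mc_m_7 (a b : K) (z : GG K) : X 7 a * (X 7 b * z) = X 7 (a + b) * z :=
  td4vc_add' 7 (by norm_num) a b z

theorem t3mc_m_8 (a b : K) (z : GG K) : X 8 a * (X 8 b * z) = X 8 (a + b) * z :=
  td4vc_add' 8 (by norm_num) a b z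

theorem t3mc_m_9 (a b : K) (z : GG K) : X 9 a * (X 9 b * z) = X 9 (a + b) * z :=
  td4vc_add' 9 (by norm_num) a b z

theorem t3mc_m_10 (a b : K) (z : GG K) : X 10 a * (X 10 b * z) = X 10 (a + b) * z :=
  td4vc_add' 10 (by norm_num) a b z

theorem t3mc_m_11 (a b : K) (z : GG K) : X 11 a * (X 11 b * z) = X 11 (a + b) * z :=
  td4vc_add' 11 (by norm_num) a b z

theorem t3mc_m_12 (a b : K) (z : GG K) : X 12 a * (X 12 b * z) = X 12 (a + b) * z :=
  td4vc_add' 12 (by norm_num) a b z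

theorem t3mc_m_13 (a b : K) (z : GG K) : X 13 a * (X 13 b * z) = X 13 (a + b) * z :=
  td4vc_add' 13 (by norm_num) a b z

theorem t3mc_m_14 (a b : K) (z : GG K) : X 14 a * (X 14 b * z) = X 14 (a + b) * z :=
  td4vc_add' 14 (by norm_num) a b z

theorem t3mc_m_15 (a b : K) (z : GG K) : X 15 a * (X 15 b * z) = X 15 (a + b) * z :=
  td4vc_add' 15 (by norm_num) a b z

theorem t3mc_m_16 (a b : K) (z : GG K) : X 16 a * (X 16 b * z) = X 16 (a + b) * z :=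
  td4vc_add' 16 (by norm_num) a b z

theorem t3mc_m_17 (a b : K) (z : GG K) : X 17 a * (X 17 b * z) = X 17 (a + b) * z :=
  td4vc_add' 17 (by norm_num) a b z

theorem t3mc_m_18 (a b : K) (z : GG K) : X 18 a * (X 18 b * z) = X 18 (a + b) * z :=
  td4vc_add' 18 (by norm_num) a b z

theorem t3mc_m_19 (a b : K) (z : GG K) : X 19 a * (X 19 b * z) = X 19 (a + b) * z :=
  td4vc_add' 19 (by norm_num) a b z

theorem t3mc_m_20 (a b : K) (z : GG K) : X 20 a * (X 20 b * z) = X 20 (a + b) * z :=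
  td4vc_add' 20 (by norm_num) a b z

theorem t3mc_m_21 (a b : K) (z : GG K) : X 21 a * (X 21 b * z) = X 21 (a + b) * z :=
  td4vc_add' 21 (by norm_num) a b z

theorem t3mc_m_22 (a b : K) (z : GG K) : X 22 a * (X 22 b * z) = X 22 (a + b) * z :=
  td4vc_add' 22 (by norm_num) a b z

theorem t3mc_m_23 (a b : K) (z : GG K) : X 23 a * (X 23 b * z) = X 23 (a + b) * z :=
  td4vc_add' 23 (by norm_num) a b z

end Cfsg.Agent.Lib.helper8.T3M
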