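import Mathlib
import Cfsg.Agent.Lib.helper23.TD4V.Defs
import Cfsg.Agent.Lib.helper23.TD4VComm0
import Cfsg.Agent.Lib.helper23.TD4VComm1
import Cfsg.Agent.Lib.helper23.TD4VComm2
import Cfsg.Agent.Lib.helper23.TD4VComm3
import Cfsg.Agent.Lib.helper8.ChevBN3

/-!
# Project TDM (S2192): collection in `U(K)` of `chevD4` (helper8; machine generated).

`tdmc_t_r_s` : the commutator rules of helper23.TD4VComm in tail form, oriented so that `simp only` sorts a product of positive root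
elements by the index of the root; `tdmc_m_r` merges equal roots.  `tdmc_gen_*` : identities with independent parameters.
-/

set_option autoImplicit false
set_option linter.unusedSimpArgs false
set_option linter.unnecessarySeqFocus false
set_option linter.unreachableTactic false
set_option linter.unusedTactic false

namespace Cfsg.Agent.Lib.helper8.TDM

open Cfsg.Lie Cfsg.Lie.ChevalleyDatum Matrix
open Cfsg.Agent.Lib.helper8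
open Cfsg.Agent.Lib.helper23.TD4V

universe u

variable {K : Type u} [Field K]

theorem tdmc_t_12_13 (t u : K) (z : GG K) :
    X 13 u * (X 12 t * z) = X 12 t * (X 13 u * z) := by
  rw [← mul_assoc, td4vc_c_12_13, mul_assoc]

theorem tdmc_t_12_14 (t u : K) (z : GG K) :
    X 14 u * (X 12 t * z) = X 12 t * (X 14 u * (X 15 (-(t * u)) * z)) := by
  rw [← mul_assoc, td4vc_c_12_14, mul_assoc, mul_assoc]

theorem tdmc_t_12_15 (t u : K) (z : GG K) :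
    X 15 u * (X 12 t * z) = X 12 t * (X 15 u * z) := by
  rw [← mul_assoc, td4vc_c_12_15, mul_assoc]

theorem tdmc_t_12_16 (t u : K) (z : GG K) :
    X 16 u * (X 12 t * z) = X 12 t * (X 16 u * (X 17 (-(t * u)) * z)) := by
  rw [← mul_assoc, td4vc_c_12_16, mul_assoc, mul_assoc]

theorem tdmc_t_12_17 (t u : K) (z : GG K) :
    X 17 u * (X 12 t * z) = X 12 t * (X 17 u * z) := by
  rw [← mul_assoc, td4vc_c_12_17, mul_assoc]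

theorem tdmc_t_12_18 (t u : K) (z : GG K) :
    X 18 u * (X 12 t * z) = X 12 t * (X 18 u * z) := by
  rw [← mul_assoc, td4vc_c_12_18, mul_assoc]

theorem tdmc_t_12_19 (t u : K) (z : GG K) :
    X 19 u * (X 12 t * z) = X 12 t * (X 19 u * (X 20 (-(t * u)) * z)) := by
  rw [← mul_assoc, td4vc_c_12_19, mul_assoc, mul_assoc]

theorem tdmc_t_12_20 (t u : K) (z : GG K) :
    X 20 u * (X 12 t * z) = X 12 t * (X 20 u * z) := by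
  rw [← mul_assoc, td4vc_c_12_20, mul_assoc]

theorem tdmc_t_12_21 (t u : K) (z : GG K) :
    X 21 u * (X 12 t * z) = X 12 t * (X 21 u * (X 22 (-(t * u)) * z)) := by
  rw [← mul_assoc, td4vc_c_12_21, mul_assoc, mul_assoc]

theorem tdmc_t_12_22 (t u : K) (z : GG K) :
    X 22 u * (X 12 t * z) = X 12 t * (X 22 u * z) := by
  rw [← mul_assoc, td4vc_c_12_22, mul_assoc]

theorem tdmc_t_12_23 (t u : K) (z : GG K) :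
    X 23 u * (X 12 t * z) = X 12 t * (X 23 u * z) := by
  rw [← mul_assoc, td4vc_c_12_23, mul_assoc]

theorem tdmc_t_13_14 (t u : K) (z : GG K) :
    X 14 u * (X 13 t * z) = X 13 t * (X 14 u * (X 16 (-(t * u)) * z)) := by
  rw [← mul_assoc, td4vc_c_13_14, mul_assoc, mul_assoc]

theorem tdmc_t_13_15 (t u : K) (z : GG K) :
    X 15 u * (X 13 t * z) = X 13 t * (X 15 u * (X 17 (-(t * u)) * z)) := by
  rw [← mul_assoc, td4vc_c_13_15, mul_assoc, mul_assoc]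

theorem tdmc_t_13_16 (t u : K) (z : GG K) :
    X 16 u * (X 13 t * z) = X 13 t * (X 16 u * z) := by
  rw [← mul_assoc, td4vc_c_13_16, mul_assoc]

theorem tdmc_t_13_17 (t u : K) (z : GG K) :
    X 17 u * (X 13 t * z) = X 13 t * (X 17 u * z) := by
  rw [← mul_assoc, td4vc_c_13_17, mul_assoc]

theorem tdmc_t_13_18 (t u : K) (z : GG K) :
    X 18 u * (X 13 t * z) = X 13 t * (X 18 u * z) := by
  rw [← mul_assoc, td4vc_c_13_18, mul_assoc]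

theorem tdmc_t_13_19 (t u : K) (z : GG K) :
    X 19 u * (X 13 t * z) = X 13 t * (X 19 u * (X 21 (-(t * u)) * z)) := by
  rw [← mul_assoc, td4vc_c_13_19, mul_assoc, mul_assoc]

theorem tdmc_t_13_20 (t u : K) (z : GG K) :
    X 20 u * (X 13 t * z) = X 13 t * (X 20 u * (X 22 (-(t * u)) * z)) := by
  rw [← mul_assoc, td4vc_c_13_20, mul_assoc, mul_assoc]

theorem tdmc_t_13_21 (t u : K) (z : GG K) :
    X 21 u * (X 13 t * z) = X 13 t * (X 21 u * z) := by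
  rw [← mul_assoc, td4vc_c_13_21, mul_assoc]

theorem tdmc_t_13_22 (t u : K) (z : GG K) :
    X 22 u * (X 13 t * z) = X 13 t * (X 22 u * z) := by
  rw [← mul_assoc, td4vc_c_13_22, mul_assoc]

theorem tdmc_t_13_23 (t u : K) (z : GG K) :
    X 23 u * (X 13 t * z) = X 13 t * (X 23 u * z) := by
  rw [← mul_assoc, td4vc_c_13_23, mul_assoc]

theorem tdmc_t_14_15 (t u : K) (z : GG K) :
    X 15 u * (X 14 t * z) = X 14 t * (X 15 u * z) := by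
  rw [← mul_assoc, td4vc_c_14_15, mul_assoc]

theorem tdmc_t_14_16 (t u : K) (z : GG K) :
    X 16 u * (X 14 t * z) = X 14 t * (X 16 u * z) := by
  rw [← mul_assoc, td4vc_c_14_16, mul_assoc]

theorem tdmc_t_14_17 (t u : K) (z : GG K) :
    X 17 u * (X 14 t * z) = X 14 t * (X 17 u * z) := by
  rw [← mul_assoc, td4vc_c_14_17, mul_assoc]

theorem tdmc_t_14_18 (t u : K) (z : GG K) :
    X 18 u * (X 14 t * z) = X 14 t * (X 18 u * (X 19 (-(t * u)) * z)) := by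
  rw [← mul_assoc, td4vc_c_14_18, mul_assoc, mul_assoc]

theorem tdmc_t_14_19 (t u : K) (z : GG K) :
    X 19 u * (X 14 t * z) = X 14 t * (X 19 u * z) := by
  rw [← mul_assoc, td4vc_c_14_19, mul_assoc]

theorem tdmc_t_14_20 (t u : K) (z : GG K) :
    X 20 u * (X 14 t * z) = X 14 t * (X 20 u * z) := by
  rw [← mul_assoc, td4vc_c_14_20, mul_assoc]

theorem tdmc_t_14_21 (t u : K) (z : GG K) :
    X 21 u * (X 14 t * z) = X 14 t * (X 21 u * z) := by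
  rw [← mul_assoc, td4vc_c_14_21, mul_assoc]

theorem tdmc_t_14_22 (t u : K) (z : GG K) :
    X 22 u * (X 14 t * z) = X 14 t * (X 22 u * (X 23 (-(t * u)) * z)) := by
  rw [← mul_assoc, td4vc_c_14_22, mul_assoc, mul_assoc]

theorem tdmc_t_14_23 (t u : K) (z : GG K) :
    X 23 u * (X 14 t * z) = X 14 t * (X 23 u * z) := by
  rw [← mul_assoc, td4vc_c_14_23, mul_assoc]

theorem tdmc_t_15_16 (t u : K) (z : GG K) :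
    X 16 u * (X 15 t * z) = X 15 t * (X 16 u * z) := by
  rw [← mul_assoc, td4vc_c_15_16, mul_assoc]

theorem tdmc_t_15_17 (t u : K) (z : GG K) :
    X 17 u * (X 15 t * z) = X 15 t * (X 17 u * z) := by
  rw [← mul_assoc, td4vc_c_15_17, mul_assoc]

theorem tdmc_t_15_18 (t u : K) (z : GG K) :
    X 18 u * (X 15 t * z) = X 15 t * (X 18 u * (X 20 (-(t * u)) * z)) := by
  rw [← mul_assoc, td4vc_c_15_18, mul_assoc, mul_assoc]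

theorem tdmc_t_15_19 (t u : K) (z : GG K) :
    X 19 u * (X 15 t * z) = X 15 t * (X 19 u * z) := by
  rw [← mul_assoc, td4vc_c_15_19, mul_assoc]

theorem tdmc_t_15_20 (t u : K) (z : GG K) :
    X 20 u * (X 15 t * z) = X 15 t * (X 20 u * z) := by
  rw [← mul_assoc, td4vc_c_15_20, mul_assoc]

theorem tdmc_t_15_21 (t u : K) (z : GG K) :
    X 21 u * (X 15 t * z) = X 15 t * (X 21 u * (X 23 (t * u) * z)) := by
  rw [← mul_assoc, td4vc_c_15_21, mul_assoc, mul_assoc]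

theorem tdmc_t_15_22 (t u : K) (z : GG K) :
    X 22 u * (X 15 t * z) = X 15 t * (X 22 u * z) := by
  rw [← mul_assoc, td4vc_c_15_22, mul_assoc]

theorem tdmc_t_15_23 (t u : K) (z : GG K) :
    X 23 u * (X 15 t * z) = X 15 t * (X 23 u * z) := by
  rw [← mul_assoc, td4vc_c_15_23, mul_assoc]

theorem tdmc_t_16_17 (t u : K) (z : GG K) :
    X 17 u * (X 16 t * z) = X 16 t * (X 17 u * z) := by
  rw [← mul_assoc, td4vc_c_16_17, mul_assoc]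

theorem tdmc_t_16_18 (t u : K) (z : GG K) :
    X 18 u * (X 16 t * z) = X 16 t * (X 18 u * (X 21 (-(t * u)) * z)) := by
  rw [← mul_assoc, td4vc_c_16_18, mul_assoc, mul_assoc]

theorem tdmc_t_16_19 (t u : K) (z : GG K) :
    X 19 u * (X 16 t * z) = X 16 t * (X 19 u * z) := by
  rw [← mul_assoc, td4vc_c_16_19, mul_assoc]

theorem tdmc_t_16_20 (t u : K) (z : GG K) :
    X 20 u * (X 16 t * z) = X 16 t * (X 20 u * (X 23 (t * u) * z)) := by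
  rw [← mul_assoc, td4vc_c_16_20, mul_assoc, mul_assoc]

theorem tdmc_t_16_21 (t u : K) (z : GG K) :
    X 21 u * (X 16 t * z) = X 16 t * (X 21 u * z) := by
  rw [← mul_assoc, td4vc_c_16_21, mul_assoc]

theorem tdmc_t_16_22 (t u : K) (z : GG K) :
    X 22 u * (X 16 t * z) = X 16 t * (X 22 u * z) := by
  rw [← mul_assoc, td4vc_c_16_22, mul_assoc]

theorem tdmc_t_16_23 (t u : K) (z : GG K) :
    X 23 u * (X 16 t * z) = X 16 t * (X 23 u * z) := by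
  rw [← mul_assoc, td4vc_c_16_23, mul_assoc]

theorem tdmc_t_17_18 (t u : K) (z : GG K) :
    X 18 u * (X 17 t * z) = X 17 t * (X 18 u * (X 22 (-(t * u)) * z)) := by
  rw [← mul_assoc, td4vc_c_17_18, mul_assoc, mul_assoc]

theorem tdmc_t_17_19 (t u : K) (z : GG K) :
    X 19 u * (X 17 t * z) = X 17 t * (X 19 u * (X 23 (-(t * u)) * z)) := by
  rw [← mul_assoc, td4vc_c_17_19, mul_assoc, mul_assoc]

theorem tdmc_t_17_20 (t u : K) (z : GG K) :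
    X 20 u * (X 17 t * z) = X 17 t * (X 20 u * z) := by
  rw [← mul_assoc, td4vc_c_17_20, mul_assoc]

theorem tdmc_t_17_21 (t u : K) (z : GG K) :
    X 21 u * (X 17 t * z) = X 17 t * (X 21 u * z) := by
  rw [← mul_assoc, td4vc_c_17_21, mul_assoc]

theorem tdmc_t_17_22 (t u : K) (z : GG K) :
    X 22 u * (X 17 t * z) = X 17 t * (X 22 u * z) := by
  rw [← mul_assoc, td4vc_c_17_22, mul_assoc]

theorem tdmc_t_17_23 (t u : K) (z : GG K) :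
    X 23 u * (X 17 t * z) = X 17 t * (X 23 u * z) := by
  rw [← mul_assoc, td4vc_c_17_23, mul_assoc]

theorem tdmc_t_18_19 (t u : K) (z : GG K) :
    X 19 u * (X 18 t * z) = X 18 t * (X 19 u * z) := by
  rw [← mul_assoc, td4vc_c_18_19, mul_assoc]

theorem tdmc_t_18_20 (t u : K) (z : GG K) :
    X 20 u * (X 18 t * z) = X 18 t * (X 20 u * z) := by
  rw [← mul_assoc, td4vc_c_18_20, mul_assoc]

theorem tdmc_t_18_21 (t u : K) (z : GG K) :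
    X 21 u * (X 18 t * z) = X 18 t * (X 21 u * z) := by
  rw [← mul_assoc, td4vc_c_18_21, mul_assoc]

theorem tdmc_t_18_22 (t u : K) (z : GG K) :
    X 22 u * (X 18 t * z) = X 18 t * (X 22 u * z) := by
  rw [← mul_assoc, td4vc_c_18_22, mul_assoc]

theorem tdmc_t_18_23 (t u : K) (z : GG K) :
    X 23 u * (X 18 t * z) = X 18 t * (X 23 u * z) := by
  rw [← mul_assoc, td4vc_c_18_23, mul_assoc]

theorem tdmc_t_19_20 (t u : K) (z : GG K) :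
    X 20 u * (X 19 t * z) = X 19 t * (X 20 u * z) := by
  rw [← mul_assoc, td4vc_c_19_20, mul_assoc]

theorem tdmc_t_19_21 (t u : K) (z : GG K) :
    X 21 u * (X 19 t * z) = X 19 t * (X 21 u * z) := by
  rw [← mul_assoc, td4vc_c_19_21, mul_assoc]

theorem tdmc_t_19_22 (t u : K) (z : GG K) :
    X 22 u * (X 19 t * z) = X 19 t * (X 22 u * z) := by
  rw [← mul_assoc, td4vc_c_19_22, mul_assoc]

theorem tdmc_t_19_23 (t u : K) (z : GG K) :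
    X 23 u * (X 19 t * z) = X 19 t * (X 23 u * z) := by
  rw [← mul_assoc, td4vc_c_19_23, mul_assoc]

theorem tdmc_t_20_21 (t u : K) (z : GG K) :
    X 21 u * (X 20 t * z) = X 20 t * (X 21 u * z) := by
  rw [← mul_assoc, td4vc_c_20_21, mul_assoc]

theorem tdmc_t_20_22 (t u : K) (z : GG K) :
    X 22 u * (X 20 t * z) = X 20 t * (X 22 u * z) := by
  rw [← mul_assoc, td4vc_c_20_22, mul_assoc]

theorem tdmc_t_20_23 (t u : K) (z : GG K) :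
    X 23 u * (X 20 t * z) = X 20 t * (X 23 u * z) := by
  rw [← mul_assoc, td4vc_c_20_23, mul_assoc]

theorem tdmc_t_21_22 (t u : K) (z : GG K) :
    X 22 u * (X 21 t * z) = X 21 t * (X 22 u * z) := by
  rw [← mul_assoc, td4vc_c_21_22, mul_assoc]

theorem tdmc_t_21_23 (t u : K) (z : GG K) :
    X 23 u * (X 21 t * z) = X 21 t * (X 23 u * z) := by
  rw [← mul_assoc, td4vc_c_21_23, mul_assoc]

theorem tdmc_t_22_23 (t u : K) (z : GG K) :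
    X 23 u * (X 22 t * z) = X 22 t * (X 23 u * z) := by
  rw [← mul_assoc, td4vc_c_22_23, mul_assoc]

theorem tdmc_m_12 (a b : K) (z : GG K) : X 12 a * (X 12 b * z) = X 12 (a + b) * z :=
  td4vc_add' 12 (by norm_num) a b z

theorem tdmc_m_13 (a b : K) (z : GG K) : X 13 a * (X 13 b * z) = X 13 (a + b) * z :=
  td4vc_add' 13 (by norm_num) a b z

theorem tdmc_m_14 (a b : K) (z : GG K) : X 14 a * (X 14 b * z) = X 14 (a + b) * z :=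
  td4vc_add' 14 (by norm_num) a b z

theorem tdmc_m_15 (a b : K) (z : GG K) : X 15 a * (X 15 b * z) = X 15 (a + b) * z :=
  td4vc_add' 15 (by norm_num) a b z

theorem tdmc_m_16 (a b : K) (z : GG K) : X 16 a * (X 16 b * z) = X 16 (a + b) * z :=
  td4vc_add' 16 (by norm_num) a b z

theorem tdmc_m_17 (a b : K) (z : GG K) : X 17 a * (X 17 b * z) = X 17 (a + b) * z :=
  td4vc_add' 17 (by norm_num) a b z

theorem tdmc_m_18 (a b : K) (z : GG K) : X 18 a * (X 18 b * z) = X 18 (a + b) * z :=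
  td4vc_add' 18 (by norm_num) a b z

theorem tdmc_m_19 (a b : K) (z : GG K) : X 19 a * (X 19 b * z) = X 19 (a + b) * z :=
  td4vc_add' 19 (by norm_num) a b z

theorem tdmc_m_20 (a b : K) (z : GG K) : X 20 a * (X 20 b * z) = X 20 (a + b) * z :=
  td4vc_add' 20 (by norm_num) a b z

theorem tdmc_m_21 (a b : K) (z : GG K) : X 21 a * (X 21 b * z) = X 21 (a + b) * z :=
  td4vc_add' 21 (by norm_num) a b z

theorem tdmc_m_22 (a b : K) (z : GG K) : X 22 a * (X 22 b * z) = X 22 (a + b) * z :=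
  td4vc_add' 22 (by norm_num) a b z

theorem tdmc_m_23 (a b : K) (z : GG K) : X 23 a * (X 23 b * z) = X 23 (a + b) * z :=
  td4vc_add' 23 (by norm_num) a b z

theorem tdmc_congr12 {a12 b12 a13 b13 a14 b14 a15 b15 a16 b16 a17 b17 a18 b18 a19 b19 a20 b20 a21 b21 a22 b22 a23 b23 : K} (h12 : a12 = b12) (h13 : a13 = b13) (h14 : a14 = b14) (h15 : a15 = b15) (h16 : a16 = b16) (h17 : a17 = b17) (h18 : a18 = b18) (h19 : a19 = b19) (h20 : a20 = b20) (h21 : a21 = b21) (h22 : a22 = b22) (h23 : a23 = b23) :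
    (X 12 a12 * (X 13 a13 * (X 14 a14 * (X 15 a15 * (X 16 a16 * (X 17 a17 * (X 18 a18 * (X 19 a19 * (X 20 a20 * (X 21 a21 * (X 22 a22 * (X 23 a23 * 1))))))))))) : GG K) =
      X 12 b12 * (X 13 b13 * (X 14 b14 * (X 15 b15 * (X 16 b16 * (X 17 b17 * (X 18 b18 * (X 19 b19 * (X 20 b20 * (X 21 b21 * (X 22 b22 * (X 23 b23 * 1))))))))))) := by
  subst_vars; rfl

/-- the padding word -/
def tdmcZ : GG K := X 12 0 * (X 13 0 * (X 14 0 * (X 15 0 * (X 16 0 * (X 17 0 * (X 18 0 * (X 19 0 * (X 20 0 * (X 21 0 * (X 22 0 * (X 23 0 * 1)))))))))))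

theorem tdmcZ_eq : (tdmcZ : GG K) = 1 := by
  unfold tdmcZ
  have h : ∀ r : ℕ, (X r 0 : GG K) = 1 := fun r => h8xU_zero chevD4 hB r
  simp only [h, mul_one]


theorem tdmc_gen_a_14 (a1 a2 a3 u : K) :
    (XA a1 a2 a3 * X 14 u : GG K) =
      X 14 u * XAB (-(a1 * u)) (a2 * u) (a3 * u) * X2AB (-(a1 * a3 * u)) (-(a1 * a2 * u)) (a2 * a3 * u) * X 22 (-(a1 * a2 * a3 * u)) * X 23 (-(a1 * a2 * a3 * u ^ 2)) * XA a1 a2 a3 := by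
  have key : (XA a1 a2 a3 * X 14 u) * (tdmcZ : GG K) = (X 14 u * XAB (-(a1 * u)) (a2 * u) (a3 * u) * X2AB (-(a1 * a3 * u)) (-(a1 * a2 * u)) (a2 * a3 * u) * X 22 (-(a1 * a2 * a3 * u)) * X 23 (-(a1 * a2 * a3 * u ^ 2)) * XA a1 a2 a3) * tdmcZ := by
    simp only [tdmcZ, XA, XAB, X2AB, mul_assoc, tdmc_t_12_13, tdmc_t_12_14, tdmc_t_12_15, tdmc_t_12_16, tdmc_t_12_17, tdmc_t_12_18, tdmc_t_12_19, tdmc_t_12_20, tdmc_t_12_21, tdmc_t_12_22, tdmc_t_12_23, tdmc_t_13_14, tdmc_t_13_15, tdmc_t_13_16, tdmc_t_13_17, tdmc_t_13_18, tdmc_t_13_19, tdmc_t_13_20, tdmc_t_13_21, tdmc_t_13_22, tdmc_t_13_23, tdmc_t_14_15, tdmc_t_14_16, tdmc_t_14_17, tdmc_t_14_18, tdmc_t_14_19, tdmc_t_14_20, tdmc_t_14_21, tdmc_t_14_22, tdmc_t_14_23, tdmc_t_15_16, tdmc_t_15_17, tdmc_t_15_18, tdmc_t_15_19, tdmc_t_15_20, tdmc_t_15_21, tdmc_t_15_22, tdmc_t_15_23,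 tdmc_t_16_17, tdmc_t_16_18, tdmc_t_16_19, tdmc_t_16_20, tdmc_t_16_21, tdmc_t_16_22, tdmc_t_16_23, tdmc_t_17_18, tdmc_t_17_19, tdmc_t_17_20, tdmc_t_17_21, tdmc_t_17_22, tdmc_t_17_23, tdmc_t_18_19, tdmc_t_18_20, tdmc_t_18_21, tdmc_t_18_22, tdmc_t_18_23, tdmc_t_19_20, tdmc_t_19_21, tdmc_t_19_22, tdmc_t_19_23, tdmc_t_20_21, tdmc_t_20_22, tdmc_t_20_23, tdmc_t_21_22, tdmc_t_21_23, tdmc_t_22_23, tdmc_m_12, tdmc_m_13, tdmc_m_14, tdmc_m_15, tdmc_m_16, tdmc_m_17, tdmc_m_18, tdmc_m_19, tdmc_m_20, tdmc_m_21, tdmc_m_22, tdmc_m_23] <;>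
    (refine tdmc_congr12 ?_ ?_ ?_ ?_ ?_ ?_ ?_ ?_ ?_ ?_ ?_ ?_ <;> ring)
  rw [tdmcZ_eq, mul_one, mul_one] at key
  exact key

theorem tdmc_gen_a_ab (a1 a2 a3 b1 b2 b3 : K) :
    (XA a1 a2 a3 * XAB b1 b2 b3 : GG K) =
      XAB b1 b2 b3 * X2AB (-(a1 * b3) + a3 * b1) (-(a1 * b2) + a2 * b1) (a2 * b3 + a3 * b2) * X 22 (-(a1 * a2 * b3) - a1 * a3 * b2 + a2 * a3 * b1) * X 23 (-(a1 * b2 * b3) + a2 * b1 * b3 + a3 * b1 * b2) * XA a1 a2 a3 := by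
  have key : (XA a1 a2 a3 * XAB b1 b2 b3) * (tdmcZ : GG K) = (XAB b1 b2 b3 * X2AB (-(a1 * b3) + a3 * b1) (-(a1 * b2) + a2 * b1) (a2 * b3 + a3 * b2) * X 22 (-(a1 * a2 * b3) - a1 * a3 * b2 + a2 * a3 * b1) * X 23 (-(a1 * b2 * b3) + a2 * b1 * b3 + a3 * b1 * b2) * XA a1 a2 a3) * tdmcZ := by
    simp only [tdmcZ, XA, XAB, X2AB, mul_assoc, tdmc_t_12_13, tdmc_t_12_14, tdmc_t_12_15, tdmc_t_12_16, tdmc_t_12_17, tdmc_t_12_18, tdmc_t_12_19, tdmc_t_12_20, tdmc_t_12_21, tdmc_t_12_22, tdmc_t_12_23, tdmc_t_13_14, tdmc_t_13_15, tdmc_t_13_16, tdmc_t_13_17, tdmc_t_13_18, tdmc_t_13_19, tdmc_t_13_20, tdmc_t_13_21, tdmc_t_13_22, tdmc_t_13_23, tdmc_t_14_15, tdmc_t_14_16, tdmc_t_14_17, tdmc_t_14_18, tdmc_t_14_19, tdmc_t_14_20, tdmc_t_14_21, tdmc_t_14_22, tdmc_t_14_23, tdmc_t_15_16, tdmc_t_15_17, tdmc_t_15_18, tdmc_t_15_19, tdmc_t_15_20,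 tdmc_t_15_21, tdmc_t_15_22, tdmc_t_15_23, tdmc_t_16_17, tdmc_t_16_18, tdmc_t_16_19, tdmc_t_16_20, tdmc_t_16_21, tdmc_t_16_22, tdmc_t_16_23, tdmc_t_17_18, tdmc_t_17_19, tdmc_t_17_20, tdmc_t_17_21, tdmc_t_17_22, tdmc_t_17_23, tdmc_t_18_19, tdmc_t_18_20, tdmc_t_18_21, tdmc_t_18_22, tdmc_t_18_23, tdmc_t_19_20, tdmc_t_19_21, tdmc_t_19_22, tdmc_t_19_23, tdmc_t_20_21, tdmc_t_20_22, tdmc_t_20_23, tdmc_t_21_22, tdmc_t_21_23, tdmc_t_22_23, tdmc_m_12, tdmc_m_13, tdmc_m_14, tdmc_m_15, tdmc_m_16, tdmc_m_17, tdmc_m_18, tdmc_m_19, tdmc_m_20, tdmc_m_21, tdmc_m_22, tdmc_m_23] <;>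
    (refine tdmc_congr12 ?_ ?_ ?_ ?_ ?_ ?_ ?_ ?_ ?_ ?_ ?_ ?_ <;> ring)
  rw [tdmcZ_eq, mul_one, mul_one] at key
  exact key

theorem tdmc_gen_a_2ab (a1 a2 a3 d1 d2 d3 : K) :
    (XA a1 a2 a3 * X2AB d1 d2 d3 : GG K) =
      X2AB d1 d2 d3 * X 22 (-(a1 * d3) + a2 * d1 + a3 * d2) * XA a1 a2 a3 := by
  have key : (XA a1 a2 a3 * X2AB d1 d2 d3) * (tdmcZ : GG K) = (X2AB d1 d2 d3 * X 22 (-(a1 * d3) + a2 * d1 + a3 * d2) * XA a1 a2 a3) * tdmcZ := by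
    simp only [tdmcZ, XA, XAB, X2AB, mul_assoc, tdmc_t_12_13, tdmc_t_12_14, tdmc_t_12_15, tdmc_t_12_16, tdmc_t_12_17, tdmc_t_12_18, tdmc_t_12_19, tdmc_t_12_20, tdmc_t_12_21, tdmc_t_12_22, tdmc_t_12_23, tdmc_t_13_14, tdmc_t_13_15, tdmc_t_13_16, tdmc_t_13_17, tdmc_t_13_18, tdmc_t_13_19, tdmc_t_13_20, tdmc_t_13_21, tdmc_t_13_22, tdmc_t_13_23, tdmc_t_14_15, tdmc_t_14_16, tdmc_t_14_17, tdmc_t_14_18, tdmc_t_14_19, tdmc_t_14_20, tdmc_t_14_21, tdmc_t_14_22, tdmc_t_14_23, tdmc_t_15_16, tdmc_t_15_17, tdmc_t_15_18, tdmc_t_15_19, tdmc_t_15_20, tdmc_t_15_21, tdmc_t_15_22, tdmc_t_15_23, tdmc_t_16_17, tdmc_t_16_18, tdmc_t_16_19, tdmc_t_16_20, tdmc_t_16_21, tdmc_t_16_22, tdmc_t_16_23, tdmc_t_17_18, tdmc_t_17_19, tdmc_t_17_20, tdmc_t_17_21, tdmc_t_17_22, tdmc_t_17_23, tdmc_t_18_19, tdmc_t_18_20, tdmc_t_18_21, tdmc_t_18_22, tdmc_t_18_23,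 tdmc_t_19_20, tdmc_t_19_21, tdmc_t_19_22, tdmc_t_19_23, tdmc_t_20_21, tdmc_t_20_22, tdmc_t_20_23, tdmc_t_21_22, tdmc_t_21_23, tdmc_t_22_23, tdmc_m_12, tdmc_m_13, tdmc_m_14, tdmc_m_15, tdmc_m_16, tdmc_m_17, tdmc_m_18, tdmc_m_19, tdmc_m_20, tdmc_m_21, tdmc_m_22, tdmc_m_23] <;>
    (refine tdmc_congr12 ?_ ?_ ?_ ?_ ?_ ?_ ?_ ?_ ?_ ?_ ?_ ?_ <;> ring)
  rw [tdmcZ_eq, mul_one, mul_one] at key
  exact key

theorem tdmc_gen_ab_2ab (b1 b2 b3 d1 d2 d3 : K) :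
    (XAB b1 b2 b3 * X2AB d1 d2 d3 : GG K) =
      X2AB d1 d2 d3 * X 23 (-(b1 * d3) - b2 * d1 - b3 * d2) * XAB b1 b2 b3 := by
  have key : (XAB b1 b2 b3 * X2AB d1 d2 d3) * (tdmcZ : GG K) = (X2AB d1 d2 d3 * X 23 (-(b1 * d3) - b2 * d1 - b3 * d2) * XAB b1 b2 b3) * tdmcZ := by
    simp only [tdmcZ, XA, XAB, X2AB, mul_assoc, tdmc_t_12_13, tdmc_t_12_14, tdmc_t_12_15, tdmc_t_12_16, tdmc_t_12_17, tdmc_t_12_18, tdmc_t_12_19, tdmc_t_12_20, tdmc_t_12_21, tdmc_t_12_22, tdmc_t_12_23, tdmc_t_13_14, tdmc_t_13_15, tdmc_t_13_16, tdmc_t_13_17, tdmc_t_13_18, tdmc_t_13_19, tdmc_t_13_20, tdmc_t_13_21, tdmc_t_13_22, tdmc_t_13_23, tdmc_t_14_15, tdmc_t_14_16, tdmc_t_14_17, tdmc_t_14_18, tdmc_t_14_19, tdmc_t_14_20, tdmc_t_14_21, tdmc_t_14_22, tdmc_t_14_23, tdmc_t_15_16, tdmc_t_15_17, tdmc_t_15_18, tdmc_t_15_19, tdmc_t_15_20, tdmc_t_15_21,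 tdmc_t_15_22, tdmc_t_15_23, tdmc_t_16_17, tdmc_t_16_18, tdmc_t_16_19, tdmc_t_16_20, tdmc_t_16_21, tdmc_t_16_22, tdmc_t_16_23, tdmc_t_17_18, tdmc_t_17_19, tdmc_t_17_20, tdmc_t_17_21, tdmc_t_17_22, tdmc_t_17_23, tdmc_t_18_19, tdmc_t_18_20, tdmc_t_18_21, tdmc_t_18_22, tdmc_t_18_23, tdmc_t_19_20, tdmc_t_19_21, tdmc_t_19_22, tdmc_t_19_23, tdmc_t_20_21, tdmc_t_20_22, tdmc_t_20_23, tdmc_t_21_22, tdmc_t_21_23, tdmc_t_22_23, tdmc_m_12, tdmc_m_13, tdmc_m_14, tdmc_m_15, tdmc_m_16, tdmc_m_17, tdmc_m_18, tdmc_m_19, tdmc_m_20, tdmc_m_21, tdmc_m_22, tdmc_m_23] <;>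
    (refine tdmc_congr12 ?_ ?_ ?_ ?_ ?_ ?_ ?_ ?_ ?_ ?_ ?_ ?_ <;> ring)
  rw [tdmcZ_eq, mul_one, mul_one] at key
  exact key

theorem tdmc_gen_XA_add (a1 a2 a3 c1 c2 c3 : K) :
    (XA (a1 + c1) (a2 + c2) (a3 + c3) : GG K) =
      XA a1 a2 a3 * XA c1 c2 c3 := by
  have key : (XA (a1 + c1) (a2 + c2) (a3 + c3)) * (tdmcZ : GG K) = (XA a1 a2 a3 * XA c1 c2 c3) * tdmcZ := by
    simp only [tdmcZ, XA, XAB, X2AB, mul_assoc, tdmc_t_12_13, tdmc_t_12_14, tdmc_t_12_15, tdmc_t_12_16, tdmc_t_12_17, tdmc_t_12_18, tdmc_t_12_19, tdmc_t_12_20, tdmc_t_12_21, tdmc_t_12_22, tdmc_t_12_23, tdmc_t_13_14, tdmc_t_13_15, tdmc_t_13_16, tdmc_t_13_17, tdmc_t_13_18, tdmc_t_13_19, tdmc_t_13_20, tdmc_t_13_21, tdmc_t_13_22, tdmc_t_13_23, tdmc_t_14_15, tdmc_t_14_16, tdmc_t_14_17, tdmc_t_14_18, tdmc_t_14_19, tdmc_t_14_20, tdmc_t_14_21, tdmc_t_14_22,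 tdmc_t_14_23, tdmc_t_15_16, tdmc_t_15_17, tdmc_t_15_18, tdmc_t_15_19, tdmc_t_15_20, tdmc_t_15_21, tdmc_t_15_22, tdmc_t_15_23, tdmc_t_16_17, tdmc_t_16_18, tdmc_t_16_19, tdmc_t_16_20, tdmc_t_16_21, tdmc_t_16_22, tdmc_t_16_23, tdmc_t_17_18, tdmc_t_17_19, tdmc_t_17_20, tdmc_t_17_21, tdmc_t_17_22, tdmc_t_17_23, tdmc_t_18_19, tdmc_t_18_20, tdmc_t_18_21, tdmc_t_18_22, tdmc_t_18_23, tdmc_t_19_20, tdmc_t_19_21, tdmc_t_19_22, tdmc_t_19_23, tdmc_t_20_21, tdmc_t_20_22, tdmc_t_20_23, tdmc_t_21_22, tdmc_t_21_23, tdmc_t_22_23, tdmc_m_12, tdmc_m_13, tdmc_m_14, tdmc_m_15, tdmc_m_16, tdmc_m_17, tdmc_m_18, tdmc_m_19, tdmc_m_20, tdmc_m_21, tdmc_m_22, tdmc_m_23] <;>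
    (refine tdmc_congr12 ?_ ?_ ?_ ?_ ?_ ?_ ?_ ?_ ?_ ?_ ?_ ?_ <;> ring)
  rw [tdmcZ_eq, mul_one, mul_one] at key
  exact key

theorem tdmc_gen_XAB_add (a1 a2 a3 c1 c2 c3 : K) :
    (XAB (a1 + c1) (a2 + c2) (a3 + c3) : GG K) =
      XAB a1 a2 a3 * XAB c1 c2 c3 := by
  have key : (XAB (a1 + c1) (a2 + c2) (a3 + c3)) * (tdmcZ : GG K) = (XAB a1 a2 a3 * XAB c1 c2 c3) * tdmcZ := by
    simp only [tdmcZ, XA, XAB, X2AB, mul_assoc, tdmc_t_12_13, tdmc_t_12_14, tdmc_t_12_15, tdmc_t_12_16, tdmc_t_12_17, tdmc_t_12_18, tdmc_t_12_19, tdmc_t_12_20, tdmc_t_12_21, tdmc_t_12_22, tdmc_t_12_23, tdmc_t_13_14, tdmc_t_13_15, tdmc_t_13_16, tdmc_t_13_17, tdmc_t_13_18, tdmc_t_13_19, tdmc_t_13_20, tdmc_t_13_21, tdmc_t_13_22, tdmc_t_13_23, tdmc_t_14_15, tdmc_t_14_16, tdmc_t_14_17, tdmc_t_14_18, tdmc_t_14_19, tdmc_t_14_20, tdmc_t_14_21, tdmc_t_14_22,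 tdmc_t_14_23, tdmc_t_15_16, tdmc_t_15_17, tdmc_t_15_18, tdmc_t_15_19, tdmc_t_15_20, tdmc_t_15_21, tdmc_t_15_22, tdmc_t_15_23, tdmc_t_16_17, tdmc_t_16_18, tdmc_t_16_19, tdmc_t_16_20, tdmc_t_16_21, tdmc_t_16_22, tdmc_t_16_23, tdmc_t_17_18, tdmc_t_17_19, tdmc_t_17_20, tdmc_t_17_21, tdmc_t_17_22, tdmc_t_17_23, tdmc_t_18_19, tdmc_t_18_20, tdmc_t_18_21, tdmc_t_18_22, tdmc_t_18_23, tdmc_t_19_20, tdmc_t_19_21, tdmc_t_19_22, tdmc_t_19_23, tdmc_t_20_21, tdmc_t_20_22, tdmc_t_20_23, tdmc_t_21_22, tdmc_t_21_23, tdmc_t_22_23, tdmc_m_12, tdmc_m_13, tdmc_m_14, tdmc_m_15, tdmc_m_16, tdmc_m_17, tdmc_m_18, tdmc_m_19, tdmc_m_20, tdmc_m_21, tdmc_m_22, tdmc_m_23] <;>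
    (refine tdmc_congr12 ?_ ?_ ?_ ?_ ?_ ?_ ?_ ?_ ?_ ?_ ?_ ?_ <;> ring)
  rw [tdmcZ_eq, mul_one, mul_one] at key
  exact key

theorem tdmc_gen_X2AB_add (a1 a2 a3 c1 c2 c3 : K) :
    (X2AB (a1 + c1) (a2 + c2) (a3 + c3) : GG K) =
      X2AB a1 a2 a3 * X2AB c1 c2 c3 := by
  have key : (X2AB (a1 + c1) (a2 + c2) (a3 + c3)) * (tdmcZ : GG K) = (X2AB a1 a2 a3 * X2AB c1 c2 c3) * tdmcZ := by
    simp only [tdmcZ, XA, XAB, X2AB, mul_assoc, tdmc_t_12_13, tdmc_t_12_14, tdmc_t_12_15, tdmc_t_12_16, tdmc_t_12_17, tdmc_t_12_18, tdmc_t_12_19, tdmc_t_12_20, tdmc_t_12_21, tdmc_t_12_22, tdmc_t_12_23, tdmc_t_13_14, tdmc_t_13_15, tdmc_t_13_16, tdmc_t_13_17, tdmc_t_13_18, tdmc_t_13_19, tdmc_t_13_20, tdmc_t_13_21, tdmc_t_13_22, tdmc_t_13_23, tdmc_t_14_15, tdmc_t_14_16, tdmc_t_14_17, tdmc_t_14_18, tdmc_t_14_19, tdmc_t_14_20, tdmc_t_14_21,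 tdmc_t_14_22, tdmc_t_14_23, tdmc_t_15_16, tdmc_t_15_17, tdmc_t_15_18, tdmc_t_15_19, tdmc_t_15_20, tdmc_t_15_21, tdmc_t_15_22, tdmc_t_15_23, tdmc_t_16_17, tdmc_t_16_18, tdmc_t_16_19, tdmc_t_16_20, tdmc_t_16_21, tdmc_t_16_22, tdmc_t_16_23, tdmc_t_17_18, tdmc_t_17_19, tdmc_t_17_20, tdmc_t_17_21, tdmc_t_17_22, tdmc_t_17_23, tdmc_t_18_19, tdmc_t_18_20, tdmc_t_18_21, tdmc_t_18_22, tdmc_t_18_23, tdmc_t_19_20, tdmc_t_19_21, tdmc_t_19_22, tdmc_t_19_23, tdmc_t_20_21, tdmc_t_20_22, tdmc_t_20_23, tdmc_t_21_22, tdmc_t_21_23, tdmc_t_22_23, tdmc_m_12, tdmc_m_13, tdmc_m_14, tdmc_m_15, tdmc_m_16, tdmc_m_17, tdmc_m_18, tdmc_m_19, tdmc_m_20, tdmc_m_21, tdmc_m_22, tdmc_m_23] <;>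
    (refine tdmc_congr12 ?_ ?_ ?_ ?_ ?_ ?_ ?_ ?_ ?_ ?_ ?_ ?_ <;> ring)
  rw [tdmcZ_eq, mul_one, mul_one] at key
  exact key

theorem tdmc_gen_14_ab (u b1 b2 b3 : K) :
    (X 14 u * XAB b1 b2 b3 : GG K) =
      XAB b1 b2 b3 * X 14 u := by
  have key : (X 14 u * XAB b1 b2 b3) * (tdmcZ : GG K) = (XAB b1 b2 b3 * X 14 u) * tdmcZ := by
    simp only [tdmcZ, XA, XAB, X2AB, mul_assoc, tdmc_t_12_13, tdmc_t_12_14, tdmc_t_12_15, tdmc_t_12_16, tdmc_t_12_17, tdmc_t_12_18, tdmc_t_12_19, tdmc_t_12_20, tdmc_t_12_21, tdmc_t_12_22, tdmc_t_12_23, tdmc_t_13_14, tdmc_t_13_15, tdmc_t_13_16, tdmc_t_13_17, tdmc_t_13_18, tdmc_t_13_19, tdmc_t_13_20, tdmc_t_13_21, tdmc_t_13_22, tdmc_t_13_23, tdmc_t_14_15, tdmc_t_14_16, tdmc_t_14_17, tdmc_t_14_18, tdmc_t_14_19, tdmc_t_14_20, tdmc_t_14_21, tdmc_t_14_22, tdmc_t_14_23, tdmc_t_15_16, tdmc_t_15_17,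 tdmc_t_15_18, tdmc_t_15_19, tdmc_t_15_20, tdmc_t_15_21, tdmc_t_15_22, tdmc_t_15_23, tdmc_t_16_17, tdmc_t_16_18, tdmc_t_16_19, tdmc_t_16_20, tdmc_t_16_21, tdmc_t_16_22, tdmc_t_16_23, tdmc_t_17_18, tdmc_t_17_19, tdmc_t_17_20, tdmc_t_17_21, tdmc_t_17_22, tdmc_t_17_23, tdmc_t_18_19, tdmc_t_18_20, tdmc_t_18_21, tdmc_t_18_22, tdmc_t_18_23, tdmc_t_19_20, tdmc_t_19_21, tdmc_t_19_22, tdmc_t_19_23, tdmc_t_20_21, tdmc_t_20_22, tdmc_t_20_23, tdmc_t_21_22, tdmc_t_21_23, tdmc_t_22_23, tdmc_m_12, tdmc_m_13, tdmc_m_14, tdmc_m_15, tdmc_m_16, tdmc_m_17, tdmc_m_18, tdmc_m_19, tdmc_m_20, tdmc_m_21, tdmc_m_22, tdmc_m_23] <;>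
    (refine tdmc_congr12 ?_ ?_ ?_ ?_ ?_ ?_ ?_ ?_ ?_ ?_ ?_ ?_ <;> ring)
  rw [tdmcZ_eq, mul_one, mul_one] at key
  exact key

theorem tdmc_gen_14_2ab (u d1 d2 d3 : K) :
    (X 14 u * X2AB d1 d2 d3 : GG K) =
      X2AB d1 d2 d3 * X 14 u := by
  have key : (X 14 u * X2AB d1 d2 d3) * (tdmcZ : GG K) = (X2AB d1 d2 d3 * X 14 u) * tdmcZ := by
    simp only [tdmcZ, XA, XAB, X2AB, mul_assoc, tdmc_t_12_13, tdmc_t_12_14, tdmc_t_12_15, tdmc_t_12_16, tdmc_t_12_17, tdmc_t_12_18, tdmc_t_12_19, tdmc_t_12_20, tdmc_t_12_21, tdmc_t_12_22, tdmc_t_12_23, tdmc_t_13_14, tdmc_t_13_15, tdmc_t_13_16, tdmc_t_13_17, tdmc_t_13_18, tdmc_t_13_19, tdmc_t_13_20, tdmc_t_13_21, tdmc_t_13_22, tdmc_t_13_23, tdmc_t_14_15, tdmc_t_14_16, tdmc_t_14_17, tdmc_t_14_18, tdmc_t_14_19, tdmc_t_14_20, tdmc_t_14_21, tdmc_t_14_22, tdmc_t_14_23, tdmc_t_15_16, tdmc_t_15_17,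 tdmc_t_15_18, tdmc_t_15_19, tdmc_t_15_20, tdmc_t_15_21, tdmc_t_15_22, tdmc_t_15_23, tdmc_t_16_17, tdmc_t_16_18, tdmc_t_16_19, tdmc_t_16_20, tdmc_t_16_21, tdmc_t_16_22, tdmc_t_16_23, tdmc_t_17_18, tdmc_t_17_19, tdmc_t_17_20, tdmc_t_17_21, tdmc_t_17_22, tdmc_t_17_23, tdmc_t_18_19, tdmc_t_18_20, tdmc_t_18_21, tdmc_t_18_22, tdmc_t_18_23, tdmc_t_19_20, tdmc_t_19_21, tdmc_t_19_22, tdmc_t_19_23, tdmc_t_20_21, tdmc_t_20_22, tdmc_t_20_23, tdmc_t_21_22, tdmc_t_21_23, tdmc_t_22_23, tdmc_m_12, tdmc_m_13, tdmc_m_14, tdmc_m_15, tdmc_m_16, tdmc_m_17, tdmc_m_18, tdmc_m_19, tdmc_m_20, tdmc_m_21, tdmc_m_22, tdmc_m_23] <;>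
    (refine tdmc_congr12 ?_ ?_ ?_ ?_ ?_ ?_ ?_ ?_ ?_ ?_ ?_ ?_ <;> ring)
  rw [tdmcZ_eq, mul_one, mul_one] at key
  exact key

theorem tdmc_gen_22_a (u a1 a2 a3 : K) :
    (X 22 u * XA a1 a2 a3 : GG K) =
      XA a1 a2 a3 * X 22 u := by
  have key : (X 22 u * XA a1 a2 a3) * (tdmcZ : GG K) = (XA a1 a2 a3 * X 22 u) * tdmcZ := by
    simp only [tdmcZ, XA, XAB, X2AB, mul_assoc, tdmc_t_12_13, tdmc_t_12_14, tdmc_t_12_15, tdmc_t_12_16, tdmc_t_12_17, tdmc_t_12_18, tdmc_t_12_19, tdmc_t_12_20, tdmc_t_12_21, tdmc_t_12_22, tdmc_t_12_23, tdmc_t_13_14, tdmc_t_13_15, tdmc_t_13_16, tdmc_t_13_17, tdmc_t_13_18, tdmc_t_13_19, tdmc_t_13_20, tdmc_t_13_21, tdmc_t_13_22, tdmc_t_13_23, tdmc_t_14_15, tdmc_t_14_16, tdmc_t_14_17, tdmc_t_14_18, tdmc_t_14_19, tdmc_t_14_20, tdmc_t_14_21, tdmc_t_14_22, tdmc_t_14_23, tdmc_t_15_16, tdmc_t_15_17,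 tdmc_t_15_18, tdmc_t_15_19, tdmc_t_15_20, tdmc_t_15_21, tdmc_t_15_22, tdmc_t_15_23, tdmc_t_16_17, tdmc_t_16_18, tdmc_t_16_19, tdmc_t_16_20, tdmc_t_16_21, tdmc_t_16_22, tdmc_t_16_23, tdmc_t_17_18, tdmc_t_17_19, tdmc_t_17_20, tdmc_t_17_21, tdmc_t_17_22, tdmc_t_17_23, tdmc_t_18_19, tdmc_t_18_20, tdmc_t_18_21, tdmc_t_18_22, tdmc_t_18_23, tdmc_t_19_20, tdmc_t_19_21, tdmc_t_19_22, tdmc_t_19_23, tdmc_t_20_21, tdmc_t_20_22, tdmc_t_20_23, tdmc_t_21_22, tdmc_t_21_23, tdmc_t_22_23, tdmc_m_12, tdmc_m_13, tdmc_m_14, tdmc_m_15, tdmc_m_16, tdmc_m_17, tdmc_m_18, tdmc_m_19, tdmc_m_20, tdmc_m_21, tdmc_m_22, tdmc_m_23] <;>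
    (refine tdmc_congr12 ?_ ?_ ?_ ?_ ?_ ?_ ?_ ?_ ?_ ?_ ?_ ?_ <;> ring)
  rw [tdmcZ_eq, mul_one, mul_one] at key
  exact key

theorem tdmc_gen_22_ab (u b1 b2 b3 : K) :
    (X 22 u * XAB b1 b2 b3 : GG K) =
      XAB b1 b2 b3 * X 22 u := by
  have key : (X 22 u * XAB b1 b2 b3) * (tdmcZ : GG K) = (XAB b1 b2 b3 * X 22 u) * tdmcZ := by
    simp only [tdmcZ, XA, XAB, X2AB, mul_assoc, tdmc_t_12_13, tdmc_t_12_14, tdmc_t_12_15, tdmc_t_12_16, tdmc_t_12_17, tdmc_t_12_18, tdmc_t_12_19, tdmc_t_12_20, tdmc_t_12_21, tdmc_t_12_22, tdmc_t_12_23, tdmc_t_13_14, tdmc_t_13_15, tdmc_t_13_16, tdmc_t_13_17, tdmc_t_13_18, tdmc_t_13_19, tdmc_t_13_20, tdmc_t_13_21, tdmc_t_13_22, tdmc_t_13_23, tdmc_t_14_15, tdmc_t_14_16, tdmc_t_14_17, tdmc_t_14_18, tdmc_t_14_19, tdmc_t_14_20, tdmc_t_14_21, tdmc_t_14_22, tdmc_t_14_23, tdmc_t_15_16, tdmc_t_15_17,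 tdmc_t_15_18, tdmc_t_15_19, tdmc_t_15_20, tdmc_t_15_21, tdmc_t_15_22, tdmc_t_15_23, tdmc_t_16_17, tdmc_t_16_18, tdmc_t_16_19, tdmc_t_16_20, tdmc_t_16_21, tdmc_t_16_22, tdmc_t_16_23, tdmc_t_17_18, tdmc_t_17_19, tdmc_t_17_20, tdmc_t_17_21, tdmc_t_17_22, tdmc_t_17_23, tdmc_t_18_19, tdmc_t_18_20, tdmc_t_18_21, tdmc_t_18_22, tdmc_t_18_23, tdmc_t_19_20, tdmc_t_19_21, tdmc_t_19_22, tdmc_t_19_23, tdmc_t_20_21, tdmc_t_20_22, tdmc_t_20_23, tdmc_t_21_22, tdmc_t_21_23, tdmc_t_22_23, tdmc_m_12, tdmc_m_13, tdmc_m_14, tdmc_m_15, tdmc_m_16, tdmc_m_17, tdmc_m_18, tdmc_m_19, tdmc_m_20, tdmc_m_21, tdmc_m_22, tdmc_m_23] <;>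
    (refine tdmc_congr12 ?_ ?_ ?_ ?_ ?_ ?_ ?_ ?_ ?_ ?_ ?_ ?_ <;> ring)
  rw [tdmcZ_eq, mul_one, mul_one] at key
  exact key

theorem tdmc_gen_22_2ab (u d1 d2 d3 : K) :
    (X 22 u * X2AB d1 d2 d3 : GG K) =
      X2AB d1 d2 d3 * X 22 u := by
  have key : (X 22 u * X2AB d1 d2 d3) * (tdmcZ : GG K) = (X2AB d1 d2 d3 * X 22 u) * tdmcZ := by
    simp only [tdmcZ, XA, XAB, X2AB, mul_assoc, tdmc_t_12_13, tdmc_t_12_14, tdmc_t_12_15, tdmc_t_12_16, tdmc_t_12_17, tdmc_t_12_18, tdmc_t_12_19, tdmc_t_12_20, tdmc_t_12_21, tdmc_t_12_22, tdmc_t_12_23, tdmc_t_13_14, tdmc_t_13_15, tdmc_t_13_16, tdmc_t_13_17, tdmc_t_13_18, tdmc_t_13_19, tdmc_t_13_20, tdmc_t_13_21, tdmc_t_13_22, tdmc_t_13_23, tdmc_t_14_15, tdmc_t_14_16, tdmc_t_14_17, tdmc_t_14_18, tdmc_t_14_19, tdmc_t_14_20, tdmc_t_14_21, tdmc_t_14_22, tdmc_t_14_23, tdmc_t_15_16, tdmc_t_15_17,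 tdmc_t_15_18, tdmc_t_15_19, tdmc_t_15_20, tdmc_t_15_21, tdmc_t_15_22, tdmc_t_15_23, tdmc_t_16_17, tdmc_t_16_18, tdmc_t_16_19, tdmc_t_16_20, tdmc_t_16_21, tdmc_t_16_22, tdmc_t_16_23, tdmc_t_17_18, tdmc_t_17_19, tdmc_t_17_20, tdmc_t_17_21, tdmc_t_17_22, tdmc_t_17_23, tdmc_t_18_19, tdmc_t_18_20, tdmc_t_18_21, tdmc_t_18_22, tdmc_t_18_23, tdmc_t_19_20, tdmc_t_19_21, tdmc_t_19_22, tdmc_t_19_23, tdmc_t_20_21, tdmc_t_20_22, tdmc_t_20_23, tdmc_t_21_22, tdmc_t_21_23, tdmc_t_22_23, tdmc_m_12, tdmc_m_13, tdmc_m_14, tdmc_m_15, tdmc_m_16, tdmc_m_17, tdmc_m_18, tdmc_m_19, tdmc_m_20, tdmc_m_21, tdmc_m_22, tdmc_m_23] <;>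
    (refine tdmc_congr12 ?_ ?_ ?_ ?_ ?_ ?_ ?_ ?_ ?_ ?_ ?_ ?_ <;> ring)
  rw [tdmcZ_eq, mul_one, mul_one] at key
  exact key

theorem tdmc_gen_22_23 (u c1 : K) :
    (X 22 u * X 23 c1 : GG K) =
      X 23 c1 * X 22 u := by
  have key : (X 22 u * X 23 c1) * (tdmcZ : GG K) = (X 23 c1 * X 22 u) * tdmcZ := by
    simp only [tdmcZ, XA, XAB, X2AB, mul_assoc, tdmc_t_12_13, tdmc_t_12_14, tdmc_t_12_15, tdmc_t_12_16, tdmc_t_12_17, tdmc_t_12_18, tdmc_t_12_19, tdmc_t_12_20, tdmc_t_12_21, tdmc_t_12_22, tdmc_t_12_23, tdmc_t_13_14, tdmc_t_13_15, tdmc_t_13_16, tdmc_t_13_17, tdmc_t_13_18, tdmc_t_13_19, tdmc_t_13_20, tdmc_t_13_21, tdmc_t_13_22, tdmc_t_13_23, tdmc_t_14_15, tdmc_t_14_16, tdmc_t_14_17, tdmc_t_14_18, tdmc_t_14_19, tdmc_t_14_20, tdmc_t_14_21, tdmc_t_14_22, tdmc_t_14_23, tdmc_t_15_16, tdmc_t_15_17, tdmc_t_15_18, tdmc_t_15_19,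 tdmc_t_15_20, tdmc_t_15_21, tdmc_t_15_22, tdmc_t_15_23, tdmc_t_16_17, tdmc_t_16_18, tdmc_t_16_19, tdmc_t_16_20, tdmc_t_16_21, tdmc_t_16_22, tdmc_t_16_23, tdmc_t_17_18, tdmc_t_17_19, tdmc_t_17_20, tdmc_t_17_21, tdmc_t_17_22, tdmc_t_17_23, tdmc_t_18_19, tdmc_t_18_20, tdmc_t_18_21, tdmc_t_18_22, tdmc_t_18_23, tdmc_t_19_20, tdmc_t_19_21, tdmc_t_19_22, tdmc_t_19_23, tdmc_t_20_21, tdmc_t_20_22, tdmc_t_20_23, tdmc_t_21_22, tdmc_t_21_23, tdmc_t_22_23, tdmc_m_12, tdmc_m_13, tdmc_m_14, tdmc_m_15, tdmc_m_16, tdmc_m_17, tdmc_m_18, tdmc_m_19, tdmc_m_20, tdmc_m_21, tdmc_m_22, tdmc_m_23] <;>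
    (refine tdmc_congr12 ?_ ?_ ?_ ?_ ?_ ?_ ?_ ?_ ?_ ?_ ?_ ?_ <;> ring)
  rw [tdmcZ_eq, mul_one, mul_one] at key
  exact key

theorem tdmc_gen_23_a (u a1 a2 a3 : K) :
    (X 23 u * XA a1 a2 a3 : GG K) =
      XA a1 a2 a3 * X 23 u := by
  have key : (X 23 u * XA a1 a2 a3) * (tdmcZ : GG K) = (XA a1 a2 a3 * X 23 u) * tdmcZ := by
    simp only [tdmcZ, XA, XAB, X2AB, mul_assoc, tdmc_t_12_13, tdmc_t_12_14, tdmc_t_12_15, tdmc_t_12_16, tdmc_t_12_17, tdmc_t_12_18, tdmc_t_12_19, tdmc_t_12_20, tdmc_t_12_21, tdmc_t_12_22, tdmc_t_12_23, tdmc_t_13_14, tdmc_t_13_15, tdmc_t_13_16, tdmc_t_13_17, tdmc_t_13_18, tdmc_t_13_19, tdmc_t_13_20, tdmc_t_13_21, tdmc_t_13_22, tdmc_t_13_23, tdmc_t_14_15, tdmc_t_14_16, tdmc_t_14_17, tdmc_t_14_18, tdmc_t_14_19, tdmc_t_14_20, tdmc_t_14_21, tdmc_t_14_22, tdmc_t_14_23, tdmc_t_15_16, tdmc_t_15_17,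 tdmc_t_15_18, tdmc_t_15_19, tdmc_t_15_20, tdmc_t_15_21, tdmc_t_15_22, tdmc_t_15_23, tdmc_t_16_17, tdmc_t_16_18, tdmc_t_16_19, tdmc_t_16_20, tdmc_t_16_21, tdmc_t_16_22, tdmc_t_16_23, tdmc_t_17_18, tdmc_t_17_19, tdmc_t_17_20, tdmc_t_17_21, tdmc_t_17_22, tdmc_t_17_23, tdmc_t_18_19, tdmc_t_18_20, tdmc_t_18_21, tdmc_t_18_22, tdmc_t_18_23, tdmc_t_19_20, tdmc_t_19_21, tdmc_t_19_22, tdmc_t_19_23, tdmc_t_20_21, tdmc_t_20_22, tdmc_t_20_23, tdmc_t_21_22, tdmc_t_21_23, tdmc_t_22_23, tdmc_m_12, tdmc_m_13, tdmc_m_14, tdmc_m_15, tdmc_m_16, tdmc_m_17, tdmc_m_18, tdmc_m_19, tdmc_m_20, tdmc_m_21, tdmc_m_22, tdmc_m_23] <;>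
    (refine tdmc_congr12 ?_ ?_ ?_ ?_ ?_ ?_ ?_ ?_ ?_ ?_ ?_ ?_ <;> ring)
  rw [tdmcZ_eq, mul_one, mul_one] at key
  exact key

theorem tdmc_gen_23_ab (u b1 b2 b3 : K) :
    (X 23 u * XAB b1 b2 b3 : GG K) =
      XAB b1 b2 b3 * X 23 u := by
  have key : (X 23 u * XAB b1 b2 b3) * (tdmcZ : GG K) = (XAB b1 b2 b3 * X 23 u) * tdmcZ := by
    simp only [tdmcZ, XA, XAB, X2AB, mul_assoc, tdmc_t_12_13, tdmc_t_12_14, tdmc_t_12_15, tdmc_t_12_16, tdmc_t_12_17, tdmc_t_12_18, tdmc_t_12_19, tdmc_t_12_20, tdmc_t_12_21, tdmc_t_12_22, tdmc_t_12_23, tdmc_t_13_14, tdmc_t_13_15, tdmc_t_13_16, tdmc_t_13_17, tdmc_t_13_18, tdmc_t_13_19, tdmc_t_13_20, tdmc_t_13_21, tdmc_t_13_22, tdmc_t_13_23, tdmc_t_14_15, tdmc_t_14_16, tdmc_t_14_17, tdmc_t_14_18, tdmc_t_14_19, tdmc_t_14_20, tdmc_t_14_21, tdmc_t_14_22, tdmc_t_14_23, tdmc_t_15_16, tdmc_t_15_17,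 tdmc_t_15_18, tdmc_t_15_19, tdmc_t_15_20, tdmc_t_15_21, tdmc_t_15_22, tdmc_t_15_23, tdmc_t_16_17, tdmc_t_16_18, tdmc_t_16_19, tdmc_t_16_20, tdmc_t_16_21, tdmc_t_16_22, tdmc_t_16_23, tdmc_t_17_18, tdmc_t_17_19, tdmc_t_17_20, tdmc_t_17_21, tdmc_t_17_22, tdmc_t_17_23, tdmc_t_18_19, tdmc_t_18_20, tdmc_t_18_21, tdmc_t_18_22, tdmc_t_18_23, tdmc_t_19_20, tdmc_t_19_21, tdmc_t_19_22, tdmc_t_19_23, tdmc_t_20_21, tdmc_t_20_22, tdmc_t_20_23, tdmc_t_21_22, tdmc_t_21_23, tdmc_t_22_23, tdmc_m_12, tdmc_m_13, tdmc_m_14, tdmc_m_15, tdmc_m_16, tdmc_m_17, tdmc_m_18, tdmc_m_19, tdmc_m_20, tdmc_m_21, tdmc_m_22, tdmc_m_23] <;>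
    (refine tdmc_congr12 ?_ ?_ ?_ ?_ ?_ ?_ ?_ ?_ ?_ ?_ ?_ ?_ <;> ring)
  rw [tdmcZ_eq, mul_one, mul_one] at key
  exact key

theorem tdmc_gen_23_2ab (u d1 d2 d3 : K) :
    (X 23 u * X2AB d1 d2 d3 : GG K) =
      X2AB d1 d2 d3 * X 23 u := by
  have key : (X 23 u * X2AB d1 d2 d3) * (tdmcZ : GG K) = (X2AB d1 d2 d3 * X 23 u) * tdmcZ := by
    simp only [tdmcZ, XA, XAB, X2AB, mul_assoc, tdmc_t_12_13, tdmc_t_12_14, tdmc_t_12_15, tdmc_t_12_16, tdmc_t_12_17, tdmc_t_12_18, tdmc_t_12_19, tdmc_t_12_20, tdmc_t_12_21, tdmc_t_12_22, tdmc_t_12_23, tdmc_t_13_14, tdmc_t_13_15, tdmc_t_13_16, tdmc_t_13_17, tdmc_t_13_18, tdmc_t_13_19, tdmc_t_13_20, tdmc_t_13_21, tdmc_t_13_22, tdmc_t_13_23, tdmc_t_14_15, tdmc_t_14_16, tdmc_t_14_17, tdmc_t_14_18, tdmc_t_14_19, tdmc_t_14_20, tdmc_t_14_21, tdmc_t_14_22, tdmc_t_14_23, tdmc_t_15_16, tdmc_t_15_17,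 tdmc_t_15_18, tdmc_t_15_19, tdmc_t_15_20, tdmc_t_15_21, tdmc_t_15_22, tdmc_t_15_23, tdmc_t_16_17, tdmc_t_16_18, tdmc_t_16_19, tdmc_t_16_20, tdmc_t_16_21, tdmc_t_16_22, tdmc_t_16_23, tdmc_t_17_18, tdmc_t_17_19, tdmc_t_17_20, tdmc_t_17_21, tdmc_t_17_22, tdmc_t_17_23, tdmc_t_18_19, tdmc_t_18_20, tdmc_t_18_21, tdmc_t_18_22, tdmc_t_18_23, tdmc_t_19_20, tdmc_t_19_21, tdmc_t_19_22, tdmc_t_19_23, tdmc_t_20_21, tdmc_t_20_22, tdmc_t_20_23, tdmc_t_21_22, tdmc_t_21_23, tdmc_t_22_23, tdmc_m_12, tdmc_m_13, tdmc_m_14, tdmc_m_15, tdmc_m_16, tdmc_m_17, tdmc_m_18, tdmc_m_19, tdmc_m_20, tdmc_m_21, tdmc_m_22, tdmc_m_23] <;>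
    (refine tdmc_congr12 ?_ ?_ ?_ ?_ ?_ ?_ ?_ ?_ ?_ ?_ ?_ ?_ <;> ring)
  rw [tdmcZ_eq, mul_one, mul_one] at key
  exact key

theorem tdmc_gen_23_14 (u c1 : K) :
    (X 23 u * X 14 c1 : GG K) =
      X 14 c1 * X 23 u := by
  have key : (X 23 u * X 14 c1) * (tdmcZ : GG K) = (X 14 c1 * X 23 u) * tdmcZ := by
    simp only [tdmcZ, XA, XAB, X2AB, mul_assoc, tdmc_t_12_13, tdmc_t_12_14, tdmc_t_12_15, tdmc_t_12_16, tdmc_t_12_17, tdmc_t_12_18, tdmc_t_12_19, tdmc_t_12_20, tdmc_t_12_21, tdmc_t_12_22, tdmc_t_12_23, tdmc_t_13_14, tdmc_t_13_15, tdmc_t_13_16, tdmc_t_13_17, tdmc_t_13_18, tdmc_t_13_19, tdmc_t_13_20, tdmc_t_13_21, tdmc_t_13_22, tdmc_t_13_23, tdmc_t_14_15, tdmc_t_14_16, tdmc_t_14_17, tdmc_t_14_18, tdmc_t_14_19, tdmc_t_14_20, tdmc_t_14_21, tdmc_t_14_22, tdmc_t_14_23, tdmc_t_15_16, tdmc_t_15_17, tdmc_t_15_18, tdmc_t_15_19,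 tdmc_t_15_20, tdmc_t_15_21, tdmc_t_15_22, tdmc_t_15_23, tdmc_t_16_17, tdmc_t_16_18, tdmc_t_16_19, tdmc_t_16_20, tdmc_t_16_21, tdmc_t_16_22, tdmc_t_16_23, tdmc_t_17_18, tdmc_t_17_19, tdmc_t_17_20, tdmc_t_17_21, tdmc_t_17_22, tdmc_t_17_23, tdmc_t_18_19, tdmc_t_18_20, tdmc_t_18_21, tdmc_t_18_22, tdmc_t_18_23, tdmc_t_19_20, tdmc_t_19_21, tdmc_t_19_22, tdmc_t_19_23, tdmc_t_20_21, tdmc_t_20_22, tdmc_t_20_23, tdmc_t_21_22, tdmc_t_21_23, tdmc_t_22_23, tdmc_m_12, tdmc_m_13, tdmc_m_14, tdmc_m_15, tdmc_m_16, tdmc_m_17, tdmc_m_18, tdmc_m_19, tdmc_m_20, tdmc_m_21, tdmc_m_22, tdmc_m_23] <;>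
    (refine tdmc_congr12 ?_ ?_ ?_ ?_ ?_ ?_ ?_ ?_ ?_ ?_ ?_ ?_ <;> ring)
  rw [tdmcZ_eq, mul_one, mul_one] at key
  exact key

end Cfsg.Agent.Lib.helper8.TDM
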