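import Mathlib
import Cfsg.Agent.Lib.helper8.TDM.Defs
import Cfsg.Agent.Lib.helper8.TDMColl
import Cfsg.Agent.Lib.helper8.ChevTwD4U
import Cfsg.Agent.Lib.helper8.ChevTwU3
import Cfsg.Agent.Lib.helper8.ChevTw8
import Cfsg.Agent.Lib.helper15.TD4VM1

/-!
# Project TDM (S2192), rows U1 (`U1_nf`) and U1b (`NFU_inj`), verbatim: the normal form of the elements of
`U¹ = U ⊓ ³D₄(q)` and its uniqueness, from helper8's block filtration of `U` (`h8Ub`, `h8Ub_step`, `h8Ub_unique`,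
`h8Sig_fix_split`).
-/

set_option autoImplicit false
set_option linter.unusedSimpArgs false
set_option linter.unnecessarySeqFocus false
set_option linter.unreachableTactic false
set_option linter.unusedTactic false

namespace Cfsg.Agent.Lib.helper8.TDM

open Cfsg.Lie Cfsg.Lie.ChevalleyDatum Matrix
open Cfsg.Agent.Lib.helper8 Cfsg.Agent.Lib.helper8.TD4
open Cfsg.Agent.Lib.helper23.TD4V

universe u

section U

variable {K : Type u} [Field K]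

/-- the blocks -/
theorem tdmu1_L : h8Lb chevD4 h8posiD4 0 = [12, 13, 18] ∧ h8Lb chevD4 h8posiD4 1 = [14] ∧
    h8Lb chevD4 h8posiD4 2 = [15, 16, 19] ∧ h8Lb chevD4 h8posiD4 3 = [17, 20, 21] ∧
    h8Lb chevD4 h8posiD4 4 = [22] ∧ h8Lb chevD4 h8posiD4 5 = [23] := by decide +kernel

/-- the data of the twisting endomorphism on the positive roots -/
theorem tdmu1_tau : h8tD4 13 = 18 ∧ h8tD4 12 = 13 ∧ h8tD4 14 = 14 ∧ h8tD4 16 = 19 ∧ h8tD4 15 = 16 ∧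
    h8tD4 21 = 20 ∧ h8tD4 17 = 21 ∧ h8tD4 22 = 22 ∧ h8tD4 23 = 23 ∧
    h8eD4 18 = 1 ∧ h8eD4 13 = 1 ∧ h8eD4 14 = 1 ∧ h8eD4 19 = -1 ∧ h8eD4 16 = 1 ∧
    h8eD4 20 = 1 ∧ h8eD4 21 = -1 ∧ h8eD4 22 = 1 ∧ h8eD4 23 = 1 := by decide +kernel

theorem tdmu1_P0 (t : ℕ → K) : h8Pb chevD4 hB [12, 13, 18] t = XA (t 18) (t 13) (t 12) := by
  rw [h8Pb_cons, h8Pb_cons, h8Pb_cons, h8Pb_nil]
  show X 12 (t 12) * (X 13 (t 13) * (X 18 (t 18) * 1)) = XA (t 18) (t 13) (t 12)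
  rw [← mul_one (XA (t 18) (t 13) (t 12))]
  unfold XA
  simp only [mul_assoc, tdmc_t_12_13, tdmc_t_12_18, tdmc_t_13_18]

theorem tdmu1_P2 (t : ℕ → K) : h8Pb chevD4 hB [15, 16, 19] t = XAB (t 19) (t 16) (t 15) := by
  rw [h8Pb_cons, h8Pb_cons, h8Pb_cons, h8Pb_nil]
  show X 15 (t 15) * (X 16 (t 16) * (X 19 (t 19) * 1)) = XAB (t 19) (t 16) (t 15)
  rw [← mul_one (XAB (t 19) (t 16) (t 15))]
  unfold XAB
  simp only [mul_assoc, tdmc_t_15_16, tdmc_t_15_19, tdmc_t_16_19]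

theorem tdmu1_P3 (t : ℕ → K) : h8Pb chevD4 hB [17, 20, 21] t = X2AB (t 20) (t 21) (t 17) := by
  rw [h8Pb_cons, h8Pb_cons, h8Pb_cons, h8Pb_nil]
  show X 17 (t 17) * (X 20 (t 20) * (X 21 (t 21) * 1)) = X2AB (t 20) (t 21) (t 17)
  rw [← mul_one (X2AB (t 20) (t 21) (t 17))]
  unfold X2AB
  simp only [mul_assoc, tdmc_t_17_20, tdmc_t_17_21, tdmc_t_20_21]

theorem tdmu1_P1 (r : ℕ) (t : ℕ → K) : h8Pb chevD4 hB [r] t = X r (t r) := by
  rw [h8Pb_cons, h8Pb_nil, mul_one]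
  rfl

end U

section U1

variable {K : Type u} [Field K] [Fintype K] (q : ℕ)

omit [Fintype K] in
/-- one step of the block decomposition of a fixed element of `U` -/
theorem tdmu1_step (hA : H8ReflAll chevD4) (hC : H8CommAll.{u} chevD4) (hBN : H8BN chevD4)
    (hO2 : H8Ord2 chevD4) (f : K ≃+* K) (i : ℕ) (g : GG K) (hg : g ∈ h8Ub chevD4 K h8posiD4 i)
    (hfix : h8Sig chevD4 h8sD4 h8tD4 h8pD4 h8qD4 h8eD4 (h8autD4 hA) f g = g) :
    ∃ t : ℕ → K, ∃ v ∈ h8Ub chevD4 K h8posiD4 (i + 1),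
      g = h8Pb chevD4 hB (h8Lb chevD4 h8posiD4 i) t * v ∧
      (∀ k ∈ h8Lb chevD4 h8posiD4 i, h8tS h8tD4 h8eD4 f t k = t k) ∧
      h8Sig chevD4 h8sD4 h8tD4 h8pD4 h8qD4 h8eD4 (h8autD4 hA) f v = v := by
  have hσp : ∀ r, chevD4.IsPosRoot r →
      chevD4.IsPosRoot (h8sD4 r) ∧ h8posiD4 (h8sD4 r) = h8posiD4 r :=
    fun r hr => ⟨(h8uD4_sig1 r hr.1 hr).1, (h8uD4_sig1 r hr.1 hr).2.1⟩
  obtain ⟨t, v, hv, rfl⟩ := h8Ub_step chevD4 hB hC hBN hO2 h8posiD4 h8uD4_blk i g hg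
  obtain ⟨h1, h2⟩ := h8Sig_fix_split chevD4 hB hC hBN hO2 h8posiD4 h8uD4_blk h8uD4_read h8sD4 h8tD4
    h8pD4 h8qD4 h8eD4 (h8autD4 hA) f hσp i t v hv hfix
  exact ⟨t, v, hv, rfl, h1, h2⟩

/-- **U1** [H]. -/
theorem U1_nf (hq : IsPrimePow q) (hK : Fintype.card K = q ^ 3) (g : GG K) (hg : g ∈ U1 K q) :
    ∃ t1 c1 t2 t3 c2 c3 : K, c1 ^ q = c1 ∧ c2 ^ q = c2 ∧ c3 ^ q = c3 ∧ g = NFU q t1 c1 t2 t3 c2 c3 := by
  have hD : chevD4 ∈ [chevG2, chevB2, chevD4, chevF4, chevE6, chevE7, chevE8] := by simp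
  have hA := h8reflAll chevD4 hD
  have hC := h8commAll.{u} chevD4 hD
  have hBN := h8bn_all chevD4 hD
  obtain ⟨hO, hO2⟩ := h8ord_all chevD4 hD
  obtain ⟨f, hf, hfff3, hneg⟩ := h8frob_exists hq 3 (by norm_num) hK
  have hfff : ∀ t, f (f (f t)) = t := fun t => hfff3 t
  have hfixG := h8twD4_fix hB hC hA q f hf hfff
  have hM : ∀ r, chevD4.IsPosRoot r → h8posiD4 r < 6 := fun r hr => (h8uD4_sig1 r hr.1 hr).2.2
  have hg0 : g ∈ h8Ub chevD4 K h8posiD4 0 := by rw [h8Ub_zero]; exact hg.1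
  have hfix0 := hfixG g hg.2
  obtain ⟨L0, L1, L2, L3, L4, L5⟩ := tdmu1_L
  obtain ⟨τ13, τ12, τ14, τ16, τ15, τ21, τ17, τ22, τ23, e18, e13, e14, e19, e16, e20, e21, e22, e23⟩ :=
    tdmu1_tau
  obtain ⟨t0, g1, hg1, rfl, hc0, hfix1⟩ := tdmu1_step hA hC hBN hO2 f 0 g hg0 hfix0
  obtain ⟨t1, g2, hg2, rfl, hc1, hfix2⟩ := tdmu1_step hA hC hBN hO2 f 1 g1 hg1 hfix1
  obtain ⟨t2, g3, hg3, rfl, hc2, hfix3⟩ := tdmu1_step hA hC hBN hO2 f 2 g2 hg2 hfix2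
  obtain ⟨t3, g4, hg4, rfl, hc3, hfix4⟩ := tdmu1_step hA hC hBN hO2 f 3 g3 hg3 hfix3
  obtain ⟨t4, g5, hg5, rfl, hc4, hfix5⟩ := tdmu1_step hA hC hBN hO2 f 4 g4 hg4 hfix4
  obtain ⟨t5, g6, hg6, rfl, hc5, hfix6⟩ := tdmu1_step hA hC hBN hO2 f 5 g5 hg5 hfix5
  have hg6' : g6 = 1 := by
    have h := hg6
    rw [show (5 + 1 : ℕ) = 6 from rfl, h8Ub_top chevD4 h8posiD4 6 hM, Subgroup.mem_bot] at h
    exact h
  rw [L0] at hc0
  rw [L1] at hc1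
  rw [L2] at hc2
  rw [L3] at hc3
  rw [L4] at hc4
  rw [L5] at hc5
  have a13 : t0 13 = t0 18 ^ q := by
    have := hc0 13 (by simp)
    unfold h8tS at this
    rw [τ13, e18, Int.cast_one, one_mul, hf] at this
    exact this.symm
  have a12 : t0 12 = t0 18 ^ (q ^ 2) := by
    have := hc0 12 (by simp)
    unfold h8tS at this
    rw [τ12, e13, Int.cast_one, one_mul, hf, a13, ← pow_mul, ← pow_two] at this
    exact this.symm
  have a14 : t1 14 ^ q = t1 14 := by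
    have := hc1 14 (by simp)
    unfold h8tS at this
    rw [τ14, e14, Int.cast_one, one_mul, hf] at this
    exact this
  have a16 : t2 16 = -(t2 19 ^ q) := by
    have := hc2 16 (by simp)
    unfold h8tS at this
    rw [τ16, e19, Int.cast_neg, Int.cast_one, neg_one_mul, hf] at this
    exact this.symm
  have a15 : t2 15 = -(t2 19 ^ (q ^ 2)) := by
    have := hc2 15 (by simp)
    unfold h8tS at this
    rw [τ15, e16, Int.cast_one, one_mul, a16, map_neg, hf, ← pow_mul, ← pow_two] at this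
    exact this.symm
  have a21 : t3 21 = t3 20 ^ q := by
    have := hc3 21 (by simp)
    unfold h8tS at this
    rw [τ21, e20, Int.cast_one, one_mul, hf] at this
    exact this.symm
  have a17 : t3 17 = -(t3 20 ^ (q ^ 2)) := by
    have := hc3 17 (by simp)
    unfold h8tS at this
    rw [τ17, e21, Int.cast_neg, Int.cast_one, neg_one_mul, a21, hf, ← pow_mul, ← pow_two] at this
    exact this.symm
  have a22 : t4 22 ^ q = t4 22 := by
    have := hc4 22 (by simp)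
    unfold h8tS at this
    rw [τ22, e22, Int.cast_one, one_mul, hf] at this
    exact this
  have a23 : t5 23 ^ q = t5 23 := by
    have := hc5 23 (by simp)
    unfold h8tS at this
    rw [τ23, e23, Int.cast_one, one_mul, hf] at this
    exact this
  refine ⟨t0 18, t1 14, t2 19, t3 20, t4 22, t5 23, a14, a22, a23, ?_⟩
  rw [L0, L1, L2, L3, L4, L5, tdmu1_P0, tdmu1_P1, tdmu1_P2, tdmu1_P3, tdmu1_P1, tdmu1_P1, hg6', mul_one,
    a13, a12, a16, a15, a21, a17]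
  unfold NFU Xa Xab X2ab
  simp only [mul_assoc]

omit [Fintype K] in
theorem tdmu1_mem (i r : ℕ) (h : chevD4.IsPosRoot r ∧ i ≤ h8posiD4 r) (t : K) :
    X r t ∈ h8Ub chevD4 K h8posiD4 i :=
  h8xU_mem_Ub chevD4 hB h8posiD4 i r h.1 h.2 t

omit [Fintype K] in
/-- uniqueness of the twelve coordinates of an element of `U` -/
theorem tdmu1_inj12 (a1 a2 a3 c1 b1 b2 b3 d1 d2 d3 c2 c3 a1' a2' a3' c1' b1' b2' b3' d1' d2' d3' c2' c3' : K)
    (h : XA a1 a2 a3 * (X 14 c1 * (XAB b1 b2 b3 * (X2AB d1 d2 d3 * (X 22 c2 * X 23 c3)))) =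
      XA a1' a2' a3' * (X 14 c1' * (XAB b1' b2' b3' * (X2AB d1' d2' d3' * (X 22 c2' * X 23 c3'))))) :
    a1 = a1' ∧ a2 = a2' ∧ a3 = a3' ∧ c1 = c1' ∧ b1 = b1' ∧ b2 = b2' ∧ b3 = b3' ∧ d1 = d1' ∧ d2 = d2' ∧
      d3 = d3' ∧ c2 = c2' ∧ c3 = c3' := by
  have hD : chevD4 ∈ [chevG2, chevB2, chevD4, chevF4, chevE6, chevE7, chevE8] := by simp
  have hC := h8commAll.{u} chevD4 hD
  have hBN := h8bn_all chevD4 hD
  obtain ⟨hO, hO2⟩ := h8ord_all chevD4 hD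
  obtain ⟨L0, L1, L2, L3, L4, L5⟩ := tdmu1_L
  have hU := h8Ub_unique chevD4 hB hC hBN hO2 h8posiD4 h8uD4_blk h8uD4_read (K := K)
  have m : ∀ (i r : ℕ), (chevD4.IsPosRoot r ∧ i ≤ h8posiD4 r) → ∀ t : K,
      X r t ∈ h8Ub chevD4 K h8posiD4 i := fun i r h t => tdmu1_mem i r h t
  have mAB : ∀ x y z : K, XAB x y z ∈ h8Ub chevD4 K h8posiD4 2 := fun x y z =>
    Subgroup.mul_mem _ (Subgroup.mul_mem _ (m 2 19 (by decide +kernel) _) (m 2 16 (by decide +kernel) _))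
      (m 2 15 (by decide +kernel) _)
  have m2AB : ∀ x y z : K, X2AB x y z ∈ h8Ub chevD4 K h8posiD4 3 := fun x y z =>
    Subgroup.mul_mem _ (Subgroup.mul_mem _ (m 3 20 (by decide +kernel) _) (m 3 21 (by decide +kernel) _))
      (m 3 17 (by decide +kernel) _)
  have le : ∀ i, h8Ub chevD4 K h8posiD4 (i + 1) ≤ h8Ub chevD4 K h8posiD4 i :=
    fun i => h8Ub_mono chevD4 h8posiD4 i
  -- memberships of the tails
  have v5 : ∀ x : K, X 23 x ∈ h8Ub chevD4 K h8posiD4 5 := fun x => m 5 23 (by decide +kernel) x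
  have v4 : ∀ x y : K, X 22 x * X 23 y ∈ h8Ub chevD4 K h8posiD4 4 := fun x y =>
    Subgroup.mul_mem _ (m 4 22 (by decide +kernel) x) (le 4 (v5 y))
  have v3 : ∀ (x1 x2 x3 x y : K), X2AB x1 x2 x3 * (X 22 x * X 23 y) ∈ h8Ub chevD4 K h8posiD4 3 :=
    fun x1 x2 x3 x y => Subgroup.mul_mem _ (m2AB _ _ _) (le 3 (v4 x y))
  have v2 : ∀ (y1 y2 y3 x1 x2 x3 x y : K), XAB y1 y2 y3 * (X2AB x1 x2 x3 * (X 22 x * X 23 y)) ∈
      h8Ub chevD4 K h8posiD4 2 :=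
    fun y1 y2 y3 x1 x2 x3 x y => Subgroup.mul_mem _ (mAB _ _ _) (le 2 (v3 x1 x2 x3 x y))
  have v1 : ∀ (c y1 y2 y3 x1 x2 x3 x y : K), X 14 c * (XAB y1 y2 y3 * (X2AB x1 x2 x3 * (X 22 x * X 23 y))) ∈
      h8Ub chevD4 K h8posiD4 1 :=
    fun c y1 y2 y3 x1 x2 x3 x y => Subgroup.mul_mem _ (m 1 14 (by decide +kernel) c)
      (le 1 (v2 y1 y2 y3 x1 x2 x3 x y))
  -- coordinate functions
  let T3 : K → K → K → ℕ → K := fun x y z r => if r = 18 ∨ r = 19 ∨ r = 20 then x else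
    if r = 13 ∨ r = 16 ∨ r = 21 then y else z
  have eA : ∀ x y z : K, XA x y z = h8Pb chevD4 hB (h8Lb chevD4 h8posiD4 0) (T3 x y z) := by
    intro x y z
    rw [L0, tdmu1_P0]
    simp [T3]
  have eAB : ∀ x y z : K, XAB x y z = h8Pb chevD4 hB (h8Lb chevD4 h8posiD4 2) (T3 x y z) := by
    intro x y z
    rw [L2, tdmu1_P2]
    simp [T3]
  have e2AB : ∀ x y z : K, X2AB x y z = h8Pb chevD4 hB (h8Lb chevD4 h8posiD4 3) (T3 x y z) := by
    intro x y z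
    rw [L3, tdmu1_P3]
    simp [T3]
  have e1 : ∀ (i r : ℕ) (_ : h8Lb chevD4 h8posiD4 i = [r]) (x : K),
      X r x = h8Pb chevD4 hB (h8Lb chevD4 h8posiD4 i) (fun _ => x) := by
    intro i r hL x
    rw [hL, tdmu1_P1]
  -- block 0
  have h0 := h
  rw [eA, eA a1'] at h0
  have u0 := hU 0 _ _ _ _ (v1 _ _ _ _ _ _ _ _ _) (v1 _ _ _ _ _ _ _ _ _) h0
  rw [L0] at u0
  have r1 : a1 = a1' := by simpa [T3] using u0 18 (by simp)
  have r2 : a2 = a2' := by simpa [T3] using u0 13 (by simp)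
  have r3 : a3 = a3' := by simpa [T3] using u0 12 (by simp)
  subst r1 r2 r3
  have h1 := mul_left_cancel h
  -- block 1
  have h1' := h1
  rw [e1 1 14 L1 c1, e1 1 14 L1 c1'] at h1'
  have u1 := hU 1 _ _ _ _ (v2 _ _ _ _ _ _ _ _) (v2 _ _ _ _ _ _ _ _) h1'
  rw [L1] at u1
  have r4 : c1 = c1' := u1 14 (by simp)
  subst r4
  have h2 := mul_left_cancel h1
  -- block 2
  have h2' := h2
  rw [eAB, eAB b1'] at h2'
  have u2 := hU 2 _ _ _ _ (v3 _ _ _ _ _) (v3 _ _ _ _ _) h2'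
  rw [L2] at u2
  have r5 : b1 = b1' := by simpa [T3] using u2 19 (by simp)
  have r6 : b2 = b2' := by simpa [T3] using u2 16 (by simp)
  have r7 : b3 = b3' := by simpa [T3] using u2 15 (by simp)
  subst r5 r6 r7
  have h3 := mul_left_cancel h2
  -- block 3
  have h3' := h3
  rw [e2AB, e2AB d1'] at h3'
  have u3 := hU 3 _ _ _ _ (v4 _ _) (v4 _ _) h3'
  rw [L3] at u3
  have r8 : d1 = d1' := by simpa [T3] using u3 20 (by simp)
  have r9 : d2 = d2' := by simpa [T3] using u3 21 (by simp)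
  have r10 : d3 = d3' := by simpa [T3] using u3 17 (by simp)
  subst r8 r9 r10
  have h4 := mul_left_cancel h3
  -- block 4
  have h4' := h4
  rw [e1 4 22 L4 c2, e1 4 22 L4 c2'] at h4'
  have u4 := hU 4 _ _ _ _ (v5 _) (v5 _) h4'
  rw [L4] at u4
  have r11 : c2 = c2' := u4 22 (by simp)
  subst r11
  have h5 := mul_left_cancel h4
  -- block 5
  have h5' : X 23 c3 * 1 = X 23 c3' * (1 : GG K) := by rw [mul_one, mul_one]; exact h5
  rw [e1 5 23 L5 c3, e1 5 23 L5 c3'] at h5'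
  have u5 := hU 5 _ _ _ _ (Subgroup.one_mem _) (Subgroup.one_mem _) h5'
  rw [L5] at u5
  have r12 : c3 = c3' := u5 23 (by simp)
  subst r12
  exact ⟨rfl, rfl, rfl, rfl, rfl, rfl, rfl, rfl, rfl, rfl, rfl, rfl⟩

/-- **U1b** [M-H]. -/
theorem NFU_inj (hq : IsPrimePow q) (hK : Fintype.card K = q ^ 3)
    (t1 c1 t2 t3 c2 c3 t1' c1' t2' t3' c2' c3' : K)
    (h : NFU q t1 c1 t2 t3 c2 c3 = NFU q t1' c1' t2' t3' c2' c3') :
    t1 = t1' ∧ c1 = c1' ∧ t2 = t2' ∧ t3 = t3' ∧ c2 = c2' ∧ c3 = c3' := by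
  unfold NFU Xa Xab X2ab at h
  simp only [mul_assoc] at h
  obtain ⟨r1, -, -, r4, r5, -, -, r8, -, -, r11, r12⟩ := tdmu1_inj12 _ _ _ _ _ _ _ _ _ _ _ _ _ _ _ _ _ _ _ _ _ _ _ _ h
  exact ⟨r1, r4, r5, r8, r11, r12⟩

end U1

end Cfsg.Agent.Lib.helper8.TDM
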