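import Mathlib
import Cfsg.Prelude.Def_ChevStructure
import Cfsg.Agent.Lib.helper8.ChevCox2
import Cfsg.Agent.Lib.helper8.ChevCommOrb

set_option autoImplicit false

namespace Cfsg.Agent.Lib.helper8

open Cfsg.Lie Cfsg.Lie.ChevalleyDatum

def h8tb (n T k r : ℕ) : ℕ := h8unpS 8 T (n * k + r)

def h8lvTree (D : ChevalleyDatum) (sgs T par gen j0 k : ℕ) : Bool :=
  if k = 0 then (List.range D.nroots).all fun r => h8tb D.nroots T 0 r == r
  else decide (h8unpS 8 par k < k) && decide (h8unpS 8 gen k < j0) &&
    (List.range D.nroots).all fun r => h8tb D.nroots T k r ==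
      h8sgS sgs D.nroots (h8unpS 8 gen k) (h8tb D.nroots T (h8unpS 8 par k) r)

def h8lvL2 (D : ChevalleyDatum) (T mask k : ℕ) : Bool :=
  (List.range D.nroots).all fun r => decide (r < D.nroots / 2) || mask.testBit r ||
    (decide (D.nroots / 2 ≤ h8tb D.nroots T k r) && decide (h8tb D.nroots T k r < D.nroots))

def h8lvL3 (D : ChevalleyDatum) (sgs T cert j0 m k : ℕ) : Bool :=
  (List.range j0).all fun i =>
    if h8unpS 16 cert (8 * k + i) % 2 = 0 then
      decide (h8unpS 16 cert (8 * k + i) / 2 < m) &&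
      (List.range D.nroots).all fun r => h8sgS sgs D.nroots i (h8tb D.nroots T k r) ==
        h8tb D.nroots T (h8unpS 16 cert (8 * k + i) / 2) r
    else
      decide (h8unpS 16 cert (8 * k + i) / 2 < j0 - 1) &&
      (List.range D.nroots).all fun r => h8sgS sgs D.nroots i (h8tb D.nroots T k r) ==
        h8tb D.nroots T k (h8sgS sgs D.nroots (h8unpS 16 cert (8 * k + i) / 2) r)

def h8lvRow (D : ChevalleyDatum) (sgs T par gen cert mask j0 m k : ℕ) : Bool :=
  h8lvTree D sgs T par gen j0 k && h8lvL2 D T mask k && h8lvL3 D sgs T cert j0 m k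

def h8lvMask (D : ChevalleyDatum) (sgs mask j0 : ℕ) : Bool :=
  decide (mask < 2 ^ D.nroots) &&
  (List.range D.nroots).all fun r => !mask.testBit r ||
    (decide (D.nroots / 2 ≤ r) &&
      (List.range (j0 - 1)).all fun j => mask.testBit (h8sgS sgs D.nroots j r))

def h8nodupB : List ℕ → Bool
  | [] => true
  | a :: l => l.all (fun b => b != a) && h8nodupB l

theorem h8nodupB_spec : ∀ l : List ℕ, h8nodupB l = true → l.Nodup
  | [], _ => List.nodup_nil
  | a :: l, h => by
    unfold h8nodupB at h
    rw [Bool.and_eq_true, List.all_eq_true] at h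
    rw [List.nodup_cons]
    refine ⟨?_, h8nodupB_spec l h.2⟩
    intro ha
    have := h.1 a ha
    simp at this

def h8lvKey (D : ChevalleyDatum) (T k : ℕ) : ℕ :=
  h8pack 256 ((List.range D.rank).map fun i => h8tb D.nroots T k (D.simple i))

def h8lvKeys (D : ChevalleyDatum) (T m : ℕ) : Bool :=
  h8nodupB ((List.range m).map (h8lvKey D T))

def h8invT (n T k : ℕ) : ℕ :=
  ((List.range n).filter fun r => decide (n / 2 ≤ r) && decide (h8tb n T k r < n / 2)).length

theorem h8card_fin_filter (n : ℕ) (p : ℕ → Prop) [DecidablePred p] :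
    (Finset.univ.filter fun r : Fin n => p r.val).card =
      ((List.range n).filter fun r => decide (p r)).length := by
  have h1 : (Finset.univ.filter fun r : Fin n => p r.val).card =
      ((Finset.range n).filter p).card := by
    apply Finset.card_bij (fun r _ => r.val)
    · intro r hr
      rw [Finset.mem_filter] at hr ⊢
      exact ⟨Finset.mem_range.mpr r.2, hr.2⟩
    · intro a _ b _ h
      exact Fin.ext h
    · intro b hb
      rw [Finset.mem_filter, Finset.mem_range] at hb
      exact ⟨⟨b, hb.1⟩, by rw [Finset.mem_filter]; exact ⟨Finset.mem_univ _, hb.2⟩, rfl⟩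
  rw [h1]
  rfl

end Cfsg.Agent.Lib.helper8
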