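import Mathlib
import Cfsg.Prelude.Def_ChevStructure
import Cfsg.Agent.Lib.helper8.ChevCox3

set_option autoImplicit false

namespace Cfsg.Agent.Lib.helper8

open Cfsg.Lie Cfsg.Lie.ChevalleyDatum

theorem h8level_chk (D : ChevalleyDatum) (hB : H8Base.{0} D) (hA : H8ReflAll D) (hBN : H8BN D)
    (hW : H8BN2 D) (hO2 : H8Ord2 D) (sgs : ℕ) (hsgs : h8sgsChk D sgs = true)
    (h256 : D.nroots ≤ 256) (T par gen cert mask j0 m : ℕ) (hj0 : j0 ≤ D.rank) (hm : 0 < m)
    (hrows : ∀ k < m, h8lvRow D sgs T par gen cert mask j0 m k = true)
    (hmask : h8lvMask D sgs mask j0 = true) (hkeys : h8lvKeys D T m = true) (q : ℕ) :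
    ∑ π ∈ h8fin (h8WJ D hA j0), q ^ h8Ninv D π =
      (∑ k ∈ Finset.range m, q ^ h8invT D.nroots T k) *
      ∑ v ∈ h8fin (h8WJ D hA (j0 - 1)), q ^ h8Ninv D v := by
  have hsg : ∀ i < D.rank, ∀ s < D.nroots, h8sgS sgs D.nroots i s = D.reflectRoot i s := by
    intro i hi s hs
    rw [h8sgS_eq D sgs hsgs i hi s, h8sg_eq D i (fun s hs => h8refl_lt D hA i hi s hs) h256 s hs]
  have hposiff : ∀ r < D.nroots, (D.IsPosRoot r ↔ D.nroots / 2 ≤ r) := by
    intro r hr
    constructor
    · intro hp
      exact (h8PosOK_spec hB.posOK hp).1
    · intro h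
      exact h8pos_of_ge D hB hBN.negOK r hr h
  unfold h8lvMask at hmask
  simp only [Bool.and_eq_true, decide_eq_true_eq, List.all_eq_true, List.mem_range,
    Bool.or_eq_true, Bool.not_eq_true'] at hmask
  obtain ⟨hmlt, hmask⟩ := hmask
  have hrowT : ∀ k < m, h8lvTree D sgs T par gen j0 k = true := by
    intro k hk
    have := hrows k hk
    unfold h8lvRow at this
    simp only [Bool.and_eq_true] at this
    exact this.1.1
  have hrow2 : ∀ k < m, h8lvL2 D T mask k = true := by
    intro k hk
    have := hrows k hk
    unfold h8lvRow at this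
    simp only [Bool.and_eq_true] at this
    exact this.1.2
  have hrow3 : ∀ k < m, h8lvL3 D sgs T cert j0 m k = true := by
    intro k hk
    have := hrows k hk
    unfold h8lvRow at this
    simp only [Bool.and_eq_true] at this
    exact this.2
  have htree0 : ∀ r < D.nroots, h8tb D.nroots T 0 r = r := by
    intro r hr
    have := hrowT 0 hm
    unfold h8lvTree at this
    simp only [if_pos, List.all_eq_true, List.mem_range, beq_iff_eq] at this
    exact this r hr
  have htree : ∀ k < m, 0 < k → ∃ pk < k, ∃ ik < j0, ∀ r < D.nroots,
      h8tb D.nroots T k r = D.reflectRoot ik (h8tb D.nroots T pk r) := by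
    intro k
    induction k using Nat.strong_induction_on with
    | _ k ih =>
      intro hk hpos
      have := hrowT k hk
      unfold h8lvTree at this
      rw [if_neg (by omega)] at this
      simp only [Bool.and_eq_true, decide_eq_true_eq, List.all_eq_true, List.mem_range,
        beq_iff_eq] at this
      obtain ⟨⟨h1, h2⟩, h3⟩ := this
      refine ⟨_, h1, _, h2, ?_⟩
      intro r hr
      rw [h3 r hr]
      apply hsg _ (by omega)
      -- bound for the parent entry
      have hbound : ∀ k' < k, k' < m → ∀ r < D.nroots, h8tb D.nroots T k' r < D.nroots := by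
        intro k' hk'
        induction k' using Nat.strong_induction_on with
        | _ k' ih' =>
          intro hk'm r hr
          rcases Nat.eq_zero_or_pos k' with rfl | hp'
          · rw [htree0 r hr]; exact hr
          · obtain ⟨pk, hpk, ik, hik, e⟩ := ih k' hk' hk'm hp'
            rw [e r hr]
            exact h8refl_lt D hA ik (by omega) _ (ih' pk hpk (by omega) (by omega) r hr)
      exact hbound _ h1 (by omega) r hr
  have hbound : ∀ k < m, ∀ r < D.nroots, h8tb D.nroots T k r < D.nroots := by
    intro k
    induction k using Nat.strong_induction_on with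
    | _ k ih =>
      intro hk r hr
      rcases Nat.eq_zero_or_pos k with rfl | hp
      · rw [htree0 r hr]; exact hr
      · obtain ⟨pk, hpk, ik, hik, e⟩ := htree k hk hp
        rw [e r hr]
        exact h8refl_lt D hA ik (by omega) _ (ih pk hpk (by omega) r hr)
  have hlvl := h8level_abs D hB hA hBN hW hO2 j0 hj0 m hm (h8tb D.nroots T)
    (fun r => mask.testBit r = true)
    (by
      intro r hr
      have hrn : r < D.nroots := by
        by_contra hge
        have : mask < 2 ^ r := lt_of_lt_of_le hmlt (Nat.pow_le_pow_right (by norm_num) (by omega))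
        rw [Nat.testBit_eq_false_of_lt this] at hr
        cases hr
      rcases hmask r hrn with h | h
      · rw [h] at hr; cases hr
      · exact (hposiff r hrn).mpr h.1)
    (by
      intro j hj r hr hA'
      rcases hmask r hr with h | h
      · rw [h] at hA'; cases hA'
      · have := h.2 j hj
        rwa [hsg j (by omega) r hr] at this)
    htree0 htree
    (by
      intro k hk r hpr hnA
      have := hrow2 k hk
      unfold h8lvL2 at this
      simp only [List.all_eq_true, List.mem_range, Bool.or_eq_true, Bool.and_eq_true,
        decide_eq_true_eq] at this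
      rcases this r hpr.1 with (h | h) | h
      · have := (hposiff r hpr.1).mp hpr
        omega
      · exact absurd h hnA
      · exact (hposiff _ h.2).mpr h.1)
    (by
      intro k hk i hi
      have := hrow3 k hk
      unfold h8lvL3 at this
      simp only [List.all_eq_true, List.mem_range] at this
      have h1 := this i hi
      by_cases hc : h8unpS 16 cert (8 * k + i) % 2 = 0
      · rw [if_pos hc] at h1
        simp only [Bool.and_eq_true, decide_eq_true_eq, List.all_eq_true, List.mem_range,
          beq_iff_eq] at h1
        left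
        refine ⟨_, h1.1, ?_⟩
        intro r hr
        rw [← h1.2 r hr, hsg i (by omega) _ (hbound k hk r hr)]
      · rw [if_neg hc] at h1
        simp only [Bool.and_eq_true, decide_eq_true_eq, List.all_eq_true, List.mem_range,
          beq_iff_eq] at h1
        right
        refine ⟨_, h1.1, ?_⟩
        intro r hr
        rw [← hsg _ (by omega) r hr, ← h1.2 r hr, hsg i (by omega) _ (hbound k hk r hr)])
    (by
      intro k hk k' hk' heq
      unfold h8lvKeys at hkeys
      have hnd := h8nodupB_spec _ hkeys
      have hinj := (List.nodup_map_iff_inj_on (List.nodup_range)).mp hnd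
      apply hinj k (List.mem_range.mpr hk) k' (List.mem_range.mpr hk')
      unfold h8lvKey
      congr 1
      apply List.map_congr_left
      intro i hi
      rw [List.mem_range] at hi
      exact heq _ (h8simple_pos D hBN i hi).1)
    q
  rw [hlvl]
  congr 1
  apply Finset.sum_congr rfl
  intro k hk
  rw [Finset.mem_range] at hk
  congr 1
  unfold h8invT
  have e : (fun r => decide (D.nroots / 2 ≤ r) && decide (h8tb D.nroots T k r < D.nroots / 2)) =
      fun r => decide (D.nroots / 2 ≤ r ∧ h8tb D.nroots T k r < D.nroots / 2) := by
    funext r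
    rw [Bool.decide_and]
  rw [e, ← h8card_fin_filter D.nroots
    (fun r => D.nroots / 2 ≤ r ∧ h8tb D.nroots T k r < D.nroots / 2)]
  congr 1
  apply Finset.filter_congr
  intro r _
  rw [hposiff r.val r.2, hposiff _ (hbound k hk r.val r.2)]
  omega

end Cfsg.Agent.Lib.helper8
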