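import Mathlib

set_option autoImplicit false

namespace Cfsg.Agent.Lib.helper8

def h8pe : List ℕ → ℕ → ℕ
  | [], _ => 0
  | a :: c, q => a + q * h8pe c q

def h8padd : List ℕ → List ℕ → List ℕ
  | [], b => b
  | a, [] => a
  | x :: a, y :: b => (x + y) :: h8padd a b

def h8pmul : List ℕ → List ℕ → List ℕ
  | [], _ => []
  | x :: a, b => h8padd (b.map (x * ·)) (0 :: h8pmul a b)

def h8pmulL : List (List ℕ) → List ℕ
  | [] => [1]
  | c :: l => h8pmul c (h8pmulL l)

def h8mono (j : ℕ) : List ℕ := List.replicate j 0 ++ [1]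

def h8dense : List ℕ → List ℕ
  | [] => []
  | j :: l => h8padd (h8mono j) (h8dense l)

def h8ones (d : ℕ) : List ℕ := List.replicate d 1

theorem h8pe_padd : ∀ (a b : List ℕ) (q : ℕ), h8pe (h8padd a b) q = h8pe a q + h8pe b q
  | [], b, q => by simp [h8padd, h8pe]
  | x :: a, [], q => by simp [h8padd, h8pe]
  | x :: a, y :: b, q => by
    simp only [h8padd, h8pe]
    rw [h8pe_padd a b q]
    ring

theorem h8pe_scale (x : ℕ) : ∀ (b : List ℕ) (q : ℕ), h8pe (b.map (x * ·)) q = x * h8pe b q
  | [], q => by simp [h8pe]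
  | y :: b, q => by
    simp only [List.map_cons, h8pe]
    rw [h8pe_scale x b q]
    ring

theorem h8pe_pmul : ∀ (a b : List ℕ) (q : ℕ), h8pe (h8pmul a b) q = h8pe a q * h8pe b q
  | [], b, q => by simp [h8pmul, h8pe]
  | x :: a, b, q => by
    simp only [h8pmul, h8pe]
    rw [h8pe_padd, h8pe_scale]
    simp only [h8pe]
    rw [h8pe_pmul a b q]
    ring

theorem h8pe_pmulL : ∀ (l : List (List ℕ)) (q : ℕ), h8pe (h8pmulL l) q = (l.map fun c => h8pe c q).prod
  | [], q => by simp [h8pmulL, h8pe]
  | c :: l, q => by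
    simp only [h8pmulL, List.map_cons, List.prod_cons]
    rw [h8pe_pmul, h8pe_pmulL l q]

theorem h8pe_mono (j q : ℕ) : h8pe (h8mono j) q = q ^ j := by
  unfold h8mono
  induction j with
  | zero => simp [h8pe]
  | succ j ih =>
    rw [List.replicate_succ, List.cons_append]
    simp only [h8pe]
    rw [ih]
    ring

theorem h8pe_dense : ∀ (l : List ℕ) (q : ℕ), h8pe (h8dense l) q = (l.map (q ^ ·)).sum
  | [], q => by simp [h8dense, h8pe]
  | j :: l, q => by
    simp only [h8dense, List.map_cons, List.sum_cons]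
    rw [h8pe_padd, h8pe_mono, h8pe_dense l q]

theorem h8pe_ones (d q : ℕ) : h8pe (h8ones d) q = ∑ j ∈ Finset.range d, q ^ j := by
  unfold h8ones
  induction d with
  | zero => simp [h8pe]
  | succ d ih =>
    rw [List.replicate_succ]
    simp only [h8pe]
    rw [ih, Finset.sum_range_succ', Finset.mul_sum]
    simp only [pow_succ, pow_zero]
    rw [add_comm]
    congr 1
    apply Finset.sum_congr rfl
    intro j _
    ring

theorem h8pe_ones_mul (d q : ℕ) (hq : 1 ≤ q) : (q - 1) * h8pe (h8ones d) q = q ^ d - 1 := by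
  rw [h8pe_ones]
  have h := Nat.geomSum_eq (m := q) 
  rcases Nat.lt_or_ge q 2 with h1 | h2
  · have : q = 1 := by omega
    subst this
    simp
  · rw [Nat.geomSum_eq h2 d]
    have hdvd : (q - 1) ∣ q ^ d - 1 := by
      have := Nat.sub_dvd_pow_sub_pow q 1 d
      simpa using this
    exact Nat.mul_div_cancel' hdvd

theorem h8sum_range_list (m : ℕ) (g : ℕ → ℕ) :
    ∑ k ∈ Finset.range m, g k = ((List.range m).map g).sum := by
  induction m with
  | zero => simp
  | succ m ih =>
    rw [Finset.sum_range_succ, List.range_succ, List.map_append, List.sum_append, ih]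
    simp

end Cfsg.Agent.Lib.helper8
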