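import Mathlib
import Cfsg.Prelude.Def_ChevStructure
import Cfsg.Agent.Lib.helper8.ChevCox4
import Cfsg.Agent.Lib.helper8.ChevPE

set_option autoImplicit false

namespace Cfsg.Agent.Lib.helper8

open Cfsg.Lie Cfsg.Lie.ChevalleyDatum

theorem h8level_pe (D : ChevalleyDatum) (hB : H8Base.{0} D) (hA : H8ReflAll D) (hBN : H8BN D)
    (hW : H8BN2 D) (hO2 : H8Ord2 D) (sgs : ℕ) (hsgs : h8sgsChk D sgs = true)
    (h256 : D.nroots ≤ 256) (T par gen cert mask j0 m : ℕ) (hj0 : j0 ≤ D.rank) (hm : 0 < m)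
    (hrows : ∀ k < m, h8lvRow D sgs T par gen cert mask j0 m k = true)
    (hmask : h8lvMask D sgs mask j0 = true) (hkeys : h8lvKeys D T m = true)
    (c : List ℕ) (hc : h8dense ((List.range m).map (h8invT D.nroots T)) = c) (q : ℕ) :
    ∑ π ∈ h8fin (h8WJ D hA j0), q ^ h8Ninv D π =
      h8pe c q * ∑ v ∈ h8fin (h8WJ D hA (j0 - 1)), q ^ h8Ninv D v := by
  rw [h8level_chk D hB hA hBN hW hO2 sgs hsgs h256 T par gen cert mask j0 m hj0 hm hrows hmask
    hkeys q, ← hc, h8pe_dense, h8sum_range_list, List.map_map]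
  rfl

theorem h8fin_bot_sum (D : ChevalleyDatum) (hA : H8ReflAll D) (q : ℕ) :
    ∑ v ∈ h8fin (h8WJ D hA 0), q ^ h8Ninv D v = 1 := by
  have : h8fin (h8WJ D hA 0) = {1} := by
    ext π
    rw [h8fin_mem, h8WJ_zero, Subgroup.mem_bot, Finset.mem_singleton]
  rw [this, Finset.sum_singleton]
  have h0 : h8Ninv D 1 = 0 := by
    unfold h8Ninv
    rw [Finset.card_eq_zero, Finset.filter_eq_empty_iff]
    intro r _ hr
    exact hr.2 hr.1
  rw [h0, pow_zero]

theorem h8chain (D : ChevalleyDatum) (hA : H8ReflAll D) (cs : List (List ℕ))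
    (hlen : cs.length = D.rank) (q : ℕ)
    (hlev : ∀ j0, 0 < j0 → j0 ≤ D.rank →
      ∑ π ∈ h8fin (h8WJ D hA j0), q ^ h8Ninv D π =
        h8pe (cs.getD (j0 - 1) []) q * ∑ v ∈ h8fin (h8WJ D hA (j0 - 1)), q ^ h8Ninv D v) :
    ∑ π ∈ h8Wfin D hA, q ^ h8Ninv D π = h8pe (h8pmulL cs) q := by
  have key : ∀ j, j ≤ D.rank → ∑ π ∈ h8fin (h8WJ D hA j), q ^ h8Ninv D π =
      ((cs.take j).map fun c => h8pe c q).prod := by
    intro j
    induction j with
    | zero =>
      intro _
      rw [h8fin_bot_sum]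
      simp
    | succ j ih =>
      intro hj
      rw [hlev (j + 1) (by omega) hj, Nat.add_sub_cancel, ih (by omega)]
      have hjl : j < cs.length := by omega
      rw [List.take_succ, List.map_append, List.prod_append, List.getD_eq_getElem _ _ hjl,
        List.getElem?_eq_getElem hjl]
      simp only [Option.toList_some, List.map_cons, List.map_nil, List.prod_cons, List.prod_nil,
        mul_one]
      rw [mul_comm]
  rw [h8Wfin_eq, ← h8WJ_rank, key D.rank (le_refl _), ← hlen, List.take_length, h8pe_pmulL]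

end Cfsg.Agent.Lib.helper8
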