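import Mathlib
import Cfsg.Prelude.Def_ChevG2
import Cfsg.Agent.Lib.helper8.ChevCox5

set_option autoImplicit false

namespace Cfsg.Agent.Lib.helper8

open Cfsg.Lie

def h8cxS_G2 : ℕ := 0xa0b090708050603040200010b060809040a010702030500

set_option maxRecDepth 100000 in
theorem h8cxSchk_G2 : h8sgsChk chevG2 h8cxS_G2 = true := by decide +kernel

end Cfsg.Agent.Lib.helper8
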