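import Mathlib
import Cfsg.Prelude.Def_ChevG2
import Cfsg.Agent.Lib.helper8.ChevTabCoxG2S

set_option autoImplicit false

namespace Cfsg.Agent.Lib.helper8

open Cfsg.Lie

def h8cxT_G2_1 : ℕ := 0xb060809040a0107020305000b0a09080706050403020100

def h8cxP_G2_1 : ℕ := 0x0

def h8cxG_G2_1 : ℕ := 0x0

def h8cxC_G2_1 : ℕ := 0x2

def h8cxM_G2_1 : ℕ := 0xfc0

set_option maxRecDepth 100000 in
theorem h8cxRow_G2_1_0 : (List.range' 0 2).all (h8lvRow chevG2 h8cxS_G2 h8cxT_G2_1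
    h8cxP_G2_1 h8cxG_G2_1 h8cxC_G2_1 h8cxM_G2_1 1 2) = true := by decide +kernel

theorem h8cxRows_G2_1 : ∀ k < 2, h8lvRow chevG2 h8cxS_G2 h8cxT_G2_1
    h8cxP_G2_1 h8cxG_G2_1 h8cxC_G2_1 h8cxM_G2_1 1 2 k = true := by
  intro k hk
  exact h8rows_of_chunk _ _ _ h8cxRow_G2_1_0 k (by omega) (by omega)

set_option maxRecDepth 100000 in
theorem h8cxMask_G2_1 : h8lvMask chevG2 h8cxS_G2 h8cxM_G2_1 1 = true := by decide +kernel

set_option maxRecDepth 100000 in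
theorem h8cxKeys_G2_1 : h8lvKeys chevG2 h8cxT_G2_1 2 = true := by decide +kernel

set_option maxRecDepth 100000 in
theorem h8cxDense_G2_1 : h8dense ((List.range 2).map (h8invT chevG2.nroots h8cxT_G2_1)) =
    [1, 1] := by decide +kernel

end Cfsg.Agent.Lib.helper8
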