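import Mathlib
import Cfsg.Prelude.Def_ChevG2
import Cfsg.Agent.Lib.helper8.ChevTabCoxG2S

set_option autoImplicit false

namespace Cfsg.Agent.Lib.helper8

open Cfsg.Lie

def h8cxT_G2_2 : ℕ := 0x5030207010a040908060b0106040208000b030907050a050a070309000b0208040106060b080409010a02070300050a0b090708050603040200010b0a09080706050403020100

def h8cxP_G2_2 : ℕ := 0x40302010000

def h8cxG_G2_2 : ℕ := 0x10001000100

def h8cxC_G2_2 : ℕ := 0x80001000000000000000000000000000a000600000000000000000000000000040008000000000000000000000000000600020000000000000000000000000000000400000000000000000000000000020001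

def h8cxM_G2_2 : ℕ := 0xf40

set_option maxRecDepth 100000 in
theorem h8cxRow_G2_2_0 : (List.range' 0 6).all (h8lvRow chevG2 h8cxS_G2 h8cxT_G2_2
    h8cxP_G2_2 h8cxG_G2_2 h8cxC_G2_2 h8cxM_G2_2 2 6) = true := by decide +kernel

theorem h8cxRows_G2_2 : ∀ k < 6, h8lvRow chevG2 h8cxS_G2 h8cxT_G2_2
    h8cxP_G2_2 h8cxG_G2_2 h8cxC_G2_2 h8cxM_G2_2 2 6 k = true := by
  intro k hk
  exact h8rows_of_chunk _ _ _ h8cxRow_G2_2_0 k (by omega) (by omega)

set_option maxRecDepth 100000 in
theorem h8cxMask_G2_2 : h8lvMask chevG2 h8cxS_G2 h8cxM_G2_2 2 = true := by decide +kernel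

set_option maxRecDepth 100000 in
theorem h8cxKeys_G2_2 : h8lvKeys chevG2 h8cxT_G2_2 6 = true := by decide +kernel

set_option maxRecDepth 100000 in
theorem h8cxDense_G2_2 : h8dense ((List.range 6).map (h8invT chevG2.nroots h8cxT_G2_2)) =
    [1, 1, 1, 1, 1, 1] := by decide +kernel

end Cfsg.Agent.Lib.helper8
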