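import Mathlib
import Cfsg.Prelude.Def_ChevG2
import Cfsg.Agent.Lib.helper8.ChevTabCoxG2S
import Cfsg.Agent.Lib.helper8.ChevTabCoxG2L2
import Cfsg.Agent.Lib.helper8.ChevTabCoxG2L1
import Cfsg.Agent.Lib.helper8.ChevBaseAll
import Cfsg.Agent.Lib.helper8.ChevReflAll
import Cfsg.Agent.Lib.helper8.ChevBNAll2
import Cfsg.Agent.Lib.helper8.ChevOrdAll

set_option autoImplicit false

namespace Cfsg.Agent.Lib.helper8

open Cfsg.Lie

def h8cxCs_G2 : List (List ℕ) := [[1, 1], [1, 1, 1, 1, 1, 1]]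

set_option maxRecDepth 100000 in
theorem h8cxPoly_G2 : h8pmulL h8cxCs_G2 = h8pmulL ([2, 6].map h8ones) := by decide +kernel

theorem h8poin_G2 (hA : H8ReflAll chevG2) (q : ℕ) :
    ∑ π ∈ h8Wfin chevG2 hA, q ^ h8Ninv chevG2 π =
      ([2, 6].map fun d => h8pe (h8ones d) q).prod := by
  have hD : chevG2 ∈ [chevG2, chevB2, chevD4, chevF4, chevE6, chevE7, chevE8] := by simp
  have hB := h8base_all.{0} chevG2 hD
  have hBN := h8bn_all chevG2 hD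
  have hW := h8bn2_all chevG2 hD
  have hO2 := (h8ord_all chevG2 hD).2
  rw [h8chain chevG2 hA h8cxCs_G2 rfl q, h8cxPoly_G2, h8pe_pmulL, List.map_map]
  · rfl
  · intro j0 hj0 hj1
    have hr : chevG2.rank = 2 := rfl
    rw [hr] at hj1
    interval_cases j0
    · exact h8level_pe chevG2 hB hA hBN hW hO2 h8cxS_G2 h8cxSchk_G2 (by decide)
        h8cxT_G2_1 h8cxP_G2_1 h8cxG_G2_1 h8cxC_G2_1 h8cxM_G2_1 1 2 (by decide) (by decide)
        h8cxRows_G2_1 h8cxMask_G2_1 h8cxKeys_G2_1 _ h8cxDense_G2_1 q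
    · exact h8level_pe chevG2 hB hA hBN hW hO2 h8cxS_G2 h8cxSchk_G2 (by decide)
        h8cxT_G2_2 h8cxP_G2_2 h8cxG_G2_2 h8cxC_G2_2 h8cxM_G2_2 2 6 (by decide) (by decide)
        h8cxRows_G2_2 h8cxMask_G2_2 h8cxKeys_G2_2 _ h8cxDense_G2_2 q

end Cfsg.Agent.Lib.helper8
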