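import Mathlib
import Cfsg.Prelude.Def_ChevStructure
import Cfsg.Prelude.Def_ChevG2
import Cfsg.Prelude.Def_ChevB2
import Cfsg.Prelude.Def_ChevD4
import Cfsg.Prelude.Def_ChevF4
import Cfsg.Prelude.Def_ChevE6
import Cfsg.Prelude.Def_ChevE7
import Cfsg.Prelude.Def_ChevE8
import Cfsg.Agent.Lib.helper8.ChevH4

set_option autoImplicit false

namespace Cfsg.Agent.Lib.helper8

open Cfsg.Lie

def h8smP_G2 : List (List ℤ) := [[0, -1], [1, 2]]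

def h8smPi_G2 : List (List ℤ) := [[2, 1], [-1, 0]]

def h8smQ_G2 : List (List ℤ) := [[1, 2], [0, 1]]

def h8smS_G2 : List ℕ := [1, 1]

set_option maxRecDepth 100000 in
theorem h8smChk_G2 : h8smithChk chevG2 h8smP_G2 h8smPi_G2 h8smQ_G2 h8smS_G2 = true := by
  decide +kernel

def h8smP_B2 : List (List ℤ) := [[0, -1], [1, 2]]

def h8smPi_B2 : List (List ℤ) := [[2, 1], [-1, 0]]

def h8smQ_B2 : List (List ℤ) := [[1, 2], [0, 1]]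

def h8smS_B2 : List ℕ := [1, 2]

set_option maxRecDepth 100000 in
theorem h8smChk_B2 : h8smithChk chevB2 h8smP_B2 h8smPi_B2 h8smQ_B2 h8smS_B2 = true := by
  decide +kernel

def h8smP_D4 : List (List ℤ) := [[-1, 0, 0, 0], [-2, -1, 0, 0], [-3, -2, -1, 0], [2, 2, 1, 1]]

def h8smPi_D4 : List (List ℤ) := [[-1, 0, 0, 0], [2, -1, 0, 0], [-1, 2, -1, 0], [-1, 0, 1, 1]]

def h8smQ_D4 : List (List ℤ) := [[0, 0, 0, 1], [1, 0, 0, 2], [0, 1, -1, 1], [0, 0, 1, 2]]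

def h8smS_D4 : List ℕ := [1, 1, 2, 2]

set_option maxRecDepth 100000 in
theorem h8smChk_D4 : h8smithChk chevD4 h8smP_D4 h8smPi_D4 h8smQ_D4 h8smS_D4 = true := by
  decide +kernel

def h8smP_F4 : List (List ℤ) := [[-1, 0, 0, 0], [1, 0, -1, 0], [-2, -1, 0, 0], [-2, -2, -2, -1]]

def h8smPi_F4 : List (List ℤ) := [[-1, 0, 0, 0], [2, 0, -1, 0], [-1, -1, 0, 0], [0, 2, 2, -1]]

def h8smQ_F4 : List (List ℤ) := [[0, 0, 1, -2], [1, 0, 2, -4], [0, 0, 2, -3], [0, 1, 2, -2]]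

def h8smS_F4 : List ℕ := [1, 1, 1, 1]

set_option maxRecDepth 100000 in
theorem h8smChk_F4 : h8smithChk chevF4 h8smP_F4 h8smPi_F4 h8smQ_F4 h8smS_F4 = true := by
  decide +kernel

def h8smP_E6 : List (List ℤ) := [[-1, 0, 0, 0, 0, 0], [0, -1, 0, 0, 0, 0], [1, -2, 0, -1, 0, 0], [2, -3, 0, -2, -1, 0], [-2, 1, -1, 0, 0, 0], [-5, 0, -4, -3, -2, -1]]

def h8smPi_E6 : List (List ℤ) := [[-1, 0, 0, 0, 0, 0], [0, -1, 0, 0, 0, 0], [2, -1, 0, 0, -1, 0], [-1, 2, -1, 0, 0, 0], [0, -1, 2, -1, 0, 0], [0, 0, -1, 2, 4, -1]]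

def h8smQ_E6 : List (List ℤ) := [[0, 0, 0, 0, 1, -2], [0, 0, 0, 0, 2, -3], [1, 0, 0, 0, 2, -4], [0, 1, 0, 0, 4, -6], [0, 0, 1, 0, 4, -5], [0, 0, 0, 1, 4, -4]]

def h8smS_E6 : List ℕ := [1, 1, 1, 1, 1, 3]

set_option maxRecDepth 100000 in
theorem h8smChk_E6 : h8smithChk chevE6 h8smP_E6 h8smPi_E6 h8smQ_E6 h8smS_E6 = true := by
  decide +kernel

def h8smP_E7 : List (List ℤ) := [[-1, 0, 0, 0, 0, 0, 0], [0, -1, 0, 0, 0, 0, 0], [1, -2, 0, -1, 0, 0, 0], [2, -3, 0, -2, -1, 0, 0], [3, -4, 0, -3, -2, -1, 0], [-2, 1, -1, 0, 0, 0, 0], [-4, -1, -4, -4, -3, -2, -1]]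

def h8smPi_E7 : List (List ℤ) := [[-1, 0, 0, 0, 0, 0, 0], [0, -1, 0, 0, 0, 0, 0], [2, -1, 0, 0, 0, -1, 0], [-1, 2, -1, 0, 0, 0, 0], [0, -1, 2, -1, 0, 0, 0], [0, 0, -1, 2, -1, 0, 0], [0, 0, 0, -1, 2, 4, -1]]

def h8smQ_E7 : List (List ℤ) := [[0, 0, 0, 0, 0, 1, -2], [0, 0, 0, 0, 0, 2, -3], [1, 0, 0, 0, 0, 2, -4], [0, 1, 0, 0, 0, 4, -6], [0, 0, 1, 0, 0, 4, -5], [0, 0, 0, 1, 0, 4, -4], [0, 0, 0, 0, 1, 4, -3]]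

def h8smS_E7 : List ℕ := [1, 1, 1, 1, 1, 1, 2]

set_option maxRecDepth 100000 in
theorem h8smChk_E7 : h8smithChk chevE7 h8smP_E7 h8smPi_E7 h8smQ_E7 h8smS_E7 = true := by
  decide +kernel

def h8smP_E8 : List (List ℤ) := [[-1, 0, 0, 0, 0, 0, 0, 0], [0, -1, 0, 0, 0, 0, 0, 0], [1, -2, 0, -1, 0, 0, 0, 0], [2, -3, 0, -2, -1, 0, 0, 0], [3, -4, 0, -3, -2, -1, 0, 0], [4, -5, 0, -4, -3, -2, -1, 0], [-2, 1, -1, 0, 0, 0, 0, 0], [-3, -2, -4, -5, -4, -3, -2, -1]]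

def h8smPi_E8 : List (List ℤ) := [[-1, 0, 0, 0, 0, 0, 0, 0], [0, -1, 0, 0, 0, 0, 0, 0], [2, -1, 0, 0, 0, 0, -1, 0], [-1, 2, -1, 0, 0, 0, 0, 0], [0, -1, 2, -1, 0, 0, 0, 0], [0, 0, -1, 2, -1, 0, 0, 0], [0, 0, 0, -1, 2, -1, 0, 0], [0, 0, 0, 0, -1, 2, 4, -1]]

def h8smQ_E8 : List (List ℤ) := [[0, 0, 0, 0, 0, 0, 1, -2], [0, 0, 0, 0, 0, 0, 2, -3], [1, 0, 0, 0, 0, 0, 2, -4], [0, 1, 0, 0, 0, 0, 4, -6], [0, 0, 1, 0, 0, 0, 4, -5], [0, 0, 0, 1, 0, 0, 4, -4], [0, 0, 0, 0, 1, 0, 4, -3], [0, 0, 0, 0, 0, 1, 4, -2]]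

def h8smS_E8 : List ℕ := [1, 1, 1, 1, 1, 1, 1, 1]

set_option maxRecDepth 100000 in
theorem h8smChk_E8 : h8smithChk chevE8 h8smP_E8 h8smPi_E8 h8smQ_E8 h8smS_E8 = true := by
  decide +kernel


end Cfsg.Agent.Lib.helper8
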