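import Mathlib
import Cfsg.Prelude.Def_ChevStructure
import Cfsg.Agent.Lib.helper8.ChevHData
import Cfsg.Agent.Lib.helper8.ChevTabSC
import Cfsg.Agent.Lib.helper8.ChevBaseAll
import Cfsg.Agent.Lib.helper8.ChevReflAll

set_option autoImplicit false

namespace Cfsg.Agent.Lib.helper8

open Cfsg.Lie Cfsg.Lie.ChevalleyDatum

universe u

variable {F : Type u} [Field F]

theorem h8prod_fin_list (l : ℕ) (f : ℕ → ℕ) : ∏ k : Fin l, f k.val = ((List.range l).map f).prod := by
  rw [Fin.prod_univ_eq_prod_range]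
  induction l with
  | zero => simp
  | succ l ih =>
    rw [Finset.prod_range_succ, List.range_succ, List.map_append, List.prod_append, ih]
    simp

theorem h8H_card_G2 [Fintype F] :
    Nat.card (chevG2.diagonalSubgroup F) = (Fintype.card F - 1) ^ 2 := by
  have hD : chevG2 ∈ [chevG2, chevB2, chevD4, chevF4, chevE6, chevE7, chevE8] := by simp
  have h := h8H_card_of (F := F) chevG2 (h8base_all.{u} _ hD) (h8scChk_all _ hD)
    (h8reflAll _ hD).ca _ _ _ _ h8smChk_G2
  rw [h8prod_fin_list chevG2.rank (fun k => Nat.gcd (Fintype.card F - 1) (h8smS_G2.getD k 0))] at h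
  have hr : List.range chevG2.rank = [0, 1] := rfl
  rw [hr] at h
  simp [h8smS_G2] at h
  exact h

theorem h8H_card_F4 [Fintype F] :
    Nat.card (chevF4.diagonalSubgroup F) = (Fintype.card F - 1) ^ 4 := by
  have hD : chevF4 ∈ [chevG2, chevB2, chevD4, chevF4, chevE6, chevE7, chevE8] := by simp
  have h := h8H_card_of (F := F) chevF4 (h8base_all.{u} _ hD) (h8scChk_all _ hD)
    (h8reflAll _ hD).ca _ _ _ _ h8smChk_F4
  rw [h8prod_fin_list chevF4.rank (fun k => Nat.gcd (Fintype.card F - 1) (h8smS_F4.getD k 0))] at h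
  have hr : List.range chevF4.rank = [0, 1, 2, 3] := rfl
  rw [hr] at h
  simp [h8smS_F4] at h
  exact h

theorem h8H_card_E8 [Fintype F] :
    Nat.card (chevE8.diagonalSubgroup F) = (Fintype.card F - 1) ^ 8 := by
  have hD : chevE8 ∈ [chevG2, chevB2, chevD4, chevF4, chevE6, chevE7, chevE8] := by simp
  have h := h8H_card_of (F := F) chevE8 (h8base_all.{u} _ hD) (h8scChk_all _ hD)
    (h8reflAll _ hD).ca _ _ _ _ h8smChk_E8
  rw [h8prod_fin_list chevE8.rank (fun k => Nat.gcd (Fintype.card F - 1) (h8smS_E8.getD k 0))] at h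
  have hr : List.range chevE8.rank = [0, 1, 2, 3, 4, 5, 6, 7] := rfl
  rw [hr] at h
  simp [h8smS_E8] at h
  exact h

theorem h8H_card_E6 [Fintype F] :
    Nat.gcd 3 (Fintype.card F - 1) * Nat.card (chevE6.diagonalSubgroup F) =
      (Fintype.card F - 1) ^ 6 := by
  have hD : chevE6 ∈ [chevG2, chevB2, chevD4, chevF4, chevE6, chevE7, chevE8] := by simp
  have h := h8H_card_of (F := F) chevE6 (h8base_all.{u} _ hD) (h8scChk_all _ hD)
    (h8reflAll _ hD).ca _ _ _ _ h8smChk_E6
  rw [h8prod_fin_list chevE6.rank (fun k => Nat.gcd (Fintype.card F - 1) (h8smS_E6.getD k 0))] at h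
  have hr : List.range chevE6.rank = [0, 1, 2, 3, 4, 5] := rfl
  rw [hr] at h
  rw [Nat.gcd_comm]
  simp [h8smS_E6] at h
  exact h

theorem h8H_card_E7 [Fintype F] :
    Nat.gcd 2 (Fintype.card F - 1) * Nat.card (chevE7.diagonalSubgroup F) =
      (Fintype.card F - 1) ^ 7 := by
  have hD : chevE7 ∈ [chevG2, chevB2, chevD4, chevF4, chevE6, chevE7, chevE8] := by simp
  have h := h8H_card_of (F := F) chevE7 (h8base_all.{u} _ hD) (h8scChk_all _ hD)
    (h8reflAll _ hD).ca _ _ _ _ h8smChk_E7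
  rw [h8prod_fin_list chevE7.rank (fun k => Nat.gcd (Fintype.card F - 1) (h8smS_E7.getD k 0))] at h
  have hr : List.range chevE7.rank = [0, 1, 2, 3, 4, 5, 6] := rfl
  rw [hr] at h
  rw [Nat.gcd_comm]
  simp [h8smS_E7] at h
  exact h

theorem h8H_card_B2 [Fintype F] :
    Nat.gcd 2 (Fintype.card F - 1) * Nat.card (chevB2.diagonalSubgroup F) =
      (Fintype.card F - 1) ^ 2 := by
  have hD : chevB2 ∈ [chevG2, chevB2, chevD4, chevF4, chevE6, chevE7, chevE8] := by simp
  have h := h8H_card_of (F := F) chevB2 (h8base_all.{u} _ hD) (h8scChk_all _ hD)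
    (h8reflAll _ hD).ca _ _ _ _ h8smChk_B2
  rw [h8prod_fin_list chevB2.rank (fun k => Nat.gcd (Fintype.card F - 1) (h8smS_B2.getD k 0))] at h
  have hr : List.range chevB2.rank = [0, 1] := rfl
  rw [hr] at h
  rw [Nat.gcd_comm]
  simp [h8smS_B2] at h
  exact h

theorem h8H_card_D4 [Fintype F] :
    Nat.gcd 2 (Fintype.card F - 1) ^ 2 * Nat.card (chevD4.diagonalSubgroup F) =
      (Fintype.card F - 1) ^ 4 := by
  have hD : chevD4 ∈ [chevG2, chevB2, chevD4, chevF4, chevE6, chevE7, chevE8] := by simp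
  have h := h8H_card_of (F := F) chevD4 (h8base_all.{u} _ hD) (h8scChk_all _ hD)
    (h8reflAll _ hD).ca _ _ _ _ h8smChk_D4
  rw [h8prod_fin_list chevD4.rank (fun k => Nat.gcd (Fintype.card F - 1) (h8smS_D4.getD k 0))] at h
  have hr : List.range chevD4.rank = [0, 1, 2, 3] := rfl
  rw [hr] at h
  rw [Nat.gcd_comm, pow_two]
  simp [h8smS_D4] at h
  exact h

end Cfsg.Agent.Lib.helper8
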