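import Mathlib
import Cfsg.Prelude.Def_ChevStructure
import Cfsg.Agent.Lib.helper8.ChevCnt6
import Cfsg.Agent.Lib.helper8.ChevPE
import Cfsg.Agent.Lib.helper8.ChevBaseAll
import Cfsg.Agent.Lib.helper8.ChevReflAll
import Cfsg.Agent.Lib.helper8.ChevCommAll
import Cfsg.Agent.Lib.helper8.ChevBNAll2
import Cfsg.Agent.Lib.helper8.ChevOrdAll

set_option autoImplicit false

namespace Cfsg.Agent.Lib.helper8

open Cfsg.Lie Cfsg.Lie.ChevalleyDatum

universe u

variable {F : Type u} [Field F]

theorem h8degs_prod (q : ℕ) (hq : 1 ≤ q) : ∀ degs : List ℕ,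
    (q - 1) ^ degs.length * (degs.map fun d => h8pe (h8ones d) q).prod =
      (degs.map fun d => q ^ d - 1).prod
  | [] => by simp
  | d :: l => by
    rw [List.length_cons, List.map_cons, List.prod_cons, List.map_cons, List.prod_cons,
      ← h8degs_prod q hq l, ← h8pe_ones_mul d q hq]
    ring

theorem h8order_main [Fintype F] (D : ChevalleyDatum)
    (hD : D ∈ [chevG2, chevB2, chevD4, chevF4, chevE6, chevE7, chevE8]) (degs : List ℕ)
    (hpoin : ∀ q : ℕ, ∑ π ∈ h8Wfin D (h8reflAll D hD), q ^ h8Ninv D π =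
      (degs.map fun d => h8pe (h8ones d) q).prod)
    (hlen : degs.length = D.rank) (d : ℕ)
    (hH : d * Nat.card (D.diagonalSubgroup F) = (Fintype.card F - 1) ^ D.rank) :
    d * Nat.card (D.group F) =
      Fintype.card F ^ (D.nroots / 2) * (degs.map fun e => Fintype.card F ^ e - 1).prod := by
  have hq : 1 ≤ Fintype.card F := Fintype.card_pos
  have hB := h8base_all.{u} D hD
  have hO := h8ord_all D hD
  rw [h8group_card' D hB (h8reflAll D hD) (h8commAll.{u} D hD) (h8bn_all D hD) (h8bn2_all D hD)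
    hO.1 hO.2 (h8posLen_all D hD), hpoin, ← h8degs_prod _ hq degs, hlen, ← hH]
  ring

end Cfsg.Agent.Lib.helper8
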