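import Mathlib

set_option autoImplicit false

namespace Cfsg.Agent.Lib.helper8

universe v w

variable {Γ : Type v} [Group Γ] {E : Type w} [Group E] {ρ : E →* Γ}

/-- a central extension: a surjective homomorphism whose kernel is central -/
structure H8CE (ρ : E →* Γ) : Prop where
  surj : Function.Surjective ρ
  central : ∀ z : E, ρ z = 1 → ∀ g : E, z * g = g * z

namespace H8CE

/-- a chosen preimage -/
noncomputable def lift (h : H8CE ρ) (g : Γ) : E := Classical.choose (h.surj g)

theorem lift_spec (h : H8CE ρ) (g : Γ) : ρ (h.lift g) = g := Classical.choose_spec (h.surj g)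

theorem conj_eq (h : H8CE ρ) {a a' : E} (ha : ρ a = ρ a') (b : E) :
    a * b * a⁻¹ = a' * b * a'⁻¹ := by
  have hz : ρ (a⁻¹ * a') = 1 := by rw [map_mul, map_inv, ha, inv_mul_cancel]
  have hc := h.central _ hz b
  have e : a' = a * (a⁻¹ * a') := by group
  rw [e]
  have : a * (a⁻¹ * a') * b * (a * (a⁻¹ * a'))⁻¹ = a * ((a⁻¹ * a') * b) * (a⁻¹ * a')⁻¹ * a⁻¹ := by
    group
  rw [this, hc]
  group

/-- a commutator of two elements depends only on their images -/
theorem comm_eq (h : H8CE ρ) {a a' b b' : E} (ha : ρ a = ρ a') (hb : ρ b = ρ b') :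
    a * b * a⁻¹ * b⁻¹ = a' * b' * a'⁻¹ * b'⁻¹ := by
  rw [h.conj_eq ha b]
  have e1 : a' * b * a'⁻¹ * b⁻¹ = a' * (b * a'⁻¹ * b⁻¹) := by group
  have e2 : a' * b' * a'⁻¹ * b'⁻¹ = a' * (b' * a'⁻¹ * b'⁻¹) := by group
  rw [e1, e2, h.conj_eq hb a'⁻¹]

/-- elements with a central image are central, if the base group is perfect -/
theorem lift_central (h : H8CE ρ) (hperf : commutator Γ = ⊤) (z : E)
    (hz : ∀ g : Γ, ρ z * g = g * ρ z) : ∀ g : E, z * g = g * z := by
  have hconj : ∀ a : E, ρ (z * a * z⁻¹) = ρ a := by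
    intro a
    rw [map_mul, map_mul, map_inv, hz (ρ a), mul_inv_cancel_right]
  have hcomm : commutator E ≤ Subgroup.centralizer {z} := by
    rw [commutator_eq_closure, Subgroup.closure_le]
    rintro g ⟨a, b, rfl⟩
    rw [SetLike.mem_coe, Subgroup.mem_centralizer_iff]
    intro y hy
    rw [Set.mem_singleton_iff.mp hy, commutatorElement_def]
    have e : z * (a * b * a⁻¹ * b⁻¹) =
        ((z * a * z⁻¹) * (z * b * z⁻¹) * (z * a * z⁻¹)⁻¹ * (z * b * z⁻¹)⁻¹) * z := by group
    rw [e, h.comm_eq (hconj a) (hconj b)]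
  intro g
  have hg : ρ g ∈ (commutator E).map ρ := by
    have : (commutator E).map ρ = commutator Γ := by
      rw [commutator_def, commutator_def, Subgroup.map_commutator, ← MonoidHom.range_eq_map,
        MonoidHom.range_eq_top.mpr h.surj]
    rw [this, hperf]
    exact Subgroup.mem_top _
  obtain ⟨g', hg', e⟩ := hg
  have h1 := hcomm hg'
  rw [Subgroup.mem_centralizer_iff] at h1
  have h2 := h1 z rfl
  have hz' : ρ (g'⁻¹ * g) = 1 := by rw [map_mul, map_inv, e, inv_mul_cancel]
  have h3 := h.central _ hz' z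
  have e2 : g = g' * (g'⁻¹ * g) := by group
  rw [e2, ← mul_assoc, h2, mul_assoc, ← h3, ← mul_assoc]

end H8CE

end Cfsg.Agent.Lib.helper8
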