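import Mathlib
import Cfsg.Prelude.Def_ChevStructure
import Cfsg.Agent.Lib.helper8.ChevSt1
import Cfsg.Agent.Lib.helper8.ChevUC1

set_option autoImplicit false

namespace Cfsg.Agent.Lib.helper8

open Cfsg.Lie Cfsg.Lie.ChevalleyDatum

universe u v w

variable {K : Type u} [Field K] {Γ : Type v} [Group Γ] {E : Type w} [Group E] {ρ : E →* Γ}
variable {D : ChevalleyDatum} {X : ℕ → K → Γ}

/-- the canonical lift of `X r t`: the commutator of lifts of `τ r` and `X r (t / d r)` -/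
noncomputable def h8ucY (h : H8CE ρ) (X : ℕ → K → Γ) (τ : ℕ → Γ) (d : ℕ → K) (r : ℕ) (t : K) : E :=
  h.lift (τ r) * h.lift (X r (t / d r)) * (h.lift (τ r))⁻¹ * (h.lift (X r (t / d r)))⁻¹

/-- the data defining the lifts: `τ r` acts on `X r` with the scalar `d r + 1` -/
structure H8UCTau (D : ChevalleyDatum) (X : ℕ → K → Γ) (τ : ℕ → Γ) (d : ℕ → K) : Prop where
  sys : H8Sys D X
  dne : ∀ r < D.nroots, d r ≠ 0
  act : ∀ r < D.nroots, ∀ t : K, τ r * X r t * (τ r)⁻¹ = X r ((d r + 1) * t)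

variable {τ : ℕ → Γ} {d : ℕ → K}

theorem h8ucY_im (h : H8CE ρ) (hT : H8UCTau D X τ d) (r : ℕ) (hr : r < D.nroots) (t : K) :
    ρ (h8ucY h X τ d r t) = X r t := by
  unfold h8ucY
  rw [map_mul, map_mul, map_mul, map_inv, map_inv, h.lift_spec, h.lift_spec, hT.act r hr,
    h8sys_inv hT.sys r hr, hT.sys.add r hr]
  congr 1
  have := hT.dne r hr
  field_simp
  ring

/-- any commutator of a lift of `τ r` with a lift of `X r (t / d r)` is the canonical lift -/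
theorem h8ucY_eq (h : H8CE ρ) (r : ℕ) (t : K) (a b : E) (ha : ρ a = τ r)
    (hb : ρ b = X r (t / d r)) : a * b * a⁻¹ * b⁻¹ = h8ucY h X τ d r t := by
  unfold h8ucY
  apply h.comm_eq
  · rw [ha, h.lift_spec]
  · rw [hb, h.lift_spec]

/-- equivariance: an element of `E` whose image conjugates `X r` to `X r'` with the scalar `c`
and `τ r` to `τ r'` up to the centre conjugates the canonical lifts in the same way -/
theorem h8ucY_conj (h : H8CE ρ) (hperf : commutator Γ = ⊤) (g : E) (r r' : ℕ) (c : K)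
    (hd : d r = d r')
    (hact : ∀ t : K, ρ g * X r t * (ρ g)⁻¹ = X r' (c * t))
    (hτ : ∀ y : Γ, ((τ r')⁻¹ * (ρ g * τ r * (ρ g)⁻¹)) * y = y * ((τ r')⁻¹ * (ρ g * τ r * (ρ g)⁻¹)))
    (t : K) : g * h8ucY h X τ d r t * g⁻¹ = h8ucY h X τ d r' (c * t) := by
  have e0 : h8ucY h X τ d r t = h.lift (τ r) * h.lift (X r (t / d r)) * (h.lift (τ r))⁻¹ *
      (h.lift (X r (t / d r)))⁻¹ := rfl
  rw [e0]
  set a := h.lift (τ r) with ha
  set b := h.lift (X r (t / d r)) with hb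
  set a' := h.lift (τ r') with ha'
  have e1 : g * (a * b * a⁻¹ * b⁻¹) * g⁻¹ =
      (g * a * g⁻¹) * (g * b * g⁻¹) * (g * a * g⁻¹)⁻¹ * (g * b * g⁻¹)⁻¹ := by
    group
  rw [e1]
  -- the central defect
  set z := a'⁻¹ * (g * a * g⁻¹) with hz
  have hzc : ∀ y : E, z * y = y * z := by
    apply h.lift_central hperf
    intro y
    have : ρ z = (τ r')⁻¹ * (ρ g * τ r * (ρ g)⁻¹) := by
      rw [hz, map_mul, map_inv, map_mul, map_mul, map_inv, ha, ha', h.lift_spec, h.lift_spec]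
    rw [this]
    exact hτ y
  have e2 : g * a * g⁻¹ = a' * z := by rw [hz]; group
  rw [e2]
  have e3 : a' * z * (g * b * g⁻¹) * (a' * z)⁻¹ * (g * b * g⁻¹)⁻¹ =
      a' * (z * (g * b * g⁻¹)) * z⁻¹ * a'⁻¹ * (g * b * g⁻¹)⁻¹ := by group
  rw [e3, hzc (g * b * g⁻¹)]
  have e4 : a' * (g * b * g⁻¹ * z) * z⁻¹ * a'⁻¹ * (g * b * g⁻¹)⁻¹ =
      a' * (g * b * g⁻¹) * a'⁻¹ * (g * b * g⁻¹)⁻¹ := by group
  rw [e4]
  apply h8ucY_eq h r' (c * t)
  · rw [ha', h.lift_spec]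
  · rw [map_mul, map_mul, map_inv, hb, h.lift_spec, hact, ← hd, mul_div_assoc]

end Cfsg.Agent.Lib.helper8
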