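import Mathlib
import Cfsg.Prelude.Def_ChevStructure
import Cfsg.Agent.Lib.helper8.ChevUC2

set_option autoImplicit false

namespace Cfsg.Agent.Lib.helper8

open Cfsg.Lie Cfsg.Lie.ChevalleyDatum

universe u v w

variable {K : Type u} [Field K] {Γ : Type v} [Group Γ] {E : Type w} [Group E] {ρ : E →* Γ}
variable {D : ChevalleyDatum} {X : ℕ → K → Γ}

/-- a central biadditive function invariant under two scalars with sum one and product not one
is trivial -/
theorem h8uc_biadd_trivial {C : Type*} [Group C] (f : K → K → C)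
    (hl : ∀ a a' b, f (a + a') b = f a b * f a' b)
    (hr : ∀ a b b', f a (b + b') = f a b * f a b')
    (χ χ' : K) (hχ : χ ≠ 0) (hχ' : χ' ≠ 0) (hsum : χ + χ' = 1) (hprod : χ * χ' ≠ 1)
    (hi : ∀ a b, f (χ * a) (χ * b) = f a b) (hi' : ∀ a b, f (χ' * a) (χ' * b) = f a b)
    (a b : K) : f a b = 1 := by
  have h0 : ∀ a, f a 0 = 1 := by
    intro a
    have := hr a 0 0
    rw [add_zero] at this
    exact (mul_eq_left.mp this.symm)
  have hneg : ∀ a b, f a (-b) = (f a b)⁻¹ := by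
    intro a b
    have := hr a b (-b)
    rw [add_neg_cancel, h0] at this
    exact (inv_eq_of_mul_eq_one_right this.symm).symm
  have h7 : ∀ a b, f (χ * a) b = f a (χ⁻¹ * b) := by
    intro a b
    have := hi a (χ⁻¹ * b)
    rw [← mul_assoc, mul_inv_cancel₀ hχ, one_mul] at this
    exact this
  have h7' : ∀ a b, f (χ' * a) b = f a (χ'⁻¹ * b) := by
    intro a b
    have := hi' a (χ'⁻¹ * b)
    rw [← mul_assoc, mul_inv_cancel₀ hχ', one_mul] at this
    exact this
  set μ := (χ * χ')⁻¹ with hμ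
  have h8 : ∀ a b, f a b = f a (μ * b) := by
    intro a b
    have e1 : a = χ * a + χ' * a := by rw [← add_mul, hsum, one_mul]
    have e2 : μ * b = χ⁻¹ * b + χ'⁻¹ * b := by
      rw [hμ]
      field_simp
      linear_combination (-b) * hsum
    conv_lhs => rw [e1]
    rw [hl, h7, h7', ← hr, ← e2]
  have hμ1 : 1 - μ ≠ 0 := by
    intro h
    apply hprod
    have h1 : μ = 1 := by linear_combination -h
    rw [hμ, inv_eq_one] at h1
    exact h1
  have h9 : ∀ a b, f a ((1 - μ) * b) = 1 := by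
    intro a b
    have : (1 - μ) * b = b + -(μ * b) := by ring
    rw [this, hr, hneg, ← h8, mul_inv_cancel]
  have := h9 a ((1 - μ)⁻¹ * b)
  rw [← mul_assoc, mul_inv_cancel₀ hμ1, one_mul] at this
  exact this

/-- lifts of two elements of a root subgroup commute, if enough scalars act on it -/
theorem h8uc_self_comm (h : H8CE ρ) (hS : H8Sys D X) (r : ℕ) (hr : r < D.nroots)
    (χ χ' : K) (hχ : χ ≠ 0) (hχ' : χ' ≠ 0) (hsum : χ + χ' = 1) (hprod : χ * χ' ≠ 1)
    (k k' : Γ) (hk : ∀ t, k * X r t * k⁻¹ = X r (χ * t))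
    (hk' : ∀ t, k' * X r t * k'⁻¹ = X r (χ' * t))
    (a b : K) (x y : E) (hx : ρ x = X r a) (hy : ρ y = X r b) : x * y = y * x := by
  let L : K → E := fun a => h.lift (X r a)
  have hL : ∀ a, ρ (L a) = X r a := fun a => h.lift_spec _
  let f : K → K → E := fun a b => L a * L b * (L a)⁻¹ * (L b)⁻¹
  have hf1 : ∀ a b, ρ (f a b) = 1 := by
    intro a b
    show ρ (L a * L b * (L a)⁻¹ * (L b)⁻¹) = 1
    rw [map_mul, map_mul, map_mul, map_inv, map_inv, hL, hL, h8sys_inv hS r hr, h8sys_inv hS r hr,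
      hS.add r hr, hS.add r hr, hS.add r hr]
    have : a + b + -a + -b = 0 := by ring
    rw [this, h8sys_zero hS r hr]
  have hfc : ∀ a b (g : E), f a b * g = g * f a b := fun a b g => h.central _ (hf1 a b) g
  have hl : ∀ a a' b, f (a + a') b = f a b * f a' b := by
    intro a a' b
    have e1 : f (a + a') b = (L a * L a') * L b * (L a * L a')⁻¹ * (L b)⁻¹ := by
      apply h.comm_eq
      · rw [hL, map_mul, hL, hL, hS.add r hr]
      · rfl
    have e2 : (L a * L a') * L b * (L a * L a')⁻¹ * (L b)⁻¹ =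
        L a * f a' b * L b * (L a)⁻¹ * (L b)⁻¹ := by
      show _ = L a * (L a' * L b * (L a')⁻¹ * (L b)⁻¹) * L b * (L a)⁻¹ * (L b)⁻¹
      group
    rw [e1, e2, ← hfc a' b (L a), ← hfc a' b (f a b)]
    show f a' b * L a * L b * (L a)⁻¹ * (L b)⁻¹ = f a' b * (L a * L b * (L a)⁻¹ * (L b)⁻¹)
    simp only [mul_assoc]
  have hrr : ∀ a b b', f a (b + b') = f a b * f a b' := by
    intro a b b'
    have e1 : f a (b + b') = L a * (L b * L b') * (L a)⁻¹ * (L b * L b')⁻¹ := by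
      apply h.comm_eq
      · rfl
      · rw [hL, map_mul, hL, hL, hS.add r hr]
    have e2 : L a * (L b * L b') * (L a)⁻¹ * (L b * L b')⁻¹ =
        f a b * (L b * f a b' * (L b)⁻¹) := by
      show _ = (L a * L b * (L a)⁻¹ * (L b)⁻¹) *
        (L b * (L a * L b' * (L a)⁻¹ * (L b')⁻¹) * (L b)⁻¹)
      group
    rw [e1, e2, ← hfc a b' (L b), mul_inv_cancel_right]
  have hinv : ∀ (κ : K) (q : Γ), (∀ t, q * X r t * q⁻¹ = X r (κ * t)) →
      ∀ a b, f (κ * a) (κ * b) = f a b := by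
    intro κ q hq a b
    have e1 : f (κ * a) (κ * b) =
        (h.lift q * L a * (h.lift q)⁻¹) * (h.lift q * L b * (h.lift q)⁻¹) *
          (h.lift q * L a * (h.lift q)⁻¹)⁻¹ * (h.lift q * L b * (h.lift q)⁻¹)⁻¹ := by
      apply h.comm_eq
      · rw [hL, map_mul, map_mul, map_inv, h.lift_spec, hL, hq]
      · rw [hL, map_mul, map_mul, map_inv, h.lift_spec, hL, hq]
    have e2 : (h.lift q * L a * (h.lift q)⁻¹) * (h.lift q * L b * (h.lift q)⁻¹) *
          (h.lift q * L a * (h.lift q)⁻¹)⁻¹ * (h.lift q * L b * (h.lift q)⁻¹)⁻¹ =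
        h.lift q * f a b * (h.lift q)⁻¹ := by
      show _ = h.lift q * (L a * L b * (L a)⁻¹ * (L b)⁻¹) * (h.lift q)⁻¹
      group
    rw [e1, e2, ← hfc a b (h.lift q), mul_inv_cancel_right]
  have key := h8uc_biadd_trivial f hl hrr χ χ' hχ hχ' hsum hprod
    (hinv χ k hk) (hinv χ' k' hk') a b
  have e : x * y * x⁻¹ * y⁻¹ = f a b := by
    apply h.comm_eq
    · rw [hx, hL]
    · rw [hy, hL]
  rw [key] at e
  have : x * y = (x * y * x⁻¹ * y⁻¹) * (y * x) := by group
  rw [this, e, one_mul]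

variable {τ : ℕ → Γ} {d : ℕ → K}

/-- the canonical lifts are additive as soon as lifts of elements of the root subgroup commute -/
theorem h8ucY_add (h : H8CE ρ) (hT : H8UCTau D X τ d) (r : ℕ) (hr : r < D.nroots)
    (hcomm : ∀ a b : K, ∀ x y : E, ρ x = X r a → ρ y = X r b → x * y = y * x) (t u : K) :
    h8ucY h X τ d r t * h8ucY h X τ d r u = h8ucY h X τ d r (t + u) := by
  set A := h.lift (τ r) with hA
  set B₁ := h.lift (X r (t / d r)) with hB₁
  set B₂ := h.lift (X r (u / d r)) with hB₂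
  have e1 : h8ucY h X τ d r (t + u) = A * (B₁ * B₂) * A⁻¹ * (B₁ * B₂)⁻¹ := by
    symm
    apply h8ucY_eq h r (t + u)
    · rw [hA, h.lift_spec]
    · rw [map_mul, hB₁, hB₂, h.lift_spec, h.lift_spec, hT.sys.add r hr, add_div]
  have e2 : A * (B₁ * B₂) * A⁻¹ * (B₁ * B₂)⁻¹ =
      (A * B₁ * A⁻¹ * B₁⁻¹) * (B₁ * (A * B₂ * A⁻¹ * B₂⁻¹) * B₁⁻¹) := by group
  have e3 : A * B₁ * A⁻¹ * B₁⁻¹ = h8ucY h X τ d r t := rfl
  have e4 : A * B₂ * A⁻¹ * B₂⁻¹ = h8ucY h X τ d r u := rfl
  rw [e1, e2, e3, e4]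
  congr 1
  have := hcomm (t / d r) u B₁ (h8ucY h X τ d r u) (h.lift_spec _) (h8ucY_im h hT r hr u)
  rw [this, mul_inv_cancel_right]

end Cfsg.Agent.Lib.helper8
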