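import Mathlib
import Cfsg.Prelude.Def_ChevStructure
import Cfsg.Agent.Lib.helper8.ChevUC3

set_option autoImplicit false

namespace Cfsg.Agent.Lib.helper8

open Cfsg.Lie Cfsg.Lie.ChevalleyDatum

universe u v w

variable {K : Type u} [Field K] {Γ : Type v} [Group Γ] {E : Type w} [Group E] {ρ : E →* Γ}
variable {D : ChevalleyDatum} {X : ℕ → K → Γ} {Y : ℕ → K → E}

/-- additivity, and the commutator relations among the positive roots of index at least `j` -/
structure H8SysP (D : ChevalleyDatum) (Y : ℕ → K → E) (j : ℕ) : Prop where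
  add : ∀ r < D.nroots, ∀ t u : K, Y r t * Y r u = Y r (t + u)
  comm : ∀ r s, D.IsPosRoot r → D.IsPosRoot s → j ≤ r → r < s → ∀ t u : K,
    Y s u * Y r t = Y r t * Y s u * h8wX Y (D.commWord K r s t u)

theorem H8SysP.zero {j : ℕ} (hS : H8SysP D Y j) (r : ℕ) (hr : r < D.nroots) : Y r 0 = 1 := by
  have := hS.add r hr 0 0
  rw [add_zero] at this
  exact mul_eq_left.mp this

theorem H8SysP.inv {j : ℕ} (hS : H8SysP D Y j) (r : ℕ) (hr : r < D.nroots) (t : K) :
    (Y r t)⁻¹ = Y r (-t) := by
  rw [inv_eq_iff_mul_eq_one, hS.add r hr, add_neg_cancel, hS.zero r hr]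

theorem H8SysP.mono {j j' : ℕ} (hS : H8SysP D Y j) (hjj : j ≤ j') : H8SysP D Y j' :=
  ⟨hS.add, fun r s hr hs hj hrs t u => hS.comm r s hr hs (by omega) hrs t u⟩

/-- the terms of the commutator formula of two positive roots are positive of larger index -/
def H8Ord3 (D : ChevalleyDatum) : Prop :=
  ∀ r s, D.IsPosRoot r → D.IsPosRoot s → r ≠ s →
    ∀ c ∈ D.commTerms r s, D.IsPosRoot c.1 ∧ r < c.1 ∧ s < c.1

theorem h8sysP_Vk_step_aux {j : ℕ} (hS : H8SysP D Y j) (hO : H8Ord3 D) (k : ℕ) (hjk : j ≤ k)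
    (hk : D.IsPosRoot k) (l : ℕ) (hl : D.IsPosRoot l) (hkl : k ≤ l) (c a : K) (v : E)
    (hv : v ∈ Subgroup.closure (h8VkS D Y (k + 1))) :
    ∃ a' : K, ∃ v' ∈ Subgroup.closure (h8VkS D Y (k + 1)), Y l c * (Y k a * v) = Y k a' * v' := by
  rcases Nat.eq_or_lt_of_le hkl with rfl | hlt
  · exact ⟨c + a, v, hv, by rw [← mul_assoc, hS.add k hk.1]⟩
  · have hterms := hO k l hk hl (by omega)
    refine ⟨a, Y l c * h8wX Y (D.commWord K k l a c) * v, ?_, ?_⟩
    · apply Subgroup.mul_mem _ _ hv
      apply Subgroup.mul_mem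
      · apply Subgroup.subset_closure
        exact ⟨l, c, hl, by omega, rfl⟩
      · apply h8wX_mem
        intro q hq
        unfold ChevalleyDatum.commWord at hq
        rw [List.mem_map] at hq
        obtain ⟨cc, hcc, rfl⟩ := hq
        apply Subgroup.subset_closure
        exact ⟨cc.1, _, (hterms cc hcc).1, by have := (hterms cc hcc).2.1; omega, rfl⟩
    · have key := hS.comm k l hk hl hjk hlt a c
      rw [← mul_assoc, key]
      simp only [mul_assoc]

theorem h8sysP_Vk_step {j : ℕ} (hS : H8SysP D Y j) (hO : H8Ord3 D) (k : ℕ) (hjk : j ≤ k)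
    (hk : D.IsPosRoot k) (g : E) (hg : g ∈ Subgroup.closure (h8VkS D Y k)) :
    ∃ a : K, ∃ v ∈ Subgroup.closure (h8VkS D Y (k + 1)), g = Y k a * v := by
  induction hg using Subgroup.closure_induction_left with
  | one =>
    refine ⟨0, 1, Subgroup.one_mem _, ?_⟩
    rw [hS.zero k hk.1, one_mul]
  | mul_left x hx y _ ih =>
    obtain ⟨a, v, hv, rfl⟩ := ih
    obtain ⟨l, c, hl, hkl, rfl⟩ := hx
    exact h8sysP_Vk_step_aux hS hO k hjk hk l hl hkl c a v hv
  | inv_mul_cancel x hx y _ ih =>
    obtain ⟨a, v, hv, rfl⟩ := ih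
    obtain ⟨l, c, hl, hkl, rfl⟩ := hx
    rw [hS.inv l hl.1]
    exact h8sysP_Vk_step_aux hS hO k hjk hk l hl hkl (-c) a v hv

/-- every element of the group generated by the positive root elements of index `≥ k` is an
ordered product -/
theorem h8sysP_ord_exists {j : ℕ} (hS : H8SysP D Y j) (hO : H8Ord3 D) : ∀ (m k : ℕ), j ≤ k →
    k + m = D.nroots →
    ∀ g : E, g ∈ Subgroup.closure (h8VkS D Y k) → ∃ t : ℕ → K, g = h8wX Y (h8ordW D k t) := by
  intro m
  induction m with
  | zero =>
    intro k _ hk g hg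
    have hempty : h8VkS D Y k = ∅ := by
      ext x
      simp only [Set.mem_empty_iff_false, iff_false]
      rintro ⟨r, t, hr, hkr, _⟩
      have := hr.1
      omega
    rw [hempty, Subgroup.closure_empty, Subgroup.mem_bot] at hg
    refine ⟨fun _ => 0, ?_⟩
    have : h8Lk D k = [] := by
      unfold h8Lk
      have : D.nroots - k = 0 := by omega
      rw [this]
      rfl
    unfold h8ordW
    rw [this, hg]
    rfl
  | succ m ih =>
    intro k hjk hk g hg
    by_cases hpos : D.IsPosRoot k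
    · obtain ⟨a, v, hv, rfl⟩ := h8sysP_Vk_step hS hO k hjk hpos g hg
      obtain ⟨t', rfl⟩ := ih (k + 1) (by omega) (by omega) v hv
      refine ⟨Function.update t' k a, ?_⟩
      unfold h8ordW
      rw [h8Lk_pos D k hpos, List.map_cons, h8wX_cons]
      simp only [Function.update_self]
      congr 2
      apply List.map_congr_left
      intro r hr
      have := ((h8Lk_mem D (k + 1) r).mp hr).1
      rw [Function.update_of_ne (by omega)]
    · have hset : h8VkS D Y k = h8VkS D Y (k + 1) := by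
        ext x
        constructor
        · rintro ⟨r, t, hr, hkr, hx⟩
          refine ⟨r, t, hr, ?_, hx⟩
          rcases Nat.eq_or_lt_of_le hkr with rfl | h
          · exact absurd hr hpos
          · omega
        · rintro ⟨r, t, hr, hkr, hx⟩
          exact ⟨r, t, hr, by omega, hx⟩
      rw [hset] at hg
      obtain ⟨t, rfl⟩ := ih (k + 1) (by omega) (by omega) g hg
      refine ⟨t, ?_⟩
      unfold h8ordW
      rw [h8Lk_not D k hpos]

/-- the image of a word -/
theorem h8wX_map (ρ : E →* Γ) (hρ : ∀ r t, ρ (Y r t) = X r t) (w : List (ℕ × K)) :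
    ρ (h8wX Y w) = h8wX X w := by
  induction w with
  | nil => exact map_one ρ
  | cons p w ih => rw [h8wX_cons, h8wX_cons, map_mul, ih, hρ]

/-- uniqueness of the coordinates downstairs gives injectivity upstairs -/
theorem h8sysP_inj {j : ℕ} (hS : H8SysP D Y j) (hO : H8Ord3 D) (ρ : E →* Γ)
    (hρ : ∀ r t, ρ (Y r t) = X r t)
    (huniq : ∀ (k : ℕ) (t : ℕ → K), h8wX X (h8ordW D k t) = 1 → ∀ r ∈ h8Lk D k, t r = 0)
    (k : ℕ) (hjk : j ≤ k) (y : E) (hy : y ∈ Subgroup.closure (h8VkS D Y k)) (h1 : ρ y = 1) :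
    y = 1 := by
  by_cases hk : k ≤ D.nroots
  · obtain ⟨t, rfl⟩ := h8sysP_ord_exists hS hO (D.nroots - k) k hjk (by omega) y hy
    rw [h8wX_map ρ hρ] at h1
    have h0 := huniq k t h1
    unfold h8ordW
    have : ∀ (L : List ℕ), (∀ r ∈ L, t r = 0 ∧ r < D.nroots) →
        h8wX Y (L.map fun r => (r, t r)) = 1 := by
      intro L
      induction L with
      | nil => intro _; rfl
      | cons r L ih =>
        intro hL
        rw [List.map_cons, h8wX_cons, ih (fun q hq => hL q (List.mem_cons_of_mem _ hq))]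
        simp only
        rw [(hL r List.mem_cons_self).1, hS.zero r (hL r List.mem_cons_self).2, mul_one]
    apply this
    intro r hr
    exact ⟨h0 r hr, ((h8Lk_mem D k r).mp hr).2.1⟩
  · have hempty : h8VkS D Y k = ∅ := by
      ext x
      simp only [Set.mem_empty_iff_false, iff_false]
      rintro ⟨r, t, hr, hkr, _⟩
      have := hr.1
      omega
    rw [hempty, Subgroup.closure_empty, Subgroup.mem_bot] at hy
    exact hy

end Cfsg.Agent.Lib.helper8
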