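import Mathlib
import Cfsg.Prelude.Def_ChevStructure
import Cfsg.Agent.Lib.helper8.ChevUC4
import Cfsg.Agent.Lib.helper8.ChevSt17

set_option autoImplicit false

namespace Cfsg.Agent.Lib.helper8

open Cfsg.Lie Cfsg.Lie.ChevalleyDatum

universe u

variable {D : ChevalleyDatum}

/-- every root is conjugate to a simple root -/
theorem h8uc_to_simple (hL : H8All D) (r : ℕ) (hr : r < D.nroots) :
    ∃ (w : List ℕ) (j : ℕ), (∀ i ∈ w, i < D.rank) ∧ j < D.rank ∧ h8sW D w r = D.simple j := by
  obtain ⟨dep, par, horb⟩ := hL.hBN.orb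
  refine h8orb_induction D hL.hA dep par horb
    (fun r => ∃ (w : List ℕ) (j : ℕ), (∀ i ∈ w, i < D.rank) ∧ j < D.rank ∧
      h8sW D w r = D.simple j) ?_ ?_ r hr
  · intro j hj
    exact ⟨[], j, fun i hi => absurd hi List.not_mem_nil, hj, rfl⟩
  · rintro i hi r _ ⟨w, j, hw, hj, e⟩
    refine ⟨w ++ [i], j, ?_, hj, ?_⟩
    · intro k hk
      rw [List.mem_append, List.mem_singleton] at hk
      rcases hk with hk | rfl
      · exact hw k hk
      · exact hi
    · rw [h8sW_append]
      exact e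

theorem h8sW_inj (hA : H8ReflAll D) : ∀ (w : List ℕ), (∀ i ∈ w, i < D.rank) →
    ∀ a b, a < D.nroots → b < D.nroots → h8sW D w a = h8sW D w b → a = b := by
  intro w
  induction w with
  | nil => intro _ a b _ _ h; exact h
  | cons i w ih =>
    intro hw a b ha hb h
    have hw' : ∀ j ∈ w, j < D.rank := fun j hj => hw j (List.mem_cons_of_mem _ hj)
    obtain ⟨η, hR⟩ := h8reflAll_spec D hA i (hw i List.mem_cons_self)
    have h1 : D.reflectRoot i (h8sW D w a) = D.reflectRoot i (h8sW D w b) := h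
    exact ih hw' a b ha hb (h8refl_inj D i η hR _ _ (h8sW_lt D hA w hw' a ha)
      (h8sW_lt D hA w hw' b hb) h1)

/-- the terms of the commutator formula are transported by the elements of the Weyl group -/
theorem h8commTerms_sW (hL : H8All D) : ∀ (w : List ℕ), (∀ i ∈ w, i < D.rank) →
    ∀ r s, r < D.nroots → s < D.nroots → ∀ c ∈ D.commTerms r s,
      ∃ c' ∈ D.commTerms (h8sW D w r) (h8sW D w s), c'.1 = h8sW D w c.1 := by
  intro w
  induction w with
  | nil =>
    intro _ r s _ _ c hc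
    exact ⟨c, hc, rfl⟩
  | cons i w ih =>
    intro hw r s hr hs c hc
    have hw' : ∀ j ∈ w, j < D.rank := fun j hj => hw j (List.mem_cons_of_mem _ hj)
    have hi := hw i List.mem_cons_self
    obtain ⟨c1, hc1, e1⟩ := ih hw' r s hr hs c hc
    obtain ⟨eta, _, _, _, hT⟩ := hL.hT.refl i hi
    have := hT (h8sW D w r) (h8sW_lt D hL.hA w hw' r hr) (h8sW D w s)
      (h8sW_lt D hL.hA w hw' s hs)
    refine ⟨h8commT (D.reflectRoot i) (fun s => eta.getD s 0) (eta.getD (h8sW D w r) 0)
      (eta.getD (h8sW D w s) 0) c1, ?_, ?_⟩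
    · show _ ∈ D.commTerms (D.reflectRoot i (h8sW D w r)) (D.reflectRoot i (h8sW D w s))
      rw [this]
      exact List.mem_map_of_mem hc1
    · show D.reflectRoot i c1.1 = D.reflectRoot i (h8sW D w c.1)
      rw [e1]

/-- two roots which are neither equal nor opposite can be moved simultaneously into the positive
system, together with the roots of their commutator formula -/
theorem h8uc_move (hB : H8Base.{u} D) (hL : H8All D) (hWS : H8W0S D) (hO3 : H8Ord3 D)
    (r s : ℕ) (hr : r < D.nroots) (hs : s < D.nroots) (h1 : s ≠ r)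
    (h2 : s ≠ D.negIdx.getD r 0) :
    ∃ w : List ℕ, (∀ i ∈ w, i < D.rank) ∧ D.IsPosRoot (h8sW D w r) ∧ D.IsPosRoot (h8sW D w s) ∧
      ∀ c ∈ D.commTerms r s, D.IsPosRoot (h8sW D w c.1) := by
  have key : ∃ w : List ℕ, (∀ i ∈ w, i < D.rank) ∧ D.IsPosRoot (h8sW D w r) ∧
      D.IsPosRoot (h8sW D w s) := by
    obtain ⟨w₁, j, hw₁, hj, e⟩ := h8uc_to_simple hL r hr
    have hs₁ := h8sW_lt D hL.hA w₁ hw₁ s hs
    rcases hB.posneg _ hs₁ with hp | hn
    · exact ⟨w₁, hw₁, by rw [e]; exact h8simple_pos D hL.hBN j hj, hp⟩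
    · obtain ⟨w₀, hw0, _⟩ := hWS.ex
      obtain ⟨hw₀, _, hnp, _⟩ := h8w0Chk_spec D hL.hA w₀ hw0
      have hne : h8sW D w₁ s ≠ D.negIdx.getD (D.simple j) 0 := by
        intro h
        apply h2
        rw [← e, ← h8sW_negc hL.hA w₁ hw₁ r hr] at h
        exact h8sW_inj hL.hA w₁ hw₁ _ _ hs (hL.hW.neglt r hr) h
      obtain ⟨hn', _⟩ := h8refl_neg hB hL j hj _ hn hne
      refine ⟨w₀.reverse ++ (j :: w₁), ?_, ?_, ?_⟩
      · intro k hk
        rw [List.mem_append, List.mem_cons] at hk
        rcases hk with hk | rfl | hk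
        · exact hw₀ k (List.mem_reverse.mp hk)
        · exact hj
        · exact hw₁ k hk
      · rw [h8sW_append]
        apply hnp
        show D.IsNegRoot (D.reflectRoot j (h8sW D w₁ r))
        rw [e]
        have : D.reflectRoot j (D.simple j) = D.negIdx.getD (D.simple j) 0 := by
          unfold ChevalleyDatum.reflectRoot ChevalleyDatum.neg
          simp
        rw [this]
        exact h8stNegOfPos hB hL _ (h8simple_pos D hL.hBN j hj)
      · rw [h8sW_append]
        apply hnp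
        exact hn'
  obtain ⟨w, hw, hpr, hps⟩ := key
  refine ⟨w, hw, hpr, hps, ?_⟩
  intro c hc
  obtain ⟨c', hc', e⟩ := h8commTerms_sW hL w hw r s hr hs c hc
  rw [← e]
  have hne : h8sW D w r ≠ h8sW D w s := by
    intro h
    exact h1 (h8sW_inj hL.hA w hw _ _ hr hs h).symm
  exact (hO3 _ _ hpr hps hne c' hc').1

end Cfsg.Agent.Lib.helper8
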