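import Cfsg.Agent.Lib.helper7.SAP.Defs
import Cfsg.Agent.Lib.Helper22.SAPALT1

/-!
Project SAP row PERM5: the old cycle `nh` (`nh_po`, `nh_pe`, `nh_ps`, `nh_conj_zh`).
-/

namespace Cfsg.Agent.Lib.helper7.SAP

open Equiv

universe u

section perm
variable (p k l : ℕ)

theorem sapperm5_arcO_length : (arcO p k l).length = l := by
  simp [arcO]

theorem sapperm5_arcO_get (j : ℕ) (hj : j < (arcO p k l).length) :
    (arcO p k l)[j] = po (((j + 1 : ℕ)) : ZMod p) := by
  simp [arcO]

theorem sapperm5_po_inj {x y : ZMod p} (h : (po x : Pt p k) = po y) : x = y := by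
  unfold po at h
  exact Sum.inl.inj (Sum.inl.inj h)

theorem sapperm5_arcO_nodup [NeZero p] (hlp : l + 1 ≤ p) : (arcO p k l).Nodup := by
  unfold arcO
  refine List.Nodup.map_on ?_ List.nodup_range
  intro i hi j hj h
  have h1 : ((i + 1 : ℕ) : ZMod p) = ((j + 1 : ℕ) : ZMod p) := sapperm5_po_inj p k h
  have hi' := List.mem_range.1 hi
  have hj' := List.mem_range.1 hj
  have h2 := congrArg ZMod.val h1
  rw [ZMod.val_natCast, ZMod.val_natCast, Nat.mod_eq_of_lt (by omega),
    Nat.mod_eq_of_lt (by omega)] at h2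
  omega

theorem sapperm5_mem_arcO [NeZero p] (hlp : l + 1 ≤ p) (x : ZMod p) :
    (po x : Pt p k) ∈ arcO p k l ↔ 1 ≤ x.val ∧ x.val ≤ l := by
  unfold arcO
  rw [List.mem_map]
  constructor
  · rintro ⟨j, hj, h⟩
    have hj' := List.mem_range.1 hj
    have h1 : ((j + 1 : ℕ) : ZMod p) = x := sapperm5_po_inj p k h
    rw [← h1, ZMod.val_natCast, Nat.mod_eq_of_lt (by omega)]
    omega
  · rintro ⟨h1, h2⟩
    refine ⟨x.val - 1, List.mem_range.2 (by omega), ?_⟩
    have : x.val - 1 + 1 = x.val := by omega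
    rw [this, ZMod.natCast_zmod_val]

theorem sapperm5_formPerm_po [NeZero p] (hlp : l + 1 ≤ p) (hl : 1 ≤ l) (x : ZMod p) :
    (arcO p k l).formPerm (po x) = po (nuI p l x) := by
  have hlen := sapperm5_arcO_length p k l
  have hnd := sapperm5_arcO_nodup p k l hlp
  unfold nuI
  by_cases h1 : 1 ≤ x.val ∧ x.val < l
  · rw [if_pos h1]
    have hj : x.val - 1 < (arcO p k l).length := by rw [hlen]; omega
    have hx : (po x : Pt p k) = (arcO p k l)[x.val - 1] := by
      rw [sapperm5_arcO_get p k l _ hj]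
      have : x.val - 1 + 1 = x.val := by omega
      rw [this, ZMod.natCast_zmod_val]
    rw [hx, List.formPerm_apply_getElem _ hnd _ hj]
    have h3 : (x.val - 1 + 1) % (arcO p k l).length = x.val := by
      rw [hlen]
      have : x.val - 1 + 1 = x.val := by omega
      rw [this, Nat.mod_eq_of_lt h1.2]
    have hj2 : x.val < (arcO p k l).length := by rw [hlen]; exact h1.2
    have h4 : (arcO p k l)[(x.val - 1 + 1) % (arcO p k l).length]'(by rw [h3]; exact hj2)
        = (arcO p k l)[x.val] := by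
      congr 1
    rw [h4, sapperm5_arcO_get p k l _ hj2]
    congr 1
    rw [Nat.cast_add, ZMod.natCast_zmod_val, Nat.cast_one]
  · rw [if_neg h1]
    by_cases h2 : x.val = l
    · rw [if_pos h2]
      have hj : x.val - 1 < (arcO p k l).length := by rw [hlen]; omega
      have hx : (po x : Pt p k) = (arcO p k l)[x.val - 1] := by
        rw [sapperm5_arcO_get p k l _ hj]
        have : x.val - 1 + 1 = x.val := by omega
        rw [this, ZMod.natCast_zmod_val]
      rw [hx, List.formPerm_apply_getElem _ hnd _ hj]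
      have h3 : (x.val - 1 + 1) % (arcO p k l).length = 0 := by
        rw [hlen]
        have : x.val - 1 + 1 = l := by omega
        rw [this, Nat.mod_self]
      have hj2 : 0 < (arcO p k l).length := by rw [hlen]; omega
      have h4 : (arcO p k l)[(x.val - 1 + 1) % (arcO p k l).length]'(by rw [h3]; exact hj2)
          = (arcO p k l)[0] := by
        congr 1
      rw [h4, sapperm5_arcO_get p k l _ hj2]
      congr 1
      simp
    · rw [if_neg h2]
      apply List.formPerm_apply_of_notMem
      rw [sapperm5_mem_arcO p k l hlp]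
      omega

theorem sapperm5_ps1_notMem : (ps1 : Pt p k) ∉ arcO p k l := by
  unfold arcO
  rw [List.mem_map]
  rintro ⟨j, _, h⟩
  unfold po ps1 at h
  cases (Sum.inl.inj h)

theorem sapperm5_ps2_notMem : (ps2 : Pt p k) ∉ arcO p k l := by
  unfold arcO
  rw [List.mem_map]
  rintro ⟨j, _, h⟩
  unfold po ps2 at h
  cases (Sum.inl.inj h)

theorem sapperm5_pe_notMem (j : Fin k) : (pe j : Pt p k) ∉ arcO p k l := by
  unfold arcO
  rw [List.mem_map]
  rintro ⟨i, _, h⟩
  unfold po pe at h
  cases h

theorem sapperm5_ps_ne : (ps1 : Pt p k) ≠ ps2 := by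
  unfold ps1 ps2
  intro h
  have := Sum.inr.inj (Sum.inl.inj h)
  exact absurd this (by decide)

/-- PERM5 [M]: the old cycle `nh`. -/
theorem nh_po [NeZero p] (hlp : l + 1 ≤ p) (hl : 1 ≤ l) (x : ZMod p) : nh p k l (po x) = po (nuI p l x) := by
  unfold nh
  rw [Perm.mul_apply]
  have h1 : (po x : Pt p k) ≠ ps1 := by
    unfold po ps1
    intro h
    cases (Sum.inl.inj h)
  have h2 : (po x : Pt p k) ≠ ps2 := by
    unfold po ps2
    intro h
    cases (Sum.inl.inj h)
  have h3 : (if Even l then swap (ps1 : Pt p k) ps2 else 1) (po x) = po x := by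
    split_ifs
    · exact swap_apply_of_ne_of_ne h1 h2
    · rfl
  rw [h3]
  exact sapperm5_formPerm_po p k l hlp hl x

theorem nh_pe [NeZero p] (j : Fin k) : nh p k l (pe j) = pe j := by
  unfold nh
  rw [Perm.mul_apply]
  have h1 : (pe j : Pt p k) ≠ ps1 := by
    unfold pe ps1
    intro h
    cases h
  have h2 : (pe j : Pt p k) ≠ ps2 := by
    unfold pe ps2
    intro h
    cases h
  have h3 : (if Even l then swap (ps1 : Pt p k) ps2 else 1) (pe j) = pe j := by
    split_ifs
    · exact swap_apply_of_ne_of_ne h1 h2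
    · rfl
  rw [h3]
  exact List.formPerm_apply_of_notMem (sapperm5_pe_notMem p k l j)

theorem nh_ps [NeZero p] :
    nh p k l ps1 = (if Even l then ps2 else ps1) ∧ nh p k l ps2 = (if Even l then ps1 else ps2) := by
  unfold nh
  constructor
  · rw [Perm.mul_apply]
    split_ifs
    · rw [swap_apply_left]
      exact List.formPerm_apply_of_notMem (sapperm5_ps2_notMem p k l)
    · rw [Perm.one_apply]
      exact List.formPerm_apply_of_notMem (sapperm5_ps1_notMem p k l)
  · rw [Perm.mul_apply]
    split_ifs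
    · rw [swap_apply_right]
      exact List.formPerm_apply_of_notMem (sapperm5_ps1_notMem p k l)
    · rw [Perm.one_apply]
      exact List.formPerm_apply_of_notMem (sapperm5_ps2_notMem p k l)

theorem nh_conj_zh [NeZero p] (hlp : l + 1 ≤ p) (hl : 1 ≤ l) (x : ZMod p) :
    nh p k l * zh (Sum.inl x) * (nh p k l)⁻¹ = (zh (Sum.inl (nuI p l x) : Ix p k)) ^ (sgn l) := by
  unfold zh
  rw [c3_conj]
  have hpt : ∀ y : ZMod p, (pt (Sum.inl y : Ix p k) : Pt p k) = po y := fun y => rfl
  rw [hpt, hpt, nh_po p k l hlp hl x, (nh_ps p k l).1, (nh_ps p k l).2]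
  unfold sgn
  have h1 : (po (nuI p l x) : Pt p k) ≠ ps1 := by
    unfold po ps1
    intro h
    cases (Sum.inl.inj h)
  have h2 : (po (nuI p l x) : Pt p k) ≠ ps2 := by
    unfold po ps2
    intro h
    cases (Sum.inl.inj h)
  split_ifs
  · rw [zpow_neg, zpow_one, c3_inv _ _ _ h1 h2 (sapperm5_ps_ne p k)]
  · rw [zpow_one]

end perm

end Cfsg.Agent.Lib.helper7.SAP
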