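import Mathlib
import Cfsg.Agent.Lib.helper17.SLP.Defs

/-!
# Project SLP (designer helper17), row F3 `exists_k_two` (helper8), verbatim.
-/

set_option autoImplicit false

namespace Cfsg.Agent.Lib.helper17.SLP

open Polynomial

universe u v

/-- in a finite field of characteristic 2 every element is a square -/
theorem slpf3_sqrt {F : Type*} [Field F] [Finite F] [CharP F 2] (a : F) : ∃ s : F, s ^ 2 = a := by
  have hinj : Function.Injective (frobenius F 2) := frobenius_inj F 2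
  have hsurj : Function.Surjective (frobenius F 2) := Finite.surjective_of_injective hinj
  obtain ⟨s, hs⟩ := hsurj a
  exact ⟨s, by rw [← frobenius_def]; exact hs⟩

/-- F3 [M]  `lam := ζ² ≠ 1` (`orderOf ζ = q - 1 ≥ 3`), `lam + 1 ≠ 0` (char 2), so `lam + 1 = ζ^j`; `q - 1` is odd, so `j ≡ 2 k mod (q - 1)` has a solution. -/
theorem exists_k_two {F : Type*} [Field F] [Fintype F] [CharP F 2] (hq : 4 ≤ Fintype.card F)
    (ζ : Fˣ) (hζ : ∀ y : Fˣ, y ∈ Subgroup.zpowers ζ) :
    ∃ k : ℕ, ((ζ : F) ^ 2) ^ k = (ζ : F) ^ 2 + 1 := by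
  classical
  have h11 : (1 : F) + 1 = 0 := CharTwo.add_self_eq_zero 1
  -- `ζ² + 1 ≠ 0`
  have hne : (ζ : F) ^ 2 + 1 ≠ 0 := by
    intro h0
    have h1 : ((ζ : F) + 1) ^ 2 = 0 := by
      have : ((ζ : F) + 1) ^ 2 = (ζ : F) ^ 2 + 1 + (ζ : F) * (1 + 1) := by ring
      rw [this, h0, h11, mul_zero, add_zero]
    have h2 : (ζ : F) + 1 = 0 := by
      have := pow_eq_zero_iff (n := 2) (a := (ζ : F) + 1) (by norm_num)
      exact this.mp h1
    have h3 : (ζ : F) = 1 := by
      have : (ζ : F) = (ζ : F) + (1 + 1) := by rw [h11, add_zero]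
      rw [this, ← add_assoc, h2, zero_add]
    have h4 : ζ = 1 := Units.ext h3
    have h5 : ∀ y : Fˣ, y = 1 := by
      intro y
      obtain ⟨j, hj⟩ := hζ y
      rw [← hj]
      show ζ ^ j = 1
      rw [h4, one_zpow]
    have h6 : Fintype.card Fˣ ≤ 1 :=
      Fintype.card_le_one_iff.mpr (fun a b => by rw [h5 a, h5 b])
    rw [Fintype.card_units] at h6
    omega
  obtain ⟨s, hs⟩ := slpf3_sqrt ((ζ : F) ^ 2 + 1)
  have hs0 : s ≠ 0 := by
    intro h
    rw [h] at hs
    apply hne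
    rw [← hs]
    norm_num
  have hmem : Units.mk0 s hs0 ∈ Subgroup.zpowers ζ := hζ _
  rw [← mem_powers_iff_mem_zpowers] at hmem
  obtain ⟨k, hk⟩ := hmem
  have hk' : (ζ : F) ^ k = s := by
    have := congrArg (fun y : Fˣ => (y : F)) hk
    simpa using this
  refine ⟨k, ?_⟩
  rw [← pow_mul, mul_comm, pow_mul, hk', hs]

end Cfsg.Agent.Lib.helper17.SLP
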