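import Mathlib
import Cfsg.Prelude.Def_ChevStructure
import Cfsg.Agent.Lib.Helper11.INVSTDN
import Cfsg.Agent.Lib.Helper12.INVSTDC
import Cfsg.Agent.Lib.helper8.ChevSLP3
import Cfsg.Agent.Lib.helper8.ChevOrbAll
import Cfsg.Agent.Lib.helper8.ChevSLP2

/-!
# Project INV (generic lemma): `∏ n_r(1)` is conjugate to `∏ x_r(1)` for pairwise strongly orthogonal
roots (characteristic two), any Chevalley datum
-/

set_option autoImplicit false

namespace Cfsg.Agent.Lib.helper14.INV

open Cfsg.Lie Cfsg.Lie.ChevalleyDatum Cfsg.Agent.Lib.helper8 Cfsg.Agent.Lib.helper14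

universe u

variable {F : Type u} [Field F]

/-- all the root subgroups of `±r` commute with those of `±s` -/
def StdcComm (D : ChevalleyDatum) (hB : H8Base.{u} D) (F : Type u) [Field F] (r s : ℕ) : Prop :=
  (∀ t v : F, Commute (h8xU D hB r t) (h8xU D hB s v)) ∧
  (∀ t v : F, Commute (h8xU D hB r t) (h8xU D hB (D.neg s) v)) ∧
  (∀ t v : F, Commute (h8xU D hB (D.neg r) t) (h8xU D hB s v)) ∧
  (∀ t v : F, Commute (h8xU D hB (D.neg r) t) (h8xU D hB (D.neg s) v))

theorem stdcComm_symm (D : ChevalleyDatum) (hB : H8Base.{u} D) (r s : ℕ)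
    (h : StdcComm D hB F r s) : StdcComm D hB F s r := by
  obtain ⟨h1, h2, h3, h4⟩ := h
  exact ⟨fun t v => (h1 v t).symm, fun t v => (h3 v t).symm, fun t v => (h2 v t).symm,
    fun t v => (h4 v t).symm⟩

theorem stdcComm_of_chk [CharP F 2] (D : ChevalleyDatum) (hB : H8Base.{u} D)
    (hC : H8CommAll.{u} D) (r s : ℕ) (h : invstdnChk D r s = true) : StdcComm D hB F r s := by
  unfold invstdnChk at h
  simp only [Bool.and_eq_true] at h
  obtain ⟨⟨⟨h1, h2⟩, h3⟩, h4⟩ := h
  exact ⟨fun t v => invstdn_comm1 D hB hC r s h1 t v,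
    fun t v => invstdn_comm1 D hB hC r (D.neg s) h2 t v,
    fun t v => invstdn_comm1 D hB hC (D.neg r) s h3 t v,
    fun t v => invstdn_comm1 D hB hC (D.neg r) (D.neg s) h4 t v⟩

/-- STDC, generic: `∏ n_r(1)` is conjugate to `∏ x_r(1)` by `∏ x_{-r}(1)` -/
theorem stdc_gen [CharP F 2] (D : ChevalleyDatum) (hB : H8Base.{u} D) (hC : H8CommAll.{u} D)
    (R : List ℕ) (hnd : R.Nodup) (h : invstdnListChk D R = true)
    (hsl : ∀ r ∈ R, H8SLHom D hB F r) :
    Cj D (n1 D hB R : GL D.Idx F) (w1 D hB R) := by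
  unfold invstdnListChk at h
  simp only [Bool.and_eq_true, List.all_eq_true, decide_eq_true_eq] at h
  obtain ⟨_, hpw⟩ := h
  have hpw' : R.Pairwise (StdcComm D hB F) :=
    hpw.imp (fun {r s} hrs => stdcComm_of_chk D hB hC r s hrs)
  have : Std.Symm (StdcComm D hB F) := ⟨stdcComm_symm D hB⟩
  have hall := fun {a : ℕ} (ha : a ∈ R) {b : ℕ} (hb : b ∈ R) (hab : a ≠ b) =>
    hpw'.forall ha hb hab
  set y : ℕ → GL D.Idx F := fun r => h8xU D hB (D.negIdx.getD r 0) (1 : F) with hy
  refine ⟨(R.map y).prod, ?_, ?_⟩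
  · apply Subgroup.list_prod_mem
    intro g hg
    obtain ⟨r, _, rfl⟩ := List.mem_map.mp hg
    exact h8xU_mem_group D hB _ _
  · have e1 : (n1 D hB R : GL D.Idx F) = (R.map fun r => h8nU D hB r (1 : F)).prod := rfl
    have e2 : (w1 D hB R : GL D.Idx F) = (R.map fun r => h8xU D hB r (1 : F)).prod := by
      unfold w1 h8wordU
      rw [List.map_map]
      rfl
    rw [e1, e2]
    apply invstdc_prod y (fun r => h8nU D hB r (1 : F)) (fun r => h8xU D hB r (1 : F)) R hnd
    · intro r hr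
      exact invstdc_rk1 D hB r (hsl r hr)
    · intro r hr s hs hne
      obtain ⟨_, _, c3, c4⟩ := hall hr hs hne
      show y r * h8nU D hB s (1 : F) = h8nU D hB s (1 : F) * y r
      rw [invstdc_nU' D hB s]
      have k1 : Commute (y r) (h8xU D hB s (1 : F)) := c3 1 1
      have k2 : Commute (y r) (h8xU D hB (D.negIdx.getD s 0) (-(1 : F)⁻¹)) := c4 1 _
      exact (k1.mul_right (k2.mul_right k1)).eq
    · intro r hr s hs hne
      obtain ⟨_, _, c3, _⟩ := hall hr hs hne
      exact (c3 1 1).eq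

/-- the rank one homomorphisms, for all the tabulated types -/
theorem stdc_sl (D : ChevalleyDatum)
    (hD : D ∈ [chevG2, chevB2, chevD4, chevF4, chevE6, chevE7, chevE8]) (hB : H8Base.{u} D) :
    ∀ r < D.nroots, H8SLHom D hB F r := by
  have hA := h8reflAll D hD
  obtain ⟨dep, par, horb⟩ := h8orb_chk_all D hD
  exact h8slHom_all (F := F) D hB hA (h8scChk_all D hD) (h8cartan_simple D hD) dep par horb

/-- STDC for the tabulated types -/
theorem stdc_all [CharP F 2] (D : ChevalleyDatum)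
    (hD : D ∈ [chevG2, chevB2, chevD4, chevF4, chevE6, chevE7, chevE8]) (hB : H8Base.{u} D)
    (R : List ℕ) (hnd : R.Nodup) (h : invstdnListChk D R = true) :
    Cj D (n1 D hB R : GL D.Idx F) (w1 D hB R) := by
  have hC := h8commAll.{u} D hD
  apply stdc_gen D hB hC R hnd h
  intro r hr
  unfold invstdnListChk at h
  simp only [Bool.and_eq_true, List.all_eq_true, decide_eq_true_eq] at h
  exact stdc_sl D hD hB r (h.1 r hr)

end Cfsg.Agent.Lib.helper14.INV
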