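import Mathlib
import Cfsg.Prelude.Def_ChevStructure
import Cfsg.Prelude.Def_LieTwisted
import Cfsg.Agent.Lib.helper14.TWI.D4Defs
import Cfsg.Agent.Lib.helper14.INVFUSEb
import Cfsg.Agent.Lib.helper14.INVNCb
import Cfsg.Agent.Lib.helper8.ChevIE7f
import Cfsg.Agent.Lib.helper8.ChevTwD4C
import Cfsg.Agent.Lib.helper8.ChevTwB7

/-!
# Project TWI (S2183), piece INST2: orbit products of root elements `x_r(1)` and the elements `n_O`, `n1 R`
lie in `³D₄(q)`
-/

set_option autoImplicit false

namespace Cfsg.Agent.Lib.helper14.TWI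

open Cfsg.Lie Cfsg.Lie.ChevalleyDatum Cfsg.Agent.Lib.helper8 Cfsg.Agent.Lib.helper14
  Cfsg.Agent.Lib.helper14.INV

universe u

variable {F : Type u} [Field F]

/-- conjugation of a product of root elements `x_r(1)` by `n_v` (characteristic two) -/
theorem twiinst2_conj [CharP F 2] (D : ChevalleyDatum) (hB : H8Base.{u} D) (hA : H8ReflAll D)
    (v : List ℕ) (hv : ValidW D v) (R : List ℕ) (hR : ∀ r ∈ R, r < D.nroots) :
    (h8nWU D hB v : GL D.Idx F) * w1 D hB R * (h8nWU D hB v : GL D.Idx F)⁻¹ =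
      w1 D hB (R.map (h8sW D v)) := by
  induction v with
  | nil =>
    have e : (h8nWU D hB [] : GL D.Idx F) = 1 := by
      unfold h8nWU
      simp
    have e2 : R.map (h8sW D []) = R := by
      have : h8sW D [] = id := by
        funext s
        rfl
      rw [this, List.map_id]
    rw [e, e2, one_mul, inv_one, mul_one]
  | cons i v ih =>
    have hv' : ValidW D v := fun j hj => hv j (List.mem_cons_of_mem _ hj)
    have hi : i < D.rank := hv i List.mem_cons_self
    have e2 : R.map (h8sW D (i :: v)) = (R.map (h8sW D v)).map (D.reflectRoot i) := by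
      rw [List.map_map]
      rfl
    rw [h8nWU_cons, e2, ← conj_nU_w1_b D hB hA i hi (R.map (h8sW D v)) (by
      intro r hr
      obtain ⟨s, hs, rfl⟩ := List.mem_map.mp hr
      exact h8sW_lt D hA v hv' s (hR s hs)), ← ih hv']
    group

/-- STDC with the explicit conjugating element: `∏ x_{-r}(1)` conjugates `∏ n_r(1)` to `∏ x_r(1)` -/
theorem twiinst2_stdc [CharP F 2] (D : ChevalleyDatum)
    (hD : D ∈ [chevG2, chevB2, chevD4, chevF4, chevE6, chevE7, chevE8]) (hB : H8Base.{u} D)
    (R : List ℕ) (hnd : R.Nodup) (h : invstdnListChk D R = true) :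
    (w1 D hB (R.map D.neg) : GL D.Idx F) * n1 D hB R * (w1 D hB (R.map D.neg) : GL D.Idx F)⁻¹ =
      w1 D hB R := by
  have hC := h8commAll.{u} D hD
  have hlt : ∀ r ∈ R, r < D.nroots := by
    have h' := h
    unfold invstdnListChk at h'
    simp only [Bool.and_eq_true, List.all_eq_true, decide_eq_true_eq] at h'
    exact h'.1
  have hsl : ∀ r ∈ R, H8SLHom D hB F r := fun r hr => stdc_sl D hD hB r (hlt r hr)
  unfold invstdnListChk at h
  simp only [Bool.and_eq_true, List.all_eq_true, decide_eq_true_eq] at h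
  obtain ⟨_, hpw⟩ := h
  have hpw' : R.Pairwise (StdcComm D hB F) :=
    hpw.imp (fun {r s} hrs => stdcComm_of_chk D hB hC r s hrs)
  have : Std.Symm (StdcComm D hB F) := ⟨stdcComm_symm D hB⟩
  have hall := fun {a : ℕ} (ha : a ∈ R) {b : ℕ} (hb : b ∈ R) (hab : a ≠ b) =>
    hpw'.forall ha hb hab
  set y : ℕ → GL D.Idx F := fun r => h8xU D hB (D.negIdx.getD r 0) (1 : F) with hy
  have e0 : (w1 D hB (R.map D.neg) : GL D.Idx F) = (R.map y).prod := by
    unfold w1 h8wordU
    rw [List.map_map, List.map_map]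
    rfl
  have e1 : (n1 D hB R : GL D.Idx F) = (R.map fun r => h8nU D hB r (1 : F)).prod := rfl
  have e2 : (w1 D hB R : GL D.Idx F) = (R.map fun r => h8xU D hB r (1 : F)).prod := by
    unfold w1 h8wordU
    rw [List.map_map]
    rfl
  rw [e0, e1, e2]
  apply invstdc_prod y (fun r => h8nU D hB r (1 : F)) (fun r => h8xU D hB r (1 : F)) R hnd
  · intro r hr
    exact invstdc_rk1 D hB r (hsl r hr)
  · intro r hr s hs hne
    obtain ⟨_, _, c3, c4⟩ := hall hr hs hne
    show y r * h8nU D hB s (1 : F) = h8nU D hB s (1 : F) * y r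
    rw [invstdc_nU' D hB s]
    have k1 : Commute (y r) (h8xU D hB s (1 : F)) := c3 1 1
    have k2 : Commute (y r) (h8xU D hB (D.negIdx.getD s 0) (-(1 : F)⁻¹)) := c4 1 _
    exact (k1.mul_right (k2.mul_right k1)).eq
  · intro r hr s hs hne
    obtain ⟨_, _, c3, _⟩ := hall hr hs hne
    exact (c3 1 1).eq

variable {K : Type u} [Field K]

theorem twiinst2_orb_valid : ∀ O ∈ d4Orbs, ∀ j ∈ O, j < chevD4.rank := by decide

/-- moving a product of root elements inside a subgroup containing the `n_O` -/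
theorem twiinst2_step [CharP K 2] (hB : H8Base.{u} chevD4) (G₁ : Subgroup (GL chevD4.Idx K))
    (hnO : ∀ O ∈ d4Orbs, (h8nWU chevD4 hB O : GL chevD4.Idx K) ∈ G₁)
    (vs : List (List ℕ)) (hvs : ∀ O ∈ vs, O ∈ d4Orbs) (R : List ℕ) (hR : ∀ r ∈ R, r < 24)
    (hmem : (w1 chevD4 hB R : GL chevD4.Idx K) ∈ G₁) :
    (w1 chevD4 hB (R.map (h8sW chevD4 vs.flatten)) : GL chevD4.Idx K) ∈ G₁ := by
  have hD : chevD4 ∈ [chevG2, chevB2, chevD4, chevF4, chevE6, chevE7, chevE8] := by simp
  have hA := h8reflAll chevD4 hD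
  have hn : (h8nWU chevD4 hB vs.flatten : GL chevD4.Idx K) ∈ G₁ := by
    induction vs with
    | nil => exact Subgroup.one_mem _
    | cons O vs ih =>
      rw [List.flatten_cons, h8nWU_append]
      exact Subgroup.mul_mem _ (hnO O (hvs O List.mem_cons_self))
        (ih (fun O' hO' => hvs O' (List.mem_cons_of_mem _ hO')))
  have hv : ValidW chevD4 vs.flatten := by
    intro j hj
    obtain ⟨O, hO, hjO⟩ := List.mem_flatten.mp hj
    exact twiinst2_orb_valid O (hvs O hO) j hjO
  rw [← twiinst2_conj chevD4 hB hA vs.flatten hv R hR]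
  exact Subgroup.mul_mem _ (Subgroup.mul_mem _ hn hmem) (Subgroup.inv_mem _ hn)

theorem twiinst2_data :
    coll chevD4 20 [18, 13, 12] = [12, 13, 18] ∧
    coll chevD4 20 (([18, 13, 12] : List ℕ).map (h8sW chevD4 [[1]].flatten)) = [15, 16, 19] ∧
    coll chevD4 20 [15, 19, 16] = [15, 16, 19] ∧
    ([18, 13, 12] : List ℕ).map (h8sW chevD4 [[0, 2, 3], [1]].flatten) = [17, 20, 21] ∧
    ([14] : List ℕ).map (h8sW chevD4 [[0, 2, 3]].flatten) = [22] ∧
    ([14] : List ℕ).map (h8sW chevD4 [[1], [0, 2, 3]].flatten) = [23] ∧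
    (∀ r ∈ [18, 13, 12, 15, 19, 16], chevD4.IsPosRoot r) ∧
    (∀ r ∈ ([18, 13, 12] : List ℕ).map (h8sW chevD4 [[1]].flatten), chevD4.IsPosRoot r) := by
  decide +kernel

theorem twiinst2_neg : ∀ R ∈ [[12, 13, 18], [15, 16, 19], [17, 20, 21], [22], [23]],
    (R : List ℕ).map (h8sW chevD4 [[1], [0, 2, 3], [1], [0, 2, 3], [1], [0, 2, 3]].flatten) =
      R.map chevD4.neg := by
  decide +kernel

theorem twiinst2_std_chk : ∀ R ∈ d4Std, (R : List ℕ).Nodup ∧ invstdnListChk chevD4 R = true := by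
  decide +kernel

/-- INST2 : products of root elements `x_r(1)` over an orbit of the graph automorphism (positive or negative roots)
lie in `³D₄(q)`, as well as the elements `n_O` -/
theorem d4_mem [Fintype K] [CharP K 2] (q : ℕ) (hq : IsPrimePow q) (hK : Fintype.card K = q ^ 3)
    (hB : H8Base.{u} chevD4) :
    (∀ R ∈ [[12, 13, 18], [14], [15, 16, 19], [17, 20, 21], [22], [23], [11, 10, 5], [9], [8, 7, 4],
        [6, 3, 2], [1], [0], [15, 19, 16], [5, 10, 11]],
      (w1 chevD4 hB R : GL chevD4.Idx K) ∈ twistedD4 K q) ∧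
    (∀ O ∈ d4Orbs, (h8nWU chevD4 hB O : GL chevD4.Idx K) ∈ twistedD4 K q) ∧
    (∀ R ∈ d4Std, (n1 chevD4 hB R : GL chevD4.Idx K) ∈ twistedD4 K q) := by
  have hD : chevD4 ∈ [chevG2, chevB2, chevD4, chevF4, chevE6, chevE7, chevE8] := by simp
  have hA := h8reflAll chevD4 hD
  have hC := h8commAll.{u} chevD4 hD
  have hBN := h8bn_all chevD4 hD
  obtain ⟨hO, hO2⟩ := h8ord_all chevD4 hD
  obtain ⟨f, hf, hfff3, hneg⟩ := h8frob_exists hq 3 (by norm_num) hK
  set G₁ := twistedD4 K q with hG₁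
  -- the elements `n_O`
  have hnO : ∀ O ∈ d4Orbs, (h8nWU chevD4 hB O : GL chevD4.Idx K) ∈ G₁ := by
    intro O hOo
    simp only [d4Orbs, List.mem_cons, List.not_mem_nil, or_false] at hOo
    rcases hOo with rfl | rfl
    · exact h8twD4_nJ hB hC q hneg [⟨1, by decide⟩] (by simp [h8orbsD4])
    · exact h8twD4_nJ hB hC q hneg [⟨0, by decide⟩, ⟨2, by decide⟩, ⟨3, by decide⟩]
        (by simp [h8orbsD4])
  obtain ⟨d1, d2, d3, d4, d5, d6, dpos, dpos'⟩ := twiinst2_data
  have h1q : (1 : K) ^ q = 1 := one_pow q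
  have h1q2 : (1 : K) ^ (q ^ 2) = 1 := one_pow _
  -- the generators at `t = 1`
  have single : ∀ r : ℕ, (w1 chevD4 hB [r] : GL chevD4.Idx K) = h8xU chevD4 hB r 1 := by
    intro r
    rw [w1_cons, w1_nil, mul_one]
  have triple : ∀ a b c : ℕ, (w1 chevD4 hB [a, b, c] : GL chevD4.Idx K) =
      h8xU chevD4 hB a 1 * h8xU chevD4 hB b 1 * h8xU chevD4 hB c 1 := by
    intro a b c
    rw [w1_cons, w1_cons, w1_cons, w1_nil, mul_one, mul_assoc]
  have b14 : (w1 chevD4 hB [14] : GL chevD4.Idx K) ∈ G₁ := by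
    rw [single]
    exact h8twD4_x1 hB q 14 (by simp) 1 h1q
  have b9 : (w1 chevD4 hB [9] : GL chevD4.Idx K) ∈ G₁ := by
    rw [single]
    exact h8twD4_x1 hB q 9 (by simp) 1 h1q
  have b18 : (w1 chevD4 hB [18, 13, 12] : GL chevD4.Idx K) ∈ G₁ := by
    rw [triple]
    have := h8twD4_x3 (K := K) hB q 18 13 12 (by simp) 1
    rwa [h1q, h1q2] at this
  have b5 : (w1 chevD4 hB [5, 10, 11] : GL chevD4.Idx K) ∈ G₁ := by
    rw [triple]
    have := h8twD4_x3 (K := K) hB q 5 10 11 (by simp) 1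
    rwa [h1q, h1q2] at this
  -- the positive orbits
  have c12 : (w1 chevD4 hB [12, 13, 18] : GL chevD4.Idx K) ∈ G₁ := by
    rw [← d1, ← coll_sound chevD4 hB hC hBN hO 20 _ (fun r hr => dpos r (by
      simp only [List.mem_cons, List.not_mem_nil, or_false] at hr ⊢
      tauto))]
    exact b18
  have c15 : (w1 chevD4 hB [15, 16, 19] : GL chevD4.Idx K) ∈ G₁ := by
    rw [← d2, ← coll_sound chevD4 hB hC hBN hO 20 _ dpos']
    exact twiinst2_step hB G₁ hnO [[1]] (by simp [d4Orbs]) [18, 13, 12] (by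
      intro r hr
      simp only [List.mem_cons, List.not_mem_nil, or_false] at hr
      rcases hr with rfl | rfl | rfl <;> norm_num) b18
  have c15' : (w1 chevD4 hB [15, 19, 16] : GL chevD4.Idx K) ∈ G₁ := by
    rw [coll_sound chevD4 hB hC hBN hO 20 _ (fun r hr => dpos r (by
      simp only [List.mem_cons, List.not_mem_nil, or_false] at hr ⊢
      tauto)), d3]
    exact c15
  have c17 : (w1 chevD4 hB [17, 20, 21] : GL chevD4.Idx K) ∈ G₁ := by
    rw [← d4]
    exact twiinst2_step hB G₁ hnO [[0, 2, 3], [1]] (by simp [d4Orbs]) [18, 13, 12] (by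
      intro r hr
      simp only [List.mem_cons, List.not_mem_nil, or_false] at hr
      rcases hr with rfl | rfl | rfl <;> norm_num) b18
  have c22 : (w1 chevD4 hB [22] : GL chevD4.Idx K) ∈ G₁ := by
    rw [← d5]
    exact twiinst2_step hB G₁ hnO [[0, 2, 3]] (by simp [d4Orbs]) [14] (by
      intro r hr
      simp only [List.mem_cons, List.not_mem_nil, or_false] at hr
      subst hr
      norm_num) b14
  have c23 : (w1 chevD4 hB [23] : GL chevD4.Idx K) ∈ G₁ := by
    rw [← d6]
    exact twiinst2_step hB G₁ hnO [[1], [0, 2, 3]] (by simp [d4Orbs]) [14] (by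
      intro r hr
      simp only [List.mem_cons, List.not_mem_nil, or_false] at hr
      subst hr
      norm_num) b14
  -- the negative orbits
  have hnegs : ∀ R ∈ [[12, 13, 18], [15, 16, 19], [17, 20, 21], [22], [23]],
      (w1 chevD4 hB (R : List ℕ) : GL chevD4.Idx K) ∈ G₁ →
      (w1 chevD4 hB (R.map chevD4.neg) : GL chevD4.Idx K) ∈ G₁ := by
    intro R hR hmem
    rw [← twiinst2_neg R hR]
    refine twiinst2_step hB G₁ hnO _ (by simp [d4Orbs]) R ?_ hmem
    intro r hr
    simp only [List.mem_cons, List.not_mem_nil, or_false] at hR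
    rcases hR with rfl | rfl | rfl | rfl | rfl <;>
      simp only [List.mem_cons, List.not_mem_nil, or_false] at hr <;> omega
  have n12 := hnegs [12, 13, 18] (by simp) c12
  have n15 := hnegs [15, 16, 19] (by simp) c15
  have n17 := hnegs [17, 20, 21] (by simp) c17
  have n22 := hnegs [22] (by simp) c22
  have n23 := hnegs [23] (by simp) c23
  have e12 : ([12, 13, 18] : List ℕ).map chevD4.neg = [11, 10, 5] := by decide
  have e15 : ([15, 16, 19] : List ℕ).map chevD4.neg = [8, 7, 4] := by decide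
  have e17 : ([17, 20, 21] : List ℕ).map chevD4.neg = [6, 3, 2] := by decide
  have e22 : ([22] : List ℕ).map chevD4.neg = [1] := by decide
  have e23 : ([23] : List ℕ).map chevD4.neg = [0] := by decide
  rw [e12] at n12
  rw [e15] at n15
  rw [e17] at n17
  rw [e22] at n22
  rw [e23] at n23
  have part1 : ∀ R ∈ [[12, 13, 18], [14], [15, 16, 19], [17, 20, 21], [22], [23], [11, 10, 5], [9],
      [8, 7, 4], [6, 3, 2], [1], [0], [15, 19, 16], [5, 10, 11]],
      (w1 chevD4 hB R : GL chevD4.Idx K) ∈ G₁ := by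
    intro R hR
    simp only [List.mem_cons, List.not_mem_nil, or_false] at hR
    rcases hR with rfl | rfl | rfl | rfl | rfl | rfl | rfl | rfl | rfl | rfl | rfl | rfl | rfl | rfl
    · exact c12
    · exact b14
    · exact c15
    · exact c17
    · exact c22
    · exact c23
    · exact n12
    · exact b9
    · exact n15
    · exact n17
    · exact n22
    · exact n23
    · exact c15'
    · exact b5
  refine ⟨part1, hnO, ?_⟩
  -- the standard involutions
  intro R hR
  obtain ⟨hnd, hchk⟩ := twiinst2_std_chk R hR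
  have hcj := twiinst2_stdc (F := K) chevD4 hD hB R hnd hchk
  have hpos : (w1 chevD4 hB R : GL chevD4.Idx K) ∈ G₁ ∧
      (w1 chevD4 hB (R.map chevD4.neg) : GL chevD4.Idx K) ∈ G₁ := by
    simp only [d4Std, List.mem_cons, List.not_mem_nil, or_false] at hR
    rcases hR with rfl | rfl | rfl
    · constructor
      · have : ([12, 13, 18, 23] : List ℕ) = [12, 13, 18] ++ [23] := rfl
        rw [this, invcoll_w1_append]
        exact Subgroup.mul_mem _ c12 c23
      · have : (([12, 13, 18, 23] : List ℕ).map chevD4.neg) = [11, 10, 5] ++ [0] := by decide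
        rw [this, invcoll_w1_append]
        exact Subgroup.mul_mem _ n12 n23
    · exact ⟨c17, by rw [e17]; exact n17⟩
    · exact ⟨c23, by rw [e23]; exact n23⟩
  have e : (n1 chevD4 hB R : GL chevD4.Idx K) =
      (w1 chevD4 hB (R.map chevD4.neg) : GL chevD4.Idx K)⁻¹ * w1 chevD4 hB R *
        w1 chevD4 hB (R.map chevD4.neg) := by
    rw [← hcj]
    group
  rw [e]
  exact Subgroup.mul_mem _ (Subgroup.mul_mem _ (Subgroup.inv_mem _ hpos.2) hpos.1) hpos.2

end Cfsg.Agent.Lib.helper14.TWI
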