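import Mathlib
import Cfsg.Agent.Lib.helper15.St2
import Cfsg.Agent.Lib.Helper24.STCI1
import Cfsg.Agent.Lib.Helper27.STU.Defs
import Cfsg.Agent.Lib.Helper27.STU.Defs2
import Cfsg.Agent.Lib.Helper24.STUB1
import Cfsg.Agent.Lib.Helper11.STUB3

/-!
# Project STU (designer helper27), row W2 `cj_ws_al` (helper8), VERBATIM (model: `SysC.cj_ws_al`, port of helper6's `STDW1`).
Extra: `stuw2_cj_ws_ka` = the exact statement of W3 `cj_ws_ka` under an own name.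
-/

set_option autoImplicit false

namespace Cfsg.Agent.Lib.Helper27.STU

open Cfsg.Agent.Lib.helper15.St2 Cfsg.Agent.Lib.helper7.St Cfsg.Agent.Lib.helper3.STC

theorem stuw2_ne_ng {ι : Type*} {a b : ι ⊕ ι} (h : a ≠ ng b) : b ≠ ng a :=
  fun e => h (by rw [e, ng_ng])

namespace SysU

variable {F : Type*} [Field F] [StarRing F] {od : Prop} {ι : Type*} {G : Type*} [Group G] (S : SysU F od ι G)

/-- W2 [S-M]  model `SysC.cj_ws_al` (the same proof with `cj3`, `cj_comm_ss`). -/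
theorem cj_ws_al {a b l : ι ⊕ ι} (hab : a ≠ b) (hab' : a ≠ ng b) (hla : l ≠ a) (hla' : l ≠ ng a)
    (hlb : l ≠ b) (hlb' : l ≠ ng b) (u t : F) (hu : u ≠ 0) :
    cj (S.ws a b u) (S.xs a l t) = S.xs b l (-(u⁻¹ * t)) := by
  have c1 : ∀ s : F, cj (S.xs a b u) (S.xs a l s) = S.xs a l s := fun s =>
    S.cj_comm_ss hab hab' hla.symm (stuw2_ne_ng hla') hab.symm hla.symm (stuw2_ne_ng hlb') (ne_ng a) u s
  have c2 : cj (S.xs b a (-u⁻¹)) (S.xs a l t) = S.xs b l (-u⁻¹ * t) * S.xs a l t :=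
    S.cj3 hab.symm (stuw2_ne_ng hab') hla.symm (stuw2_ne_ng hla') hlb.symm (stuw2_ne_ng hlb') _ _
  have c3 : cj (S.xs a b u) (S.xs b l (-u⁻¹ * t)) = S.xs a l (u * (-u⁻¹ * t)) * S.xs b l (-u⁻¹ * t) :=
    S.cj3 hab hab' hlb.symm (stuw2_ne_ng hlb') hla.symm (stuw2_ne_ng hla') _ _
  unfold ws
  rw [← cj_cj, ← cj_cj, c1, c2, cj_mul, c3, c1]
  have e : u * (-u⁻¹ * t) = -t := by
    field_simp
  rw [e, S.comm_ss a l b l hla.symm (stuw2_ne_ng hla') hlb.symm (stuw2_ne_ng hlb') hlb hla.symm (ne_ng l) hab',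
    mul_assoc, S.adds a l hla.symm (stuw2_ne_ng hla'), neg_add_cancel, S.xs_zero hla.symm (stuw2_ne_ng hla'), mul_one, neg_mul]

/-- own-name copy of the statement of W3 `cj_ws_ka` (model `SysC.cj_ws_ka`). -/
theorem stuw2_cj_ws_ka {a b k : ι ⊕ ι} (hab : a ≠ b) (hab' : a ≠ ng b) (hka : k ≠ a) (hka' : k ≠ ng a)
    (hkb : k ≠ b) (hkb' : k ≠ ng b) (u t : F) (hu : u ≠ 0) :
    cj (S.ws a b u) (S.xs k a t) = S.xs k b (-(u * t)) := by
  have s1 : cj (S.xs a b u) (S.xs k a t) = S.xs k b (-(t * u)) * S.xs k a t :=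
    S.cj3' hab hab' hka hka' hkb hkb' u t
  have s2 : cj (S.xs b a (-u⁻¹)) (S.xs k b (-(t * u)) * S.xs k a t) = S.xs k b (-(t * u)) := by
    rw [cj_mul, S.cj3' hab.symm (stuw2_ne_ng hab') hkb hkb' hka hka',
      S.cj_comm_ss hab.symm (stuw2_ne_ng hab') hka hka' hka.symm hab.symm (ne_ng a) (stuw2_ne_ng hkb')]
    have e : -(-(t * u) * -u⁻¹) = -t := by
      field_simp
    rw [e, S.comm_ss k a k b hka hka' hkb hkb' hka.symm hkb hab' (ne_ng k), mul_assoc, S.adds k a hka hka',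
      neg_add_cancel, S.xs_zero hka hka', mul_one]
  have s3 : cj (S.xs a b u) (S.xs k b (-(t * u))) = S.xs k b (-(t * u)) :=
    S.cj_comm_ss hab hab' hkb hkb' hkb.symm hab (ne_ng b) (stuw2_ne_ng hka') _ _
  unfold ws
  rw [← cj_cj, ← cj_cj, s1, s2, s3, mul_comm t u]

end SysU

end Cfsg.Agent.Lib.Helper27.STU
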