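import Mathlib
import Cfsg.Agent.Lib.Helper13.O459.Defs
import Cfsg.Agent.Lib.Helper25.CharLinear
import Cfsg.Agent.Lib.helper23.BRSUMH

/-!
# Project O459 (S1022), piece V4KILL: `v4_false`

A four-group `K` whose three involutions are all conjugate to `y` cannot exist next to an irreducible character `χ` of degree `56`
with `χ y ∈ {18, -20}`: `∑_{k ∈ K} χ k = 56 + 3 χ y ∈ {110, -4}` is not `4 m` with `m ∈ ℕ`.
-/

set_option autoImplicit false
set_option linter.unusedVariables false
set_option linter.unusedSectionVars false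

namespace Cfsg.Agent.Lib.Helper13.O459

open Classical
open Cfsg.Agent.Lib.helper7.BR Cfsg.Agent.Lib.Helper25

universe u

variable {G : Type u} [Group G] [Fintype G]

/-- the sum of a class function over a subgroup all of whose non-trivial elements are conjugate to `y`. -/
theorem o459v4kill_sum (K : Subgroup G) (y : G) (hconj : ∀ k ∈ K, k ≠ 1 → IsConj y k)
    (χ : G → ℂ) (hcf : Cfsg.IsClassFunction G χ) :
    ∑ x : ↥K, χ (x : G) = χ 1 + ((Nat.card ↥K : ℂ) - 1) * χ y := by
  have hval : ∀ x : ↥K, x ≠ 1 → χ (x : G) = χ y := by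
    intro x hx
    have hx' : (x : G) ≠ 1 := fun h => hx (Subtype.ext h)
    obtain ⟨c, hc⟩ := hconj x x.2 hx'
    have : (x : G) = (c : G) * y * (c : G)⁻¹ := by
      have := hc
      unfold SemiconjBy at this
      rw [eq_mul_inv_iff_mul_eq]
      exact this.symm
    rw [this]
    exact hcf y c
  rw [← Finset.add_sum_erase Finset.univ _ (Finset.mem_univ (1 : ↥K))]
  congr 1
  rw [Finset.sum_congr rfl (fun x hx => hval x (Finset.ne_of_mem_erase hx))]
  rw [Finset.sum_const, Finset.card_erase_of_mem (Finset.mem_univ _), Finset.card_univ,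
    nsmul_eq_mul, Nat.card_eq_fintype_card]
  have hpos : 1 ≤ Fintype.card ↥K := Fintype.card_pos
  rw [Nat.cast_sub hpos]
  simp

/-- V4KILL [S-M]: the second alternative of INVOL is impossible for a character of degree 56 with `χ y ∈ {18, -20}`.
(`sum_subgroup_nat` for `K`: `∑_{k ∈ K} χ k = 56 + 3 χ y = 4 m` (class function: `χ k = χ y` for `k ≠ 1`); `56 + 54 = 110` is not divisible by 4 and `56 - 60 = -4 < 0`.) -/
theorem v4_false (K : Subgroup G) (hK : Nat.card ↥K = 4) (y : G) (hyK : y ∈ K)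
    (hconj : ∀ k ∈ K, k ≠ 1 → IsConj y k) (χ : Cfsg.IrrCharacter G)
    (h1 : (χ : G → ℂ) 1 = 56) (hy : (χ : G → ℂ) y = 18 ∨ (χ : G → ℂ) y = -20) : False := by
  have hch : Cfsg.IsCharacter G (χ : G → ℂ) := Cfsg.Agent.Lib.helper2.isCharacter_of_irr χ
  have hcf : Cfsg.IsClassFunction G (χ : G → ℂ) :=
    Cfsg.Agent.Lib.helper2.isCharacter_isClassFunction hch
  obtain ⟨m, hm⟩ := sum_subgroup_nat K (χ : G → ℂ) hch
  rw [o459v4kill_sum K y hconj (χ : G → ℂ) hcf, hK, h1] at hm
  rcases hy with hy | hy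
  · rw [hy] at hm
    have h2 : ((110 : ℕ) : ℂ) = ((4 * m : ℕ) : ℂ) := by
      push_cast at hm ⊢
      rw [← hm]
      norm_num
    have h3 : (110 : ℕ) = 4 * m := by exact_mod_cast h2
    omega
  · rw [hy] at hm
    have h2 : ((4 * m + 4 : ℕ) : ℂ) = ((0 : ℕ) : ℂ) := by
      push_cast at hm ⊢
      rw [← hm]
      norm_num
    have h3 : (4 * m + 4 : ℕ) = 0 := by exact_mod_cast h2
    omega

end Cfsg.Agent.Lib.Helper13.O459
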