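import Mathlib
import Cfsg.Agent.Lib.helper17.SLP.Defs
import Cfsg.Agent.Lib.helper3.SP4.Defs
import Cfsg.Agent.Lib.Helper28.SP4R3
import Cfsg.Agent.Lib.Helper22.SU4.Defs

/-!
# Project SU4 (designer helper22), rows D4 `rd_weylTT`, D6 `rd_rank1T`, D8 `TTT_finite` (helper8), VERBATIM (port of `Helper5.SP4D4`).
-/

set_option autoImplicit false

namespace Cfsg.Agent.Lib.Helper22.SU4

open Cfsg.Agent.Lib.helper17.SLP Cfsg.Agent.Lib.helper3.SP4

universe u v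

section D

variable {F : Type u} {K : Type u} [Field F] [Field K] [Fintype F] [Fintype K] {G : Type v} [Group G]

/-- the generators of `TTT` -/
theorem su4d4_ha_mem {F : Type u} {K : Type u} [Field F] [Field K] {G : Type v} [Group G]
    (φa : Matrix.SpecialLinearGroup (Fin 2) F →* G) (φb : Matrix.SpecialLinearGroup (Fin 2) K →* G) (s : Fˣ) :
    rh φa s ∈ TTT φa φb :=
  Subgroup.subset_closure (Or.inl ⟨s, rfl⟩)

theorem su4d4_hb_mem {F : Type u} {K : Type u} [Field F] [Field K] {G : Type v} [Group G]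
    (φa : Matrix.SpecialLinearGroup (Fin 2) F →* G) (φb : Matrix.SpecialLinearGroup (Fin 2) K →* G) (r : Kˣ) :
    rh φb r ∈ TTT φa φb :=
  Subgroup.subset_closure (Or.inr ⟨r, rfl⟩)

/-- an element that conjugates the generators of `TTT` into `TTT` normalises `TTT` (one side) -/
theorem su4d4_conj {F : Type u} {K : Type u} [Field F] [Field K] {G : Type v} [Group G]
    (φa : Matrix.SpecialLinearGroup (Fin 2) F →* G) (φb : Matrix.SpecialLinearGroup (Fin 2) K →* G) (n : G)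
    (ha : ∀ s : Fˣ, n * rh φa s * n⁻¹ ∈ TTT φa φb) (hb : ∀ r : Kˣ, n * rh φb r * n⁻¹ ∈ TTT φa φb) :
    ∀ τ ∈ TTT φa φb, n * τ * n⁻¹ ∈ TTT φa φb := by
  intro τ hτ
  unfold TTT at hτ
  induction hτ using Subgroup.closure_induction with
  | mem y hy =>
    rcases hy with ⟨s, rfl⟩ | ⟨r, rfl⟩
    · exact ha s
    · exact hb r
  | one =>
    rw [mul_one, mul_inv_cancel]
    exact Subgroup.one_mem _
  | mul x y _ _ hx hy =>
    have : n * (x * y) * n⁻¹ = (n * x * n⁻¹) * (n * y * n⁻¹) := by group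
    rw [this]
    exact Subgroup.mul_mem _ hx hy
  | inv x _ hx =>
    have : n * x⁻¹ * n⁻¹ = (n * x * n⁻¹)⁻¹ := by group
    rw [this]
    exact Subgroup.inv_mem _ hx

/-- D4 [M]  Model SP4 D4 `rd_weylT` (`Helper5.SP4D4`). -/
theorem rd_weylTT (D : Tw F K) (φa : Matrix.SpecialLinearGroup (Fin 2) F →* G)
    (φb : Matrix.SpecialLinearGroup (Fin 2) K →* G) (R : Tor4T D φa φb) :
    (∀ τ ∈ TTT φa φb, rn φa * τ * (rn φa)⁻¹ ∈ TTT φa φb) ∧ (∀ τ ∈ TTT φa φb, rn φb * τ * (rn φb)⁻¹ ∈ TTT φa φb) ∧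
      rn φa ^ 2 ∈ TTT φa φb ∧ rn φb ^ 2 ∈ TTT φa φb := by
  refine ⟨?_, ?_, ?_, ?_⟩
  · apply su4d4_conj
    · intro s
      rw [(r_basic φa).2.2.2.2.2.2.2.2.1 s]
      exact Subgroup.inv_mem _ (su4d4_ha_mem φa φb s)
    · intro r
      rw [R.wa_hb r]
      exact Subgroup.mul_mem _ (su4d4_hb_mem φa φb r) (su4d4_ha_mem φa φb (D.ιu r))
  · apply su4d4_conj
    · intro s
      rw [R.wb_ha s]
      exact Subgroup.mul_mem _ (su4d4_ha_mem φa φb s) (su4d4_hb_mem φa φb (D.nmu s))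
    · intro r
      rw [(r_basic φb).2.2.2.2.2.2.2.2.1 r]
      exact Subgroup.inv_mem _ (su4d4_hb_mem φa φb r)
  · rw [(r_basic φa).2.2.2.2.2.2.2.2.2]
    exact su4d4_ha_mem φa φb (-1)
  · rw [(r_basic φb).2.2.2.2.2.2.2.2.2]
    exact su4d4_hb_mem φa φb (-1)

/-- elements of `RG (rx φ)` are values of `rx φ` -/
theorem su4d6_rg {F : Type u} [Field F] {G : Type v} [Group G]
    (φ : Matrix.SpecialLinearGroup (Fin 2) F →* G) (g : G) (hg : g ∈ RG (rx φ)) : ∃ t, g = rx φ t := by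
  unfold RG at hg
  induction hg using Subgroup.closure_induction with
  | mem y hy =>
    obtain ⟨t, rfl⟩ := hy
    exact ⟨t, rfl⟩
  | one => exact ⟨0, (r_basic φ).2.1.symm⟩
  | mul a b _ _ ha hb =>
    obtain ⟨s, rfl⟩ := ha
    obtain ⟨t, rfl⟩ := hb
    exact ⟨s + t, ((r_basic φ).1 s t).symm⟩
  | inv a _ ha =>
    obtain ⟨s, rfl⟩ := ha
    exact ⟨-s, ((r_basic φ).2.2.1 s).symm⟩

theorem su4d6_rx_mem {F : Type u} [Field F] {G : Type v} [Group G]
    (φ : Matrix.SpecialLinearGroup (Fin 2) F →* G) (t : F) : rx φ t ∈ RG (rx φ) :=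
  Subgroup.subset_closure ⟨t, rfl⟩

/-- D6 [S-M]  Model SP4 D6 `rd_rank1` (`Helper5.SP4D4`). -/
theorem rd_rank1T (φa : Matrix.SpecialLinearGroup (Fin 2) F →* G) (φb : Matrix.SpecialLinearGroup (Fin 2) K →* G) :
    (∀ g ∈ RG (rx φa), g = 1 ∨ ∃ a ∈ RG (rx φa), ∃ τ ∈ TTT φa φb, ∃ a' ∈ RG (rx φa),
        rn φa * g * (rn φa)⁻¹ = a * τ * rn φa * a') ∧
      ∀ g ∈ RG (rx φb), g = 1 ∨ ∃ b ∈ RG (rx φb), ∃ τ ∈ TTT φa φb, ∃ b' ∈ RG (rx φb),
        rn φb * g * (rn φb)⁻¹ = b * τ * rn φb * b' := by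
  constructor
  · intro g hg
    obtain ⟨t, rfl⟩ := su4d6_rg φa g hg
    rcases r_rank1 φa t with h | ⟨s, s', r, h⟩
    · exact Or.inl h
    · exact Or.inr ⟨rx φa s, su4d6_rx_mem φa s, rh φa r, su4d4_ha_mem φa φb r, rx φa s',
        su4d6_rx_mem φa s', h⟩
  · intro g hg
    obtain ⟨t, rfl⟩ := su4d6_rg φb g hg
    rcases r_rank1 φb t with h | ⟨s, s', r, h⟩
    · exact Or.inl h
    · exact Or.inr ⟨rx φb s, su4d6_rx_mem φb s, rh φb r, su4d4_hb_mem φa φb r, rx φb s',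
        su4d6_rx_mem φb s', h⟩

/-- the homomorphism `(s, r) ↦ h_a(s) h_b(r)` -/
noncomputable def su4d8_hom {F : Type u} {K : Type u} [Field F] [Field K] {G : Type v} [Group G]
    (φa : Matrix.SpecialLinearGroup (Fin 2) F →* G) (φb : Matrix.SpecialLinearGroup (Fin 2) K →* G)
    (hcomm : ∀ (s : Fˣ) (r : Kˣ), Commute (rh φa s) (rh φb r)) : Fˣ × Kˣ →* G where
  toFun p := rh φa p.1 * rh φb p.2
  map_one' := by
    show rh φa 1 * rh φb 1 = 1
    rw [(r_basic φa).2.2.2.2.1, (r_basic φb).2.2.2.2.1, one_mul]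
  map_mul' p p' := by
    show rh φa (p.1 * p'.1) * rh φb (p.2 * p'.2) = rh φa p.1 * rh φb p.2 * (rh φa p'.1 * rh φb p'.2)
    rw [(r_basic φa).2.2.2.1, (r_basic φb).2.2.2.1]
    have h := (hcomm p'.1 p.2).eq
    calc rh φa p.1 * rh φa p'.1 * (rh φb p.2 * rh φb p'.2)
        = rh φa p.1 * (rh φa p'.1 * rh φb p.2) * rh φb p'.2 := by simp only [mul_assoc]
      _ = rh φa p.1 * (rh φb p.2 * rh φa p'.1) * rh φb p'.2 := by rw [h]
      _ = _ := by simp only [mul_assoc]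

theorem su4d8_hom_apply {F : Type u} {K : Type u} [Field F] [Field K] {G : Type v} [Group G]
    (φa : Matrix.SpecialLinearGroup (Fin 2) F →* G) (φb : Matrix.SpecialLinearGroup (Fin 2) K →* G)
    (hcomm : ∀ (s : Fˣ) (r : Kˣ), Commute (rh φa s) (rh φb r)) (s : Fˣ) (r : Kˣ) :
    su4d8_hom φa φb hcomm (s, r) = rh φa s * rh φb r := rfl

/-- `TTT` is the range of `su4d8_hom` -/
theorem su4d8_TTT_eq {F : Type u} {K : Type u} [Field F] [Field K] {G : Type v} [Group G]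
    (φa : Matrix.SpecialLinearGroup (Fin 2) F →* G) (φb : Matrix.SpecialLinearGroup (Fin 2) K →* G)
    (hcomm : ∀ (s : Fˣ) (r : Kˣ), Commute (rh φa s) (rh φb r)) :
    TTT φa φb = (su4d8_hom φa φb hcomm).range := by
  apply le_antisymm
  · unfold TTT
    rw [Subgroup.closure_le]
    rintro g (⟨s, rfl⟩ | ⟨r, rfl⟩)
    · refine ⟨(s, 1), ?_⟩
      rw [su4d8_hom_apply, (r_basic φb).2.2.2.2.1, mul_one]
    · refine ⟨(1, r), ?_⟩
      rw [su4d8_hom_apply, (r_basic φa).2.2.2.2.1, one_mul]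
  · rintro g ⟨⟨s, r⟩, rfl⟩
    rw [su4d8_hom_apply]
    exact Subgroup.mul_mem _ (su4d4_ha_mem φa φb s) (su4d4_hb_mem φa φb r)

/-- D8 [S-M]  Model SP4 D8 `TT_finite` (`Helper5.SP4D4`). -/
theorem TTT_finite (D : Tw F K) (φa : Matrix.SpecialLinearGroup (Fin 2) F →* G)
    (φb : Matrix.SpecialLinearGroup (Fin 2) K →* G) (R : Tor4T D φa φb) :
    Finite (TTT φa φb) ∧ ∀ τ ∈ TTT φa φb, ∃ (s : Fˣ) (r : Kˣ), τ = rh φa s * rh φb r := by
  have h := su4d8_TTT_eq φa φb R.comm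
  constructor
  · rw [h]
    have : Finite (Set.range (su4d8_hom φa φb R.comm)) := Set.finite_range _
    exact this
  · intro τ hτ
    rw [h] at hτ
    obtain ⟨⟨s, r⟩, rfl⟩ := hτ
    exact ⟨s, r, rfl⟩

end D

end Cfsg.Agent.Lib.Helper22.SU4
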