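import Mathlib
import Cfsg.Agent.Lib.helper17.SLP.Defs
import Cfsg.Agent.Lib.helper3.SP4.Defs
import Cfsg.Agent.Lib.Helper22.SU4.Defs

/-!
# Project SU4 (designer helper22), row M1 `hypT_M_torus` (helper8), VERBATIM: six 4×4 matrix identities in `SUJ` (port of `Helper10.SP4M1`).
-/

set_option autoImplicit false
set_option linter.unusedSimpArgs false

namespace Cfsg.Agent.Lib.Helper22.SU4

open Cfsg.Agent.Lib.helper17.SLP Cfsg.Agent.Lib.helper3.SP4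

universe u v

section M

variable {F : Type u} {K : Type u} [Field F] [Field K]

theorem su4m1_t1 (D : Tw F K) (ζ : Fˣ) (ζ₀ : Kˣ) :
    rhoAT D (hM ζ) * rhoBT D (hM ζ₀) = rhoBT D (hM ζ₀) * rhoAT D (hM ζ) := by
  apply Subtype.ext
  apply Subtype.ext
  simp only [Subgroup.coe_mul, Matrix.SpecialLinearGroup.coe_mul, rhoAT_coe, rhoBT_coe]
  ext (i | i) (j | j) <;> fin_cases i <;> fin_cases j <;>
    simp [rhoATm, rhoBTm, xM, hM, wM, Matrix.mul_apply, Fintype.sum_sum_type, Fin.sum_univ_two] <;>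
    first | done | ring1

theorem su4m1_t2 (D : Tw F K) (ζ₀ : Kˣ) :
    rhoAT D (xM 1) * rhoBT D (hM ζ₀) = rhoBT D (hM ζ₀) * rhoAT D (xM (D.ι (ζ₀ : K))) := by
  apply Subtype.ext
  apply Subtype.ext
  simp only [Subgroup.coe_mul, Matrix.SpecialLinearGroup.coe_mul, rhoAT_coe, rhoBT_coe]
  ext (i | i) (j | j) <;> fin_cases i <;> fin_cases j <;>
    simp [rhoATm, rhoBTm, xM, hM, wM, Matrix.mul_apply, Fintype.sum_sum_type, Fin.sum_univ_two, D.σ_ι]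

theorem su4m1_t3 (D : Tw F K) (ζ : Fˣ) :
    rhoBT D (xM 1) * rhoAT D (hM ζ) = rhoAT D (hM ζ) * rhoBT D (xM ((D.nmu ζ : Kˣ) : K)) := by
  apply Subtype.ext
  apply Subtype.ext
  simp only [Subgroup.coe_mul, Matrix.SpecialLinearGroup.coe_mul, rhoAT_coe, rhoBT_coe]
  ext (i | i) (j | j) <;> fin_cases i <;> fin_cases j <;>
    simp [rhoATm, rhoBTm, xM, hM, wM, Matrix.mul_apply, Fintype.sum_sum_type, Fin.sum_univ_two, D.σ_ι,
      Tw.nmu_coe, D.hnm]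

theorem su4m1_n4 (D : Tw F K) (ζ₀ : Kˣ) :
    rhoAT D wM * rhoBT D (hM ζ₀) = rhoBT D (hM ζ₀) * rhoAT D (hM (D.ιu ζ₀)) * rhoAT D wM := by
  apply Subtype.ext
  apply Subtype.ext
  simp only [Subgroup.coe_mul, Matrix.SpecialLinearGroup.coe_mul, rhoAT_coe, rhoBT_coe]
  ext (i | i) (j | j) <;> fin_cases i <;> fin_cases j <;>
    simp [rhoATm, rhoBTm, xM, hM, wM, Matrix.mul_apply, Fintype.sum_sum_type, Fin.sum_univ_two, D.σ_ι,
      Tw.ιu_coe]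

theorem su4m1_n5 (D : Tw F K) (ζ : Fˣ) :
    rhoBT D wM * rhoAT D (hM ζ) = rhoAT D (hM ζ) * rhoBT D (hM (D.nmu ζ)) * rhoBT D wM := by
  apply Subtype.ext
  apply Subtype.ext
  simp only [Subgroup.coe_mul, Matrix.SpecialLinearGroup.coe_mul, rhoAT_coe, rhoBT_coe]
  ext (i | i) (j | j) <;> fin_cases i <;> fin_cases j <;>
    simp [rhoATm, rhoBTm, xM, hM, wM, Matrix.mul_apply, Fintype.sum_sum_type, Fin.sum_univ_two, D.σ_ι,
      Tw.nmu_coe, D.hnm]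

theorem su4m1_n6 (D : Tw F K) :
    rhoAT D wM * rhoBT D wM * rhoAT D wM * rhoBT D wM = rhoBT D wM * rhoAT D wM * rhoBT D wM * rhoAT D wM := by
  apply Subtype.ext
  apply Subtype.ext
  simp only [Subgroup.coe_mul, Matrix.SpecialLinearGroup.coe_mul, rhoAT_coe, rhoBT_coe]
  ext (i | i) (j | j) <;> fin_cases i <;> fin_cases j <;>
    simp [rhoATm, rhoBTm, xM, hM, wM, Matrix.mul_apply, Fintype.sum_sum_type, Fin.sum_univ_two]

/-- M1 [M]  Model SP4 M1 `hyp_M_torus` (`Helper10.SP4M1`). -/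
theorem hypT_M_torus (D : Tw F K) (ζ : Fˣ) (ζ₀ : Kˣ) (hn : D.nmu ζ = ζ₀) :
    Commute (rh (rhoAT D) ζ) (rh (rhoBT D) ζ₀) ∧
      (rh (rhoBT D) ζ₀)⁻¹ * rx (rhoAT D) 1 * rh (rhoBT D) ζ₀ = rx (rhoAT D) (D.ι (ζ₀ : K)) ∧
      (rh (rhoAT D) ζ)⁻¹ * rx (rhoBT D) 1 * rh (rhoAT D) ζ = rx (rhoBT D) (ζ₀ : K) ∧
      rn (rhoAT D) * rh (rhoBT D) ζ₀ * (rn (rhoAT D))⁻¹ = rh (rhoBT D) ζ₀ * rh (rhoAT D) (D.ιu ζ₀) ∧
      rn (rhoBT D) * rh (rhoAT D) ζ * (rn (rhoBT D))⁻¹ = rh (rhoAT D) ζ * rh (rhoBT D) ζ₀ ∧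
      rn (rhoAT D) * rn (rhoBT D) * rn (rhoAT D) * rn (rhoBT D) =
        rn (rhoBT D) * rn (rhoAT D) * rn (rhoBT D) * rn (rhoAT D) := by
  subst hn
  unfold rh rx rn
  refine ⟨su4m1_t1 D ζ (D.nmu ζ), ?_, ?_, ?_, ?_, su4m1_n6 D⟩
  · rw [mul_assoc, inv_mul_eq_iff_eq_mul]
    exact su4m1_t2 D (D.nmu ζ)
  · rw [mul_assoc, inv_mul_eq_iff_eq_mul]
    exact su4m1_t3 D ζ
  · rw [mul_inv_eq_iff_eq_mul]
    exact su4m1_n4 D (D.nmu ζ)
  · rw [mul_inv_eq_iff_eq_mul]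
    exact su4m1_n5 D ζ

end M

end Cfsg.Agent.Lib.Helper22.SU4
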