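import Mathlib
import Cfsg.Agent.Lib.helper17.SLP.Defs
import Cfsg.Agent.Lib.helper3.SP4.Defs
import Cfsg.Agent.Lib.Helper22.SU4.Defs
import Cfsg.Agent.Lib.Helper27.STU.Defs
import Cfsg.Agent.Lib.Helper27.STU.Defs3
import Cfsg.Agent.Lib.Helper19.SU5.Defs
import Cfsg.Prelude.Def_Classical
import Cfsg.Agent.Lib.helper17.SP4Kit

/-!
# Project SU5 (designer helper19), rows T1 `tor_commU`, T2 `act_abU`, T3 `wa_hbU` (helper8), verbatim.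
On helper17's `SP4Kit`.  Extras `su5t1_*`.
-/

set_option autoImplicit false

namespace Cfsg.Agent.Lib.Helper19.SU5

open Cfsg.Agent.Lib.helper17.SLP Cfsg.Agent.Lib.helper3.SP4 Cfsg.Agent.Lib.Helper22.SU4
open Cfsg.Agent.Lib.Helper27.STU (Lam XpM XmM XpS XmS SUm XpU XmU)

universe u v

section T

variable {F : Type u} {K : Type u} [Field F] [Field K] [StarRing F] [Fintype F] [Fintype K] {D : Tw F K}
  {G : Type v} [Group G]

omit [Fintype F] [Fintype K] in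
theorem su5t1_hbF_mul (P : RO D) (φb : ↥(SUm F True) →* G) (r s : Fˣ) :
    hbF P φb (r * s) = hbF P φb r * hbF P φb s := by
  unfold hbF
  rw [map_mul, map_mul]

omit [Fintype F] [Fintype K] in
theorem su5t1_hbF_one (P : RO D) (φb : ↥(SUm F True) →* G) : hbF P φb 1 = 1 := by
  unfold hbF
  rw [map_one, map_one]

omit [Fintype F] [Fintype K] in
theorem su5t1_hbF_inv (P : RO D) (φb : ↥(SUm F True) →* G) (r : Fˣ) :
    hbF P φb r⁻¹ = (hbF P φb r)⁻¹ := by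
  unfold hbF
  rw [map_inv, map_inv]

omit [Fintype F] [Fintype K] in
theorem su5t1_hbF_zpow (P : RO D) (φb : ↥(SUm F True) →* G) (r : Fˣ) (i : ℤ) :
    hbF P φb (r ^ i) = hbF P φb r ^ i := by
  unfold hbF
  rw [map_zpow, map_zpow]

set_option linter.unusedSectionVars false in
/-- T1 [S-M]  Model SU4 T1 `tor_commT`: `s = ζ^i`, `r = ζ^j` (`P.hζ`), `rh φa (ζ^i) = rh φa ζ ^ i` (SP4 `r_basic`), `hbF P φb (ζ^j) = hbF P φb ζ ^ j` (T0), `Commute.zpow_zpow` of `H.U1`. -/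
theorem tor_commU (P : RO D) (φa : Matrix.SpecialLinearGroup (Fin 2) F →* G) (φb : ↥(SUm F True) →* G)
    (H : HypU P φa φb) : ∀ s r : Fˣ, Commute (rh φa s) (hbF P φb r) := by
  intro s r
  obtain ⟨i, hi⟩ := Subgroup.mem_zpowers_iff.mp (P.hζ s)
  obtain ⟨j, hj⟩ := Subgroup.mem_zpowers_iff.mp (P.hζ r)
  rw [← hi, ← hj, sp4kit_rh_zpow, su5t1_hbF_zpow]
  exact Commute.zpow_zpow H.U1 i j

/-- T2 at the generator: `Act (h_b(ζ)) x_a ζ⁻¹`. -/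
theorem su5t1_gen (P : RO D) (φa : Matrix.SpecialLinearGroup (Fin 2) F →* G) (φb : ↥(SUm F True) →* G)
    (H : HypU P φa φb) : Act (hbF P φb P.ζ) (rx φa) ((P.ζ⁻¹ : Fˣ) : F) := by
  have hcomm := tor_commU P φa φb H
  apply sp4kit_act_span (rx φa) (rx φa) (sp4kit_rx_add φa) (sp4kit_rx_add φa) _ _ _
    (sp4kit_sq_span (F := F))
  rintro t ⟨s, rfl⟩
  show hbF P φb P.ζ * rx φa ((s : F) ^ 2) * (hbF P φb P.ζ)⁻¹ = rx φa (((P.ζ⁻¹ : Fˣ) : F) * (s : F) ^ 2)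
  have e1 : rx φa ((s : F) ^ 2) = rh φa s * rx φa 1 * (rh φa s)⁻¹ := by
    rw [sp4kit_rh_act φa s 1, mul_one]
  have e2 : rx φa (((P.ζ⁻¹ : Fˣ) : F) * (s : F) ^ 2) =
      rh φa s * rx φa ((P.ζ⁻¹ : Fˣ) : F) * (rh φa s)⁻¹ := by
    rw [sp4kit_rh_act φa s ((P.ζ⁻¹ : Fˣ) : F), mul_comm]
  have hc : Commute (rh φa s) (hbF P φb P.ζ) := hcomm s P.ζ
  rw [e1, e2, ← H.U2]
  calc hbF P φb P.ζ * (rh φa s * rx φa 1 * (rh φa s)⁻¹) * (hbF P φb P.ζ)⁻¹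
      = (hbF P φb P.ζ * rh φa s) * rx φa 1 * (hbF P φb P.ζ * rh φa s)⁻¹ := by group
    _ = (rh φa s * hbF P φb P.ζ) * rx φa 1 * (rh φa s * hbF P φb P.ζ)⁻¹ := by rw [hc.eq]
    _ = rh φa s * (hbF P φb P.ζ * rx φa 1 * (hbF P φb P.ζ)⁻¹) * (rh φa s)⁻¹ := by group

/-- T2 [M]  deps T1 + SP4 `sq_span act_span r_basic act_inv act_mul`.  Model SU4 T5 `act_abT`.  `g := h_b(ζ)`; for a square `t = s²`: `x_a(s²) = h_a(s) x_a(1) h_a(s)⁻¹`, `g` commutes with `h_a(s)`,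
`g x_a(1) g⁻¹ = x_a(ζ⁻¹)` (`H.U2`): `g x_a(s²) g⁻¹ = x_a(ζ⁻¹ s²)`; `act_span` (`c = ζ⁻¹`): `Act (h_b ζ) x_a ζ⁻¹`; `zpow`s (`r = ζ^j`). -/
theorem act_abU (P : RO D) (φa : Matrix.SpecialLinearGroup (Fin 2) F →* G) (φb : ↥(SUm F True) →* G)
    (H : HypU P φa φb) : ∀ r : Fˣ, Act (hbF P φb r) (rx φa) ((r⁻¹ : Fˣ) : F) := by
  intro r
  obtain ⟨j, hj⟩ := Subgroup.mem_zpowers_iff.mp (P.hζ r)
  have hne : ((P.ζ⁻¹ : Fˣ) : F) ≠ 0 := Units.ne_zero _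
  have h := sp4kit_act_zpow _ _ _ hne (su5t1_gen P φa φb H) j
  rw [← hj, su5t1_hbF_zpow]
  refine sp4kit_act_congr _ _ _ _ ?_ h
  rw [← Units.val_zpow_eq_zpow_val, inv_zpow']
  congr 1
  rw [zpow_neg]

set_option linter.unusedSectionVars false in
/-- T3 [S-M]  deps T1 + `r_basic`.  `r = ζ^j`: `H.U4` gives `w_a h_b(ζ)^j w_a⁻¹ = (h_a(ζ) h_b(ζ))^j = h_a(ζ^j) h_b(ζ^j)` (commuting, `mul_zpow`).  The `w_a⁻¹` version: `w⁻¹ g w = w⁻² (w g w⁻¹) w²`, `w_a² = h_a(-1)` commutes with `h_a`, `h_b`. -/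
theorem wa_hbU (P : RO D) (φa : Matrix.SpecialLinearGroup (Fin 2) F →* G) (φb : ↥(SUm F True) →* G)
    (H : HypU P φa φb) :
    (∀ r : Fˣ, rn φa * hbF P φb r * (rn φa)⁻¹ = rh φa r * hbF P φb r) ∧
      ∀ r : Fˣ, (rn φa)⁻¹ * hbF P φb r * rn φa = rh φa r * hbF P φb r := by
  have hcomm := tor_commU P φa φb H
  have h1 : ∀ r : Fˣ, rn φa * hbF P φb r * (rn φa)⁻¹ = rh φa r * hbF P φb r := by
    intro r
    obtain ⟨j, hj⟩ := Subgroup.mem_zpowers_iff.mp (P.hζ r)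
    rw [← hj, su5t1_hbF_zpow, sp4kit_rh_zpow, ← (hcomm P.ζ P.ζ).mul_zpow, ← H.U4]
    have : ∀ (w g : G) (i : ℤ), w * g ^ i * w⁻¹ = (w * g * w⁻¹) ^ i := by
      intro w g i
      have := map_zpow (MulAut.conj w) g i
      simpa [MulAut.conj_apply] using this
    exact this _ _ _
  refine ⟨h1, ?_⟩
  intro r
  have hsq : rn φa ^ 2 = rh φa (-1) := sp4kit_rn_sq φa
  have hc1 : Commute (rh φa (-1)) (rh φa r) := by
    show rh φa (-1) * rh φa r = rh φa r * rh φa (-1)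
    rw [← sp4kit_rh_mul, ← sp4kit_rh_mul, mul_comm]
  have hc2 : Commute (rh φa (-1)) (hbF P φb r) := hcomm (-1) r
  have hc : Commute (rn φa ^ 2) (rh φa r * hbF P φb r) := by
    rw [hsq]
    exact hc1.mul_right hc2
  calc (rn φa)⁻¹ * hbF P φb r * rn φa
      = (rn φa ^ 2)⁻¹ * (rn φa * hbF P φb r * (rn φa)⁻¹) * rn φa ^ 2 := by group
    _ = (rn φa ^ 2)⁻¹ * (rh φa r * hbF P φb r) * rn φa ^ 2 := by rw [h1]
    _ = (rn φa ^ 2)⁻¹ * (rn φa ^ 2 * (rh φa r * hbF P φb r)) := by rw [hc.eq, mul_assoc]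
    _ = rh φa r * hbF P φb r := by group

end T

end Cfsg.Agent.Lib.Helper19.SU5
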