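import Mathlib
import Cfsg.Agent.Lib.helper17.SLP.Defs
import Cfsg.Agent.Lib.helper3.SP4.Defs
import Cfsg.Agent.Lib.Helper22.SU4.Defs
import Cfsg.Agent.Lib.helper15.SU4C3
import Cfsg.Agent.Lib.Helper22.SU4C6
import Cfsg.Agent.Lib.Helper22.SU4C7

/-!
# Project SU4 (designer helper22), row C8 `comm4T` (helper8): CORE on the conclusion of C4 `comm_bdT` and the statement of C5 `comm_cd_bcT`
(C3, C6, C7 are cited from main).
-/

set_option autoImplicit false

namespace Cfsg.Agent.Lib.Helper22.SU4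

open Cfsg.Agent.Lib.helper17.SLP Cfsg.Agent.Lib.helper3.SP4

universe u v

section C

variable {F : Type u} {K : Type u} [Field F] [Field K] [Fintype F] [Fintype K] {G : Type v} [Group G]

/-- C8 core: `hC4` = the conclusion of C4; `hC5` = the statement of C5 as an implication. -/
theorem su4c8_core (D : Tw F K) (hFK : Fintype.card F = Fintype.card K ^ 2) (ζ : Fˣ)
    (hζ : ∀ y : Fˣ, y ∈ Subgroup.zpowers ζ) (ζ₀ : Kˣ) (φa : Matrix.SpecialLinearGroup (Fin 2) F →* G)
    (φb : Matrix.SpecialLinearGroup (Fin 2) K →* G) (H : HypT D ζ ζ₀ φa φb) (R : Tor4T D φa φb)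
    (hC4 : ∀ u u', Commute (rx φb u) (xdT φa φb u'))
    (hC5 : (∀ t u, Commute (rx φa t) (xdT φa φb u)) →
      (∀ t u, Commute (xcT φa φb t) (xdT φa φb u)) ∧ (∀ u t, Commute (rx φb u) (xcT φa φb t))) :
    Comm4T D φa φb := by
  have had := comm_adT D ζ ζ₀ φa φb H R
  obtain ⟨hcd, hbc⟩ := hC5 had
  have hac := cm_acT D hFK ζ hζ ζ₀ φa φb H R had hcd
  have hab := cm_abT D ζ ζ₀ φa φb H R had hC4 hcd hbc hac
  exact
    { ad := had
      bd := hC4
      cd := hcd
      bc := hbc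
      ac := hac
      ab := hab }

end C

end Cfsg.Agent.Lib.Helper22.SU4
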