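import Mathlib
import Cfsg.Agent.Lib.helper8.SU4C8core
import Cfsg.Agent.Lib.Helper5.SU4C4

/-!
# Project SU4 (designer helper22), row C8 `comm4T` (helper8), VERBATIM: `su4c8_core` applied to the landed rows C4 C5 (`Helper5.SU4C4`).
-/

set_option autoImplicit false

namespace Cfsg.Agent.Lib.Helper22.SU4

open Cfsg.Agent.Lib.helper17.SLP Cfsg.Agent.Lib.helper3.SP4

universe u v

section C

variable {F : Type u} {K : Type u} [Field F] [Field K] [Fintype F] [Fintype K] {G : Type v} [Group G]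

/-- C8 [S]  deps C3–C7 F4. -/
theorem comm4T (D : Tw F K) (hFK : Fintype.card F = Fintype.card K ^ 2) (ζ : Fˣ)
    (hζ : ∀ y : Fˣ, y ∈ Subgroup.zpowers ζ) (ζ₀ : Kˣ) (φa : Matrix.SpecialLinearGroup (Fin 2) F →* G)
    (φb : Matrix.SpecialLinearGroup (Fin 2) K →* G) (H : HypT D ζ ζ₀ φa φb) (R : Tor4T D φa φb)
    (W : Wact4T D φa φb) : Comm4T D φa φb :=
  su4c8_core D hFK ζ hζ ζ₀ φa φb H R (comm_bdT D ζ ζ₀ φa φb H R) (fun had => comm_cd_bcT D φa φb W had)

end C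

end Cfsg.Agent.Lib.Helper22.SU4
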