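import Mathlib
import Cfsg.Agent.Lib.helper17.SLP.Defs
import Cfsg.Agent.Lib.helper3.SP4.Defs
import Cfsg.Agent.Lib.Helper28.SP4R3
import Cfsg.Agent.Lib.Helper22.SU4.Defs

/-!
# Project SU4 (designer helper22), row T2 `tor_weylT` (helper8), VERBATIM (model SP4 T2, `Helper20.SP4T1core`).
Own-name copy `su4t2_tor_comm` of the statement of T1 `tor_commT` inside.
-/

set_option autoImplicit false

namespace Cfsg.Agent.Lib.Helper22.SU4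

open Cfsg.Agent.Lib.helper17.SLP Cfsg.Agent.Lib.helper3.SP4

universe u v w

section T

variable {F : Type u} {K : Type u} [Field F] [Field K] [Fintype F] [Fintype K] {G : Type v} [Group G]

omit [Fintype F] [Fintype K] in
/-- own-name copy of T1 `tor_commT` (without the finiteness instances). -/
theorem su4t2_tor_comm (D : Tw F K) (ζ : Fˣ) (hζ : ∀ y : Fˣ, y ∈ Subgroup.zpowers ζ) (ζ₀ : Kˣ)
    (hζ₀ : ∀ y : Kˣ, y ∈ Subgroup.zpowers ζ₀) (φa : Matrix.SpecialLinearGroup (Fin 2) F →* G)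
    (φb : Matrix.SpecialLinearGroup (Fin 2) K →* G) (H : HypT D ζ ζ₀ φa φb) :
    ∀ (s : Fˣ) (r : Kˣ), Commute (rh φa s) (rh φb r) := by
  intro s r
  obtain ⟨i, rfl⟩ := Subgroup.mem_zpowers_iff.mp (hζ s)
  obtain ⟨j, rfl⟩ := Subgroup.mem_zpowers_iff.mp (hζ₀ r)
  obtain ⟨-, -, -, -, -, -, hza, -⟩ := r_basic φa
  obtain ⟨-, -, -, -, -, -, hzb, -⟩ := r_basic φb
  rw [hza, hzb]
  exact H.T1.zpow_zpow i j

omit [Fintype F] [Fintype K] in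
/-- T2 without the finiteness instances. -/
theorem su4t2_core (D : Tw F K) (ζ : Fˣ) (hζ : ∀ y : Fˣ, y ∈ Subgroup.zpowers ζ) (ζ₀ : Kˣ)
    (hζ₀ : ∀ y : Kˣ, y ∈ Subgroup.zpowers ζ₀) (hn : D.nmu ζ = ζ₀)
    (φa : Matrix.SpecialLinearGroup (Fin 2) F →* G) (φb : Matrix.SpecialLinearGroup (Fin 2) K →* G)
    (H : HypT D ζ ζ₀ φa φb) :
    (∀ r : Kˣ, rn φa * rh φb r * (rn φa)⁻¹ = rh φb r * rh φa (D.ιu r)) ∧
      (∀ s : Fˣ, rn φb * rh φa s * (rn φb)⁻¹ = rh φa s * rh φb (D.nmu s)) ∧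
      (∀ r : Kˣ, (rn φa)⁻¹ * rh φb r * rn φa = rh φb r * rh φa (D.ιu r)) ∧
      (∀ s : Fˣ, (rn φb)⁻¹ * rh φa s * rn φb = rh φa s * rh φb (D.nmu s)) := by
  have hT1 := su4t2_tor_comm D ζ hζ ζ₀ hζ₀ φa φb H
  obtain ⟨-, -, -, -, -, -, hza, -, hwa, -⟩ := r_basic φa
  obtain ⟨-, -, -, -, -, -, hzb, -, hwb, -⟩ := r_basic φb
  have h1 : ∀ r : Kˣ, rn φa * rh φb r * (rn φa)⁻¹ = rh φb r * rh φa (D.ιu r) := by
    intro r
    obtain ⟨j, rfl⟩ := Subgroup.mem_zpowers_iff.mp (hζ₀ r)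
    rw [map_zpow, hza, hzb, ← conj_zpow, H.N4]
    exact (hT1 (D.ιu ζ₀) ζ₀).symm.mul_zpow j
  have h2 : ∀ s : Fˣ, rn φb * rh φa s * (rn φb)⁻¹ = rh φa s * rh φb (D.nmu s) := by
    intro s
    obtain ⟨i, rfl⟩ := Subgroup.mem_zpowers_iff.mp (hζ s)
    rw [map_zpow, hn, hza, hzb, ← conj_zpow, H.N5]
    exact (hT1 ζ ζ₀).mul_zpow i
  refine ⟨h1, h2, ?_, ?_⟩
  · intro r
    have h3 : rn φa * (rh φb r * rh φa (D.ιu r)) * (rn φa)⁻¹ = rh φb r := by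
      calc rn φa * (rh φb r * rh φa (D.ιu r)) * (rn φa)⁻¹
          = (rn φa * rh φb r * (rn φa)⁻¹) * (rn φa * rh φa (D.ιu r) * (rn φa)⁻¹) := by group
        _ = rh φb r * rh φa (D.ιu r) * (rh φa (D.ιu r))⁻¹ := by rw [h1, hwa]
        _ = rh φb r := by group
    conv_lhs => rw [← h3]
    group
  · intro s
    have h4 : rn φb * (rh φa s * rh φb (D.nmu s)) * (rn φb)⁻¹ = rh φa s := by
      calc rn φb * (rh φa s * rh φb (D.nmu s)) * (rn φb)⁻¹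
          = (rn φb * rh φa s * (rn φb)⁻¹) * (rn φb * rh φb (D.nmu s) * (rn φb)⁻¹) := by group
        _ = rh φa s * rh φb (D.nmu s) * (rh φb (D.nmu s))⁻¹ := by rw [h2, hwb]
        _ = rh φa s := by group
    conv_lhs => rw [← h4]
    group

/-- T2 [M]  deps T1 + `r_basic`.  Model SP4 T2 `tor_weyl` (`Helper20.SP4T1`). -/
theorem tor_weylT (D : Tw F K) (ζ : Fˣ) (hζ : ∀ y : Fˣ, y ∈ Subgroup.zpowers ζ) (ζ₀ : Kˣ)
    (hζ₀ : ∀ y : Kˣ, y ∈ Subgroup.zpowers ζ₀) (hn : D.nmu ζ = ζ₀)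
    (φa : Matrix.SpecialLinearGroup (Fin 2) F →* G) (φb : Matrix.SpecialLinearGroup (Fin 2) K →* G)
    (H : HypT D ζ ζ₀ φa φb) :
    (∀ r : Kˣ, rn φa * rh φb r * (rn φa)⁻¹ = rh φb r * rh φa (D.ιu r)) ∧
      (∀ s : Fˣ, rn φb * rh φa s * (rn φb)⁻¹ = rh φa s * rh φb (D.nmu s)) ∧
      (∀ r : Kˣ, (rn φa)⁻¹ * rh φb r * rn φa = rh φb r * rh φa (D.ιu r)) ∧
      (∀ s : Fˣ, (rn φb)⁻¹ * rh φa s * rn φb = rh φa s * rh φb (D.nmu s)) :=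
  su4t2_core D ζ hζ ζ₀ hζ₀ hn φa φb H

end T

end Cfsg.Agent.Lib.Helper22.SU4
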