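import Mathlib
import Cfsg.Agent.Lib.helper17.SLP.Defs
import Cfsg.Agent.Lib.helper3.SP4.Defs
import Cfsg.Agent.Lib.Helper28.SP4R3
import Cfsg.Agent.Lib.Helper22.SU4.Defs
import Cfsg.Agent.Lib.helper8.SU4T2

/-!
# Project SU4 (designer helper22), row T8 `tor4T` (helper8): CORE on the conclusions of T5 `act_abT`, T6 `act_baT` and the statement of T7 `act_cdT`
(T1, T2 from `helper8.SU4T2`, `aa`, `bb` from `r_basic`).
-/

set_option autoImplicit false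

namespace Cfsg.Agent.Lib.Helper22.SU4

open Cfsg.Agent.Lib.helper17.SLP Cfsg.Agent.Lib.helper3.SP4

universe u v w

section T

variable {F : Type u} {K : Type u} [Field F] [Field K] {G : Type v} [Group G]

/-- T8 core: `hT5`, `hT6` = the conclusions of T5, T6; `hT7` = the statement of T7 at `D φa φb`. -/
theorem su4t8_core (D : Tw F K) (ζ : Fˣ) (hζ : ∀ y : Fˣ, y ∈ Subgroup.zpowers ζ) (ζ₀ : Kˣ)
    (hζ₀ : ∀ y : Kˣ, y ∈ Subgroup.zpowers ζ₀) (hn : D.nmu ζ = ζ₀)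
    (φa : Matrix.SpecialLinearGroup (Fin 2) F →* G) (φb : Matrix.SpecialLinearGroup (Fin 2) K →* G)
    (H : HypT D ζ ζ₀ φa φb)
    (hT5 : ∀ r : Kˣ, Act (rh φb r) (rx φa) (D.ι ((r⁻¹ : Kˣ) : K)))
    (hT6 : ∀ s : Fˣ, Act (rh φa s) (rx φb) (((D.nmu s)⁻¹ : Kˣ) : K))
    (hT7 : (∀ r : Kˣ, rn φa * rh φb r * (rn φa)⁻¹ = rh φb r * rh φa (D.ιu r)) →
      (∀ s : Fˣ, rn φb * rh φa s * (rn φb)⁻¹ = rh φa s * rh φb (D.nmu s)) →
      (∀ r : Kˣ, Act (rh φb r) (rx φa) (D.ι ((r⁻¹ : Kˣ) : K))) →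
      (∀ s : Fˣ, Act (rh φa s) (rx φb) (((D.nmu s)⁻¹ : Kˣ) : K)) →
      (∀ s : Fˣ, Act (rh φa s) (xcT φa φb) ((s : F) * D.σ ((s⁻¹ : Fˣ) : F))) ∧
        (∀ r : Kˣ, Act (rh φb r) (xcT φa φb) (D.ι (r : K))) ∧
        (∀ s : Fˣ, Act (rh φa s) (xdT φa φb) (D.nm (s : F))) ∧ (∀ r : Kˣ, Act (rh φb r) (xdT φa φb) 1)) :
    Tor4T D φa φb := by
  obtain ⟨h1, h2, h3, h4⟩ := su4t2_core D ζ hζ ζ₀ hζ₀ hn φa φb H
  obtain ⟨hca, hcb, hda, hdb⟩ := hT7 h1 h2 hT5 hT6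
  obtain ⟨-, -, -, -, -, -, -, haa, -, -⟩ := r_basic φa
  obtain ⟨-, -, -, -, -, -, -, hbb, -, -⟩ := r_basic φb
  exact
    { comm := su4t2_tor_comm D ζ hζ ζ₀ hζ₀ φa φb H
      wa_hb := h1
      wb_ha := h2
      wa_hb' := h3
      wb_ha' := h4
      aa := haa
      ab := hT5
      ba := hT6
      bb := hbb
      ca := hca
      cb := hcb
      da := hda
      db := hdb }

end T

end Cfsg.Agent.Lib.Helper22.SU4
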