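import Mathlib
import Cfsg.Agent.Lib.helper8.SU4T8core
import Cfsg.Agent.Lib.Helper5.SU4T5
import Cfsg.Agent.Lib.helper15.SU4T7

/-!
# Project SU4 (designer helper22), row T8 `tor4T` (helper8), VERBATIM: `su4t8_core` applied to the landed rows T5 T6 (`Helper5.SU4T5`), T7 (`helper15.SU4T7`).
-/

set_option autoImplicit false

namespace Cfsg.Agent.Lib.Helper22.SU4

open Cfsg.Agent.Lib.helper17.SLP Cfsg.Agent.Lib.helper3.SP4

universe u v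

section T

variable {F : Type u} {K : Type u} [Field F] [Field K] [Fintype F] [Fintype K] {G : Type v} [Group G]

/-- T8 [S]  deps T1 T2 T5 T6 T7 + `r_basic` (`aa`, `bb`). -/
theorem tor4T (D : Tw F K) (ζ : Fˣ) (hζ : ∀ y : Fˣ, y ∈ Subgroup.zpowers ζ) (ζ₀ : Kˣ)
    (hζ₀ : ∀ y : Kˣ, y ∈ Subgroup.zpowers ζ₀) (hn : D.nmu ζ = ζ₀)
    (φa : Matrix.SpecialLinearGroup (Fin 2) F →* G) (φb : Matrix.SpecialLinearGroup (Fin 2) K →* G)
    (H : HypT D ζ ζ₀ φa φb) : Tor4T D φa φb :=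
  su4t8_core D ζ hζ ζ₀ hζ₀ hn φa φb H (act_abT D ζ hζ ζ₀ hζ₀ φa φb H) (act_baT D ζ hζ ζ₀ hζ₀ hn φa φb H)
    (fun hwa hwb hab hba => act_cdT D φa φb hwa hwb hab hba)

end T

end Cfsg.Agent.Lib.Helper22.SU4
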