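import Mathlib
import Cfsg.Agent.Lib.helper17.SLP.Defs
import Cfsg.Agent.Lib.helper3.SP4.Defs
import Cfsg.Agent.Lib.helper17.SP4Kit
import Cfsg.Agent.Lib.Helper22.SU4.Defs

/-!
# Project SU4 (designer helper22), row W2 `wact_acT` (helper8), VERBATIM (model SP4 W2, `helper17.SP4W2`).
Own-name copies inside: `su4w2_conj_span` (= the statement of T0 `conj_spanT`), `su4w2_iota_nmu`, `su4w2_nmu_iota`, `su4w2_nmu_sigma` (parts of F0 `tw_basicT`).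
-/

set_option autoImplicit false

namespace Cfsg.Agent.Lib.Helper22.SU4

open Cfsg.Agent.Lib.helper17.SLP Cfsg.Agent.Lib.helper3.SP4

universe u v w

/-- own-name copy of the statement of T0 `conj_spanT`. -/
theorem su4w2_conj_span {A : Type*} {B : Type*} [AddGroup A] [AddGroup B] {G : Type*} [Group G] (X : A → G) (X' : B → G)
    (hX : ∀ s t, X (s + t) = X s * X t) (hX' : ∀ s t, X' (s + t) = X' s * X' t) (g : G) (f : A →+ B)
    (S : Set A) (hS : AddSubgroup.closure S = ⊤) (h : ∀ t ∈ S, g * X t * g⁻¹ = X' (f t)) :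
    ∀ t, g * X t * g⁻¹ = X' (f t) := by
  have hX0 : X 0 = 1 := by
    have h0 := hX 0 0
    rw [add_zero] at h0
    exact mul_eq_left.mp h0.symm
  have hX'0 : X' 0 = 1 := by
    have h0 := hX' 0 0
    rw [add_zero] at h0
    exact mul_eq_left.mp h0.symm
  have hXn : ∀ t, X (-t) = (X t)⁻¹ := by
    intro t
    rw [eq_inv_iff_mul_eq_one, ← hX, neg_add_cancel, hX0]
  have hX'n : ∀ t, X' (-t) = (X' t)⁻¹ := by
    intro t
    rw [eq_inv_iff_mul_eq_one, ← hX', neg_add_cancel, hX'0]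
  intro t
  have ht : t ∈ AddSubgroup.closure S := by rw [hS]; exact AddSubgroup.mem_top t
  induction ht using AddSubgroup.closure_induction with
  | mem x hx => exact h x hx
  | zero =>
    rw [map_zero, hX0, hX'0]
    group
  | add x y _ _ hx hy =>
    rw [map_add, hX, hX', ← hx, ← hy]
    group
  | neg x _ hx =>
    rw [map_neg, hXn, hX'n, ← hx]
    group

section F

variable {F : Type u} {K : Type u} [Field F] [Field K]

theorem su4w2_sigma_iota (D : Tw F K) (y : K) : D.σ (D.ι y) = D.ι y :=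
  (D.fix (D.ι y)).2 ⟨y, rfl⟩

theorem su4w2_iota_nmu (D : Tw F K) (s : Fˣ) : D.ιu (D.nmu s) = s * D.σu s := by
  apply Units.ext
  rw [D.ιu_coe, D.nmu_coe, D.hnm, Units.val_mul, D.σu_coe]

theorem su4w2_nmu_iota (D : Tw F K) (r : Kˣ) : D.nmu (D.ιu r) = r ^ 2 := by
  apply Units.ext
  apply D.ι_injective
  rw [D.nmu_coe, D.hnm, D.ιu_coe, su4w2_sigma_iota, Units.val_pow_eq_pow_val, map_pow, pow_two]

theorem su4w2_nmu_sigma (D : Tw F K) (s : Fˣ) : D.nmu (D.σu s) = D.nmu s := by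
  apply Units.ext
  apply D.ι_injective
  rw [D.nmu_coe, D.hnm, D.σu_coe, D.σσ, D.nmu_coe, D.hnm, mul_comm]

end F

section W

variable {F : Type u} {K : Type u} [Field F] [Field K] [Fintype F] [Fintype K] {G : Type v} [Group G]

omit [Fintype F] [Fintype K] in
/-- `w_a (h_a(s) h_b(r)) w_a⁻¹ = h_a(s⁻¹ ιu(r)) h_b(r)` -/
theorem su4w2_wa_T (D : Tw F K) (φa : Matrix.SpecialLinearGroup (Fin 2) F →* G)
    (φb : Matrix.SpecialLinearGroup (Fin 2) K →* G) (R : Tor4T D φa φb) (s : Fˣ) (r : Kˣ) :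
    rn φa * (rh φa s * rh φb r) * (rn φa)⁻¹ = rh φa (s⁻¹ * D.ιu r) * rh φb r := by
  have hc : Commute (rh φa (D.ιu r)) (rh φb r) := R.comm (D.ιu r) r
  calc rn φa * (rh φa s * rh φb r) * (rn φa)⁻¹
      = (rn φa * rh φa s * (rn φa)⁻¹) * (rn φa * rh φb r * (rn φa)⁻¹) := by group
    _ = (rh φa s)⁻¹ * (rh φb r * rh φa (D.ιu r)) := by rw [sp4kit_rn_rh, R.wa_hb]
    _ = (rh φa s)⁻¹ * (rh φa (D.ιu r) * rh φb r) := by rw [hc.eq]
    _ = rh φa (s⁻¹ * D.ιu r) * rh φb r := by rw [sp4kit_rh_mul, sp4kit_rh_inv, mul_assoc]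

omit [Fintype F] [Fintype K] in
/-- `w_b (h_a(s) h_b(r)) w_b⁻¹ = h_a(s) h_b(nmu(s) r⁻¹)` -/
theorem su4w2_wb_T (D : Tw F K) (φa : Matrix.SpecialLinearGroup (Fin 2) F →* G)
    (φb : Matrix.SpecialLinearGroup (Fin 2) K →* G) (R : Tor4T D φa φb) (s : Fˣ) (r : Kˣ) :
    rn φb * (rh φa s * rh φb r) * (rn φb)⁻¹ = rh φa s * rh φb (D.nmu s * r⁻¹) := by
  calc rn φb * (rh φa s * rh φb r) * (rn φb)⁻¹
      = (rn φb * rh φa s * (rn φb)⁻¹) * (rn φb * rh φb r * (rn φb)⁻¹) := by group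
    _ = (rh φa s * rh φb (D.nmu s)) * (rh φb r)⁻¹ := by rw [sp4kit_rn_rh, R.wb_ha]
    _ = rh φa s * rh φb (D.nmu s * r⁻¹) := by rw [sp4kit_rh_mul, sp4kit_rh_inv, mul_assoc]

omit [Fintype F] [Fintype K] in
/-- the reflection `n = w_b w_a w_b⁻¹` acts on `h_a(s)` through `σ`. -/
theorem su4w2_n_ha (D : Tw F K) (φa : Matrix.SpecialLinearGroup (Fin 2) F →* G)
    (φb : Matrix.SpecialLinearGroup (Fin 2) K →* G) (R : Tor4T D φa φb) (s : Fˣ) :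
    (rn φb * rn φa * (rn φb)⁻¹) * rh φa s * (rn φb * rn φa * (rn φb)⁻¹)⁻¹ = rh φa (D.σu s) := by
  have e0 : s⁻¹ * D.ιu (D.nmu s) = D.σu s := by
    rw [su4w2_iota_nmu, ← mul_assoc, inv_mul_cancel, one_mul]
  calc (rn φb * rn φa * (rn φb)⁻¹) * rh φa s * (rn φb * rn φa * (rn φb)⁻¹)⁻¹
      = rn φb * (rn φa * ((rn φb)⁻¹ * rh φa s * rn φb) * (rn φa)⁻¹) * (rn φb)⁻¹ := by group
    _ = rn φb * (rn φa * (rh φa s * rh φb (D.nmu s)) * (rn φa)⁻¹) * (rn φb)⁻¹ := by rw [R.wb_ha']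
    _ = rn φb * (rh φa (D.σu s) * rh φb (D.nmu s)) * (rn φb)⁻¹ := by rw [su4w2_wa_T D φa φb R, e0]
    _ = rh φa (D.σu s) * rh φb (D.nmu (D.σu s) * (D.nmu s)⁻¹) := su4w2_wb_T D φa φb R _ _
    _ = rh φa (D.σu s) := by rw [su4w2_nmu_sigma, mul_inv_cancel, sp4kit_rh_one, mul_one]

/-- the reflection `n = w_b w_a w_b⁻¹` maps `x_a(t)` to `x_a(-σ t)`. -/
theorem su4w2_key (D : Tw F K) (ζ : Fˣ) (ζ₀ : Kˣ) (φa : Matrix.SpecialLinearGroup (Fin 2) F →* G)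
    (φb : Matrix.SpecialLinearGroup (Fin 2) K →* G) (H : HypT D ζ ζ₀ φa φb) (R : Tor4T D φa φb) (t : F) :
    (rn φb * rn φa * (rn φb)⁻¹) * rx φa t * (rn φb * rn φa * (rn φb)⁻¹)⁻¹ = rx φa (-D.σ t) := by
  have h := su4w2_conj_span (rx φa) (rx φa) (sp4kit_rx_add φa) (sp4kit_rx_add φa)
    (rn φb * rn φa * (rn φb)⁻¹) (-(D.σ : F →+ F)) _ (sp4kit_sq_span (F := F)) ?_ t
  · exact h
  · rintro t ⟨s, rfl⟩
    show (rn φb * rn φa * (rn φb)⁻¹) * rx φa ((s : F) ^ 2) * (rn φb * rn φa * (rn φb)⁻¹)⁻¹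
      = rx φa (-(D.σ ((s : F) ^ 2)))
    set n : G := rn φb * rn φa * (rn φb)⁻¹ with hn
    have e1 : rx φa ((s : F) ^ 2) = rh φa s * rx φa 1 * (rh φa s)⁻¹ := by
      rw [R.aa s 1, mul_one]
    have hτ : n * rh φa s * n⁻¹ = rh φa (D.σu s) := su4w2_n_ha D φa φb R s
    have hW7 : n * rx φa 1 * n⁻¹ = rx φa (-1) := by
      rw [hn, H.W7, sp4kit_rx_neg]
    calc n * rx φa ((s : F) ^ 2) * n⁻¹ = n * (rh φa s * rx φa 1 * (rh φa s)⁻¹) * n⁻¹ := by rw [e1]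
      _ = (n * rh φa s * n⁻¹) * (n * rx φa 1 * n⁻¹) * (n * rh φa s * n⁻¹)⁻¹ := by group
      _ = rh φa (D.σu s) * rx φa (-1) * (rh φa (D.σu s))⁻¹ := by rw [hτ, hW7]
      _ = rx φa (((D.σu s : Fˣ) : F) ^ 2 * -1) := R.aa (D.σu s) (-1)
      _ = rx φa (-(D.σ ((s : F) ^ 2))) := by rw [mul_neg_one, D.σu_coe, map_pow]

/-- W2 [M]  deps T0 F0 + `sq_span r_basic`.  Model SP4 W2 `wact_ac` (`helper17.SP4W2`). -/
theorem wact_acT (D : Tw F K) (ζ : Fˣ) (ζ₀ : Kˣ) (φa : Matrix.SpecialLinearGroup (Fin 2) F →* G)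
    (φb : Matrix.SpecialLinearGroup (Fin 2) K →* G) (H : HypT D ζ ζ₀ φa φb) (R : Tor4T D φa φb) :
    ∀ t, rn φa * xcT φa φb t * (rn φa)⁻¹ = xcT φa φb (-D.σ t) := by
  intro t
  have key := su4w2_key D ζ ζ₀ φa φb H R t
  unfold xcT
  rw [← key]
  group

end W

end Cfsg.Agent.Lib.Helper22.SU4
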