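import Cfsg.Agent.Lib.Helper9.UT.Defs

/-!
# Project UT (S5655, leader helper9), row CARD : `|U| = q + 1`, `|K0| = q`, an element of prime order in `U`
-/

set_option autoImplicit false

open Cfsg

namespace Cfsg.Agent.Lib.Helper9.UT

open Matrix

variable {n q : ℕ} {F : Type*} [Field F] [Fintype F] {σ : F ≃+* F}

/-- the norm `x ↦ x^(q+1)` on the units -/
def utcardN (F : Type*) [Field F] (q : ℕ) : Fˣ →* Fˣ := powMonoidHom (q + 1)

theorem utcard_two_le (S : UF n q σ) : 2 ≤ q := by
  have h1 : 1 < Fintype.card F := Fintype.one_lt_card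
  rw [S.hF] at h1
  by_contra h
  have : q ≤ 1 := by omega
  interval_cases q <;> simp at h1

theorem utcard_units (S : UF n q σ) : Nat.card Fˣ = (q + 1) * (q - 1) := by
  have hq := utcard_two_le S
  rw [Nat.card_units, Nat.card_eq_fintype_card, S.hF]
  obtain ⟨k, rfl⟩ : ∃ k, q = k + 2 := ⟨q - 2, by omega⟩
  have : k + 2 - 1 = k + 1 := by omega
  rw [this]
  have h2 : (k + 2) ^ 2 = (k + 2 + 1) * (k + 1) + 1 := by ring
  rw [h2]
  omega

theorem utcard_pow_le (m : ℕ) (hm : 0 < m) : Nat.card {x : Fˣ // x ^ m = 1} ≤ m := by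
  classical
  have h := IsCyclic.card_pow_eq_one_le (α := Fˣ) hm
  rw [Nat.card_eq_fintype_card, Fintype.card_subtype]
  exact h

/-- the key count -/
theorem utcard_key (S : UF n q σ) :
    Nat.card {x : Fˣ // x ^ (q + 1) = 1} = q + 1 ∧ Nat.card {x : Fˣ // x ^ (q - 1) = 1} = q - 1 := by
  classical
  have hq := utcard_two_le S
  have hA : Nat.card {x : Fˣ // x ^ (q + 1) = 1} ≤ q + 1 := utcard_pow_le (q + 1) (by omega)
  have hB : Nat.card {x : Fˣ // x ^ (q - 1) = 1} ≤ q - 1 := utcard_pow_le (q - 1) (by omega)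
  -- kernel and range of the norm
  have hker : Nat.card (utcardN F q).ker = Nat.card {x : Fˣ // x ^ (q + 1) = 1} := by
    apply Nat.card_congr
    exact Equiv.subtypeEquivRight (fun x => by
      rw [MonoidHom.mem_ker]
      rfl)
  have hcard : Nat.card Fˣ = (q + 1) * (q - 1) := utcard_units S
  have hpowcard : ∀ x : Fˣ, x ^ ((q + 1) * (q - 1)) = 1 := by
    intro x
    rw [← hcard]
    exact pow_card_eq_one'
  have hran : Nat.card (utcardN F q).range ≤ Nat.card {x : Fˣ // x ^ (q - 1) = 1} := by
    apply Nat.card_le_card_of_injective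
      (fun y : (utcardN F q).range => (⟨(y : Fˣ), by
        obtain ⟨x, hx⟩ := y.2
        rw [← hx]
        show (x ^ (q + 1)) ^ (q - 1) = 1
        rw [← pow_mul]
        exact hpowcard x⟩ : {x : Fˣ // x ^ (q - 1) = 1}))
    intro y y' h
    have h2 : ((y : Fˣ)) = ((y' : Fˣ)) := congrArg (fun z : {x : Fˣ // x ^ (q - 1) = 1} => (z : Fˣ)) h
    exact Subtype.ext h2
  have hmul : Nat.card (utcardN F q).ker * Nat.card (utcardN F q).range = (q + 1) * (q - 1) := by
    rw [← hcard, ← Subgroup.index_ker, Subgroup.card_mul_index]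
  rw [hker] at hmul
  have hpos : 0 < (q + 1) * (q - 1) := Nat.mul_pos (by omega) (by omega)
  constructor
  · by_contra hne
    have hlt : Nat.card {x : Fˣ // x ^ (q + 1) = 1} < q + 1 := lt_of_le_of_ne hA hne
    have h1 : Nat.card (utcardN F q).range ≤ q - 1 := le_trans hran hB
    have h2 : Nat.card {x : Fˣ // x ^ (q + 1) = 1} * Nat.card (utcardN F q).range <
        (q + 1) * (q - 1) := by
      calc _ ≤ Nat.card {x : Fˣ // x ^ (q + 1) = 1} * (q - 1) := Nat.mul_le_mul_left _ h1
        _ < (q + 1) * (q - 1) := Nat.mul_lt_mul_of_pos_right hlt (by omega)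
    omega
  · by_contra hne
    have hlt : Nat.card {x : Fˣ // x ^ (q - 1) = 1} < q - 1 := lt_of_le_of_ne hB hne
    have h1 : Nat.card (utcardN F q).range < q - 1 := lt_of_le_of_lt hran hlt
    have h2 : Nat.card {x : Fˣ // x ^ (q + 1) = 1} * Nat.card (utcardN F q).range <
        (q + 1) * (q - 1) := by
      calc _ ≤ (q + 1) * Nat.card (utcardN F q).range := Nat.mul_le_mul_right _ hA
        _ < (q + 1) * (q - 1) := Nat.mul_lt_mul_of_pos_left h1 (by omega)
    omega

/-- CARD. `|U| = q + 1`. -/
theorem card_norm_one (S : UF n q σ) : Nat.card {x : F // x * σ x = 1} = q + 1 := by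
  rw [← (utcard_key S).1]
  apply Nat.card_congr
  refine ⟨fun x => ⟨Units.mk0 x.1 (by
      intro h0
      have := x.2
      rw [h0, zero_mul] at this
      exact zero_ne_one this), by
      apply Units.ext
      have := x.2
      rw [S.hσ] at this
      rw [Units.val_pow_eq_pow_val, Units.val_mk0, Units.val_one, pow_succ']
      exact this⟩,
    fun x => ⟨(x.1 : F), by
      have := congrArg Units.val x.2
      rw [Units.val_pow_eq_pow_val, Units.val_one, pow_succ'] at this
      rw [S.hσ]
      exact this⟩, fun x => rfl, fun x => ?_⟩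
  apply Subtype.ext
  apply Units.ext
  rfl

/-- CARD. `|K0| = q`. -/
theorem card_fixed (S : UF n q σ) : Nat.card {x : F // σ x = x} = q := by
  classical
  have hq := utcard_two_le S
  have h1 : Nat.card {x : F // σ x = x} = Nat.card (Option {x : Fˣ // x ^ (q - 1) = 1}) := by
    apply Nat.card_congr
    have hfix : ∀ x : F, x ≠ 0 → (σ x = x ↔ x ^ (q - 1) = 1) := by
      intro x hx
      rw [S.hσ]
      have hqq : q = (q - 1) + 1 := by omega
      constructor
      · intro h
        rw [hqq, pow_succ] at h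
        exact mul_right_cancel₀ hx (by rw [h, one_mul])
      · intro h
        rw [hqq, pow_succ, h, one_mul]
    refine ⟨fun x => if h : x.1 = 0 then none else
        some ⟨Units.mk0 x.1 h, by
          apply Units.ext
          rw [Units.val_pow_eq_pow_val, Units.val_mk0, Units.val_one]
          exact (hfix x.1 h).1 x.2⟩,
      fun o => match o with
        | none => ⟨0, map_zero σ⟩
        | some y => ⟨(y.1 : F), (hfix _ y.1.ne_zero).2 (by
            have := congrArg Units.val y.2
            rwa [Units.val_pow_eq_pow_val, Units.val_one] at this)⟩, ?_, ?_⟩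
    · intro x
      by_cases h : x.1 = 0
      · simp only [h, dite_true]
        exact Subtype.ext h.symm
      · simp only [h, dite_false]
        rfl
    · intro o
      match o with
      | none => simp
      | some y =>
        have hy : (y.1 : F) ≠ 0 := y.1.ne_zero
        simp only [hy, dite_false]
        congr 1
        apply Subtype.ext
        apply Units.ext
        rfl
  rw [h1, Nat.card_eq_fintype_card, Fintype.card_option, ← Nat.card_eq_fintype_card, (utcard_key S).2]
  omega

/-- CARD. a prime `r` and an element `u ≠ 1` of `U` with `u^r = 1`. -/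
theorem exists_prime_unit (S : UF n q σ) :
    ∃ (r : ℕ) (u : Fˣ), r.Prime ∧ (u : F) * σ (u : F) = 1 ∧ u ≠ 1 ∧ u ^ r = 1 := by
  classical
  have hq := utcard_two_le S
  have hkercard : Nat.card (utcardN F q).ker = q + 1 := by
    rw [← (utcard_key S).1]
    apply Nat.card_congr
    exact Equiv.subtypeEquivRight (fun x => by
      rw [MonoidHom.mem_ker]
      rfl)
  obtain ⟨r, hr, hrd⟩ := Nat.exists_prime_and_dvd (n := q + 1) (by omega)
  have : Fact r.Prime := ⟨hr⟩
  rw [← hkercard] at hrd
  obtain ⟨u, hu⟩ := exists_prime_orderOf_dvd_card' r hrd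
  refine ⟨r, (u : Fˣ), hr, ?_, ?_, ?_⟩
  · have h1 : (u : Fˣ) ^ (q + 1) = 1 := (MonoidHom.mem_ker).1 u.2
    have h2 := congrArg Units.val h1
    rw [Units.val_pow_eq_pow_val, Units.val_one, pow_succ'] at h2
    rw [S.hσ]
    exact h2
  · intro h1
    have : u = 1 := Subtype.ext h1
    rw [this, orderOf_one] at hu
    exact hr.one_lt.ne hu
  · have : u ^ r = 1 := by rw [← hu]; exact pow_orderOf_eq_one u
    have h2 := congrArg Subtype.val this
    simpa using h2

end Cfsg.Agent.Lib.Helper9.UT
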