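import Mathlib
import Cfsg.Prelude.Def_GeometricClasses
import Cfsg.Agent.Lib.Helper27.ASC.Defs
import Cfsg.Agent.Lib.Helper19.ASG.Defs
import Cfsg.Agent.Lib.Helper18.ASP.Defs
import Cfsg.Agent.Lib.helper8.ASPC.Defs
import Cfsg.Agent.Lib.Helper25.ASO.Defs
import Cfsg.Agent.Lib.Helper25.ASOADJ
import Cfsg.Agent.Lib.Helper20.ASOSTAR
import Cfsg.Agent.Lib.Helper10.ASOCGRAM
import Cfsg.Agent.Lib.Helper24.ASGCASM
import Cfsg.Agent.Lib.Helper22.ASPCKUNIQ
import Cfsg.Agent.Lib.Helper20.ASPCSIM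
import Cfsg.Agent.Lib.Helper20.ASPCACT
import Cfsg.Agent.Lib.Helper18.ASPCEVALT
import Cfsg.Agent.Lib.Helper22.ASPCSWAPF
import Cfsg.Agent.Lib.Helper18.ASPCANI3
import Cfsg.Agent.Lib.Helper20.ASGCMEM

set_option autoImplicit false
set_option linter.unusedVariables false
set_option linter.unusedSectionVars false

/-!
# Project ASE (even-dimensional orthogonal groups), block C : the form-generic core (helper8)

`asec_tensor_core` : `Q` a non-degenerate quadratic form on `F^n` (bundled, ANY characteristic, `F` finite), `H` an irreducible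
group of isometries, `N` normalised by `H` with `centAlg N ≃ M_k(F)`, `1 < k < n`.  Then there is a Kronecker basis `(e, P)`,
`n = k d`, `d ≥ 2`, with `H ≤ tensorProductSubgroup k d e P`, the Gram matrix of the polar form of `Q` is `A ⊗ B`
(`KrGram (polar Q) e P A B`, `det A, det B ≠ 0`) and
* either `2 ≠ 0` and `A`, `B` are symmetric,
* or `A`, `B` are skew and alternating and `Q` vanishes on all pure tensors `P ((x₁ ⊗ x₂) ∘ e)`.

Tools: ASG block C (`std_embedding`, `normalizes_cent`, `normalizer_le_tensor`), ASO (`oadj`, `star_mem_cent`,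
`asocgram_factor`), ASP block C (`spc_kron_eq_kron`, `spc_kron_sim`, `aspcevalt_core`, `spc_krGram_swap`, `spc_krGram_ptv`).
Characteristic 2: both factors are alternating by `aspcevalt_core`; then `(x₁, x₂) ↦ Q (P (x₁ ⊗ x₂))` is biadditive and
`c²`-homogeneous, its additive extension `Λ` to `F^(k d)` is `H`-invariant and its kernel is an `H`-invariant subspace, so
`Λ = 0` by irreducibility (`asec_pure_zero`).
-/

namespace Cfsg.Agent.Lib.helper8.ASEC

open Cfsg Cfsg.Geo Cfsg.Agent.Lib.Helper27.ASC Cfsg.Agent.Lib.Helper19.ASG Cfsg.Agent.Lib.Helper18.ASP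
  Cfsg.Agent.Lib.Helper25.ASO
open scoped MatrixGroups Matrix Kronecker

variable {n : ℕ} {F : Type*} [Field F]

/-- the Gram matrix of the polar form of `Q` in a Kronecker basis whose first factor algebra `P (M_k ⊗ 1) P⁻¹` is stable
under the adjoint is a Kronecker product (characteristic free) -/
theorem asec_gram_kron [Fintype F] (Q : QuadraticForm F (Fin n → F))
    (hQ : (QuadraticMap.polarBilin Q).Nondegenerate) {k d : ℕ} (hk : 0 < k) (hd : 0 < d)
    (e : Fin n ≃ Fin k × Fin d) (P : GL (Fin n) F)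
    (hstar : ∀ a : Matrix (Fin k) (Fin k) F, ∃ a' : Matrix (Fin k) (Fin k) F,
      oadj (⇑Q) ((P : Matrix (Fin n) (Fin n) F) *
          Matrix.reindexAlgEquiv F F e.symm (a ⊗ₖ (1 : Matrix (Fin d) (Fin d) F)) *
          ((P⁻¹ : GL (Fin n) F) : Matrix (Fin n) (Fin n) F)) =
        (P : Matrix (Fin n) (Fin n) F) *
          Matrix.reindexAlgEquiv F F e.symm (a' ⊗ₖ (1 : Matrix (Fin d) (Fin d) F)) *
          ((P⁻¹ : GL (Fin n) F) : Matrix (Fin n) (Fin n) F)) :
    ∃ (A : Matrix (Fin k) (Fin k) F) (B : Matrix (Fin d) (Fin d) F),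
      (A ⊗ₖ B).det ≠ 0 ∧ (A ⊗ₖ B)ᵀ = A ⊗ₖ B ∧ KrGram (QuadraticMap.polar (⇑Q)) e P A B := by
  classical
  set G : Matrix (Fin n) (Fin n) F := gramMatrix (QuadraticMap.polar (⇑Q)) with hGdef
  have hGs : Gᵀ = G := asoadj_gram_symm Q
  have hGu : IsUnit G.det := asoadj_gram_det Q hQ
  set Pm : Matrix (Fin n) (Fin n) F := (P : Matrix (Fin n) (Fin n) F) with hPm
  set Pi' : Matrix (Fin n) (Fin n) F := ((P⁻¹ : GL (Fin n) F) : Matrix (Fin n) (Fin n) F) with hPi
  have hmi : Pm * Pi' = 1 := by rw [hPm, hPi, ← Units.val_mul, mul_inv_cancel]; rfl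
  have him : Pi' * Pm = 1 := by rw [hPm, hPi, ← Units.val_mul, inv_mul_cancel]; rfl
  have himT : Pmᵀ * Pi'ᵀ = 1 := by rw [← Matrix.transpose_mul, him, Matrix.transpose_one]
  obtain ⟨S, hS⟩ : ∃ S : Matrix (Fin n) (Fin n) F, S = Pmᵀ * G * Pm := ⟨_, rfl⟩
  have hSs : Sᵀ = S := by
    rw [hS, Matrix.transpose_mul, Matrix.transpose_mul, Matrix.transpose_transpose, hGs, Matrix.mul_assoc]
  have hPdet : IsUnit Pm.det := (Matrix.isUnit_iff_isUnit_det _).mp (Units.isUnit P)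
  have hSu : IsUnit S.det := by
    rw [hS, Matrix.det_mul, Matrix.det_mul, Matrix.det_transpose]
    exact (hPdet.mul hGu).mul hPdet
  have hrel : ∀ a : Matrix (Fin k) (Fin k) F, ∃ a' : Matrix (Fin k) (Fin k) F,
      ((a ⊗ₖ (1 : Matrix (Fin d) (Fin d) F)).submatrix e e)ᵀ * S =
        S * ((a' ⊗ₖ (1 : Matrix (Fin d) (Fin d) F)).submatrix e e) := by
    intro a
    obtain ⟨a', ha'⟩ := hstar a
    refine ⟨a', ?_⟩
    have hR : ∀ X : Matrix (Fin k × Fin d) (Fin k × Fin d) F,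
        Matrix.reindexAlgEquiv F F e.symm X = X.submatrix e e := by
      intro X
      rfl
    rw [hR, hR] at ha'
    have h1 : (Pm * (a ⊗ₖ (1 : Matrix (Fin d) (Fin d) F)).submatrix e e * Pi')ᵀ * G =
        G * (Pm * (a' ⊗ₖ (1 : Matrix (Fin d) (Fin d) F)).submatrix e e * Pi') := by
      rw [← ha', hGdef, asoadj_gram_mul Q hQ]
    have h3 : Pmᵀ * ((Pm * (a ⊗ₖ (1 : Matrix (Fin d) (Fin d) F)).submatrix e e * Pi')ᵀ * G) * Pm =
        Pmᵀ * (G * (Pm * (a' ⊗ₖ (1 : Matrix (Fin d) (Fin d) F)).submatrix e e * Pi')) * Pm := by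
      rw [h1]
    rw [Matrix.transpose_mul, Matrix.transpose_mul] at h3
    have e1 : Pmᵀ * (Pi'ᵀ * (((a ⊗ₖ (1 : Matrix (Fin d) (Fin d) F)).submatrix e e)ᵀ * Pmᵀ) * G) * Pm =
        ((a ⊗ₖ (1 : Matrix (Fin d) (Fin d) F)).submatrix e e)ᵀ * S := by
      rw [hS]
      simp only [← Matrix.mul_assoc]
      rw [himT, Matrix.one_mul]
    have e2 : Pmᵀ * (G * (Pm * (a' ⊗ₖ (1 : Matrix (Fin d) (Fin d) F)).submatrix e e * Pi')) * Pm =
        S * ((a' ⊗ₖ (1 : Matrix (Fin d) (Fin d) F)).submatrix e e) := by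
      rw [hS]
      simp only [Matrix.mul_assoc]
      rw [him, Matrix.mul_one]
    rw [e1, e2] at h3
    exact h3
  obtain ⟨G', hG'⟩ : ∃ G' : Matrix (Fin k × Fin d) (Fin k × Fin d) F, G' = S.submatrix e.symm e.symm := ⟨_, rfl⟩
  have hG's : G'ᵀ = G' := by
    rw [hG', Matrix.transpose_submatrix, hSs]
  have hG'u : IsUnit G'.det := by
    rw [hG', Matrix.det_submatrix_equiv_self]
    exact hSu
  have hrel' : ∀ a : Matrix (Fin k) (Fin k) F, ∃ a' : Matrix (Fin k) (Fin k) F,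
      (a ⊗ₖ (1 : Matrix (Fin d) (Fin d) F)) * G' = G' * (a' ⊗ₖ (1 : Matrix (Fin d) (Fin d) F)) := by
    intro a
    obtain ⟨a', ha'⟩ := hrel aᵀ
    refine ⟨a', ?_⟩
    have h1 : (((aᵀ ⊗ₖ (1 : Matrix (Fin d) (Fin d) F)).submatrix e e)ᵀ * S).submatrix e.symm e.symm =
        (S * ((a' ⊗ₖ (1 : Matrix (Fin d) (Fin d) F)).submatrix e e)).submatrix e.symm e.symm := by
      rw [ha']
    rw [← Matrix.submatrix_mul_equiv _ S e.symm e.symm e.symm,
      ← Matrix.submatrix_mul_equiv S _ e.symm e.symm e.symm, ← hG'] at h1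
    have e1 : (((aᵀ ⊗ₖ (1 : Matrix (Fin d) (Fin d) F)).submatrix e e)ᵀ).submatrix e.symm e.symm =
        a ⊗ₖ (1 : Matrix (Fin d) (Fin d) F) := by
      ext ⟨i, x⟩ ⟨j, y⟩
      simp [Matrix.kroneckerMap_apply, Matrix.one_apply, eq_comm]
    have e2 : ((a' ⊗ₖ (1 : Matrix (Fin d) (Fin d) F)).submatrix e e).submatrix e.symm e.symm =
        a' ⊗ₖ (1 : Matrix (Fin d) (Fin d) F) := by
      ext p q
      simp
    rw [e1, e2] at h1
    exact h1
  obtain ⟨A, B, hAB⟩ := asocgram_factor hk hd G' hG'u hrel'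
  have hdetAB : (A ⊗ₖ B).det ≠ 0 := by rw [← hAB]; exact hG'u.ne_zero
  have hsymAB : (A ⊗ₖ B)ᵀ = A ⊗ₖ B := by rw [← hAB]; exact hG's
  refine ⟨A, B, hdetAB, hsymAB, fun x y => ?_⟩
  rw [← hAB, asoadj_polar_eq, asocgram_transport, ← hGdef, ← hS, asocgram_reindex, hG']


/-- the factors of a symmetric non-zero Kronecker product are both symmetric or both skew -/
theorem asec_kron_symm_cases {k d : ℕ} (A : Matrix (Fin k) (Fin k) F) (B : Matrix (Fin d) (Fin d) F)
    (hA : A ≠ 0) (hB : B ≠ 0) (h : (A ⊗ₖ B)ᵀ = A ⊗ₖ B) :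
    (Aᵀ = A ∧ Bᵀ = B) ∨ (Aᵀ = -A ∧ Bᵀ = -B) := by
  have h' : Aᵀ ⊗ₖ Bᵀ = A ⊗ₖ B := by
    rw [← h]
    ext ⟨i, j⟩ ⟨i', j'⟩
    simp [Matrix.kroneckerMap_apply]
  obtain ⟨μ, hμ, hAμ, hBμ⟩ := spc_kron_eq_kron Aᵀ A Bᵀ B hA hB h'
  obtain ⟨i, i', hii'⟩ := aspckuniq_entry A hA
  have h1 : A i i' = μ * (μ * A i i') := by
    have e1 : A i i' = μ * A i' i := by
      have := congrFun (congrFun hAμ i') i
      simpa [Matrix.transpose_apply] using this
    have e2 : A i' i = μ * A i i' := by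
      have := congrFun (congrFun hAμ i) i'
      simpa [Matrix.transpose_apply] using this
    rw [← e2]
    exact e1
  have h2 : (μ - 1) * (μ + 1) = 0 := by
    have : (μ * μ - 1) * A i i' = 0 := by linear_combination -h1
    rcases mul_eq_zero.mp this with h3 | h3
    · linear_combination h3
    · exact absurd h3 hii'
  rcases mul_eq_zero.mp h2 with h3 | h3
  · have hμ1 : μ = 1 := by linear_combination h3
    left
    rw [hAμ, hBμ, hμ1, inv_one, one_smul, one_smul]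
    exact ⟨rfl, rfl⟩
  · have hμ1 : μ = -1 := by linear_combination h3
    right
    have hinv : (-1 : F)⁻¹ = -1 := by
      rw [inv_eq_iff_eq_inv, inv_neg, inv_one]
    rw [hAμ, hBμ, hμ1, hinv, neg_one_smul, neg_one_smul]
    exact ⟨rfl, rfl⟩

theorem asec_det_factors {k d : ℕ} (hk : 0 < k) (hd : 0 < d) (A : Matrix (Fin k) (Fin k) F)
    (B : Matrix (Fin d) (Fin d) F) (hdet : (A ⊗ₖ B).det ≠ 0) : A.det ≠ 0 ∧ B.det ≠ 0 := by
  rw [Matrix.det_kronecker, Fintype.card_fin, Fintype.card_fin] at hdet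
  exact ⟨fun h => hdet (by rw [h, zero_pow hd.ne', zero_mul]),
    fun h => hdet (by rw [h, zero_pow hk.ne', mul_zero])⟩

theorem asec_ne_zero_of_det {k : ℕ} (hk : 0 < k) (A : Matrix (Fin k) (Fin k) F) (hA : A.det ≠ 0) : A ≠ 0 := by
  rintro rfl
  have : Nonempty (Fin k) := ⟨⟨0, hk⟩⟩
  exact hA Matrix.det_zero

/-- a skew matrix is alternating when `2 ≠ 0` -/
theorem asec_skew_alt (h2 : (2 : F) ≠ 0) {k : ℕ} (A : Matrix (Fin k) (Fin k) F) (hA : Aᵀ = -A)
    (x : Fin k → F) : x ⬝ᵥ (A *ᵥ x) = 0 := by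
  have h1 : x ⬝ᵥ (A *ᵥ x) = -(x ⬝ᵥ (A *ᵥ x)) := by
    conv_lhs => rw [Matrix.dotProduct_mulVec, ← Matrix.mulVec_transpose, hA, Matrix.neg_mulVec, dotProduct_comm,
      dotProduct_neg]
  have h3 : (2 : F) * (x ⬝ᵥ (A *ᵥ x)) = 0 := by linear_combination h1
  rcases mul_eq_zero.mp h3 with h4 | h4
  · exact absurd h4 h2
  · exact h4

/-- a symmetric matrix with zero diagonal is alternating when `2 = 0` -/
theorem asec_diag_alt (h2 : (2 : F) = 0) {k : ℕ} (A : Matrix (Fin k) (Fin k) F) (hA : Aᵀ = A)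
    (hdiag : ∀ i, A i i = 0) (x : Fin k → F) : x ⬝ᵥ (A *ᵥ x) = 0 := by
  classical
  -- `x ↦ x A x` is additive and vanishes on multiples of basis vectors
  have hx : x = ∑ i, x i • (Pi.single i (1 : F) : Fin k → F) := by
    funext j
    simp [Finset.sum_apply, Pi.single_apply]
  have hadd : ∀ (s : Finset (Fin k)) (g : Fin k → (Fin k → F)), (∀ i ∈ s, g i ⬝ᵥ (A *ᵥ g i) = 0) →
      (∑ i ∈ s, g i) ⬝ᵥ (A *ᵥ (∑ i ∈ s, g i)) = 0 := by
    intro s g
    induction s using Finset.induction_on with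
    | empty => intro _; simp
    | insert a s ha ih =>
      intro hg
      rw [Finset.sum_insert ha, aspcevalt_add h2 A hA, hg a (Finset.mem_insert_self a s),
        ih (fun i hi => hg i (Finset.mem_insert_of_mem hi)), add_zero]
  rw [hx]
  apply hadd
  intro i _
  rw [aspcevalt_smul]
  have : (Pi.single i (1 : F) : Fin k → F) ⬝ᵥ (A *ᵥ Pi.single i 1) = A i i := by
    simp
  rw [this, hdiag, mul_zero]


/-- expansion of an additive `c²`-homogeneous function in coordinates -/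
theorem asec_semilinear_expand {κ : Type} [Fintype κ] [DecidableEq κ] (g : (κ → F) → F)
    (hadd : ∀ x y, g (x + y) = g x + g y) (hsmul : ∀ (c : F) x, g (c • x) = c ^ 2 * g x) (x : κ → F) :
    g x = ∑ p, x p ^ 2 * g (Pi.single p 1) := by
  have hx : x = ∑ p, x p • (Pi.single p (1 : F) : κ → F) := by
    funext j
    simp [Finset.sum_apply, Pi.single_apply]
  have h0 : g 0 = 0 := by
    have := hadd 0 0
    simpa using this
  have hsum : ∀ (s : Finset κ) (f : κ → (κ → F)), g (∑ p ∈ s, f p) = ∑ p ∈ s, g (f p) := by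
    intro s f
    induction s using Finset.induction_on with
    | empty => simpa using h0
    | insert a s ha ih => rw [Finset.sum_insert ha, Finset.sum_insert ha, hadd, ih]
  conv_lhs => rw [hx]
  rw [hsum]
  exact Finset.sum_congr rfl fun p _ => hsmul _ _

/-- characteristic 2, both factors alternating, `H` irreducible: `Q` vanishes on the pure tensors -/
theorem asec_pure_zero [Fintype F] (h2 : (2 : F) = 0) (Q : QuadraticForm F (Fin n → F))
    {H : Subgroup (GL (Fin n) F)} (hI : H ≤ isometryGroup F (⇑Q)) (hH : Irr H) {k d : ℕ} (hn : 2 ≤ n)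
    (e : Fin n ≃ Fin k × Fin d) (P : GL (Fin n) F) (A : Matrix (Fin k) (Fin k) F) (B : Matrix (Fin d) (Fin d) F)
    (hAalt : ∀ x, x ⬝ᵥ (A *ᵥ x) = 0) (hBalt : ∀ x, x ⬝ᵥ (B *ᵥ x) = 0)
    (hK : KrGram (QuadraticMap.polar (⇑Q)) e P A B) (hHle : H ≤ tensorProductSubgroup k d e P)
    (x₁ : Fin k → F) (x₂ : Fin d → F) :
    Q ((P : Matrix (Fin n) (Fin n) F) *ᵥ (ptv x₁ x₂ ∘ e)) = 0 := by
  classical
  set φ : (Fin k → F) → (Fin d → F) → F :=
    fun y₁ y₂ => Q ((P : Matrix (Fin n) (Fin n) F) *ᵥ (ptv y₁ y₂ ∘ e)) with hφ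
  have hQadd : ∀ u w : Fin n → F, Q (u + w) = Q u + Q w + QuadraticMap.polar (⇑Q) u w := by
    intro u w
    unfold QuadraticMap.polar
    ring
  have hφadd1 : ∀ y₁ z₁ y₂, φ (y₁ + z₁) y₂ = φ y₁ y₂ + φ z₁ y₂ := by
    intro y₁ z₁ y₂
    have hp : (ptv (y₁ + z₁) y₂ ∘ e) = (ptv y₁ y₂ ∘ e) + (ptv z₁ y₂ ∘ e) := by
      funext p
      simp only [ptv, Pi.add_apply, Function.comp]
      ring
    simp only [hφ]
    rw [hp, Matrix.mulVec_add, hQadd, spc_krGram_ptv _ e P A B hK, hBalt, mul_zero, add_zero]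
  have hφadd2 : ∀ y₁ y₂ z₂, φ y₁ (y₂ + z₂) = φ y₁ y₂ + φ y₁ z₂ := by
    intro y₁ y₂ z₂
    have hp : (ptv y₁ (y₂ + z₂) ∘ e) = (ptv y₁ y₂ ∘ e) + (ptv y₁ z₂ ∘ e) := by
      funext p
      simp only [ptv, Pi.add_apply, Function.comp]
      ring
    simp only [hφ]
    rw [hp, Matrix.mulVec_add, hQadd, spc_krGram_ptv _ e P A B hK, hAalt, zero_mul, add_zero]
  have hφsmul1 : ∀ (c : F) y₁ y₂, φ (c • y₁) y₂ = c ^ 2 * φ y₁ y₂ := by
    intro c y₁ y₂
    have hp : (ptv (c • y₁) y₂ ∘ e) = c • (ptv y₁ y₂ ∘ e) := by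
      funext p
      simp only [ptv, Pi.smul_apply, Function.comp, smul_eq_mul]
      ring
    simp only [hφ]
    rw [hp, Matrix.mulVec_smul, QuadraticMap.map_smul, smul_eq_mul]
    ring
  have hφsmul2 : ∀ (c : F) y₁ y₂, φ y₁ (c • y₂) = c ^ 2 * φ y₁ y₂ := by
    intro c y₁ y₂
    have hp : (ptv y₁ (c • y₂) ∘ e) = c • (ptv y₁ y₂ ∘ e) := by
      funext p
      simp only [ptv, Pi.smul_apply, Function.comp, smul_eq_mul]
      ring
    simp only [hφ]
    rw [hp, Matrix.mulVec_smul, QuadraticMap.map_smul, smul_eq_mul]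
    ring
  -- the additive extension
  set Λ : (Fin k × Fin d → F) → F :=
    fun x => ∑ p, x p ^ 2 * φ (Pi.single p.1 1) (Pi.single p.2 1) with hΛ
  have hsq : ∀ a b : F, (a + b) ^ 2 = a ^ 2 + b ^ 2 := by
    intro a b
    linear_combination (a * b) * h2
  have hΛadd : ∀ x y, Λ (x + y) = Λ x + Λ y := by
    intro x y
    simp only [hΛ, Pi.add_apply, hsq, add_mul, Finset.sum_add_distrib]
  have hΛsmul : ∀ (c : F) x, Λ (c • x) = c ^ 2 * Λ x := by
    intro c x
    simp only [hΛ, Pi.smul_apply, smul_eq_mul, mul_pow, Finset.mul_sum, mul_assoc]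
  have hΛptv : ∀ y₁ y₂, Λ (ptv y₁ y₂) = φ y₁ y₂ := by
    intro y₁ y₂
    rw [asec_semilinear_expand (fun z => φ z y₂) (fun a b => hφadd1 a b y₂) (fun c a => hφsmul1 c a y₂) y₁]
    simp only [hΛ, Fintype.sum_prod_type, ptv, mul_pow]
    apply Finset.sum_congr rfl
    intro i _
    rw [asec_semilinear_expand (fun z => φ (Pi.single i 1) z) (fun a b => hφadd2 _ a b)
      (fun c a => hφsmul2 c _ a) y₂, Finset.mul_sum]
    apply Finset.sum_congr rfl
    intro j _
    ring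
  have hsingle : ∀ (i : Fin k) (j : Fin d), (Pi.single (i, j) (1 : F) : Fin k × Fin d → F) =
      ptv (Pi.single i 1) (Pi.single j 1) := by
    intro i j
    funext ⟨i', j'⟩
    simp only [ptv, Pi.single_apply, Prod.mk.injEq]
    by_cases h1 : i' = i <;> by_cases h2' : j' = j <;> simp [h1, h2']
  have hinvΛ : ∀ h ∈ H, ∀ (a : Matrix (Fin k) (Fin k) F) (b : Matrix (Fin d) (Fin d) F),
      (h : Matrix (Fin n) (Fin n) F) = (P : Matrix (Fin n) (Fin n) F) *
        Matrix.reindexAlgEquiv F F e.symm (a ⊗ₖ b) * ((P⁻¹ : GL (Fin n) F) : Matrix (Fin n) (Fin n) F) →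
      ∀ x, Λ ((a ⊗ₖ b) *ᵥ x) = Λ x := by
    intro h hh a b hab x
    have hφinv : ∀ y₁ y₂, φ (a *ᵥ y₁) (b *ᵥ y₂) = φ y₁ y₂ := by
      intro y₁ y₂
      have h1 : Q ((h : Matrix (Fin n) (Fin n) F) *ᵥ ((P : Matrix (Fin n) (Fin n) F) *ᵥ (ptv y₁ y₂ ∘ e))) =
          Q ((P : Matrix (Fin n) (Fin n) F) *ᵥ (ptv y₁ y₂ ∘ e)) :=
        hI hh ((P : Matrix (Fin n) (Fin n) F) *ᵥ (ptv y₁ y₂ ∘ e)) ((P : Matrix (Fin n) (Fin n) F) *ᵥ (ptv y₁ y₂ ∘ e))
      rw [hab, spc_kr_act, spc_kr_act_ptv] at h1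
      exact h1
    rw [asec_semilinear_expand (fun z => Λ ((a ⊗ₖ b) *ᵥ z))
        (fun u v => by simp only [Matrix.mulVec_add, hΛadd])
        (fun c u => by simp only [Matrix.mulVec_smul, hΛsmul]) x,
      asec_semilinear_expand Λ hΛadd hΛsmul x]
    apply Finset.sum_congr rfl
    rintro ⟨i, j⟩ _
    show x (i, j) ^ 2 * Λ ((a ⊗ₖ b) *ᵥ Pi.single (i, j) 1) = x (i, j) ^ 2 * Λ (Pi.single (i, j) 1)
    rw [hsingle, spc_kr_act_ptv, hΛptv, hΛptv, hφinv]
  -- coordinates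
  let crd : (Fin n → F) → Fin k × Fin d → F := fun v =>
    (((P⁻¹ : GL (Fin n) F) : Matrix (Fin n) (Fin n) F) *ᵥ v) ∘ e.symm
  have hcrd_add : ∀ u v, crd (u + v) = crd u + crd v := by
    intro u v
    funext p
    simp only [crd, Function.comp, Matrix.mulVec_add, Pi.add_apply]
  have hcrd_smul : ∀ (c : F) v, crd (c • v) = c • crd v := by
    intro c v
    funext p
    simp only [crd, Function.comp, Matrix.mulVec_smul, Pi.smul_apply]
  have hcrd_P : ∀ x : Fin k × Fin d → F, crd ((P : Matrix (Fin n) (Fin n) F) *ᵥ (x ∘ e)) = x := by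
    intro x
    funext p
    simp only [crd, Function.comp]
    rw [Matrix.mulVec_mulVec, ← Units.val_mul, inv_mul_cancel, Units.val_one, Matrix.one_mulVec]
    simp
  have hP_crd : ∀ v, (P : Matrix (Fin n) (Fin n) F) *ᵥ (crd v ∘ e) = v := fun v => aspcani3_coord e P v
  have hcrd0 : crd 0 = 0 := by
    funext p
    simp [crd]
  let Z : Submodule F (Fin n → F) :=
    { carrier := {v | Λ (crd v) = 0}
      add_mem' := by
        intro u v hu hv
        show Λ (crd (u + v)) = 0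
        rw [hcrd_add, hΛadd, hu, hv, add_zero]
      zero_mem' := by
        show Λ (crd 0) = 0
        rw [hcrd0]
        simp [hΛ]
      smul_mem' := by
        intro c v hv
        show Λ (crd (c • v)) = 0
        rw [hcrd_smul, hΛsmul, hv, mul_zero] }
  have hZmem : ∀ v, v ∈ Z ↔ Λ (crd v) = 0 := fun v => Iff.rfl
  have hinv : ∀ s ∈ matrixSet H, Z.map (Matrix.toLin' s) ≤ Z := by
    rintro _ ⟨h, hh, rfl⟩ _ ⟨v, hv, rfl⟩
    obtain ⟨a, b, hab⟩ := (mem_tensorProductSubgroup_iff e P h).1 (hHle hh)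
    have hv0 : Λ (crd v) = 0 := hv
    show Λ (crd ((h : Matrix (Fin n) (Fin n) F) *ᵥ v)) = 0
    have hv' : v = (P : Matrix (Fin n) (Fin n) F) *ᵥ (crd v ∘ e) := (hP_crd v).symm
    rw [hv', hab, aspcani3_act, hcrd_P, hinvΛ h hh _ _ hab]
    exact hv0
  rcases hH Z hinv with h | h
  · exfalso
    have hinj : Function.Injective (fun v : Fin n → F => Λ (crd v)) := by
      intro v v' hvv'
      have hvv : Λ (crd v) = Λ (crd v') := hvv'
      have hmem : v + v' ∈ Z := by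
        rw [hZmem, hcrd_add, hΛadd, hvv, ← two_mul, h2, zero_mul]
      rw [h, Submodule.mem_bot] at hmem
      have hneg : -v' = v' := by
        have : v' + v' = 0 := by rw [← two_smul F v', h2, zero_smul]
        exact neg_eq_of_add_eq_zero_left this
      rw [← hneg]
      exact eq_neg_of_add_eq_zero_left hmem
    have hcard := Fintype.card_le_of_injective _ hinj
    rw [Fintype.card_fun, Fintype.card_fin] at hcard
    have h1 : 1 < Fintype.card F := Fintype.one_lt_card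
    have h3 : Fintype.card F ^ 2 ≤ Fintype.card F ^ n := Nat.pow_le_pow_right (by omega) hn
    nlinarith
  · have hmem : (P : Matrix (Fin n) (Fin n) F) *ᵥ (ptv x₁ x₂ ∘ e) ∈ Z := by
      rw [h]
      exact Submodule.mem_top
    rw [hZmem, hcrd_P, hΛptv] at hmem
    exact hmem


/-- **ASE block C, form-generic core** (any characteristic): `H` an irreducible group of isometries of the non-degenerate
quadratic form `Q`, `N` normalised by `H` with `centAlg N ≃ M_k(F)`, `1 < k < n`.  Then in a Kronecker basis `(e, P)` the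
group `H` lies in the tensor product subgroup, the Gram matrix of the polar form is `A ⊗ B` and either `2 ≠ 0` and both factors are
symmetric, or both factors are alternating and `Q` vanishes on the pure tensors. -/
theorem asec_tensor_core [Fintype F] (Q : QuadraticForm F (Fin n → F))
    (hQ : (QuadraticMap.polarBilin Q).Nondegenerate) {H N : Subgroup (GL (Fin n) F)}
    (hI : H ≤ isometryGroup F (⇑Q)) (hH : Irr H) (hN : NormalIn N H) {k : ℕ}
    (φ : centAlg N ≃ₐ[F] Matrix (Fin k) (Fin k) F) (hk1 : 1 < k) (hkn : k < n) :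
    ∃ (d : ℕ) (e : Fin n ≃ Fin k × Fin d) (P : GL (Fin n) F) (A : Matrix (Fin k) (Fin k) F)
      (B : Matrix (Fin d) (Fin d) F),
      2 ≤ d ∧ n = k * d ∧ A.det ≠ 0 ∧ B.det ≠ 0 ∧ KrGram (QuadraticMap.polar (⇑Q)) e P A B ∧
      H ≤ tensorProductSubgroup k d e P ∧
      (((2 : F) ≠ 0 ∧ Aᵀ = A ∧ Bᵀ = B) ∨
        (Aᵀ = -A ∧ Bᵀ = -B ∧ (∀ x, x ⬝ᵥ (A *ᵥ x) = 0) ∧ (∀ x, x ⬝ᵥ (B *ᵥ x) = 0) ∧
          ∀ (x₁ : Fin k → F) (x₂ : Fin d → F),
            Q ((P : Matrix (Fin n) (Fin n) F) *ᵥ (ptv x₁ x₂ ∘ e)) = 0)) := by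
  classical
  obtain ⟨d, e, P, hstd⟩ := std_embedding (n := n) (by omega : 0 < k)
    ((centAlg N).val.comp (φ.symm : Matrix (Fin k) (Fin k) F →ₐ[F] centAlg N))
  have hnkd : n = k * d := by
    have := Fintype.card_congr e
    simpa using this
  have hstd' : ∀ a : Matrix (Fin k) (Fin k) F, ((φ.symm a : centAlg N) : Matrix (Fin n) (Fin n) F) =
      (P : Matrix (Fin n) (Fin n) F) *
        Matrix.reindexAlgEquiv F F e.symm (a ⊗ₖ (1 : Matrix (Fin d) (Fin d) F)) *
        ((P⁻¹ : GL (Fin n) F) : Matrix (Fin n) (Fin n) F) := fun a => hstd a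
  have hHle : H ≤ tensorProductSubgroup k d e P :=
    (normalizes_cent hN).trans (normalizer_le_tensor (by omega) (centAlg N) φ e P hstd')
  have hd : 2 ≤ d := by
    by_contra hcon
    have : d ≤ 1 := by omega
    have : k * d ≤ k * 1 := Nat.mul_le_mul_left k this
    omega
  have hNO : N ≤ isometryGroup F (⇑Q) := hN.1.trans hI
  have hI' : H ≤ isoGL (QuadraticMap.polar (⇑Q)) := fun h hh =>
    (mem_isoGL_iff _ _).2 (asoadj_iso_polar Q h (hI hh))
  -- the adjoint preserves `P (M_k ⊗ 1) P⁻¹`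
  have hstar : ∀ a : Matrix (Fin k) (Fin k) F, ∃ a' : Matrix (Fin k) (Fin k) F,
      oadj (⇑Q) ((P : Matrix (Fin n) (Fin n) F) *
          Matrix.reindexAlgEquiv F F e.symm (a ⊗ₖ (1 : Matrix (Fin d) (Fin d) F)) *
          ((P⁻¹ : GL (Fin n) F) : Matrix (Fin n) (Fin n) F)) =
        (P : Matrix (Fin n) (Fin n) F) *
          Matrix.reindexAlgEquiv F F e.symm (a' ⊗ₖ (1 : Matrix (Fin d) (Fin d) F)) *
          ((P⁻¹ : GL (Fin n) F) : Matrix (Fin n) (Fin n) F) := by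
    intro a
    have hmem : oadj (⇑Q) ((φ.symm a : centAlg N) : Matrix (Fin n) (Fin n) F) ∈ centAlg N :=
      star_mem_cent Q hQ hNO _ (φ.symm a).2
    refine ⟨φ ⟨_, hmem⟩, ?_⟩
    rw [← hstd' a, ← hstd' (φ ⟨_, hmem⟩), AlgEquiv.symm_apply_apply]
  obtain ⟨A, B, hdetAB, hsymAB, hK⟩ := asec_gram_kron Q hQ (by omega) (by omega) e P hstar
  obtain ⟨hAdet, hBdet⟩ := asec_det_factors (by omega) (by omega) A B hdetAB
  have hA0 : A ≠ 0 := asec_ne_zero_of_det (by omega) A hAdet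
  have hB0 : B ≠ 0 := asec_ne_zero_of_det (by omega) B hBdet
  refine ⟨d, e, P, A, B, hd, hnkd, hAdet, hBdet, hK, hHle, ?_⟩
  by_cases h2 : (2 : F) = 0
  · right
    have hneg : ∀ {r : ℕ} (M : Matrix (Fin r) (Fin r) F), -M = M := by
      intro r M
      have h11 : (-1 : F) = 1 := by linear_combination -h2
      rw [← neg_one_smul F M, h11, one_smul]
    have hAB : Aᵀ = A ∧ Bᵀ = B := by
      rcases asec_kron_symm_cases A B hA0 hB0 hsymAB with h | h
      · exact h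
      · exact ⟨by rw [h.1, hneg], by rw [h.2, hneg]⟩
    obtain ⟨hAs, hBs⟩ := hAB
    have hK' := spc_krGram_swap _ e P A B hK
    have hHle' : H ≤ tensorProductSubgroup d k (e.trans (Equiv.prodComm (Fin k) (Fin d))) P := by
      rw [← tensor_swap]
      exact hHle
    have hBdiag : ∀ j, B j j = 0 := by
      refine aspcevalt_core h2 hH (by omega) hd e P B hBs ?_
      intro h hh
      obtain ⟨a, b, μ, hμ, hab, ha, hb⟩ := spc_kron_sim _ e P A B hA0 hB0 hK h (hI' hh) (hHle hh)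
      exact ⟨a, b, μ⁻¹, hab, hb⟩
    have hAdiag : ∀ i, A i i = 0 := by
      refine aspcevalt_core (k := d) (d := k) h2 hH (by omega) (by omega)
        (e.trans (Equiv.prodComm (Fin k) (Fin d))) P A hAs ?_
      intro h hh
      obtain ⟨a, b, μ, hμ, hab, ha, hb⟩ := spc_kron_sim _ _ P B A hB0 hA0 hK' h (hI' hh) (hHle' hh)
      exact ⟨a, b, μ⁻¹, hab, hb⟩
    have hAalt := asec_diag_alt h2 A hAs hAdiag
    have hBalt := asec_diag_alt h2 B hBs hBdiag
    refine ⟨by rw [hAs, hneg], by rw [hBs, hneg], hAalt, hBalt, ?_⟩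
    exact asec_pure_zero h2 Q hI hH (Nat.succ_le_of_lt (hk1.trans hkn)) e P A B hAalt hBalt hK hHle
  · rcases asec_kron_symm_cases A B hA0 hB0 hsymAB with h | h
    · exact Or.inl ⟨h2, h.1, h.2⟩
    · right
      have hAalt := asec_skew_alt h2 A h.1
      have hBalt := asec_skew_alt h2 B h.2
      refine ⟨h.1, h.2, hAalt, hBalt, fun x₁ x₂ => ?_⟩
      have h1 := spc_krGram_ptv _ e P A B hK x₁ x₁ x₂ x₂
      rw [hAalt, zero_mul, QuadraticMap.polar_self, two_smul, ← two_mul] at h1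
      rcases mul_eq_zero.mp h1 with h3 | h3
      · exact absurd h3 h2
      · exact h3

end Cfsg.Agent.Lib.helper8.ASEC
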