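import Mathlib
import Cfsg.Prelude.Def_GeometricClasses
import Cfsg.Agent.Lib.Helper27.ASC.Defs
import Cfsg.Agent.Lib.helper23.ASCO.Defs
import Cfsg.Agent.Lib.Helper19.ASG.Defs
import Cfsg.Agent.Lib.Helper1.ASGCLIF3
import Cfsg.Agent.Lib.Helper25.ASO.Defs
import Cfsg.Agent.Lib.helper23.ASE.Defs
import Cfsg.Agent.Lib.Helper20.ASE10M.Defs
import Cfsg.Agent.Lib.Helper25.ASOADJ

set_option autoImplicit false
set_option linter.unusedVariables false
set_option linter.unusedSectionVars false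

/-!
# Project E10M (leader helper16), FIELD BLOCK stage 2 (sub-leader helper20), piece F5-NORM : `efield_L_norm` (helper8)

`L = K + K j`, generated by `K` and the canonical generators `efieldGen Q K`, is normalised by the isometries normalising `K` and is
closed under the adjoint.  The invariance of `efieldGen` (piece F5-GENINV) is proved here under own-prefixed names
(`e10mf5norm_gen_conj`, `e10mf5norm_gen_adj`), so that this file is self-contained.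
-/

namespace Cfsg.Agent.Lib.Helper16.E10M

open Cfsg Cfsg.Geo Cfsg.Agent.Lib.Helper27.ASC Cfsg.Agent.Lib.helper23.ASCO Cfsg.Agent.Lib.Helper19.ASG
  Cfsg.Agent.Lib.Helper25.ASO
open scoped MatrixGroups Matrix Kronecker

variable {n : ℕ} {F : Type*} [Field F] [Fintype F]

omit [Fintype F] in
/-- `g k g⁻¹ ∈ K` for `g` in the normaliser -/
theorem e10mf5norm_conj_mem (K : Subalgebra F (Matrix (Fin n) (Fin n) F)) (g : GL (Fin n) F)
    (hg : g ∈ subalgebraNormalizer K) (k : Matrix (Fin n) (Fin n) F) (hk : k ∈ K) :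
    (g : Matrix (Fin n) (Fin n) F) * k * ((g⁻¹ : GL (Fin n) F) : Matrix (Fin n) (Fin n) F) ∈ K :=
  (hg k).1 hk

omit [Fintype F] in
/-- `g⁻¹ k g ∈ K` for `g` in the normaliser -/
theorem e10mf5norm_conj_mem' (K : Subalgebra F (Matrix (Fin n) (Fin n) F)) (g : GL (Fin n) F)
    (hg : g ∈ subalgebraNormalizer K) (k : Matrix (Fin n) (Fin n) F) (hk : k ∈ K) :
    ((g⁻¹ : GL (Fin n) F) : Matrix (Fin n) (Fin n) F) * k * (g : Matrix (Fin n) (Fin n) F) ∈ K := by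
  have h := ((subalgebraNormalizer K).inv_mem hg k).1 hk
  rwa [inv_inv] at h

/-- the canonical generators are invariant under conjugation by isometries normalising `K` -/
theorem e10mf5norm_gen_conj (Q : QuadraticForm F (Fin n → F))
    (K : Subalgebra F (Matrix (Fin n) (Fin n) F)) (g : GL (Fin n) F) (hgO : g ∈ isometryGroup F (⇑Q))
    (hgK : g ∈ subalgebraNormalizer K) (x : Matrix (Fin n) (Fin n) F) (hx : x ∈ efieldGen (⇑Q) K) :
    (g : Matrix (Fin n) (Fin n) F) * x * ((g⁻¹ : GL (Fin n) F) : Matrix (Fin n) (Fin n) F) ∈ efieldGen (⇑Q) K := by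
  obtain ⟨hxK, c, hc⟩ := hx
  have hgi : ((g⁻¹ : GL (Fin n) F) : Matrix (Fin n) (Fin n) F) * (g : Matrix (Fin n) (Fin n) F) = 1 :=
    Units.inv_mul g
  have hig : (g : Matrix (Fin n) (Fin n) F) * ((g⁻¹ : GL (Fin n) F) : Matrix (Fin n) (Fin n) F) = 1 :=
    Units.mul_inv g
  refine ⟨fun k hk => ?_, c, fun u => ?_⟩
  · have hk' := e10mf5norm_conj_mem' K g hgK k hk
    have h1 := hxK _ hk'
    calc (g : Matrix (Fin n) (Fin n) F) * x * ((g⁻¹ : GL (Fin n) F) : Matrix (Fin n) (Fin n) F) * k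
        = (g : Matrix (Fin n) (Fin n) F) * (x * (((g⁻¹ : GL (Fin n) F) : Matrix (Fin n) (Fin n) F) * k *
            (g : Matrix (Fin n) (Fin n) F))) * ((g⁻¹ : GL (Fin n) F) : Matrix (Fin n) (Fin n) F) := by
          simp only [Matrix.mul_assoc, hig, Matrix.mul_one]
      _ = (g : Matrix (Fin n) (Fin n) F) * ((((g⁻¹ : GL (Fin n) F) : Matrix (Fin n) (Fin n) F) * k *
            (g : Matrix (Fin n) (Fin n) F)) * x) * ((g⁻¹ : GL (Fin n) F) : Matrix (Fin n) (Fin n) F) := by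
          rw [h1]
      _ = k * ((g : Matrix (Fin n) (Fin n) F) * x * ((g⁻¹ : GL (Fin n) F) : Matrix (Fin n) (Fin n) F)) := by
          simp only [Matrix.mul_assoc]
          rw [← Matrix.mul_assoc (g : Matrix (Fin n) (Fin n) F)
            ((g⁻¹ : GL (Fin n) F) : Matrix (Fin n) (Fin n) F), hig, Matrix.one_mul]
  · have hginv : g⁻¹ ∈ isometryGroup F (⇑Q) := (isometryGroup F (⇑Q)).inv_mem hgO
    set u' : Fin n → F := ((g⁻¹ : GL (Fin n) F) : Matrix (Fin n) (Fin n) F) *ᵥ u with hu'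
    have hu : u = (g : Matrix (Fin n) (Fin n) F) *ᵥ u' := by
      rw [hu', Matrix.mulVec_mulVec, hig, Matrix.one_mulVec]
    have h1 : ((g : Matrix (Fin n) (Fin n) F) * x * ((g⁻¹ : GL (Fin n) F) : Matrix (Fin n) (Fin n) F)) *ᵥ u =
        (g : Matrix (Fin n) (Fin n) F) *ᵥ (x *ᵥ u') := by
      rw [hu', Matrix.mulVec_mulVec, Matrix.mulVec_mulVec, Matrix.mul_assoc]
    rw [h1]
    conv_lhs => rw [hu]
    rw [asoadj_iso_polar Q g hgO, hc u']
    congr 1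
    exact hginv u u

/-- the canonical generators are invariant under the adjoint -/
theorem e10mf5norm_gen_adj (Q : QuadraticForm F (Fin n → F)) (hQ : (QuadraticMap.polarBilin Q).Nondegenerate)
    (K : Subalgebra F (Matrix (Fin n) (Fin n) F)) (hstar : ∀ k ∈ K, oadj (⇑Q) k ∈ K)
    (x : Matrix (Fin n) (Fin n) F) (hx : x ∈ efieldGen (⇑Q) K) : oadj (⇑Q) x ∈ efieldGen (⇑Q) K := by
  obtain ⟨hxK, c, hc⟩ := hx
  refine ⟨fun k hk => ?_, c, fun u => ?_⟩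
  · have hk' := hstar k hk
    have h1 := hxK _ hk'
    have h2 : k = oadj (⇑Q) (oadj (⇑Q) k) := (oadj_oadj Q hQ k).symm
    calc oadj (⇑Q) x * k = oadj (⇑Q) x * oadj (⇑Q) (oadj (⇑Q) k) := by rw [← h2]
      _ = oadj (⇑Q) (oadj (⇑Q) k * x) := (oadj_mul Q hQ _ _).symm
      _ = oadj (⇑Q) (x * oadj (⇑Q) k) := by rw [h1]
      _ = oadj (⇑Q) (oadj (⇑Q) k) * oadj (⇑Q) x := oadj_mul Q hQ _ _
      _ = k * oadj (⇑Q) x := by rw [← h2]
  · rw [QuadraticMap.polar_comm, ← oadj_spec Q hQ x u u]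
    exact hc u

/-- F5-NORM with the invariance of the generators as hypotheses -/
theorem e10mf5norm_core (Q : QuadraticForm F (Fin n → F)) (hQ : (QuadraticMap.polarBilin Q).Nondegenerate)
    (K : Subalgebra F (Matrix (Fin n) (Fin n) F)) (hstar : ∀ k ∈ K, oadj (⇑Q) k ∈ K)
    (L : Subalgebra F (Matrix (Fin n) (Fin n) F)) (hKL : K ≤ L) (j : Matrix (Fin n) (Fin n) F) (hjL : j ∈ L)
    (hL : ∀ x ∈ L, ∃ a ∈ K, ∃ b ∈ K, x = a + b * j)
    (hgen : ∀ x ∈ efieldGen (⇑Q) K, ∃ a ∈ K, ∃ b ∈ K, x = a + b * j)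
    (hgj : ∃ x₁ ∈ efieldGen (⇑Q) K, ∃ a ∈ K, ∃ b ∈ K, j = a + b * x₁)
    {G : Subgroup (GL (Fin n) F)} (hGO : G ≤ isometryGroup F (⇑Q)) (hGK : G ≤ subalgebraNormalizer K) :
    G ≤ subalgebraNormalizer L ∧ ∀ x ∈ L, oadj (⇑Q) x ∈ L := by
  have hgenL : ∀ x ∈ efieldGen (⇑Q) K, x ∈ L := by
    intro x hx
    obtain ⟨a, ha, b, hb, rfl⟩ := hgen x hx
    exact L.add_mem (hKL ha) (L.mul_mem (hKL hb) hjL)
  obtain ⟨x₁, hx₁, a₁, ha₁, b₁, hb₁, hj⟩ := hgj
  -- conjugation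
  have hconj : ∀ g ∈ G, ∀ x ∈ L,
      (g : Matrix (Fin n) (Fin n) F) * x * ((g⁻¹ : GL (Fin n) F) : Matrix (Fin n) (Fin n) F) ∈ L := by
    intro g hg x hx
    have hgi : ((g⁻¹ : GL (Fin n) F) : Matrix (Fin n) (Fin n) F) * (g : Matrix (Fin n) (Fin n) F) = 1 :=
      Units.inv_mul g
    have hcK : ∀ k ∈ K, (g : Matrix (Fin n) (Fin n) F) * k *
        ((g⁻¹ : GL (Fin n) F) : Matrix (Fin n) (Fin n) F) ∈ L :=
      fun k hk => hKL (e10mf5norm_conj_mem K g (hGK hg) k hk)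
    have hcx₁ : (g : Matrix (Fin n) (Fin n) F) * x₁ * ((g⁻¹ : GL (Fin n) F) : Matrix (Fin n) (Fin n) F) ∈ L :=
      hgenL _ (e10mf5norm_gen_conj Q K g (hGO hg) (hGK hg) x₁ hx₁)
    have hmul : ∀ y z : Matrix (Fin n) (Fin n) F,
        (g : Matrix (Fin n) (Fin n) F) * (y * z) * ((g⁻¹ : GL (Fin n) F) : Matrix (Fin n) (Fin n) F) =
          ((g : Matrix (Fin n) (Fin n) F) * y * ((g⁻¹ : GL (Fin n) F) : Matrix (Fin n) (Fin n) F)) *
            ((g : Matrix (Fin n) (Fin n) F) * z * ((g⁻¹ : GL (Fin n) F) : Matrix (Fin n) (Fin n) F)) := by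
      intro y z
      simp only [Matrix.mul_assoc]
      rw [← Matrix.mul_assoc ((g⁻¹ : GL (Fin n) F) : Matrix (Fin n) (Fin n) F)
        (g : Matrix (Fin n) (Fin n) F), hgi, Matrix.one_mul]
    have hcj : (g : Matrix (Fin n) (Fin n) F) * j * ((g⁻¹ : GL (Fin n) F) : Matrix (Fin n) (Fin n) F) ∈ L := by
      rw [hj, Matrix.mul_add, Matrix.add_mul, hmul]
      exact L.add_mem (hcK a₁ ha₁) (L.mul_mem (hcK b₁ hb₁) hcx₁)
    obtain ⟨a, ha, b, hb, rfl⟩ := hL x hx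
    rw [Matrix.mul_add, Matrix.add_mul, hmul]
    exact L.add_mem (hcK a ha) (L.mul_mem (hcK b hb) hcj)
  refine ⟨fun g hg k => ⟨fun hk => hconj g hg k hk, fun hk => ?_⟩, ?_⟩
  · have h1 := hconj g⁻¹ (G.inv_mem hg) _ hk
    rw [inv_inv] at h1
    have hgi : ((g⁻¹ : GL (Fin n) F) : Matrix (Fin n) (Fin n) F) * (g : Matrix (Fin n) (Fin n) F) = 1 :=
      Units.inv_mul g
    have h2 : ((g⁻¹ : GL (Fin n) F) : Matrix (Fin n) (Fin n) F) *
        ((g : Matrix (Fin n) (Fin n) F) * k * ((g⁻¹ : GL (Fin n) F) : Matrix (Fin n) (Fin n) F)) *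
          (g : Matrix (Fin n) (Fin n) F) = k := by
      simp only [Matrix.mul_assoc, hgi, Matrix.mul_one]
      rw [← Matrix.mul_assoc, hgi, Matrix.one_mul]
    rwa [h2] at h1
  · -- the adjoint
    have haK : ∀ k ∈ K, oadj (⇑Q) k ∈ L := fun k hk => hKL (hstar k hk)
    have hax₁ : oadj (⇑Q) x₁ ∈ L := hgenL _ (e10mf5norm_gen_adj Q hQ K hstar x₁ hx₁)
    have haj : oadj (⇑Q) j ∈ L := by
      rw [hj, oadj_add, oadj_mul Q hQ]
      exact L.add_mem (haK a₁ ha₁) (L.mul_mem hax₁ (haK b₁ hb₁))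
    intro x hx
    obtain ⟨a, ha, b, hb, rfl⟩ := hL x hx
    rw [oadj_add, oadj_mul Q hQ]
    exact L.add_mem (haK a ha) (L.mul_mem haj (haK b hb))

/-- F5-NORM -/
theorem efield_L_norm (Q : QuadraticForm F (Fin n → F)) (hQ : (QuadraticMap.polarBilin Q).Nondegenerate)
    (K : Subalgebra F (Matrix (Fin n) (Fin n) F)) (hstar : ∀ k ∈ K, oadj (⇑Q) k ∈ K)
    (L : Subalgebra F (Matrix (Fin n) (Fin n) F)) (hKL : K ≤ L) (j : Matrix (Fin n) (Fin n) F) (hjL : j ∈ L)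
    (hL : ∀ x ∈ L, ∃ a ∈ K, ∃ b ∈ K, x = a + b * j)
    (hgen : ∀ x ∈ efieldGen (⇑Q) K, ∃ a ∈ K, ∃ b ∈ K, x = a + b * j)
    (hgj : ∃ x₁ ∈ efieldGen (⇑Q) K, ∃ a ∈ K, ∃ b ∈ K, j = a + b * x₁)
    {G : Subgroup (GL (Fin n) F)} (hGO : G ≤ isometryGroup F (⇑Q)) (hGK : G ≤ subalgebraNormalizer K) :
    G ≤ subalgebraNormalizer L ∧ ∀ x ∈ L, oadj (⇑Q) x ∈ L :=
  e10mf5norm_core Q hQ K hstar L hKL j hjL hL hgen hgj hGO hGK

end Cfsg.Agent.Lib.Helper16.E10M
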