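import Mathlib
import Cfsg.Prelude.Def_GeometricClasses
import Cfsg.Agent.Lib.Helper27.ASC.Defs

set_option autoImplicit false

namespace Cfsg.Agent.Lib.Helper27.ASC

open Cfsg Cfsg.Geo
open scoped MatrixGroups Matrix

variable {n : ℕ} {F : Type*} [Field F] [Fintype F]

/-- SUBF3 -/
theorem subfieldSubgroup_mono {F₀ F₁ : Subfield F} (h : F₀ ≤ F₁) (B : GL (Fin n) F) :
    subfieldSubgroup F₀ B ≤ subfieldSubgroup F₁ B := by
  unfold subfieldSubgroup
  apply Subgroup.map_mono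
  apply sup_le_sup_right
  rintro _ ⟨g, rfl⟩
  refine ⟨Matrix.GeneralLinearGroup.map (Subfield.inclusion h) g, ?_⟩
  ext i j
  rfl

end Cfsg.Agent.Lib.Helper27.ASC
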