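import Mathlib
import Cfsg.Prelude.Def_GeometricClasses
import Cfsg.Agent.Lib.Helper27.ASC.Defs
import Cfsg.Agent.Lib.Helper19.ASG.Defs
import Cfsg.Agent.Lib.Helper18.ASP.Defs
import Cfsg.Agent.Lib.Helper18.ASPADJ
import Cfsg.Agent.Lib.helper8.ASPC.Defs

set_option autoImplicit false
set_option linter.unusedVariables false
set_option linter.unusedSectionVars false

/-!
# ASP block C, piece C-ANI1 : the anisotropic binary symmetric form and its quadratic field
-/

namespace Cfsg.Agent.Lib.Helper18.ASP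

open Cfsg Cfsg.Geo Cfsg.Agent.Lib.Helper27.ASC Cfsg.Agent.Lib.Helper19.ASG
open scoped MatrixGroups Matrix Kronecker

variable {n : ℕ} {F : Type*} [Field F]

theorem aspcani1_form (S : Matrix (Fin 2) (Fin 2) F) (w : Fin 2 → F) :
    w ⬝ᵥ (S *ᵥ w) = S 0 0 * w 0 ^ 2 + (S 0 1 + S 1 0) * w 0 * w 1 + S 1 1 * w 1 ^ 2 := by
  simp [dotProduct, Matrix.mulVec, Fin.sum_univ_two]
  ring

theorem aspcani1_entries (S a : Matrix (Fin 2) (Fin 2) F) (i j : Fin 2) :
    (aᵀ * S * a) i j = (a 0 i * S 0 0 + a 1 i * S 1 0) * a 0 j + (a 0 i * S 0 1 + a 1 i * S 1 1) * a 1 j := by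
  simp [Matrix.mul_apply, Fin.sum_univ_two]

/-- C-ANI1 -/
theorem spc_binary_anisotropic (h2 : (2 : F) ≠ 0) (S : Matrix (Fin 2) (Fin 2) F) (hS : Sᵀ = S)
    (hani : ∀ w : Fin 2 → F, w ≠ 0 → w ⬝ᵥ (S *ᵥ w) ≠ 0) :
    ∃ (j : Matrix (Fin 2) (Fin 2) F) (c : F), j * j = c • (1 : Matrix (Fin 2) (Fin 2) F) ∧
      (∀ x y : F, x ^ 2 - c * y ^ 2 = 0 → x = 0 ∧ y = 0) ∧ jᵀ * S = -(S * j) ∧
      ∀ (a : Matrix (Fin 2) (Fin 2) F) (μ : F), μ ≠ 0 → aᵀ * S * a = μ • S → (a * j = j * a ∨ a * j = -(j * a)) := by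
  have hq : S 1 0 = S 0 1 := by
    have := congrFun (congrFun hS 0) 1
    simpa using this
  have hp : S 0 0 ≠ 0 := by
    have h := hani ![1, 0] (by intro h; have := congrFun h 0; simp at this)
    rw [aspcani1_form] at h
    simpa using h
  have hc : ∀ x y : F, x ^ 2 - (S 0 1 ^ 2 - S 0 0 * S 1 1) * y ^ 2 = 0 → x = 0 ∧ y = 0 := by
    intro x y hxy
    have hy : y = 0 := by
      by_contra hy
      have h := hani ![x - S 0 1 * y, S 0 0 * y] (by
        intro h
        have := congrFun h 1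
        simp at this
        rcases this with h3 | h3
        · exact hp h3
        · exact hy h3)
      apply h
      rw [aspcani1_form, hq]
      simp only [Matrix.cons_val_zero, Matrix.cons_val_one]
      linear_combination (S 0 0) * hxy
    refine ⟨?_, hy⟩
    rw [hy] at hxy
    have : x ^ 2 = 0 := by linear_combination hxy
    exact pow_eq_zero_iff (two_ne_zero) |>.mp this
  have hc0 : S 0 1 ^ 2 - S 0 0 * S 1 1 ≠ 0 := by
    intro h0
    have := (hc 0 1 (by rw [h0]; ring)).2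
    exact one_ne_zero this
  obtain ⟨j, hj00, hj01, hj10, hj11⟩ : ∃ j : Matrix (Fin 2) (Fin 2) F,
      j 0 0 = S 0 1 ∧ j 0 1 = S 1 1 ∧ j 1 0 = -S 0 0 ∧ j 1 1 = -S 0 1 :=
    ⟨!![S 0 1, S 1 1; -S 0 0, -S 0 1], rfl, rfl, rfl, rfl⟩
  refine ⟨j, S 0 1 ^ 2 - S 0 0 * S 1 1, ?_, hc, ?_, ?_⟩
  · ext x y
    fin_cases x <;> fin_cases y <;>
      simp [Matrix.mul_apply, Fin.sum_univ_two, hj00, hj01, hj10, hj11] <;> ring
  · ext x y
    fin_cases x <;> fin_cases y <;>
      simp [Matrix.mul_apply, Fin.sum_univ_two, hq, hj00, hj01, hj10, hj11]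
  · intro a μ hμ ha
    have h00 := congrFun (congrFun ha 0) 0
    have h01 := congrFun (congrFun ha 0) 1
    have h10 := congrFun (congrFun ha 1) 0
    have h11 := congrFun (congrFun ha 1) 1
    rw [aspcani1_entries, Matrix.smul_apply, smul_eq_mul, hq] at h00 h01 h10 h11
    -- `μ (a j) = det a (j a)`
    have hkey : μ • (a * j) = (a 0 0 * a 1 1 - a 0 1 * a 1 0) • (j * a) := by
      ext x y
      fin_cases x <;> fin_cases y <;>
        simp [Matrix.mul_apply, Fin.sum_univ_two, hj00, hj01, hj10, hj11]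
      · linear_combination (a 0 1) * h00 - (a 0 0) * h01
      · linear_combination (a 0 1) * h10 - (a 0 0) * h11
      · linear_combination (a 1 1) * h00 - (a 1 0) * h01
      · linear_combination (a 1 1) * h10 - (a 1 0) * h11
    -- `det a ^ 2 = μ ^ 2`
    have hdet : (a 0 0 * a 1 1 - a 0 1 * a 1 0) ^ 2 = μ ^ 2 := by
      have h3 : ((a 0 0 * a 1 1 - a 0 1 * a 1 0) ^ 2 - μ ^ 2) * (S 0 1 ^ 2 - S 0 0 * S 1 1) = 0 := by
        linear_combination (-((a 0 1 * S 0 0 + a 1 1 * S 0 1) * a 0 1 + (a 0 1 * S 0 1 + a 1 1 * S 1 1) * a 1 1)) * h00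
          + (-(μ * S 0 0)) * h11
          + ((a 0 1 * S 0 0 + a 1 1 * S 0 1) * a 0 0 + (a 0 1 * S 0 1 + a 1 1 * S 1 1) * a 1 0) * h01
          + (μ * S 0 1) * h10
      rcases mul_eq_zero.mp h3 with h4 | h4
      · linear_combination h4
      · exact absurd h4 hc0
    have hcases : a 0 0 * a 1 1 - a 0 1 * a 1 0 = μ ∨ a 0 0 * a 1 1 - a 0 1 * a 1 0 = -μ := by
      have : (a 0 0 * a 1 1 - a 0 1 * a 1 0 - μ) * (a 0 0 * a 1 1 - a 0 1 * a 1 0 + μ) = 0 := by
        linear_combination hdet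
      rcases mul_eq_zero.mp this with h | h
      · left; linear_combination h
      · right; linear_combination h
    rcases hcases with h | h
    · left
      rw [h] at hkey
      exact smul_right_injective _ hμ hkey
    · right
      rw [h, neg_smul, ← smul_neg] at hkey
      exact smul_right_injective _ hμ hkey

end Cfsg.Agent.Lib.Helper18.ASP
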