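import Mathlib
import Cfsg.Prelude.Def_GeometricClasses
import Cfsg.Agent.Lib.Helper27.ASC.Defs
import Cfsg.Agent.Lib.Helper19.ASG.Defs
import Cfsg.Agent.Lib.Helper18.ASP.Defs
import Cfsg.Agent.Lib.Helper18.ASPADJ
import Cfsg.Agent.Lib.helper8.ASPC.Defs
import Cfsg.Agent.Lib.Helper28.OTens
import Cfsg.Agent.Lib.Helper20.ASPCACT
import Cfsg.Agent.Lib.Helper20.ASPCSIM

set_option autoImplicit false
set_option linter.unusedVariables false
set_option linter.unusedSectionVars false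

/-!
# ASP block C, piece C-HYP2 : the symmetric factor is a hyperbolic plane => two totally singular `m`-spaces
-/

namespace Cfsg.Agent.Lib.Helper18.ASP

open Cfsg Cfsg.Geo Cfsg.Agent.Lib.Helper27.ASC Cfsg.Agent.Lib.Helper19.ASG
open Cfsg.Agent.Lib.Helper28.OTens
open scoped MatrixGroups Matrix Kronecker

variable {n : ℕ} {F : Type*} [Field F]

theorem aspchyp2_ne_zero_of_det {k : ℕ} (hk : 0 < k) (A : Matrix (Fin k) (Fin k) F) (hA : A.det ≠ 0) : A ≠ 0 := by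
  rintro rfl
  have : Nonempty (Fin k) := ⟨⟨0, hk⟩⟩
  exact hA Matrix.det_zero

/-- a similitude maps isotropic vectors to isotropic vectors -/
theorem aspchyp2_iso {k : ℕ} (S a : Matrix (Fin k) (Fin k) F) (μ : F) (ha : aᵀ * S * a = μ • S) (w : Fin k → F)
    (hw : w ⬝ᵥ (S *ᵥ w) = 0) : (a *ᵥ w) ⬝ᵥ (S *ᵥ (a *ᵥ w)) = 0 := by
  have h1 : (a *ᵥ w) ⬝ᵥ (S *ᵥ (a *ᵥ w)) = w ⬝ᵥ ((aᵀ * S * a) *ᵥ w) := by
    have h2 : (aᵀ * S * a) *ᵥ w = aᵀ *ᵥ (S *ᵥ (a *ᵥ w)) := by
      rw [Matrix.mulVec_mulVec, Matrix.mulVec_mulVec, Matrix.mul_assoc]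
    rw [h2, Matrix.dotProduct_mulVec w, Matrix.vecMul_transpose]
  rw [h1, ha, Matrix.smul_mulVec, dotProduct_smul, hw, smul_zero]

/-- the action of `P R(a ⊗ b) P⁻¹` on `tau` -/
theorem aspchyp2_act {k d : ℕ} (e : Fin n ≃ Fin k × Fin d) (P : GL (Fin n) F) (h : GL (Fin n) F)
    (a : Matrix (Fin k) (Fin k) F) (b : Matrix (Fin d) (Fin d) F)
    (hh : (h : Matrix (Fin n) (Fin n) F) = (P : Matrix (Fin n) (Fin n) F) *
        Matrix.reindexAlgEquiv F F e.symm (a ⊗ₖ b) * ((P⁻¹ : GL (Fin n) F) : Matrix (Fin n) (Fin n) F))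
    (α : Fin k → F) (v : Fin d → F) :
    (h : Matrix (Fin n) (Fin n) F) *ᵥ tau e P α v = tau e P (a *ᵥ α) (b *ᵥ v) := by
  unfold tau
  rw [hh]
  have h1 := spc_kr_act e P a b (ptv α v)
  rw [spc_kr_act_ptv] at h1
  exact h1

/-- C-HYP2 -/
theorem spc_tensor_hyp [Fintype F] {m : ℕ} (hm : 2 ≤ m) (hn : n = 2 * m) (f : (Fin n → F) → (Fin n → F) → F)
    (hf : IsSymplecticForm f) {H : Subgroup (GL (Fin n) F)} (hI : H ≤ isoGL f) (ho : Odd (Fintype.card F)) {d : ℕ}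
    (e : Fin n ≃ Fin 2 × Fin d) (P : GL (Fin n) F) (S : Matrix (Fin 2) (Fin 2) F) (Λ : Matrix (Fin d) (Fin d) F)
    (hS : Sᵀ = S) (hSdet : S.det ≠ 0) (hΛdet : Λ.det ≠ 0) (hK : KrGram f e P S Λ)
    (hH : H ≤ tensorProductSubgroup 2 d e P)
    (w w' : Fin 2 → F) (hw0 : w ⬝ᵥ (S *ᵥ w) = 0) (hw'0 : w' ⬝ᵥ (S *ᵥ w') = 0)
    (hli : ∀ s t : F, s • w + t • w' = 0 → s = 0 ∧ t = 0)
    (hall : ∀ v : Fin 2 → F, v ⬝ᵥ (S *ᵥ v) = 0 → (∃ c : F, v = c • w) ∨ (∃ c : F, v = c • w')) :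
    InSp m f H := by
  classical
  have hd : d = m := by
    have := Fintype.card_congr e
    simp only [Fintype.card_fin, Fintype.card_prod] at this
    omega
  subst hd
  have hw : w ≠ 0 := by
    rintro rfl
    exact one_ne_zero (hli 1 0 (by simp)).1
  have hw' : w' ≠ 0 := by
    rintro rfl
    exact one_ne_zero (hli 0 1 (by simp)).2
  have hS0 : S ≠ 0 := aspchyp2_ne_zero_of_det (by norm_num) S hSdet
  have hΛ0 : Λ ≠ 0 := aspchyp2_ne_zero_of_det (by omega) Λ hΛdet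
  obtain ⟨D, hD⟩ : ∃ D : Fin 2 → Submodule F (Fin n → F), D = ![blk e P w, blk e P w'] := ⟨_, rfl⟩
  have hD0 : D 0 = blk e P w := by rw [hD]; rfl
  have hD1 : D 1 = blk e P w' := by rw [hD]; rfl
  have hfr : ∀ i, Module.finrank F (D i) = d := by
    intro i
    fin_cases i
    · show Module.finrank F (D 0) = d
      rw [hD0]; exact blk_finrank e P hw
    · show Module.finrank F (D 1) = d
      rw [hD1]; exact blk_finrank e P hw'
  have htau0 : ∀ α : Fin 2 → F, tau e P α (0 : Fin d → F) = 0 := by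
    intro α
    have := tau_smul_right e P 0 α 0
    rw [zero_smul, zero_smul] at this
    exact this
  have hdisj : Disjoint (D 0) (D 1) := by
    rw [Submodule.disjoint_def, hD0, hD1]
    intro x hx0 hx1
    obtain ⟨v₁, rfl⟩ := (mem_blk e P w x).1 hx0
    obtain ⟨v₂, h2⟩ := (mem_blk e P w' _).1 hx1
    have hpt := tau_pt e P h2
    have hv1 : v₁ = 0 := by
      funext j
      have h3 := hli (v₁ j) (-(v₂ j)) (by
        funext i
        have h4 := congrFun hpt (i, j)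
        simp only [pt] at h4
        simp only [Pi.add_apply, Pi.smul_apply, smul_eq_mul, Pi.zero_apply]
        linear_combination -h4)
      exact h3.1
    rw [hv1, htau0]
  have hdec : IsMDecomposition d D := by
    refine ⟨le_refl 2, by omega, hfr, ?_, ?_⟩
    · exact (iSupIndep_pair (by decide : (0 : Fin 2) ≠ 1)
        (by intro k; fin_cases k <;> simp)).mpr hdisj
    · have h1 := Submodule.finrank_sup_add_finrank_inf_eq (D 0) (D 1)
      rw [hdisj.eq_bot, finrank_bot, hfr, hfr, add_zero] at h1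
      have h2 : D 0 ⊔ D 1 = ⊤ := by
        apply Submodule.eq_top_of_finrank_eq
        rw [h1, Module.finrank_fin_fun, hn]
        ring
      rw [eq_top_iff, ← h2]
      exact sup_le (le_iSup D 0) (le_iSup D 1)
  have hts : ∀ i, IsTotallySingularFor f (D i) := by
    intro i
    fin_cases i
    · show IsTotallySingularFor f (D 0)
      rw [hD0]
      intro u hu v hv
      obtain ⟨v₁, rfl⟩ := (mem_blk e P w u).1 hu
      obtain ⟨v₂, rfl⟩ := (mem_blk e P w v).1 hv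
      have := spc_krGram_ptv f e P S Λ hK w w v₁ v₂
      rw [hw0, zero_mul] at this
      exact this
    · show IsTotallySingularFor f (D 1)
      rw [hD1]
      intro u hu v hv
      obtain ⟨v₁, rfl⟩ := (mem_blk e P w' u).1 hu
      obtain ⟨v₂, rfl⟩ := (mem_blk e P w' v).1 hv
      have := spc_krGram_ptv f e P S Λ hK w' w' v₁ v₂
      rw [hw'0, zero_mul] at this
      exact this
  refine inSp_of_tspair hI D ho hdec hts ?_
  intro h hh
  obtain ⟨a, b, μ, hμ, hhm, ha, hb⟩ := spc_kron_sim f e P S Λ hS0 hΛ0 hK h (hI hh) (hH hh)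
  have hact := aspchyp2_act e P h (a : Matrix (Fin 2) (Fin 2) F) (b : Matrix (Fin d) (Fin d) F) hhm
  -- `a` is injective on vectors
  have hainj : ∀ x : Fin 2 → F, (a : Matrix (Fin 2) (Fin 2) F) *ᵥ x = 0 → x = 0 := by
    intro x hx
    have := congrArg (fun z => ((a⁻¹ : GL (Fin 2) F) : Matrix (Fin 2) (Fin 2) F) *ᵥ z) hx
    simp only [Matrix.mulVec_mulVec, ← Units.val_mul, inv_mul_cancel, Units.val_one, Matrix.one_mulVec,
      Matrix.mulVec_zero] at this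
    exact this
  -- mapping blocks
  have key : ∀ (α β : Fin 2 → F) (c : F), (a : Matrix (Fin 2) (Fin 2) F) *ᵥ α = c • β →
      ∀ x ∈ blk e P α, (h : Matrix (Fin n) (Fin n) F) *ᵥ x ∈ blk e P β := by
    intro α β c hc x hx
    obtain ⟨v, rfl⟩ := (mem_blk e P α x).1 hx
    rw [hact, hc, tau_smul_left, ← tau_smul_right]
    exact (mem_blk e P β _).2 ⟨_, rfl⟩
  -- impossible cases
  have himp : ∀ (β : Fin 2 → F) (c₁ c₂ : F), (a : Matrix (Fin 2) (Fin 2) F) *ᵥ w = c₁ • β →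
      (a : Matrix (Fin 2) (Fin 2) F) *ᵥ w' = c₂ • β → False := by
    intro β c₁ c₂ h1 h2
    have h3 : (a : Matrix (Fin 2) (Fin 2) F) *ᵥ (c₂ • w + (-c₁) • w') = 0 := by
      rw [Matrix.mulVec_add, Matrix.mulVec_smul, Matrix.mulVec_smul, h1, h2, smul_smul, smul_smul,
        ← add_smul]
      have h5 : c₂ * c₁ + -c₁ * c₂ = 0 := by ring
      rw [h5, zero_smul]
    have h4 := hli _ _ (hainj _ h3)
    have hc1 : c₁ = 0 := by simpa using h4.2
    rw [hc1, zero_smul] at h1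
    exact hw (hainj _ h1)
  rcases hall _ (aspchyp2_iso S _ μ ha w hw0) with ⟨c₁, h1⟩ | ⟨c₁, h1⟩ <;>
    rcases hall _ (aspchyp2_iso S _ μ ha w' hw'0) with ⟨c₂, h2⟩ | ⟨c₂, h2⟩
  · exact (himp w c₁ c₂ h1 h2).elim
  · refine Cfsg.Agent.Lib.Helper28.DecGen.stab_of_maps D hfr h 1 ?_
    intro i
    fin_cases i
    · show ∀ x ∈ D 0, _ ∈ D 0
      rw [hD0]; exact key w w c₁ h1
    · show ∀ x ∈ D 1, _ ∈ D 1
      rw [hD1]; exact key w' w' c₂ h2
  · refine Cfsg.Agent.Lib.Helper28.DecGen.stab_of_maps D hfr h (Equiv.swap 0 1) ?_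
    intro i
    fin_cases i
    · show ∀ x ∈ D 0, _ ∈ D ((Equiv.swap (0 : Fin 2) 1) 0)
      rw [Equiv.swap_apply_left, hD0, hD1]; exact key w w' c₁ h1
    · show ∀ x ∈ D 1, _ ∈ D ((Equiv.swap (0 : Fin 2) 1) 1)
      rw [Equiv.swap_apply_right, hD0, hD1]; exact key w' w c₂ h2
  · exact (himp w' c₁ c₂ h1 h2).elim

end Cfsg.Agent.Lib.Helper18.ASP
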