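import Mathlib
import Cfsg.Prelude.Def_GeometricClasses
import Cfsg.Agent.Lib.Helper27.ASC.Defs
import Cfsg.Agent.Lib.Helper19.ASG.Defs
import Cfsg.Agent.Lib.Helper18.ASP.Defs
import Cfsg.Agent.Lib.helper8.ASPC.Defs
import Cfsg.Agent.Lib.Helper25.ASO.Defs
import Cfsg.Agent.Lib.Helper25.ASOADJ
import Cfsg.Agent.Lib.Helper28.OTens
import Cfsg.Agent.Lib.Helper20.ASPCACT
import Cfsg.Agent.Lib.Helper20.ASPCSIM
import Cfsg.Agent.Lib.Helper22.ASPCFG
import Cfsg.Agent.Lib.Helper22.ASPCSWAPF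
import Cfsg.Agent.Lib.Helper22.ASPCANI2
import Cfsg.Agent.Lib.Helper22.ASPCANI5
import Cfsg.Agent.Lib.Helper18.ASPCANI3
import Cfsg.Agent.Lib.Helper18.ASPCANI4
import Cfsg.Agent.Lib.helper4.ASPCHYP1
import Cfsg.Agent.Lib.helper8.ASPCANI1
import Cfsg.Agent.Lib.helper8.ASPCHYP2
import Cfsg.Agent.Lib.Helper10.ASGCSWAP

set_option autoImplicit false
set_option linter.unusedVariables false
set_option linter.unusedSectionVars false

/-!
# Project ASE, block C : follow-ups of `asec_tensor_core` (helper8)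

* `asec_tspair` : (any form `f`) the first Kronecker factor `S` is a binary form with exactly two isotropic lines `⟨w⟩, ⟨w'⟩`
  => the two blocks `P (w ⊗ F^d)`, `P (w' ⊗ F^d)` form a decomposition into two totally singular subspaces permuted by `H`;
* `asec_sym_dim2` : `2 ≠ 0`, `sym ⊗ sym` with first factor of dimension 2 => a pair of totally singular (for `Q`) `d`-spaces
  stabilised by `H`, or a field `K` of degree 2, adjoint-closed, not self-adjoint, acting by similitudes of `Q`, normalised by `H`;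
* `asec_plus_of_pure_left/right` : `Q` vanishes on the pure tensors and one factor has dimension 2 => `Q` is of plus type;
* `asec_forms_sym`, `asec_forms_alt` : the tensor form structure with `f₁ = formOfGram id A`, `f₂ = formOfGram id B`.
-/

namespace Cfsg.Agent.Lib.helper8.ASEC

open Cfsg Cfsg.Geo Cfsg.Agent.Lib.Helper27.ASC Cfsg.Agent.Lib.Helper19.ASG Cfsg.Agent.Lib.Helper18.ASP
  Cfsg.Agent.Lib.Helper25.ASO
open Cfsg.Agent.Lib.Helper28.OTens
open scoped MatrixGroups Matrix Kronecker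

variable {n : ℕ} {F : Type*} [Field F]

/-- the first factor is a binary form with exactly two isotropic lines: two totally singular blocks permuted by `H` -/
theorem asec_tspair (f : (Fin n → F) → (Fin n → F) → F) {H : Subgroup (GL (Fin n) F)} (hI : H ≤ isoGL f) {d : ℕ}
    (hd : 0 < d) (e : Fin n ≃ Fin 2 × Fin d) (P : GL (Fin n) F) (S : Matrix (Fin 2) (Fin 2) F)
    (Λ : Matrix (Fin d) (Fin d) F) (hS0 : S ≠ 0) (hΛ0 : Λ ≠ 0) (hK : KrGram f e P S Λ)
    (hH : H ≤ tensorProductSubgroup 2 d e P)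
    (w w' : Fin 2 → F) (hw0 : w ⬝ᵥ (S *ᵥ w) = 0) (hw'0 : w' ⬝ᵥ (S *ᵥ w') = 0)
    (hli : ∀ s t : F, s • w + t • w' = 0 → s = 0 ∧ t = 0)
    (hall : ∀ v : Fin 2 → F, v ⬝ᵥ (S *ᵥ v) = 0 → (∃ c : F, v = c • w) ∨ (∃ c : F, v = c • w')) :
    ∃ D : Fin 2 → Submodule F (Fin n → F), IsMDecomposition d D ∧ (∀ i, IsTotallySingularFor f (D i)) ∧
      H ≤ decompositionStabilizer D := by
  classical
  have hn : n = 2 * d := by
    have := Fintype.card_congr e
    simpa using this
  have hw : w ≠ 0 := by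
    rintro rfl
    exact one_ne_zero (hli 1 0 (by simp)).1
  have hw' : w' ≠ 0 := by
    rintro rfl
    exact one_ne_zero (hli 0 1 (by simp)).2
  obtain ⟨D, hD⟩ : ∃ D : Fin 2 → Submodule F (Fin n → F), D = ![blk e P w, blk e P w'] := ⟨_, rfl⟩
  have hD0 : D 0 = blk e P w := by rw [hD]; rfl
  have hD1 : D 1 = blk e P w' := by rw [hD]; rfl
  have hfr : ∀ i, Module.finrank F (D i) = d := by
    intro i
    fin_cases i
    · show Module.finrank F (D 0) = d
      rw [hD0]; exact blk_finrank e P hw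
    · show Module.finrank F (D 1) = d
      rw [hD1]; exact blk_finrank e P hw'
  have htau0 : ∀ α : Fin 2 → F, tau e P α (0 : Fin d → F) = 0 := by
    intro α
    have := tau_smul_right e P 0 α 0
    rw [zero_smul, zero_smul] at this
    exact this
  have hdisj : Disjoint (D 0) (D 1) := by
    rw [Submodule.disjoint_def, hD0, hD1]
    intro x hx0 hx1
    obtain ⟨v₁, rfl⟩ := (mem_blk e P w x).1 hx0
    obtain ⟨v₂, h2⟩ := (mem_blk e P w' _).1 hx1
    have hpt := tau_pt e P h2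
    have hv1 : v₁ = 0 := by
      funext j
      have h3 := hli (v₁ j) (-(v₂ j)) (by
        funext i
        have h4 := congrFun hpt (i, j)
        simp only [pt] at h4
        simp only [Pi.add_apply, Pi.smul_apply, smul_eq_mul, Pi.zero_apply]
        linear_combination -h4)
      exact h3.1
    rw [hv1, htau0]
  have hdec : IsMDecomposition d D := by
    refine ⟨le_refl 2, hd, hfr, ?_, ?_⟩
    · exact (iSupIndep_pair (by decide : (0 : Fin 2) ≠ 1)
        (by intro k; fin_cases k <;> simp)).mpr hdisj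
    · have h1 := Submodule.finrank_sup_add_finrank_inf_eq (D 0) (D 1)
      rw [hdisj.eq_bot, finrank_bot, hfr, hfr, add_zero] at h1
      have h2 : D 0 ⊔ D 1 = ⊤ := by
        apply Submodule.eq_top_of_finrank_eq
        rw [h1, Module.finrank_fin_fun, hn]
        ring
      rw [eq_top_iff, ← h2]
      exact sup_le (le_iSup D 0) (le_iSup D 1)
  have hts : ∀ i, IsTotallySingularFor f (D i) := by
    intro i
    fin_cases i
    · show IsTotallySingularFor f (D 0)
      rw [hD0]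
      intro u hu v hv
      obtain ⟨v₁, rfl⟩ := (mem_blk e P w u).1 hu
      obtain ⟨v₂, rfl⟩ := (mem_blk e P w v).1 hv
      have := spc_krGram_ptv f e P S Λ hK w w v₁ v₂
      rw [hw0, zero_mul] at this
      exact this
    · show IsTotallySingularFor f (D 1)
      rw [hD1]
      intro u hu v hv
      obtain ⟨v₁, rfl⟩ := (mem_blk e P w' u).1 hu
      obtain ⟨v₂, rfl⟩ := (mem_blk e P w' v).1 hv
      have := spc_krGram_ptv f e P S Λ hK w' w' v₁ v₂
      rw [hw'0, zero_mul] at this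
      exact this
  refine ⟨D, hdec, hts, ?_⟩
  intro h hh
  obtain ⟨a, b, μ, hμ, hhm, ha, hb⟩ := spc_kron_sim f e P S Λ hS0 hΛ0 hK h (hI hh) (hH hh)
  have hact := aspchyp2_act e P h (a : Matrix (Fin 2) (Fin 2) F) (b : Matrix (Fin d) (Fin d) F) hhm
  have hainj : ∀ x : Fin 2 → F, (a : Matrix (Fin 2) (Fin 2) F) *ᵥ x = 0 → x = 0 := by
    intro x hx
    have := congrArg (fun z => ((a⁻¹ : GL (Fin 2) F) : Matrix (Fin 2) (Fin 2) F) *ᵥ z) hx
    simp only [Matrix.mulVec_mulVec, ← Units.val_mul, inv_mul_cancel, Units.val_one, Matrix.one_mulVec,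
      Matrix.mulVec_zero] at this
    exact this
  have key : ∀ (α β : Fin 2 → F) (c : F), (a : Matrix (Fin 2) (Fin 2) F) *ᵥ α = c • β →
      ∀ x ∈ blk e P α, (h : Matrix (Fin n) (Fin n) F) *ᵥ x ∈ blk e P β := by
    intro α β c hc x hx
    obtain ⟨v, rfl⟩ := (mem_blk e P α x).1 hx
    rw [hact, hc, tau_smul_left, ← tau_smul_right]
    exact (mem_blk e P β _).2 ⟨_, rfl⟩
  have himp : ∀ (β : Fin 2 → F) (c₁ c₂ : F), (a : Matrix (Fin 2) (Fin 2) F) *ᵥ w = c₁ • β →
      (a : Matrix (Fin 2) (Fin 2) F) *ᵥ w' = c₂ • β → False := by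
    intro β c₁ c₂ h1 h2
    have h3 : (a : Matrix (Fin 2) (Fin 2) F) *ᵥ (c₂ • w + (-c₁) • w') = 0 := by
      rw [Matrix.mulVec_add, Matrix.mulVec_smul, Matrix.mulVec_smul, h1, h2, smul_smul, smul_smul,
        ← add_smul]
      have h5 : c₂ * c₁ + -c₁ * c₂ = 0 := by ring
      rw [h5, zero_smul]
    have h4 := hli _ _ (hainj _ h3)
    have hc1 : c₁ = 0 := by simpa using h4.2
    rw [hc1, zero_smul] at h1
    exact hw (hainj _ h1)
  rcases hall _ (aspchyp2_iso S _ μ ha w hw0) with ⟨c₁, h1⟩ | ⟨c₁, h1⟩ <;>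
    rcases hall _ (aspchyp2_iso S _ μ ha w' hw'0) with ⟨c₂, h2⟩ | ⟨c₂, h2⟩
  · exact (himp w c₁ c₂ h1 h2).elim
  · refine Cfsg.Agent.Lib.Helper28.DecGen.stab_of_maps D hfr h 1 ?_
    intro i
    fin_cases i
    · show ∀ x ∈ D 0, _ ∈ D 0
      rw [hD0]; exact key w w c₁ h1
    · show ∀ x ∈ D 1, _ ∈ D 1
      rw [hD1]; exact key w' w' c₂ h2
  · refine Cfsg.Agent.Lib.Helper28.DecGen.stab_of_maps D hfr h (Equiv.swap 0 1) ?_
    intro i
    fin_cases i
    · show ∀ x ∈ D 0, _ ∈ D ((Equiv.swap (0 : Fin 2) 1) 0)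
      rw [Equiv.swap_apply_left, hD0, hD1]; exact key w w' c₁ h1
    · show ∀ x ∈ D 1, _ ∈ D ((Equiv.swap (0 : Fin 2) 1) 1)
      rw [Equiv.swap_apply_right, hD0, hD1]; exact key w' w c₂ h2
  · exact (himp w' c₁ c₂ h1 h2).elim


theorem asec_ne_zero_of_det' {k : ℕ} (hk : 0 < k) (A : Matrix (Fin k) (Fin k) F) (hA : A.det ≠ 0) : A ≠ 0 := by
  rintro rfl
  have : Nonempty (Fin k) := ⟨⟨0, hk⟩⟩
  exact hA Matrix.det_zero

/-- isometries of `Q` are isometries of its polar form -/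
theorem asec_iso_polar (Q : QuadraticForm F (Fin n → F)) {H : Subgroup (GL (Fin n) F)}
    (hI : H ≤ isometryGroup F (⇑Q)) : H ≤ isoGL (QuadraticMap.polar (⇑Q)) := by
  intro h hh
  refine (mem_isoGL_iff _ _).2 (fun u v => ?_)
  have h1 : ∀ x : Fin n → F, Q ((h : Matrix (Fin n) (Fin n) F) *ᵥ x) = Q x := fun x => hI hh x x
  unfold QuadraticMap.polar
  rw [← Matrix.mulVec_add, h1, h1, h1]

/-- `2 ≠ 0` : a vector isotropic for the polar form is singular -/
theorem asec_singular_of_polar (h2 : (2 : F) ≠ 0) (Q : QuadraticForm F (Fin n → F)) (v : Fin n → F)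
    (hv : QuadraticMap.polar (⇑Q) v v = 0) : Q v = 0 := by
  rw [QuadraticMap.polar_self, two_smul, ← two_mul] at hv
  rcases mul_eq_zero.mp hv with h | h
  · exact absurd h h2
  · exact h

/-- `2 ≠ 0`, `sym ⊗ sym` with first factor of dimension 2: a pair of totally singular `d`-spaces (the binary factor is
isotropic), or a quadratic field with non-trivial adjoint acting by similitudes of `Q` (the binary factor is anisotropic). -/
theorem asec_sym_dim2 (h2 : (2 : F) ≠ 0) (Q : QuadraticForm F (Fin n → F)) {H : Subgroup (GL (Fin n) F)}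
    (hI : H ≤ isometryGroup F (⇑Q)) {d : ℕ} (hd : 0 < d) (e : Fin n ≃ Fin 2 × Fin d) (P : GL (Fin n) F)
    (S : Matrix (Fin 2) (Fin 2) F) (Λ : Matrix (Fin d) (Fin d) F) (hS : Sᵀ = S) (hSdet : S.det ≠ 0)
    (hΛdet : Λ.det ≠ 0) (hK : KrGram (QuadraticMap.polar (⇑Q)) e P S Λ)
    (hH : H ≤ tensorProductSubgroup 2 d e P) :
    (∃ D : Fin 2 → Submodule F (Fin n → F), IsMDecomposition d D ∧ (∀ i, IsTotallySingularQuad (⇑Q) (D i)) ∧
      H ≤ decompositionStabilizer D) ∨
    (∃ K : Subalgebra F (Matrix (Fin n) (Fin n) F), IsFieldSubalgebra 2 K ∧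
      IsAdjointClosedFor (QuadraticMap.polar (⇑Q)) K ∧ ¬ IsSelfAdjointFor (QuadraticMap.polar (⇑Q)) K ∧
      (∀ k ∈ K, ∃ c : F, ∀ v : Fin n → F, Q (k *ᵥ v) = c * Q v) ∧ H ≤ subalgebraNormalizer K) := by
  classical
  have hI' := asec_iso_polar Q hI
  have hS0 : S ≠ 0 := asec_ne_zero_of_det' (by norm_num) S hSdet
  have hΛ0 : Λ ≠ 0 := asec_ne_zero_of_det' hd Λ hΛdet
  by_cases hiso : ∃ w : Fin 2 → F, w ≠ 0 ∧ w ⬝ᵥ (S *ᵥ w) = 0
  · left
    obtain ⟨w, hw, hw0⟩ := hiso
    obtain ⟨w', hw'0, hli, hall⟩ := spc_binary_isotropic h2 S hS hSdet w hw hw0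
    obtain ⟨D, hdec, hts, hst⟩ := asec_tspair _ hI' hd e P S Λ hS0 hΛ0 hK hH w w' hw0 hw'0 hli hall
    exact ⟨D, hdec, fun i v hv => asec_singular_of_polar h2 Q v (hts i v hv v hv), hst⟩
  · right
    have hani : ∀ w : Fin 2 → F, w ≠ 0 → w ⬝ᵥ (S *ᵥ w) ≠ 0 := fun w hw h0 => hiso ⟨w, hw, h0⟩
    obtain ⟨j, c, hj, hc, hadj, hsim⟩ := spc_binary_anisotropic h2 S hS hani
    obtain ⟨K, hKf, hKmem⟩ := spc_ani_field hd e P j c hj hc
    have hadjst : ∀ s t : F, (s • (1 : Matrix (Fin 2) (Fin 2) F) + t • j)ᵀ * S =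
        S * (s • (1 : Matrix (Fin 2) (Fin 2) F) + (-t) • j) := by
      intro s t
      rw [Matrix.transpose_add, Matrix.transpose_smul, Matrix.transpose_smul, Matrix.transpose_one,
        Matrix.add_mul, Matrix.mul_add, Matrix.smul_mul, Matrix.smul_mul, Matrix.mul_smul, Matrix.mul_smul,
        Matrix.one_mul, Matrix.mul_one, hadj, neg_smul, smul_neg]
    refine ⟨K, hKf, ?_, ?_, ?_, spc_ani_normalizes _ hI' e P S Λ hS0 hΛ0 hK hH j hsim K hKmem⟩
    · intro x hx
      obtain ⟨s, t, rfl⟩ := (hKmem x).1 hx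
      exact ⟨_, (hKmem _).2 ⟨s, -t, rfl⟩, fun u v => spc_kron_adjoint _ e P S Λ hK _ _ (hadjst s t) u v⟩
    · intro hsa
      have hjK : (P : Matrix (Fin n) (Fin n) F) *
          Matrix.reindexAlgEquiv F F e.symm (j ⊗ₖ (1 : Matrix (Fin d) (Fin d) F)) *
          ((P⁻¹ : GL (Fin n) F) : Matrix (Fin n) (Fin n) F) ∈ K :=
        (hKmem _).2 ⟨0, 1, by rw [zero_smul, one_smul, zero_add]⟩
      have h1 := spc_kron_selfadjoint _ e P S Λ hΛ0 hK j (fun u v => hsa _ hjK u v)
      rw [hadj] at h1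
      have h3 : S * j = 0 := by
        have h4 : (2 : F) • (S * j) = 0 := by
          rw [two_smul]
          exact (eq_neg_iff_add_eq_zero.mp h1.symm)
        rcases smul_eq_zero.mp h4 with h5 | h5
        · exact absurd h5 h2
        · exact h5
      have hSunit : IsUnit S.det := isUnit_iff_ne_zero.mpr hSdet
      have hj0 : j = 0 := by
        have := congrArg (fun M => S⁻¹ * M) h3
        simpa [← Matrix.mul_assoc, Matrix.nonsing_inv_mul S hSunit] using this
      have hc0 : c = 0 := by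
        rw [hj0, Matrix.zero_mul] at hj
        have := congrFun (congrFun hj 0) 0
        simpa using this.symm
      have := (hc 0 1 (by rw [hc0]; ring)).2
      exact one_ne_zero this
    · intro x hx
      obtain ⟨s, t, rfl⟩ := (hKmem x).1 hx
      refine ⟨s * s - t * t * c, fun v => ?_⟩
      -- `Q (k v) = polar (k v) (k v) / 2 = polar v (k' k v) / 2`
      have hpol : ∀ u : Fin n → F, QuadraticMap.polar (⇑Q) u u = 2 * Q u := by
        intro u
        rw [QuadraticMap.polar_self, two_smul, two_mul]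
      have hprod : aspcani2Psi e P (s • (1 : Matrix (Fin 2) (Fin 2) F) + (-t) • j) *
          aspcani2Psi e P (s • (1 : Matrix (Fin 2) (Fin 2) F) + t • j) =
          (s * s - t * t * c) • (1 : Matrix (Fin n) (Fin n) F) := by
        rw [← map_mul, aspcani2_mul j c hj, map_add, map_smul, map_smul, map_one]
        have e1 : s * t + -t * s = 0 := by ring
        have e2 : s * s + -t * t * c = s * s - t * t * c := by ring
        rw [e1, zero_smul, add_zero, e2]
      have h1 := spc_kron_adjoint _ e P S Λ hK _ _ (hadjst s t) v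
        (((P : Matrix (Fin n) (Fin n) F) *
          Matrix.reindexAlgEquiv F F e.symm
            ((s • (1 : Matrix (Fin 2) (Fin 2) F) + t • j) ⊗ₖ (1 : Matrix (Fin d) (Fin d) F)) *
          ((P⁻¹ : GL (Fin n) F) : Matrix (Fin n) (Fin n) F)) *ᵥ v)
      rw [Matrix.mulVec_mulVec, ← aspcani2Psi_apply, ← aspcani2Psi_apply, hprod, Matrix.smul_mulVec,
        Matrix.one_mulVec, hpol] at h1
      have h4 : QuadraticMap.polar (⇑Q) v ((s * s - t * t * c) • v) =
          (s * s - t * t * c) * QuadraticMap.polar (⇑Q) v v := by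
        rw [QuadraticMap.polar_smul_right, smul_eq_mul]
      rw [h4, hpol] at h1
      have h5 : (2 : F) * (Q (aspcani2Psi e P (s • (1 : Matrix (Fin 2) (Fin 2) F) + t • j) *ᵥ v) -
          (s * s - t * t * c) * Q v) = 0 := by linear_combination h1
      rcases mul_eq_zero.mp h5 with h6 | h6
      · exact absurd h6 h2
      · rw [aspcani2Psi_apply] at h6
        linear_combination h6


/-- `Q` vanishes on the pure tensors and the first factor has dimension 2: plus type -/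
theorem asec_plus_of_pure_left (Q : QuadraticForm F (Fin n → F)) {d : ℕ} (e : Fin n ≃ Fin 2 × Fin d)
    (P : GL (Fin n) F)
    (hpure : ∀ (x₁ : Fin 2 → F) (x₂ : Fin d → F), Q ((P : Matrix (Fin n) (Fin n) F) *ᵥ (ptv x₁ x₂ ∘ e)) = 0) :
    IsPlusTypeOn (⇑Q) ⊤ := by
  classical
  have hn : n = 2 * d := by
    have := Fintype.card_congr e
    simpa using this
  have h0 : (Pi.single 0 1 : Fin 2 → F) ≠ 0 := by
    intro h
    have := congrFun h 0
    simp at this
  refine ⟨blk e P (Pi.single 0 1), le_top, ?_, ?_⟩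
  · intro w hw
    obtain ⟨v, rfl⟩ := (mem_blk e P _ w).1 hw
    exact hpure _ v
  · rw [blk_finrank e P h0, finrank_top, Module.finrank_fin_fun, hn]

/-- `Q` vanishes on the pure tensors and the second factor has dimension 2: plus type -/
theorem asec_plus_of_pure_right (Q : QuadraticForm F (Fin n → F)) {k : ℕ} (e : Fin n ≃ Fin k × Fin 2)
    (P : GL (Fin n) F)
    (hpure : ∀ (x₁ : Fin k → F) (x₂ : Fin 2 → F), Q ((P : Matrix (Fin n) (Fin n) F) *ᵥ (ptv x₁ x₂ ∘ e)) = 0) :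
    IsPlusTypeOn (⇑Q) ⊤ := by
  refine asec_plus_of_pure_left Q (e.trans (Equiv.prodComm (Fin k) (Fin 2))) P (fun x₁ x₂ => ?_)
  have h : ptv x₁ x₂ ∘ ⇑(e.trans (Equiv.prodComm (Fin k) (Fin 2))) = ptv x₂ x₁ ∘ e := by
    funext p
    simp only [ptv, Function.comp, Equiv.trans_apply, Equiv.prodComm_apply, Prod.fst_swap, Prod.snd_swap]
    ring
  rw [h]
  exact hpure x₂ x₁

theorem asec_tensorForm (f : (Fin n → F) → (Fin n → F) → F) {k d : ℕ} (e : Fin n ≃ Fin k × Fin d)
    (P : GL (Fin n) F) (A : Matrix (Fin k) (Fin k) F) (B : Matrix (Fin d) (Fin d) F) (hK : KrGram f e P A B) :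
    IsTensorFormStructure id f (formOfGram id A) (formOfGram id B) e P :=
  ⟨1, one_ne_zero, fun x y => by rw [spc_gram_formOfGram, spc_gram_formOfGram, one_mul]; exact hK x y⟩

/-- the tensor form structure, `sym ⊗ sym` -/
theorem asec_forms_sym (f : (Fin n → F) → (Fin n → F) → F) {k d : ℕ} (e : Fin n ≃ Fin k × Fin d)
    (P : GL (Fin n) F) (A : Matrix (Fin k) (Fin k) F) (B : Matrix (Fin d) (Fin d) F) (hAdet : A.det ≠ 0)
    (hBdet : B.det ≠ 0) (hAs : Aᵀ = A) (hBs : Bᵀ = B) (hK : KrGram f e P A B) :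
    IsSymmetricForm (formOfGram id A) ∧ IsSymmetricForm (formOfGram id B) ∧
      IsTensorFormStructure id f (formOfGram id A) (formOfGram id B) e P :=
  ⟨spc_formOfGram_symmetric A hAdet hAs, spc_formOfGram_symmetric B hBdet hBs, asec_tensorForm f e P A B hK⟩

theorem asec_diag_of_alt {k : ℕ} (A : Matrix (Fin k) (Fin k) F) (hAalt : ∀ x : Fin k → F, x ⬝ᵥ (A *ᵥ x) = 0)
    (i : Fin k) : A i i = 0 := by
  classical
  have := hAalt (Pi.single i 1)
  simpa using this

/-- the tensor form structure, `alt ⊗ alt` -/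
theorem asec_forms_alt (f : (Fin n → F) → (Fin n → F) → F) {k d : ℕ} (e : Fin n ≃ Fin k × Fin d)
    (P : GL (Fin n) F) (A : Matrix (Fin k) (Fin k) F) (B : Matrix (Fin d) (Fin d) F) (hAdet : A.det ≠ 0)
    (hBdet : B.det ≠ 0) (hAk : Aᵀ = -A) (hBk : Bᵀ = -B) (hAalt : ∀ x : Fin k → F, x ⬝ᵥ (A *ᵥ x) = 0)
    (hBalt : ∀ x : Fin d → F, x ⬝ᵥ (B *ᵥ x) = 0) (hK : KrGram f e P A B) :
    IsSymplecticForm (formOfGram id A) ∧ IsSymplecticForm (formOfGram id B) ∧
      IsTensorFormStructure id f (formOfGram id A) (formOfGram id B) e P :=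
  ⟨spc_formOfGram_symplectic A hAdet hAk (asec_diag_of_alt A hAalt),
    spc_formOfGram_symplectic B hBdet hBk (asec_diag_of_alt B hBalt), asec_tensorForm f e P A B hK⟩


/-- `asec_sym_dim2` with the binary factor in the second place -/
theorem asec_sym_dim2_right (h2 : (2 : F) ≠ 0) (Q : QuadraticForm F (Fin n → F)) {H : Subgroup (GL (Fin n) F)}
    (hI : H ≤ isometryGroup F (⇑Q)) {k : ℕ} (hk : 0 < k) (e : Fin n ≃ Fin k × Fin 2) (P : GL (Fin n) F)
    (Λ : Matrix (Fin k) (Fin k) F) (S : Matrix (Fin 2) (Fin 2) F) (hS : Sᵀ = S) (hSdet : S.det ≠ 0)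
    (hΛdet : Λ.det ≠ 0) (hK : KrGram (QuadraticMap.polar (⇑Q)) e P Λ S)
    (hH : H ≤ tensorProductSubgroup k 2 e P) :
    (∃ D : Fin 2 → Submodule F (Fin n → F), IsMDecomposition k D ∧ (∀ i, IsTotallySingularQuad (⇑Q) (D i)) ∧
      H ≤ decompositionStabilizer D) ∨
    (∃ K : Subalgebra F (Matrix (Fin n) (Fin n) F), IsFieldSubalgebra 2 K ∧
      IsAdjointClosedFor (QuadraticMap.polar (⇑Q)) K ∧ ¬ IsSelfAdjointFor (QuadraticMap.polar (⇑Q)) K ∧
      (∀ k ∈ K, ∃ c : F, ∀ v : Fin n → F, Q (k *ᵥ v) = c * Q v) ∧ H ≤ subalgebraNormalizer K) := by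
  have hK' := spc_krGram_swap _ e P Λ S hK
  have hH' : H ≤ tensorProductSubgroup 2 k (e.trans (Equiv.prodComm (Fin k) (Fin 2))) P := by
    rw [← tensor_swap]
    exact hH
  exact asec_sym_dim2 h2 Q hI hk _ P S Λ hS hSdet hΛdet hK' hH'

end Cfsg.Agent.Lib.helper8.ASEC
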