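import Mathlib
import Cfsg.Prelude.Def_GeometricClasses
import Cfsg.Agent.Lib.Helper27.ASC.Defs
import Cfsg.Agent.Lib.helper23.ASCO.Defs
import Cfsg.Agent.Lib.Helper19.ASG.Defs
import Cfsg.Agent.Lib.Helper1.ASGCLIF3
import Cfsg.Agent.Lib.Helper25.ASO.Defs
import Cfsg.Agent.Lib.helper23.ASE.Defs
import Cfsg.Agent.Lib.Helper21.ASCOPLANE3

set_option autoImplicit false
set_option linter.unusedVariables false
set_option linter.unusedSectionVars false

/-! # Project ASE, piece PLANE23 (helper8): `|F| ≤ 3`, the stabiliser of a plus-type plane fixes a non-singular point of it -/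

namespace Cfsg.Agent.Lib.helper23.ASE

open Cfsg Cfsg.Geo Cfsg.Agent.Lib.Helper27.ASC Cfsg.Agent.Lib.helper23.ASCO Cfsg.Agent.Lib.Helper19.ASG
  Cfsg.Agent.Lib.Helper25.ASO
open scoped MatrixGroups Matrix Kronecker

variable {n : ℕ} {F : Type*} [Field F] [Fintype F]

/-- the elements of a field with fewer than four elements -/
theorem aseplane23_small (hq : Fintype.card F < 4) (a : F) : a = 0 ∨ a = 1 ∨ a = -1 := by
  have h1 : 1 < Fintype.card F := Fintype.one_lt_card
  have hc : Fintype.card F = 2 ∨ Fintype.card F = 3 := by omega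
  rcases hc with hc | hc
  · have h := FiniteField.pow_card a
    rw [hc] at h
    have : a * (a - 1) = 0 := by linear_combination h
    rcases mul_eq_zero.1 this with h2 | h2
    · exact Or.inl h2
    · exact Or.inr (Or.inl (sub_eq_zero.1 h2))
  · exact ascoplane3_f3 hc a

/-- PLANE23 -/
theorem plus_plane_small (Q : QuadraticForm F (Fin n → F)) (hQ : (QuadraticMap.polarBilin Q).Nondegenerate)
    (hq : Fintype.card F < 4) (W : Submodule F (Fin n → F))
    (hW : IsNondegenerateOn (QuadraticMap.polar (⇑Q)) W) (hd : Module.finrank F W = 2)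
    (hp : IsPlusTypeOn (⇑Q) W) :
    ∃ v : Fin n → F, v ∈ W ∧ Q v ≠ 0 ∧
      subspaceStabilizer W ⊓ isometryGroup F (⇑Q) ≤ subspaceStabilizer (Submodule.span F {v}) := by
  classical
  obtain ⟨U, hUW, hUs, hUd⟩ := hp
  have hU1 : Module.finrank F U = 1 := by omega
  have hUne : U ≠ ⊥ := by
    intro hb
    rw [hb, finrank_bot] at hU1
    omega
  obtain ⟨u, huU, hu0⟩ := Submodule.exists_mem_ne_zero_of_ne_bot hUne
  have huW : u ∈ W := hUW huU
  have hQu : Q u = 0 := hUs u huU
  obtain ⟨⟨x, hxW, hxu⟩, _⟩ := hW u huW hu0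
  set B := QuadraticMap.polarBilin Q with hB
  have hBp : ∀ a b, B a b = QuadraticMap.polar (⇑Q) a b := fun a b => rfl
  have hBsymm : ∀ a b, B a b = B b a := fun a b => by rw [hBp, hBp, QuadraticMap.polar_comm]
  have hBself : ∀ a, B a a = 2 * Q a := by
    intro a
    rw [hBp, QuadraticMap.polar_self]
    simp
  have hQadd : ∀ a b, Q (a + b) = Q a + Q b + B a b := by
    intro a b
    rw [hBp]
    exact QuadraticMap.map_add Q a b
  have hQsmul : ∀ (c : F) a, Q (c • a) = c * c * Q a := by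
    intro c a
    rw [QuadraticMap.map_smul]
    rfl
  have hux : B u x ≠ 0 := by rw [hBsymm, hBp]; exact hxu
  obtain ⟨v₀, hv₀⟩ : ∃ v₀ : Fin n → F, v₀ = (B u x)⁻¹ • x := ⟨_, rfl⟩
  have hv₀W : v₀ ∈ W := by rw [hv₀]; exact W.smul_mem _ hxW
  have huv₀ : B u v₀ = 1 := by
    rw [hv₀, map_smul, smul_eq_mul, inv_mul_cancel₀ hux]
  obtain ⟨v, hv⟩ : ∃ v : Fin n → F, v = v₀ + (-(Q v₀)) • u := ⟨_, rfl⟩
  have hvW : v ∈ W := by rw [hv]; exact W.add_mem hv₀W (W.smul_mem _ huW)
  have huu : B u u = 0 := by rw [hBself, hQu, mul_zero]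
  have huv : B u v = 1 := by
    rw [hv, map_add, map_smul, huv₀, huu, smul_zero, add_zero]
  have hQv : Q v = 0 := by
    rw [hv, hQadd, hQsmul, hQu, map_smul, hBsymm v₀ u, huv₀]
    simp
  have hli : LinearIndependent F ![u, v] := by
    rw [LinearIndependent.pair_iff]
    intro s t hst
    have h1 : B u (s • u + t • v) = 0 := by rw [hst, map_zero]
    rw [map_add, map_smul, map_smul, huu, huv, smul_zero, zero_add, smul_eq_mul, mul_one] at h1
    rw [h1, zero_smul, add_zero] at hst
    rcases smul_eq_zero.1 hst with h | h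
    · exact ⟨h, h1⟩
    · exact absurd h hu0
  have hspan : Submodule.span F ({u, v} : Set (Fin n → F)) = W := by
    apply Submodule.eq_of_le_of_finrank_eq
    · rw [Submodule.span_le]
      intro z hz
      rcases hz with rfl | rfl
      · exact huW
      · exact hvW
    · have := finrank_span_eq_card hli
      rw [Fintype.card_fin] at this
      have hr : Set.range ![u, v] = ({u, v} : Set (Fin n → F)) := by
        ext z
        simp [eq_comm]
        exact or_comm
      rw [hr] at this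
      rw [hd, this]
  have hrepr : ∀ w ∈ W, ∃ a b : F, w = a • u + b • v := by
    intro w hw
    rw [← hspan, Submodule.mem_span_pair] at hw
    obtain ⟨a, b, h⟩ := hw
    exact ⟨a, b, h.symm⟩
  have hQab : ∀ a b : F, Q (a • u + b • v) = a * b := by
    intro a b
    rw [hQadd, hQsmul, hQsmul, hQu, hQv, map_smul, map_smul, LinearMap.smul_apply, huv]
    simp
    ring
  obtain ⟨w₁, hw₁⟩ : ∃ w₁ : Fin n → F, w₁ = u + v := ⟨_, rfl⟩
  have hw₁W : w₁ ∈ W := by rw [hw₁]; exact W.add_mem huW hvW
  have hQw₁ : Q w₁ = 1 := by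
    have := hQab 1 1
    rwa [one_smul, one_smul, mul_one, ← hw₁] at this
  have hone : ∀ w ∈ W, Q w = 1 → w = w₁ ∨ w = -w₁ := by
    intro w hw hQw
    obtain ⟨a, b, rfl⟩ := hrepr w hw
    rw [hQab] at hQw
    rcases aseplane23_small hq a with rfl | rfl | rfl
    · rw [zero_mul] at hQw
      exact absurd hQw.symm one_ne_zero
    · left
      rw [one_mul] at hQw
      rw [hQw, one_smul, one_smul, hw₁]
    · right
      have hb : b = -1 := by linear_combination -hQw
      rw [hb, hw₁]
      simp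
      abel
  refine ⟨w₁, hw₁W, by rw [hQw₁]; exact one_ne_zero, ?_⟩
  apply ascoplane3_stab_of_maps
  intro g hg z hz
  obtain ⟨c, rfl⟩ := Submodule.mem_span_singleton.1 hz
  rw [Matrix.mulVec_smul]
  apply Submodule.smul_mem
  have hgw : (g : Matrix (Fin n) (Fin n) F) *ᵥ w₁ = w₁ ∨ (g : Matrix (Fin n) (Fin n) F) *ᵥ w₁ = -w₁ := by
    apply hone
    · exact ((hg.1) w₁).1 hw₁W
    · rw [← hQw₁]
      exact (hg.2) w₁ w₁
  rcases hgw with h | h
  · rw [h]
    exact Submodule.mem_span_singleton_self w₁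
  · rw [h]
    exact Submodule.neg_mem _ (Submodule.mem_span_singleton_self w₁)

end Cfsg.Agent.Lib.helper23.ASE
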