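import Mathlib
import Cfsg.Agent.Lib.Lead.BCG.Defs
import Cfsg.Agent.Lib.Helper25.BCGX1h25

set_option autoImplicit false

/-!
# BCG row X1 (`sp_ctx`), verbatim name (helper8); proof = helper25's second copy `bcgx1_h25`.
-/

namespace Cfsg.Agent.Lib.Lead.BCG

open Polynomial Module Matrix Cfsg.Agent.Lib.Helper13.S5955 Cfsg.Agent.Lib.helper15.S5972
  Cfsg.Agent.Lib.Helper18.ONE Cfsg.Agent.Lib.Lead.BCS

/-- X1 [S-M]: `Cfsg.Agent.Lib.helper6.mem_symplecticGroup_iff_sympForm`; `Matrix.toLin'_apply`; `stdB_apply`; `nd`/`alt`: S5955 `stdB_alt_nd` (grep). -/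
theorem sp_ctx {F : Type*} [Field F] (d : ℕ) (x : Matrix.symplecticGroup (Fin d) F) (N : ℕ)
    (hx : x ^ N = 1) :
    SCtx N (stdB d F) (Matrix.toLin' (x : Matrix (Fin d ⊕ Fin d) (Fin d ⊕ Fin d) F)) :=
  bcgx1_h25 d x N hx

end Cfsg.Agent.Lib.Lead.BCG
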