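import Mathlib
import Cfsg.Prelude.Def_SteinbergCover
import Cfsg.Agent.Lib.helper8.ChevStC1

set_option autoImplicit false

namespace Cfsg.Agent.Lib.helper8

open Cfsg.Lie Cfsg.Lie.ChevalleyDatum

open scoped commutatorElement

variable {K : Type*} [Field K]

def H8scKnown (D : ChevalleyDatum) (K : Type*) [Field K] (S : List ℕ) : Prop :=
  ∀ r ∈ S, ∀ t : K, D.scGen K r t ∈ commutator (D.SteinbergCover K)

theorem h8scWord_cons (D : ChevalleyDatum) (p : ℕ × K) (w : List (ℕ × K)) :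
    h8scWord D (p :: w) = D.scGen K p.1 p.2 * h8scWord D w := by
  unfold h8scWord
  rw [List.map_cons, List.prod_cons]

theorem h8sc_rest_mem (D : ChevalleyDatum) (S : List ℕ) (hS : H8scKnown D K S)
    (f : ℕ × ℤ × ℕ × ℕ → K) :
    ∀ rest : List (ℕ × ℤ × ℕ × ℕ), (rest.all fun c => S.contains c.1) = true →
      h8scWord D (rest.map fun c => (c.1, f c)) ∈ commutator (D.SteinbergCover K)
  | [], _ => by
    unfold h8scWord
    simp only [List.map_nil, List.prod_nil]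
    exact Subgroup.one_mem _
  | c :: rest, h => by
    rw [List.all_cons, Bool.and_eq_true] at h
    rw [List.map_cons, h8scWord_cons]
    refine Subgroup.mul_mem _ (hS c.1 ?_ _) (h8sc_rest_mem D S hS f rest h.2)
    simpa using h.1

theorem h8sc_single (D : ChevalleyDatum) (S : List ℕ) (hS : H8scKnown D K S) (a b : ℕ)
    (ha : a < D.nroots) (hb : b < D.nroots) (hab : b ≠ a) (habn : b ≠ D.neg a)
    (r1 : ℕ) (ε1 : ℤ) (hε : ε1 = 1 ∨ ε1 = -1) (rest : List (ℕ × ℤ × ℕ × ℕ))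
    (hct : D.commTerms a b = (r1, ε1, 1, 1) :: rest)
    (hrest : (rest.all fun c => S.contains c.1) = true) (v : K) :
    D.scGen K r1 v ∈ commutator (D.SteinbergCover K) := by
  have h1 := h8sc_comm_mem D a b ha hb hab habn (-((ε1 : ℤ) : K) * v) 1
  unfold ChevalleyDatum.commWord at h1
  rw [hct, List.map_cons, h8scWord_cons] at h1
  have h2 := h8sc_rest_mem D S hS
    (fun c => ((c.2.1 : ℤ) : K) * (-(-((ε1 : ℤ) : K) * v)) ^ c.2.2.1 * (1 : K) ^ c.2.2.2) rest hrest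
  have h3 := (Subgroup.mul_mem_cancel_right _ h2).mp h1
  have e : ((ε1 : ℤ) : K) * (-(-((ε1 : ℤ) : K) * v)) ^ 1 * (1 : K) ^ 1 = v := by
    rcases hε with h | h <;> rw [h] <;> simp
  simpa only [e] using h3

theorem h8sc_double (D : ChevalleyDatum) (S : List ℕ) (hS : H8scKnown D K S) (a b : ℕ)
    (ha : a < D.nroots) (hb : b < D.nroots) (hab : b ≠ a) (habn : b ≠ D.neg a)
    (r1 r2 : ℕ) (hr1 : r1 < D.nroots) (hr2 : r2 < D.nroots)
    (ε1 ε2 : ℤ) (hε1 : ε1 = 1 ∨ ε1 = -1) (hε2 : ε2 = 1 ∨ ε2 = -1) (i2 j2 : ℕ)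
    (hij : (i2 = 2 ∧ j2 = 1) ∨ (i2 = 1 ∧ j2 = 2))
    (rest : List (ℕ × ℤ × ℕ × ℕ))
    (hct : D.commTerms a b = (r1, ε1, 1, 1) :: (r2, ε2, i2, j2) :: rest)
    (hrest : (rest.all fun c => S.contains c.1) = true)
    (c : K) (hc0 : c ≠ 0) (hc1 : c ≠ 1) (v : K) :
    D.scGen K r1 v ∈ commutator (D.SteinbergCover K) ∧
      D.scGen K r2 v ∈ commutator (D.SteinbergCover K) := by
  have key : ∀ t u : K, D.scGen K r1 (((ε1 : ℤ) : K) * (-t) ^ 1 * u ^ 1) *
      D.scGen K r2 (((ε2 : ℤ) : K) * (-t) ^ i2 * u ^ j2) ∈ commutator (D.SteinbergCover K) := by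
    intro t u
    have h1 := h8sc_comm_mem D a b ha hb hab habn t u
    unfold ChevalleyDatum.commWord at h1
    rw [hct, List.map_cons, List.map_cons, h8scWord_cons, h8scWord_cons, ← mul_assoc] at h1
    have h2 := h8sc_rest_mem D S hS
      (fun c => ((c.2.1 : ℤ) : K) * (-t) ^ c.2.2.1 * u ^ c.2.2.2) rest hrest
    exact (Subgroup.mul_mem_cancel_right _ h2).mp h1
  have hc1' : c - 1 ≠ 0 := sub_ne_zero.mpr hc1
  have hε2sq : ((ε2 : ℤ) : K) * ((ε2 : ℤ) : K) = 1 := by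
    rcases hε2 with h | h <;> rw [h] <;> simp
  have hε1sq : ((ε1 : ℤ) : K) * ((ε1 : ℤ) : K) = 1 := by
    rcases hε1 with h | h <;> rw [h] <;> simp
  have h2all : ∀ w : K, D.scGen K r2 w ∈ commutator (D.SteinbergCover K) := by
    intro w
    rcases hij with ⟨rfl, rfl⟩ | ⟨rfl, rfl⟩
    · set u : K := ((ε2 : ℤ) : K) * w / (c - 1) with hu
      have k1 := key 1 u
      have k2 := key c (u / c)
      have e1 : ((ε1 : ℤ) : K) * (-c) ^ 1 * (u / c) ^ 1 = ((ε1 : ℤ) : K) * (-1) ^ 1 * u ^ 1 := by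
        field_simp
      rw [e1] at k2
      have k3 := Subgroup.mul_mem _ (Subgroup.inv_mem _ k1) k2
      rw [mul_inv_rev, mul_assoc, inv_mul_cancel_left, h8sc_inv D r2 hr2, h8sc_add D r2 hr2] at k3
      have e2 : -(((ε2 : ℤ) : K) * (-1) ^ 2 * u ^ 1) + ((ε2 : ℤ) : K) * (-c) ^ 2 * (u / c) ^ 1 = w := by
        have e3 : (-c) ^ 2 * (u / c) ^ 1 = c * u := by field_simp
        rw [mul_assoc (((ε2 : ℤ) : K)) ((-c) ^ 2), e3]
        calc -(((ε2 : ℤ) : K) * (-1) ^ 2 * u ^ 1) + ((ε2 : ℤ) : K) * (c * u)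
            = ((ε2 : ℤ) : K) * (c - 1) * u := by ring
          _ = (((ε2 : ℤ) : K) * ((ε2 : ℤ) : K)) * w * ((c - 1) / (c - 1)) := by rw [hu]; ring
          _ = w := by rw [hε2sq, div_self hc1', one_mul, mul_one]
      rwa [e2] at k3
    · set t : K := -((ε2 : ℤ) : K) * w / (c - 1) with ht
      have k1 := key t 1
      have k2 := key (t / c) c
      have e1 : ((ε1 : ℤ) : K) * (-(t / c)) ^ 1 * c ^ 1 = ((ε1 : ℤ) : K) * (-t) ^ 1 * 1 ^ 1 := by
        field_simp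
      rw [e1] at k2
      have k3 := Subgroup.mul_mem _ (Subgroup.inv_mem _ k1) k2
      rw [mul_inv_rev, mul_assoc, inv_mul_cancel_left, h8sc_inv D r2 hr2, h8sc_add D r2 hr2] at k3
      have e2 : -(((ε2 : ℤ) : K) * (-t) ^ 1 * 1 ^ 2) + ((ε2 : ℤ) : K) * (-(t / c)) ^ 1 * c ^ 2 = w := by
        have e3 : (-(t / c)) ^ 1 * c ^ 2 = -(c * t) := by field_simp
        rw [mul_assoc (((ε2 : ℤ) : K)) ((-(t / c)) ^ 1), e3]
        calc -(((ε2 : ℤ) : K) * (-t) ^ 1 * 1 ^ 2) + ((ε2 : ℤ) : K) * -(c * t)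
            = -(((ε2 : ℤ) : K) * (c - 1) * t) := by ring
          _ = (((ε2 : ℤ) : K) * ((ε2 : ℤ) : K)) * w * ((c - 1) / (c - 1)) := by rw [ht]; ring
          _ = w := by rw [hε2sq, div_self hc1', one_mul, mul_one]
      rwa [e2] at k3
  refine ⟨?_, h2all v⟩
  have k1 := key (-((ε1 : ℤ) : K) * v) 1
  have k2 := (Subgroup.mul_mem_cancel_right _ (h2all _)).mp k1
  have e : ((ε1 : ℤ) : K) * (-(-((ε1 : ℤ) : K) * v)) ^ 1 * (1 : K) ^ 1 = v := by
    rcases hε1 with h | h <;> rw [h] <;> simp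
  rwa [e] at k2

end Cfsg.Agent.Lib.helper8
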