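import Mathlib
import Cfsg.Prelude.Def_SteinbergCover
import Cfsg.Agent.Lib.helper8.ChevStC2

set_option autoImplicit false

namespace Cfsg.Agent.Lib.helper8

open Cfsg.Lie Cfsg.Lie.ChevalleyDatum

open scoped commutatorElement

variable {K : Type*} [Field K]

def h8scStep (D : ChevalleyDatum) (S : List ℕ) (st : ℕ × ℕ × Bool) : List ℕ :=
  if st.1 < D.nroots ∧ st.2.1 < D.nroots ∧ st.2.1 ≠ st.1 ∧ st.2.1 ≠ D.neg st.1 then
    match st.2.2, D.commTerms st.1 st.2.1 with
    | false, (r1, e1, 1, 1) :: rest =>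
      if (e1 = 1 ∨ e1 = -1) ∧ (rest.all fun c => S.contains c.1) = true then r1 :: S else S
    | true, (r1, e1, 1, 1) :: (r2, e2, i2, j2) :: rest =>
      if (e1 = 1 ∨ e1 = -1) ∧ (e2 = 1 ∨ e2 = -1) ∧ r1 < D.nroots ∧ r2 < D.nroots ∧
        ((i2 = 2 ∧ j2 = 1) ∨ (i2 = 1 ∧ j2 = 2)) ∧ (rest.all fun c => S.contains c.1) = true
      then r1 :: r2 :: S else S
    | _, _ => S
  else S

theorem h8scStep_sound (D : ChevalleyDatum) (c : K) (hc0 : c ≠ 0) (hc1 : c ≠ 1) (S : List ℕ)
    (hS : H8scKnown D K S) (st : ℕ × ℕ × Bool) : H8scKnown D K (h8scStep D S st) := by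
  unfold h8scStep
  split_ifs with h
  · obtain ⟨ha, hb, hab, habn⟩ := h
    split
    · rename_i r1 e1 rest hm hct
      split_ifs with h2
      · obtain ⟨he, hrest⟩ := h2
        intro r hr t
        rcases List.mem_cons.mp hr with rfl | hr
        · exact h8sc_single D S hS _ _ ha hb hab habn _ e1 he rest hct hrest t
        · exact hS r hr t
      · exact hS
    · rename_i r1 e1 r2 e2 i2 j2 rest hm hct
      split_ifs with h2
      · obtain ⟨he1, he2, hr1, hr2, hij, hrest⟩ := h2
        intro r hr t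
        have := h8sc_double D S hS _ _ ha hb hab habn r1 r2 hr1 hr2 e1 e2 he1 he2 i2 j2 hij rest
          hct hrest c hc0 hc1 t
        rcases List.mem_cons.mp hr with rfl | hr
        · exact this.1
        · rcases List.mem_cons.mp hr with rfl | hr
          · exact this.2
          · exact hS r hr t
      · exact hS
    · exact hS
  · exact hS

theorem h8scFold_sound (D : ChevalleyDatum) (c : K) (hc0 : c ≠ 0) (hc1 : c ≠ 1) :
    ∀ (steps : List (ℕ × ℕ × Bool)) (S : List ℕ), H8scKnown D K S →
      H8scKnown D K (steps.foldl (h8scStep D) S)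
  | [], S, hS => hS
  | st :: steps, S, hS => by
    rw [List.foldl_cons]
    exact h8scFold_sound D c hc0 hc1 steps _ (h8scStep_sound D c hc0 hc1 S hS st)

def h8stcChk (D : ChevalleyDatum) (steps : List (ℕ × ℕ × Bool)) : Bool :=
  (List.range D.nroots).all fun r => (steps.foldl (h8scStep D) []).contains r

theorem h8sc_perfect_of_chk (D : ChevalleyDatum) (steps : List (ℕ × ℕ × Bool))
    (h : h8stcChk D steps = true) (c : K) (hc0 : c ≠ 0) (hc1 : c ≠ 1) :
    commutator (D.SteinbergCover K) = ⊤ := by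
  apply h8sc_top
  intro r hr t
  have hK := h8scFold_sound (K := K) D c hc0 hc1 steps [] (fun r hr => by cases hr)
  unfold h8stcChk at h
  rw [List.all_eq_true] at h
  have := h r (List.mem_range.mpr hr)
  exact hK r (by simpa using this) t

end Cfsg.Agent.Lib.helper8
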