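import Mathlib
import Cfsg.Prelude.Def_SteinbergCover
import Cfsg.Agent.Lib.helper8.ChevStC3
import Cfsg.Agent.Lib.helper8.ChevPerfAll

set_option autoImplicit false

namespace Cfsg.Agent.Lib.helper8

open Cfsg.Lie Cfsg.Lie.ChevalleyDatum

open scoped commutatorElement

variable {K : Type*} [Field K]

theorem h8sc_perfect_of_A (D : ChevalleyDatum) (L : List (ℕ × ℕ))
    (hL : ∀ r < D.nroots, h8pfAChk D L r = true) :
    commutator (D.SteinbergCover K) = ⊤ := by
  apply h8sc_top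
  intro r hr t
  have h := hL r hr
  unfold h8pfAChk at h
  simp only [Bool.and_eq_true, Bool.or_eq_true, decide_eq_true_eq] at h
  obtain ⟨⟨⟨⟨h1, h2⟩, h3⟩, h4⟩, h5⟩ := h
  have hS : H8scKnown D K [] := fun r hr => by cases hr
  rcases h5 with h5 | h5
  · exact h8sc_single D [] hS _ _ h1 h2 h3 h4 r 1 (Or.inl rfl) [] h5 rfl t
  · exact h8sc_single D [] hS _ _ h1 h2 h3 h4 r (-1) (Or.inr rfl) [] h5 rfl t

def h8scSteps_B2 : List (ℕ × ℕ × Bool) :=
  [(0, 5, true), (0, 6, true), (1, 4, true), (1, 7, false), (2, 7, false), (3, 6, true)]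

def h8scSteps_G2 : List (ℕ × ℕ × Bool) :=
  [(0, 6, false), (0, 10, false), (1, 5, false), (1, 7, true), (1, 11, false), (2, 10, false),
    (2, 11, true), (5, 11, false), (6, 10, false), (7, 6, true)]

theorem h8stcChk_B2 : h8stcChk chevB2 h8scSteps_B2 = true := by decide +kernel

theorem h8stcChk_G2 : h8stcChk chevG2 h8scSteps_G2 = true := by decide +kernel

theorem h8sc_perfect_all (D : ChevalleyDatum)
    (hD : D ∈ [chevG2, chevB2, chevD4, chevF4, chevE6, chevE7, chevE8])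
    (hK : D ∈ [chevB2, chevG2] → ∃ x : K, x ≠ 0 ∧ x ≠ 1) :
    commutator (D.SteinbergCover K) = ⊤ := by
  simp only [List.mem_cons, List.not_mem_nil, or_false] at hD
  rcases hD with rfl | rfl | rfl | rfl | rfl | rfl | rfl
  · obtain ⟨c, hc0, hc1⟩ := hK (by simp)
    exact h8sc_perfect_of_chk chevG2 _ h8stcChk_G2 c hc0 hc1
  · obtain ⟨c, hc0, hc1⟩ := hK (by simp)
    exact h8sc_perfect_of_chk chevB2 _ h8stcChk_B2 c hc0 hc1
  · exact h8sc_perfect_of_A chevD4 h8pfA_D4 h8pf_D4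
  · exact h8sc_perfect_of_A chevF4 h8pfA_F4 h8pf_F4
  · exact h8sc_perfect_of_A chevE6 h8pfA_E6 h8pf_E6
  · exact h8sc_perfect_of_A chevE7 h8pfA_E7 h8pf_E7
  · exact h8sc_perfect_of_A chevE8 h8pfA_E8 h8pf_E8

end Cfsg.Agent.Lib.helper8
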