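import Mathlib
import Cfsg.Prelude.Def_ChevStructure
import Cfsg.Agent.Lib.helper8.ChevUC4

set_option autoImplicit false

namespace Cfsg.Agent.Lib.helper8

open Cfsg.Lie Cfsg.Lie.ChevalleyDatum

universe u v w

variable {K : Type u} [Field K] {Γ : Type v} [Group Γ] {E : Type w} [Group E] {ρ : E →* Γ}
variable {D : ChevalleyDatum} {X : ℕ → K → Γ} {Y : ℕ → K → E}

/-- the torus hypothesis for a pair of positive roots -/
def H8UCTor (D : ChevalleyDatum) (Y : ℕ → K → E) (γ δ : ℕ) : Prop :=
  ∃ (k : E) (χ : K), χ ≠ 1 ∧ (∀ t, k * Y γ t * k⁻¹ = Y γ (χ * t)) ∧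
    (∀ u, k * Y δ u * k⁻¹ = Y δ u) ∧
    ∀ r, D.IsPosRoot r → ∀ t, ∃ t', k * Y r t * k⁻¹ = Y r t'

/-- the relation for the pair `(γ, δ)` follows from the relations of higher index -/
theorem h8uc_pair_step (h : H8CE ρ) (hSX : H8Sys D X) (hO : H8Ord3 D) (γ δ : ℕ)
    (hS : H8SysP D Y (γ + 1)) (hρ : ∀ r t, ρ (Y r t) = X r t)
    (huniq : ∀ (k : ℕ) (t : ℕ → K), h8wX X (h8ordW D k t) = 1 → ∀ r ∈ h8Lk D k, t r = 0)
    (hγ : D.IsPosRoot γ) (hδ : D.IsPosRoot δ) (hγδ : γ < δ) (hne : δ ≠ D.negIdx.getD γ 0)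
    (hhigh : ∀ δ', D.IsPosRoot δ' → δ < δ' → ∀ t u : K,
      Y δ' u * Y γ t = Y γ t * Y δ' u * h8wX Y (D.commWord K γ δ' t u))
    (htor : H8UCTor D Y γ δ) (t u : K) :
    Y δ u * Y γ t = Y γ t * Y δ u * h8wX Y (D.commWord K γ δ t u) := by
  obtain ⟨k, χ, hχ, hkγ, hkδ, hknorm⟩ := htor
  set U := Subgroup.closure (h8VkS D Y (δ + 1)) with hU
  have hinj : ∀ y ∈ U, ρ y = 1 → y = 1 := fun y hy h1 =>
    h8sysP_inj hS hO ρ hρ huniq (δ + 1) (by omega) y hy h1
  -- notation
  let a : K → E := fun t => Y γ t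
  let b : E := Y δ u
  let W : K → E := fun t => h8wX Y (D.commWord K γ δ t u)
  obtain ⟨c, hcdef⟩ : ∃ c : K → E, ∀ t, c t = (a t * b * W t)⁻¹ * (b * a t) :=
    ⟨fun t => (a t * b * W t)⁻¹ * (b * a t), fun _ => rfl⟩
  have h1 : ∀ t, b * a t = a t * b * W t * c t := by
    intro t
    rw [hcdef]
    group
  have hc1 : ∀ t, ρ (c t) = 1 := by
    intro t
    rw [hcdef]
    show ρ ((Y γ t * Y δ u * h8wX Y (D.commWord K γ δ t u))⁻¹ * (Y δ u * Y γ t)) = 1
    rw [map_mul, map_inv, map_mul, map_mul, map_mul, hρ, hρ, h8wX_map ρ hρ,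
      hSX.comm γ hγ.1 δ hδ.1 (by omega) hne t u, inv_mul_cancel]
  have hcc : ∀ t (g : E), c t * g = g * c t := fun t g => h.central _ (hc1 t) g
  have hterms := hO γ δ hγ hδ (by omega)
  have hW : ∀ t, W t ∈ U := by
    intro t
    apply h8wX_mem
    intro q hq
    unfold ChevalleyDatum.commWord at hq
    rw [List.mem_map] at hq
    obtain ⟨cc, hcc', rfl⟩ := hq
    apply Subgroup.subset_closure
    exact ⟨cc.1, _, (hterms cc hcc').1, by have := (hterms cc hcc').2.2; omega, rfl⟩
  -- conjugation by `a t` preserves `U`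
  have hconj : ∀ t, ∀ y ∈ U, (a t)⁻¹ * y * a t ∈ U := by
    intro t y hy
    induction hy using Subgroup.closure_induction with
    | mem x hx =>
      obtain ⟨δ', v, hδ', hlt, rfl⟩ := hx
      have hrel := hhigh δ' hδ' (by omega) t v
      have e : (a t)⁻¹ * Y δ' v * a t = Y δ' v * h8wX Y (D.commWord K γ δ' t v) := by
        show (Y γ t)⁻¹ * Y δ' v * Y γ t = _
        rw [mul_assoc, hrel]
        group
      rw [e]
      have hterms' := hO γ δ' hγ hδ' (by omega)
      apply Subgroup.mul_mem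
      · exact Subgroup.subset_closure ⟨δ', v, hδ', hlt, rfl⟩
      · apply h8wX_mem
        intro q hq
        unfold ChevalleyDatum.commWord at hq
        rw [List.mem_map] at hq
        obtain ⟨cc, hcc', rfl⟩ := hq
        apply Subgroup.subset_closure
        exact ⟨cc.1, _, (hterms' cc hcc').1, by have := (hterms' cc hcc').2.2; omega, rfl⟩
    | one =>
      rw [mul_one, inv_mul_cancel]
      exact Subgroup.one_mem _
    | mul x y _ _ hx hy =>
      have : (a t)⁻¹ * (x * y) * a t = ((a t)⁻¹ * x * a t) * ((a t)⁻¹ * y * a t) := by group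
      rw [this]
      exact Subgroup.mul_mem _ hx hy
    | inv x _ hx =>
      have : (a t)⁻¹ * x⁻¹ * a t = ((a t)⁻¹ * x * a t)⁻¹ := by group
      rw [this]
      exact Subgroup.inv_mem _ hx
  -- additivity of the defect
  have haa : ∀ t t', a (t + t') = a t * a t' := fun t t' => (hS.add γ hγ.1 t t').symm
  have hadd : ∀ t t', c (t + t') = c t' * c t := by
    intro t t'
    set W₁ := (a t')⁻¹ * W t * a t' with hW₁
    have e1 : b * a (t + t') = a (t + t') * b * (W t' * W₁) * (c t' * c t) := by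
      calc b * a (t + t') = (b * a t) * a t' := by rw [haa]; group
        _ = a t * b * W t * c t * a t' := by rw [h1 t]
        _ = a t * b * W t * a t' * c t := by
            rw [mul_assoc (a t * b * W t), hcc t (a t'), ← mul_assoc]
        _ = a t * (b * a t') * W₁ * c t := by rw [hW₁]; group
        _ = a t * (a t' * b * W t' * c t') * W₁ * c t := by rw [h1 t']
        _ = a t * (a t' * b * W t') * (c t' * W₁) * c t := by group
        _ = a t * (a t' * b * W t') * (W₁ * c t') * c t := by rw [hcc t' W₁]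
        _ = a (t + t') * b * (W t' * W₁) * (c t' * c t) := by
            rw [haa]
            group
    have e2 := h1 (t + t')
    rw [e1] at e2
    have e3 : (W t' * W₁) * (c t' * c t) = W (t + t') * c (t + t') := by
      rw [mul_assoc (a (t + t') * b), mul_assoc (a (t + t') * b)] at e2
      exact mul_left_cancel e2
    have hz : (W (t + t'))⁻¹ * (W t' * W₁) ∈ U :=
      Subgroup.mul_mem _ (Subgroup.inv_mem _ (hW _))
        (Subgroup.mul_mem _ (hW _) (hconj t' _ (hW t)))
    have hz2 : (W (t + t'))⁻¹ * (W t' * W₁) = c (t + t') * (c t' * c t)⁻¹ := by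
      rw [eq_mul_inv_iff_mul_eq, mul_assoc, e3]
      group
    have hz1 : ρ ((W (t + t'))⁻¹ * (W t' * W₁)) = 1 := by
      rw [hz2, map_mul, map_inv, map_mul, hc1, hc1, hc1]
      group
    have := hinj _ hz hz1
    rw [hz2, mul_inv_eq_one] at this
    exact this
  -- invariance under the torus element
  have hknU : ∀ y ∈ U, k * y * k⁻¹ ∈ U := by
    intro y hy
    induction hy using Subgroup.closure_induction with
    | mem x hx =>
      obtain ⟨r, v, hr, hlt, rfl⟩ := hx
      obtain ⟨v', hv'⟩ := hknorm r hr v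
      rw [hv']
      exact Subgroup.subset_closure ⟨r, v', hr, hlt, rfl⟩
    | one =>
      rw [mul_one, mul_inv_cancel]
      exact Subgroup.one_mem _
    | mul x y _ _ hx hy =>
      have : k * (x * y) * k⁻¹ = (k * x * k⁻¹) * (k * y * k⁻¹) := by group
      rw [this]
      exact Subgroup.mul_mem _ hx hy
    | inv x _ hx =>
      have : k * x⁻¹ * k⁻¹ = (k * x * k⁻¹)⁻¹ := by group
      rw [this]
      exact Subgroup.inv_mem _ hx
  have hinvar : ∀ t, c (χ * t) = c t := by
    intro t
    set W' := k * W t * k⁻¹ with hW'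
    have e1 : b * a (χ * t) = a (χ * t) * b * W' * c t := by
      have := congrArg (fun z => k * z * k⁻¹) (h1 t)
      beta_reduce at this
      have l1 : k * (b * a t) * k⁻¹ = (k * b * k⁻¹) * (k * a t * k⁻¹) := by group
      have l2 : k * (a t * b * W t * c t) * k⁻¹ =
          (k * a t * k⁻¹) * (k * b * k⁻¹) * (k * W t * k⁻¹) * (k * c t * k⁻¹) := by group
      rw [l1, l2] at this
      have l3 : k * c t * k⁻¹ = c t := by rw [← hcc t k, mul_inv_cancel_right]
      rw [l3] at this
      have l4 : k * a t * k⁻¹ = a (χ * t) := hkγ t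
      have l5 : k * b * k⁻¹ = b := hkδ u
      rw [l4, l5] at this
      exact this
    have e2 := h1 (χ * t)
    rw [e1] at e2
    have e3 : W' * c t = W (χ * t) * c (χ * t) := by
      rw [mul_assoc (a (χ * t) * b), mul_assoc (a (χ * t) * b)] at e2
      exact mul_left_cancel e2
    have hz : (W (χ * t))⁻¹ * W' ∈ U :=
      Subgroup.mul_mem _ (Subgroup.inv_mem _ (hW _)) (hknU _ (hW t))
    have hz2 : (W (χ * t))⁻¹ * W' = c (χ * t) * (c t)⁻¹ := by
      rw [eq_mul_inv_iff_mul_eq, mul_assoc, e3]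
      group
    have hz1 : ρ ((W (χ * t))⁻¹ * W') = 1 := by
      rw [hz2, map_mul, map_inv, hc1, hc1]
      group
    have := hinj _ hz hz1
    rw [hz2, mul_inv_eq_one] at this
    exact this
  have hc0 : c 0 = 1 := by
    have := hadd 0 0
    rw [add_zero] at this
    exact mul_eq_left.mp this.symm
  have hcneg : ∀ t, c (-t) = (c t)⁻¹ := by
    intro t
    have := hadd t (-t)
    rw [add_neg_cancel, hc0] at this
    exact (inv_eq_of_mul_eq_one_left this.symm).symm
  have hkill : ∀ t, c ((χ - 1) * t) = 1 := by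
    intro t
    have e : (χ - 1) * t = χ * t + -t := by ring
    rw [e, hadd, hcneg, hinvar, inv_mul_cancel]
  have hχ1 : χ - 1 ≠ 0 := sub_ne_zero.mpr hχ
  have hct : c t = 1 := by
    have := hkill ((χ - 1)⁻¹ * t)
    rw [← mul_assoc, mul_inv_cancel₀ hχ1, one_mul] at this
    exact this
  have := h1 t
  rw [hct, mul_one] at this
  exact this

/-- all commutator relations among the canonical lifts of the positive root elements -/
theorem h8uc_pos_sys (h : H8CE ρ) (hSX : H8Sys D X) (hO : H8Ord3 D)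
    (hadd : ∀ r < D.nroots, ∀ t u : K, Y r t * Y r u = Y r (t + u))
    (hρ : ∀ r t, ρ (Y r t) = X r t)
    (huniq : ∀ (k : ℕ) (t : ℕ → K), h8wX X (h8ordW D k t) = 1 → ∀ r ∈ h8Lk D k, t r = 0)
    (hneg : ∀ r s, D.IsPosRoot r → D.IsPosRoot s → s ≠ D.negIdx.getD r 0)
    (htor : ∀ γ δ, D.IsPosRoot γ → D.IsPosRoot δ → γ < δ → H8UCTor D Y γ δ) :
    H8SysP D Y 0 := by
  have main : ∀ m j, j + m = D.nroots → H8SysP D Y j := by
    intro m
    induction m with
    | zero =>
      intro j hj
      refine ⟨hadd, ?_⟩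
      intro r s hr _ hjr _ _ _
      have := hr.1
      omega
    | succ m ih =>
      intro j hj
      have hS := ih (j + 1) (by omega)
      refine ⟨hadd, ?_⟩
      intro r s hr hs hjr hrs t u
      rcases Nat.eq_or_lt_of_le hjr with rfl | hlt
      · -- the new root `j`
        have inner : ∀ n δ, δ + n = D.nroots → D.IsPosRoot δ → j < δ → ∀ t u : K,
            Y δ u * Y j t = Y j t * Y δ u * h8wX Y (D.commWord K j δ t u) := by
          intro n
          induction n using Nat.strong_induction_on with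
          | _ n ihn =>
            intro δ hδn hδ hjδ t u
            apply h8uc_pair_step h hSX hO j δ hS hρ huniq hr hδ hjδ (hneg j δ hr hδ) _
              (htor j δ hr hδ hjδ)
            intro δ' hδ' hlt' t' u'
            have := hδ'.1
            exact ihn (D.nroots - δ') (by omega) δ' (by omega) hδ' (by omega) t' u'
        exact inner (D.nroots - s) s (by have := hs.1; omega) hs hrs t u
      · exact hS.comm r s hr hs (by omega) hrs t u
  exact main D.nroots 0 (by omega)

end Cfsg.Agent.Lib.helper8
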