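import Mathlib
import Cfsg.Prelude.Def_ChevStructure
import Cfsg.Agent.Lib.helper8.ChevUC5
import Cfsg.Agent.Lib.helper8.ChevSt13

set_option autoImplicit false

namespace Cfsg.Agent.Lib.helper8

open Cfsg.Lie Cfsg.Lie.ChevalleyDatum

universe u v w

variable {K : Type u} [Field K] {Γ : Type v} [Group Γ] {E : Type w} [Group E] {ρ : E →* Γ}
variable {D : ChevalleyDatum} {X : ℕ → K → Γ} {Y : ℕ → K → E}

/-- all the relations (A), (B) for the canonical lifts: every pair of roots can be moved into the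
positive system, on which the projection is injective -/
theorem h8uc_all_sys (hSX : H8Sys D X)
    (hadd : ∀ r < D.nroots, ∀ t u : K, Y r t * Y r u = Y r (t + u))
    (hρ : ∀ r t, ρ (Y r t) = X r t)
    (hinj : ∀ y ∈ Subgroup.closure (h8VkS D Y 0), ρ y = 1 → y = 1)
    (htr : ∀ r s, r < D.nroots → s < D.nroots → s ≠ r → s ≠ D.negIdx.getD r 0 →
      ∃ g : E, (∀ v, g * Y r v * g⁻¹ ∈ Subgroup.closure (h8VkS D Y 0)) ∧
        (∀ v, g * Y s v * g⁻¹ ∈ Subgroup.closure (h8VkS D Y 0)) ∧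
        ∀ c ∈ D.commTerms r s, ∀ v, g * Y c.1 v * g⁻¹ ∈ Subgroup.closure (h8VkS D Y 0)) :
    H8Sys D Y := by
  refine ⟨hadd, ?_⟩
  intro r hr s hs h1 h2 t u
  obtain ⟨g, hgr, hgs, hgc⟩ := htr r s hr hs h1 h2
  set U := Subgroup.closure (h8VkS D Y 0) with hU
  have hW : g * h8wX Y (D.commWord K r s t u) * g⁻¹ ∈ U := by
    apply h8conj_word_mem
    intro p hp
    unfold ChevalleyDatum.commWord at hp
    rw [List.mem_map] at hp
    obtain ⟨cc, hcc, rfl⟩ := hp
    exact hgc cc hcc _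
  have hL : g * (Y s u * Y r t) * g⁻¹ ∈ U := by
    have : g * (Y s u * Y r t) * g⁻¹ = (g * Y s u * g⁻¹) * (g * Y r t * g⁻¹) := by group
    rw [this]
    exact Subgroup.mul_mem _ (hgs u) (hgr t)
  have hR : g * (Y r t * Y s u * h8wX Y (D.commWord K r s t u)) * g⁻¹ ∈ U := by
    have : g * (Y r t * Y s u * h8wX Y (D.commWord K r s t u)) * g⁻¹ =
        (g * Y r t * g⁻¹) * (g * Y s u * g⁻¹) * (g * h8wX Y (D.commWord K r s t u) * g⁻¹) := by
      group
    rw [this]
    exact Subgroup.mul_mem _ (Subgroup.mul_mem _ (hgr t) (hgs u)) hW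
  have hρeq : ρ (Y s u * Y r t) = ρ (Y r t * Y s u * h8wX Y (D.commWord K r s t u)) := by
    rw [map_mul, map_mul, map_mul, hρ, hρ, h8wX_map ρ hρ]
    exact hSX.comm r hr s hs h1 h2 t u
  have hz : ρ ((g * (Y s u * Y r t) * g⁻¹) *
      (g * (Y r t * Y s u * h8wX Y (D.commWord K r s t u)) * g⁻¹)⁻¹) = 1 := by
    have : (g * (Y s u * Y r t) * g⁻¹) *
        (g * (Y r t * Y s u * h8wX Y (D.commWord K r s t u)) * g⁻¹)⁻¹ =
        g * ((Y s u * Y r t) * (Y r t * Y s u * h8wX Y (D.commWord K r s t u))⁻¹) * g⁻¹ := by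
      group
    rw [this, map_mul, map_mul, map_mul, map_inv, map_inv, hρeq, mul_inv_cancel, mul_one,
      mul_inv_cancel]
  have := hinj _ (Subgroup.mul_mem _ hL (Subgroup.inv_mem _ hR)) hz
  rw [mul_inv_eq_one] at this
  have e := congrArg (fun z => g⁻¹ * z * g) this
  beta_reduce at e
  have l1 : g⁻¹ * (g * (Y s u * Y r t) * g⁻¹) * g = Y s u * Y r t := by group
  have l2 : g⁻¹ * (g * (Y r t * Y s u * h8wX Y (D.commWord K r s t u)) * g⁻¹) * g =
      Y r t * Y s u * h8wX Y (D.commWord K r s t u) := by group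
  rw [l1, l2] at e
  exact e

end Cfsg.Agent.Lib.helper8
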