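import Mathlib
import Cfsg.Prelude.Def_ChevStructure
import Cfsg.Agent.Lib.helper8.ChevSt25
import Cfsg.Agent.Lib.helper8.ChevTwQ5

set_option autoImplicit false
set_option linter.unusedSectionVars false

namespace Cfsg.Agent.Lib.helper8

open Cfsg.Lie Cfsg.Lie.ChevalleyDatum

universe u v

variable {K : Type u} [Field K] {Γ : Type v} [Group Γ]
variable {D : ChevalleyDatum} {X : ℕ → K → Γ}

/-- Steinberg's relation (C) for an abstract family -/
def H8RelC (D : ChevalleyDatum) (X : ℕ → K → Γ) : Prop :=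
  ∀ r < D.nroots, ∀ t u : K, t ≠ 0 → u ≠ 0 →
    h8hS D X r t * h8hS D X r u = h8hS D X r (t * u)

theorem h8hS_one (hCr : H8RelC D X) (r : ℕ) (hr : r < D.nroots) : h8hS D X r 1 = 1 := by
  have := hCr r hr 1 1 one_ne_zero one_ne_zero
  rw [mul_one] at this
  exact mul_eq_left.mp this

theorem h8hS_comm_same (hCr : H8RelC D X) (r : ℕ) (hr : r < D.nroots) (t u : K) (ht : t ≠ 0)
    (hu : u ≠ 0) : h8hS D X r t * h8hS D X r u = h8hS D X r u * h8hS D X r t := by
  rw [hCr r hr t u ht hu, hCr r hr u t hu ht, mul_comm]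

theorem h8list_prod_mul_comm {G : Type*} [Monoid G] {ι : Type*} (l : List ι) (f g : ι → G)
    (hcomm : ∀ i ∈ l, ∀ j ∈ l, Commute (g i) (f j)) :
    (l.map f).prod * (l.map g).prod = (l.map fun i => f i * g i).prod := by
  induction l with
  | nil => simp
  | cons a l ih =>
    simp only [List.map_cons, List.prod_cons]
    have h1 : Commute (g a) (l.map f).prod := by
      apply Commute.list_prod_right
      intro x hx
      obtain ⟨j, hj, rfl⟩ := List.mem_map.mp hx
      exact hcomm a (List.mem_cons_self ..) j (List.mem_cons_of_mem _ hj)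
    rw [← ih (fun i hi j hj => hcomm i (List.mem_cons_of_mem _ hi) j (List.mem_cons_of_mem _ hj))]
    calc f a * (l.map f).prod * (g a * (l.map g).prod)
        = f a * ((l.map f).prod * g a) * (l.map g).prod := by simp only [mul_assoc]
      _ = f a * (g a * (l.map f).prod) * (l.map g).prod := by rw [h1.eq]
      _ = _ := by simp only [mul_assoc]

/-- the abstract torus element with coordinates `c` -/
def h8TorS (D : ChevalleyDatum) (X : ℕ → K → Γ) (c : ℕ → K) : Γ :=
  ((List.range D.rank).map fun i => h8hS D X (D.simple i) (c i)).prod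

theorem h8TorS_congr (c c' : ℕ → K) (h : ∀ i < D.rank, c i = c' i) :
    h8TorS D X c = h8TorS D X c' := by
  unfold h8TorS
  congr 1
  apply List.map_congr_left
  intro i hi
  rw [h i (List.mem_range.mp hi)]

section
variable {hB : H8Base.{u} D} {π : Γ →* GL D.Idx K} (hP : H8Pair D hB X π 1)
  (hL : H8All D) (hWS : H8W0S D) (hN2 : H8N2 D) (hCr : H8RelC D X)
include hP hL hWS hN2 hCr

theorem h8pair_HS_fix (z : Γ) (hz : z ∈ Subgroup.closure (h8HS D X)) (r : ℕ) (hr : r < D.nroots)
    (t : K) (ht : t ≠ 0) : z * h8hS D X r t * z⁻¹ = h8hS D X r t := by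
  obtain ⟨c, hc, e⟩ := h8actNX_nS z r r (h8pair_HS_act hP hL hWS hN2 z hz r hr)
  have e1 : z * h8hS D X r t * z⁻¹ =
      (z * h8nS D X r t * z⁻¹) * (z * h8nS D X r (-1) * z⁻¹) := by
    unfold h8hS; group
  rw [e1, e t, e (-1), mul_neg, mul_one, h8nS_mul_neg hP.sys hL r hr, ← hCr r hr c t hc ht,
    h8hS_comm_same hCr r hr c t hc ht, mul_inv_cancel_right]

/-- with relation (C) the abstract torus is commutative -/
theorem h8pair_HS_comm (a b : Γ) (ha : a ∈ Subgroup.closure (h8HS D X))
    (hb : b ∈ Subgroup.closure (h8HS D X)) : a * b = b * a := by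
  induction hb using Subgroup.closure_induction with
  | mem x hx =>
    obtain ⟨i, t, hi, ht, rfl⟩ := hx
    have hp := (h8simple_pos D hL.hBN i hi).1
    exact mul_inv_eq_iff_eq_mul.mp (h8pair_HS_fix hP hL hWS hN2 hCr a ha _ hp t ht)
  | one => rw [mul_one, one_mul]
  | mul x y _ _ hx hy => rw [← mul_assoc, hx, mul_assoc, hy, mul_assoc]
  | inv x _ hx =>
    calc a * x⁻¹ = x⁻¹ * (x * a) * x⁻¹ := by group
      _ = x⁻¹ * (a * x) * x⁻¹ := by rw [hx]
      _ = x⁻¹ * a := by group

theorem h8TorS_mul (c c' : ℕ → K) (hc : ∀ i, c i ≠ 0) (hc' : ∀ i, c' i ≠ 0) :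
    h8TorS D X c * h8TorS D X c' = h8TorS D X (fun i => c i * c' i) := by
  unfold h8TorS
  rw [h8list_prod_mul_comm]
  · congr 1
    apply List.map_congr_left
    intro i hi
    have hi' := List.mem_range.mp hi
    exact hCr _ (h8simple_pos D hL.hBN i hi').1 _ _ (hc i) (hc' i)
  · intro i hi j hj
    exact h8pair_HS_comm hP hL hWS hN2 hCr _ _
      (h8hS_mem D X i (List.mem_range.mp hi) _ (hc' i))
      (h8hS_mem D X j (List.mem_range.mp hj) _ (hc j))

omit hP hWS hN2 in
theorem h8TorS_one : h8TorS D X (fun _ => (1 : K)) = 1 := by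
  unfold h8TorS
  apply List.prod_eq_one
  intro y hy
  obtain ⟨i, hi, rfl⟩ := List.mem_map.mp hy
  exact h8hS_one hCr _ (h8simple_pos D hL.hBN i (List.mem_range.mp hi)).1

omit hP hWS hN2 in
theorem h8TorS_single (i : ℕ) (hi : i < D.rank) (t : K) :
    h8TorS D X (fun k => if k = i then t else 1) = h8hS D X (D.simple i) t := by
  have key : ∀ n ≤ D.rank,
      ((List.range n).map fun k => h8hS D X (D.simple k) (if k = i then t else 1)).prod =
        if i < n then h8hS D X (D.simple i) t else 1 := by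
    intro n
    induction n with
    | zero => intro _; simp
    | succ n ih =>
      intro hn
      rw [List.range_succ, List.map_append, List.prod_append, ih (Nat.le_of_succ_le hn)]
      simp only [List.map_cons, List.map_nil, List.prod_cons, List.prod_nil, mul_one]
      by_cases hni : n = i
      · subst hni
        rw [if_neg (lt_irrefl _), if_pos rfl, if_pos (Nat.lt_succ_self _), one_mul]
      · rw [if_neg hni, h8hS_one hCr _ (h8simple_pos D hL.hBN n hn).1, mul_one]
        by_cases hin : i < n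
        · rw [if_pos hin, if_pos (Nat.lt_succ_of_lt hin)]
        · rw [if_neg hin, if_neg (by omega)]
  have := key D.rank le_rfl
  rw [if_pos hi] at this
  exact this

/-- every element of the abstract torus has coordinates -/
theorem h8pair_HS_eq_TorS (z : Γ) (hz : z ∈ Subgroup.closure (h8HS D X)) :
    ∃ c : ℕ → K, (∀ i, c i ≠ 0) ∧ z = h8TorS D X c := by
  induction hz using Subgroup.closure_induction with
  | mem x hx =>
    obtain ⟨i, t, hi, ht, rfl⟩ := hx
    refine ⟨fun k => if k = i then t else 1, ?_, (h8TorS_single hL hCr i hi t).symm⟩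
    intro k
    show (if k = i then t else 1) ≠ 0
    by_cases hk : k = i
    · rw [if_pos hk]; exact ht
    · rw [if_neg hk]; exact one_ne_zero
  | one => exact ⟨fun _ => 1, fun _ => one_ne_zero, (h8TorS_one hL hCr).symm⟩
  | mul x y _ _ hx hy =>
    obtain ⟨c, hc, rfl⟩ := hx
    obtain ⟨c', hc', rfl⟩ := hy
    exact ⟨fun i => c i * c' i, fun i => mul_ne_zero (hc i) (hc' i),
      h8TorS_mul hP hL hWS hN2 hCr c c' hc hc'⟩
  | inv x _ hx =>
    obtain ⟨c, hc, rfl⟩ := hx
    refine ⟨fun i => (c i)⁻¹, fun i => inv_ne_zero (hc i), ?_⟩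
    apply inv_eq_of_mul_eq_one_right
    rw [h8TorS_mul hP hL hWS hN2 hCr c _ hc (fun i => inv_ne_zero (hc i))]
    rw [← h8TorS_one hL hCr]
    apply h8TorS_congr
    intro i _
    exact mul_inv_cancel₀ (hc i)

omit hWS hN2 hCr in
theorem h8pair_TorS_im (c : ℕ → K) : π (h8TorS D X c) = h8Tor D hB c := by
  unfold h8TorS h8Tor
  rw [map_list_prod, List.map_map]
  congr 1
  apply List.map_congr_left
  intro i hi
  have hp := (h8simple_pos D hL.hBN i (List.mem_range.mp hi)).1
  show π (h8hS D X (D.simple i) (c i)) = h8hU D hB (D.simple i) (c i)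
  unfold h8hS
  rw [map_mul, h8pair_nS hP hL _ hp, h8pair_nS hP hL _ hp, h8nU_eq_hU D hB _ (c i), h8nU_neg,
    mul_inv_cancel_right]

end

end Cfsg.Agent.Lib.helper8
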