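import Mathlib
import Cfsg.Prelude.Def_ChevStructure
import Cfsg.Agent.Lib.helper8.ChevUC7
import Cfsg.Agent.Lib.helper8.ChevSt30

set_option autoImplicit false

namespace Cfsg.Agent.Lib.helper8

open Cfsg.Lie Cfsg.Lie.ChevalleyDatum

universe u v

variable {K : Type u} [Field K] {Γ : Type v} [Group Γ]
variable {D : ChevalleyDatum} {X : ℕ → K → Γ}

/-- the pairing of a root with a cocharacter given in the basis of the simple coroots -/
def h8pr (D : ChevalleyDatum) (m : List ℤ) (r : ℕ) : ℤ :=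
  ∑ i ∈ Finset.range D.rank, m.getD i 0 * D.cartan i r

/-- the value of a cocharacter in the abstract torus -/
def h8ucK (D : ChevalleyDatum) (X : ℕ → K → Γ) (m : List ℤ) (c : K) : Γ :=
  h8TorS D X (fun i => c ^ (m.getD i 0))

section
variable {hB : H8Base.{u} D} {π : Γ →* GL D.Idx K} (hP : H8Pair D hB X π 1)
  (hL : H8All D) (hWS : H8W0S D) (hN2 : H8N2 D)
include hP hL hWS hN2

omit hP hL hWS hN2 in
theorem h8TorS_mem (c : ℕ → K) (hc : ∀ i, c i ≠ 0) :
    h8TorS D X c ∈ Subgroup.closure (h8HS D X) := by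
  unfold h8TorS
  apply Subgroup.list_prod_mem
  intro y hy
  rw [List.mem_map] at hy
  obtain ⟨i, hi, rfl⟩ := hy
  exact h8hS_mem D X i (List.mem_range.mp hi) _ (hc i)

/-- the action of the elements of the abstract torus on the root elements -/
theorem h8pair_TorS_act (hsc : h8scChk D = true) (c : ℕ → K) (hc : ∀ i, c i ≠ 0) (r : ℕ)
    (hr : r < D.nroots) (t : K) :
    h8TorS D X c * X r t * (h8TorS D X c)⁻¹ =
      X r (h8Phi D D.rank c (Sum.inr ⟨r, hr⟩) * t) := by
  obtain ⟨κ, _, e, _⟩ := h8pair_HS_act hP hL hWS hN2 _ (h8TorS_mem c hc) r hr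
  have h1 := congrArg π (e 1)
  rw [map_mul, map_mul, map_inv, h8pair_TorS_im hP hL, h8pair_one_im hP r hr,
    h8pair_one_im hP r hr, h8Tor_conj_x D hB hsc c hc r hr] at h1
  have h2 := h8xU_inj_t D hB hL.hA hL.hW r hr _ _ h1
  rw [mul_one, mul_one] at h2
  rw [e t, h2]

theorem h8ucK_act (hsc : h8scChk D = true) (m : List ℤ) (c : K) (hc : c ≠ 0) (r : ℕ)
    (hr : r < D.nroots) (t : K) :
    h8ucK D X m c * X r t * (h8ucK D X m c)⁻¹ = X r (c ^ (h8pr D m r) * t) := by
  unfold h8ucK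
  rw [h8pair_TorS_act hP hL hWS hN2 hsc _ (fun i => zpow_ne_zero _ hc) r hr]
  congr 2
  show ∏ i ∈ Finset.range D.rank, (c ^ (m.getD i 0)) ^ D.cartan i r = c ^ (h8pr D m r)
  unfold h8pr
  rw [h8zpow_sum_range c hc]
  apply Finset.prod_congr rfl
  intro i _
  rw [zpow_mul]

omit hP hL hWS hN2 in
theorem h8ucK_mem (m : List ℤ) (c : K) (hc : c ≠ 0) :
    h8ucK D X m c ∈ Subgroup.closure (h8HS D X) :=
  h8TorS_mem _ (fun _ => zpow_ne_zero _ hc)

/-- commutators of elements of the abstract torus are central -/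
theorem h8pair_T_comm_central (hgen : Subgroup.closure (h8AllS D X) = ⊤) (k k' : Γ)
    (hk : k ∈ Subgroup.closure (h8HS D X)) (hk' : k' ∈ Subgroup.closure (h8HS D X)) (y : Γ) :
    (k * k' * k⁻¹ * k'⁻¹) * y = y * (k * k' * k⁻¹ * k'⁻¹) := by
  have h1 : π (k * k' * k⁻¹ * k'⁻¹) = 1 := by
    rw [map_mul, map_mul, map_mul, map_inv, map_inv,
      h8_H_comm D hB _ _ (h8pair_HS_image hP hL k hk) (h8pair_HS_image hP hL k' hk')]
    group
  have := (h8pair_ker_central hP hL hWS hN2 hgen _ h1).2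
  rw [Subgroup.mem_center_iff] at this
  exact (this y).symm

end

end Cfsg.Agent.Lib.helper8
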