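import Mathlib
import Cfsg.Prelude.Def_ChevStructure
import Cfsg.Agent.Lib.helper8.ChevUC6
import Cfsg.Agent.Lib.helper8.ChevUC8

set_option autoImplicit false

namespace Cfsg.Agent.Lib.helper8

open Cfsg.Lie Cfsg.Lie.ChevalleyDatum

universe u v w

variable {K : Type u} [Field K] {Γ : Type v} [Group Γ] {E : Type w} [Group E] {ρ : E →* Γ}
variable {D : ChevalleyDatum} {X : ℕ → K → Γ} {τ : ℕ → Γ} {d : ℕ → K}

/-- general equivariance of the canonical lifts: the element `g` may move `τ r` to any element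
commuting with `τ r'` up to the centre -/
theorem h8ucY_conj_gen (h : H8CE ρ) (hperf : commutator Γ = ⊤) (hT : H8UCTau D X τ d)
    (hadd : ∀ r < D.nroots, ∀ t u : K,
      h8ucY h X τ d r t * h8ucY h X τ d r u = h8ucY h X τ d r (t + u))
    (g : E) (r r' : ℕ) (hr : r < D.nroots) (hr' : r' < D.nroots) (c : K) (hc : c ≠ 0)
    (hact : ∀ t : K, ρ g * X r t * (ρ g)⁻¹ = X r' (c * t))
    (hcen : ∀ y : Γ, ((τ r')⁻¹ * ((ρ g * τ r * (ρ g)⁻¹) * τ r' * (ρ g * τ r * (ρ g)⁻¹)⁻¹)) * y =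
      y * ((τ r')⁻¹ * ((ρ g * τ r * (ρ g)⁻¹) * τ r' * (ρ g * τ r * (ρ g)⁻¹)⁻¹)))
    (t : K) : g * h8ucY h X τ d r t * g⁻¹ = h8ucY h X τ d r' (c * t) := by
  have e0 : h8ucY h X τ d r t = h.lift (τ r) * h.lift (X r (t / d r)) * (h.lift (τ r))⁻¹ *
      (h.lift (X r (t / d r)))⁻¹ := rfl
  rw [e0]
  set A := h.lift (τ r) with hA
  set B := h.lift (X r (t / d r)) with hB
  set v := c * (t / d r) with hv
  set A' := g * A * g⁻¹ with hA'
  have hρA' : ρ A' = ρ g * τ r * (ρ g)⁻¹ := by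
    rw [hA', map_mul, map_mul, map_inv, hA, h.lift_spec]
  have e1 : g * (A * B * A⁻¹ * B⁻¹) * g⁻¹ = A' * (g * B * g⁻¹) * A'⁻¹ * (g * B * g⁻¹)⁻¹ := by
    rw [hA']
    group
  have e2 : A' * (g * B * g⁻¹) * A'⁻¹ * (g * B * g⁻¹)⁻¹ =
      A' * h8ucY h X τ d r' v * A'⁻¹ * (h8ucY h X τ d r' v)⁻¹ := by
    apply h.comm_eq rfl
    rw [map_mul, map_mul, map_inv, hB, h.lift_spec, hact, h8ucY_im h hT r' hr']
  -- the action of `A'`
  have hact' : ∀ s : K, ρ A' * X r' s * (ρ A')⁻¹ = X r' ((d r + 1) * s) := by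
    intro s
    rw [hρA']
    have h1 := hact (c⁻¹ * s)
    rw [← mul_assoc, mul_inv_cancel₀ hc, one_mul] at h1
    have h2 : (ρ g)⁻¹ * X r' s * ρ g = X r (c⁻¹ * s) := by
      rw [← h1]
      group
    have e : ρ g * τ r * (ρ g)⁻¹ * X r' s * (ρ g * τ r * (ρ g)⁻¹)⁻¹ =
        ρ g * (τ r * ((ρ g)⁻¹ * X r' s * ρ g) * (τ r)⁻¹) * (ρ g)⁻¹ := by group
    rw [e, h2, hT.act r hr, hact]
    congr 1
    field_simp
  have e3 : A' * h8ucY h X τ d r' v * A'⁻¹ = h8ucY h X τ d r' ((d r + 1) * v) := by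
    apply h8ucY_conj h hperf A' r' r' (d r + 1) rfl hact'
    rw [hρA']
    exact hcen
  have hinv : (h8ucY h X τ d r' v)⁻¹ = h8ucY h X τ d r' (-v) := by
    have h0 : h8ucY h X τ d r' 0 = 1 := by
      have := hadd r' hr' 0 0
      rw [add_zero] at this
      exact mul_eq_left.mp this
    rw [inv_eq_iff_mul_eq_one, hadd r' hr', add_neg_cancel, h0]
  rw [e1, e2, e3, hinv, hadd r' hr']
  congr 1
  rw [hv]
  have := hT.dne r hr
  field_simp
  ring

end Cfsg.Agent.Lib.helper8
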