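import Mathlib
import Cfsg.Prelude.Def_ChevStructure
import Cfsg.Agent.Lib.helper8.ChevUC9

set_option autoImplicit false

namespace Cfsg.Agent.Lib.helper8

open Cfsg.Lie Cfsg.Lie.ChevalleyDatum

universe u v w

variable {K : Type u} [Field K] {Γ : Type v} [Group Γ] {E : Type w} [Group E] {ρ : E →* Γ}
variable {D : ChevalleyDatum} {X : ℕ → K → Γ}

/-- uniqueness of the coordinates of an ordered product in the abstract group -/
theorem h8pair_ord_unique {hB : H8Base.{u} D} {π : Γ →* GL D.Idx K} (hP : H8Pair D hB X π 1)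
    (hL : H8All D) (k : ℕ) (t : ℕ → K) (h1 : h8wX X (h8ordW D k t) = 1) :
    ∀ r ∈ h8Lk D k, t r = 0 := by
  intro r hr
  have hkn : k ≤ D.nroots := by
    have := ((h8Lk_mem D k r).mp hr)
    have := this.2.1
    omega
  have hlt : ∀ p ∈ h8ordW D k t, p.1 < D.nroots := by
    intro p hp
    unfold h8ordW at hp
    rw [List.mem_map] at hp
    obtain ⟨q, hq, rfl⟩ := hp
    exact ((h8Lk_mem D k q).mp hq).2.1
  have e1 := h8pair_word hP _ hlt
  rw [h1, map_one, mul_one, mul_inv_cancel] at e1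
  have hzero : ∀ (L : List ℕ), h8wordU D hB (L.map fun r => (r, (0 : K))) = 1 := by
    intro L
    induction L with
    | nil => rfl
    | cons r L ih => rw [List.map_cons, h8wordU_cons, ih, mul_one, h8xU_zero]
  have e2 : h8wordU D hB (h8ordW D k t) = h8wordU D hB (h8ordW D k (fun _ => (0 : K))) := by
    rw [← e1]
    unfold h8ordW
    rw [hzero]
  exact h8ord_unique D hB hL.hO2 (D.nroots - k) k (by omega) t (fun _ => 0) e2 r hr

/-- Steinberg's theorem, the main step: in a central extension of a perfect group with a root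
system of elements (with a faithful enough matrix representation) the root elements lift to a
system satisfying the relations (A) and (B), if the field is large enough -/
theorem h8uc_sys_main {hB : H8Base.{u} D} {π : Γ →* GL D.Idx K} (hP : H8Pair D hB X π 1)
    (hL : H8All D) (hWS : H8W0S D) (hN2 : H8N2 D)
    (hgen : Subgroup.closure (h8AllS D X) = ⊤) (hperf : commutator Γ = ⊤)
    (hsc : h8scChk D = true) (hO3 : H8Ord3 D) (hX0 : ∀ r, D.nroots ≤ r → ∀ t : K, X r t = 1)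
    (h : H8CE ρ)
    (mf : ℕ → List ℤ) (hmf : ∀ r < D.nroots, h8pr D (mf r) r = 1)
    (hPM : ∀ γ δ, D.IsPosRoot γ → D.IsPosRoot δ → γ < δ → ∃ m : List ℤ, h8pr D m δ = 0 ∧
      (h8pr D m γ = 1 ∨ h8pr D m γ = 2 ∨ h8pr D m γ = 3))
    (hK1 : ∃ χ χ' : K, χ ≠ 0 ∧ χ' ≠ 0 ∧ χ + χ' = 1 ∧ χ * χ' ≠ 1)
    (hK2 : ∀ e : ℕ, 1 ≤ e → e ≤ 3 → ∃ c : K, c ≠ 0 ∧ c ^ e ≠ 1) :
    ∃ Y : ℕ → K → E, H8Sys D Y ∧ (∀ r t, ρ (Y r t) = X r t) ∧
      ∀ q, D.nroots ≤ q → ∀ v, Y q v = 1 := by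
  obtain ⟨χ, χ', hχ, hχ', hsum, hprod⟩ := hK1
  obtain ⟨c₁, hc₁0, hc₁1⟩ := hK2 1 le_rfl (by norm_num)
  rw [pow_one] at hc₁1
  let τ : ℕ → Γ := fun r => h8ucK D X (mf r) c₁
  let d : ℕ → K := fun _ => c₁ - 1
  have hact1 : ∀ (c : K), c ≠ 0 → ∀ r < D.nroots, ∀ t : K,
      h8ucK D X (mf r) c * X r t * (h8ucK D X (mf r) c)⁻¹ = X r (c * t) := by
    intro c hc r hr t
    rw [h8ucK_act hP hL hWS hN2 hsc (mf r) c hc r hr, hmf r hr, zpow_one]
  have hTau : H8UCTau D X τ d := by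
    refine ⟨hP.sys, fun r _ => sub_ne_zero.mpr hc₁1, ?_⟩
    intro r hr t
    show h8ucK D X (mf r) c₁ * X r t * (h8ucK D X (mf r) c₁)⁻¹ = X r ((c₁ - 1 + 1) * t)
    rw [hact1 c₁ hc₁0 r hr, sub_add_cancel]
  obtain ⟨Y, hYdef⟩ : ∃ Y : ℕ → K → E, Y = h8ucY h X τ d := ⟨_, rfl⟩
  have hρ : ∀ r t, ρ (Y r t) = X r t := by
    intro r t
    rw [hYdef]
    by_cases hr : r < D.nroots
    · exact h8ucY_im h hTau r hr t
    · unfold h8ucY
      rw [map_mul, map_mul, map_mul, map_inv, map_inv, h.lift_spec, h.lift_spec,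
        hX0 r (by omega), hX0 r (by omega)]
      group
  have hY1 : ∀ q, D.nroots ≤ q → ∀ v, Y q v = 1 := by
    intro q hq v
    rw [hYdef]
    unfold h8ucY
    have hz : ρ (h.lift (X q (v / d q))) = 1 := by rw [h.lift_spec, hX0 q hq]
    rw [mul_assoc (h.lift (τ q)), h.central _ hz, ← mul_assoc, mul_inv_cancel, one_mul,
      mul_inv_cancel]
  have hadd : ∀ r < D.nroots, ∀ t u : K, Y r t * Y r u = Y r (t + u) := by
    intro r hr t u
    rw [hYdef]
    apply h8ucY_add h hTau r hr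
    intro a b x y hx hy
    exact h8uc_self_comm h hP.sys r hr χ χ' hχ hχ' hsum hprod (h8ucK D X (mf r) χ)
      (h8ucK D X (mf r) χ') (hact1 χ hχ r hr) (hact1 χ' hχ' r hr) a b x y hx hy
  have hτT : ∀ r, τ r ∈ Subgroup.closure (h8HS D X) := fun r => h8ucK_mem _ _ hc₁0
  -- equivariance under the torus
  have htorus : ∀ (m : List ℤ) (c : K), c ≠ 0 → ∀ r < D.nroots, ∀ t : K,
      h.lift (h8ucK D X m c) * Y r t * (h.lift (h8ucK D X m c))⁻¹ =
        Y r (c ^ (h8pr D m r) * t) := by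
    intro m c hc r hr t
    rw [hYdef]
    apply h8ucY_conj h hperf _ r r _ rfl
    · intro t
      rw [h.lift_spec]
      exact h8ucK_act hP hL hWS hN2 hsc m c hc r hr t
    · rw [h.lift_spec]
      intro y
      have := h8pair_T_comm_central hP hL hWS hN2 hgen (τ r)⁻¹ (h8ucK D X m c)
        (Subgroup.inv_mem _ (hτT r)) (h8ucK_mem _ _ hc) y
      rw [inv_inv] at this
      have e : (τ r)⁻¹ * (h8ucK D X m c * τ r * (h8ucK D X m c)⁻¹) =
          (τ r)⁻¹ * h8ucK D X m c * τ r * (h8ucK D X m c)⁻¹ := by group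
      rw [e]
      exact this
  -- the torus hypothesis for the pairs of positive roots
  have htor : ∀ γ δ, D.IsPosRoot γ → D.IsPosRoot δ → γ < δ → H8UCTor D Y γ δ := by
    intro γ δ hγ hδ hγδ
    obtain ⟨m, h0, he⟩ := hPM γ δ hγ hδ hγδ
    have hex : ∃ c : K, c ≠ 0 ∧ c ^ (h8pr D m γ) ≠ 1 := by
      rcases he with he | he | he
      · obtain ⟨c, hc, hc'⟩ := hK2 1 le_rfl (by norm_num)
        exact ⟨c, hc, by rw [he]; simpa using hc'⟩
      · obtain ⟨c, hc, hc'⟩ := hK2 2 (by norm_num) (by norm_num)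
        refine ⟨c, hc, ?_⟩
        rw [he]
        exact_mod_cast hc'
      · obtain ⟨c, hc, hc'⟩ := hK2 3 (by norm_num) le_rfl
        refine ⟨c, hc, ?_⟩
        rw [he]
        exact_mod_cast hc'
    obtain ⟨c, hc, hce⟩ := hex
    refine ⟨h.lift (h8ucK D X m c), c ^ (h8pr D m γ), hce, ?_, ?_, ?_⟩
    · exact htorus m c hc γ hγ.1
    · intro u
      have := htorus m c hc δ hδ.1 u
      rw [h0, zpow_zero, one_mul] at this
      exact this
    · intro r hr t
      exact ⟨_, htorus m c hc r hr.1 t⟩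
  have huniq : ∀ (k : ℕ) (t : ℕ → K), h8wX X (h8ordW D k t) = 1 → ∀ r ∈ h8Lk D k, t r = 0 :=
    fun k t h1 => h8pair_ord_unique hP hL k t h1
  have hneg : ∀ r s, D.IsPosRoot r → D.IsPosRoot s → s ≠ D.negIdx.getD r 0 := by
    intro r s hr hs he
    have h1 := h8stNegOfPos hB hL r hr
    rw [← he] at h1
    have h2 := (h8isPos_iff hB hL s hs.1).mp hs
    have h3 := (h8isNeg_iff hB hL s hs.1).mp h1
    omega
  have hSP := h8uc_pos_sys h hP.sys hO3 hadd hρ huniq hneg htor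
  have hinj : ∀ y ∈ Subgroup.closure (h8VkS D Y 0), ρ y = 1 → y = 1 := fun y hy h1 =>
    h8sysP_inj hSP hO3 ρ hρ huniq 0 le_rfl y hy h1
  refine ⟨Y, ?_, hρ, hY1⟩
  apply h8uc_all_sys hP.sys hadd hρ hinj
  intro r s hr hs h1 h2
  obtain ⟨w, hw, hpr, hps, hpc⟩ := h8uc_move hB hL hWS hO3 r s hr hs h1 h2
  have hn := h8nWS_mem_NS (D := D) (X := X) w hw
  have hnorm := h8pair_NS_le_normalizer hP hL hWS hN2 hn
  -- equivariance under the lift of the word
  have hmove : ∀ q < D.nroots, D.IsPosRoot (h8sW D w q) → ∀ v : K,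
      h.lift (h8nWS D X w) * Y q v * (h.lift (h8nWS D X w))⁻¹ ∈
        Subgroup.closure (h8VkS D Y 0) := by
    intro q hq hpos v
    obtain ⟨κ, hκ, e, _⟩ := h8pair_nWS_act hP hL hWS hN2 w hw q hq
    have hq' := hpos.1
    have key : h.lift (h8nWS D X w) * Y q v * (h.lift (h8nWS D X w))⁻¹ =
        Y (h8sW D w q) (κ * v) := by
      rw [hYdef]
      apply h8ucY_conj_gen h hperf hTau (by rw [← hYdef]; exact hadd) _ q _ hq hq' κ hκ
      · intro t
        rw [h.lift_spec]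
        exact e t
      · rw [h.lift_spec]
        intro y
        have hmem : h8nWS D X w * τ q * (h8nWS D X w)⁻¹ ∈ Subgroup.closure (h8HS D X) :=
          (Subgroup.mem_normalizer_iff.mp hnorm (τ q)).mp (hτT q)
        have := h8pair_T_comm_central hP hL hWS hN2 hgen (τ (h8sW D w q))⁻¹ _
          (Subgroup.inv_mem _ (hτT _)) hmem y
        rw [inv_inv] at this
        have e' : (τ (h8sW D w q))⁻¹ * (h8nWS D X w * τ q * (h8nWS D X w)⁻¹ * τ (h8sW D w q) *
            (h8nWS D X w * τ q * (h8nWS D X w)⁻¹)⁻¹) =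
            (τ (h8sW D w q))⁻¹ * (h8nWS D X w * τ q * (h8nWS D X w)⁻¹) * τ (h8sW D w q) *
            (h8nWS D X w * τ q * (h8nWS D X w)⁻¹)⁻¹ := by group
        rw [e']
        exact this
    rw [key]
    exact Subgroup.subset_closure ⟨_, _, hpos, Nat.zero_le _, rfl⟩
  refine ⟨h.lift (h8nWS D X w), hmove r hr hpr, hmove s hs hps, ?_⟩
  intro c hc v
  by_cases hlt : c.1 < D.nroots
  · exact hmove c.1 hlt (hpc c hc) v
  · rw [hY1 c.1 (by omega), mul_one, mul_inv_cancel]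
    exact Subgroup.one_mem _

end Cfsg.Agent.Lib.helper8
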