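import Mathlib
import Cfsg.Prelude.Def_ChevStructure
import Cfsg.Prelude.Def_ChevG2
import Cfsg.Prelude.Def_ChevB2
import Cfsg.Prelude.Def_ChevD4
import Cfsg.Prelude.Def_ChevF4
import Cfsg.Prelude.Def_ChevE6
import Cfsg.Prelude.Def_ChevE7
import Cfsg.Prelude.Def_ChevE8
import Cfsg.Agent.Lib.helper8.ChevUC10

set_option autoImplicit false

namespace Cfsg.Agent.Lib.helper8

open Cfsg.Lie Cfsg.Lie.ChevalleyDatum

universe u

/-- list version of the pairing -/
def h8prL (D : ChevalleyDatum) (m : List ℤ) (r : ℕ) : ℤ :=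
  ((List.range D.rank).map fun i => m.getD i 0 * D.cartan i r).sum

theorem h8uc_sum_range_list (f : ℕ → ℤ) (n : ℕ) :
    ∑ i ∈ Finset.range n, f i = ((List.range n).map f).sum := by
  induction n with
  | zero => rfl
  | succ n ih =>
    rw [Finset.sum_range_succ, List.range_succ, List.map_append, List.sum_append, ih]
    simp

theorem h8pr_eq (D : ChevalleyDatum) (m : List ℤ) (r : ℕ) : h8pr D m r = h8prL D m r :=
  h8uc_sum_range_list _ _

/-- check: the terms of the commutator formula of two positive roots are higher positive roots -/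
def h8ord3Chk (D : ChevalleyDatum) : Bool :=
  (List.range D.nroots).all fun r => (List.range D.nroots).all fun s =>
    if D.nroots / 2 ≤ r ∧ D.nroots / 2 ≤ s ∧ r ≠ s then
      (D.commTerms r s).all fun c =>
        decide (D.nroots / 2 ≤ c.1 ∧ c.1 < D.nroots ∧ r < c.1 ∧ s < c.1)
    else true

theorem h8ord3_of_chk (D : ChevalleyDatum) (hB : H8Base.{u} D) (hL : H8All D)
    (h : h8ord3Chk D = true) : H8Ord3 D := by
  intro r s hr hs hne c hc
  unfold h8ord3Chk at h
  rw [List.all_eq_true] at h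
  have h1 := h r (List.mem_range.mpr hr.1)
  rw [List.all_eq_true] at h1
  have h2 := h1 s (List.mem_range.mpr hs.1)
  rw [if_pos ⟨(h8isPos_iff hB hL r hr.1).mp hr, (h8isPos_iff hB hL s hs.1).mp hs, hne⟩,
    List.all_eq_true] at h2
  have h3 := h2 c hc
  rw [decide_eq_true_eq] at h3
  exact ⟨(h8isPos_iff hB hL c.1 h3.2.1).mpr h3.1, h3.2.2.1, h3.2.2.2⟩

theorem h8ord3Chk_G2 : h8ord3Chk chevG2 = true := by decide +kernel
theorem h8ord3Chk_B2 : h8ord3Chk chevB2 = true := by decide +kernel
theorem h8ord3Chk_D4 : h8ord3Chk chevD4 = true := by decide +kernel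
theorem h8ord3Chk_F4 : h8ord3Chk chevF4 = true := by decide +kernel

/-- the candidate cocharacters -/
def h8ucCands (D : ChevalleyDatum) : List (List ℤ) :=
  ((List.range D.rank).flatMap fun i =>
    [(List.range D.rank).map fun j => if j = i then (1 : ℤ) else 0,
     (List.range D.rank).map fun j => if j = i then (-1 : ℤ) else 0]) ++
  [(List.range D.rank).map fun _ => (1 : ℤ), (List.range D.rank).map fun _ => (-1 : ℤ)]

/-- a cocharacter pairing to `1` with the root `r` -/
def h8ucM (D : ChevalleyDatum) (r : ℕ) : List ℤ :=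
  ((h8ucCands D).find? fun m => decide (h8prL D m r = 1)).getD []

def h8ucMChk (D : ChevalleyDatum) : Bool :=
  (List.range D.nroots).all fun r => decide (h8prL D (h8ucM D r) r = 1)

theorem h8ucM_spec (D : ChevalleyDatum) (h : h8ucMChk D = true) (r : ℕ) (hr : r < D.nroots) :
    h8pr D (h8ucM D r) r = 1 := by
  unfold h8ucMChk at h
  rw [List.all_eq_true] at h
  have := h r (List.mem_range.mpr hr)
  rw [decide_eq_true_eq] at this
  rw [h8pr_eq]
  exact this

theorem h8ucMChk_G2 : h8ucMChk chevG2 = true := by decide +kernel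
theorem h8ucMChk_D4 : h8ucMChk chevD4 = true := by decide +kernel
theorem h8ucMChk_F4 : h8ucMChk chevF4 = true := by decide +kernel

/-- coordinates of the coroots -/
def h8cor (D : ChevalleyDatum) (r i : ℕ) : ℤ := (D.coroot.getD r #[]).getD i 0

/-- a cocharacter vanishing on `δ` and not on `γ` -/
def h8ucPM (D : ChevalleyDatum) (γ δ : ℕ) : List ℤ :=
  let cg := (List.range D.rank).map (h8cor D γ)
  let p := h8prL D cg δ
  if p = 0 then cg else (List.range D.rank).map fun i => 2 * h8cor D γ i - p * h8cor D δ i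

def h8ucPMChk (D : ChevalleyDatum) : Bool :=
  (List.range D.nroots).all fun γ => (List.range D.nroots).all fun δ =>
    if D.nroots / 2 ≤ γ ∧ γ < δ then
      decide (h8prL D (h8ucPM D γ δ) δ = 0) &&
        (decide (h8prL D (h8ucPM D γ δ) γ = 1) || decide (h8prL D (h8ucPM D γ δ) γ = 2) ||
          decide (h8prL D (h8ucPM D γ δ) γ = 3))
    else true

theorem h8ucPM_spec (D : ChevalleyDatum) (hB : H8Base.{u} D) (hL : H8All D)
    (h : h8ucPMChk D = true) (γ δ : ℕ) (hγ : D.IsPosRoot γ) (hδ : D.IsPosRoot δ) (hγδ : γ < δ) :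
    ∃ m : List ℤ, h8pr D m δ = 0 ∧ (h8pr D m γ = 1 ∨ h8pr D m γ = 2 ∨ h8pr D m γ = 3) := by
  unfold h8ucPMChk at h
  rw [List.all_eq_true] at h
  have h1 := h γ (List.mem_range.mpr hγ.1)
  rw [List.all_eq_true] at h1
  have h2 := h1 δ (List.mem_range.mpr hδ.1)
  rw [if_pos ⟨(h8isPos_iff hB hL γ hγ.1).mp hγ, hγδ⟩] at h2
  simp only [Bool.and_eq_true, Bool.or_eq_true, decide_eq_true_eq] at h2
  refine ⟨h8ucPM D γ δ, ?_, ?_⟩
  · rw [h8pr_eq]; exact h2.1
  · rw [h8pr_eq]
    rcases h2.2 with (h3 | h3) | h3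
    · exact Or.inl h3
    · exact Or.inr (Or.inl h3)
    · exact Or.inr (Or.inr h3)

theorem h8ucPMChk_G2 : h8ucPMChk chevG2 = true := by decide +kernel
theorem h8ucPMChk_B2 : h8ucPMChk chevB2 = true := by decide +kernel
theorem h8ucPMChk_D4 : h8ucPMChk chevD4 = true := by decide +kernel
theorem h8ucPMChk_F4 : h8ucPMChk chevF4 = true := by decide +kernel

end Cfsg.Agent.Lib.helper8
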