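import Mathlib
import Cfsg.Prelude.Def_SteinbergCover
import Cfsg.Agent.Lib.helper8.ChevUC11
import Cfsg.Agent.Lib.helper8.ChevSt19
import Cfsg.Agent.Lib.helper8.ChevStC4
import Cfsg.Agent.Lib.helper8.ChevTabSC

set_option autoImplicit false
set_option linter.unusedSectionVars false

namespace Cfsg.Agent.Lib.helper8

open Cfsg.Lie Cfsg.Lie.ChevalleyDatum

universe u w

variable {K : Type u} [Field K] {E : Type w} [Group E]

/-- the images of the free generators under a system of root elements -/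
def h8ucF (D : ChevalleyDatum) (Y : ℕ → K → E) : Fin D.nroots × K → E :=
  fun p => Y p.1.val p.2

theorem h8ucF_stX (D : ChevalleyDatum) (Y : ℕ → K → E)
    (hY0 : ∀ q, D.nroots ≤ q → ∀ v : K, Y q v = 1) (r : ℕ) (t : K) :
    FreeGroup.lift (h8ucF D Y) (D.stX r t) = Y r t := by
  unfold ChevalleyDatum.stX
  by_cases hr : r < D.nroots
  · rw [dif_pos hr, FreeGroup.lift_apply_of]
    rfl
  · rw [dif_neg hr, map_one, hY0 r (not_lt.mp hr)]

theorem h8ucF_stWord (D : ChevalleyDatum) (Y : ℕ → K → E)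
    (hY0 : ∀ q, D.nroots ≤ q → ∀ v : K, Y q v = 1) (w : List (ℕ × K)) :
    FreeGroup.lift (h8ucF D Y) (D.stWord w) = h8wX Y w := by
  unfold ChevalleyDatum.stWord h8wX
  rw [map_list_prod, List.map_map]
  congr 1
  apply List.map_congr_left
  intro p _
  exact h8ucF_stX D Y hY0 p.1 p.2

theorem h8ucF_rels (D : ChevalleyDatum) (Y : ℕ → K → E) (hS : H8Sys D Y)
    (hY0 : ∀ q, D.nroots ≤ q → ∀ v : K, Y q v = 1) :
    ∀ g ∈ D.steinbergRelsAB K, FreeGroup.lift (h8ucF D Y) g = 1 := by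
  intro g hg
  rcases hg with ⟨r, t₁, t₂, hr, rfl⟩ | ⟨r, s, t, u, hr, hs, h1, h2, rfl⟩
  · rw [map_mul, map_mul, map_inv, h8ucF_stX D Y hY0, h8ucF_stX D Y hY0, h8ucF_stX D Y hY0,
      hS.add r hr, mul_inv_cancel]
  · rw [map_mul, map_mul, map_mul, map_mul, map_inv, map_inv, map_inv, h8ucF_stX D Y hY0,
      h8ucF_stX D Y hY0, h8ucF_stWord D Y hY0, mul_inv_eq_one]
    have key := hS.comm r hr s hs h1 h2 t u
    rw [mul_assoc, mul_assoc, key]
    group

/-- the homomorphism from the cover defined by a system of root elements -/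
noncomputable def h8ucSigma (D : ChevalleyDatum) (Y : ℕ → K → E) (hS : H8Sys D Y)
    (hY0 : ∀ q, D.nroots ≤ q → ∀ v : K, Y q v = 1) : D.SteinbergCover K →* E :=
  PresentedGroup.toGroup (h8ucF_rels D Y hS hY0)

theorem h8ucSigma_gen (D : ChevalleyDatum) (Y : ℕ → K → E) (hS : H8Sys D Y)
    (hY0 : ∀ q, D.nroots ≤ q → ∀ v : K, Y q v = 1) (r : ℕ) (t : K) :
    h8ucSigma D Y hS hY0 (D.scGen K r t) = Y r t := by
  unfold h8ucSigma ChevalleyDatum.scGen
  have : (PresentedGroup.toGroup (h8ucF_rels D Y hS hY0))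
      (PresentedGroup.mk (D.steinbergRelsAB K) (D.stX r t)) =
      FreeGroup.lift (h8ucF D Y) (D.stX r t) := rfl
  rw [this, h8ucF_stX D Y hY0]

/-- field lemma: a pair of nonzero scalars with sum one and product not one -/
theorem h8field_K1 (hK5 : ∃ s : Finset K, 4 < s.card) :
    ∃ χ χ' : K, χ ≠ 0 ∧ χ' ≠ 0 ∧ χ + χ' = 1 ∧ χ * χ' ≠ 1 := by
  classical
  obtain ⟨s, hs⟩ := hK5
  by_contra hcon
  push Not at hcon
  -- every element of `s` other than 0, 1 satisfies x * (1 - x) = 1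
  have hroot : ∀ x ∈ s, x ≠ 0 → x ≠ 1 → x * (1 - x) = 1 := by
    intro x _ h0 h1
    exact hcon x (1 - x) h0 (sub_ne_zero.mpr (Ne.symm h1)) (by ring)
  -- two such elements are equal or have sum one
  have hpair : ∀ x ∈ s, ∀ y ∈ s, x ≠ 0 → x ≠ 1 → y ≠ 0 → y ≠ 1 → x ≠ y → x + y = 1 := by
    intro x hx y hy hx0 hx1 hy0 hy1 hxy
    have e1 := hroot x hx hx0 hx1
    have e2 := hroot y hy hy0 hy1
    have : (x - y) * (x + y - 1) = 0 := by linear_combination e2 - e1
    rcases mul_eq_zero.mp this with h | h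
    · exact absurd (sub_eq_zero.mp h) hxy
    · linear_combination h
  have hc : 2 < ((s.erase 0).erase 1).card := by
    have h1 := Finset.pred_card_le_card_erase (s := s) (a := (0 : K))
    have h2 := Finset.pred_card_le_card_erase (s := s.erase 0) (a := (1 : K))
    omega
  obtain ⟨a, b, c, ha, hb, hc', hab, hac, hbc⟩ := Finset.two_lt_card_iff.mp hc
  simp only [Finset.mem_erase] at ha hb hc'
  have e1 := hpair a ha.2.2 b hb.2.2 ha.2.1 ha.1 hb.2.1 hb.1 hab
  have e2 := hpair a ha.2.2 c hc'.2.2 ha.2.1 ha.1 hc'.2.1 hc'.1 hac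
  apply hbc
  linear_combination e1 - e2

/-- field lemma: a nonzero scalar whose `e`-th power is not one, `e ≤ 3` -/
theorem h8field_K2 (hK5 : ∃ s : Finset K, 4 < s.card) (e : ℕ) (he1 : 1 ≤ e) (he3 : e ≤ 3) :
    ∃ c : K, c ≠ 0 ∧ c ^ e ≠ 1 := by
  classical
  obtain ⟨s, hs⟩ := hK5
  by_contra hcon
  push Not at hcon
  have hsub : s ⊆ insert 0 (Polynomial.nthRoots e (1 : K)).toFinset := by
    intro x _
    rw [Finset.mem_insert, Multiset.mem_toFinset, Polynomial.mem_nthRoots (by omega)]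
    by_cases h0 : x = 0
    · exact Or.inl h0
    · exact Or.inr (hcon x h0)
  have h1 := Finset.card_le_card hsub
  have h2 := Finset.card_insert_le (0 : K) (Polynomial.nthRoots e (1 : K)).toFinset
  have h3 := Multiset.toFinset_card_le (Polynomial.nthRoots e (1 : K))
  have h4 := Polynomial.card_nthRoots e (1 : K)
  omega

theorem h8scGen_oob (D : ChevalleyDatum) (r : ℕ) (hr : D.nroots ≤ r) (t : K) :
    D.scGen K r t = 1 := by
  unfold ChevalleyDatum.scGen ChevalleyDatum.stX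
  rw [dif_neg (not_lt.mpr hr)]
  rfl

/-- Steinberg's theorem: every central extension of the cover splits -/
theorem h8uc_split (D : ChevalleyDatum)
    (hD : D ∈ [chevG2, chevB2, chevD4, chevF4, chevE6, chevE7, chevE8])
    (hK5 : ∃ s : Finset K, 4 < s.card)
    (hO3 : h8ord3Chk D = true) (hM : h8ucMChk D = true) (hPMc : h8ucPMChk D = true)
    {ρ : E →* D.SteinbergCover K} (h : H8CE ρ) :
    ∃ τ : D.SteinbergCover K →* E, ρ.comp τ = MonoidHom.id _ := by
  have hB := h8base_all.{u} D hD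
  have hC := h8commAll.{u} D hD
  have hL := h8all_all D hD
  have hperf : commutator (D.SteinbergCover K) = ⊤ := by
    apply h8sc_perfect_all D hD
    intro _
    obtain ⟨c, hc0, hc1⟩ := h8field_K2 hK5 1 le_rfl (by norm_num)
    exact ⟨c, hc0, by simpa using hc1⟩
  obtain ⟨Y, hS, hρ, hY0⟩ := h8uc_sys_main (h8sc_pair (K := K) D hB hC) hL (h8w0s_all D hD)
    (h8n2_all D hD) (h8sc_gen D) hperf (h8scChk_all D hD) (h8ord3_of_chk D hB hL hO3)
    (fun r hr t => h8scGen_oob D r hr t) h (h8ucM D) (fun r hr => h8ucM_spec D hM r hr)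
    (fun γ δ hγ hδ hγδ => h8ucPM_spec D hB hL hPMc γ δ hγ hδ hγδ)
    (h8field_K1 hK5) (fun e he1 he3 => h8field_K2 hK5 e he1 he3)
  refine ⟨h8ucSigma D Y hS hY0, ?_⟩
  apply PresentedGroup.ext
  intro p
  rw [MonoidHom.comp_apply, MonoidHom.id_apply]
  have e1 : (PresentedGroup.of p : D.SteinbergCover K) = D.scGen K p.1.val p.2 := by
    unfold ChevalleyDatum.scGen ChevalleyDatum.stX
    rw [dif_pos p.1.2]
    rfl
  rw [e1, h8ucSigma_gen, hρ]

end Cfsg.Agent.Lib.helper8
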