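import Mathlib
import Cfsg.Prelude.Def_ChevStructure
import Cfsg.Agent.Lib.helper8.ChevOver
import Cfsg.Agent.Lib.helper8.ChevSyl
import Cfsg.Agent.Lib.helper8.ChevPerf
import Cfsg.Agent.Lib.helper8.ChevAU2

set_option autoImplicit false

namespace Cfsg.Agent.Lib.helper8

open Cfsg.Lie Cfsg.Lie.ChevalleyDatum

universe u

variable {F : Type u} [Field F]

/-- `N_G(U) = B` -/
theorem h8au_normalizer_U (D : ChevalleyDatum) (hB : H8Base.{u} D) (hA : H8ReflAll D)
    (hC : H8CommAll.{u} D) (hBN : H8BN D) (hW : H8BN2 D) (hO2 : H8Ord2 D) :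
    Subgroup.normalizer (D.posUnipotent F : Set (GL D.Idx F)) ⊓ D.group F =
      D.borelSubgroup F := by
  have hBP : D.borelSubgroup F ≤ Subgroup.normalizer (D.posUnipotent F : Set (GL D.Idx F)) := by
    unfold ChevalleyDatum.borelSubgroup
    exact sup_le Subgroup.le_normalizer (h8_H_le_normalizer_U D hB)
  apply le_antisymm
  · refine le_trans (h8overgroup D hB hA hC hBN hW hO2 _ hBP) ?_
    apply sup_le le_rfl
    rw [Subgroup.closure_le]
    rintro g ⟨i, hi, rfl, hn⟩
    exfalso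
    have hpi := h8simple_pos D hBN i hi
    have hx : h8xU D hB (D.simple i) (1 : F) ∈ D.posUnipotent F := h8xU_mem_U D hB _ hpi 1
    have hconj := (Subgroup.mem_normalizer_iff.mp hn _).mp hx
    obtain ⟨c, hc, hact⟩ := h8act_nU (F := F) D hB hA i hi (D.simple i) hpi.1
    rw [hact 1, h8reflectRoot_simple] at hconj
    exact h8xneg_not_mem_B D hB hA hBN hW _ hpi (c * 1) (mul_ne_zero hc one_ne_zero)
      (h8U_le_B D hconj)
  · exact le_inf hBP (h8_B_le_group D hB)

theorem h8au_V_le_group (D : ChevalleyDatum) (hB : H8Base.{u} D) :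
    D.negUnipotent F ≤ D.group F := by
  unfold ChevalleyDatum.negUnipotent
  rw [Subgroup.closure_le]
  rintro g ⟨r, t, _, hg⟩
  rw [h8au_gen_eq D hB g r t hg]
  exact h8xU_mem_group D hB r t

theorem h8au_rootSubgroup_le_group (D : ChevalleyDatum) (hB : H8Base.{u} D) (r : ℕ) :
    D.rootSubgroup F r ≤ D.group F := by
  unfold ChevalleyDatum.rootSubgroup
  rw [Subgroup.closure_le]
  rintro g ⟨t, hg⟩
  rw [h8au_gen_eq D hB g r t hg]
  exact h8xU_mem_group D hB r t

section transfer

variable {Γ : Type*} [Group Γ] (G : Subgroup Γ)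

theorem h8au_subgroupOf_map_conj (K : Subgroup Γ) (z : ↥G) :
    (K.subgroupOf G).map (MulAut.conj z).toMonoidHom =
      (K.map (MulAut.conj (z : Γ)).toMonoidHom).subgroupOf G := by
  ext w
  rw [Subgroup.mem_map, Subgroup.mem_subgroupOf, Subgroup.mem_map]
  constructor
  · rintro ⟨y, hy, rfl⟩
    exact ⟨y.val, Subgroup.mem_subgroupOf.mp hy, rfl⟩
  · rintro ⟨k, hk, hkw⟩
    have hkG : k ∈ G := by
      have : k = (z : Γ)⁻¹ * w.val * z := by
        rw [← hkw]
        simp [mul_assoc]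
      rw [this]
      exact G.mul_mem (G.mul_mem (G.inv_mem z.2) w.2) z.2
    refine ⟨⟨k, hkG⟩, Subgroup.mem_subgroupOf.mpr hk, ?_⟩
    apply Subtype.ext
    rw [← hkw]
    rfl

theorem h8au_subgroupOf_inf (A B : Subgroup Γ) :
    A.subgroupOf G ⊓ B.subgroupOf G = (A ⊓ B).subgroupOf G := by
  ext w
  simp [Subgroup.mem_subgroupOf]

theorem h8au_subgroupOf_eq_bot (A : Subgroup Γ) (hA : A = ⊥) : A.subgroupOf G = ⊥ := by
  subst hA
  ext w
  simp [Subgroup.mem_subgroupOf]

theorem h8au_eq_bot_of_subgroupOf (A : Subgroup Γ) (hAG : A ≤ G) (h : A.subgroupOf G = ⊥) :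
    A = ⊥ := by
  rw [eq_bot_iff]
  intro a ha
  have : (⟨a, hAG ha⟩ : ↥G) ∈ A.subgroupOf G := Subgroup.mem_subgroupOf.mpr ha
  rw [h, Subgroup.mem_bot] at this
  rw [Subgroup.mem_bot]
  exact congrArg Subtype.val this

theorem h8au_subgroupOf_inj (A B : Subgroup Γ) (hAG : A ≤ G) (hBG : B ≤ G)
    (h : A.subgroupOf G = B.subgroupOf G) : A = B := by
  ext a
  constructor
  · intro ha
    have : (⟨a, hAG ha⟩ : ↥G) ∈ A.subgroupOf G := Subgroup.mem_subgroupOf.mpr ha
    rw [h] at this
    exact Subgroup.mem_subgroupOf.mp this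
  · intro ha
    have : (⟨a, hBG ha⟩ : ↥G) ∈ B.subgroupOf G := Subgroup.mem_subgroupOf.mpr ha
    rw [← h] at this
    exact Subgroup.mem_subgroupOf.mp this

theorem h8au_normalizer_subgroupOf (K : Subgroup Γ) (hKG : K ≤ G) :
    Subgroup.normalizer ((K.subgroupOf G : Subgroup ↥G) : Set ↥G) =
      (Subgroup.normalizer (K : Set Γ)).subgroupOf G := by
  ext w
  rw [Subgroup.mem_normalizer_iff, Subgroup.mem_subgroupOf, Subgroup.mem_normalizer_iff]
  constructor
  · intro h k
    constructor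
    · intro hk
      exact Subgroup.mem_subgroupOf.mp ((h ⟨k, hKG hk⟩).mp (Subgroup.mem_subgroupOf.mpr hk))
    · intro hk
      have hkG : k ∈ G := by
        have : k = (w : Γ)⁻¹ * ((w : Γ) * k * (w : Γ)⁻¹) * w := by group
        rw [this]
        exact G.mul_mem (G.mul_mem (G.inv_mem w.2) (hKG hk)) w.2
      exact Subgroup.mem_subgroupOf.mp ((h ⟨k, hkG⟩).mpr (Subgroup.mem_subgroupOf.mpr hk))
  · intro h k
    rw [Subgroup.mem_subgroupOf, Subgroup.mem_subgroupOf]
    exact h k.val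

end transfer

/-- Step 1: after an inner automorphism, `θ` fixes `U` and `V`. -/
theorem h8au_step1 [Finite F] (D : ChevalleyDatum)
    (hD : D ∈ [chevG2, chevB2, chevD4, chevF4, chevE6, chevE7, chevE8])
    (θ : ↥(D.group F) ≃* ↥(D.group F)) :
    ∃ x : ↥(D.group F),
      ((D.posUnipotent F).subgroupOf (D.group F)).map (θ.trans (MulAut.conj x)).toMonoidHom =
        (D.posUnipotent F).subgroupOf (D.group F) ∧
      ((D.negUnipotent F).subgroupOf (D.group F)).map (θ.trans (MulAut.conj x)).toMonoidHom =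
        (D.negUnipotent F).subgroupOf (D.group F) := by
  have hB := h8base_all.{u} D hD
  have hA := h8reflAll D hD
  have hBN := h8bn_all D hD
  have hW := h8bn2_all D hD
  haveI : Fintype F := Fintype.ofFinite F
  obtain ⟨p, hp⟩ := CharP.exists F
  haveI := hp
  haveI : Fact p.Prime := ⟨CharP.char_is_prime F p⟩
  have hUG := h8_U_le_group (F := F) D
  have hVG := h8au_V_le_group (F := F) D hB
  apply h8au_normalize p
  · rw [h8_card_subgroupOf hUG]
    exact h8sylow_card p D hD
  · rw [h8_card_subgroupOf hUG, h8_card_subgroupOf hVG]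
    exact h8au_card_V D hB hA hW
  · rw [h8au_subgroupOf_inf]
    apply h8au_subgroupOf_eq_bot
    rw [eq_bot_iff, ← h8_B_inf_V (F := F) D hB hBN.negOK]
    exact inf_le_inf_right _ (h8U_le_B D)
  · intro z hz
    rw [h8au_subgroupOf_map_conj, h8au_subgroupOf_inf] at hz
    have hz' := h8au_eq_bot_of_subgroupOf _ _ (le_trans inf_le_right hUG) hz
    obtain ⟨u, hu, hueq⟩ := h8au_d D hD z.val z.2 hz'
    refine ⟨⟨u, hUG hu⟩, Subgroup.mem_subgroupOf.mpr hu, ?_⟩
    rw [h8au_subgroupOf_map_conj, h8au_subgroupOf_map_conj, hueq]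

/-- if `θ` fixes `U` then it fixes `B`. -/
theorem h8au_B_fixed (D : ChevalleyDatum)
    (hD : D ∈ [chevG2, chevB2, chevD4, chevF4, chevE6, chevE7, chevE8])
    (θ : ↥(D.group F) ≃* ↥(D.group F))
    (hU : ((D.posUnipotent F).subgroupOf (D.group F)).map θ.toMonoidHom =
        (D.posUnipotent F).subgroupOf (D.group F)) :
    ((D.borelSubgroup F).subgroupOf (D.group F)).map θ.toMonoidHom =
        (D.borelSubgroup F).subgroupOf (D.group F) := by
  have hB := h8base_all.{u} D hD
  have hA := h8reflAll D hD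
  have hC := h8commAll.{u} D hD
  have hBN := h8bn_all D hD
  have hW := h8bn2_all D hD
  obtain ⟨hO, hO2⟩ := h8ord_all D hD
  have key : (D.borelSubgroup F).subgroupOf (D.group F) =
      Subgroup.normalizer (((D.posUnipotent F).subgroupOf (D.group F) :
        Subgroup ↥(D.group F)) : Set ↥(D.group F)) := by
    rw [h8au_normalizer_subgroupOf _ _ (h8_U_le_group D),
      ← h8au_normalizer_U (F := F) D hB hA hC hBN hW hO2]
    ext w
    simp [Subgroup.mem_subgroupOf]
  rw [key, Subgroup.map_equiv_normalizer_eq, hU]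

end Cfsg.Agent.Lib.helper8
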