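import Mathlib
import Cfsg.Prelude.Def_ChevStructure
import Cfsg.Agent.Lib.helper8.ChevBr4
import Cfsg.Agent.Lib.helper8.ChevCore
import Cfsg.Agent.Lib.helper8.ChevPair
import Cfsg.Agent.Lib.helper8.ChevAU3

set_option autoImplicit false

namespace Cfsg.Agent.Lib.helper8

open Cfsg.Lie Cfsg.Lie.ChevalleyDatum

universe u

variable {F : Type u} [Field F]

/-- for the longest element, `U_w^-` is all of `U` -/
theorem h8au_U_le_Um (D : ChevalleyDatum) (hB : H8Base.{u} D) (hA : H8ReflAll D) (w : List ℕ)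
    (hw : h8w0Chk D w = true) :
    D.posUnipotent F ≤ Subgroup.closure (h8UmSet D F (h8nWU D hB w)) := by
  have hconj := h8_conj_U_eq_V (F := F) D hB hA w hw
  conv_lhs => unfold ChevalleyDatum.posUnipotent
  apply Subgroup.closure_mono
  rintro g ⟨r, t, hr, hg⟩
  refine ⟨r, t, hr, ?_, hg⟩
  rw [← hconj]
  exact Subgroup.map_mono (h8rootSubgroup_le_U D r hr)

/-- `N ∩ BV = H` -/
theorem h8au_N_inf_BV (D : ChevalleyDatum) (hB : H8Base.{u} D) (hA : H8ReflAll D)
    (hC : H8CommAll.{u} D) (hBN : H8BN D) (hW : H8BN2 D)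
    (n b v : GL D.Idx F) (hn : n ∈ D.monomialSubgroup F) (hb : b ∈ D.borelSubgroup F)
    (hv : v ∈ D.negUnipotent F) (e : n = b * v) : n ∈ D.diagonalSubgroup F := by
  obtain ⟨w, hw⟩ := hW.w0
  have hwr := (h8w0Chk_spec D hA w hw).1
  have hconj := h8_conj_U_eq_V (F := F) D hB hA w hw
  rw [← hconj] at hv
  obtain ⟨u₀, hu₀, rfl⟩ := hv
  have hn₀ := h8nWU_mem_N (F := F) D hB hA w hwr
  have e2 : 1 * (n * h8nWU D hB w) * 1 = b * h8nWU D hB w * u₀ := by
    rw [e]
    show 1 * (b * (h8nWU D hB w * u₀ * (h8nWU D hB w)⁻¹) * h8nWU D hB w) * 1 = _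
    group
  have h1 := (h8normal_unique D hB hA hC hBN 1 b (n * h8nWU D hB w) (h8nWU D hB w) 1 u₀
    (Subgroup.one_mem _) hb (Subgroup.mul_mem _ hn hn₀) hn₀ (Subgroup.one_mem _)
    (h8au_U_le_Um D hB hA w hw hu₀) e2).1
  have h2 : (n * h8nWU D hB w)⁻¹ * h8nWU D hB w =
      (h8nWU D hB w)⁻¹ * n⁻¹ * ((h8nWU D hB w)⁻¹)⁻¹ := by group
  rw [h2] at h1
  have hnorm := Subgroup.inv_mem _ (h8nWU_mem_normalizer_H (F := F) D hB hA w hwr)
  have h3 := (Subgroup.mem_normalizer_iff.mp hnorm n⁻¹).mpr h1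
  have := Subgroup.inv_mem _ h3
  rwa [inv_inv] at this

/-- `U_{n_i}^- = X_{p_i}` -/
theorem h8au_Um_simple (D : ChevalleyDatum) (hB : H8Base.{u} D) (hA : H8ReflAll D)
    (hBN : H8BN D) (hW : H8BN2 D) (i : ℕ) (hi : i < D.rank) :
    Subgroup.closure (h8UmSet D F (h8nU D hB (D.simple i) (1 : F))) ≤
      D.rootSubgroup F (D.simple i) := by
  rw [Subgroup.closure_le]
  rintro g ⟨r, t, hr, hle, hg⟩
  have hri : r = D.simple i := by
    by_contra hne
    obtain ⟨hp, _⟩ := h8spChk_spec D i (hBN.sp i hi) r hr hne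
    have hact := h8act_nU (F := F) D hB hA i hi r hr.1
    rw [h8act_map_root D hB _ r _ hr.1 hp.1 hact] at hle
    have h1 : h8xU D hB (D.reflectRoot i r) (1 : F) ∈
        D.borelSubgroup F ⊓ D.negUnipotent F :=
      ⟨h8U_le_B D (h8xU_mem_U D hB _ hp 1), hle (h8xU_mem_rootSubgroup D hB _ 1)⟩
    rw [h8_B_inf_V D hB hBN.negOK, Subgroup.mem_bot] at h1
    exact h8au_xU_ne_one D hB hA hW _ hp.1 1 one_ne_zero h1
  subst hri
  rw [h8au_gen_eq D hB g _ t hg]
  exact h8xU_mem_rootSubgroup D hB _ t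

theorem h8au_nU_not_mem_B (D : ChevalleyDatum) (hB : H8Base.{u} D) (hA : H8ReflAll D)
    (hBN : H8BN D) (hW : H8BN2 D) (i : ℕ) (hi : i < D.rank) :
    h8nU D hB (D.simple i) (1 : F) ∉ D.borelSubgroup F := by
  intro hn
  have hpi := h8simple_pos D hBN i hi
  obtain ⟨c, hc, hact⟩ := h8act_nU (F := F) D hB hA i hi (D.simple i) hpi.1
  have h1 := hact 1
  rw [h8reflectRoot_simple] at h1
  apply h8xneg_not_mem_B D hB hA hBN hW _ hpi (c * 1) (mul_ne_zero hc one_ne_zero)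
  rw [← h1]
  exact Subgroup.mul_mem _ (Subgroup.mul_mem _ hn (h8U_le_B D (h8xU_mem_U D hB _ hpi 1)))
    (Subgroup.inv_mem _ hn)

/-- `V ∩ P_i = X_{-p_i}` -/
theorem h8au_V_inf_Pi (D : ChevalleyDatum) (hB : H8Base.{u} D) (hA : H8ReflAll D)
    (hC : H8CommAll.{u} D) (hBN : H8BN D) (hW : H8BN2 D) (hO : H8Ord D)
    (i : ℕ) (hi : i < D.rank) (g : GL D.Idx F) (hgV : g ∈ D.negUnipotent F)
    (hgP : g ∈ D.borelSubgroup F ∨ ∃ b1 ∈ D.borelSubgroup F, ∃ b2 ∈ D.borelSubgroup F,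
      g = b1 * h8nU D hB (D.simple i) 1 * b2) :
    ∃ c : F, g = h8xU D hB (D.negIdx.getD (D.simple i) 0) c := by
  have hVB : ∀ y : GL D.Idx F, y ∈ D.borelSubgroup F → y ∈ D.negUnipotent F → y = 1 := by
    intro y h1 h2
    have : y ∈ D.borelSubgroup F ⊓ D.negUnipotent F := ⟨h1, h2⟩
    rwa [h8_B_inf_V D hB hBN.negOK, Subgroup.mem_bot] at this
  have hpi := h8simple_pos D hBN i hi
  have hni : h8nU D hB (D.simple i) (1 : F) ∈ D.monomialSubgroup F := h8nU_mem_N D hB _ hpi.1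
  rcases hgP with hgB | ⟨b1, hb1, b2, hb2, hg⟩
  · refine ⟨0, ?_⟩
    rw [h8xU_zero]
    exact hVB g hgB hgV
  · obtain ⟨b, hb, n, hn, u, hu, hg2⟩ :=
      h8normal_exists D hB hA hC hBN hW hO g (h8au_V_le_group D hB hgV)
    -- `n` is in the double coset of `n_i`
    have huU : u ∈ D.posUnipotent F := h8Um_le_U D n hu
    have hcell : ∃ c1 ∈ D.borelSubgroup F, ∃ c2 ∈ D.borelSubgroup F,
        n⁻¹ = c1 * (h8nU D hB (D.simple i) (1 : F))⁻¹ * c2 := by
      refine ⟨u * b2⁻¹, Subgroup.mul_mem _ (h8U_le_B D huU) (Subgroup.inv_mem _ hb2),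
        b1⁻¹ * b, Subgroup.mul_mem _ (Subgroup.inv_mem _ hb1) hb, ?_⟩
      have : n = b⁻¹ * g * u⁻¹ := by rw [hg2]; group
      rw [this, hg]
      group
    have ht := h8cell_disjoint D hB hA hC hBN n⁻¹ (h8nU D hB (D.simple i) (1 : F))⁻¹
      (Subgroup.inv_mem _ hn) (Subgroup.inv_mem _ hni) hcell
    rw [inv_inv] at ht
    set t := n * (h8nU D hB (D.simple i) (1 : F))⁻¹ with htdef
    have hnt : n = t * h8nU D hB (D.simple i) (1 : F) := by rw [htdef]; group
    have hsub : h8UmSet D F n ⊆ h8UmSet D F (h8nU D hB (D.simple i) (1 : F)) := by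
      have := h8UmSet_mono_H D hB n t⁻¹ 1 (Subgroup.inv_mem _ ht) (Subgroup.one_mem _)
      have e : t⁻¹ * n * 1 = h8nU D hB (D.simple i) (1 : F) := by rw [hnt]; group
      rwa [e] at this
    have hu2 : u ∈ D.rootSubgroup F (D.simple i) :=
      h8au_Um_simple D hB hA hBN hW i hi (Subgroup.closure_mono hsub hu)
    obtain ⟨a, rfl⟩ := h8rootSubgroup_mem D hB _ hpi.1 u hu2
    by_cases ha : a = 0
    · exfalso
      subst ha
      rw [h8xU_zero, mul_one] at hg2
      have hnH : n ∈ D.diagonalSubgroup F := by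
        apply h8au_N_inf_BV D hB hA hC hBN hW n b⁻¹ g hn (Subgroup.inv_mem _ hb) hgV
        rw [hg2]; group
      apply h8au_nU_not_mem_B (F := F) D hB hA hBN hW i hi
      have : h8nU D hB (D.simple i) (1 : F) = t⁻¹ * n := by rw [hnt]; group
      rw [this]
      exact h8H_le_B D (Subgroup.mul_mem _ (Subgroup.inv_mem _ ht) hnH)
    · refine ⟨a⁻¹, ?_⟩
      have hx := h8x_neg_eq D hB (D.simple i) a⁻¹ (inv_ne_zero ha)
      rw [inv_inv] at hx
      -- g * y⁻¹ ∈ B ∩ V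
      have hyV : h8xU D hB (D.negIdx.getD (D.simple i) 0) a⁻¹ ∈ D.negUnipotent F := by
        apply h8xU_mem_V D hB
        rcases hB.posneg _ (hW.neglt _ hpi.1) with hp | hn'
        · exfalso
          have h1 := (h8PosOK_spec hB.posOK hpi).2.1
          have h2 := (h8PosOK_spec hB.posOK hp).1
          omega
        · exact hn'
      have hq : g * (h8xU D hB (D.negIdx.getD (D.simple i) 0) a⁻¹)⁻¹ = 1 := by
        apply hVB
        · rw [hx, hg2, hnt]
          have : b * (t * h8nU D hB (D.simple i) 1) * h8xU D hB (D.simple i) a *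
              (h8xU D hB (D.simple i) a * h8hU D hB (D.simple i) (-a) *
                h8nU D hB (D.simple i) 1 * h8xU D hB (D.simple i) a)⁻¹ =
              b * t * (h8xU D hB (D.simple i) a * h8hU D hB (D.simple i) (-a))⁻¹ := by group
          rw [this]
          refine Subgroup.mul_mem _ (Subgroup.mul_mem _ hb (h8H_le_B D ht)) (Subgroup.inv_mem _ ?_)
          refine Subgroup.mul_mem _ (h8U_le_B D (h8xU_mem_U D hB _ hpi a)) (h8H_le_B D ?_)
          unfold ChevalleyDatum.diagonalSubgroup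
          apply Subgroup.subset_closure
          exact ⟨D.simple i, -a, hpi.1, neg_ne_zero.mpr ha, h8hU_val D hB _ _⟩
        · exact Subgroup.mul_mem _ hgV (Subgroup.inv_mem _ hyV)
      exact mul_inv_eq_one.mp hq

end Cfsg.Agent.Lib.helper8
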