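import Mathlib
import Cfsg.Prelude.Def_ChevStructure
import Cfsg.Agent.Lib.helper8.ChevW0All
import Cfsg.Agent.Lib.helper8.ChevTits2
import Cfsg.Agent.Lib.helper8.ChevBN5
import Cfsg.Agent.Lib.helper8.ChevAU4

set_option autoImplicit false

namespace Cfsg.Agent.Lib.helper8

open Cfsg.Lie Cfsg.Lie.ChevalleyDatum

universe u

variable {F : Type u} [Field F]

/-- the longest element sends the negatives of the fundamental roots onto the fundamental roots -/
def h8oppChk (D : ChevalleyDatum) (w : List ℕ) : Bool :=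
  ((List.range D.rank).all fun k => (List.range D.rank).any fun i =>
    h8sgW D w (D.negIdx.getD (D.simple i) 0) == D.simple k) &&
  ((List.range D.rank).all fun i => (List.range D.rank).any fun l =>
    h8sgW D w (D.negIdx.getD (D.simple i) 0) == D.simple l)

theorem h8opp_all (D : ChevalleyDatum)
    (hD : D ∈ [chevG2, chevB2, chevD4, chevF4, chevE6, chevE7, chevE8]) :
    ∃ w : List ℕ, h8w0Chk D w = true ∧ h8oppChk D w = true := by
  simp only [List.mem_cons, List.mem_nil_iff, or_false] at hD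
  rcases hD with rfl | rfl | rfl | rfl | rfl | rfl | rfl
  · exact ⟨h8w0_G2, h8w0Chk_G2, by decide +kernel⟩
  · exact ⟨h8w0_B2, h8w0Chk_B2, by decide +kernel⟩
  · exact ⟨h8w0_D4, h8w0Chk_D4, by decide +kernel⟩
  · exact ⟨h8w0_F4, h8w0Chk_F4, by decide +kernel⟩
  · exact ⟨h8w0_E6, h8w0Chk_E6, by decide +kernel⟩
  · exact ⟨h8w0_E7, h8w0Chk_E7, by decide +kernel⟩
  · exact ⟨h8w0_E8, h8w0Chk_E8, by decide +kernel⟩

theorem h8oppChk_spec (D : ChevalleyDatum) (hA : H8ReflAll D) (hW : H8BN2 D) (hBN : H8BN D)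
    (w : List ℕ)
    (hw : h8w0Chk D w = true) (h : h8oppChk D w = true) :
    (∀ k < D.rank, ∃ i < D.rank, h8sW D w (D.negIdx.getD (D.simple i) 0) = D.simple k) ∧
    (∀ i < D.rank, ∃ l < D.rank, h8sW D w (D.negIdx.getD (D.simple i) 0) = D.simple l) := by
  have hwr := (h8w0Chk_spec D hA w hw).1
  have h256 : D.nroots ≤ 256 := by
    unfold h8w0Chk at hw
    simp only [Bool.and_eq_true, decide_eq_true_eq] at hw
    exact hw.1.1
  unfold h8oppChk at h
  simp only [Bool.and_eq_true, List.all_eq_true, List.any_eq_true, List.mem_range,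
    beq_iff_eq] at h
  have hlt : ∀ i < D.rank, D.negIdx.getD (D.simple i) 0 < D.nroots :=
    fun i hi => hW.neglt _ (h8simple_pos D hBN i hi).1
  constructor
  · intro k hk
    obtain ⟨i, hi, e⟩ := h.1 k hk
    exact ⟨i, hi, by rw [← h8sgW_eq D hA h256 w hwr _ (hlt i hi)]; exact e⟩
  · intro i hi
    obtain ⟨l, hl, e⟩ := h.2 i hi
    exact ⟨l, hl, by rw [← h8sgW_eq D hA h256 w hwr _ (hlt i hi)]; exact e⟩

/-- the longest element also conjugates `V` onto `U` -/
theorem h8au_conj_V_eq_U [Finite F] (D : ChevalleyDatum) (hB : H8Base.{u} D) (hA : H8ReflAll D)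
    (hBN : H8BN D) (hW : H8BN2 D) (hO2 : H8Ord2 D) (w : List ℕ) (h : h8w0Chk D w = true) :
    (D.negUnipotent F).map (MulAut.conj (h8nWU D hB w : GL D.Idx F)).toMonoidHom =
      D.posUnipotent F := by
  obtain ⟨hw, hpos, _, _⟩ := h8w0Chk_spec D hA w h
  have hle : (D.negUnipotent F).map (MulAut.conj (h8nWU D hB w : GL D.Idx F)).toMonoidHom ≤
      D.posUnipotent F := by
    conv_lhs => unfold ChevalleyDatum.negUnipotent
    rw [MonoidHom.map_closure, Subgroup.closure_le]
    rintro g ⟨g0, ⟨s, t, hs, hg0⟩, rfl⟩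
    obtain ⟨c, _, hact⟩ := h8nWU_act (F := F) D hB hA w hw s hs.1
    have e : g0 = h8xU D hB s t := h8au_gen_eq D hB g0 s t hg0
    have e2 : (MulAut.conj (h8nWU D hB w : GL D.Idx F)).toMonoidHom g0 =
        h8xU D hB (h8sW D w s) (c * t) := by
      rw [e, ← hact t]
      rfl
    rw [e2]
    apply h8xU_mem_U D hB
    have hr := h8pos_of_neg D hB hBN hO2 s hs
    have h1 := h8sW_neg D hA w hw _ hr.1
    rw [(hO2.negneg s hs.1).2] at h1
    rw [h1]
    exact h8pos_of_neg D hB hBN hO2 _ (hpos _ hr)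
  apply Subgroup.eq_of_le_of_card_ge hle
  rw [Subgroup.card_map_of_injective (MulAut.conj _).injective, h8au_card_V D hB hA hW]

section parabolic

open H3

variable {G : Type*} [Group G] (P : Cfsg.BNPair G)

theorem h8au_mem_parabolic_singleton {s : G} (hs : s ∈ P.S) {g : G}
    (hg : g ∈ P.parabolic {s}) : g ∈ P.B ∨ ∃ b ∈ P.B, ∃ b' ∈ P.B, g = b * s * b' := by
  have hle : P.parabolic {s} ≤ rankOneSubgroup (P := P) hs := by
    apply sup_le
    · intro x hx
      exact Or.inl hx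
    · rw [Subgroup.closure_le]
      intro x hx
      rw [Set.mem_singleton_iff] at hx
      rw [hx]
      exact Or.inr (dc_self (P := P) s)
  rcases hle hg with h | h
  · exact Or.inl h
  · exact Or.inr (mem_dc.1 h)

end parabolic

/-- root elements as elements of the group -/
def h8xG (D : ChevalleyDatum) (hB : H8Base.{u} D) (r : ℕ) (t : F) : ↥(D.group F) :=
  ⟨h8xU D hB r t, h8xU_mem_group D hB r t⟩

theorem h8xG_val (D : ChevalleyDatum) (hB : H8Base.{u} D) (r : ℕ) (t : F) :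
    ((h8xG D hB r t : ↥(D.group F)) : GL D.Idx F) = h8xU D hB r t := rfl

/-- an automorphism fixing `U` and `V` permutes the negative fundamental root subgroups -/
theorem h8au_neg_side (D : ChevalleyDatum)
    (hD : D ∈ [chevG2, chevB2, chevD4, chevF4, chevE6, chevE7, chevE8])
    (θ : ↥(D.group F) ≃* ↥(D.group F))
    (hU : ((D.posUnipotent F).subgroupOf (D.group F)).map θ.toMonoidHom =
        (D.posUnipotent F).subgroupOf (D.group F))
    (hV : ((D.negUnipotent F).subgroupOf (D.group F)).map θ.toMonoidHom =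
        (D.negUnipotent F).subgroupOf (D.group F))
    (i : ℕ) (hi : i < D.rank) :
    ∃ j < D.rank, ∀ t : F, ∃ c : F,
      θ (h8xG D (h8base_all.{u} D hD) (D.negIdx.getD (D.simple i) 0) t) =
        h8xG D (h8base_all.{u} D hD) (D.negIdx.getD (D.simple j) 0) c := by
  have hB := h8base_all.{u} D hD
  have hA := h8reflAll D hD
  have hC := h8commAll.{u} D hD
  have hBN := h8bn_all D hD
  have hW := h8bn2_all D hD
  obtain ⟨hO, hO2⟩ := h8ord_all D hD
  obtain ⟨P, hPB, hPN, hPS⟩ := h8bnpair (F := F) D hB hA hC hBN hW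
  have hBfix : P.B.map θ.toMonoidHom = P.B := by
    rw [hPB]
    exact h8au_B_fixed D hD θ hU
  have hpi := h8simple_pos D hBN i hi
  set s : ↥(D.group F) := ⟨h8nU D hB (D.simple i) 1, h8_N_le_group D hB (h8nU_mem_N D hB _ hpi.1)⟩
    with hsdef
  have hsS : s ∈ P.S := by
    rw [hPS]
    exact ⟨i, hi, h8nU_val D hB _ _⟩
  obtain ⟨s', hs'S, hpar⟩ := H3.aut_parabolic_singleton P θ hBfix hsS
  have hs'S2 := hs'S
  rw [hPS] at hs'S2
  obtain ⟨j, hj, hs'j⟩ := hs'S2
  have hs'val : (s' : GL D.Idx F) = h8nU D hB (D.simple j) 1 :=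
    Units.ext (by rw [hs'j, h8nU_val])
  refine ⟨j, hj, fun t => ?_⟩
  -- the element lies in V and in the parabolic subgroup
  obtain ⟨c, hc, hact⟩ := h8act_nU (F := F) D hB hA i hi (D.simple i) hpi.1
  rw [h8reflectRoot_simple] at hact
  set y := h8xG D hB (D.negIdx.getD (D.simple i) 0) t with hydef
  have hnegi : D.IsNegRoot (D.negIdx.getD (D.simple i) 0) := h8neg_of_pos D hB hO2 _ hpi
  have hyV : y ∈ (D.negUnipotent F).subgroupOf (D.group F) :=
    Subgroup.mem_subgroupOf.mpr (h8xU_mem_V D hB _ hnegi t)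
  have hyP : y ∈ P.parabolic {s} := by
    have e : y = s * h8xG D hB (D.simple i) (c⁻¹ * t) * s⁻¹ := by
      apply Subtype.ext
      show h8xU D hB _ t = h8nU D hB (D.simple i) 1 * h8xU D hB (D.simple i) (c⁻¹ * t) *
        (h8nU D hB (D.simple i) 1)⁻¹
      rw [hact, ← mul_assoc, mul_inv_cancel₀ hc, one_mul]
    rw [e]
    have hsP : s ∈ P.parabolic {s} :=
      (le_sup_right : Subgroup.closure {s} ≤ P.parabolic {s}) (Subgroup.subset_closure rfl)
    have hxP : h8xG D hB (D.simple i) (c⁻¹ * t) ∈ P.parabolic {s} := by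
      apply (le_sup_left : P.B ≤ P.parabolic {s})
      rw [hPB]
      exact Subgroup.mem_subgroupOf.mpr (h8U_le_B D (h8xU_mem_U D hB _ hpi _))
    exact Subgroup.mul_mem _ (Subgroup.mul_mem _ hsP hxP) (Subgroup.inv_mem _ hsP)
  have h1 : θ y ∈ (D.negUnipotent F).subgroupOf (D.group F) := by
    rw [← hV]
    exact ⟨y, hyV, rfl⟩
  have h2 : θ y ∈ P.parabolic {s'} := by
    rw [← hpar]
    exact ⟨y, hyP, rfl⟩
  have h3 := h8au_mem_parabolic_singleton P hs'S h2
  have h4 : ((θ y : ↥(D.group F)) : GL D.Idx F) ∈ D.borelSubgroup F ∨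
      ∃ b1 ∈ D.borelSubgroup F, ∃ b2 ∈ D.borelSubgroup F,
        ((θ y : ↥(D.group F)) : GL D.Idx F) = b1 * h8nU D hB (D.simple j) 1 * b2 := by
    rcases h3 with h | ⟨b, hb, b', hb', e⟩
    · left
      rw [hPB] at h
      exact Subgroup.mem_subgroupOf.mp h
    · right
      rw [hPB] at hb hb'
      refine ⟨b.val, Subgroup.mem_subgroupOf.mp hb, b'.val, Subgroup.mem_subgroupOf.mp hb', ?_⟩
      rw [e, ← hs'val]
      rfl
  obtain ⟨c', hc'⟩ := h8au_V_inf_Pi D hB hA hC hBN hW hO j hj _ (Subgroup.mem_subgroupOf.mp h1) h4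
  exact ⟨c', Subtype.ext hc'⟩

end Cfsg.Agent.Lib.helper8
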