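import Mathlib
import Cfsg.Prelude.Def_ChevStructure
import Cfsg.Agent.Lib.helper8.ChevCent1
import Cfsg.Agent.Lib.helper8.ChevCnt1
import Cfsg.Agent.Lib.helper8.ChevHProd
import Cfsg.Agent.Lib.helper8.ChevAU5

set_option autoImplicit false

namespace Cfsg.Agent.Lib.helper8

open Cfsg.Lie Cfsg.Lie.ChevalleyDatum

universe u

variable {F : Type u} [Field F]

/-- `X_{p_j}` and `X_{-p_k}` commute for `j ≠ k` -/
def h8scommChk (D : ChevalleyDatum) : Bool :=
  (List.range D.rank).all fun j => (List.range D.rank).all fun k =>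
    decide (j = k) ||
      ((D.commTerms (D.simple j) (D.negIdx.getD (D.simple k) 0)).isEmpty &&
        decide (D.negIdx.getD (D.simple k) 0 ≠ D.negIdx.getD (D.simple j) 0) &&
        decide (D.negIdx.getD (D.simple k) 0 ≠ D.simple j))

theorem h8scommChk_all (D : ChevalleyDatum)
    (hD : D ∈ [chevG2, chevB2, chevD4, chevF4, chevE6, chevE7, chevE8]) :
    h8scommChk D = true := by
  simp only [List.mem_cons, List.mem_nil_iff, or_false] at hD
  rcases hD with rfl | rfl | rfl | rfl | rfl | rfl | rfl <;> decide +kernel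

theorem h8au_simple_comm (D : ChevalleyDatum) (hB : H8Base.{u} D) (hC : H8CommAll.{u} D)
    (hBN : H8BN D) (hW : H8BN2 D) (hS : h8scommChk D = true) (j k : ℕ) (hj : j < D.rank)
    (hk : k < D.rank) (hjk : j ≠ k) (a b : F) :
    h8xU D hB (D.negIdx.getD (D.simple k) 0) b * h8xU D hB (D.simple j) a =
      h8xU D hB (D.simple j) a * h8xU D hB (D.negIdx.getD (D.simple k) 0) b := by
  unfold h8scommChk at hS
  simp only [List.all_eq_true, List.mem_range, Bool.or_eq_true, Bool.and_eq_true,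
    decide_eq_true_eq, List.isEmpty_iff] at hS
  rcases hS j hj k hk with h | ⟨⟨h1, h2⟩, h3⟩
  · exact absurd h hjk
  · have hpj := h8simple_pos D hBN j hj
    have hpk := h8simple_pos D hBN k hk
    apply h8comm_of_zero D hB hC _ _ hpj.1 (hW.neglt _ hpk.1) h2
    intro _ c hc
    rw [h1] at hc
    exact absurd hc (List.not_mem_nil)

/-- `x_{p_i}(1)` and `x_{-p_i}(-1)` do not commute -/
theorem h8au_simple_not_comm (D : ChevalleyDatum) (hB : H8Base.{u} D) (hA : H8ReflAll D)
    (hBN : H8BN D) (hW : H8BN2 D) (hO2 : H8Ord2 D) (i : ℕ) (hi : i < D.rank)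
    (h : h8xU D hB (D.simple i) (1 : F) * h8xU D hB (D.negIdx.getD (D.simple i) 0) (-1) =
      h8xU D hB (D.negIdx.getD (D.simple i) 0) (-1) * h8xU D hB (D.simple i) 1) : False := by
  have hpi := h8simple_pos D hBN i hi
  obtain ⟨c, hc, hact⟩ := h8act_nU (F := F) D hB hA i hi (D.simple i) hpi.1
  rw [h8reflectRoot_simple] at hact
  have h1 := hact 1
  have hn : h8nU D hB (D.simple i) (1 : F) = h8xU D hB (D.simple i) 1 *
      h8xU D hB (D.negIdx.getD (D.simple i) 0) (-1) * h8xU D hB (D.simple i) 1 := by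
    have := h8nU_eq D hB (D.simple i) (1 : F)
    rwa [inv_one] at this
  have h2 : h8nU D hB (D.simple i) (1 : F) * h8xU D hB (D.simple i) 1 *
      (h8nU D hB (D.simple i) (1 : F))⁻¹ = h8xU D hB (D.simple i) 1 := by
    have hcomm : h8nU D hB (D.simple i) (1 : F) * h8xU D hB (D.simple i) 1 =
        h8xU D hB (D.simple i) 1 * h8nU D hB (D.simple i) (1 : F) := by
      rw [hn]
      have e1 : h8xU D hB (D.simple i) (1 : F) * h8xU D hB (D.negIdx.getD (D.simple i) 0) (-1) *
          h8xU D hB (D.simple i) 1 * h8xU D hB (D.simple i) 1 =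
          h8xU D hB (D.simple i) (1 : F) * (h8xU D hB (D.negIdx.getD (D.simple i) 0) (-1) *
          h8xU D hB (D.simple i) 1) * h8xU D hB (D.simple i) 1 := by group
      rw [e1, ← h]
      group
    rw [hcomm]
    group
  rw [h2] at h1
  exact h8x_pos_ne_neg D hB hBN hW hA _ _ hpi (h8neg_of_pos D hB hO2 _ hpi) 1 (c * 1)
    one_ne_zero h1

theorem h8au_map_trans' {Γ : Type*} [Group Γ] (K : Subgroup Γ) (α β : Γ ≃* Γ) :
    K.map (α.trans β).toMonoidHom = (K.map α.toMonoidHom).map β.toMonoidHom := by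
  rw [Subgroup.map_map]
  rfl

theorem h8au_map_symm {Γ : Type*} [Group Γ] (K : Subgroup Γ) (α : Γ ≃* Γ)
    (h : K.map α.toMonoidHom = K) : K.map α.symm.toMonoidHom = K := by
  conv_lhs => rw [← h]
  rw [Subgroup.map_map]
  ext z
  simp

theorem h8au_simple_inj (D : ChevalleyDatum) (hsc : h8scChk D = true) (i k : ℕ) (hi : i < D.rank)
    (hk : k < D.rank) (h : D.simple i = D.simple k) : i = k := by
  have h1 := (h8scChk_spec D hsc i hi).2 i hi
  have h2 := (h8scChk_spec D hsc k hk).2 i hi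
  rw [h] at h1
  rw [h1] at h2
  simp only [if_true] at h2
  by_contra hne
  rw [if_neg hne] at h2
  exact one_ne_zero h2

end Cfsg.Agent.Lib.helper8
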