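import Mathlib
import Cfsg.Prelude.Def_ChevStructure
import Cfsg.Agent.Lib.helper8.ChevTabSC
import Cfsg.Agent.Lib.helper8.ChevAU6

set_option autoImplicit false

namespace Cfsg.Agent.Lib.helper8

open Cfsg.Lie Cfsg.Lie.ChevalleyDatum

universe u

variable {F : Type u} [Field F]

/-- an automorphism fixing `U` and `V` permutes the positive fundamental root subgroups -/
theorem h8au_pos_side [Finite F] (D : ChevalleyDatum)
    (hD : D ∈ [chevG2, chevB2, chevD4, chevF4, chevE6, chevE7, chevE8])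
    (θ : ↥(D.group F) ≃* ↥(D.group F))
    (hU : ((D.posUnipotent F).subgroupOf (D.group F)).map θ.toMonoidHom =
        (D.posUnipotent F).subgroupOf (D.group F))
    (hV : ((D.negUnipotent F).subgroupOf (D.group F)).map θ.toMonoidHom =
        (D.negUnipotent F).subgroupOf (D.group F))
    (k : ℕ) (hk : k < D.rank) :
    ∃ l < D.rank, ∀ t : F, ∃ c : F,
      θ (h8xG D (h8base_all.{u} D hD) (D.simple k) t) =
        h8xG D (h8base_all.{u} D hD) (D.simple l) c := by
  have hB := h8base_all.{u} D hD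
  have hA := h8reflAll D hD
  have hBN := h8bn_all D hD
  have hW := h8bn2_all D hD
  obtain ⟨hO, hO2⟩ := h8ord_all D hD
  obtain ⟨w, hw0, hopp⟩ := h8opp_all D hD
  obtain ⟨hopp1, hopp2⟩ := h8oppChk_spec D hA hW hBN w hw0 hopp
  have hwr := (h8w0Chk_spec D hA w hw0).1
  have hn₀G : (h8nWU D hB w : GL D.Idx F) ∈ D.group F :=
    h8_N_le_group D hB (h8nWU_mem_N D hB hA w hwr)
  set n₀ : ↥(D.group F) := ⟨h8nWU D hB w, hn₀G⟩ with hn₀def
  have hUV : ((D.posUnipotent F).subgroupOf (D.group F)).map (MulAut.conj n₀).toMonoidHom =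
      (D.negUnipotent F).subgroupOf (D.group F) := by
    rw [h8au_subgroupOf_map_conj]
    show ((D.posUnipotent F).map (MulAut.conj (h8nWU D hB w : GL D.Idx F)).toMonoidHom).subgroupOf
      (D.group F) = _
    rw [h8_conj_U_eq_V D hB hA w hw0]
  have hVU : ((D.negUnipotent F).subgroupOf (D.group F)).map (MulAut.conj n₀).toMonoidHom =
      (D.posUnipotent F).subgroupOf (D.group F) := by
    rw [h8au_subgroupOf_map_conj]
    show ((D.negUnipotent F).map (MulAut.conj (h8nWU D hB w : GL D.Idx F)).toMonoidHom).subgroupOf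
      (D.group F) = _
    rw [h8au_conj_V_eq_U D hB hA hBN hW hO2 w hw0]
  have hUV' : ((D.negUnipotent F).subgroupOf (D.group F)).map (MulAut.conj n₀⁻¹).toMonoidHom =
      (D.posUnipotent F).subgroupOf (D.group F) := by
    rw [← hUV, h8au_map_conj_conj, inv_mul_cancel, h8au_map_conj_one]
  have hVU' : ((D.posUnipotent F).subgroupOf (D.group F)).map (MulAut.conj n₀⁻¹).toMonoidHom =
      (D.negUnipotent F).subgroupOf (D.group F) := by
    rw [← hVU, h8au_map_conj_conj, inv_mul_cancel, h8au_map_conj_one]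
  set τ : ↥(D.group F) ≃* ↥(D.group F) :=
    ((MulAut.conj n₀).trans θ).trans (MulAut.conj n₀⁻¹) with hτdef
  have hτU : ((D.posUnipotent F).subgroupOf (D.group F)).map τ.toMonoidHom =
      (D.posUnipotent F).subgroupOf (D.group F) := by
    rw [hτdef, h8au_map_trans', h8au_map_trans', hUV, hV, hUV']
  have hτV : ((D.negUnipotent F).subgroupOf (D.group F)).map τ.toMonoidHom =
      (D.negUnipotent F).subgroupOf (D.group F) := by
    rw [hτdef, h8au_map_trans', h8au_map_trans', hVU, hU, hVU']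
  obtain ⟨i, hi, hik⟩ := hopp1 k hk
  obtain ⟨j, hj, hτj⟩ := h8au_neg_side D hD τ hτU hτV i hi
  obtain ⟨l, hl, hjl⟩ := hopp2 j hj
  refine ⟨l, hl, fun t => ?_⟩
  have hpi := h8simple_pos D hBN i hi
  have hpj := h8simple_pos D hBN j hj
  obtain ⟨c₁, hc₁, hact₁⟩ := h8nWU_act (F := F) D hB hA w hwr _ (hW.neglt _ hpi.1)
  obtain ⟨c₂, hc₂, hact₂⟩ := h8nWU_act (F := F) D hB hA w hwr _ (hW.neglt _ hpj.1)
  rw [hik] at hact₁
  rw [hjl] at hact₂
  obtain ⟨c, hc⟩ := hτj (c₁⁻¹ * t)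
  refine ⟨c₂ * c, ?_⟩
  have e1 : h8xG D hB (D.simple k) t =
      n₀ * h8xG D hB (D.negIdx.getD (D.simple i) 0) (c₁⁻¹ * t) * n₀⁻¹ := by
    apply Subtype.ext
    show h8xU D hB (D.simple k) t = h8nWU D hB w * h8xU D hB _ (c₁⁻¹ * t) * (h8nWU D hB w)⁻¹
    rw [hact₁, ← mul_assoc, mul_inv_cancel₀ hc₁, one_mul]
  have e2 : ∀ y, θ (n₀ * y * n₀⁻¹) = n₀ * τ y * n₀⁻¹ := by
    intro y
    rw [hτdef]
    simp [MulEquiv.trans_apply, mul_assoc]
  rw [e1, e2, hc]
  apply Subtype.ext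
  show h8nWU D hB w * h8xU D hB _ c * (h8nWU D hB w)⁻¹ = h8xU D hB (D.simple l) (c₂ * c)
  rw [hact₂]

end Cfsg.Agent.Lib.helper8
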