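import Mathlib
import Cfsg.Prelude.Def_ChevStructure
import Cfsg.Agent.Lib.helper8.ChevAU7

set_option autoImplicit false

namespace Cfsg.Agent.Lib.helper8

open Cfsg.Lie Cfsg.Lie.ChevalleyDatum

universe u

variable {F : Type u} [Field F]

/-- the two permutations agree -/
theorem h8au_match [Finite F] (D : ChevalleyDatum)
    (hD : D ∈ [chevG2, chevB2, chevD4, chevF4, chevE6, chevE7, chevE8])
    (θ : ↥(D.group F) ≃* ↥(D.group F))
    (hU : ((D.posUnipotent F).subgroupOf (D.group F)).map θ.toMonoidHom =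
        (D.posUnipotent F).subgroupOf (D.group F))
    (hV : ((D.negUnipotent F).subgroupOf (D.group F)).map θ.toMonoidHom =
        (D.negUnipotent F).subgroupOf (D.group F))
    (i : ℕ) (hi : i < D.rank) :
    ∃ j < D.rank, (∀ t : F, ∃ c : F,
      θ (h8xG D (h8base_all.{u} D hD) (D.simple i) t) =
        h8xG D (h8base_all.{u} D hD) (D.simple j) c) ∧
      (∀ t : F, ∃ c : F,
      θ (h8xG D (h8base_all.{u} D hD) (D.negIdx.getD (D.simple i) 0) t) =
        h8xG D (h8base_all.{u} D hD) (D.negIdx.getD (D.simple j) 0) c) := by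
  have hB := h8base_all.{u} D hD
  have hA := h8reflAll D hD
  have hC := h8commAll.{u} D hD
  have hBN := h8bn_all D hD
  have hW := h8bn2_all D hD
  obtain ⟨hO, hO2⟩ := h8ord_all D hD
  obtain ⟨jm, hjm, hneg⟩ := h8au_neg_side D hD θ hU hV i hi
  obtain ⟨jp, hjp, hpos⟩ := h8au_pos_side D hD θ hU hV i hi
  have hjj : jp = jm := by
    by_contra hne
    obtain ⟨a, ha⟩ := hpos 1
    obtain ⟨b, hb⟩ := hneg (-1)
    have hcomm := h8au_simple_comm D hB hC hBN hW (h8scommChk_all D hD) jp jm hjp hjm hne a b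
    have h1 : θ (h8xG D hB (D.simple i) 1 * h8xG D hB (D.negIdx.getD (D.simple i) 0) (-1)) =
        θ (h8xG D hB (D.negIdx.getD (D.simple i) 0) (-1) * h8xG D hB (D.simple i) 1) := by
      rw [map_mul, map_mul, ha, hb]
      apply Subtype.ext
      exact hcomm.symm
    have h2 := θ.injective h1
    exact h8au_simple_not_comm D hB hA hBN hW hO2 i hi (congrArg Subtype.val h2)
  subst hjj
  exact ⟨jp, hjp, hpos, hneg⟩

theorem h8au_match_inj [Finite F] (D : ChevalleyDatum)
    (hD : D ∈ [chevG2, chevB2, chevD4, chevF4, chevE6, chevE7, chevE8])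
    (θ : ↥(D.group F) ≃* ↥(D.group F))
    (hU : ((D.posUnipotent F).subgroupOf (D.group F)).map θ.toMonoidHom =
        (D.posUnipotent F).subgroupOf (D.group F))
    (hV : ((D.negUnipotent F).subgroupOf (D.group F)).map θ.toMonoidHom =
        (D.negUnipotent F).subgroupOf (D.group F))
    (i i' j : ℕ) (hi : i < D.rank) (hi' : i' < D.rank) (hj : j < D.rank)
    (h : ∃ c : F, θ (h8xG D (h8base_all.{u} D hD) (D.negIdx.getD (D.simple i) 0) 1) =
        h8xG D (h8base_all.{u} D hD) (D.negIdx.getD (D.simple j) 0) c)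
    (h' : ∃ c : F, θ (h8xG D (h8base_all.{u} D hD) (D.negIdx.getD (D.simple i') 0) 1) =
        h8xG D (h8base_all.{u} D hD) (D.negIdx.getD (D.simple j) 0) c) : i = i' := by
  have hB := h8base_all.{u} D hD
  have hA := h8reflAll D hD
  have hBN := h8bn_all D hD
  have hW := h8bn2_all D hD
  obtain ⟨hO, hO2⟩ := h8ord_all D hD
  have hsc := h8scChk_all D hD
  obtain ⟨k, hk, hsymm⟩ := h8au_neg_side D hD θ.symm (h8au_map_symm _ θ hU)
    (h8au_map_symm _ θ hV) j hj
  have key : ∀ i₁ < D.rank, (∃ c : F, θ (h8xG D hB (D.negIdx.getD (D.simple i₁) 0) 1) =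
        h8xG D hB (D.negIdx.getD (D.simple j) 0) c) → i₁ = k := by
    intro i₁ hi₁ ⟨c, hc⟩
    obtain ⟨c', hc'⟩ := hsymm c
    rw [← hc, MulEquiv.symm_apply_apply] at hc'
    have hc'' : h8xU D hB (D.negIdx.getD (D.simple i₁) 0) (1 : F) =
        h8xU D hB (D.negIdx.getD (D.simple k) 0) c' := congrArg Subtype.val hc'
    have hp1 := h8simple_pos D hBN i₁ hi₁
    have hpk := h8simple_pos D hBN k hk
    have hc'0 : c' ≠ 0 := by
      intro h0
      rw [h0, h8xU_zero] at hc''
      exact h8au_xU_ne_one D hB hA hW _ (hW.neglt _ hp1.1) 1 one_ne_zero hc''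
    have e := h8x_inj_root D hB hA hBN hW hO2 _ _ (hW.neglt _ hp1.1) (hW.neglt _ hpk.1) 1 c'
      one_ne_zero hc'0 hc''
    have e2 : D.simple i₁ = D.simple k := by
      rw [← (hO2.negneg _ hp1.1).2, e, (hO2.negneg _ hpk.1).2]
    exact h8au_simple_inj D hsc i₁ k hi₁ hk e2
  rw [key i hi h, key i' hi' h']

/-- Part I: after an inner automorphism, `θ` permutes the fundamental root subgroups and
    their negatives compatibly. -/
theorem h8au_partI [Finite F] (D : ChevalleyDatum)
    (hD : D ∈ [chevG2, chevB2, chevD4, chevF4, chevE6, chevE7, chevE8])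
    (θ : ↥(D.group F) ≃* ↥(D.group F)) :
    ∃ (x : ↥(D.group F)) (ρ : Equiv.Perm (Fin D.rank)) (f g : Fin D.rank → F → F),
      ∀ (i : Fin D.rank) (t : F),
        (θ.trans (MulAut.conj x)) (h8xG D (h8base_all.{u} D hD) (D.simple i) t) =
          h8xG D (h8base_all.{u} D hD) (D.simple (ρ i)) (f i t) ∧
        (θ.trans (MulAut.conj x)) (h8xG D (h8base_all.{u} D hD) (D.negIdx.getD (D.simple i) 0) t) =
          h8xG D (h8base_all.{u} D hD) (D.negIdx.getD (D.simple (ρ i)) 0) (g i t) := by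
  classical
  obtain ⟨x, hU, hV⟩ := h8au_step1 D hD θ
  refine ⟨x, ?_⟩
  set θ' := θ.trans (MulAut.conj x) with hθ'
  have hm := h8au_match D hD θ' hU hV
  choose j hj hpos hneg using hm
  let ρf : Fin D.rank → Fin D.rank := fun i => ⟨j i.val i.2, hj i.val i.2⟩
  have hinj : Function.Injective ρf := by
    intro a b hab
    have hab' : j a.val a.2 = j b.val b.2 := congrArg Fin.val hab
    apply Fin.ext
    apply h8au_match_inj D hD θ' hU hV a.val b.val (j a.val a.2) a.2 b.2 (hj a.val a.2)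
    · exact hneg a.val a.2 1
    · rw [hab']
      exact hneg b.val b.2 1
  have hbij : Function.Bijective ρf := Finite.injective_iff_bijective.mp hinj
  choose f hf using fun (i : Fin D.rank) => hpos i.val i.2
  choose g hg using fun (i : Fin D.rank) => hneg i.val i.2
  exact ⟨Equiv.ofBijective ρf hbij, f, g, fun i t => ⟨hf i t, hg i t⟩⟩

end Cfsg.Agent.Lib.helper8
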