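import Mathlib
import Cfsg.Prelude.Def_ChevStructure
import Cfsg.Agent.Lib.helper8.ChevSLP2
import Cfsg.Agent.Lib.helper8.ChevAU8

set_option autoImplicit false

namespace Cfsg.Agent.Lib.helper8

open Cfsg.Lie Cfsg.Lie.ChevalleyDatum

universe u

variable {F : Type u} [Field F]

theorem h8au_xU_comm (D : ChevalleyDatum) (hB : H8Base.{u} D) (r : ℕ) (hr : r < D.nroots)
    (a b : F) : h8xU D hB r a * h8xU D hB r b = h8xU D hB r b * h8xU D hB r a := by
  rw [h8xU_add D hB r hr, h8xU_add D hB r hr, add_comm]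

/-- `x_{-r}(d)` normalises `X_r` only if `d = 0` -/
theorem h8au_key0 (D : ChevalleyDatum) (hB : H8Base.{u} D) (hA : H8ReflAll D)
    (hBN : H8BN D) (hW : H8BN2 D) (i : ℕ) (hi : i < D.rank) (d c e : F) (hc : c ≠ 0)
    (h : h8xU D hB (D.negIdx.getD (D.simple i) 0) d * h8xU D hB (D.simple i) c *
      (h8xU D hB (D.negIdx.getD (D.simple i) 0) d)⁻¹ = h8xU D hB (D.simple i) e) : d = 0 := by
  by_contra hd
  have hpi := h8simple_pos D hBN i hi
  have hx := h8x_neg_eq D hB (D.simple i) d hd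
  obtain ⟨c₀, hc₀, hact⟩ := h8act_nU (F := F) D hB hA i hi (D.simple i) hpi.1
  rw [h8reflectRoot_simple] at hact
  set u := h8xU D hB (D.simple i) d⁻¹ with hu
  set hh := h8hU D hB (D.simple i) (-d⁻¹) with hhh
  set n := h8nU D hB (D.simple i) (1 : F) with hn
  have huc : u * h8xU D hB (D.simple i) c * u⁻¹ = h8xU D hB (D.simple i) c := by
    rw [hu, h8au_xU_comm D hB _ hpi.1]
    group
  have e1 : n * h8xU D hB (D.simple i) c * n⁻¹ =
      hh⁻¹ * u⁻¹ * h8xU D hB (D.simple i) e * u * hh := by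
    rw [← h, hx]
    have : u * hh * n * u * h8xU D hB (D.simple i) c * (u * hh * n * u)⁻¹ =
        u * hh * n * (u * h8xU D hB (D.simple i) c * u⁻¹) * n⁻¹ * hh⁻¹ * u⁻¹ := by group
    rw [this, huc]
    group
  have hmem : n * h8xU D hB (D.simple i) c * n⁻¹ ∈ D.borelSubgroup F := by
    rw [e1]
    have huB : u ∈ D.borelSubgroup F := h8U_le_B D (h8xU_mem_U D hB _ hpi _)
    have hhB : hh ∈ D.borelSubgroup F := by
      apply h8H_le_B D
      unfold ChevalleyDatum.diagonalSubgroup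
      apply Subgroup.subset_closure
      exact ⟨D.simple i, -d⁻¹, hpi.1, neg_ne_zero.mpr (inv_ne_zero hd), h8hU_val D hB _ _⟩
    exact Subgroup.mul_mem _ (Subgroup.mul_mem _ (Subgroup.mul_mem _ (Subgroup.mul_mem _
      (Subgroup.inv_mem _ hhB) (Subgroup.inv_mem _ huB))
      (h8U_le_B D (h8xU_mem_U D hB _ hpi _))) huB) hhB
  rw [hact] at hmem
  exact h8xneg_not_mem_B D hB hA hBN hW _ hpi (c₀ * c) (mul_ne_zero hc₀ hc) hmem

/-- the `SL₂` lemma: if `x_r(a) x_{-r}(b) x_r(a)` conjugates a nontrivial element of `X_r`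
    into `X_{-r}` then `b = -a⁻¹`. -/
theorem h8au_sl2 (D : ChevalleyDatum) (hB : H8Base.{u} D) (hA : H8ReflAll D)
    (hBN : H8BN D) (hW : H8BN2 D) (i : ℕ) (hi : i < D.rank) (a b c e : F) (ha : a ≠ 0)
    (hc : c ≠ 0)
    (h : (h8xU D hB (D.simple i) a * h8xU D hB (D.negIdx.getD (D.simple i) 0) b *
        h8xU D hB (D.simple i) a) * h8xU D hB (D.simple i) c *
      (h8xU D hB (D.simple i) a * h8xU D hB (D.negIdx.getD (D.simple i) 0) b *
        h8xU D hB (D.simple i) a)⁻¹ = h8xU D hB (D.negIdx.getD (D.simple i) 0) e) :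
    b = -a⁻¹ := by
  have hpi := h8simple_pos D hBN i hi
  have hnl := hW.neglt _ hpi.1
  -- the action of n_r(a)⁻¹
  have hact : H8Act D hB (h8nU D hB (D.simple i) a)⁻¹ (D.negIdx.getD (D.simple i) 0)
      (D.simple i) := by
    apply h8act_inv
    rw [h8nU_eq_hU]
    have h1 := h8act_nU (F := F) D hB hA i hi (D.simple i) hpi.1
    rw [h8reflectRoot_simple] at h1
    refine h8act_mul D hB _ _ _ _ _ h1 ?_
    apply h8perm_H_id D hB _ _ _ hnl
    unfold ChevalleyDatum.diagonalSubgroup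
    apply Subgroup.subset_closure
    exact ⟨D.simple i, a, hpi.1, ha, h8hU_val D hB _ _⟩
  obtain ⟨c₃, hc₃, hact3⟩ := hact
  set xa := h8xU D hB (D.simple i) a with hxa
  set yb := h8xU D hB (D.negIdx.getD (D.simple i) 0) b with hyb
  set n := h8nU D hB (D.simple i) a with hn
  have hninv : n⁻¹ = h8xU D hB (D.simple i) (-a) *
      h8xU D hB (D.negIdx.getD (D.simple i) 0) a⁻¹ * h8xU D hB (D.simple i) (-a) := by
    rw [hn, ← h8nU_neg, h8nU_eq]
    congr 2
    rw [inv_neg, neg_neg]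
  have hprod : n⁻¹ * (xa * yb * xa) = h8xU D hB (D.simple i) (-a) *
      h8xU D hB (D.negIdx.getD (D.simple i) 0) (a⁻¹ + b) * xa := by
    rw [hninv]
    have e1 : h8xU D hB (D.simple i) (-a) * h8xU D hB (D.negIdx.getD (D.simple i) 0) a⁻¹ *
        h8xU D hB (D.simple i) (-a) * (xa * yb * xa) =
        h8xU D hB (D.simple i) (-a) * (h8xU D hB (D.negIdx.getD (D.simple i) 0) a⁻¹ *
        ((h8xU D hB (D.simple i) (-a) * xa) * yb)) * xa := by group
    rw [e1, hxa, h8xU_add D hB _ hpi.1, neg_add_cancel, h8xU_zero, one_mul, hyb,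
      h8xU_add D hB _ hnl]
  set d := a⁻¹ + b with hd
  -- conjugating x_r(c) by n⁻¹ m
  have h2 : (n⁻¹ * (xa * yb * xa)) * h8xU D hB (D.simple i) c * (n⁻¹ * (xa * yb * xa))⁻¹ =
      h8xU D hB (D.simple i) (c₃ * e) := by
    have : (n⁻¹ * (xa * yb * xa)) * h8xU D hB (D.simple i) c * (n⁻¹ * (xa * yb * xa))⁻¹ =
        n⁻¹ * ((xa * yb * xa) * h8xU D hB (D.simple i) c * (xa * yb * xa)⁻¹) * n⁻¹⁻¹ := by group
    rw [this, h, hact3]
  rw [hprod] at h2
  have h3 : h8xU D hB (D.negIdx.getD (D.simple i) 0) d * h8xU D hB (D.simple i) c *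
      (h8xU D hB (D.negIdx.getD (D.simple i) 0) d)⁻¹ = h8xU D hB (D.simple i) (c₃ * e) := by
    have e1 : h8xU D hB (D.negIdx.getD (D.simple i) 0) d * h8xU D hB (D.simple i) c *
      (h8xU D hB (D.negIdx.getD (D.simple i) 0) d)⁻¹ =
      (h8xU D hB (D.simple i) (-a))⁻¹ * (h8xU D hB (D.simple i) (-a) *
        h8xU D hB (D.negIdx.getD (D.simple i) 0) d * xa * (xa⁻¹ * h8xU D hB (D.simple i) c * xa) *
        (h8xU D hB (D.simple i) (-a) *
        h8xU D hB (D.negIdx.getD (D.simple i) 0) d * xa)⁻¹) * h8xU D hB (D.simple i) (-a) := by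
      group
    have e2 : xa⁻¹ * h8xU D hB (D.simple i) c * xa = h8xU D hB (D.simple i) c := by
      rw [hxa, mul_assoc, h8au_xU_comm D hB _ hpi.1 c a]
      group
    rw [e1, e2, h2, h8xU_inv, neg_neg, h8xU_add D hB _ hpi.1, h8xU_add D hB _ hpi.1]
    congr 1
    ring
  have hd0 := h8au_key0 D hB hA hBN hW i hi d c (c₃ * e) hc h3
  rw [hd] at hd0
  linear_combination hd0

/-- the action of `h_{p_i}(t)` on an arbitrary root element -/
theorem h8au_hx (D : ChevalleyDatum) (hB : H8Base.{u} D) (hsc : h8scChk D = true) (i : ℕ)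
    (hi : i < D.rank) (s : ℕ) (hs : s < D.nroots) (t : F) (ht : t ≠ 0) (v : F) :
    h8hU D hB (D.simple i) t * h8xU D hB s v * (h8hU D hB (D.simple i) t)⁻¹ =
      h8xU D hB s (t ^ (D.cartan i s) * v) := by
  have hsi := (h8scChk_spec D hsc i hi).1
  have h1 := h8hMat_conj_x D hB.ca (D.simple i) s hs t ht v (hB.hdiag F _ hsi t ht)
  rw [h8K_simple D hsc i hi] at h1
  rw [mul_inv_eq_iff_eq_mul]
  apply Units.ext
  rw [Units.val_mul, Units.val_mul, h8hU_val, h8xU_val, h8xU_val]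
  exact h1

end Cfsg.Agent.Lib.helper8
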