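import Mathlib
import Cfsg.Prelude.Def_ChevStructure
import Cfsg.Agent.Lib.helper8.ChevAU9

set_option autoImplicit false

namespace Cfsg.Agent.Lib.helper8

open Cfsg.Lie Cfsg.Lie.ChevalleyDatum

universe u

variable {F : Type u} [Field F]

/-- the data of an automorphism permuting the fundamental root subgroups -/
structure H8AuData (D : ChevalleyDatum) (hB : H8Base.{u} D)
    (θ : ↥(D.group F) ≃* ↥(D.group F)) (ρ : Equiv.Perm (Fin D.rank))
    (f g : Fin D.rank → F → F) : Prop where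
  pos : ∀ (i : Fin D.rank) (t : F),
    θ (h8xG D hB (D.simple i) t) = h8xG D hB (D.simple (ρ i)) (f i t)
  neg : ∀ (i : Fin D.rank) (t : F),
    θ (h8xG D hB (D.negIdx.getD (D.simple i) 0) t) =
      h8xG D hB (D.negIdx.getD (D.simple (ρ i)) 0) (g i t)

def h8nG (D : ChevalleyDatum) (hB : H8Base.{u} D) (r : ℕ) (t : F) : ↥(D.group F) :=
  ⟨h8nU D hB r t, h8wordU_mem_group D hB _⟩

def h8hG (D : ChevalleyDatum) (hB : H8Base.{u} D) (r : ℕ) (t : F) : ↥(D.group F) :=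
  ⟨h8hU D hB r t, h8wordU_mem_group D hB _⟩

theorem h8nG_eq (D : ChevalleyDatum) (hB : H8Base.{u} D) (r : ℕ) (v : F) :
    h8nG D hB r v = h8xG D hB r v * h8xG D hB (D.negIdx.getD r 0) (-v⁻¹) * h8xG D hB r v :=
  Subtype.ext (h8nU_eq D hB r v)

theorem h8hG_eq (D : ChevalleyDatum) (hB : H8Base.{u} D) (r : ℕ) (v : F) :
    h8hG D hB r v = h8nG D hB r v * h8nG D hB r (-1) := by
  apply Subtype.ext
  show h8hU D hB r v = h8nU D hB r v * h8nU D hB r (-1)
  unfold h8hU h8nU ChevalleyDatum.hWord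
  rw [h8wordU_append]

section
variable (D : ChevalleyDatum) (hB : H8Base.{u} D) (hA : H8ReflAll D) (hBN : H8BN D)
  (hW : H8BN2 D) (θ : ↥(D.group F) ≃* ↥(D.group F)) (ρ : Equiv.Perm (Fin D.rank))
  (f g : Fin D.rank → F → F) (hθ : H8AuData D hB θ ρ f g)

include hA hW hBN hθ

theorem h8au_f_add (i : Fin D.rank) (a b : F) : f i (a + b) = f i a + f i b := by
  have hp := (h8simple_pos D hBN i i.2).1
  have hp' := (h8simple_pos D hBN (ρ i) (ρ i).2).1
  have h1 : h8xG D hB (D.simple i) (a + b) = h8xG D hB (D.simple i) a * h8xG D hB (D.simple i) b :=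
    Subtype.ext (h8xU_add D hB _ hp a b).symm
  have h2 := congrArg θ h1
  rw [map_mul, hθ.pos, hθ.pos, hθ.pos] at h2
  have h3 : h8xU D hB (D.simple (ρ i)) (f i (a + b)) =
      h8xU D hB (D.simple (ρ i)) (f i a) * h8xU D hB (D.simple (ρ i)) (f i b) :=
    congrArg Subtype.val h2
  rw [h8xU_add D hB _ hp'] at h3
  exact h8xU_inj_t D hB hA hW _ hp' _ _ h3

theorem h8au_g_add (i : Fin D.rank) (a b : F) : g i (a + b) = g i a + g i b := by
  have hp := hW.neglt _ (h8simple_pos D hBN i i.2).1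
  have hp' := hW.neglt _ (h8simple_pos D hBN (ρ i) (ρ i).2).1
  have h1 : h8xG D hB (D.negIdx.getD (D.simple i) 0) (a + b) =
      h8xG D hB (D.negIdx.getD (D.simple i) 0) a * h8xG D hB (D.negIdx.getD (D.simple i) 0) b :=
    Subtype.ext (h8xU_add D hB _ hp a b).symm
  have h2 := congrArg θ h1
  rw [map_mul, hθ.neg, hθ.neg, hθ.neg] at h2
  have h3 : h8xU D hB (D.negIdx.getD (D.simple (ρ i)) 0) (g i (a + b)) =
      h8xU D hB (D.negIdx.getD (D.simple (ρ i)) 0) (g i a) *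
        h8xU D hB (D.negIdx.getD (D.simple (ρ i)) 0) (g i b) :=
    congrArg Subtype.val h2
  rw [h8xU_add D hB _ hp'] at h3
  exact h8xU_inj_t D hB hA hW _ hp' _ _ h3

theorem h8au_f_inj (i : Fin D.rank) (a b : F) (h : f i a = f i b) : a = b := by
  have hp := (h8simple_pos D hBN i i.2).1
  have h1 : θ (h8xG D hB (D.simple i) a) = θ (h8xG D hB (D.simple i) b) := by
    rw [hθ.pos, hθ.pos, h]
  have h2 := congrArg Subtype.val (θ.injective h1)
  exact h8xU_inj_t D hB hA hW _ hp _ _ h2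

theorem h8au_g_inj (i : Fin D.rank) (a b : F) (h : g i a = g i b) : a = b := by
  have hp := hW.neglt _ (h8simple_pos D hBN i i.2).1
  have h1 : θ (h8xG D hB (D.negIdx.getD (D.simple i) 0) a) =
      θ (h8xG D hB (D.negIdx.getD (D.simple i) 0) b) := by
    rw [hθ.neg, hθ.neg, h]
  have h2 := congrArg Subtype.val (θ.injective h1)
  exact h8xU_inj_t D hB hA hW _ hp _ _ h2

theorem h8au_f_zero (i : Fin D.rank) : f i 0 = 0 := by
  have := h8au_f_add D hB hA hBN hW θ ρ f g hθ i 0 0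
  rw [add_zero] at this
  exact left_eq_add.mp this

theorem h8au_g_zero (i : Fin D.rank) : g i 0 = 0 := by
  have := h8au_g_add D hB hA hBN hW θ ρ f g hθ i 0 0
  rw [add_zero] at this
  exact left_eq_add.mp this

theorem h8au_f_ne_zero (i : Fin D.rank) (t : F) (ht : t ≠ 0) : f i t ≠ 0 := by
  intro h
  apply ht
  apply h8au_f_inj D hB hA hBN hW θ ρ f g hθ i
  rw [h, h8au_f_zero D hB hA hBN hW θ ρ f g hθ i]

theorem h8au_f_neg (i : Fin D.rank) (t : F) : f i (-t) = - f i t := by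
  have := h8au_f_add D hB hA hBN hW θ ρ f g hθ i t (-t)
  rw [add_neg_cancel, h8au_f_zero D hB hA hBN hW θ ρ f g hθ i] at this
  exact eq_neg_of_add_eq_zero_right this.symm

/-- the `SL₂` relation between `f` and `g` -/
theorem h8au_fg (i : Fin D.rank) (t : F) (ht : t ≠ 0) : g i (-t⁻¹) = -(f i t)⁻¹ := by
  have hpi := h8simple_pos D hBN i i.2
  have hnl := hW.neglt _ hpi.1
  -- n_i(t) conjugates x_{p_i}(1) into X_{-p_i}
  have hact : H8Act D hB (h8nU D hB (D.simple i) t) (D.simple i)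
      (D.negIdx.getD (D.simple i) 0) := by
    rw [h8nU_eq_hU]
    have h1 := h8act_nU (F := F) D hB hA i i.2 (D.simple i) hpi.1
    rw [h8reflectRoot_simple] at h1
    refine h8act_mul D hB _ _ _ _ _ h1 ?_
    apply h8perm_H_id D hB _ _ _ hnl
    unfold ChevalleyDatum.diagonalSubgroup
    apply Subgroup.subset_closure
    exact ⟨D.simple i, t, hpi.1, ht, h8hU_val D hB _ _⟩
  obtain ⟨c₀, hc₀, hact0⟩ := hact
  have h1 : h8nG D hB (D.simple i) t * h8xG D hB (D.simple i) 1 * (h8nG D hB (D.simple i) t)⁻¹ =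
      h8xG D hB (D.negIdx.getD (D.simple i) 0) (c₀ * 1) := Subtype.ext (hact0 1)
  have h2 := congrArg θ h1
  rw [map_mul, map_mul, map_inv, h8nG_eq, map_mul, map_mul, hθ.pos, hθ.neg, hθ.pos, hθ.neg] at h2
  have h3 := congrArg Subtype.val h2
  exact h8au_sl2 D hB hA hBN hW (ρ i) (ρ i).2 (f i t) (g i (-t⁻¹)) (f i 1) (g i (c₀ * 1))
    (h8au_f_ne_zero D hB hA hBN hW θ ρ f g hθ i t ht)
    (h8au_f_ne_zero D hB hA hBN hW θ ρ f g hθ i 1 one_ne_zero) h3

theorem h8au_theta_n (i : Fin D.rank) (t : F) (ht : t ≠ 0) :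
    θ (h8nG D hB (D.simple i) t) = h8nG D hB (D.simple (ρ i)) (f i t) := by
  rw [h8nG_eq, map_mul, map_mul, hθ.pos, hθ.neg, h8au_fg D hB hA hBN hW θ ρ f g hθ i t ht,
    ← h8nG_eq]

theorem h8au_theta_h (i : Fin D.rank) (t : F) (ht : t ≠ 0) :
    θ (h8hG D hB (D.simple i) t) = h8hG D hB (D.simple (ρ i)) (f i t / f i 1) := by
  have hp' := (h8simple_pos D hBN (ρ i) (ρ i).2).1
  have hf1 := h8au_f_ne_zero D hB hA hBN hW θ ρ f g hθ i 1 one_ne_zero
  have hft := h8au_f_ne_zero D hB hA hBN hW θ ρ f g hθ i t ht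
  rw [h8hG_eq, map_mul, h8au_theta_n D hB hA hBN hW θ ρ f g hθ i t ht,
    h8au_theta_n D hB hA hBN hW θ ρ f g hθ i (-1) (neg_ne_zero.mpr one_ne_zero),
    h8au_f_neg D hB hA hBN hW θ ρ f g hθ i 1]
  apply Subtype.ext
  show h8nU D hB (D.simple (ρ i)) (f i t) * h8nU D hB (D.simple (ρ i)) (-f i 1) =
    h8hU D hB (D.simple (ρ i)) (f i t / f i 1)
  rw [h8nU_neg, h8nU_eq_hU D hB _ (f i t), h8nU_eq_hU D hB _ (f i 1)]
  have e : f i t = (f i t / f i 1) * f i 1 := by field_simp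
  conv_lhs => rw [e, h8slp_Hmul D hB _ hp' _ _ (div_ne_zero hft hf1) hf1]
  group

/-- the torus relation -/
theorem h8au_torus (hsc : h8scChk D = true) (i j : Fin D.rank) (t : F) (ht : t ≠ 0) (v : F) :
    f j (t ^ (D.cartan i (D.simple j)) * v) =
      (f i t / f i 1) ^ (D.cartan (ρ i) (D.simple (ρ j))) * f j v := by
  have hpj := (h8simple_pos D hBN j j.2).1
  have hpj' := (h8simple_pos D hBN (ρ j) (ρ j).2).1
  have hf1 := h8au_f_ne_zero D hB hA hBN hW θ ρ f g hθ i 1 one_ne_zero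
  have hft := h8au_f_ne_zero D hB hA hBN hW θ ρ f g hθ i t ht
  have h1 : h8hG D hB (D.simple i) t * h8xG D hB (D.simple j) v * (h8hG D hB (D.simple i) t)⁻¹ =
      h8xG D hB (D.simple j) (t ^ (D.cartan i (D.simple j)) * v) :=
    Subtype.ext (h8au_hx D hB hsc i i.2 _ hpj t ht v)
  have h2 := congrArg θ h1
  rw [map_mul, map_mul, map_inv, h8au_theta_h D hB hA hBN hW θ ρ f g hθ i t ht, hθ.pos,
    hθ.pos] at h2
  have h3 : h8hU D hB (D.simple (ρ i)) (f i t / f i 1) * h8xU D hB (D.simple (ρ j)) (f j v) *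
      (h8hU D hB (D.simple (ρ i)) (f i t / f i 1))⁻¹ =
      h8xU D hB (D.simple (ρ j)) (f j (t ^ (D.cartan i (D.simple j)) * v)) :=
    congrArg Subtype.val h2
  rw [h8au_hx D hB hsc (ρ i) (ρ i).2 _ hpj' _ (div_ne_zero hft hf1)] at h3
  exact (h8xU_inj_t D hB hA hW _ hpj' _ _ h3).symm

end

end Cfsg.Agent.Lib.helper8
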