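import Mathlib

set_option autoImplicit false

namespace Cfsg.Agent.Lib.helper8

universe u

variable {F : Type u} [Field F]

/-- an additive map of a finite field with `s(t²v) = s(t)² s(v)` and `s 1 = 1` is a field
    automorphism -/
theorem h8au_ringAut [Finite F] (s : F → F) (hadd : ∀ a b, s (a + b) = s a + s b)
    (hone : s 1 = 1) (hinj : Function.Injective s)
    (hsq : ∀ t v : F, t ≠ 0 → s (t ^ 2 * v) = (s t) ^ 2 * s v) :
    ∃ σ : F ≃+* F, ∀ t, σ t = s t := by
  have hzero : s 0 = 0 := by
    have := hadd 0 0
    rw [add_zero] at this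
    exact left_eq_add.mp this
  have hneg : ∀ a, s (-a) = - s a := by
    intro a
    have := hadd a (-a)
    rw [add_neg_cancel, hzero] at this
    exact eq_neg_of_add_eq_zero_right this.symm
  have hsub : ∀ a b, s (a - b) = s a - s b := by
    intro a b
    rw [sub_eq_add_neg, hadd, hneg, sub_eq_add_neg]
  have hsq' : ∀ t v : F, s (t ^ 2 * v) = (s t) ^ 2 * s v := by
    intro t v
    by_cases ht : t = 0
    · subst ht
      simp [hzero]
    · exact hsq t v ht
  have hsq1 : ∀ t : F, s (t ^ 2) = (s t) ^ 2 := by
    intro t
    have := hsq' t 1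
    rwa [mul_one, hone, mul_one] at this
  have hmul : ∀ x y : F, s (x * y) = s x * s y := by
    intro x y
    by_cases h2 : (2 : F) = 0
    · -- characteristic 2: every element is a square
      have hchar : ringChar F = 2 := by
        have hdvd : ringChar F ∣ 2 := by
          rw [← ringChar.spec]
          exact_mod_cast h2
        rcases (Nat.dvd_prime Nat.prime_two).mp hdvd with h | h
        · exact absurd h CharP.ringChar_ne_one
        · exact h
      obtain ⟨t, ht⟩ := FiniteField.isSquare_of_char_two hchar x
      have hx : x = t ^ 2 := by rw [ht, sq]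
      rw [hx, hsq', hsq1]
    · have hx : x = ((x + 1) / 2) ^ 2 - ((x - 1) / 2) ^ 2 := by
        field_simp
        ring
      have e : x * y = ((x + 1) / 2) ^ 2 * y - ((x - 1) / 2) ^ 2 * y := by
        rw [← sub_mul, ← hx]
      rw [e, hsub, hsq', hsq', ← sub_mul, ← hsq1, ← hsq1, ← hsub, ← hx]
  let σ₀ : F →+* F :=
    { toFun := s
      map_one' := hone
      map_mul' := hmul
      map_zero' := hzero
      map_add' := hadd }
  have hbij : Function.Bijective σ₀ := Finite.injective_iff_bijective.mp hinj
  exact ⟨RingEquiv.ofBijective σ₀ hbij, fun t => rfl⟩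

/-- if `x ↦ x^k` (`k = 2, 3`) is additive on a finite field then it agrees with the Frobenius map -/
theorem h8au_pow_additive [Finite F] (k : ℕ) (hk : k = 2 ∨ k = 3)
    (h : ∀ x y : F, (x + y) ^ k = x ^ k + y ^ k) (x : F) : x ^ k = x ^ (ringChar F) := by
  have hne1 : ringChar F ≠ 1 := CharP.ringChar_ne_one
  rcases hk with rfl | rfl
  · have h2 : (2 : F) = 0 := by
      have := h 1 1
      ring_nf at this
      linear_combination this
    have hdvd : ringChar F ∣ 2 := by
      rw [← ringChar.spec]
      exact_mod_cast h2
    rcases (Nat.dvd_prime Nat.prime_two).mp hdvd with h' | h'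
    · exact absurd h' hne1
    · rw [h']
  · have h6 : (6 : F) = 0 := by
      have := h 1 1
      ring_nf at this
      linear_combination this
    have hdvd : ringChar F ∣ 6 := by
      rw [← ringChar.spec]
      exact_mod_cast h6
    have hp : (ringChar F).Prime := CharP.char_is_prime F (ringChar F)
    have h23 : ringChar F = 2 ∨ ringChar F = 3 := by
      have : ringChar F ∣ 2 * 3 := hdvd
      rcases (Nat.Prime.dvd_mul hp).mp this with h' | h'
      · left
        exact (Nat.prime_dvd_prime_iff_eq hp Nat.prime_two).mp h'
      · right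
        exact (Nat.prime_dvd_prime_iff_eq hp Nat.prime_three).mp h'
    rcases h23 with h' | h'
    · rw [h']
      have h2 : (2 : F) = 0 := by
        have : ((ringChar F : ℕ) : F) = 0 := ringChar.Nat.cast_ringChar
        rw [h'] at this
        exact_mod_cast this
      have h1x := h 1 x
      have hxx : x ^ 2 = x := by
        linear_combination h1x - (2 * x + x ^ 2) * h2
      calc x ^ 3 = x ^ 2 * x := by ring
        _ = x * x := by rw [hxx]
        _ = x ^ 2 := by ring
    · rw [h']

theorem h8au_frob_inj [Finite F] (x y : F) (h : x ^ (ringChar F) = y ^ (ringChar F)) : x = y := by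
  haveI := ringChar.charP F
  haveI : Fact (ringChar F).Prime := ⟨CharP.char_is_prime F (ringChar F)⟩
  exact frobenius_inj F (ringChar F) h

end Cfsg.Agent.Lib.helper8
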