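import Mathlib
import Cfsg.Prelude.Def_ChevAutomorphisms
import Cfsg.Prelude.Def_LieTypes
import Cfsg.Prelude.Def_ChevB2
import Cfsg.Agent.Lib.helper8.ChevTits5

set_option autoImplicit false

namespace Cfsg.Agent.Lib.helper8

open Cfsg.Lie Cfsg.Lie.ChevalleyDatum

/-- the shape of the Cartan matrix and the lengths of the fundamental roots -/
def h8dynChk (D : ChevalleyDatum) : Bool :=
  (List.range D.rank).all fun i => (List.range D.rank).all fun j =>
    decide (i = j) ||
      (let a := D.cartan i (D.simple j)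
       let b := D.cartan j (D.simple i)
       let li := D.isLong (D.simple i)
       let lj := D.isLong (D.simple j)
       (decide (a = 0) && decide (b = 0)) ||
       (decide (a = -1) && decide (b = -1) && (li == lj)) ||
       (decide (a = -1) && (decide (b = -2) || decide (b = -3)) && li && !lj) ||
       ((decide (a = -2) || decide (a = -3)) && decide (b = -1) && !li && lj))

set_option maxRecDepth 100000 in
theorem h8dynChk_all (D : ChevalleyDatum)
    (hD : D ∈ [chevG2, chevB2, chevD4, chevF4, chevE6, chevE7, chevE8]) :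
    h8dynChk D = true := by
  simp only [List.mem_cons, List.mem_nil_iff, or_false] at hD
  rcases hD with rfl | rfl | rfl | rfl | rfl | rfl | rfl <;> decide +kernel

/-- commutation of the positive fundamental root subgroups, and the adjacency relation -/
def h8pcommChk (D : ChevalleyDatum) : Bool :=
  (List.range D.rank).all fun i => (List.range D.rank).all fun j =>
    decide (i = j) ||
      (if D.cartan i (D.simple j) = 0 then
        (D.commTerms (D.simple i) (D.simple j)).isEmpty &&
          decide (D.simple j ≠ D.negIdx.getD (D.simple i) 0) && !h8adjB D i j && !h8adjB D j i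
       else
        decide (D.reflectRoot j (D.simple i) ≠ D.simple i) && h8adjB D i j && h8adjB D j i)

set_option maxRecDepth 100000 in
theorem h8pcommChk_all (D : ChevalleyDatum)
    (hD : D ∈ [chevG2, chevB2, chevD4, chevF4, chevE6, chevE7, chevE8]) :
    h8pcommChk D = true := by
  simp only [List.mem_cons, List.mem_nil_iff, or_false] at hD
  rcases hD with rfl | rfl | rfl | rfl | rfl | rfl | rfl <;> decide +kernel

end Cfsg.Agent.Lib.helper8

namespace Cfsg.Agent.Lib.helper8

open Cfsg.Lie Cfsg.Lie.ChevalleyDatum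

theorem h8dynChk_spec (D : ChevalleyDatum) (h : h8dynChk D = true) (i j : ℕ) (hi : i < D.rank)
    (hj : j < D.rank) (hij : i ≠ j) :
    (D.cartan i (D.simple j) = 0 ∧ D.cartan j (D.simple i) = 0) ∨
    (D.cartan i (D.simple j) = -1 ∧ D.cartan j (D.simple i) = -1 ∧
      D.isLong (D.simple i) = D.isLong (D.simple j)) ∨
    (D.cartan i (D.simple j) = -1 ∧ (D.cartan j (D.simple i) = -2 ∨ D.cartan j (D.simple i) = -3) ∧
      D.isLong (D.simple i) = true ∧ D.isLong (D.simple j) = false) ∨
    ((D.cartan i (D.simple j) = -2 ∨ D.cartan i (D.simple j) = -3) ∧ D.cartan j (D.simple i) = -1 ∧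
      D.isLong (D.simple i) = false ∧ D.isLong (D.simple j) = true) := by
  unfold h8dynChk at h
  simp only [List.all_eq_true, List.mem_range, Bool.or_eq_true, Bool.and_eq_true,
    decide_eq_true_eq, beq_iff_eq, Bool.not_eq_true'] at h
  rcases h i hi j hj with h | h
  · exact absurd h hij
  · rcases h with ((h | h) | h) | h
    · exact Or.inl h
    · exact Or.inr (Or.inl ⟨h.1.1, h.1.2, h.2⟩)
    · exact Or.inr (Or.inr (Or.inl ⟨h.1.1.1, h.1.1.2, h.1.2, h.2⟩))
    · exact Or.inr (Or.inr (Or.inr ⟨h.1.1.1, h.1.1.2, h.1.2, h.2⟩))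

theorem h8pcommChk_spec (D : ChevalleyDatum) (h : h8pcommChk D = true) (i j : ℕ) (hi : i < D.rank)
    (hj : j < D.rank) (hij : i ≠ j) :
    (D.cartan i (D.simple j) = 0 → D.commTerms (D.simple i) (D.simple j) = [] ∧
      D.simple j ≠ D.negIdx.getD (D.simple i) 0 ∧ h8adjB D i j = false ∧ h8adjB D j i = false) ∧
    (D.cartan i (D.simple j) ≠ 0 → D.reflectRoot j (D.simple i) ≠ D.simple i ∧
      h8adjB D i j = true ∧ h8adjB D j i = true) := by
  unfold h8pcommChk at h
  simp only [List.all_eq_true, List.mem_range, Bool.or_eq_true, decide_eq_true_eq] at h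
  rcases h i hi j hj with h | h
  · exact absurd h hij
  · constructor
    · intro h0
      rw [if_pos h0] at h
      simp only [Bool.and_eq_true, decide_eq_true_eq, List.isEmpty_iff, Bool.not_eq_true'] at h
      exact ⟨h.1.1.1, h.1.1.2, h.1.2, h.2⟩
    · intro h0
      rw [if_neg h0] at h
      simp only [Bool.and_eq_true, decide_eq_true_eq] at h
      exact ⟨h.1.1, h.1.2, h.2⟩

/-- for type `F₄`, a permutation of the nodes preserving adjacency preserves the bonds -/
theorem h8symF4_aux : ∀ a0 a1 a2 a3 : Fin chevF4.rank,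
    (∀ i j : Fin chevF4.rank, i ≠ j →
      (chevF4.cartan (![a0, a1, a2, a3] i) (chevF4.simple (![a0, a1, a2, a3] j)) = 0 ↔
        chevF4.cartan i (chevF4.simple j) = 0)) →
    ∀ i j : Fin chevF4.rank, i ≠ j →
      chevF4.bonds (![a0, a1, a2, a3] i) (![a0, a1, a2, a3] j) = chevF4.bonds i j := by
  decide +kernel

theorem h8au_sym (D : ChevalleyDatum)
    (hD : D ∈ [chevG2, chevB2, chevD4, chevF4, chevE6, chevE7, chevE8])
    (ρ : Equiv.Perm (Fin D.rank))
    (h : ∀ i j : Fin D.rank, i ≠ j →
      (D.cartan (ρ i) (D.simple (ρ j)) = 0 ↔ D.cartan i (D.simple j) = 0)) :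
    D.IsDiagramSymmetry ρ := by
  have hdyn := h8dynChk_all D hD
  -- the simply-laced case
  have hsl : (∀ i < D.rank, ∀ j < D.rank, i ≠ j →
      D.cartan i (D.simple j) = 0 ∨ D.cartan i (D.simple j) = -1) → D.IsDiagramSymmetry ρ := by
    intro hA i j hij
    unfold ChevalleyDatum.bonds
    have hρij : (ρ i : ℕ) ≠ (ρ j : ℕ) := by
      intro e
      exact hij (ρ.injective (Fin.ext e))
    have hij' : (i : ℕ) ≠ (j : ℕ) := fun e => hij (Fin.ext e)
    have e1 : D.cartan (ρ i) (D.simple (ρ j)) = D.cartan i (D.simple j) := by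
      have h1 := h i j hij
      rcases hA _ (ρ i).2 _ (ρ j).2 hρij with h2 | h2 <;> rcases hA _ i.2 _ j.2 hij' with h3 | h3
      · rw [h2, h3]
      · rw [h1.mp h2] at h3; exact absurd h3 (by decide)
      · rw [h1.mpr h3] at h2; exact absurd h2 (by decide)
      · rw [h2, h3]
    have e2 : D.cartan (ρ j) (D.simple (ρ i)) = D.cartan j (D.simple i) := by
      have h1 := h j i hij.symm
      rcases hA _ (ρ j).2 _ (ρ i).2 hρij.symm with h2 | h2 <;>
        rcases hA _ j.2 _ i.2 hij'.symm with h3 | h3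
      · rw [h2, h3]
      · rw [h1.mp h2] at h3; exact absurd h3 (by decide)
      · rw [h1.mpr h3] at h2; exact absurd h2 (by decide)
      · rw [h2, h3]
    rw [e1, e2]
  -- the rank two case
  have hr2 : D.rank = 2 → D.IsDiagramSymmetry ρ := by
    intro hr i j hij
    have hi := i.2
    have hj := j.2
    have hρi := (ρ i).2
    have hρj := (ρ j).2
    have hρij : (ρ i : ℕ) ≠ (ρ j : ℕ) := by
      intro e
      exact hij (ρ.injective (Fin.ext e))
    have hij' : (i : ℕ) ≠ (j : ℕ) := fun e => hij (Fin.ext e)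
    have hcases : (ρ i = i ∧ ρ j = j) ∨ (ρ i = j ∧ ρ j = i) := by
      have h1 : ((ρ i : ℕ) = i ∧ (ρ j : ℕ) = j) ∨ ((ρ i : ℕ) = j ∧ (ρ j : ℕ) = i) := by omega
      rcases h1 with ⟨h1, h2⟩ | ⟨h1, h2⟩
      · exact Or.inl ⟨Fin.ext h1, Fin.ext h2⟩
      · exact Or.inr ⟨Fin.ext h1, Fin.ext h2⟩
    rcases hcases with ⟨h1, h2⟩ | ⟨h1, h2⟩
    · rw [h1, h2]
    · rw [h1, h2]
      unfold ChevalleyDatum.bonds
      ring
  simp only [List.mem_cons, List.mem_nil_iff, or_false] at hD
  rcases hD with rfl | rfl | rfl | rfl | rfl | rfl | rfl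
  · exact hr2 rfl
  · exact hr2 rfl
  · apply hsl; decide +kernel
  · intro i j hij
    have key := h8symF4_aux (ρ ⟨0, by decide⟩) (ρ ⟨1, by decide⟩) (ρ ⟨2, by decide⟩)
      (ρ ⟨3, by decide⟩)
    have hv : ∀ k : Fin chevF4.rank, ![ρ ⟨0, by decide⟩, ρ ⟨1, by decide⟩, ρ ⟨2, by decide⟩,
        ρ ⟨3, by decide⟩] k = ρ k := by
      rintro ⟨k, hk⟩
      have hk4 : k < 4 := hk
      interval_cases k <;> rfl
    simp only [hv] at key
    exact key h i j hij
  · apply hsl; decide +kernel
  · apply hsl; decide +kernel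
  · apply hsl; decide +kernel

end Cfsg.Agent.Lib.helper8
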