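import Mathlib
import Cfsg.Prelude.Def_ChevAutomorphisms
import Cfsg.Agent.Lib.helper8.ChevAU10
import Cfsg.Agent.Lib.helper8.ChevAU11
import Cfsg.Agent.Lib.helper8.ChevAU12

set_option autoImplicit false

namespace Cfsg.Agent.Lib.helper8

open Cfsg.Lie Cfsg.Lie.ChevalleyDatum

universe u

variable {F : Type u} [Field F]

section
variable (D : ChevalleyDatum) (hD : D ∈ [chevG2, chevB2, chevD4, chevF4, chevE6, chevE7, chevE8])
  (θ : ↥(D.group F) ≃* ↥(D.group F)) (ρ : Equiv.Perm (Fin D.rank))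
  (f g : Fin D.rank → F → F) (hθ : H8AuData D (h8base_all.{u} D hD) θ ρ f g)

include hθ

/-- the field automorphisms attached to the nodes -/
theorem h8au_sigma [Finite F] : ∃ σs : Fin D.rank → (F ≃+* F),
    (∀ i t, f i t = f i 1 * σs i t) ∧ (∀ i t, g i t = (f i 1)⁻¹ * σs i t) ∧
    (∀ i, f i 1 ≠ 0) ∧
    (∀ i j t, t ≠ 0 → (σs i t) ^ (D.cartan (ρ i) (D.simple (ρ j))) =
      (σs j t) ^ (D.cartan i (D.simple j))) := by
  have hB := h8base_all.{u} D hD
  have hA := h8reflAll D hD
  have hBN := h8bn_all D hD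
  have hW := h8bn2_all D hD
  have hsc := h8scChk_all D hD
  have hf1 : ∀ i, f i 1 ≠ 0 := fun i => h8au_f_ne_zero D _ hA hBN hW θ ρ f g hθ i 1 one_ne_zero
  have hex : ∀ i : Fin D.rank, ∃ σ : F ≃+* F, ∀ t, σ t = f i t / f i 1 := by
    intro i
    apply h8au_ringAut (fun t => f i t / f i 1)
    · intro a b
      show f i (a + b) / f i 1 = f i a / f i 1 + f i b / f i 1
      rw [h8au_f_add D _ hA hBN hW θ ρ f g hθ i a b, add_div]
    · exact div_self (hf1 i)
    · intro a b hab
      have : f i a = f i b := by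
        have h1 : f i a / f i 1 = f i b / f i 1 := hab
        rw [div_left_inj' (hf1 i)] at h1
        exact h1
      exact h8au_f_inj D _ hA hBN hW θ ρ f g hθ i a b this
    · intro t v ht
      show f i (t ^ 2 * v) / f i 1 = (f i t / f i 1) ^ 2 * (f i v / f i 1)
      have h1 := h8au_torus D _ hA hBN hW θ ρ f g hθ hsc i i t ht v
      rw [h8cartan_simple D hD i i.2, h8cartan_simple D hD (ρ i) (ρ i).2] at h1
      have e2 : ∀ x : F, x ^ (2 : ℤ) = x ^ 2 := fun x => zpow_ofNat x 2
      rw [e2, e2] at h1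
      rw [h1]
      ring
  choose σs hσs using hex
  have hfσ : ∀ i t, f i t = f i 1 * σs i t := by
    intro i t
    rw [hσs i t]
    field_simp [hf1 i]
  refine ⟨σs, hfσ, ?_, hf1, ?_⟩
  · intro i s
    by_cases hs : s = 0
    · subst hs
      rw [h8au_g_zero D _ hA hBN hW θ ρ f g hθ i, map_zero, mul_zero]
    · have ht : -s⁻¹ ≠ 0 := neg_ne_zero.mpr (inv_ne_zero hs)
      have h1 := h8au_fg D _ hA hBN hW θ ρ f g hθ i (-s⁻¹) ht
      have e : -(-s⁻¹)⁻¹ = s := by rw [inv_neg, inv_inv, neg_neg]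
      rw [e] at h1
      rw [h1, hfσ i, map_neg, map_inv₀]
      have hσs0 : σs i s ≠ 0 := (map_ne_zero (σs i)).mpr hs
      field_simp [hf1 i]
  · intro i j t ht
    have h1 := h8au_torus D _ hA hBN hW θ ρ f g hθ hsc i j t ht 1
    rw [mul_one, hfσ j, hfσ i t, map_zpow₀, hfσ j 1, map_one, mul_one] at h1
    have e : f i 1 * σs i t / f i 1 = σs i t := by field_simp [hf1 i]
    rw [e] at h1
    have := mul_left_cancel₀ (hf1 j) (h1.trans (mul_comm _ _))
    exact this.symm

/-- `ρ` preserves adjacency, hence is a symmetry of the diagram -/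
theorem h8au_rho_sym [Finite F] : D.IsDiagramSymmetry ρ := by
  have hB := h8base_all.{u} D hD
  have hA := h8reflAll D hD
  have hC := h8commAll.{u} D hD
  have hBN := h8bn_all D hD
  have hW := h8bn2_all D hD
  obtain ⟨hO, hO2⟩ := h8ord_all D hD
  have hpc := h8pcommChk_all D hD
  apply h8au_sym D hD
  -- commutation criterion
  have hcrit : ∀ i j : Fin D.rank, i ≠ j → (D.cartan i (D.simple j) = 0 ↔
      ∀ a b : F, h8xU D hB (D.simple j) b * h8xU D hB (D.simple i) a =
        h8xU D hB (D.simple i) a * h8xU D hB (D.simple j) b) := by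
    intro i j hij
    have hij' : (i : ℕ) ≠ (j : ℕ) := fun e => hij (Fin.ext e)
    obtain ⟨hz, hnz⟩ := h8pcommChk_spec D hpc i j i.2 j.2 hij'
    have hpi := h8simple_pos D hBN i i.2
    have hpj := h8simple_pos D hBN j j.2
    constructor
    · intro h0 a b
      obtain ⟨h1, h2, -, -⟩ := hz h0
      apply h8comm_of_zero D hB hC _ _ hpi.1 hpj.1 h2
      intro _ c hc
      rw [h1] at hc
      exact absurd hc List.not_mem_nil
    · intro hcomm
      by_contra h0
      obtain ⟨h1, -, -⟩ := hnz h0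
      -- n_j commutes with x_{p_i}(1)
      have hscm := h8scommChk_all D hD
      have hc1 : ∀ b : F, h8xU D hB (D.simple j) b * h8xU D hB (D.simple i) 1 =
          h8xU D hB (D.simple i) 1 * h8xU D hB (D.simple j) b := fun b => hcomm 1 b
      have hc2 : ∀ b : F, h8xU D hB (D.negIdx.getD (D.simple j) 0) b * h8xU D hB (D.simple i) 1 =
          h8xU D hB (D.simple i) 1 * h8xU D hB (D.negIdx.getD (D.simple j) 0) b :=
        fun b => h8au_simple_comm D hB hC hBN hW hscm i j i.2 j.2 hij' 1 b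
      have hn : h8nU D hB (D.simple j) (1 : F) * h8xU D hB (D.simple i) 1 =
          h8xU D hB (D.simple i) 1 * h8nU D hB (D.simple j) (1 : F) := by
        rw [h8nU_eq, mul_assoc, mul_assoc, hc1, ← mul_assoc _ (h8xU D hB (D.simple i) 1),
          hc2, mul_assoc, mul_assoc, ← mul_assoc _ (h8xU D hB (D.simple i) 1), hc1]
        group
      obtain ⟨c, hc, hact⟩ := h8act_nU (F := F) D hB hA j j.2 (D.simple i) hpi.1
      have h2 := hact 1
      rw [hn, mul_assoc, mul_inv_cancel, mul_one] at h2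
      have hlt : D.reflectRoot j (D.simple i) < D.nroots := h8refl_lt D hA j j.2 _ hpi.1
      have := h8x_inj_root D hB hA hBN hW hO2 _ _ hpi.1 hlt 1 (c * 1) one_ne_zero
        (mul_ne_zero hc one_ne_zero) h2
      exact h1 this.symm
  intro i j hij
  have hρij : ρ i ≠ ρ j := fun e => hij (ρ.injective e)
  rw [hcrit i j hij, hcrit (ρ i) (ρ j) hρij]
  have hsurj : ∀ k : Fin D.rank, Function.Surjective (f k) := by
    intro k
    apply Finite.injective_iff_surjective.mp
    intro a b hab
    exact h8au_f_inj D _ hA hBN hW θ ρ f g hθ k a b hab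
  constructor
  · intro h a b
    have h1 : θ (h8xG D hB (D.simple j) b * h8xG D hB (D.simple i) a) =
        θ (h8xG D hB (D.simple i) a * h8xG D hB (D.simple j) b) := by
      rw [map_mul, map_mul, hθ.pos, hθ.pos]
      exact Subtype.ext (h (f i a) (f j b))
    exact congrArg Subtype.val (θ.injective h1)
  · intro h a' b'
    obtain ⟨a, rfl⟩ := hsurj i a'
    obtain ⟨b, rfl⟩ := hsurj j b'
    have h1 : h8xG D hB (D.simple j) b * h8xG D hB (D.simple i) a =
        h8xG D hB (D.simple i) a * h8xG D hB (D.simple j) b := Subtype.ext (h a b)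
    have h2 := congrArg θ h1
    rw [map_mul, map_mul, hθ.pos, hθ.pos] at h2
    exact congrArg Subtype.val h2

end

end Cfsg.Agent.Lib.helper8
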