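import Mathlib
import Cfsg.Prelude.Def_ChevAutomorphisms
import Cfsg.Agent.Lib.helper8.ChevAU11
import Cfsg.Agent.Lib.helper8.ChevAU12

set_option autoImplicit false

namespace Cfsg.Agent.Lib.helper8

open Cfsg.Lie Cfsg.Lie.ChevalleyDatum

universe u

variable {F : Type u} [Field F]

theorem h8au_edge0 (σi σj : F ≃+* F)
    (h : ∀ t : F, t ≠ 0 → (σi t) ^ (-1 : ℤ) = (σj t) ^ (-1 : ℤ)) (t : F) : σi t = σj t := by
  by_cases ht : t = 0
  · subst ht; rw [map_zero, map_zero]
  · have := h t ht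
    rw [zpow_neg_one, zpow_neg_one] at this
    exact inv_injective this

theorem h8au_zpow_k (x y : F) (k : ℕ) (k' : ℤ) (hk : k' = -(k : ℤ))
    (h : x ^ k' = y ^ (-1 : ℤ)) : y = x ^ k := by
  rw [hk, zpow_neg, zpow_neg_one, zpow_natCast] at h
  exact (inv_injective h).symm

theorem h8au_edgeA [Finite F] (σ σi σj : F ≃+* F) (k : ℕ) (hk : k = 2 ∨ k = 3) (k' : ℤ)
    (hk' : k' = -(k : ℤ))
    (h : ∀ t : F, t ≠ 0 → (σi t) ^ k' = (σj t) ^ (-1 : ℤ))
    (hi : ∀ t, σi t = σ t) (t : F) : σj t = (σ t) ^ (ringChar F) := by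
  have hk0 : k ≠ 0 := by rcases hk with rfl | rfl <;> decide
  have h1 : ∀ t : F, σj t = (σ t) ^ k := by
    intro t
    by_cases ht : t = 0
    · subst ht; rw [map_zero, map_zero, zero_pow hk0]
    · rw [← hi]
      exact h8au_zpow_k _ _ k k' hk' (h t ht)
  have hadd : ∀ x y : F, (x + y) ^ k = x ^ k + y ^ k := by
    intro x y
    obtain ⟨u, rfl⟩ := σ.surjective x
    obtain ⟨v, rfl⟩ := σ.surjective y
    rw [← map_add, ← h1, ← h1, ← h1, map_add]
  rw [h1, h8au_pow_additive k hk hadd]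

theorem h8au_edgeB [Finite F] (σ σi σj : F ≃+* F) (k : ℕ) (hk : k = 2 ∨ k = 3) (k' : ℤ)
    (hk' : k' = -(k : ℤ))
    (h : ∀ t : F, t ≠ 0 → (σj t) ^ k' = (σi t) ^ (-1 : ℤ))
    (hi : ∀ t, σi t = (σ t) ^ (ringChar F)) (t : F) : σj t = σ t := by
  have hk0 : k ≠ 0 := by rcases hk with rfl | rfl <;> decide
  have h1 : ∀ t : F, σi t = (σj t) ^ k := by
    intro t
    by_cases ht : t = 0
    · subst ht; rw [map_zero, map_zero, zero_pow hk0]
    · exact h8au_zpow_k _ _ k k' hk' (h t ht)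
  have hadd : ∀ x y : F, (x + y) ^ k = x ^ k + y ^ k := by
    intro x y
    obtain ⟨u, rfl⟩ := σj.surjective x
    obtain ⟨v, rfl⟩ := σj.surjective y
    rw [← map_add, ← h1, ← h1, ← h1, map_add]
  apply h8au_frob_inj
  rw [← h8au_pow_additive k hk hadd, ← h1, hi]

/-- the field automorphisms attached to the nodes come from a single one -/
theorem h8au_sigma_uniform [Finite F] (D : ChevalleyDatum)
    (hD : D ∈ [chevG2, chevB2, chevD4, chevF4, chevE6, chevE7, chevE8])
    (ρ : Equiv.Perm (Fin D.rank)) (hρ : D.IsDiagramSymmetry ρ) (σs : Fin D.rank → (F ≃+* F))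
    (hrel : ∀ i j t, t ≠ 0 → (σs i t) ^ (D.cartan (ρ i) (D.simple (ρ j))) =
      (σs j t) ^ (D.cartan i (D.simple j))) :
    ∃ σ : F ≃+* F, ∀ i t, σs i t = (σ t) ^ (D.graphExp (ringChar F) i (ρ i)) := by
  have hdyn := h8dynChk_all D hD
  have hpc := h8pcommChk_all D hD
  obtain ⟨es, hes⟩ := h8tree_all D hD
  have hrank : 0 < D.rank := (h8tits_all D hD).rank
  set p := ringChar F with hp
  -- a node with exponent one
  have hexp : ∀ i : Fin D.rank, D.graphExp p i (ρ i) ≠ 1 → D.graphExp p (ρ i) (ρ (ρ i)) = 1 := by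
    intro i h
    unfold ChevalleyDatum.graphExp at h ⊢
    by_cases hl : D.isLong (D.simple (ρ i)) = true
    · rw [hl]
      simp
    · rw [Bool.not_eq_true] at hl
      rw [hl] at h
      simp at h
  obtain ⟨r₀, hr₀⟩ : ∃ r₀ : Fin D.rank, D.graphExp p r₀ (ρ r₀) = 1 := by
    by_cases h : D.graphExp p (⟨0, hrank⟩ : Fin D.rank) (ρ ⟨0, hrank⟩) = 1
    · exact ⟨_, h⟩
    · exact ⟨_, hexp _ h⟩
  refine ⟨σs r₀, ?_⟩
  set σ := σs r₀ with hσ
  let Q : ℕ → Prop := fun k => ∀ (hk : k < D.rank) (t : F),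
    σs ⟨k, hk⟩ t = (σ t) ^ (D.graphExp p k (ρ ⟨k, hk⟩))
  have hQr : Q r₀ := by
    intro hk t
    show σs ⟨r₀.val, hk⟩ t = (σ t) ^ (D.graphExp p r₀ (ρ ⟨r₀.val, hk⟩))
    rw [Fin.eta, hr₀, pow_one]
  have hedge : ∀ i j, i < D.rank → j < D.rank → h8adjB D i j = true → Q i → Q j := by
    intro i j hi hj hadj hQi
    by_cases hij : i = j
    · subst hij; exact hQi
    intro hj' t
    have hQi' := hQi hi
    set fi : Fin D.rank := ⟨i, hi⟩ with hfi
    set fj : Fin D.rank := ⟨j, hj⟩ with hfj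
    have hfij : fi ≠ fj := fun e => hij (congrArg Fin.val e)
    have hρij : (ρ fi : ℕ) ≠ (ρ fj : ℕ) := fun e => hfij (ρ.injective (Fin.ext e))
    obtain ⟨hz, hnz⟩ := h8pcommChk_spec D hpc i j hi hj hij
    have ha0 : D.cartan i (D.simple j) ≠ 0 := by
      intro h0
      have := (hz h0).2.2.1
      rw [hadj] at this
      exact absurd this (by decide)
    have hbond := hρ fi fj hfij
    unfold ChevalleyDatum.bonds at hbond
    have r1 := hrel fi fj
    have r2 := hrel fj fi
    have d1 := h8dynChk_spec D hdyn i j hi hj hij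
    have d2 := h8dynChk_spec D hdyn (ρ fi) (ρ fj) (ρ fi).2 (ρ fj).2 hρij
    have ei : D.graphExp p i (ρ fi) =
        if D.isLong (D.simple (ρ fi)) && !D.isLong (D.simple i) then p else 1 := rfl
    have ej : D.graphExp p j (ρ fj) =
        if D.isLong (D.simple (ρ fj)) && !D.isLong (D.simple j) then p else 1 := rfl
    show σs fj t = (σ t) ^ (D.graphExp p j (ρ fj))
    have hfi_val : (fi : ℕ) = i := rfl
    have hfj_val : (fj : ℕ) = j := rfl
    rw [hfi_val, hfj_val] at hbond r1 r2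
    rw [ej]
    rw [ei] at hQi'
    rcases d1 with ⟨h1, -⟩ | ⟨a1, b1, l1⟩ | ⟨a1, b1, li, lj⟩ | ⟨a1, b1, li, lj⟩
    · exact absurd h1 ha0
    · -- single bond
      rw [a1, b1] at hbond
      rcases d2 with ⟨a2, b2⟩ | ⟨a2, b2, l2⟩ | ⟨a2, b2, -, -⟩ | ⟨a2, b2, -, -⟩
      · rw [a2, b2] at hbond; exact absurd hbond (by decide)
      · rw [a1, a2] at r1
        have e := h8au_edge0 (σs fi) (σs fj) r1
        rw [← e, hQi', l1, l2]
      · rcases b2 with b2 | b2 <;> rw [a2, b2] at hbond <;> exact absurd hbond (by decide)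
      · rcases a2 with a2 | a2 <;> rw [a2, b2] at hbond <;> exact absurd hbond (by decide)
    · -- i long, j short
      rcases d2 with ⟨a2, b2⟩ | ⟨a2, b2, l2⟩ | ⟨a2, b2, li', lj'⟩ | ⟨a2, b2, li', lj'⟩
      · rw [a2, b2] at hbond
        rcases b1 with b1 | b1 <;> rw [a1, b1] at hbond <;> exact absurd hbond (by decide)
      · rw [a2, b2] at hbond
        rcases b1 with b1 | b1 <;> rw [a1, b1] at hbond <;> exact absurd hbond (by decide)
      · rw [a1, a2] at r1
        have e := h8au_edge0 (σs fi) (σs fj) r1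
        rw [li', li] at hQi'
        rw [lj', ← e, hQi']
        simp
      · rw [li', li] at hQi'
        rw [lj', lj]
        simp only [Bool.not_false, Bool.and_self, if_true]
        simp only [Bool.not_true, Bool.and_false, if_false, Bool.false_eq_true, pow_one] at hQi'
        rw [a1] at r1
        rcases a2 with a2 | a2
        · rw [a2] at r1
          exact h8au_edgeA σ (σs fi) (σs fj) 2 (Or.inl rfl) (-2) (by norm_num) r1 hQi' t
        · rw [a2] at r1
          exact h8au_edgeA σ (σs fi) (σs fj) 3 (Or.inr rfl) (-3) (by norm_num) r1 hQi' t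
    · -- i short, j long
      rcases d2 with ⟨a2, b2⟩ | ⟨a2, b2, l2⟩ | ⟨a2, b2, li', lj'⟩ | ⟨a2, b2, li', lj'⟩
      · rw [a2, b2] at hbond
        rcases a1 with a1 | a1 <;> rw [a1, b1] at hbond <;> exact absurd hbond (by decide)
      · rw [a2, b2] at hbond
        rcases a1 with a1 | a1 <;> rw [a1, b1] at hbond <;> exact absurd hbond (by decide)
      · rw [li', li] at hQi'
        rw [lj', lj]
        simp only [Bool.not_true, Bool.and_false, if_false, Bool.false_eq_true, pow_one]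
        simp only [Bool.not_false, Bool.and_self, if_true] at hQi'
        rw [b1] at r2
        rcases b2 with b2 | b2
        · rw [b2] at r2
          exact h8au_edgeB σ (σs fi) (σs fj) 2 (Or.inl rfl) (-2) (by norm_num) r2 hQi' t
        · rw [b2] at r2
          exact h8au_edgeB σ (σs fi) (σs fj) 3 (Or.inr rfl) (-3) (by norm_num) r2 hQi' t
      · rw [b1, b2] at r2
        have e := h8au_edge0 (σs fj) (σs fi) r2
        rw [li', li] at hQi'
        rw [lj', lj, e, hQi']
        simp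
  have hall := h8tree_spec D Q 0 hedge es [0] hes (by
    intro x hx
    rw [List.mem_singleton] at hx
    rw [hx])
  intro i t
  have hQi : Q i := (hall i i.2).mpr ((hall r₀ r₀.2).mp hQr)
  exact hQi i.2 t

end Cfsg.Agent.Lib.helper8
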