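import Mathlib
import Cfsg.Prelude.Def_ChevAutomorphisms
import Cfsg.Agent.Lib.helper8.ChevXEntry
import Cfsg.Agent.Lib.helper8.ChevSLTable

set_option autoImplicit false

namespace Cfsg.Agent.Lib.helper8

open Cfsg.Lie Cfsg.Lie.ChevalleyDatum

universe u

variable {F : Type u} [Field F]

def h8consL (D : ChevalleyDatum) (r : ℕ) : List (ℕ × ℤ) → Bool
  | [] => true
  | (u, _) :: L =>
    decide (u < D.nroots) &&
      (match L with
        | [] => true
        | (u', _) :: _ => decide (D.chainRoot r u 1 = some u')) && h8consL D r L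

def h8consChk (D : ChevalleyDatum) : Bool :=
  (List.range D.nroots).all fun r =>
    (D.chain.getD r #[]).toList.all fun e => h8consL D r e.2.toList

theorem h8consChk_spec (D : ChevalleyDatum) (h : h8consChk D = true) (r s : ℕ) (hr : r < D.nroots) :
    h8consL D r (D.chainEntry r s) = true := by
  rcases h8chainEntry_cases D r s with h0 | ⟨e, he, _, hce⟩
  · rw [h0]; rfl
  · rw [hce]
    unfold h8consChk at h
    rw [List.all_eq_true] at h
    have h1 := h r (List.mem_range.mpr hr)
    rw [List.all_eq_true] at h1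
    exact h1 e he

theorem h8chSum_char (D : ChevalleyDatum) (χ : ℕ → Fˣ)
    (hχ : ∀ r s k, r < D.nroots → s < D.nroots → D.chainRoot r s 1 = some k → χ k = χ r * χ s)
    (r : ℕ) (hr : r < D.nroots) (t : F) (cv : F) (hcv : cv ≠ 0) :
    ∀ (L : List (ℕ × ℤ)) (n : ℕ), h8consL D r L = true →
      (∀ u M L', L = (u, M) :: L' → ((χ u : Fˣ) : F) = ((χ r : Fˣ) : F) ^ (n + 1) * cv) →
      ∀ w, h8chSum (((χ r : Fˣ) : F) * t) w n L = ((χ w : Fˣ) : F) * cv⁻¹ * h8chSum t w n L
  | [], n, _, _, w => by simp [h8chSum]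
  | (u, M) :: L, n, hc, hb, w => by
    unfold h8consL at hc
    simp only [Bool.and_eq_true, decide_eq_true_eq] at hc
    obtain ⟨⟨hu, hnext⟩, hc'⟩ := hc
    have hbu := hb u M L rfl
    have ih := h8chSum_char D χ hχ r hr t cv hcv L (n + 1) hc' (by
      intro u' M' L'' hL
      subst hL
      simp only [decide_eq_true_eq] at hnext
      have := hχ r u u' hr hu hnext
      rw [this, Units.val_mul, hbu]
      ring) w
    unfold h8chSum
    rw [ih]
    by_cases huw : u = w
    · subst huw
      rw [if_pos rfl, if_pos rfl, hbu, mul_inv_cancel_right₀ hcv]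
      ring
    · rw [if_neg huw, if_neg huw]
      ring

end Cfsg.Agent.Lib.helper8
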