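import Mathlib
import Cfsg.Prelude.Def_ChevAutomorphisms
import Cfsg.Agent.Lib.helper8.ChevChar

set_option autoImplicit false

namespace Cfsg.Agent.Lib.helper8

open Cfsg.Lie Cfsg.Lie.ChevalleyDatum

universe u

variable {F : Type u} [Field F]

theorem h8charDiag_conj (D : ChevalleyDatum) (hcons : h8consChk D = true)
    (hsorted : ∀ r < D.nroots, (((D.chain.getD r #[]).toList).map Prod.fst).Pairwise (· < ·))
    (χ : ℕ → Fˣ) (hχ : D.IsRootCharacter χ) (r : ℕ) (hr : r < D.nroots) (t : F) :
    D.charDiag F χ * D.x F r t * D.charDiag F (fun s => (χ s)⁻¹) =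
      D.x F r (((χ r : Fˣ) : F) * t) := by
  obtain ⟨hχ1, hχ2⟩ := hχ
  unfold ChevalleyDatum.x
  rw [dif_pos hr, dif_pos hr]
  unfold ChevalleyDatum.charDiag
  apply Matrix.ext
  intro a b
  rw [Matrix.mul_diagonal, Matrix.diagonal_mul]
  have hneg : χ (D.negIdx.getD r 0) = (χ r)⁻¹ := hχ1 r hr
  rcases a with a | u <;> rcases b with b | v
  · rw [h8xMat_inl_inl, h8xMat_inl_inl]
    simp only [Sum.elim_inl, one_mul, mul_one]
  · rw [h8xMat_inl_inr, h8xMat_inl_inr]
    simp only [Sum.elim_inl, Sum.elim_inr, one_mul]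
    by_cases h1 : v = ⟨r, hr⟩
    · rw [if_pos h1, if_pos h1, zero_mul]
    · rw [if_neg h1, if_neg h1]
      by_cases h2 : v.val = D.negIdx.getD r 0
      · rw [if_pos h2, if_pos h2, h2, hneg, inv_inv]
        ring
      · rw [if_neg h2, if_neg h2, zero_mul]
  · rw [h8xMat_inr_inl, h8xMat_inr_inl]
    simp only [Sum.elim_inl, Sum.elim_inr, mul_one]
    by_cases h1 : u = ⟨r, hr⟩
    · rw [if_pos h1, if_pos h1, h1]
      ring
    · rw [if_neg h1, if_neg h1, mul_zero]
  · rw [h8xMat_inr_inr D _ _ _ _ (hsorted r hr), h8xMat_inr_inr D _ _ _ _ (hsorted r hr)]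
    simp only [Sum.elim_inr]
    have hv0 : ((χ v.val : Fˣ) : F) ≠ 0 := Units.ne_zero _
    have hr0 : ((χ r : Fˣ) : F) ≠ 0 := Units.ne_zero _
    by_cases h1 : v = ⟨r, hr⟩
    · rw [if_pos h1, if_pos h1]
      by_cases h3 : u = ⟨r, hr⟩
      · rw [if_pos h3, h3, h1, Units.val_inv_eq_inv_val]
        field_simp
      · rw [if_neg h3, mul_zero, zero_mul]
    · rw [if_neg h1, if_neg h1]
      by_cases h2 : v.val = D.negIdx.getD r 0
      · rw [if_pos h2, if_pos h2]
        by_cases h3 : u = v
        · simp only [if_pos h3]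
          rw [h3, Units.val_inv_eq_inv_val]
          field_simp
        · simp only [if_neg h3]
          by_cases h4 : u = ⟨r, hr⟩
          · simp only [if_pos h4]
            rw [h4, h2, hneg, inv_inv]
            ring
          · simp only [if_neg h4]
            rw [mul_zero, zero_mul]
      · rw [if_neg h2, if_neg h2]
        have hc := h8consChk_spec D hcons r v.val hr
        have hbase : ∀ u1 M L', D.chainEntry r v.val = (u1, M) :: L' →
            ((χ u1 : Fˣ) : F) = ((χ r : Fˣ) : F) ^ (0 + 1) * ((χ v.val : Fˣ) : F) := by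
          intro u1 M L' hL
          have hcr : D.chainRoot r v.val 1 = some u1 := by
            unfold ChevalleyDatum.chainRoot
            rw [hL]
            rfl
          rw [hχ2 r v.val u1 hr v.2 hcr, Units.val_mul]
          ring
        rw [h8chSum_char D χ hχ2 r hr t _ hv0 _ 0 hc hbase u.val, Units.val_inv_eq_inv_val]
        by_cases h3 : u = v
        · simp only [if_pos h3]
          rw [h3]
          field_simp
        · simp only [if_neg h3]
          ring

end Cfsg.Agent.Lib.helper8
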