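import Mathlib
import Cfsg.Prelude.Def_LieTypes
import Cfsg.Prelude.Def_ChevB2
import Cfsg.Agent.Lib.helper8.ChevChar2

set_option autoImplicit false

namespace Cfsg.Agent.Lib.helper8

open Cfsg.Lie Cfsg.Lie.ChevalleyDatum

theorem h8consChk_G2 : h8consChk chevG2 = true := by decide +kernel
theorem h8consChk_B2 : h8consChk chevB2 = true := by decide +kernel
theorem h8consChk_D4 : h8consChk chevD4 = true := by decide +kernel
theorem h8consChk_F4 : h8consChk chevF4 = true := by decide +kernel
theorem h8consChk_E6 : h8consChk chevE6 = true := by decide +kernel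
theorem h8consChk_E7 : h8consChk chevE7 = true := by decide +kernel
theorem h8consChk_E8 : h8consChk chevE8 = true := by decide +kernel

theorem h8consChk_all (D : ChevalleyDatum)
    (hD : D ∈ [chevG2, chevB2, chevD4, chevF4, chevE6, chevE7, chevE8]) : h8consChk D = true := by
  simp only [List.mem_cons, List.not_mem_nil, or_false] at hD
  rcases hD with rfl | rfl | rfl | rfl | rfl | rfl | rfl
  · exact h8consChk_G2
  · exact h8consChk_B2
  · exact h8consChk_D4
  · exact h8consChk_F4
  · exact h8consChk_E6
  · exact h8consChk_E7
  · exact h8consChk_E8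

end Cfsg.Agent.Lib.helper8
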