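import Mathlib
import Cfsg.Prelude.Def_ChevAutomorphisms
import Cfsg.Agent.Lib.helper8.ChevLvlTab
import Cfsg.Agent.Lib.helper8.ChevLvl5
import Cfsg.Agent.Lib.helper8.ChevChar3
import Cfsg.Agent.Lib.helper8.ChevChar2
import Cfsg.Agent.Lib.helper8.ChevFix1
import Cfsg.Agent.Lib.helper8.ChevAU10

set_option autoImplicit false

namespace Cfsg.Agent.Lib.helper8

open Cfsg.Lie Cfsg.Lie.ChevalleyDatum

universe u

variable {F : Type u} [Field F]

/-! ### root characters with prescribed values on the fundamental roots -/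

def h8rcChk (D : ChevalleyDatum) (m : List (List ℤ)) : Bool :=
  (List.range D.rank).all fun k =>
    decide (0 < h8gk D (m.getD k []) (D.simple k)) &&
    ((List.range D.rank).all fun j =>
      decide (j = k) || decide (h8gk D (m.getD k []) (D.simple j) = 0)) &&
    ((List.range D.nroots).all fun r =>
      decide (h8gk D (m.getD k []) (D.simple k) ∣ h8gk D (m.getD k []) r))

theorem h8rc_all (D : ChevalleyDatum)
    (hD : D ∈ [chevG2, chevB2, chevD4, chevF4, chevE6, chevE7, chevE8]) :
    ∃ m : List (List ℤ), h8rcChk D m = true := by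
  simp only [List.mem_cons, List.mem_nil_iff, or_false] at hD
  rcases hD with rfl | rfl | rfl | rfl | rfl | rfl | rfl
  · exact ⟨h8lvlM_G2, by decide +kernel⟩
  · exact ⟨h8lvlM_B2, by decide +kernel⟩
  · exact ⟨h8lvlM_D4, by decide +kernel⟩
  · exact ⟨h8lvlM_F4, by decide +kernel⟩
  · exact ⟨h8lvlM_E6, by decide +kernel⟩
  · exact ⟨h8lvlM_E7, by decide +kernel⟩
  · exact ⟨h8lvlM_E8, by decide +kernel⟩

theorem h8rcChk_spec (D : ChevalleyDatum) (m : List (List ℤ)) (h : h8rcChk D m = true) (k : ℕ)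
    (hk : k < D.rank) :
    0 < h8gk D (m.getD k []) (D.simple k) ∧
    (∀ j < D.rank, j ≠ k → h8gk D (m.getD k []) (D.simple j) = 0) ∧
    (∀ r < D.nroots, h8gk D (m.getD k []) (D.simple k) ∣ h8gk D (m.getD k []) r) := by
  unfold h8rcChk at h
  simp only [List.all_eq_true, List.mem_range, Bool.and_eq_true, Bool.or_eq_true,
    decide_eq_true_eq] at h
  obtain ⟨⟨h1, h2⟩, h3⟩ := h k hk
  refine ⟨h1, ?_, h3⟩
  intro j hj hjk
  rcases h2 j hj with h | h
  · exact absurd h hjk
  · exact h

/-- the coefficient of the `k`-th fundamental root in the root `r` -/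
def h8rc (D : ChevalleyDatum) (m : List (List ℤ)) (k r : ℕ) : ℤ :=
  h8gk D (m.getD k []) r / h8gk D (m.getD k []) (D.simple k)

noncomputable def h8rchi (D : ChevalleyDatum) (m : List (List ℤ)) (c : Fin D.rank → Fˣ) (r : ℕ) : Fˣ :=
  ∏ k : Fin D.rank, c k ^ h8rc D m k r

theorem h8gk_chainRoot (D : ChevalleyDatum) (hCA : H8CA D) (mk : List ℤ) (a b v : ℕ)
    (ha : a < D.nroots)
    (hsorted : (((D.chain.getD a #[]).toList).map Prod.fst).Pairwise (· < ·))
    (h : D.chainRoot a b 1 = some v) : h8gk D mk v = h8gk D mk b + h8gk D mk a := by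
  unfold ChevalleyDatum.chainRoot at h
  cases hq : (D.chainEntry a b)[1 - 1]? with
  | none => rw [hq] at h; cases h
  | some q =>
    rw [hq] at h
    have hqv : q.1 = v := Option.some.inj h
    have hmem : ((1 - 1 + 1, q.2) : ℕ × ℤ) ∈ D.chainCoeff a b v := by
      rw [h8chainCoeff_eq D a b v hsorted, List.mem_map]
      refine ⟨(q, 1 - 1), ?_, rfl⟩
      rw [List.mem_filter]
      refine ⟨?_, by simpa using hqv⟩
      rw [List.mem_zipIdx_iff_getElem?]
      exact hq
    have := h8gk_add D hCA mk a ha b v _ hmem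
    rw [this]
    simp

theorem h8rchi_root (D : ChevalleyDatum) (hB : H8Base.{u} D) (hA : H8ReflAll D)
    (m : List (List ℤ)) (hm : h8rcChk D m = true) (c : Fin D.rank → Fˣ) :
    D.IsRootCharacter (h8rchi D m c) := by
  constructor
  · intro r hr
    unfold h8rchi
    rw [← Finset.prod_inv_distrib]
    apply Finset.prod_congr rfl
    intro k _
    rw [← zpow_neg]
    congr 1
    unfold h8rc ChevalleyDatum.neg
    rw [h8gk_neg D hB.ca _ r hr]
    obtain ⟨_, _, h3⟩ := h8rcChk_spec D m hm k k.2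
    exact Int.neg_ediv_of_dvd (h3 r hr)
  · intro r s v hr hs hv
    unfold h8rchi
    rw [← Finset.prod_mul_distrib]
    apply Finset.prod_congr rfl
    intro k _
    rw [← zpow_add]
    congr 1
    unfold h8rc
    rw [h8gk_chainRoot D hB.ca _ r s v hr (h8ceChk_sorted D hA.ce r hr) hv]
    obtain ⟨_, _, h3⟩ := h8rcChk_spec D m hm k k.2
    rw [add_comm]
    exact Int.add_ediv_of_dvd_left (h3 r hr)

theorem h8rchi_simple (D : ChevalleyDatum) (m : List (List ℤ)) (hm : h8rcChk D m = true)
    (c : Fin D.rank → Fˣ) (j : Fin D.rank) : h8rchi D m c (D.simple j) = c j := by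
  unfold h8rchi
  rw [Finset.prod_eq_single j]
  · unfold h8rc
    obtain ⟨h1, _, _⟩ := h8rcChk_spec D m hm j j.2
    rw [Int.ediv_self (ne_of_gt h1), zpow_one]
  · intro k _ hkj
    unfold h8rc
    obtain ⟨_, h2, _⟩ := h8rcChk_spec D m hm k k.2
    rw [h2 j j.2 (fun e => hkj (Fin.ext e.symm)), Int.zero_ediv, zpow_zero]
  · intro h
    exact absurd (Finset.mem_univ j) h

/-! ### the diagonal automorphism of a root character -/

section diag
variable (D : ChevalleyDatum) (hB : H8Base.{u} D) (hA : H8ReflAll D)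
  (hcons : h8consChk D = true) (χ : ℕ → Fˣ) (hχ : D.IsRootCharacter χ)

theorem h8charDiag_mul_inv : D.charDiag F χ * D.charDiag F (fun r => (χ r)⁻¹) = 1 := by
  unfold ChevalleyDatum.charDiag
  rw [Matrix.diagonal_mul_diagonal, ← Matrix.diagonal_one]
  congr 1
  funext i
  rcases i with i | s <;> simp

theorem h8charDiag_inv_mul : D.charDiag F (fun r => (χ r)⁻¹) * D.charDiag F χ = 1 := by
  unfold ChevalleyDatum.charDiag
  rw [Matrix.diagonal_mul_diagonal, ← Matrix.diagonal_one]
  congr 1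
  funext i
  rcases i with i | s <;> simp

/-- the diagonal matrix of a character as an element of `GL` -/
def h8chiU : GL D.Idx F :=
  ⟨D.charDiag F χ, D.charDiag F (fun r => (χ r)⁻¹), h8charDiag_mul_inv D χ, h8charDiag_inv_mul D χ⟩

include hχ in
theorem h8rchi_inv_root : D.IsRootCharacter (fun r => (χ r)⁻¹) := by
  obtain ⟨h1, h2⟩ := hχ
  constructor
  · intro r hr
    show (χ (D.neg r))⁻¹ = ((χ r)⁻¹)⁻¹
    rw [h1 r hr]
  · intro r s k hr hs hk
    show (χ k)⁻¹ = (χ r)⁻¹ * (χ s)⁻¹
    rw [h2 r s k hr hs hk, mul_inv]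

include hA hcons hχ in
theorem h8chiU_conj_x (r : ℕ) (hr : r < D.nroots) (t : F) :
    h8chiU D χ * h8xU D hB r t * (h8chiU D χ)⁻¹ = h8xU D hB r ((χ r : F) * t) := by
  apply Units.ext
  show D.charDiag F χ * D.x F r t * D.charDiag F (fun s => (χ s)⁻¹) = D.x F r ((χ r : F) * t)
  exact h8charDiag_conj D hcons (fun r hr => h8ceChk_sorted D hA.ce r hr) χ hχ r hr t

include hA hcons hχ in
theorem h8chiU_inv_conj_x (r : ℕ) (hr : r < D.nroots) (t : F) :
    (h8chiU D χ)⁻¹ * h8xU D hB r t * h8chiU D χ = h8xU D hB r (((χ r)⁻¹ : Fˣ) * t) := by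
  apply Units.ext
  show D.charDiag F (fun s => (χ s)⁻¹) * D.x F r t * D.charDiag F χ = _
  have := h8charDiag_conj D hcons (fun r hr => h8ceChk_sorted D hA.ce r hr) (fun s => (χ s)⁻¹)
    (h8rchi_inv_root D χ hχ) r hr t
  simp only [inv_inv] at this
  exact this

include hB hA hcons hχ in
theorem h8chiU_map_eq :
    (D.group F).map (MulAut.conj (h8chiU D χ)).toMonoidHom = D.group F := by
  apply le_antisymm
  · rw [Subgroup.map_le_iff_le_comap]
    conv_lhs => unfold ChevalleyDatum.group
    rw [Subgroup.closure_le]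
    rintro g ⟨r, t, hg⟩
    have hg' : g = h8xU D hB r.val t := by
      apply Units.ext
      rw [hg, h8xU_val]
      unfold ChevalleyDatum.x
      rw [dif_pos r.2]
    show h8chiU D χ * g * (h8chiU D χ)⁻¹ ∈ D.group F
    rw [hg', h8chiU_conj_x D hB hA hcons χ hχ r.val r.2 t]
    exact h8xU_mem_group D hB _ _
  · conv_lhs => unfold ChevalleyDatum.group
    rw [Subgroup.closure_le]
    rintro g ⟨r, t, hg⟩
    have hg' : g = h8xU D hB r.val t := by
      apply Units.ext
      rw [hg, h8xU_val]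
      unfold ChevalleyDatum.x
      rw [dif_pos r.2]
    refine ⟨h8xU D hB r.val (((χ r.val)⁻¹ : Fˣ) * t), h8xU_mem_group D hB _ _, ?_⟩
    show h8chiU D χ * h8xU D hB r.val (((χ r.val)⁻¹ : Fˣ) * t) * (h8chiU D χ)⁻¹ = g
    rw [h8chiU_conj_x D hB hA hcons χ hχ r.val r.2, hg', ← mul_assoc]
    congr 1
    simp

/-- the diagonal automorphism attached to a character -/
def h8diagAut (hmap : (D.group F).map (MulAut.conj (h8chiU D χ)).toMonoidHom = D.group F) :
    ↥(D.group F) ≃* ↥(D.group F) :=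
  ((MulAut.conj (h8chiU D χ)).subgroupMap (D.group F)).trans (MulEquiv.subgroupCongr hmap)

theorem h8diagAut_val (hmap : (D.group F).map (MulAut.conj (h8chiU D χ)).toMonoidHom = D.group F)
    (g : ↥(D.group F)) :
    ((h8diagAut D χ hmap g : ↥(D.group F)) : GL D.Idx F) =
      h8chiU D χ * (g : GL D.Idx F) * (h8chiU D χ)⁻¹ := rfl

include hχ in
theorem h8diagAut_isDiag (hmap : (D.group F).map (MulAut.conj (h8chiU D χ)).toMonoidHom = D.group F) :
    D.IsDiagonalAut (h8diagAut D χ hmap) := by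
  refine ⟨χ, hχ, fun g => ?_⟩
  rw [h8diagAut_val]
  rfl

end diag

/-! ### field automorphisms -/

section field
variable (D : ChevalleyDatum) (hB : H8Base.{u} D) (σ : F ≃+* F)

/-- the field automorphism of the Chevalley group attached to `σ` -/
noncomputable def h8fieldAut : ↥(D.group F) ≃* ↥(D.group F) :=
  MonoidHom.toMulEquiv
    (((h8Psi D (σ : F →+* F)).comp (D.group F).subtype).codRestrict (D.group F)
      (fun g => h8Psi_group_le D hB hB (σ : F →+* F) ⟨g.val, g.2, rfl⟩))
    (((h8Psi D (σ.symm : F →+* F)).comp (D.group F).subtype).codRestrict (D.group F)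
      (fun g => h8Psi_group_le D hB hB (σ.symm : F →+* F) ⟨g.val, g.2, rfl⟩))
    (by
      apply MonoidHom.ext
      intro g
      apply Subtype.ext
      apply Units.ext
      show ((g.val : Matrix D.Idx D.Idx F).map (σ : F →+* F)).map (σ.symm : F →+* F) = _
      ext i j
      simp)
    (by
      apply MonoidHom.ext
      intro g
      apply Subtype.ext
      apply Units.ext
      show ((g.val : Matrix D.Idx D.Idx F).map (σ.symm : F →+* F)).map (σ : F →+* F) = _
      ext i j
      simp)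

theorem h8fieldAut_val (g : ↥(D.group F)) :
    ((h8fieldAut D hB σ g : ↥(D.group F)) : GL D.Idx F) = h8Psi D (σ : F →+* F) g.val := rfl

theorem h8fieldAut_xG (r : ℕ) (t : F) :
    h8fieldAut D hB σ (h8xG D hB r t) = h8xG D hB r (σ t) := by
  apply Subtype.ext
  rw [h8fieldAut_val]
  exact h8Psi_xU D hB hB (σ : F →+* F) r t

theorem h8fieldAut_isField : D.IsFieldAut (h8fieldAut D hB σ) := by
  refine ⟨σ, fun g r t _ hg => ?_⟩
  rw [h8fieldAut_val, h8Psi_val, hg]
  exact h8x_map D (σ : F →+* F) r t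

end field

end Cfsg.Agent.Lib.helper8
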