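import Mathlib
import Cfsg.Prelude.Def_ChevAutomorphisms
import Cfsg.Agent.Lib.helper8.ChevAU8
import Cfsg.Agent.Lib.helper8.ChevAU13
import Cfsg.Agent.Lib.helper8.ChevAU14
import Cfsg.Agent.Lib.helper8.ChevAU15

set_option autoImplicit false

namespace Cfsg.Agent.Lib.helper8

open Cfsg.Lie Cfsg.Lie.ChevalleyDatum

universe u

variable {F : Type u} [Field F]

theorem h8diagAut_xG (D : ChevalleyDatum) (hB : H8Base.{u} D) (hA : H8ReflAll D)
    (hcons : h8consChk D = true) (χ : ℕ → Fˣ) (hχ : D.IsRootCharacter χ)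
    (hmap : (D.group F).map (MulAut.conj (h8chiU D χ)).toMonoidHom = D.group F)
    (r : ℕ) (hr : r < D.nroots) (t : F) :
    h8diagAut D χ hmap (h8xG D hB r t) = h8xG D hB r ((χ r : F) * t) := by
  apply Subtype.ext
  rw [h8diagAut_val, h8xG_val, h8xG_val]
  exact h8chiU_conj_x D hB hA hcons χ hχ r hr t

theorem h8fieldAut_symm_xG (D : ChevalleyDatum) (hB : H8Base.{u} D) (σ : F ≃+* F) (r : ℕ) (t : F) :
    (h8fieldAut D hB σ).symm (h8xG D hB r t) = h8xG D hB r (σ.symm t) := by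
  rw [MulEquiv.symm_apply_eq, h8fieldAut_xG, RingEquiv.apply_symm_apply]

theorem h8xG_of_val (D : ChevalleyDatum) (hB : H8Base.{u} D) (g : ↥(D.group F)) (r : ℕ) (t : F)
    (hg : ((g : GL D.Idx F) : Matrix D.Idx D.Idx F) = D.x F r t) : g = h8xG D hB r t := by
  apply Subtype.ext
  rw [h8xG_val]
  exact h8au_gen_eq D hB _ r t hg

/-- **Steinberg's theorem** on the automorphisms of the Chevalley groups over finite fields -/
theorem h8au_final [Finite F] (D : ChevalleyDatum)
    (hD : D ∈ [chevG2, chevB2, chevD4, chevF4, chevE6, chevE7, chevE8])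
    (θ : ↥(D.group F) ≃* ↥(D.group F)) :
    ∃ (x : ↥(D.group F)) (d g f : ↥(D.group F) ≃* ↥(D.group F)),
      D.IsDiagonalAut d ∧ D.IsGraphAut g ∧ D.IsFieldAut f ∧
        ∀ y : ↥(D.group F), θ y = x * d (g (f y)) * x⁻¹ := by
  classical
  have hA := h8reflAll D hD
  have hBN := h8bn_all D hD
  have hW := h8bn2_all D hD
  have hcons := h8consChk_all D hD
  obtain ⟨x, ρ, f, g, h⟩ := h8au_partI D hD θ
  have hθ' : H8AuData D (h8base_all.{u} D hD) (θ.trans (MulAut.conj x)) ρ f g :=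
    ⟨fun i t => (h i t).1, fun i t => (h i t).2⟩
  obtain ⟨σs, hf, hg, hf1, hrel⟩ := h8au_sigma D hD (θ.trans (MulAut.conj x)) ρ f g hθ'
  have hρ := h8au_rho_sym D hD (θ.trans (MulAut.conj x)) ρ f g hθ'
  obtain ⟨σ, hσ⟩ := h8au_sigma_uniform D hD ρ hρ σs hrel
  obtain ⟨m, hm⟩ := h8rc_all D hD
  have hχ : D.IsRootCharacter (h8rchi D m (fun j => Units.mk0 (f (ρ.symm j) 1) (hf1 _))) :=
    h8rchi_root D (h8base_all.{u} D hD) hA m hm _
  have hχs : ∀ i, ((h8rchi D m (fun j => Units.mk0 (f (ρ.symm j) 1) (hf1 _))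
      (D.simple (ρ i)) : Fˣ) : F) = f i 1 := by
    intro i
    rw [h8rchi_simple D m hm _ (ρ i)]
    simp
  have hχn : ∀ i, ((h8rchi D m (fun j => Units.mk0 (f (ρ.symm j) 1) (hf1 _))
      (D.negIdx.getD (D.simple (ρ i)) 0) : Fˣ) : F) = (f i 1)⁻¹ := by
    intro i
    have h1 := hχ.1 (D.simple (ρ i)) (h8simple_pos D hBN (ρ i) (ρ i).2).1
    unfold ChevalleyDatum.neg at h1
    rw [h1, Units.val_inv_eq_inv_val, hχs]
  have hmap := h8chiU_map_eq D (h8base_all.{u} D hD) hA hcons _ hχ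
  refine ⟨x⁻¹, h8diagAut D _ hmap,
    ((h8fieldAut D (h8base_all.{u} D hD) σ).symm.trans (θ.trans (MulAut.conj x))).trans
      (h8diagAut D _ hmap).symm,
    h8fieldAut D (h8base_all.{u} D hD) σ, h8diagAut_isDiag D _ hχ hmap, ?_,
    h8fieldAut_isField D (h8base_all.{u} D hD) σ, ?_⟩
  · refine ⟨ρ, hρ, fun g₀ i t => ⟨fun hg₀ => ?_, fun hg₀ => ?_⟩⟩
    · have e := h8xG_of_val D (h8base_all.{u} D hD) g₀ _ t hg₀
      have key : (((h8fieldAut D (h8base_all.{u} D hD) σ).symm.trans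
          (θ.trans (MulAut.conj x))).trans (h8diagAut D _ hmap).symm) g₀ =
          h8xG D (h8base_all.{u} D hD) (D.simple (ρ i))
            (t ^ D.graphExp (ringChar F) i (ρ i)) := by
        rw [e]
        simp only [MulEquiv.trans_apply]
        rw [h8fieldAut_symm_xG]
        have h1 := (h i (σ.symm t)).1
        simp only [MulEquiv.trans_apply] at h1
        rw [h1, MulEquiv.symm_apply_eq,
          h8diagAut_xG D (h8base_all.{u} D hD) hA hcons _ hχ hmap _
            (h8simple_pos D hBN (ρ i) (ρ i).2).1, hχs, hf, hσ, RingEquiv.apply_symm_apply]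
      rw [key, h8xG_val, h8xU_val]
    · have e := h8xG_of_val D (h8base_all.{u} D hD) g₀ _ t hg₀
      have key : (((h8fieldAut D (h8base_all.{u} D hD) σ).symm.trans
          (θ.trans (MulAut.conj x))).trans (h8diagAut D _ hmap).symm) g₀ =
          h8xG D (h8base_all.{u} D hD) (D.neg (D.simple (ρ i)))
            (t ^ D.graphExp (ringChar F) i (ρ i)) := by
        rw [e]
        simp only [MulEquiv.trans_apply]
        rw [h8fieldAut_symm_xG]
        have h1 := (h i (σ.symm t)).2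
        simp only [MulEquiv.trans_apply] at h1
        unfold ChevalleyDatum.neg
        rw [h1, MulEquiv.symm_apply_eq,
          h8diagAut_xG D (h8base_all.{u} D hD) hA hcons _ hχ hmap _
            (hW.neglt _ (h8simple_pos D hBN (ρ i) (ρ i).2).1), hχn, hg, hσ,
          RingEquiv.apply_symm_apply]
      rw [key, h8xG_val, h8xU_val]
  · intro y
    simp only [MulEquiv.trans_apply, MulEquiv.apply_symm_apply, MulEquiv.symm_apply_apply,
      MulAut.conj_apply]
    group

end Cfsg.Agent.Lib.helper8
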