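import Mathlib
import Cfsg.Prelude.Def_ChevStructure
import Cfsg.Prelude.Def_ChevD4
import Cfsg.Prelude.Def_ChevG2
import Cfsg.Agent.Lib.helper8.ChevGrP3

set_option autoImplicit false

namespace Cfsg.Agent.Lib.helper8

open Cfsg.Lie Cfsg.Lie.ChevalleyDatum

/-- the inclusion of the Lie algebra of type `G₂` in that of type `D₄` as the fixed points of
the triality automorphism -/
def h8QD4 : List (List (List ℤ)) := [
  [[1], [], [], [], [], [], [], [], [], [], [], [], [], []],
  [[], [1], [], [], [], [], [], [], [], [], [], [], [], []],
  [[1], [], [], [], [], [], [], [], [], [], [], [], [], []],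
  [[1], [], [], [], [], [], [], [], [], [], [], [], [], []],
  [[], [], [-1], [], [], [], [], [], [], [], [], [], [], []],
  [[], [], [], [-1], [], [], [], [], [], [], [], [], [], []],
  [[], [], [], [], [-1], [], [], [], [], [], [], [], [], []],
  [[], [], [], [], [-1], [], [], [], [], [], [], [], [], []],
  [[], [], [], [], [], [1], [], [], [], [], [], [], [], []],
  [[], [], [], [], [], [], [1], [], [], [], [], [], [], []],
  [[], [], [], [], [1], [], [], [], [], [], [], [], [], []],
  [[], [], [], [], [], [-1], [], [], [], [], [], [], [], []],
  [[], [], [], [], [], [-1], [], [], [], [], [], [], [], []],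
  [[], [], [], [], [], [], [], [1], [], [], [], [], [], []],
  [[], [], [], [], [], [], [1], [], [], [], [], [], [], []],
  [[], [], [], [], [], [], [1], [], [], [], [], [], [], []],
  [[], [], [], [], [], [], [], [], [], [1], [], [], [], []],
  [[], [], [], [], [], [], [], [], [], [1], [], [], [], []],
  [[], [], [], [], [], [], [], [], [1], [], [], [], [], []],
  [[], [], [], [], [], [], [], [], [], [], [-1], [], [], []],
  [[], [], [], [], [], [], [], [], [], [], [-1], [], [], []],
  [[], [], [], [], [], [], [], [], [], [], [], [1], [], []],
  [[], [], [], [], [], [], [], [], [], [1], [], [], [], []],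
  [[], [], [], [], [], [], [], [], [], [], [1], [], [], []],
  [[], [], [], [], [], [], [], [], [], [], [], [-1], [], []],
  [[], [], [], [], [], [], [], [], [], [], [], [-1], [], []],
  [[], [], [], [], [], [], [], [], [], [], [], [], [-1], []],
  [[], [], [], [], [], [], [], [], [], [], [], [], [], [-1]]]

/-- a left inverse of the inclusion -/
def h8PD4 : List (List (List ℤ)) := [
  [[1], [], [], [], [], [], [], [], [], [], [], [], [], [], [], [], [], [], [], [], [], [], [], [], [], [], [], []],
  [[], [1], [], [], [], [], [], [], [], [], [], [], [], [], [], [], [], [], [], [], [], [], [], [], [], [], [], []],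
  [[], [], [], [], [-1], [], [], [], [], [], [], [], [], [], [], [], [], [], [], [], [], [], [], [], [], [], [], []],
  [[], [], [], [], [], [-1], [], [], [], [], [], [], [], [], [], [], [], [], [], [], [], [], [], [], [], [], [], []],
  [[], [], [], [], [], [], [-1], [], [], [], [], [], [], [], [], [], [], [], [], [], [], [], [], [], [], [], [], []],
  [[], [], [], [], [], [], [], [], [1], [], [], [], [], [], [], [], [], [], [], [], [], [], [], [], [], [], [], []],
  [[], [], [], [], [], [], [], [], [], [1], [], [], [], [], [], [], [], [], [], [], [], [], [], [], [], [], [], []],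
  [[], [], [], [], [], [], [], [], [], [], [], [], [], [1], [], [], [], [], [], [], [], [], [], [], [], [], [], []],
  [[], [], [], [], [], [], [], [], [], [], [], [], [], [], [], [], [], [], [1], [], [], [], [], [], [], [], [], []],
  [[], [], [], [], [], [], [], [], [], [], [], [], [], [], [], [], [1], [], [], [], [], [], [], [], [], [], [], []],
  [[], [], [], [], [], [], [], [], [], [], [], [], [], [], [], [], [], [], [], [-1], [], [], [], [], [], [], [], []],
  [[], [], [], [], [], [], [], [], [], [], [], [], [], [], [], [], [], [], [], [], [], [1], [], [], [], [], [], []],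
  [[], [], [], [], [], [], [], [], [], [], [], [], [], [], [], [], [], [], [], [], [], [], [], [], [], [], [-1], []],
  [[], [], [], [], [], [], [], [], [], [], [], [], [], [], [], [], [], [], [], [], [], [], [], [], [], [], [], [-1]]]

/-- the identity matrix of size 14 -/
def h8I14 : List (List (List ℤ)) := [
  [[1], [], [], [], [], [], [], [], [], [], [], [], [], []],
  [[], [1], [], [], [], [], [], [], [], [], [], [], [], []],
  [[], [], [1], [], [], [], [], [], [], [], [], [], [], []],
  [[], [], [], [1], [], [], [], [], [], [], [], [], [], []],
  [[], [], [], [], [1], [], [], [], [], [], [], [], [], []],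
  [[], [], [], [], [], [1], [], [], [], [], [], [], [], []],
  [[], [], [], [], [], [], [1], [], [], [], [], [], [], []],
  [[], [], [], [], [], [], [], [1], [], [], [], [], [], []],
  [[], [], [], [], [], [], [], [], [1], [], [], [], [], []],
  [[], [], [], [], [], [], [], [], [], [1], [], [], [], []],
  [[], [], [], [], [], [], [], [], [], [], [1], [], [], []],
  [[], [], [], [], [], [], [], [], [], [], [], [1], [], []],
  [[], [], [], [], [], [], [], [], [], [], [], [], [1], []],
  [[], [], [], [], [], [], [], [], [], [], [], [], [], [1]]]

theorem h8QD4_const : h8pmConstB h8QD4 = true := by decide +kernel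

theorem h8PD4_const : h8pmConstB h8PD4 = true := by decide +kernel

theorem h8QD4_length : h8QD4.length = 28 := by decide +kernel

theorem h8PD4_length : h8PD4.length = 14 := by decide +kernel

theorem h8PQD4 : h8pmEqB 14 14 (h8pmMul h8PD4 h8QD4) h8I14 = true := by decide +kernel

/-- the generators: the roots of `D₄` of an orbit and the corresponding root of `G₂` -/
def h8grD4_gens : List (List ℕ × ℕ) := [([18, 13, 12], 7), ([14], 6), ([5, 10, 11], 4), ([9], 5)]

theorem h8grD4_chk : ∀ p ∈ h8grD4_gens,
    h8pmEqB (chevD4.rank + chevD4.nroots) (chevG2.rank + chevG2.nroots) (h8grL chevD4 p.1 h8QD4)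
      (h8pmMul h8QD4 (h8xP chevG2 p.2)) = true := by decide +kernel

end Cfsg.Agent.Lib.helper8
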