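import Mathlib
import Cfsg.Prelude.Def_ChevStructure
import Cfsg.Agent.Lib.helper8.ChevGrP3
import Cfsg.Agent.Lib.helper8.ChevGen

set_option autoImplicit false

namespace Cfsg.Agent.Lib.helper8

open Cfsg.Lie Cfsg.Lie.ChevalleyDatum

universe u

variable {F : Type u} [Field F]

/-- comparison of a square matrix of list polynomials with the identity -/
def h8pmIdB (n : ℕ) (M : List (List (List ℤ))) : Bool :=
  (List.range n).all fun i => (List.range n).all fun j =>
    h8pZero (h8pAdd (h8pmE M i j) (h8pSmul (-1) (if i = j then [1] else [])))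

theorem h8pmIdB_spec (n : ℕ) (M : List (List (List ℤ))) (h : h8pmIdB n M = true) (t : F)
    (i j : ℕ) (hi : i < n) (hj : j < n) :
    h8pEval t (h8pmE M i j) = if i = j then 1 else 0 := by
  unfold h8pmIdB at h
  rw [List.all_eq_true] at h
  have h1 := h i (List.mem_range.2 hi)
  rw [List.all_eq_true] at h1
  rw [h8pEval_eq_of_sub t _ _ (h8pEval_zero t _ (h1 j (List.mem_range.2 hj)))]
  split_ifs <;> simp [h8pEval]

theorem h8enc_inj (a b : ℕ) (x y : Fin a ⊕ Fin b) (h : h8enc a b x = h8enc a b y) : x = y := by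
  rcases x with i | s <;> rcases y with i' | s'
  · simp only [h8enc, Sum.elim_inl] at h
    rw [Fin.ext h]
  · simp only [h8enc, Sum.elim_inl, Sum.elim_inr] at h
    have := i.2
    omega
  · simp only [h8enc, Sum.elim_inl, Sum.elim_inr] at h
    have := i'.2
    omega
  · simp only [h8enc, Sum.elim_inr] at h
    have : s.val = s'.val := by omega
    rw [Fin.ext this]

theorem h8pm_left_inv (D E : ChevalleyDatum) (Qp Pp : List (List (List ℤ)))
    (hQ : Qp.length ≤ D.rank + D.nroots)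
    (hPQ : h8pmIdB (E.rank + E.nroots) (h8pmMul Pp Qp) = true) (t : F) :
    h8pmMat (h8enc E.rank E.nroots) (h8enc D.rank D.nroots) Pp t *
      h8pmMat (h8enc D.rank D.nroots) (h8enc E.rank E.nroots) Qp t = 1 := by
  rw [← h8pmMat_mul _ _ _ (D.rank + D.nroots) (h8enc_sum _ _) _ _ hQ t]
  ext i j
  unfold h8pmMat
  rw [Matrix.of_apply, h8pmIdB_spec _ _ hPQ t _ _ (h8enc_lt _ _ _) (h8enc_lt _ _ _),
    Matrix.one_apply]
  by_cases h : i = j
  · subst h
    simp
  · have : h8enc E.rank E.nroots i ≠ h8enc E.rank E.nroots j :=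
      fun e => h (h8enc_inj _ _ _ _ e)
    simp [h, this]

/-- the homomorphism from a group generated by products of root elements of `D` onto the
Chevalley group of `E` obtained by restriction to the image of `Q` -/
theorem h8gr_hom (D E : ChevalleyDatum) (hBD : H8Base.{u} D) (hBE : H8Base.{u} E)
    (hAE : H8ReflAll E) (hBNE : H8BN E) (Qp Pp : List (List (List ℤ)))
    (hQc : h8pmConstB Qp = true)
    (hQ : Qp.length ≤ D.rank + D.nroots)
    (hPQ : h8pmIdB (E.rank + E.nroots) (h8pmMul Pp Qp) = true)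
    (gs : List (List ℕ × ℕ))
    (hgs : ∀ p ∈ gs, (∀ r ∈ p.1, r < D.nroots) ∧ p.2 < E.nroots ∧
      h8pmEqB (D.rank + D.nroots) (E.rank + E.nroots) (h8grL D p.1 Qp)
        (h8pmMul Qp (h8xP E p.2)) = true)
    (hsim : ∀ j < E.rank, (∃ p ∈ gs, p.2 = E.simple j) ∧
      (∃ p ∈ gs, p.2 = E.negIdx.getD (E.simple j) 0))
    (G1 : Subgroup (GL D.Idx F))
    (hG1 : G1 = Subgroup.closure {g : GL D.Idx F | ∃ p ∈ gs, ∃ t : F,
      g = h8wordU D hBD (p.1.map fun r => (r, t))}) :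
    ∃ ψ : ↥G1 →* ↥(E.group F), Function.Surjective ψ := by
  classical
  set Qm : Matrix D.Idx E.Idx F :=
    h8pmMat (h8enc D.rank D.nroots) (h8enc E.rank E.nroots) Qp 0 with hQm
  set Pm : Matrix E.Idx D.Idx F :=
    h8pmMat (h8enc E.rank E.nroots) (h8enc D.rank D.nroots) Pp 0 with hPm
  have hPQm : Pm * Qm = 1 := h8pm_left_inv D E Qp Pp hQ hPQ 0
  have hgen : ∀ p ∈ gs, ∀ t : F,
      ((h8wordU D hBD (p.1.map fun r => (r, t)) : GL D.Idx F) : Matrix D.Idx D.Idx F) * Qm =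
        Qm * ((h8xU E hBE p.2 t : GL E.Idx F) : Matrix E.Idx E.Idx F) := by
    intro p hp t
    obtain ⟨h1, h2, h3⟩ := hgs p hp
    have := h8gr_gen D E hBD hBE Qp hQ p.1 h1 p.2 h2 h3 t
    rw [h8pmMat_const _ _ Qp hQc t] at this
    exact this
  have hxE : ∀ r < E.nroots, ∀ t : F, h8xU E hBE r t ∈ E.group F := by
    intro r hr t
    unfold ChevalleyDatum.group
    apply Subgroup.subset_closure
    refine ⟨⟨r, hr⟩, t, ?_⟩
    rw [h8xU_val]
    unfold ChevalleyDatum.x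
    rw [dif_pos hr]
  have hle : G1 ≤ h8resSub Qm (E.group F) := by
    rw [hG1, Subgroup.closure_le]
    rintro g ⟨p, hp, t, rfl⟩
    exact ⟨h8xU E hBE p.2 t, hxE _ (hgs p hp).2.1 t, hgen p hp t⟩
  let ψ : ↥G1 →* ↥(E.group F) :=
    (h8resHom Qm Pm (E.group F) hPQm).comp (Subgroup.inclusion hle)
  refine ⟨ψ, ?_⟩
  have hψ : ∀ p ∈ gs, ∀ t : F, ∃ g : ↥G1, (ψ g).val = h8xU E hBE p.2 t := by
    intro p hp t
    have hm : h8wordU D hBD (p.1.map fun r => (r, t)) ∈ G1 := by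
      rw [hG1]
      exact Subgroup.subset_closure ⟨p, hp, t, rfl⟩
    refine ⟨⟨_, hm⟩, ?_⟩
    have := h8resHom_eq Qm Pm (E.group F) hPQm (Subgroup.inclusion hle ⟨_, hm⟩)
      ⟨h8xU E hBE p.2 t, hxE _ (hgs p hp).2.1 t⟩ (hgen p hp t)
    exact congrArg Subtype.val this
  have htop : E.group F ≤ (ψ.range).map (E.group F).subtype := by
    apply h8group_le_of_simple E hBE hAE hBNE
    · intro j hj t
      obtain ⟨⟨p, hp, e⟩, _⟩ := hsim j hj
      obtain ⟨g, hg⟩ := hψ p hp t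
      rw [e] at hg
      exact ⟨ψ g, ⟨g, rfl⟩, hg⟩
    · intro j hj t
      obtain ⟨_, ⟨p, hp, e⟩⟩ := hsim j hj
      obtain ⟨g, hg⟩ := hψ p hp t
      rw [e] at hg
      exact ⟨ψ g, ⟨g, rfl⟩, hg⟩
  intro y
  obtain ⟨z, ⟨g, rfl⟩, hz⟩ := htop y.2
  exact ⟨g, Subtype.ext hz⟩

end Cfsg.Agent.Lib.helper8
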