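import Mathlib
import Cfsg.Prelude.Def_ChevStructure
import Cfsg.Prelude.Def_LieTwisted
import Cfsg.Agent.Lib.helper8.ChevGrD4a
import Cfsg.Agent.Lib.helper8.ChevGrP4
import Cfsg.Agent.Lib.helper8.ChevBNAll
import Cfsg.Agent.Lib.helper8.ChevBaseAll
import Cfsg.Agent.Lib.helper8.ChevReflAll

set_option autoImplicit false

namespace Cfsg.Agent.Lib.helper8

open Cfsg.Lie Cfsg.Lie.ChevalleyDatum

universe u

variable {F : Type u} [Field F]

theorem h8grD4_data : (∀ p ∈ h8grD4_gens, (∀ r ∈ p.1, r < chevD4.nroots) ∧ p.2 < chevG2.nroots) ∧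
    (∀ j < chevG2.rank, (∃ p ∈ h8grD4_gens, p.2 = chevG2.simple j) ∧
      (∃ p ∈ h8grD4_gens, p.2 = chevG2.negIdx.getD (chevG2.simple j) 0)) := by decide +kernel

theorem h8grD4_PQ : h8pmIdB (chevG2.rank + chevG2.nroots) (h8pmMul h8PD4 h8QD4) = true := by
  decide +kernel

/-- the fixed points of the triality automorphism as a group generated by products of root
elements -/
theorem h8grD4_closure (hB : H8Base.{u} chevD4) :
    twistedD4 F 1 = Subgroup.closure {g : GL chevD4.Idx F | ∃ p ∈ h8grD4_gens, ∃ t : F,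
      g = h8wordU chevD4 hB (p.1.map fun r => (r, t))} := by
  unfold twistedD4 ChevalleyDatum.genSubgroup
  apply le_antisymm
  · rw [Subgroup.closure_le]
    rintro g ⟨w, hw, hg⟩
    have hg' : g = h8wordU chevD4 hB w := Units.ext (hg.trans (h8wordU_val chevD4 hB w).symm)
    subst hg'
    apply Subgroup.subset_closure
    rcases hw with ⟨t, _, r, hr, rfl⟩ | ⟨t, rs, hrs, rfl⟩
    · simp only [d4p2, d4m2, List.mem_cons, List.not_mem_nil, or_false] at hr
      rcases hr with rfl | rfl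
      · exact ⟨([14], 6), by simp [h8grD4_gens], t, rfl⟩
      · exact ⟨([9], 5), by simp [h8grD4_gens], t, rfl⟩
    · simp only [d4p1, d4p3, d4p4, d4m1, d4m3, d4m4, List.mem_cons, List.not_mem_nil,
        or_false] at hrs
      rcases hrs with rfl | rfl
      · exact ⟨([18, 13, 12], 7), by simp [h8grD4_gens], t, by simp⟩
      · exact ⟨([5, 10, 11], 4), by simp [h8grD4_gens], t, by simp⟩
  · rw [Subgroup.closure_le]
    rintro g ⟨p, hp, t, rfl⟩
    apply Subgroup.subset_closure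
    simp only [h8grD4_gens, List.mem_cons, List.not_mem_nil, or_false] at hp
    rcases hp with rfl | rfl | rfl | rfl
    · refine ⟨[(18, t), (13, t ^ 1), (12, t ^ (1 ^ 2))], Or.inr ⟨t, (d4p1, d4p3, d4p4), by simp, rfl⟩, ?_⟩
      rw [h8wordU_val]
      simp
    · refine ⟨[(14, t)], Or.inl ⟨t, pow_one t, d4p2, by simp, rfl⟩, ?_⟩
      rw [h8wordU_val]
      simp
    · refine ⟨[(5, t), (10, t ^ 1), (11, t ^ (1 ^ 2))], Or.inr ⟨t, (d4m1, d4m3, d4m4), by simp, rfl⟩, ?_⟩
      rw [h8wordU_val]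
      simp
    · refine ⟨[(9, t)], Or.inl ⟨t, pow_one t, d4m2, by simp, rfl⟩, ?_⟩
      rw [h8wordU_val]
      simp

/-- the restriction homomorphism onto the Chevalley group of type `G₂` -/
theorem h8grD4_hom : ∃ ψ : ↥(twistedD4 F 1) →* ↥(chevG2.group F), Function.Surjective ψ := by
  have hD : chevD4 ∈ [chevG2, chevB2, chevD4, chevF4, chevE6, chevE7, chevE8] := by simp
  have hE : chevG2 ∈ [chevG2, chevB2, chevD4, chevF4, chevE6, chevE7, chevE8] := by simp
  have hBD := h8base_all.{u} chevD4 hD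
  have hBE := h8base_all.{u} chevG2 hE
  exact h8gr_hom chevD4 chevG2 hBD hBE (h8reflAll chevG2 hE) (h8bn_all chevG2 hE) h8QD4 h8PD4
    h8QD4_const (le_of_eq h8QD4_length) h8grD4_PQ h8grD4_gens
    (fun p hp => ⟨(h8grD4_data.1 p hp).1, (h8grD4_data.1 p hp).2, h8grD4_chk p hp⟩)
    h8grD4_data.2 _ (h8grD4_closure hBD)

end Cfsg.Agent.Lib.helper8
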