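import Mathlib
import Cfsg.Prelude.Def_ChevStructure
import Cfsg.Agent.Lib.helper8.ChevTwU6

set_option autoImplicit false

namespace Cfsg.Agent.Lib.helper8

open Cfsg.Lie Cfsg.Lie.ChevalleyDatum

universe u

variable {K : Type u} [Field K]

theorem h8card_fix_refl : Nat.card {c : K // (RingEquiv.refl K) c = c} = Nat.card K :=
  Nat.card_congr (Equiv.subtypeUnivEquiv (fun _ => rfl))

section
variable (D : ChevalleyDatum) (posi : ℕ → ℕ)
  (σ τ π ϖ : ℕ → ℕ) (η : ℕ → ℤ) (hAut : H8Aut D σ τ π ϖ η)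

include hAut in
/-- the compatible coordinates of a block for the trivial field automorphism: triality -/
theorem h8Bt_card_refl3 (i : ℕ) (hchk : h8orbChk3 D.nroots σ η (h8Lb D posi i) = true) :
    Nat.card (H8Bt D posi τ η (RingEquiv.refl K) i) = Nat.card K := by
  generalize hL : h8Lb D posi i = L at hchk
  match L, hL, hchk with
  | [r], hL, hchk =>
    unfold h8orbChk3 at hchk
    obtain ⟨h1, h2, h3⟩ := of_decide_eq_true hchk
    rw [h8Bt_card1 D posi σ τ π ϖ η hAut (RingEquiv.refl K) i r hL h1 h2 h3, h8card_fix_refl]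
  | [a, b, c], hL, hchk =>
    unfold h8orbChk3 at hchk
    obtain ⟨ha, hb, hc, hab, hac, hbc, hη, hσ⟩ := of_decide_eq_true hchk
    have hmem : ∀ k, k ∈ h8Lb D posi i ↔ (k = a ∨ k = b ∨ k = c) := by
      intro k
      rw [hL]
      simp
    have hmem' : ∀ k, k ∈ h8Lb D posi i ↔ (k = a ∨ k = c ∨ k = b) := by
      intro k
      rw [hL]
      simp
      tauto
    rcases hσ with ⟨h1, h2, h3⟩ | ⟨h1, h2, h3⟩
    · exact h8Bt_card3 D posi σ τ π ϖ η hAut (RingEquiv.refl K) i a b c hmem ha hb hc hab hac hbc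
        h1 h2 h3 hη (fun _ => rfl)
    · exact h8Bt_card3 D posi σ τ π ϖ η hAut (RingEquiv.refl K) i a c b hmem' ha hc hb hac hab
        (Ne.symm hbc) h1 h2 h3 (by rw [mul_assoc, mul_comm (η c), ← mul_assoc]; exact hη)
        (fun _ => rfl)
  | [], _, hchk => simp [h8orbChk3] at hchk
  | [_, _], _, hchk => simp [h8orbChk3] at hchk
  | _ :: _ :: _ :: _ :: _, _, hchk => simp [h8orbChk3] at hchk

include hAut in
/-- the compatible coordinates of a block for the trivial field automorphism: involution -/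
theorem h8Bt_card_refl2 (i : ℕ) (hchk : h8orbChk2 D.nroots σ η (h8Lb D posi i) = true) :
    Nat.card (H8Bt D posi τ η (RingEquiv.refl K) i) = Nat.card K := by
  generalize hL : h8Lb D posi i = L at hchk
  match L, hL, hchk with
  | [r], hL, hchk =>
    unfold h8orbChk2 at hchk
    obtain ⟨h1, h2, h3⟩ := of_decide_eq_true hchk
    rw [h8Bt_card1 D posi σ τ π ϖ η hAut (RingEquiv.refl K) i r hL h1 h2 h3, h8card_fix_refl]
  | [r, r'], hL, hchk =>
    unfold h8orbChk2 at hchk
    obtain ⟨h1, h2, h3, h4, h5, h6⟩ := of_decide_eq_true hchk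
    exact h8Bt_card2 D posi σ τ π ϖ η hAut (RingEquiv.refl K) i r r' hL h1 h2 h3 h4 h5 h6
      (fun _ => rfl)
  | [], _, hchk => simp [h8orbChk2] at hchk
  | _ :: _ :: _ :: _, _, hchk => simp [h8orbChk2] at hchk

end

section
variable (D : ChevalleyDatum) (hB : H8Base.{u} D) (hC : H8CommAll.{u} D) (hBN : H8BN D)
  (hO2 : H8Ord2 D) (posi : ℕ → ℕ) (hK : H8Blk D posi) (hR : H8BlkRead D posi)
  (σ τ π ϖ : ℕ → ℕ) (η : ℕ → ℤ) (hAut : H8Aut D σ τ π ϖ η) (f : K ≃+* K)
  (hσp : ∀ r, D.IsPosRoot r → D.IsPosRoot (σ r) ∧ posi (σ r) = posi r)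

include hB hC hBN hO2 hK hR hσp in
/-- the number of fixed points of the twisting endomorphism in `U` when all blocks have the
same number of compatible coordinates -/
theorem h8FixUb_card_const (c M : ℕ) (hM : ∀ r, D.IsPosRoot r → posi r < M)
    (hcard : ∀ i < M, Nat.card (H8Bt D posi τ η f i) = c) :
    ∀ n i, i + n = M → Nat.card ↥(h8FixUb D posi σ τ π ϖ η hAut f i) = c ^ n := by
  intro n
  induction n with
  | zero =>
    intro i hi
    have hiM : i = M := by omega
    have : h8FixUb D posi σ τ π ϖ η hAut f i = ⊥ := by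
      unfold h8FixUb
      rw [hiM, h8Ub_top D posi M hM, bot_inf_eq]
    rw [this, Subgroup.card_bot]
    simp
  | succ n ih =>
    intro i hi
    rw [h8FixUb_card_step D hB hC hBN hO2 posi hK hR σ τ π ϖ η hAut f hσp i,
      ih (i + 1) (by omega), hcard i (by omega), pow_succ, mul_comm]

end

end Cfsg.Agent.Lib.helper8
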