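import Mathlib
import Cfsg.Prelude.Def_ChevStructure
import Cfsg.Prelude.Def_LieTwisted
import Cfsg.Agent.Lib.helper8.ChevTwD4O
import Cfsg.Agent.Lib.helper8.ChevTwQ6
import Cfsg.Agent.Lib.helper8.ChevGrT1

set_option autoImplicit false

namespace Cfsg.Agent.Lib.helper8

open Cfsg.Lie Cfsg.Lie.ChevalleyDatum

universe u

variable {K : Type u} [Field K]

/-- the coordinates of the roots of `D₄` with respect to the simple roots -/
def h8coefD4 : List (List ℤ) := [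
  [-1, -2, -1, -1],
  [-1, -1, -1, -1],
  [-1, -1, -1, 0],
  [-1, -1, 0, -1],
  [-1, -1, 0, 0],
  [-1, 0, 0, 0],
  [0, -1, -1, -1],
  [0, -1, -1, 0],
  [0, -1, 0, -1],
  [0, -1, 0, 0],
  [0, 0, -1, 0],
  [0, 0, 0, -1],
  [0, 0, 0, 1],
  [0, 0, 1, 0],
  [0, 1, 0, 0],
  [0, 1, 0, 1],
  [0, 1, 1, 0],
  [0, 1, 1, 1],
  [1, 0, 0, 0],
  [1, 1, 0, 0],
  [1, 1, 0, 1],
  [1, 1, 1, 0],
  [1, 1, 1, 1],
  [1, 2, 1, 1]]

theorem h8coefD4_ok : ∀ v < chevD4.nroots, ∀ i < chevD4.rank, chevD4.cartan i v =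
    ∑ j ∈ Finset.range chevD4.rank,
      (h8coefD4.getD v []).getD j 0 * chevD4.cartan i (chevD4.simple j) := by decide +kernel

theorem h8scD4 : h8scChk chevD4 = true := by decide +kernel

section
variable (hB : H8Base.{u} chevD4) (hA : H8ReflAll chevD4) (hW : H8BN2 chevD4)

include hA hW in
/-- an element of `H` with trivial characters on the simple roots is trivial -/
theorem h8D4_ext (z : GL chevD4.Idx K) (hz : z ∈ chevD4.diagonalSubgroup K)
    (h : ∀ r ∈ [18, 14, 13, 12], h8chi chevD4 hB z r = 1) : z = 1 := by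
  apply h8H_ext_simple chevD4 hB hA hW h8scD4 (fun v j => (h8coefD4.getD v []).getD j 0)
    h8coefD4_ok z hz
  intro j hj
  have hj' : j < 4 := hj
  interval_cases j
  · exact h 18 (by simp)
  · exact h 14 (by simp)
  · exact h 13 (by simp)
  · exact h 12 (by simp)

end

/-- `|H ∩ G¹| = (q - 1)²` for the fixed points `G¹` of the triality automorphism -/
theorem h8grD4_H_card [Fintype K] :
    Nat.card ↥(chevD4.diagonalSubgroup K ⊓ twistedD4 K 1) = (Fintype.card K - 1) ^ 2 := by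
  classical
  have hD : chevD4 ∈ [chevG2, chevB2, chevD4, chevF4, chevE6, chevE7, chevE8] := by simp
  have hB := h8base_all.{u} chevD4 hD
  have hA := h8reflAll chevD4 hD
  have hC := h8commAll.{u} chevD4 hD
  have hW := h8bn2_all chevD4 hD
  let f : K ≃+* K := RingEquiv.refl K
  have hf : ∀ t, f t = t ^ 1 := fun t => (pow_one t).symm
  have hfff : ∀ t, f (f (f t)) = t := fun _ => rfl
  have hfixG := h8twD4_fix hB hC hA 1 f hf hfff
  obtain ⟨s18, s13, s12, s14, n18, n13, n12, n14, k1, k2, k3, k4, k5, k6, k7, k8⟩ := h8hD4_data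
  have l18 : 18 < chevD4.nroots := by decide
  have l13 : 13 < chevD4.nroots := by decide
  have l12 : 12 < chevD4.nroots := by decide
  have l14 : 14 < chevD4.nroots := by decide
  rw [h8KF_eq chevD4 hA.ca _ _ l18] at k1 k2 k3 k4
  rw [h8KF_eq chevD4 hA.ca _ _ l14] at k5 k6 k7 k8
  -- generators
  have hx1 : ∀ r ∈ [14, 9], ∀ t : K, f t = t → h8xU chevD4 hB r t ∈ twistedD4 K 1 :=
    fun r hr t _ => h8twD4_x1 hB 1 r hr t (pow_one t)
  have hx3 : ∀ p ∈ [(18, 13, 12), (5, 10, 11)], ∀ t : K,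
      h8xU chevD4 hB p.1 t * h8xU chevD4 hB p.2.1 (f t) * h8xU chevD4 hB p.2.2 (f (f t)) ∈
        twistedD4 K 1 := by
    intro p hp t
    have := h8twD4_x3 hB 1 p.1 p.2.1 p.2.2 hp t
    rw [pow_one, one_pow, pow_one] at this
    exact this
  -- the torus elements
  have hh14 : ∀ a : K, f a = a → h8hU chevD4 hB 14 a ∈ twistedD4 K 1 := by
    apply h8tw_h1_mem chevD4 hB (twistedD4 K 1) f 14 (hx1 14 (by simp))
    rw [n14]
    exact hx1 9 (by simp)
  have hhJ : ∀ c : K, c ≠ 0 → h8hU chevD4 hB 18 c * h8hU chevD4 hB 13 (f c) *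
      h8hU chevD4 hB 12 (f (f c)) ∈ twistedD4 K 1 := by
    obtain ⟨h1, h2, h3, h4, h5, h6, h7⟩ := h8pD4_tor (18, 13, 12) (by simp)
    dsimp only at h1 h2 h3 h4 h5 h6 h7
    have hcm : ∀ x ∈ [(18, 13), (18, 12), (13, 12)],
        ∀ a ∈ [x.1, chevD4.negIdx.getD x.1 0], ∀ b ∈ [x.2, chevD4.negIdx.getD x.2 0],
        ∀ t u : K, Commute (h8xU chevD4 hB a t) (h8xU chevD4 hB b u) := by
      intro x hx a ha b hb t u
      obtain ⟨k1, k2, k3, k4, k5⟩ := h4 x hx a ha b hb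
      exact h8xU_commute chevD4 hB hC a b k2 k3 k4 k5 k1 t u
    have c12 := hcm (18, 13) (by simp)
    have c13 := hcm (18, 12) (by simp)
    have c23 := hcm (13, 12) (by simp)
    dsimp only at c12 c13 c23
    have hP := hx3 (18, 13, 12) (by simp)
    have hM := hx3 _ h7
    dsimp only at hP hM
    exact h8tw_hJ3_mem chevD4 hB (twistedD4 K 1) f 18 13 12 c12 c13 c23 hP hM
  -- the characters of the torus elements
  have hchi : ∀ (c a : K), c ≠ 0 → a ≠ 0 → ∀ r < chevD4.nroots,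
      h8chi chevD4 hB (h8hU chevD4 hB 18 c * h8hU chevD4 hB 13 (f c) *
        h8hU chevD4 hB 12 (f (f c)) * h8hU chevD4 hB 14 a) r =
      c ^ (h8K chevD4 18 r) * (f c) ^ (h8K chevD4 13 r) * (f (f c)) ^ (h8K chevD4 12 r) *
        a ^ (h8K chevD4 14 r) := by
    intro c a hc ha r hr
    have hfc0 : f c ≠ 0 := (map_ne_zero f).mpr hc
    have hffc0 : f (f c) ≠ 0 := (map_ne_zero f).mpr hfc0
    have m1 := h8hU_mem_H chevD4 hB 18 l18 c hc
    have m2 := h8hU_mem_H chevD4 hB 13 l13 (f c) hfc0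
    have m3 := h8hU_mem_H chevD4 hB 12 l12 (f (f c)) hffc0
    have m4 := h8hU_mem_H chevD4 hB 14 l14 a ha
    rw [h8chi_mul chevD4 hB hA hW _ _ (Subgroup.mul_mem _ (Subgroup.mul_mem _ m1 m2) m3) m4 r hr,
      h8chi_mul chevD4 hB hA hW _ _ (Subgroup.mul_mem _ m1 m2) m3 r hr,
      h8chi_mul chevD4 hB hA hW _ _ m1 m2 r hr,
      h8chi_hU chevD4 hB hA hW 18 l18 c hc r hr, h8chi_hU chevD4 hB hA hW 13 l13 _ hfc0 r hr,
      h8chi_hU chevD4 hB hA hW 12 l12 _ hffc0 r hr, h8chi_hU chevD4 hB hA hW 14 l14 a ha r hr]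
  -- equivariance of the characters
  have hsym : ∀ z ∈ chevD4.diagonalSubgroup K ⊓ twistedD4 K 1,
      h8chi chevD4 hB z 13 = h8chi chevD4 hB z 18 ∧ h8chi chevD4 hB z 12 = h8chi chevD4 hB z 18 := by
    intro z hz
    have hsig := h8chi_sig chevD4 hB hA hW h8sD4 h8tD4 h8pD4 h8qD4 h8eD4 (h8autD4 hA) f z hz.1
      (hfixG z hz.2)
    have e1 := hsig 18 l18
    rw [s18] at e1
    have e2 := hsig 13 l13
    rw [s13] at e2
    exact ⟨e1, e2.trans e1⟩
  rw [← h8card_ne_zero, sq, ← Nat.card_prod]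
  apply Nat.card_congr
  refine Equiv.ofBijective (fun k : ↥(chevD4.diagonalSubgroup K ⊓ twistedD4 K 1) =>
      ((⟨h8chi chevD4 hB k.val 18, (h8chi_spec chevD4 hB k.val k.2.1 18 l18).1⟩ :
        {x : K // x ≠ 0}),
      (⟨h8chi chevD4 hB k.val 14, (h8chi_spec chevD4 hB k.val k.2.1 14 l14).1⟩ :
        {x : K // x ≠ 0}))) ⟨?_, ?_⟩
  · intro k k' hkk
    simp only [Prod.mk.injEq, Subtype.mk.injEq] at hkk
    obtain ⟨e18, e14⟩ := hkk
    have hzH : k.val⁻¹ * k'.val ∈ chevD4.diagonalSubgroup K :=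
      Subgroup.mul_mem _ (Subgroup.inv_mem _ k.2.1) k'.2.1
    have hzG : k.val⁻¹ * k'.val ∈ twistedD4 K 1 :=
      Subgroup.mul_mem _ (Subgroup.inv_mem _ k.2.2) k'.2.2
    have hval : ∀ r < chevD4.nroots, h8chi chevD4 hB k.val r = h8chi chevD4 hB k'.val r →
        h8chi chevD4 hB (k.val⁻¹ * k'.val) r = 1 := by
      intro r hr e
      rw [h8chi_mul chevD4 hB hA hW _ _ (Subgroup.inv_mem _ k.2.1) k'.2.1 r hr,
        h8chi_inv chevD4 hB hA hW _ k.2.1 r hr, e,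
        inv_mul_cancel₀ (h8chi_spec chevD4 hB k'.val k'.2.1 r hr).1]
    have hz : k.val⁻¹ * k'.val = 1 := by
      apply h8D4_ext hB hA hW _ hzH
      intro r hr
      simp only [List.mem_cons, List.not_mem_nil, or_false] at hr
      obtain ⟨a1, a2⟩ := hsym _ ⟨hzH, hzG⟩
      have b18 := hval 18 l18 e18
      rcases hr with rfl | rfl | rfl | rfl
      · exact b18
      · exact hval 14 l14 e14
      · rw [a1, b18]
      · rw [a2, b18]
    exact Subtype.ext (inv_mul_eq_one.mp hz)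
  · rintro ⟨⟨b, hb⟩, ⟨a, ha⟩⟩
    have hs0 : a * b ^ 2 ≠ 0 := mul_ne_zero ha (pow_ne_zero _ hb)
    have ht0 : a ^ 2 * b ^ 3 ≠ 0 := mul_ne_zero (pow_ne_zero _ ha) (pow_ne_zero _ hb)
    refine ⟨⟨h8hU chevD4 hB 18 (a * b ^ 2) * h8hU chevD4 hB 13 (f (a * b ^ 2)) *
        h8hU chevD4 hB 12 (f (f (a * b ^ 2))) * h8hU chevD4 hB 14 (a ^ 2 * b ^ 3),
      Subgroup.mul_mem _ (Subgroup.mul_mem _ (Subgroup.mul_mem _
        (h8hU_mem_H chevD4 hB 18 l18 _ hs0) (h8hU_mem_H chevD4 hB 13 l13 _ hs0))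
        (h8hU_mem_H chevD4 hB 12 l12 _ hs0)) (h8hU_mem_H chevD4 hB 14 l14 _ ht0),
      Subgroup.mul_mem _ (hhJ _ hs0) (hh14 _ rfl)⟩, ?_⟩
    simp only [Prod.mk.injEq, Subtype.mk.injEq]
    rw [hchi _ _ hs0 ht0 18 l18, hchi _ _ hs0 ht0 14 l14, k1, k2, k3, k4, k5, k6, k7, k8]
    have hfa : f (a * b ^ 2) = a * b ^ 2 := rfl
    simp only [hfa, zpow_zero, mul_one, zpow_neg, zpow_one]
    constructor
    · rw [zpow_ofNat]
      field_simp
    · rw [zpow_ofNat]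
      field_simp

end Cfsg.Agent.Lib.helper8
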