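import Mathlib
import Cfsg.Prelude.Def_ChevStructure
import Cfsg.Prelude.Def_LieTwisted
import Cfsg.Prelude.Def_LieExceptional
import Cfsg.Agent.Lib.helper8.ChevGrD4c

set_option autoImplicit false

namespace Cfsg.Agent.Lib.helper8

open Cfsg.Lie Cfsg.Lie.ChevalleyDatum H3

universe u

variable {K : Type u} [Field K]

/-- the lengths of the twelve elements in the Weyl group of `G₂` -/
def h8odLen1 (k : ℕ) : ℕ := ([0, 1, 1, 2, 2, 3, 3, 4, 4, 5, 5, 6] : List ℕ).getD k 0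

theorem h8od_F1' : ∀ k < 12, 1 ≤ k → h8odLen1 k = 1 + h8odLen1 (h8odPar k) := by decide +kernel

/-- `|U ∩ G¹| = q⁶` for the fixed points `G¹` of the triality automorphism -/
theorem h8grD4_U_card [Fintype K] :
    Nat.card ↥(chevD4.posUnipotent K ⊓ twistedD4 K 1) = Fintype.card K ^ 6 := by
  have hD : chevD4 ∈ [chevG2, chevB2, chevD4, chevF4, chevE6, chevE7, chevE8] := by simp
  have hB := h8base_all.{u} chevD4 hD
  have hA := h8reflAll chevD4 hD
  have hC := h8commAll.{u} chevD4 hD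
  have hBN := h8bn_all chevD4 hD
  obtain ⟨hO, hO2⟩ := h8ord_all chevD4 hD
  let f : K ≃+* K := RingEquiv.refl K
  have hf : ∀ t, f t = t ^ 1 := fun t => (pow_one t).symm
  have hfff : ∀ t, f (f (f t)) = t := fun _ => rfl
  have hneg : (-1 : K) ^ 1 = -1 := pow_one _
  have hσp : ∀ r, chevD4.IsPosRoot r →
      chevD4.IsPosRoot (h8sD4 r) ∧ h8posiD4 (h8sD4 r) = h8posiD4 r :=
    fun r hr => ⟨(h8uD4_sig1 r hr.1 hr).1, (h8uD4_sig1 r hr.1 hr).2.1⟩
  have hM : ∀ r, chevD4.IsPosRoot r → h8posiD4 r < 6 := fun r hr => (h8uD4_sig1 r hr.1 hr).2.2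
  have hfixG := h8twD4_fix hB hC hA 1 f hf hfff
  have hcard : ∀ i < 6, Nat.card (H8Bt chevD4 h8posiD4 h8tD4 h8eD4 f i) = Nat.card K :=
    fun i hi => h8Bt_card_refl3 chevD4 h8posiD4 h8sD4 h8tD4 h8pD4 h8qD4 h8eD4 (h8autD4 hA) i
      (h8uD4_chk i hi)
  have hsub : chevD4.posUnipotent K ⊓ twistedD4 K 1 =
      h8FixUb chevD4 h8posiD4 h8sD4 h8tD4 h8pD4 h8qD4 h8eD4 (h8autD4 hA) f 0 := by
    ext g
    rw [Subgroup.mem_inf, h8FixUb_mem, h8Ub_zero]
    constructor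
    · rintro ⟨h1, h2⟩
      exact ⟨h1, hfixG g h2⟩
    · rintro ⟨h1, h2⟩
      exact ⟨h1, h8twD4_U_fix hB hC hA hBN hO2 1 f hf hfff hneg g h1 h2⟩
  rw [hsub, h8FixUb_card_const chevD4 hB hC hBN hO2 h8posiD4 h8uD4_blk h8uD4_read h8sD4 h8tD4
    h8pD4 h8qD4 h8eD4 (h8autD4 hA) f hσp (Nat.card K) 6 hM hcard 6 0 rfl,
    Nat.card_eq_fintype_card]

/-- the order of the group of fixed points of the triality automorphism -/
theorem h8grD4_card [Fintype K] :
    Nat.card ↥(twistedD4 K 1) = Fintype.card K ^ 6 * (Fintype.card K ^ 2 - 1) *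
      (Fintype.card K ^ 6 - 1) := by
  classical
  have hD : chevD4 ∈ [chevG2, chevB2, chevD4, chevF4, chevE6, chevE7, chevE8] := by simp
  have hB := h8base_all.{u} chevD4 hD
  have hB0 := h8base_all.{0} chevD4 hD
  have hA := h8reflAll chevD4 hD
  have hC := h8commAll.{u} chevD4 hD
  have hBN := h8bn_all chevD4 hD
  have hW := h8bn2_all chevD4 hD
  obtain ⟨hO, hO2⟩ := h8ord_all chevD4 hD
  let f : K ≃+* K := RingEquiv.refl K
  have hf : ∀ t, f t = t ^ 1 := fun t => (pow_one t).symm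
  have hfff : ∀ t, f (f (f t)) = t := fun _ => rfl
  have hneg : (-1 : K) ^ 1 = -1 := pow_one _
  set Q := Fintype.card K with hQ
  have hQ1 : 1 ≤ Q := Fintype.card_pos
  have hσp : ∀ r, chevD4.IsPosRoot r →
      chevD4.IsPosRoot (h8sD4 r) ∧ h8posiD4 (h8sD4 r) = h8posiD4 r :=
    fun r hr => ⟨(h8uD4_sig1 r hr.1 hr).1, (h8uD4_sig1 r hr.1 hr).2.1⟩
  have hUfix := h8twD4_U_fix hB hC hA hBN hO2 1 f hf hfff hneg
  have hfixG := h8twD4_fix hB hC hA 1 f hf hfff
  have hnJ := h8twD4_nJ (K := K) hB hC 1 hneg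
  have hG1 : twistedD4 K 1 ≤ chevD4.group K := h8gen_le_group chevD4 hB _
  have hKQ : Nat.card K = Q := Nat.card_eq_fintype_card
  obtain ⟨P, hPB, hPN, hPS⟩ := h8tw_bnpair chevD4 hB hB0 hA hC hBN hW hO hO2 h8sD4 h8tD4 h8pD4
    h8qD4 h8eD4 (h8autD4 hA) f (h8mkRho chevD4 h8sD4 h8tD4 h8pD4 h8qD4 h8eD4 (h8autD4 hA))
    (fun r => rfl) h8piD4 h8orbsD4 (h8twD4 hA hBN) (fun r hr => (hσp r hr).1) (twistedD4 K 1)
    hG1 hfixG hUfix hnJ h8twD4_disj (by
      intro J hJ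
      have hk : ∃ k < 2, J = h8orbsD4.getD k [] := by
        simp only [h8orbsD4, List.mem_cons, List.not_mem_nil, or_false] at hJ
        rcases hJ with rfl | rfl
        · exact ⟨0, by norm_num, rfl⟩
        · exact ⟨1, by norm_num, rfl⟩
      obtain ⟨k, hk2, rfl⟩ := hk
      obtain ⟨hne, hdata⟩ := h8twD4_xdata k hk2
      exact h8tw_xJ chevD4 hB hC hBN hO2 h8posiD4 h8uD4_blk h8uD4_read h8sD4 h8tD4 h8pD4 h8qD4
        h8eD4 (h8autD4 hA) f hσp (twistedD4 K 1) hUfix _ (h8blkOfD4 k) hne hdata)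
  -- the orbit products and the twelve elements
  have hwJ : ∀ j, ∀ i ∈ h8wD4 j, i < chevD4.rank := by
    intro j i hi
    unfold h8wD4 at hi
    exact h8J_lt chevD4 _ i hi
  have hsJ1 : ∀ j, (h8nWU chevD4 hB (h8wD4 j) : GL chevD4.Idx K) ∈ twistedD4 K 1 := by
    intro j
    by_cases hj : j < 2
    · exact hnJ _ (h8uD4_wlt j hj).1
    · have : h8wD4 j = [] := by
        unfold h8wD4
        rw [List.getD_eq_default _ _ (by simp only [h8orbsD4, List.length_cons, List.length_nil]; omega)]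
        rfl
      rw [this]
      unfold h8nWU
      simp
  have hnk1 : ∀ k, (h8nWU chevD4 hB (h8odW k) : GL chevD4.Idx K) ∈ twistedD4 K 1 := by
    intro k
    induction k using Nat.strong_induction_on with
    | _ k ih =>
      by_cases hk : k < 12
      · by_cases hk1 : 1 ≤ k
        · obtain ⟨h1, _, h3, _, _⟩ := h8od_F1 k hk hk1
          rw [h3, h8nWU_append]
          exact Subgroup.mul_mem _ (hsJ1 _) (ih _ h1)
        · have : k = 0 := by omega
          subst this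
          have : h8odW 0 = [] := rfl
          rw [this]
          unfold h8nWU
          simp
      · have : h8odW k = [] := by
          unfold h8odW
          exact List.getD_eq_default _ _ (by simpa using hk)
        rw [this]
        unfold h8nWU
        simp
  let sJ : ℕ → ↥(twistedD4 K 1) := fun j => ⟨h8nWU chevD4 hB (h8wD4 j), hsJ1 j⟩
  let nn : ℕ → ↥(twistedD4 K 1) := fun k => ⟨h8nWU chevD4 hB (h8odW k), hnk1 k⟩
  have hS : ∀ j < 2, sJ j ∈ P.S := by
    intro j hj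
    rw [hPS]
    exact ⟨_, (h8uD4_wlt j hj).1, rfl⟩
  have hSall : ∀ s ∈ P.S, ∃ j < 2, s = sJ j := by
    intro s hs
    rw [hPS] at hs
    obtain ⟨J, hJ, e⟩ := hs
    simp only [h8orbsD4, List.mem_cons, List.not_mem_nil, or_false] at hJ
    rcases hJ with rfl | rfl
    · exact ⟨0, by norm_num, Subtype.ext e⟩
    · exact ⟨1, by norm_num, Subtype.ext e⟩
  have hN : ∀ k, nn k ∈ P.N := by
    intro k
    rw [hPN, Subgroup.mem_subgroupOf]
    exact ⟨h8nWU_mem_N chevD4 hB hA _ (h8od_F2 k), hnk1 k⟩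
  have hmemB : ∀ c : ↥(twistedD4 K 1), c ∈ P.B ↔ c.val ∈ chevD4.borelSubgroup K := by
    intro c
    rw [hPB, Subgroup.mem_subgroupOf]
    exact ⟨fun h => h.1, fun h => ⟨h, c.2⟩⟩
  have hstep : ∀ k < 12, 1 ≤ k → nn k = sJ (h8odFl k) * nn (h8odPar k) := by
    intro k hk hk1
    obtain ⟨_, _, h3, _, _⟩ := h8od_F1 k hk hk1
    apply Subtype.ext
    show h8nWU chevD4 hB (h8odW k) = h8nWU chevD4 hB (h8wD4 (h8odFl k)) *
      h8nWU chevD4 hB (h8odW (h8odPar k))
    rw [← h8nWU_append, ← h3]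
  have hPp : ∀ k < 12, 1 ≤ k → Pp P (sJ (h8odFl k)) (nn (h8odPar k)) := by
    intro k hk hk1
    obtain ⟨_, h2, _, h4, _⟩ := h8od_F1 k hk hk1
    apply h8tw_Pp chevD4 hB hA hC hBN (twistedD4 K 1) P hPB _ _ (hS _ h2) (hN _)
      (h8nWU_mem_N chevD4 hB hA _ (hwJ _)) (h8nWU_mem_N chevD4 hB hA _ (h8od_F2 _))
    intro b hb
    obtain ⟨b1, hb1, b2, hb2, e⟩ := h8bn_pos_word chevD4 hB hA hC hBN _ (h8od_F2 (h8odPar k))
      _ (hwJ (h8odFl k)) h4 b hb
    refine ⟨b1, hb1, b2, hb2, ?_⟩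
    show h8nWU chevD4 hB (h8wD4 (h8odFl k)) * b * h8nWU chevD4 hB (h8odW (h8odPar k)) =
      b1 * (h8nWU chevD4 hB (h8wD4 (h8odFl k)) * h8nWU chevD4 hB (h8odW (h8odPar k))) * b2
    rw [← h8nWU_append]
    exact e
  have hBpos : 0 < Nat.card ↥P.B := Nat.card_pos
  -- rank one
  have hrk1 : ∀ j < 2, Nat.card ↥(dc P (sJ j)) = Nat.card ↥P.B * Q := by
    intro j hj
    obtain ⟨h1, h2, h3, h4⟩ := h8od_F5 j hj
    rw [h8tw_dc_card chevD4 hB hA hC hBN hW hO hO2 h8posiD4 h8uD4_blk h8uD4_read h8sD4 h8tD4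
      h8pD4 h8qD4 h8eD4 (h8autD4 hA) f hσp (twistedD4 K 1) hG1 hfixG hUfix P hPB (h8wD4 j)
      (hwJ j) (hsJ1 j) (h8blkOfD4 j) h1 (fun r hr => h2 r hr.1 hr),
      h8Bt_card_refl3 chevD4 h8posiD4 h8sD4 h8tD4 h8pD4 h8qD4 h8eD4 (h8autD4 hA) _
        (h8uD4_chk _ h4), hKQ]
  -- the sizes of the twelve double cosets
  have hsize : ∀ k < 12, Nat.card ↥(dc P (nn k)) = Nat.card ↥P.B * Q ^ h8odLen1 k := by
    intro k
    induction k using Nat.strong_induction_on with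
    | _ k ih =>
      intro hk
      by_cases hk1 : 1 ≤ k
      · obtain ⟨h1, h2, _, _, _⟩ := h8od_F1 k hk hk1
        have h5 := h8od_F1' k hk hk1
        have hmul := h8dc_card_mul P (hS _ h2) (hN (h8odPar k)) (hPp k hk hk1)
        rw [← hstep k hk hk1, hrk1 _ h2, ih _ h1 (by omega)] at hmul
        apply Nat.eq_of_mul_eq_mul_right hBpos
        rw [hmul, h5, pow_add, pow_one]
        ring
      · have : k = 0 := by omega
        subst this
        have e1 : nn 0 = 1 := by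
          apply Subtype.ext
          show h8nWU chevD4 hB (h8odW 0) = 1
          have : h8odW 0 = [] := rfl
          rw [this]
          unfold h8nWU
          simp
        rw [e1, dc_one]
        have : h8odLen1 0 = 0 := rfl
        rw [this, pow_zero, mul_one]
        rfl
  -- the multiplication table
  have hmt : ∀ j < 2, ∀ k < 12, dc P (sJ j * nn k) = dc P (nn (h8odMt j k)) := by
    intro j hj k hk
    obtain ⟨_, h2⟩ := h8od_F3 j hj k hk
    rw [dc_eq_iff (P.N.mul_mem (S_mem_N (hS j hj)) (hN k)) (hN _), hmemB]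
    apply h8H_le_B
    have happ : ∀ i ∈ h8wD4 j ++ h8odW k, i < chevD4.rank := by
      intro i hi
      rw [List.mem_append] at hi
      rcases hi with hi | hi
      · exact hwJ j i hi
      · exact h8od_F2 k i hi
    have := h8nWU_same_H (K := K) chevD4 hB hA hBN hW hO2 _ _ happ (h8od_F2 (h8odMt j k)) h2
    rw [h8nWU_append] at this
    exact this
  -- covering
  have hcover : ∀ g : ↥(twistedD4 K 1), ∃ k < 12, g ∈ dc P (nn k) := by
    have hstab : ∀ t ∈ (P.B : Set ↥(twistedD4 K 1)) ∪ P.S,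
        ∀ x ∈ {x : ↥(twistedD4 K 1) | ∃ k < 12, x ∈ dc P (nn k)},
        t * x ∈ {x : ↥(twistedD4 K 1) | ∃ k < 12, x ∈ dc P (nn k)} ∧
        t⁻¹ * x ∈ {x : ↥(twistedD4 K 1) | ∃ k < 12, x ∈ dc P (nn k)} := by
      rintro t (ht | ht) x ⟨k, hk, hx⟩
      · exact ⟨⟨k, hk, dc_mul_left ht hx⟩, ⟨k, hk, dc_mul_left (P.B.inv_mem ht) hx⟩⟩
      · obtain ⟨j, hj, rfl⟩ := hSall t ht
        obtain ⟨b1, hb1, b2, hb2, rfl⟩ := mem_dc.1 hx
        have hk' := (h8od_F3 j hj k hk).1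
        constructor
        · have e : sJ j * (b1 * nn k * b2) = (sJ j * b1 * nn k) * b2 := by group
          rw [e]
          rcases t3 (hS j hj) (hN k) hb1 with h | h
          · rw [hmt j hj k hk] at h
            exact ⟨_, hk', dc_mul_right hb2 h⟩
          · exact ⟨k, hk, dc_mul_right hb2 h⟩
        · have e : (sJ j)⁻¹ * (b1 * nn k * b2) = ((sJ j)⁻¹ * b1 * nn k) * b2 := by group
          rw [e]
          rcases t3_inv (hS j hj) (hN k) hb1 with h | h
          · rw [dc_sinv_mul (hS j hj) (hN k), hmt j hj k hk] at h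
            exact ⟨_, hk', dc_mul_right hb2 h⟩
          · exact ⟨k, hk, dc_mul_right hb2 h⟩
    intro g
    have hg : g ∈ Subgroup.closure ((P.B : Set ↥(twistedD4 K 1)) ∪ P.S) := by
      rw [top_eq_closure]
      exact Subgroup.mem_top g
    have h1 : (1 : ↥(twistedD4 K 1)) ∈ {x : ↥(twistedD4 K 1) | ∃ k < 12, x ∈ dc P (nn k)} := by
      refine ⟨0, by norm_num, ?_⟩
      have e1 : nn 0 = 1 := by
        apply Subtype.ext
        show h8nWU chevD4 hB (h8odW 0) = 1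
        have : h8odW 0 = [] := rfl
        rw [this]
        unfold h8nWU
        simp
      rw [e1]
      exact dc_self 1
    have := (closure_mul_mem hstab hg 1 h1).1
    rw [mul_one] at this
    exact this
  -- disjointness
  have hdisj : ∀ k < 12, ∀ k' < 12, ∀ g : ↥(twistedD4 K 1), g ∈ dc P (nn k) →
      g ∈ dc P (nn k') → k = k' := by
    intro k hk k' hk' g hg hg'
    by_contra hne
    have e : dc P (nn k) = dc P (nn k') := (dc_eq_of_mem hg).symm.trans (dc_eq_of_mem hg')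
    rw [dc_eq_iff (hN k) (hN k'), hmemB] at e
    have hcell : ∃ d1 ∈ chevD4.borelSubgroup K, ∃ d2 ∈ chevD4.borelSubgroup K,
        (nn k').val = d1 * (nn k).val * d2 :=
      ⟨1, Subgroup.one_mem _, _, e, by
        show (nn k').val = 1 * (nn k).val * ((nn k).val⁻¹ * (nn k').val)
        group⟩
    have hH := h8cell_disjoint chevD4 hB hA hC hBN _ _
      (h8nWU_mem_N chevD4 hB hA _ (h8od_F2 k')) (h8nWU_mem_N chevD4 hB hA _ (h8od_F2 k)) hcell
    have hsame := h8nWU_H_same (K := K) chevD4 hB hA hBN hW hO2 _ _ (h8od_F2 k') (h8od_F2 k) hH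
    obtain ⟨r, hr, hrne⟩ := h8od_F4 k hk k' hk' hne
    exact hrne (hsame r hr).symm
  -- the sum
  have hsum : Nat.card ↥(twistedD4 K 1) = ∑ k : Fin 12, Nat.card ↥(dc P (nn k.val)) := by
    rw [← Nat.card_sigma]
    symm
    apply Nat.card_congr
    refine Equiv.ofBijective (fun x : (Σ k : Fin 12, ↥(dc P (nn k.val))) => x.2.val) ⟨?_, ?_⟩
    · rintro ⟨k, x, hx⟩ ⟨k', x', hx'⟩ h
      have hxx : x = x' := h
      subst hxx
      have := hdisj k.val k.2 k'.val k'.2 x hx hx'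
      have hkk : k = k' := Fin.ext this
      subst hkk
      rfl
    · intro g
      obtain ⟨k, hk, hg⟩ := hcover g
      exact ⟨⟨⟨k, hk⟩, ⟨g, hg⟩⟩, rfl⟩
  have hBcard := h8tw_B_card chevD4 hB hA hBN h8sD4 h8tD4 h8pD4 h8qD4 h8eD4 (h8autD4 hA) f
    (fun r hr => (hσp r hr).1) (twistedD4 K 1) hfixG hUfix P hPB
  rw [h8grD4_U_card, h8grD4_H_card] at hBcard
  rw [hsum]
  have hterm : ∀ k : Fin 12, Nat.card ↥(dc P (nn k.val)) =
      Q ^ 6 * (Q - 1) ^ 2 * Q ^ h8odLen1 k.val := by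
    intro k
    rw [hsize k.val k.2, hBcard]
  simp only [hterm, Fin.sum_univ_succ, Fin.sum_univ_zero, Fin.val_zero, Fin.val_succ]
  have hl : ∀ k, h8odLen1 k = ([0, 1, 1, 2, 2, 3, 3, 4, 4, 5, 5, 6] : List ℕ).getD k 0 :=
    fun _ => rfl
  simp only [hl, zero_add, List.getD_cons_zero, List.getD_cons_succ]
  obtain ⟨m, hm⟩ : ∃ m, Q = m + 1 := ⟨Q - 1, by omega⟩
  rw [hm]
  have e2 : (m + 1) ^ 2 - 1 = m * (m + 2) := by
    apply Nat.sub_eq_of_eq_add
    ring
  have e6 : (m + 1) ^ 6 - 1 = m * ((m + 1) ^ 5 + (m + 1) ^ 4 + (m + 1) ^ 3 + (m + 1) ^ 2 +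
      (m + 1) + 1) := by
    apply Nat.sub_eq_of_eq_add
    ring
  rw [e2, e6, Nat.add_sub_cancel]
  ring

end Cfsg.Agent.Lib.helper8
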