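import Mathlib
import Cfsg.Prelude.Def_ChevStructure
import Cfsg.Prelude.Def_LieTwisted
import Cfsg.Prelude.Def_LieExceptional
import Cfsg.Agent.Lib.helper8.ChevGrD4d
import Cfsg.Agent.Lib.helper8.ChevGrD4b
import Cfsg.Agent.S1059

set_option autoImplicit false

namespace Cfsg.Agent.Lib.helper8

open Cfsg.Lie Cfsg.Lie.ChevalleyDatum H3

universe u

variable {K : Type u} [Field K]

/-- the group of fixed points of the triality automorphism is isomorphic to `G₂(K)` -/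
theorem h8grD4_iso [Fintype K] : Nonempty (↥(twistedD4 K 1) ≃* ↥(chevG2.group K)) := by
  obtain ⟨ψ, hψ⟩ := h8grD4_hom (F := K)
  have hc : Nat.card ↥(twistedD4 K 1) = Nat.card ↥(chevG2.group K) := by
    rw [h8grD4_card, Cfsg.Agent.S1059.result rfl]
  have hb : Function.Bijective ψ := (Nat.bijective_iff_surjective_and_card ψ).mpr ⟨hψ, hc⟩
  exact ⟨MulEquiv.ofBijective ψ hb⟩

/-- a fixed point of the triality automorphism in `H` lies in the twisted group -/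
theorem h8grD4_H_fix (hA : H8ReflAll chevD4) (z : GL chevD4.Idx K)
    (hz : z ∈ chevD4.diagonalSubgroup K)
    (hzf : h8Sig chevD4 h8sD4 h8tD4 h8pD4 h8qD4 h8eD4 (h8autD4 hA) (RingEquiv.refl K) z = z) :
    z ∈ twistedD4 K 1 := by
  classical
  have hD : chevD4 ∈ [chevG2, chevB2, chevD4, chevF4, chevE6, chevE7, chevE8] := by simp
  have hB := h8base_all.{u} chevD4 hD
  have hC := h8commAll.{u} chevD4 hD
  have hW := h8bn2_all chevD4 hD
  let f : K ≃+* K := RingEquiv.refl K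
  have hf : ∀ t, f t = t ^ 1 := fun t => (pow_one t).symm
  have hfff : ∀ t, f (f (f t)) = t := fun _ => rfl
  have hfixG := h8twD4_fix hB hC hA 1 f hf hfff
  obtain ⟨s18, s13, s12, s14, n18, n13, n12, n14, k1, k2, k3, k4, k5, k6, k7, k8⟩ := h8hD4_data
  have l18 : 18 < chevD4.nroots := by decide
  have l13 : 13 < chevD4.nroots := by decide
  have l12 : 12 < chevD4.nroots := by decide
  have l14 : 14 < chevD4.nroots := by decide
  rw [h8KF_eq chevD4 hA.ca _ _ l18] at k1 k2 k3 k4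
  rw [h8KF_eq chevD4 hA.ca _ _ l14] at k5 k6 k7 k8
  -- generators
  have hx1 : ∀ r ∈ [14, 9], ∀ t : K, f t = t → h8xU chevD4 hB r t ∈ twistedD4 K 1 :=
    fun r hr t _ => h8twD4_x1 hB 1 r hr t (pow_one t)
  have hx3 : ∀ p ∈ [(18, 13, 12), (5, 10, 11)], ∀ t : K,
      h8xU chevD4 hB p.1 t * h8xU chevD4 hB p.2.1 (f t) * h8xU chevD4 hB p.2.2 (f (f t)) ∈
        twistedD4 K 1 := by
    intro p hp t
    have := h8twD4_x3 hB 1 p.1 p.2.1 p.2.2 hp t
    rw [pow_one, one_pow, pow_one] at this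
    exact this
  -- the torus elements
  have hh14 : ∀ a : K, f a = a → h8hU chevD4 hB 14 a ∈ twistedD4 K 1 := by
    apply h8tw_h1_mem chevD4 hB (twistedD4 K 1) f 14 (hx1 14 (by simp))
    rw [n14]
    exact hx1 9 (by simp)
  have hhJ : ∀ c : K, c ≠ 0 → h8hU chevD4 hB 18 c * h8hU chevD4 hB 13 (f c) *
      h8hU chevD4 hB 12 (f (f c)) ∈ twistedD4 K 1 := by
    obtain ⟨h1, h2, h3, h4, h5, h6, h7⟩ := h8pD4_tor (18, 13, 12) (by simp)
    dsimp only at h1 h2 h3 h4 h5 h6 h7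
    have hcm : ∀ x ∈ [(18, 13), (18, 12), (13, 12)],
        ∀ a ∈ [x.1, chevD4.negIdx.getD x.1 0], ∀ b ∈ [x.2, chevD4.negIdx.getD x.2 0],
        ∀ t u : K, Commute (h8xU chevD4 hB a t) (h8xU chevD4 hB b u) := by
      intro x hx a ha b hb t u
      obtain ⟨k1, k2, k3, k4, k5⟩ := h4 x hx a ha b hb
      exact h8xU_commute chevD4 hB hC a b k2 k3 k4 k5 k1 t u
    have c12 := hcm (18, 13) (by simp)
    have c13 := hcm (18, 12) (by simp)
    have c23 := hcm (13, 12) (by simp)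
    dsimp only at c12 c13 c23
    have hP := hx3 (18, 13, 12) (by simp)
    have hM := hx3 _ h7
    dsimp only at hP hM
    exact h8tw_hJ3_mem chevD4 hB (twistedD4 K 1) f 18 13 12 c12 c13 c23 hP hM
  -- the characters of the torus elements
  have hchi : ∀ (c a : K), c ≠ 0 → a ≠ 0 → ∀ r < chevD4.nroots,
      h8chi chevD4 hB (h8hU chevD4 hB 18 c * h8hU chevD4 hB 13 (f c) *
        h8hU chevD4 hB 12 (f (f c)) * h8hU chevD4 hB 14 a) r =
      c ^ (h8K chevD4 18 r) * (f c) ^ (h8K chevD4 13 r) * (f (f c)) ^ (h8K chevD4 12 r) *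
        a ^ (h8K chevD4 14 r) := by
    intro c a hc ha r hr
    have hfc0 : f c ≠ 0 := (map_ne_zero f).mpr hc
    have hffc0 : f (f c) ≠ 0 := (map_ne_zero f).mpr hfc0
    have m1 := h8hU_mem_H chevD4 hB 18 l18 c hc
    have m2 := h8hU_mem_H chevD4 hB 13 l13 (f c) hfc0
    have m3 := h8hU_mem_H chevD4 hB 12 l12 (f (f c)) hffc0
    have m4 := h8hU_mem_H chevD4 hB 14 l14 a ha
    rw [h8chi_mul chevD4 hB hA hW _ _ (Subgroup.mul_mem _ (Subgroup.mul_mem _ m1 m2) m3) m4 r hr,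
      h8chi_mul chevD4 hB hA hW _ _ (Subgroup.mul_mem _ m1 m2) m3 r hr,
      h8chi_mul chevD4 hB hA hW _ _ m1 m2 r hr,
      h8chi_hU chevD4 hB hA hW 18 l18 c hc r hr, h8chi_hU chevD4 hB hA hW 13 l13 _ hfc0 r hr,
      h8chi_hU chevD4 hB hA hW 12 l12 _ hffc0 r hr, h8chi_hU chevD4 hB hA hW 14 l14 a ha r hr]
  -- equivariance of the characters
  have hsym : ∀ z ∈ chevD4.diagonalSubgroup K,
      h8Sig chevD4 h8sD4 h8tD4 h8pD4 h8qD4 h8eD4 (h8autD4 hA) f z = z →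
      h8chi chevD4 hB z 13 = h8chi chevD4 hB z 18 ∧ h8chi chevD4 hB z 12 = h8chi chevD4 hB z 18 := by
    intro z hz hzf
    have hsig := h8chi_sig chevD4 hB hA hW h8sD4 h8tD4 h8pD4 h8qD4 h8eD4 (h8autD4 hA) f z hz hzf
    have e1 := hsig 18 l18
    rw [s18] at e1
    have e2 := hsig 13 l13
    rw [s13] at e2
    exact ⟨e1, e2.trans e1⟩
  -- the element with the same characters
  have hb := (h8chi_spec chevD4 hB z hz 18 l18).1
  have ha := (h8chi_spec chevD4 hB z hz 14 l14).1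
  set b := h8chi chevD4 hB z 18 with hbdef
  set a := h8chi chevD4 hB z 14 with hadef
  have hs0 : a * b ^ 2 ≠ 0 := mul_ne_zero ha (pow_ne_zero _ hb)
  have ht0 : a ^ 2 * b ^ 3 ≠ 0 := mul_ne_zero (pow_ne_zero _ ha) (pow_ne_zero _ hb)
  set z' := h8hU chevD4 hB 18 (a * b ^ 2) * h8hU chevD4 hB 13 (f (a * b ^ 2)) *
        h8hU chevD4 hB 12 (f (f (a * b ^ 2))) * h8hU chevD4 hB 14 (a ^ 2 * b ^ 3) with hz'def
  have hz'H : z' ∈ chevD4.diagonalSubgroup K :=
      Subgroup.mul_mem _ (Subgroup.mul_mem _ (Subgroup.mul_mem _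
        (h8hU_mem_H chevD4 hB 18 l18 _ hs0) (h8hU_mem_H chevD4 hB 13 l13 _ hs0))
        (h8hU_mem_H chevD4 hB 12 l12 _ hs0)) (h8hU_mem_H chevD4 hB 14 l14 _ ht0)
  have hz'G : z' ∈ twistedD4 K 1 := Subgroup.mul_mem _ (hhJ _ hs0) (hh14 _ rfl)
  have hfa : f (a * b ^ 2) = a * b ^ 2 := rfl
  have e18 : h8chi chevD4 hB z' 18 = b := by
    rw [hz'def, hchi _ _ hs0 ht0 18 l18, k1, k2, k3, k4]
    simp only [hfa, zpow_zero, mul_one, zpow_neg, zpow_one]
    rw [zpow_ofNat]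
    field_simp
  have e14 : h8chi chevD4 hB z' 14 = a := by
    rw [hz'def, hchi _ _ hs0 ht0 14 l14, k5, k6, k7, k8]
    simp only [hfa, zpow_zero, mul_one, zpow_neg, zpow_one]
    rw [zpow_ofNat]
    field_simp
  have hval : ∀ r < chevD4.nroots, h8chi chevD4 hB z r = h8chi chevD4 hB z' r →
      h8chi chevD4 hB (z⁻¹ * z') r = 1 := by
    intro r hr e
    rw [h8chi_mul chevD4 hB hA hW _ _ (Subgroup.inv_mem _ hz) hz'H r hr,
      h8chi_inv chevD4 hB hA hW _ hz r hr, e,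
      inv_mul_cancel₀ (h8chi_spec chevD4 hB z' hz'H r hr).1]
  obtain ⟨a1, a2⟩ := hsym z hz hzf
  obtain ⟨a1', a2'⟩ := hsym z' hz'H (hfixG z' hz'G)
  have hzz : z⁻¹ * z' = 1 := by
    apply h8D4_ext hB hA hW _ (Subgroup.mul_mem _ (Subgroup.inv_mem _ hz) hz'H)
    intro r hr
    simp only [List.mem_cons, List.not_mem_nil, or_false] at hr
    rcases hr with rfl | rfl | rfl | rfl
    · exact hval 18 l18 e18.symm
    · exact hval 14 l14 e14.symm
    · exact hval 13 l13 (by rw [a1, a1', e18])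
    · exact hval 12 l12 (by rw [a2, a2', e18])
  have : z = z' := inv_mul_eq_one.mp hzz
  rw [this]
  exact hz'G

end Cfsg.Agent.Lib.helper8
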