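import Mathlib
import Cfsg.Prelude.Def_ChevStructure
import Cfsg.Prelude.Def_LieTwisted
import Cfsg.Prelude.Def_LieExceptional
import Cfsg.Agent.Lib.helper8.ChevGrD4e

set_option autoImplicit false

namespace Cfsg.Agent.Lib.helper8

open Cfsg.Lie Cfsg.Lie.ChevalleyDatum H3

universe u

variable {K : Type u} [Field K]

/-- the fixed points of the triality automorphism on `D₄(K)` form the twisted group -/
theorem h8grD4_fix_le (hA : H8ReflAll chevD4) :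
    chevD4.group K ⊓ (h8Sig chevD4 h8sD4 h8tD4 h8pD4 h8qD4 h8eD4 (h8autD4 hA)
      (RingEquiv.refl K)).eqLocus (MonoidHom.id _) ≤ twistedD4 K 1 := by
  classical
  have hD : chevD4 ∈ [chevG2, chevB2, chevD4, chevF4, chevE6, chevE7, chevE8] := by simp
  have hB := h8base_all.{u} chevD4 hD
  have hB0 := h8base_all.{0} chevD4 hD
  have hC := h8commAll.{u} chevD4 hD
  have hBN := h8bn_all chevD4 hD
  have hW := h8bn2_all chevD4 hD
  obtain ⟨hO, hO2⟩ := h8ord_all chevD4 hD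
  let f : K ≃+* K := RingEquiv.refl K
  have hf : ∀ t, f t = t ^ 1 := fun t => (pow_one t).symm
  have hfff : ∀ t, f (f (f t)) = t := fun _ => rfl
  have hneg : (-1 : K) ^ 1 = -1 := pow_one _
  have hσp : ∀ r, chevD4.IsPosRoot r →
      chevD4.IsPosRoot (h8sD4 r) ∧ h8posiD4 (h8sD4 r) = h8posiD4 r :=
    fun r hr => ⟨(h8uD4_sig1 r hr.1 hr).1, (h8uD4_sig1 r hr.1 hr).2.1⟩
  have hUfix0 := h8twD4_U_fix hB hC hA hBN hO2 1 f hf hfff hneg
  have hfixG0 := h8twD4_fix hB hC hA 1 f hf hfff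
  have hnJ0 := h8twD4_nJ (K := K) hB hC 1 hneg
  have hG10 : twistedD4 K 1 ≤ chevD4.group K := h8gen_le_group chevD4 hB _
  set G1 : Subgroup (GL chevD4.Idx K) := chevD4.group K ⊓
    (h8Sig chevD4 h8sD4 h8tD4 h8pD4 h8qD4 h8eD4 (h8autD4 hA) f).eqLocus (MonoidHom.id _) with hG1def
  have hG1 : G1 ≤ chevD4.group K := inf_le_left
  have hfix : ∀ g ∈ G1, h8Sig chevD4 h8sD4 h8tD4 h8pD4 h8qD4 h8eD4 (h8autD4 hA) f g = g :=
    fun g hg => hg.2
  have hle : twistedD4 K 1 ≤ G1 := fun g hg => ⟨hG10 hg, hfixG0 g hg⟩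
  have hUfix : ∀ g ∈ chevD4.posUnipotent K,
      h8Sig chevD4 h8sD4 h8tD4 h8pD4 h8qD4 h8eD4 (h8autD4 hA) f g = g → g ∈ G1 :=
    fun g hg h => hle (hUfix0 g hg h)
  have hnJ : ∀ J ∈ h8orbsD4, (h8nWU chevD4 hB (J.map Fin.val) : GL chevD4.Idx K) ∈ G1 :=
    fun J hJ => hle (hnJ0 J hJ)
  obtain ⟨P, hPB, hPN, hPS⟩ := h8tw_bnpair chevD4 hB hB0 hA hC hBN hW hO hO2 h8sD4 h8tD4 h8pD4
    h8qD4 h8eD4 (h8autD4 hA) f (h8mkRho chevD4 h8sD4 h8tD4 h8pD4 h8qD4 h8eD4 (h8autD4 hA))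
    (fun r => rfl) h8piD4 h8orbsD4 (h8twD4 hA hBN) (fun r hr => (hσp r hr).1) G1
    hG1 hfix hUfix hnJ h8twD4_disj (by
      intro J hJ
      have hk : ∃ k < 2, J = h8orbsD4.getD k [] := by
        simp only [h8orbsD4, List.mem_cons, List.not_mem_nil, or_false] at hJ
        rcases hJ with rfl | rfl
        · exact ⟨0, by norm_num, rfl⟩
        · exact ⟨1, by norm_num, rfl⟩
      obtain ⟨k, hk2, rfl⟩ := hk
      obtain ⟨hne, hdata⟩ := h8twD4_xdata k hk2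
      exact h8tw_xJ chevD4 hB hC hBN hO2 h8posiD4 h8uD4_blk h8uD4_read h8sD4 h8tD4 h8pD4 h8qD4
        h8eD4 (h8autD4 hA) f hσp G1 hUfix _ (h8blkOfD4 k) hne hdata)
  intro g hg
  have hcl : (⟨g, hg⟩ : ↥G1) ∈ Subgroup.closure ((P.B : Set ↥G1) ∪ P.S) := by
    rw [top_eq_closure]
    exact Subgroup.mem_top _
  have hsub : Subgroup.closure ((P.B : Set ↥G1) ∪ P.S) ≤ (twistedD4 K 1).comap G1.subtype := by
    rw [Subgroup.closure_le]
    rintro x (hx | hx)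
    · rw [SetLike.mem_coe, hPB, Subgroup.mem_subgroupOf] at hx
      obtain ⟨u, hu, t, ht, e⟩ := h8tw_borel_G1 chevD4 hB hA hBN h8sD4 h8tD4 h8pD4 h8qD4 h8eD4
        (h8autD4 hA) f (fun r hr => (hσp r hr).1) G1 hfix hUfix x.val hx
      show x.val ∈ twistedD4 K 1
      rw [e]
      exact Subgroup.mul_mem _ (hUfix0 u hu.1 hu.2.2) (h8grD4_H_fix hA t ht.1 ht.2.2)
    · rw [hPS] at hx
      obtain ⟨J, hJ, e⟩ := hx
      show x.val ∈ twistedD4 K 1
      rw [e]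
      exact hnJ0 J hJ
  exact hsub hcl

/-- the fixed points of the triality automorphism on `D₄(K)` form the twisted group -/
theorem h8grD4_fix_eq (hA : H8ReflAll chevD4) :
    chevD4.group K ⊓ (h8Sig chevD4 h8sD4 h8tD4 h8pD4 h8qD4 h8eD4 (h8autD4 hA)
      (RingEquiv.refl K)).eqLocus (MonoidHom.id _) = twistedD4 K 1 := by
  have hD : chevD4 ∈ [chevG2, chevB2, chevD4, chevF4, chevE6, chevE7, chevE8] := by simp
  have hB := h8base_all.{u} chevD4 hD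
  have hC := h8commAll.{u} chevD4 hD
  apply le_antisymm (h8grD4_fix_le hA)
  intro g hg
  exact ⟨h8gen_le_group chevD4 hB _ hg,
    h8twD4_fix hB hC hA 1 (RingEquiv.refl K) (fun t => (pow_one t).symm) (fun _ => rfl) g hg⟩

end Cfsg.Agent.Lib.helper8
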