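import Mathlib
import Cfsg.Prelude.Def_ChevStructure
import Cfsg.Prelude.Def_ChevAutomorphisms
import Cfsg.Agent.Lib.helper8.ChevAutTab
import Cfsg.Agent.Lib.helper8.ChevGen

set_option autoImplicit false

namespace Cfsg.Agent.Lib.helper8

open Cfsg.Lie Cfsg.Lie.ChevalleyDatum

universe u

variable {F : Type u} [Field F]

theorem h8graph_unique (D : ChevalleyDatum) (hB : H8Base.{u} D) (hR : H8ReflAll D)
    (hBN : H8BN D) (hce : h8ceChk D = true)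
    (σ τ πf ϖ : ℕ → ℕ) (η : ℕ → ℤ)
    (h1 : h8autChk D σ τ πf ϖ η = true) (h2 : h8autX D σ πf η = true)
    (π : Equiv.Perm (Fin D.rank)) (hπf : ∀ i : Fin D.rank, (π i).val = πf i.val)
    (φ : ↥(D.group F) ≃* ↥(D.group F))
    (hφ : ∀ (g : ↥(D.group F)) (i : Fin D.rank) (t : F),
      (((g : GL D.Idx F) : Matrix D.Idx D.Idx F) = D.x F (D.simple i) t →
        ((φ g : GL D.Idx F) : Matrix D.Idx D.Idx F) = D.x F (D.simple (π i)) t) ∧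
      (((g : GL D.Idx F) : Matrix D.Idx D.Idx F) = D.x F (D.neg (D.simple i)) t →
        ((φ g : GL D.Idx F) : Matrix D.Idx D.Idx F) = D.x F (D.neg (D.simple (π i))) t))
    (r : ℕ) (hr : r < D.nroots) :
    ∃ ε : F, (ε = 1 ∨ ε = -1) ∧ ∀ (g : ↥(D.group F)) (t : F),
      ((g : GL D.Idx F) : Matrix D.Idx D.Idx F) = D.x F r t →
        ((φ g : GL D.Idx F) : Matrix D.Idx D.Idx F) = D.x F (D.permRoot π r) (ε * t) := by
  have hA := h8autChk_spec D σ τ πf ϖ η hce h1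
  obtain ⟨α, hα1, hα2⟩ := h8graph_aut (F := F) D hB hce σ τ πf ϖ η h1 h2
  let E : Subgroup ↥(D.group F) := MonoidHom.eqLocus φ.toMonoidHom α.toMonoidHom
  have hmem : ∀ z : ↥(D.group F), z ∈ E ↔ φ z = α z := fun z => Iff.rfl
  have hle : D.group F ≤ E.map (D.group F).subtype := by
    apply h8group_le_of_simple D hB hR hBN
    · intro j hj t
      have hxm : h8xU D hB (D.simple j) t ∈ D.group F := h8xU_mem_group D hB _ _
      refine ⟨⟨_, hxm⟩, ?_, rfl⟩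
      rw [SetLike.mem_coe, hmem]
      apply Subtype.ext
      apply Units.ext
      have e1 := (hφ ⟨_, hxm⟩ ⟨j, hj⟩ t).1 rfl
      have e2 := (hα1 ⟨_, hxm⟩ j t hj).1 rfl
      rw [e1, e2, hπf ⟨j, hj⟩]
    · intro j hj t
      have hxm : h8xU D hB (D.negIdx.getD (D.simple j) 0) t ∈ D.group F :=
        h8xU_mem_group D hB _ _
      refine ⟨⟨_, hxm⟩, ?_, rfl⟩
      rw [SetLike.mem_coe, hmem]
      apply Subtype.ext
      apply Units.ext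
      have e1 := (hφ ⟨_, hxm⟩ ⟨j, hj⟩ t).2 rfl
      have e2 := (hα1 ⟨_, hxm⟩ j t hj).2 rfl
      rw [e1, e2, hπf ⟨j, hj⟩]
  have hall : ∀ y : ↥(D.group F), φ y = α y := by
    intro y
    obtain ⟨z, hz, hzy⟩ := hle y.2
    have : z = y := Subtype.ext hzy
    rw [← this]
    exact (hmem z).mp hz
  refine ⟨((η r : ℤ) : F), ?_, ?_⟩
  · rcases hA.eta1 r hr with h | h <;> rw [h]
    · left; simp
    · right; simp
  · intro g t hg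
    rw [hall g, hα2 g r t hr hg, h8permRoot_eq D π πf hπf r]

theorem h8symD4_aux : ∀ a0 a1 : Fin chevD4.rank,
    (a0 ≠ a1 ∧ chevD4.bonds a0 a1 = chevD4.bonds 0 1) →
    ∀ a2 : Fin chevD4.rank, (a2 ≠ a0 ∧ a2 ≠ a1 ∧ chevD4.bonds a0 a2 = chevD4.bonds 0 2 ∧
      chevD4.bonds a1 a2 = chevD4.bonds 1 2) →
    ∀ a3 : Fin chevD4.rank, (a3 ≠ a0 ∧ a3 ≠ a1 ∧ a3 ≠ a2 ∧
      chevD4.bonds a0 a3 = chevD4.bonds 0 3 ∧ chevD4.bonds a1 a3 = chevD4.bonds 1 3 ∧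
      chevD4.bonds a2 a3 = chevD4.bonds 2 3) →
    [a0.val, a1.val, a2.val, a3.val] ∈
      [h8aP_D4_0, h8aP_D4_1, h8aP_D4_2, h8aP_D4_3, h8aP_D4_4, h8aP_D4_5] := by
  decide +kernel

set_option synthInstance.maxSize 4000 in
set_option synthInstance.maxHeartbeats 2000000 in
theorem h8symE6_aux : ∀ a0 a1 : Fin chevE6.rank,
    (a0 ≠ a1 ∧ chevE6.bonds a0 a1 = chevE6.bonds 0 1) →
    ∀ a2 : Fin chevE6.rank, (a2 ≠ a0 ∧ a2 ≠ a1 ∧ chevE6.bonds a0 a2 = chevE6.bonds 0 2 ∧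
      chevE6.bonds a1 a2 = chevE6.bonds 1 2) →
    ∀ a3 : Fin chevE6.rank, (a3 ≠ a0 ∧ a3 ≠ a1 ∧ a3 ≠ a2 ∧
      chevE6.bonds a0 a3 = chevE6.bonds 0 3 ∧ chevE6.bonds a1 a3 = chevE6.bonds 1 3 ∧
      chevE6.bonds a2 a3 = chevE6.bonds 2 3) →
    ∀ a4 : Fin chevE6.rank, (a4 ≠ a0 ∧ a4 ≠ a1 ∧ a4 ≠ a2 ∧ a4 ≠ a3 ∧
      chevE6.bonds a0 a4 = chevE6.bonds 0 4 ∧ chevE6.bonds a1 a4 = chevE6.bonds 1 4 ∧
      chevE6.bonds a2 a4 = chevE6.bonds 2 4 ∧ chevE6.bonds a3 a4 = chevE6.bonds 3 4) →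
    ∀ a5 : Fin chevE6.rank, (a5 ≠ a0 ∧ a5 ≠ a1 ∧ a5 ≠ a2 ∧ a5 ≠ a3 ∧ a5 ≠ a4 ∧
      chevE6.bonds a0 a5 = chevE6.bonds 0 5 ∧ chevE6.bonds a1 a5 = chevE6.bonds 1 5 ∧
      chevE6.bonds a2 a5 = chevE6.bonds 2 5 ∧ chevE6.bonds a3 a5 = chevE6.bonds 3 5 ∧
      chevE6.bonds a4 a5 = chevE6.bonds 4 5) →
    [a0.val, a1.val, a2.val, a3.val, a4.val, a5.val] ∈ [h8aP_E6_0, h8aP_E6_1] := by
  decide +kernel

end Cfsg.Agent.Lib.helper8
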