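import Mathlib
import Cfsg.Prelude.Def_ChevStructure
import Cfsg.Prelude.Def_ChevAutomorphisms
import Cfsg.Prelude.Def_LieTwisted
import Cfsg.Prelude.Def_LieExceptional
import Cfsg.Agent.Lib.helper8.ChevGrD4f
import Cfsg.Agent.S2161

set_option autoImplicit false

namespace Cfsg.Agent.Lib.helper8

open Cfsg.Lie Cfsg.Lie.ChevalleyDatum

universe u v

variable {F : Type u} [Field F]

/-- two homomorphisms on a Chevalley group which agree on the fundamental root elements and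
their negatives are equal -/
theorem h8hom_ext_simple (D : ChevalleyDatum) (hB : H8Base.{u} D) (hA : H8ReflAll D)
    (hBN : H8BN D) {N : Type v} [Monoid N] (a b : ↥(D.group F) →* N)
    (h1 : ∀ j < D.rank, ∀ t : F,
      a ⟨h8xU D hB (D.simple j) t, h8xU_mem_group D hB _ _⟩ =
        b ⟨h8xU D hB (D.simple j) t, h8xU_mem_group D hB _ _⟩)
    (h2 : ∀ j < D.rank, ∀ t : F,
      a ⟨h8xU D hB (D.negIdx.getD (D.simple j) 0) t, h8xU_mem_group D hB _ _⟩ =
        b ⟨h8xU D hB (D.negIdx.getD (D.simple j) 0) t, h8xU_mem_group D hB _ _⟩) : a = b := by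
  let E : Subgroup ↥(D.group F) := MonoidHom.eqLocus a b
  have hmem : ∀ z : ↥(D.group F), z ∈ E ↔ a z = b z := fun z => Iff.rfl
  have hle : D.group F ≤ E.map (D.group F).subtype := by
    apply h8group_le_of_simple D hB hA hBN
    · intro j hj t
      exact ⟨⟨_, h8xU_mem_group D hB _ _⟩, (hmem _).2 (h1 j hj t), rfl⟩
    · intro j hj t
      exact ⟨⟨_, h8xU_mem_group D hB _ _⟩, (hmem _).2 (h2 j hj t), rfl⟩
  apply MonoidHom.ext
  intro y
  obtain ⟨z, hz, hzy⟩ := hle y.2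
  have : z = y := Subtype.ext hzy
  rw [← this]
  exact (hmem z).mp hz

theorem h8grD4_long : ∀ i : Fin chevD4.rank, chevD4.isLong (chevD4.simple i.val) = false := by
  decide +kernel

theorem h8grD4_gexp (c : ℕ) (i j : Fin chevD4.rank) : chevD4.graphExp c i.val j.val = 1 := by
  unfold ChevalleyDatum.graphExp
  rw [h8grD4_long j]
  rfl

/-- the action of the triality on the fundamental roots -/
theorem h8grD4_sdata : ∀ j < chevD4.rank,
    h8sD4 (chevD4.simple j) = chevD4.simple (h8pD4 j) ∧ h8eD4 (chevD4.simple j) = 1 ∧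
    h8sD4 (chevD4.negIdx.getD (chevD4.simple j) 0) =
      chevD4.negIdx.getD (chevD4.simple (h8pD4 j)) 0 ∧
    h8eD4 (chevD4.negIdx.getD (chevD4.simple j) 0) = 1 ∧
    chevD4.simple j < chevD4.nroots ∧ chevD4.negIdx.getD (chevD4.simple j) 0 < chevD4.nroots ∧
    h8pD4 j < chevD4.rank ∧ h8pD4 (h8pD4 (h8pD4 j)) = j := by
  decide +kernel

theorem h8grD4_inv : ∀ L ∈ [h8aP_D4_0, h8aP_D4_1, h8aP_D4_2, h8aP_D4_5],
    ∀ i < chevD4.rank, L.getD (L.getD i 0) 0 = i := by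
  decide +kernel

theorem h8grD4_p3 : ∀ i < chevD4.rank, h8aP_D4_3.getD i 0 = h8pD4 i ∧
    h8aP_D4_4.getD i 0 = h8pD4 (h8pD4 i) := by
  decide +kernel

section
variable (hB : H8Base.{u} chevD4) (hA : H8ReflAll chevD4)

/-- the triality on the fundamental root elements -/
theorem h8grD4_sig_x (j : ℕ) (hj : j < chevD4.rank) (t : F) :
    h8Sig chevD4 h8sD4 h8tD4 h8pD4 h8qD4 h8eD4 (h8autD4 hA) (RingEquiv.refl F)
      (h8xU chevD4 hB (chevD4.simple j) t) = h8xU chevD4 hB (chevD4.simple (h8pD4 j)) t ∧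
    h8Sig chevD4 h8sD4 h8tD4 h8pD4 h8qD4 h8eD4 (h8autD4 hA) (RingEquiv.refl F)
      (h8xU chevD4 hB (chevD4.negIdx.getD (chevD4.simple j) 0) t) =
        h8xU chevD4 hB (chevD4.negIdx.getD (chevD4.simple (h8pD4 j)) 0) t := by
  obtain ⟨h1, h2, h3, h4, h5, h6, _, _⟩ := h8grD4_sdata j hj
  constructor
  · rw [h8Sig_xU chevD4 _ _ _ _ _ (h8autD4 hA) _ hB _ h5, h1, h2, Int.cast_one, one_mul]
    rfl
  · rw [h8Sig_xU chevD4 _ _ _ _ _ (h8autD4 hA) _ hB _ h6, h3, h4, Int.cast_one, one_mul]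
    rfl

end

end Cfsg.Agent.Lib.helper8
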