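import Mathlib
import Cfsg.Prelude.Def_ChevAutomorphisms
import Cfsg.Agent.Lib.helper8.ChevAU16
import Cfsg.Agent.Lib.helper8.ChevGrD4g

set_option autoImplicit false

namespace Cfsg.Agent.Lib.helper8

open Cfsg.Lie Cfsg.Lie.ChevalleyDatum

universe u

variable {F : Type u} [Field F]

/-- the standard form of an automorphism preserving `U` and `V` -/
def H8Std (D : ChevalleyDatum) (hB : H8Base.{u} D) (θ : ↥(D.group F) ≃* ↥(D.group F))
    (ρ : Equiv.Perm (Fin D.rank)) (c : Fin D.rank → Fˣ) (σ : F ≃+* F) : Prop :=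
  ∀ (i : Fin D.rank) (t : F),
    θ (h8xG D hB (D.simple i) t) =
      h8xG D hB (D.simple (ρ i)) ((c i : F) * (σ t) ^ D.graphExp (ringChar F) i (ρ i)) ∧
    θ (h8xG D hB (D.negIdx.getD (D.simple i) 0) t) =
      h8xG D hB (D.negIdx.getD (D.simple (ρ i)) 0)
        ((((c i)⁻¹ : Fˣ) : F) * (σ t) ^ D.graphExp (ringChar F) i (ρ i))

/-- an automorphism fixing `U` and `V` permutes the fundamental root subgroups -/
theorem h8av_data_UV [Finite F] (D : ChevalleyDatum)
    (hD : D ∈ [chevG2, chevB2, chevD4, chevF4, chevE6, chevE7, chevE8])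
    (θ : ↥(D.group F) ≃* ↥(D.group F))
    (hU : ((D.posUnipotent F).subgroupOf (D.group F)).map θ.toMonoidHom =
        (D.posUnipotent F).subgroupOf (D.group F))
    (hV : ((D.negUnipotent F).subgroupOf (D.group F)).map θ.toMonoidHom =
        (D.negUnipotent F).subgroupOf (D.group F)) :
    ∃ (ρ : Equiv.Perm (Fin D.rank)) (f g : Fin D.rank → F → F),
      H8AuData D (h8base_all.{u} D hD) θ ρ f g := by
  classical
  have hm := h8au_match D hD θ hU hV
  choose j hj hpos hneg using hm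
  let ρf : Fin D.rank → Fin D.rank := fun i => ⟨j i.val i.2, hj i.val i.2⟩
  have hinj : Function.Injective ρf := by
    intro a b hab
    have hab' : j a.val a.2 = j b.val b.2 := congrArg Fin.val hab
    apply Fin.ext
    apply h8au_match_inj D hD θ hU hV a.val b.val (j a.val a.2) a.2 b.2 (hj a.val a.2)
    · exact hneg a.val a.2 1
    · rw [hab']
      exact hneg b.val b.2 1
  have hbij : Function.Bijective ρf := Finite.injective_iff_bijective.mp hinj
  choose f hf using fun (i : Fin D.rank) => hpos i.val i.2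
  choose g hg using fun (i : Fin D.rank) => hneg i.val i.2
  exact ⟨Equiv.ofBijective ρf hbij, f, g, ⟨fun i t => hf i t, fun i t => hg i t⟩⟩

/-- from the data to the standard form -/
theorem h8av_std_of_data [Finite F] (D : ChevalleyDatum)
    (hD : D ∈ [chevG2, chevB2, chevD4, chevF4, chevE6, chevE7, chevE8])
    (θ : ↥(D.group F) ≃* ↥(D.group F)) (ρ : Equiv.Perm (Fin D.rank))
    (f g : Fin D.rank → F → F) (hθ : H8AuData D (h8base_all.{u} D hD) θ ρ f g) :
    D.IsDiagramSymmetry ρ ∧ ∃ (c : Fin D.rank → Fˣ) (σ : F ≃+* F),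
      H8Std D (h8base_all.{u} D hD) θ ρ c σ := by
  obtain ⟨σs, hf, hg, hf1, hrel⟩ := h8au_sigma D hD θ ρ f g hθ
  have hρ := h8au_rho_sym D hD θ ρ f g hθ
  obtain ⟨σ, hσ⟩ := h8au_sigma_uniform D hD ρ hρ σs hrel
  refine ⟨hρ, fun i => Units.mk0 (f i 1) (hf1 i), σ, fun i t => ⟨?_, ?_⟩⟩
  · rw [hθ.pos, hf, hσ]
    rfl
  · rw [hθ.neg, hg, hσ]
    have e : (((Units.mk0 (f i 1) (hf1 i))⁻¹ : Fˣ) : F) = (f i 1)⁻¹ := by simp
    show _ = h8xG D _ _ ((((Units.mk0 (f i 1) (hf1 i))⁻¹ : Fˣ) : F) * _)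
    rw [e]

theorem h8av_std_UV [Finite F] (D : ChevalleyDatum)
    (hD : D ∈ [chevG2, chevB2, chevD4, chevF4, chevE6, chevE7, chevE8])
    (θ : ↥(D.group F) ≃* ↥(D.group F))
    (hU : ((D.posUnipotent F).subgroupOf (D.group F)).map θ.toMonoidHom =
        (D.posUnipotent F).subgroupOf (D.group F))
    (hV : ((D.negUnipotent F).subgroupOf (D.group F)).map θ.toMonoidHom =
        (D.negUnipotent F).subgroupOf (D.group F)) :
    ∃ (ρ : Equiv.Perm (Fin D.rank)) (c : Fin D.rank → Fˣ) (σ : F ≃+* F),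
      D.IsDiagramSymmetry ρ ∧ H8Std D (h8base_all.{u} D hD) θ ρ c σ := by
  obtain ⟨ρ, f, g, hθ⟩ := h8av_data_UV D hD θ hU hV
  obtain ⟨hρ, c, σ, h⟩ := h8av_std_of_data D hD θ ρ f g hθ
  exact ⟨ρ, c, σ, hρ, h⟩

/-- the exponent of a graph automorphism is `1` or the characteristic -/
theorem h8graphExp_cases (D : ChevalleyDatum) (p i j : ℕ) :
    D.graphExp p i j = 1 ∨ D.graphExp p i j = p := by
  unfold ChevalleyDatum.graphExp
  split_ifs
  · right; rfl
  · left; rfl

theorem h8av_pow_inj [Finite F] (D : ChevalleyDatum) (i j : ℕ) (x y : F)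
    (h : x ^ D.graphExp (ringChar F) i j = y ^ D.graphExp (ringChar F) i j) : x = y := by
  rcases h8graphExp_cases D (ringChar F) i j with e | e
  · rw [e, pow_one, pow_one] at h
    exact h
  · rw [e] at h
    exact h8au_frob_inj x y h

/-- the standard data are determined by the automorphism -/
theorem h8av_std_unique [Finite F] (D : ChevalleyDatum)
    (hD : D ∈ [chevG2, chevB2, chevD4, chevF4, chevE6, chevE7, chevE8])
    (θ : ↥(D.group F) ≃* ↥(D.group F)) (ρ ρ' : Equiv.Perm (Fin D.rank))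
    (c c' : Fin D.rank → Fˣ) (σ σ' : F ≃+* F)
    (h : H8Std D (h8base_all.{u} D hD) θ ρ c σ) (h' : H8Std D (h8base_all.{u} D hD) θ ρ' c' σ') :
    ρ = ρ' ∧ c = c' ∧ σ = σ' := by
  have hB := h8base_all.{u} D hD
  have hA := h8reflAll D hD
  have hBN := h8bn_all D hD
  have hW := h8bn2_all D hD
  obtain ⟨hO, hO2⟩ := h8ord_all D hD
  have hsc := h8scChk_all D hD
  have hρ : ∀ i, ρ i = ρ' i := by
    intro i
    have e := (h i 1).1.symm.trans (h' i 1).1
    have e2 := congrArg Subtype.val e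
    rw [h8xG_val, h8xG_val] at e2
    have h3 := h8x_inj_root D (h8base_all.{u} D hD) hA hBN hW hO2 _ _
      (h8simple_pos D hBN (ρ i) (ρ i).2).1 (h8simple_pos D hBN (ρ' i) (ρ' i).2).1 _ _
      (by simp) (by simp) e2
    exact Fin.ext (h8au_simple_inj D hsc _ _ (ρ i).2 (ρ' i).2 h3)
  have hρ' : ρ = ρ' := Equiv.ext hρ
  subst hρ'
  have hc : ∀ i, c i = c' i := by
    intro i
    have e := (h i 1).1.symm.trans (h' i 1).1
    have e2 := congrArg Subtype.val e
    rw [h8xG_val, h8xG_val] at e2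
    have h3 := h8xU_inj_t D (h8base_all.{u} D hD) hA hW _
      (h8simple_pos D hBN (ρ i) (ρ i).2).1 _ _ e2
    simp only [map_one, one_pow, mul_one] at h3
    exact Units.ext h3
  have hc' : c = c' := funext hc
  subst hc'
  refine ⟨rfl, rfl, ?_⟩
  have hrank : 0 < D.rank := (h8tits_all D hD).rank
  apply RingEquiv.ext
  intro t
  have e := (h ⟨0, hrank⟩ t).1.symm.trans (h' ⟨0, hrank⟩ t).1
  have e2 := congrArg Subtype.val e
  rw [h8xG_val, h8xG_val] at e2
  have h3 := h8xU_inj_t D (h8base_all.{u} D hD) hA hW _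
    (h8simple_pos D hBN (ρ ⟨0, hrank⟩) (ρ ⟨0, hrank⟩).2).1 _ _ e2
  have h4 := mul_left_cancel₀ (Units.ne_zero (c ⟨0, hrank⟩)) h3
  exact h8av_pow_inj D _ _ _ _ h4

/-- an automorphism is determined by its standard data -/
theorem h8av_std_ext (D : ChevalleyDatum)
    (hD : D ∈ [chevG2, chevB2, chevD4, chevF4, chevE6, chevE7, chevE8])
    (θ θ' : ↥(D.group F) ≃* ↥(D.group F)) (ρ : Equiv.Perm (Fin D.rank))
    (c : Fin D.rank → Fˣ) (σ : F ≃+* F)
    (h : H8Std D (h8base_all.{u} D hD) θ ρ c σ) (h' : H8Std D (h8base_all.{u} D hD) θ' ρ c σ) :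
    θ = θ' := by
  have hA := h8reflAll D hD
  have hBN := h8bn_all D hD
  have key : θ.toMonoidHom = θ'.toMonoidHom := by
    apply h8hom_ext_simple D (h8base_all.{u} D hD) hA hBN
    · intro j hj t
      exact ((h ⟨j, hj⟩ t).1).trans ((h' ⟨j, hj⟩ t).1).symm
    · intro j hj t
      exact ((h ⟨j, hj⟩ t).2).trans ((h' ⟨j, hj⟩ t).2).symm
  apply MulEquiv.ext
  intro y
  exact DFunLike.congr_fun key y

end Cfsg.Agent.Lib.helper8
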