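import Mathlib
import Cfsg.Prelude.Def_ChevAutomorphisms
import Cfsg.Prelude.Def_KGroupFacts
import Cfsg.Agent.Lib.helper8.ChevAV1
import Cfsg.Agent.Lib.helper8.ChevSt28

set_option autoImplicit false

namespace Cfsg.Agent.Lib.helper8

open Cfsg.Lie Cfsg.Lie.ChevalleyDatum

universe u

variable {F : Type u} [Field F]

theorem h8av_mem_normalizer_of_map {Γ : Type*} [Group Γ] (K : Subgroup Γ) (x : Γ)
    (h : K.map (MulAut.conj x).toMonoidHom = K) : x ∈ Subgroup.normalizer (K : Set Γ) := by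
  rw [Subgroup.mem_normalizer_iff]
  intro k
  constructor
  · intro hk
    rw [← h]
    exact ⟨k, hk, rfl⟩
  · intro hk
    rw [← h] at hk
    obtain ⟨k', hk', e⟩ := hk
    have : k' = k := by
      have e' : x * k' * x⁻¹ = x * k * x⁻¹ := e
      have := mul_right_cancel e'
      exact mul_left_cancel this
    rw [← this]
    exact hk'

theorem h8av_map_of_mem_normalizer {Γ : Type*} [Group Γ] (K : Subgroup Γ) (x : Γ)
    (h : x ∈ Subgroup.normalizer (K : Set Γ)) : K.map (MulAut.conj x).toMonoidHom = K := by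
  rw [Subgroup.mem_normalizer_iff] at h
  ext k
  rw [Subgroup.mem_map]
  constructor
  · rintro ⟨k', hk', rfl⟩
    exact (h k').mp hk'
  · intro hk
    refine ⟨x⁻¹ * k * x, ?_, ?_⟩
    · rw [h]
      have : x * (x⁻¹ * k * x) * x⁻¹ = k := by group
      rw [this]
      exact hk
    · show x * (x⁻¹ * k * x) * x⁻¹ = k
      group

/-- the automorphisms stabilizing `U` and `V` -/
def h8A0 (D : ChevalleyDatum) (F : Type u) [Field F] : Subgroup (MulAut ↥(D.group F)) where
  carrier := {θ | ((D.posUnipotent F).subgroupOf (D.group F)).map θ.toMonoidHom =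
        (D.posUnipotent F).subgroupOf (D.group F) ∧
      ((D.negUnipotent F).subgroupOf (D.group F)).map θ.toMonoidHom =
        (D.negUnipotent F).subgroupOf (D.group F)}
  mul_mem' := by
    rintro a b ⟨ha1, ha2⟩ ⟨hb1, hb2⟩
    constructor
    · show ((D.posUnipotent F).subgroupOf (D.group F)).map (b.trans a).toMonoidHom = _
      rw [h8au_map_trans', hb1, ha1]
    · show ((D.negUnipotent F).subgroupOf (D.group F)).map (b.trans a).toMonoidHom = _
      rw [h8au_map_trans', hb2, ha2]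
  one_mem' := by
    constructor
    · exact Subgroup.map_id _
    · exact Subgroup.map_id _
  inv_mem' := by
    rintro a ⟨ha1, ha2⟩
    exact ⟨h8au_map_symm _ a ha1, h8au_map_symm _ a ha2⟩

theorem h8A0_mem (D : ChevalleyDatum) (θ : MulAut ↥(D.group F)) :
    θ ∈ h8A0 D F ↔ ((D.posUnipotent F).subgroupOf (D.group F)).map θ.toMonoidHom =
        (D.posUnipotent F).subgroupOf (D.group F) ∧
      ((D.negUnipotent F).subgroupOf (D.group F)).map θ.toMonoidHom =
        (D.negUnipotent F).subgroupOf (D.group F) := Iff.rfl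

/-- an inner automorphism stabilizing `U` and `V` is induced by an element of `H` -/
theorem h8av_inner_UV (D : ChevalleyDatum)
    (hD : D ∈ [chevG2, chevB2, chevD4, chevF4, chevE6, chevE7, chevE8]) (x : ↥(D.group F))
    (hx : MulAut.conj x ∈ h8A0 D F) : (x : GL D.Idx F) ∈ D.diagonalSubgroup F := by
  have hB := h8base_all.{u} D hD
  have hA := h8reflAll D hD
  have hC := h8commAll.{u} D hD
  have hBN := h8bn_all D hD
  have hW := h8bn2_all D hD
  obtain ⟨hO, hO2⟩ := h8ord_all D hD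
  obtain ⟨w, hw⟩ := hW.w0
  have hwr := (h8w0Chk_spec D hA w hw).1
  obtain ⟨hU, hV⟩ := hx
  have hUG := h8_U_le_group (F := F) D
  have hVG := h8au_V_le_group (F := F) D hB
  have hmapG : ∀ (K : Subgroup (GL D.Idx F)) (z : GL D.Idx F), K ≤ D.group F → z ∈ D.group F →
      K.map (MulAut.conj z).toMonoidHom ≤ D.group F := by
    rintro K z hK hz _ ⟨k, hk, rfl⟩
    exact Subgroup.mul_mem _ (Subgroup.mul_mem _ hz (hK hk)) (Subgroup.inv_mem _ hz)
  -- `x` normalizes `U` and `V` in `GL`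
  have hUx : (D.posUnipotent F).map (MulAut.conj (x : GL D.Idx F)).toMonoidHom =
      D.posUnipotent F := by
    apply h8au_subgroupOf_inj _ _ _ (hmapG _ _ hUG x.2) hUG
    rw [← h8au_subgroupOf_map_conj]
    exact hU
  have hVx : (D.negUnipotent F).map (MulAut.conj (x : GL D.Idx F)).toMonoidHom =
      D.negUnipotent F := by
    apply h8au_subgroupOf_inj _ _ _ (hmapG _ _ hVG x.2) hVG
    rw [← h8au_subgroupOf_map_conj]
    exact hV
  have hxB : (x : GL D.Idx F) ∈ D.borelSubgroup F := by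
    rw [← h8au_normalizer_U D hB hA hC hBN hW hO2]
    exact ⟨h8av_mem_normalizer_of_map _ _ hUx, x.2⟩
  -- the conjugate by the longest element
  set n₀ : GL D.Idx F := h8nWU D hB w with hn₀
  have hn₀G : n₀ ∈ D.group F := h8_N_le_group D hB (h8nWU_mem_N (F := F) D hB hA w hwr)
  have hconj := h8_conj_U_eq_V (F := F) D hB hA w hw
  have hyU : (D.posUnipotent F).map (MulAut.conj (n₀⁻¹ * (x : GL D.Idx F) * n₀)).toMonoidHom =
      D.posUnipotent F := by
    have e1 : (D.posUnipotent F).map (MulAut.conj (n₀⁻¹ * (x : GL D.Idx F) * n₀)).toMonoidHom =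
        (((D.posUnipotent F).map (MulAut.conj n₀).toMonoidHom).map
          (MulAut.conj (x : GL D.Idx F)).toMonoidHom).map (MulAut.conj n₀⁻¹).toMonoidHom := by
      rw [h8au_map_conj_conj, h8au_map_conj_conj, mul_assoc]
    rw [e1, hconj, hVx, ← hconj, h8au_map_conj_conj, inv_mul_cancel, h8au_map_conj_one]
  have hyB : n₀⁻¹ * (x : GL D.Idx F) * n₀ ∈ D.borelSubgroup F := by
    rw [← h8au_normalizer_U D hB hA hC hBN hW hO2]
    exact ⟨h8av_mem_normalizer_of_map _ _ hyU,
      Subgroup.mul_mem _ (Subgroup.mul_mem _ (Subgroup.inv_mem _ hn₀G) x.2) hn₀G⟩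
  have hHn : (D.diagonalSubgroup F).map (MulAut.conj n₀).toMonoidHom = D.diagonalSubgroup F :=
    h8av_map_of_mem_normalizer _ _ (h8nWU_mem_normalizer_H D hB hA w hwr)
  have hxVH : (x : GL D.Idx F) ∈ D.negUnipotent F ⊔ D.diagonalSubgroup F := by
    have h1 : (MulAut.conj n₀).toMonoidHom (n₀⁻¹ * (x : GL D.Idx F) * n₀) ∈
        (D.borelSubgroup F).map (MulAut.conj n₀).toMonoidHom := ⟨_, hyB, rfl⟩
    have h2 : (MulAut.conj n₀).toMonoidHom (n₀⁻¹ * (x : GL D.Idx F) * n₀) = (x : GL D.Idx F) := by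
      show n₀ * (n₀⁻¹ * (x : GL D.Idx F) * n₀) * n₀⁻¹ = _
      group
    rw [h2] at h1
    unfold ChevalleyDatum.borelSubgroup at h1
    rw [Subgroup.map_sup, hconj, hHn] at h1
    exact h1
  have : (x : GL D.Idx F) ∈ D.borelSubgroup F ⊓ (D.negUnipotent F ⊔ D.diagonalSubgroup F) :=
    ⟨hxB, hxVH⟩
  rw [h8_B_inf_VH D hB hBN.negOK] at this
  exact this

end Cfsg.Agent.Lib.helper8
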