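import Mathlib
import Cfsg.Prelude.Def_ChevAutomorphisms
import Cfsg.Prelude.Def_KGroupFacts
import Cfsg.Agent.Lib.helper8.ChevAV2

set_option autoImplicit false

namespace Cfsg.Agent.Lib.helper8

open Cfsg.Lie Cfsg.Lie.ChevalleyDatum

universe u

variable {F : Type u} [Field F]

/-- conjugation by an element of `H` stabilizes `U` and `V` -/
theorem h8av_conj_H_mem (D : ChevalleyDatum) (hB : H8Base.{u} D) (x : ↥(D.group F))
    (hx : (x : GL D.Idx F) ∈ D.diagonalSubgroup F) : MulAut.conj x ∈ h8A0 D F := by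
  constructor
  · rw [h8au_subgroupOf_map_conj,
      h8av_map_of_mem_normalizer _ _ (h8_H_le_normalizer_U D hB hx)]
  · rw [h8au_subgroupOf_map_conj,
      h8av_map_of_mem_normalizer _ _ (h8_H_le_normalizer_V D hB hx)]

theorem h8av_conj_inj {Γ : Type*} [Group Γ] (hc : Subgroup.center Γ = ⊥) (a b : Γ)
    (h : MulAut.conj a = MulAut.conj b) : a = b := by
  have h1 : b⁻¹ * a ∈ Subgroup.center Γ := by
    rw [Subgroup.mem_center_iff]
    intro g
    have h2 := DFunLike.congr_fun h g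
    simp only [MulAut.conj_apply] at h2
    calc g * (b⁻¹ * a) = b⁻¹ * (b * g * b⁻¹) * a := by group
      _ = b⁻¹ * (a * g * a⁻¹) * a := by rw [h2]
      _ = b⁻¹ * a * g := by group
  rw [hc, Subgroup.mem_bot] at h1
  calc a = b * (b⁻¹ * a) := by group
    _ = b := by rw [h1, mul_one]

/-- the inner automorphisms stabilizing `U` and `V` correspond to `H` -/
theorem h8av_inn_card (D : ChevalleyDatum)
    (hD : D ∈ [chevG2, chevB2, chevD4, chevF4, chevE6, chevE7, chevE8]) :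
    Nat.card ↥((Cfsg.Inn ↥(D.group F)).subgroupOf (h8A0 D F)) =
      Nat.card ↥(D.diagonalSubgroup F) := by
  have hB := h8base_all.{u} D hD
  have hHG := h8_H_le_group (F := F) D hB
  symm
  let f : ↥(D.diagonalSubgroup F) → ↥((Cfsg.Inn ↥(D.group F)).subgroupOf (h8A0 D F)) :=
    fun h => ⟨⟨MulAut.conj (⟨h.val, hHG h.2⟩ : ↥(D.group F)),
      h8av_conj_H_mem D hB ⟨h.val, hHG h.2⟩ h.2⟩, ⟨⟨h.val, hHG h.2⟩, rfl⟩⟩
  apply Nat.card_eq_of_bijective f
  constructor
  · intro a b hab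
    have h1 : MulAut.conj (⟨a.val, hHG a.2⟩ : ↥(D.group F)) =
        MulAut.conj (⟨b.val, hHG b.2⟩ : ↥(D.group F)) :=
      congrArg (fun z => (z.val.val : MulAut ↥(D.group F))) hab
    have h2 := h8av_conj_inj (h8group_center D hD) _ _ h1
    exact Subtype.ext (congrArg (fun z : ↥(D.group F) => (z : GL D.Idx F)) h2)
  · rintro ⟨⟨θ, hθ⟩, hInn⟩
    obtain ⟨x, hx⟩ := hInn
    have hx' : MulAut.conj x = θ := hx
    have hxH := h8av_inner_UV D hD x (by rw [hx']; exact hθ)
    refine ⟨⟨x.val, hxH⟩, ?_⟩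
    apply Subtype.ext
    apply Subtype.ext
    exact hx'

/-- every automorphism is inner times one stabilizing `U` and `V` -/
theorem h8av_inn_sup [Finite F] (D : ChevalleyDatum)
    (hD : D ∈ [chevG2, chevB2, chevD4, chevF4, chevE6, chevE7, chevE8]) :
    h8A0 D F ⊔ Cfsg.Inn ↥(D.group F) = ⊤ := by
  rw [eq_top_iff]
  intro θ _
  obtain ⟨x, hU, hV⟩ := h8au_step1 D hD θ
  have h1 : MulAut.conj x * θ ∈ h8A0 D F := ⟨hU, hV⟩
  have h2 : (MulAut.conj x)⁻¹ ∈ Cfsg.Inn ↥(D.group F) := Subgroup.inv_mem _ ⟨x, rfl⟩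
  have e : θ = (MulAut.conj x)⁻¹ * (MulAut.conj x * θ) := by group
  rw [e]
  have hInn : (Cfsg.Inn ↥(D.group F)).Normal := Cfsg.innNormal _
  rw [sup_comm]
  exact Subgroup.mul_mem_sup h2 h1

/-- the order of the outer automorphism group through the stabilizer of `U` and `V` -/
theorem h8av_out_card [Finite F] (D : ChevalleyDatum)
    (hD : D ∈ [chevG2, chevB2, chevD4, chevF4, chevE6, chevE7, chevE8]) :
    Nat.card ↥(D.diagonalSubgroup F) * Nat.card (Cfsg.Out ↥(D.group F)) =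
      Nat.card ↥(h8A0 D F) := by
  have hInn : (Cfsg.Inn ↥(D.group F)).Normal := Cfsg.innNormal _
  have h1 : Nat.card (Cfsg.Out ↥(D.group F)) = (Cfsg.Inn ↥(D.group F)).index :=
    (Subgroup.index_eq_card _).symm
  rw [h1, ← Subgroup.relIndex_top_right, ← h8av_inn_sup D hD, Subgroup.relIndex_sup_right,
    ← h8av_inn_card D hD]
  exact Subgroup.card_mul_index _

end Cfsg.Agent.Lib.helper8
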