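import Mathlib
import Cfsg.Prelude.Def_ChevAutomorphisms
import Cfsg.Prelude.Def_KGroupFacts
import Cfsg.Agent.Lib.helper8.ChevAV3

set_option autoImplicit false

namespace Cfsg.Agent.Lib.helper8

open Cfsg.Lie Cfsg.Lie.ChevalleyDatum

universe u

variable {F : Type u} [Field F]

/-- a closure-type subgroup is mapped into another one by a homomorphism of the group -/
theorem h8av_map_closure_le (D : ChevalleyDatum) (hB : H8Base.{u} D)
    (θ : ↥(D.group F) →* ↥(D.group F)) (P Q : ℕ → Prop) (_hP : ∀ r, P r → r < D.nroots)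
    (h : ∀ r, P r → ∀ t : F, ∃ r' t', Q r' ∧ θ (h8xG D hB r t) = h8xG D hB r' t') :
    ((Subgroup.closure {g : GL D.Idx F | ∃ (r : ℕ) (t : F), P r ∧
        (g : Matrix D.Idx D.Idx F) = D.x F r t}).subgroupOf (D.group F)).map θ ≤
      (Subgroup.closure {g : GL D.Idx F | ∃ (r : ℕ) (t : F), Q r ∧
        (g : Matrix D.Idx D.Idx F) = D.x F r t}).subgroupOf (D.group F) := by
  have hSG : Subgroup.closure {g : GL D.Idx F | ∃ (r : ℕ) (t : F), P r ∧
      (g : Matrix D.Idx D.Idx F) = D.x F r t} ≤ D.group F := by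
    rw [Subgroup.closure_le]
    rintro g ⟨r, t, _, hg⟩
    rw [h8au_gen_eq D hB g r t hg]
    exact h8xU_mem_group D hB r t
  have key : ∀ y : GL D.Idx F, y ∈ Subgroup.closure {g : GL D.Idx F | ∃ (r : ℕ) (t : F), P r ∧
      (g : Matrix D.Idx D.Idx F) = D.x F r t} → ∀ hy : y ∈ D.group F,
      ((θ ⟨y, hy⟩ : ↥(D.group F)) : GL D.Idx F) ∈
        Subgroup.closure {g : GL D.Idx F | ∃ (r : ℕ) (t : F), Q r ∧
          (g : Matrix D.Idx D.Idx F) = D.x F r t} := by
    intro y hy
    induction hy using Subgroup.closure_induction with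
    | mem g hg =>
      intro hgG
      obtain ⟨r, t, hr, hg⟩ := hg
      have e : (⟨g, hgG⟩ : ↥(D.group F)) = h8xG D hB r t :=
        Subtype.ext (h8au_gen_eq D hB g r t hg)
      obtain ⟨r', t', hr', e'⟩ := h r hr t
      rw [e, e']
      apply Subgroup.subset_closure
      exact ⟨r', t', hr', rfl⟩
    | one =>
      intro h1
      have : (⟨1, h1⟩ : ↥(D.group F)) = 1 := rfl
      rw [this, map_one]
      exact Subgroup.one_mem _
    | mul a b ha hb iha ihb =>
      intro hab
      have haG := hSG ha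
      have hbG := hSG hb
      have : (⟨a * b, hab⟩ : ↥(D.group F)) = ⟨a, haG⟩ * ⟨b, hbG⟩ := rfl
      rw [this, map_mul]
      exact Subgroup.mul_mem _ (iha haG) (ihb hbG)
    | inv a ha iha =>
      intro hai
      have haG := hSG ha
      have : (⟨a⁻¹, hai⟩ : ↥(D.group F)) = (⟨a, haG⟩ : ↥(D.group F))⁻¹ := rfl
      rw [this, map_inv]
      exact Subgroup.inv_mem _ (iha haG)
  rintro _ ⟨y, hy, rfl⟩
  have hy' : (y : GL D.Idx F) ∈ Subgroup.closure {g : GL D.Idx F | ∃ (r : ℕ) (t : F), P r ∧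
      (g : Matrix D.Idx D.Idx F) = D.x F r t} := Subgroup.mem_subgroupOf.mp hy
  rw [Subgroup.mem_subgroupOf]
  exact key y.val hy' y.2

/-- an automorphism permuting the root subgroups and preserving positivity stabilizes `U`
    and `V` -/
theorem h8av_mem_A0_of_root [Finite F] (D : ChevalleyDatum) (hB : H8Base.{u} D)
    (θ : MulAut ↥(D.group F))
    (hpos : ∀ r, D.IsPosRoot r → ∀ t : F, ∃ r' t', D.IsPosRoot r' ∧
      θ (h8xG D hB r t) = h8xG D hB r' t')
    (hneg : ∀ r, D.IsNegRoot r → ∀ t : F, ∃ r' t', D.IsNegRoot r' ∧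
      θ (h8xG D hB r t) = h8xG D hB r' t') : θ ∈ h8A0 D F := by
  have hfin : Finite ↥(D.group F) := inferInstance
  have h1 := h8av_map_closure_le D hB θ.toMonoidHom D.IsPosRoot D.IsPosRoot (fun r hr => hr.1) hpos
  have h2 := h8av_map_closure_le D hB θ.toMonoidHom D.IsNegRoot D.IsNegRoot (fun r hr => hr.1) hneg
  constructor
  · apply Subgroup.eq_of_le_of_card_ge h1
    rw [Subgroup.card_map_of_injective θ.injective]
  · apply Subgroup.eq_of_le_of_card_ge h2
    rw [Subgroup.card_map_of_injective θ.injective]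

end Cfsg.Agent.Lib.helper8
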