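import Mathlib
import Cfsg.Prelude.Def_ChevAutomorphisms
import Cfsg.Prelude.Def_KGroupFacts
import Cfsg.Agent.Lib.helper8.ChevAV4

set_option autoImplicit false

namespace Cfsg.Agent.Lib.helper8

open Cfsg.Lie Cfsg.Lie.ChevalleyDatum

universe u

variable {F : Type u} [Field F]

theorem h8graphExp_self (D : ChevalleyDatum) (p i : ℕ) : D.graphExp p i i = 1 := by
  unfold ChevalleyDatum.graphExp
  cases D.isLong (D.simple i) <;> simp

section
variable (D : ChevalleyDatum) (hD : D ∈ [chevG2, chevB2, chevD4, chevF4, chevE6, chevE7, chevE8])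

/-- field automorphisms stabilize `U` and `V` -/
theorem h8av_field_mem [Finite F] (σ : F ≃+* F) :
    (h8fieldAut D (h8base_all.{u} D hD) σ : MulAut ↥(D.group F)) ∈ h8A0 D F := by
  apply h8av_mem_A0_of_root D (h8base_all.{u} D hD)
  · intro r hr t
    exact ⟨r, σ t, hr, h8fieldAut_xG D _ σ r t⟩
  · intro r hr t
    exact ⟨r, σ t, hr, h8fieldAut_xG D _ σ r t⟩

include hD in
/-- diagonal automorphisms stabilize `U` and `V` -/
theorem h8av_diag_mem [Finite F] (χ : ℕ → Fˣ) (hχ : D.IsRootCharacter χ)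
    (hmap : (D.group F).map (MulAut.conj (h8chiU D χ)).toMonoidHom = D.group F) :
    (h8diagAut D χ hmap : MulAut ↥(D.group F)) ∈ h8A0 D F := by
  have hA := h8reflAll D hD
  have hcons := h8consChk_all D hD
  apply h8av_mem_A0_of_root D (h8base_all.{u} D hD)
  · intro r hr t
    exact ⟨r, _, hr, h8diagAut_xG D _ hA hcons χ hχ hmap r hr.1 t⟩
  · intro r hr t
    exact ⟨r, _, hr, h8diagAut_xG D _ hA hcons χ hχ hmap r hr.1 t⟩

/-- composing with a field automorphism on the right -/
theorem h8av_std_mul_field (θ : MulAut ↥(D.group F)) (ρ : Equiv.Perm (Fin D.rank))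
    (c : Fin D.rank → Fˣ) (σ τ : F ≃+* F) (h : H8Std D (h8base_all.{u} D hD) θ ρ c σ) :
    H8Std D (h8base_all.{u} D hD) (θ * (h8fieldAut D (h8base_all.{u} D hD) τ : MulAut ↥(D.group F)))
      ρ c (τ.trans σ) := by
  intro i t
  constructor
  · rw [MulAut.mul_apply, h8fieldAut_xG, (h i (τ t)).1]
    rfl
  · rw [MulAut.mul_apply, h8fieldAut_xG, (h i (τ t)).2]
    rfl

/-- composing with a diagonal automorphism on the left -/
theorem h8av_std_diag_mul (θ : MulAut ↥(D.group F)) (ρ : Equiv.Perm (Fin D.rank))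
    (c : Fin D.rank → Fˣ) (σ : F ≃+* F) (h : H8Std D (h8base_all.{u} D hD) θ ρ c σ)
    (χ : ℕ → Fˣ) (hχ : D.IsRootCharacter χ)
    (hmap : (D.group F).map (MulAut.conj (h8chiU D χ)).toMonoidHom = D.group F) :
    H8Std D (h8base_all.{u} D hD) ((h8diagAut D χ hmap : MulAut ↥(D.group F)) * θ) ρ
      (fun i => χ (D.simple (ρ i)) * c i) σ := by
  have hA := h8reflAll D hD
  have hBN := h8bn_all D hD
  have hW := h8bn2_all D hD
  have hcons := h8consChk_all D hD
  intro i t
  have hp := (h8simple_pos D hBN (ρ i) (ρ i).2).1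
  constructor
  · rw [MulAut.mul_apply, (h i t).1, h8diagAut_xG D _ hA hcons χ hχ hmap _ hp]
    congr 1
    rw [Units.val_mul, mul_assoc]
  · rw [MulAut.mul_apply, (h i t).2, h8diagAut_xG D _ hA hcons χ hχ hmap _ (hW.neglt _ hp)]
    congr 1
    have h1 := hχ.1 (D.simple (ρ i)) hp
    unfold ChevalleyDatum.neg at h1
    rw [h1, mul_inv, Units.val_mul, mul_assoc]

end

end Cfsg.Agent.Lib.helper8
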