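import Mathlib
import Cfsg.Prelude.Def_ChevAutomorphisms
import Cfsg.Prelude.Def_KGroupFacts
import Cfsg.Agent.Lib.helper8.ChevAV5

set_option autoImplicit false

namespace Cfsg.Agent.Lib.helper8

open Cfsg.Lie Cfsg.Lie.ChevalleyDatum

universe u

variable {F : Type u} [Field F]

/-- the stabilizer of `U` and `V` is parametrized by the admissible diagram symmetries, the
    characters and the field automorphisms -/
theorem h8av_A0_card [Finite F] (D : ChevalleyDatum)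
    (hD : D ∈ [chevG2, chevB2, chevD4, chevF4, chevE6, chevE7, chevE8])
    (Γ : Set (Equiv.Perm (Fin D.rank))) (γ : Γ → MulAut ↥(D.group F))
    (hγ : ∀ ρ : Γ, γ ρ ∈ h8A0 D F ∧
      H8Std D (h8base_all.{u} D hD) (γ ρ) ρ.val (fun _ => 1) (RingEquiv.refl F))
    (hall : ∀ θ ∈ h8A0 D F, ∀ ρ c σ, H8Std D (h8base_all.{u} D hD) θ ρ c σ → ρ ∈ Γ) :
    Nat.card ↥(h8A0 D F) =
      Nat.card Γ * (Nat.card (Fin D.rank → Fˣ) * Nat.card (F ≃+* F)) := by
  have hA := h8reflAll D hD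
  have hcons := h8consChk_all D hD
  obtain ⟨m, hm⟩ := h8rc_all D hD
  have hχ : ∀ (ρ : Γ) (c : Fin D.rank → Fˣ),
      D.IsRootCharacter (h8rchi D m (fun j => c (ρ.val.symm j))) :=
    fun ρ c => h8rchi_root D (h8base_all.{u} D hD) hA m hm _
  have hmap : ∀ (ρ : Γ) (c : Fin D.rank → Fˣ),
      (D.group F).map (MulAut.conj (h8chiU D (h8rchi D m (fun j => c (ρ.val.symm j))))).toMonoidHom =
        D.group F :=
    fun ρ c => h8chiU_map_eq D (h8base_all.{u} D hD) hA hcons _ (hχ ρ c)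
  let T : Γ × (Fin D.rank → Fˣ) × (F ≃+* F) → ↥(h8A0 D F) := fun x =>
    ⟨(h8diagAut D _ (hmap x.1 x.2.1) : MulAut ↥(D.group F)) *
      (γ x.1 * (h8fieldAut D (h8base_all.{u} D hD) x.2.2 : MulAut ↥(D.group F))),
      Subgroup.mul_mem _ (h8av_diag_mem D hD _ (hχ x.1 x.2.1) (hmap x.1 x.2.1))
        (Subgroup.mul_mem _ (hγ x.1).1 (h8av_field_mem D hD x.2.2))⟩
  have hT : ∀ x, H8Std D (h8base_all.{u} D hD) (T x).val x.1.val x.2.1 x.2.2 := by
    rintro ⟨ρ, c, σ⟩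
    have h1 := h8av_std_mul_field D hD (γ ρ) ρ.val (fun _ => 1) (RingEquiv.refl F) σ (hγ ρ).2
    have h2 := h8av_std_diag_mul D hD _ ρ.val (fun _ => 1) _ h1 _ (hχ ρ c) (hmap ρ c)
    have e1 : (fun i => h8rchi D m (fun j => c (ρ.val.symm j)) (D.simple (ρ.val i)) * 1) = c := by
      funext i
      rw [h8rchi_simple D m hm, mul_one, Equiv.symm_apply_apply]
    have e2 : σ.trans (RingEquiv.refl F) = σ := by
      apply RingEquiv.ext
      intro t
      rfl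
    rw [e1, e2] at h2
    exact h2
  rw [← Nat.card_prod, ← Nat.card_prod]
  symm
  apply Nat.card_eq_of_bijective T
  constructor
  · intro x y hxy
    have h1 := hT x
    have h2 := hT y
    rw [hxy] at h1
    obtain ⟨e1, e2, e3⟩ := h8av_std_unique D hD _ _ _ _ _ _ _ h1 h2
    exact Prod.ext (Subtype.ext e1) (Prod.ext e2 e3)
  · rintro ⟨θ, hθ⟩
    obtain ⟨ρ, c, σ, _, hstd⟩ := h8av_std_UV D hD θ hθ.1 hθ.2
    have hρ := hall θ hθ ρ c σ hstd
    refine ⟨(⟨ρ, hρ⟩, c, σ), ?_⟩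
    apply Subtype.ext
    exact h8av_std_ext D hD _ _ ρ c σ (hT (⟨ρ, hρ⟩, c, σ)) hstd

end Cfsg.Agent.Lib.helper8
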