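import Mathlib

set_option autoImplicit false

namespace Cfsg.Agent.Lib.helper8

/-- the number of field automorphisms of a finite field of order `p ^ f` -/
theorem h8av_ringAut_card {F : Type*} [Field F] [Fintype F] (p f : ℕ) [Fact p.Prime] [CharP F p]
    (hF : Fintype.card F = p ^ f) : Nat.card (F ≃+* F) = f := by
  let _ := ZMod.algebra F p
  have h1 : Nat.card (F ≃ₐ[ZMod p] F) = Module.finrank (ZMod p) F :=
    IsGalois.card_aut_eq_finrank (ZMod p) F
  have h2 : Module.finrank (ZMod p) F = f := by
    have h3 := Module.card_eq_pow_finrank (K := ZMod p) (V := F)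
    rw [ZMod.card, hF] at h3
    exact (Nat.pow_right_injective (Fact.out : p.Prime).two_le h3).symm
  rw [← h2, ← h1]
  apply Nat.card_congr
  refine ⟨fun σ => AlgEquiv.ofRingEquiv (f := σ) (fun x => ?_), fun σ => σ.toRingEquiv, ?_, ?_⟩
  · have : (σ : F →+* F).comp (algebraMap (ZMod p) F) = algebraMap (ZMod p) F :=
      Subsingleton.elim _ _
    exact DFunLike.congr_fun this x
  · intro σ
    rfl
  · intro σ
    rfl

theorem h8av_char_card {F : Type*} [Field F] [Fintype F] (n : ℕ) :
    Nat.card (Fin n → Fˣ) = (Fintype.card F - 1) ^ n := by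
  rw [Nat.card_fun, Nat.card_units, Nat.card_eq_fintype_card, Nat.card_eq_fintype_card,
    Fintype.card_fin]

end Cfsg.Agent.Lib.helper8
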