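import Mathlib
import Cfsg.Prelude.Def_ChevAutomorphisms
import Cfsg.Prelude.Def_ChevE8
import Cfsg.Prelude.Def_ChevE7

set_option autoImplicit false

namespace Cfsg.Agent.Lib.helper8

open Cfsg.Lie Cfsg.Lie.ChevalleyDatum

/-- colour refinement on the Dynkin diagram -/
def h8dcol (D : ChevalleyDatum) : ℕ → Fin D.rank → ℕ
  | 0, _ => 0
  | k + 1, i => h8dcol D k i * 100 +
      ((List.finRange D.rank).map fun j =>
        if j ≠ i ∧ D.bonds i j ≠ 0 then h8dcol D k j + 1 else 0).sum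

theorem h8dcol_inv (D : ChevalleyDatum) (ρ : Equiv.Perm (Fin D.rank))
    (hρ : D.IsDiagramSymmetry ρ) : ∀ (k : ℕ) (i : Fin D.rank), h8dcol D k (ρ i) = h8dcol D k i := by
  intro k
  induction k with
  | zero => intro i; rfl
  | succ k ih =>
    intro i
    unfold h8dcol
    rw [ih i]
    congr 1
    rw [← Fin.sum_univ_def, ← Fin.sum_univ_def]
    symm
    apply Fintype.sum_equiv ρ
    intro j
    by_cases hji : j = i
    · subst hji
      simp
    · have h1 : ρ j ≠ ρ i := fun h => hji (ρ.injective h)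
      rw [hρ i j (Ne.symm hji), ih j]
      simp [hji, h1]

theorem h8dcol_fix (D : ChevalleyDatum) (k : ℕ) (hinj : Function.Injective (h8dcol D k))
    (ρ : Equiv.Perm (Fin D.rank)) (hρ : D.IsDiagramSymmetry ρ) : ρ = 1 := by
  apply Equiv.ext
  intro i
  exact hinj (h8dcol_inv D ρ hρ k i)

theorem h8sym_E8 (ρ : Equiv.Perm (Fin chevE8.rank)) (hρ : chevE8.IsDiagramSymmetry ρ) : ρ = 1 := by
  apply h8dcol_fix chevE8 3 _ ρ hρ
  have : ∀ i j : Fin chevE8.rank, h8dcol chevE8 3 i = h8dcol chevE8 3 j → i = j := by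
    decide +kernel
  exact fun i j h => this i j h

theorem h8sym_E7 (ρ : Equiv.Perm (Fin chevE7.rank)) (hρ : chevE7.IsDiagramSymmetry ρ) : ρ = 1 := by
  apply h8dcol_fix chevE7 3 _ ρ hρ
  have : ∀ i j : Fin chevE7.rank, h8dcol chevE7 3 i = h8dcol chevE7 3 j → i = j := by
    decide +kernel
  exact fun i j h => this i j h

end Cfsg.Agent.Lib.helper8
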