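import Mathlib
import Cfsg.Prelude.Def_ChevAutomorphisms
import Cfsg.Prelude.Def_KGroupFacts
import Cfsg.Agent.Lib.helper8.ChevAV6
import Cfsg.Agent.Lib.helper8.ChevAV7
import Cfsg.Agent.Lib.helper8.ChevAV8
import Cfsg.Agent.Lib.helper8.ChevH5

set_option autoImplicit false

namespace Cfsg.Agent.Lib.helper8

open Cfsg.Lie Cfsg.Lie.ChevalleyDatum

universe u

variable {F : Type u} [Field F]

/-- the permutation of a standard form is a diagram symmetry -/
theorem h8av_std_sym [Finite F] (D : ChevalleyDatum)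
    (hD : D ∈ [chevG2, chevB2, chevD4, chevF4, chevE6, chevE7, chevE8])
    (θ : ↥(D.group F) ≃* ↥(D.group F)) (ρ : Equiv.Perm (Fin D.rank))
    (c : Fin D.rank → Fˣ) (σ : F ≃+* F) (h : H8Std D (h8base_all.{u} D hD) θ ρ c σ) :
    D.IsDiagramSymmetry ρ :=
  h8au_rho_sym D hD θ ρ _ _ ⟨fun i t => (h i t).1, fun i t => (h i t).2⟩

/-- the identity in standard form -/
theorem h8av_std_one (D : ChevalleyDatum)
    (hD : D ∈ [chevG2, chevB2, chevD4, chevF4, chevE6, chevE7, chevE8]) :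
    H8Std D (h8base_all.{u} D hD) (1 : MulAut ↥(D.group F)) 1 (fun _ => 1) (RingEquiv.refl F) := by
  intro i t
  constructor
  · show h8xG D _ (D.simple i) t = h8xG D _ (D.simple i) _
    rw [Equiv.Perm.one_apply, h8graphExp_self]
    simp
  · show h8xG D _ _ t = h8xG D _ _ _
    rw [Equiv.Perm.one_apply, h8graphExp_self]
    simp

/-- the order of the outer automorphism group from the admissible diagram symmetries -/
theorem h8av_out_count [Fintype F] (D : ChevalleyDatum)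
    (hD : D ∈ [chevG2, chevB2, chevD4, chevF4, chevE6, chevE7, chevE8])
    (Γ : Set (Equiv.Perm (Fin D.rank))) (γ : Γ → MulAut ↥(D.group F))
    (hγ : ∀ ρ : Γ, γ ρ ∈ h8A0 D F ∧
      H8Std D (h8base_all.{u} D hD) (γ ρ) ρ.val (fun _ => 1) (RingEquiv.refl F))
    (hall : ∀ θ ∈ h8A0 D F, ∀ ρ c σ, H8Std D (h8base_all.{u} D hD) θ ρ c σ → ρ ∈ Γ)
    (p f : ℕ) [Fact p.Prime] [CharP F p] (hF : Fintype.card F = p ^ f) (d : ℕ)
    (hH : d * Nat.card ↥(D.diagonalSubgroup F) = (Fintype.card F - 1) ^ D.rank) :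
    Nat.card (Cfsg.Out ↥(D.group F)) = d * Nat.card Γ * f := by
  have h1 := h8av_out_card (F := F) D hD
  rw [h8av_A0_card D hD Γ γ hγ hall, h8av_char_card, h8av_ringAut_card p f hF, ← hH] at h1
  have hpos : 0 < Nat.card ↥(D.diagonalSubgroup F) := Nat.card_pos
  apply Nat.eq_of_mul_eq_mul_left hpos
  rw [h1]
  ring

/-- the outer automorphism group of `E₈(q)` -/
theorem h8out_E8 [Fintype F] (p f : ℕ) [Fact p.Prime] [CharP F p] (hF : Fintype.card F = p ^ f) :
    Nat.card (Cfsg.Out ↥(chevE8.group F)) = f := by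
  have hD : chevE8 ∈ [chevG2, chevB2, chevD4, chevF4, chevE6, chevE7, chevE8] := by simp
  have h := h8av_out_count chevE8 hD {1} (fun _ => 1)
    (fun ρ => ⟨Subgroup.one_mem _, by
      have : ρ.val = 1 := ρ.2
      rw [this]
      exact h8av_std_one chevE8 hD⟩)
    (fun θ _ ρ c σ hstd => h8sym_E8 ρ (h8av_std_sym chevE8 hD θ ρ c σ hstd))
    p f hF 1 (by rw [one_mul]; exact h8H_card_E8)
  rw [h]
  simp

end Cfsg.Agent.Lib.helper8
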