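import Mathlib
import Cfsg.Prelude.Def_ChevAutomorphisms
import Cfsg.Prelude.Def_KGroupFacts
import Cfsg.Agent.Lib.helper8.ChevAV9
import Cfsg.Agent.Lib.helper8.ChevAut5

set_option autoImplicit false

namespace Cfsg.Agent.Lib.helper8

open Cfsg.Lie Cfsg.Lie.ChevalleyDatum

universe u

variable {F : Type u} [Field F]

/-- the positivity check for the permutation of the roots of a graph automorphism -/
def h8posChk (D : ChevalleyDatum) (σ : ℕ → ℕ) : Bool :=
  (List.range D.nroots).all fun r =>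
    (!decide (D.IsPosRoot r) || decide (D.IsPosRoot (σ r))) &&
    (!decide (D.IsNegRoot r) || decide (D.IsNegRoot (σ r)))

theorem h8posChk_spec (D : ChevalleyDatum) (σ : ℕ → ℕ) (h : h8posChk D σ = true) (r : ℕ) :
    (D.IsPosRoot r → D.IsPosRoot (σ r)) ∧ (D.IsNegRoot r → D.IsNegRoot (σ r)) := by
  unfold h8posChk at h
  simp only [List.all_eq_true, List.mem_range, Bool.and_eq_true, Bool.or_eq_true,
    Bool.not_eq_true', decide_eq_false_iff_not, decide_eq_true_eq] at h
  constructor
  · intro hr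
    rcases (h r hr.1).1 with h' | h'
    · exact absurd hr h'
    · exact h'
  · intro hr
    rcases (h r hr.1).2 with h' | h'
    · exact absurd hr h'
    · exact h'

/-- a graph automorphism given by tables, in standard form -/
theorem h8av_graph_table [Finite F] (D : ChevalleyDatum)
    (hD : D ∈ [chevG2, chevB2, chevD4, chevF4, chevE6, chevE7, chevE8])
    (σ τ π ϖ : ℕ → ℕ) (η : ℕ → ℤ)
    (h1 : h8autChk D σ τ π ϖ η = true) (h2 : h8autX D σ π η = true)
    (h3 : h8posChk D σ = true) (ρ : Equiv.Perm (Fin D.rank)) (hρ : ∀ i, (ρ i).val = π i.val)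
    (hexp : ∀ i j : Fin D.rank, D.graphExp (ringChar F) i j = 1) :
    ∃ γ : MulAut ↥(D.group F), γ ∈ h8A0 D F ∧
      H8Std D (h8base_all.{u} D hD) γ ρ (fun _ => 1) (RingEquiv.refl F) := by
  have hA := h8reflAll D hD
  obtain ⟨α, hα1, hα2⟩ := h8graph_aut (F := F) D (h8base_all.{u} D hD) hA.ce σ τ π ϖ η h1 h2
  have hσ : ∀ r < D.nroots, σ r = h8permRootL D π r := by
    unfold h8autX at h2
    simp only [Bool.and_eq_true, decide_eq_true_eq, List.all_eq_true, List.mem_range] at h2
    exact h2.2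
  have hx : ∀ r < D.nroots, ∀ t : F, α (h8xG D (h8base_all.{u} D hD) r t) =
      h8xG D (h8base_all.{u} D hD) (σ r) (((η r : ℤ) : F) * t) := by
    intro r hr t
    apply h8xG_of_val
    rw [hσ r hr]
    exact hα2 _ r t hr rfl
  refine ⟨α, ?_, ?_⟩
  · apply h8av_mem_A0_of_root D (h8base_all.{u} D hD)
    · intro r hr t
      exact ⟨σ r, _, (h8posChk_spec D σ h3 r).1 hr, hx r hr.1 t⟩
    · intro r hr t
      exact ⟨σ r, _, (h8posChk_spec D σ h3 r).2 hr, hx r hr.1 t⟩
  · intro i t
    have h := hα1 (h8xG D (h8base_all.{u} D hD) (D.simple i) t) i.val t i.2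
    have h' := hα1 (h8xG D (h8base_all.{u} D hD) (D.neg (D.simple i)) t) i.val t i.2
    rw [hexp]
    constructor
    · have e := h8xG_of_val D (h8base_all.{u} D hD) _ _ _ (h.1 rfl)
      rw [e, hρ]
      congr 1
      simp
    · have e := h8xG_of_val D (h8base_all.{u} D hD) _ _ _ (h'.2 rfl)
      unfold ChevalleyDatum.neg at e
      rw [e, hρ]
      congr 1
      simp

end Cfsg.Agent.Lib.helper8
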