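import Mathlib
import Cfsg.Prelude.Def_ChevStructure
import Cfsg.Prelude.Def_LieTwisted
import Cfsg.Agent.Lib.helper8.ChevTwE6W1
import Cfsg.Agent.Lib.helper8.ChevTwE6U

set_option autoImplicit false

namespace Cfsg.Agent.Lib.helper8

open Cfsg.Lie Cfsg.Lie.ChevalleyDatum

/-- the digit with index `r` of a packed table -/
def h8ftU (N r : ℕ) : ℕ := N / 128 ^ r % 128

/-- the default record -/
def h8ftD : H8Ft := ⟨0, 0, 0, 0, 0, 0, 0, [], []⟩

/-- the record of the element with index `k` -/
def h8ftR (k : ℕ) : H8Ft := (h8ftChunk (k / 128)).getD (k % 128) h8ftD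

/-- consistency of a record with its parent and its products: packed data only -/
def h8ftChkA (x : H8Ft) : Bool :=
  ((List.range 72).all fun r => h8ftU x.N r == h8ftU (h8ftOA x.fl) (h8ftU x.pN r)) &&
  ((List.range 6).all fun i => h8ftU x.N (h8ftU x.ik i) == chevE6.simple i &&
    decide (h8ftU x.ik i < 72)) &&
  ((List.range 4).all fun j => (List.range 72).all fun r =>
    h8ftU (x.mtN.getD j 0) r == h8ftU (h8ftOA j) (h8ftU x.N r))

set_option synthInstance.maxSize 1000 in
set_option synthInstance.maxHeartbeats 200000 in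
/-- positivity of the inverse images of the simple roots of the first orbit under the parent -/
def h8ftChkP (x : H8Ft) : Bool :=
  (h8wE6 x.fl).all fun i => decide (chevE6.IsPosRoot (h8ftU x.pik i))

theorem h8ftChkA_c0 : h8ftRecs0.all h8ftChkA = true := by decide +kernel

theorem h8ftChkA_c1 : h8ftRecs1.all h8ftChkA = true := by decide +kernel

theorem h8ftChkA_c2 : h8ftRecs2.all h8ftChkA = true := by decide +kernel

theorem h8ftChkA_c3 : h8ftRecs3.all h8ftChkA = true := by decide +kernel

theorem h8ftChkA_c4 : h8ftRecs4.all h8ftChkA = true := by decide +kernel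

theorem h8ftChkA_c5 : h8ftRecs5.all h8ftChkA = true := by decide +kernel

theorem h8ftChkA_c6 : h8ftRecs6.all h8ftChkA = true := by decide +kernel

theorem h8ftChkA_c7 : h8ftRecs7.all h8ftChkA = true := by decide +kernel

theorem h8ftChkA_c8 : h8ftRecs8.all h8ftChkA = true := by decide +kernel

theorem h8ftChkP_c0 : h8ftRecs0.all h8ftChkP = true := by decide +kernel

theorem h8ftChkP_c1 : h8ftRecs1.all h8ftChkP = true := by decide +kernel

theorem h8ftChkP_c2 : h8ftRecs2.all h8ftChkP = true := by decide +kernel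

theorem h8ftChkP_c3 : h8ftRecs3.all h8ftChkP = true := by decide +kernel

theorem h8ftChkP_c4 : h8ftRecs4.all h8ftChkP = true := by decide +kernel

theorem h8ftChkP_c5 : h8ftRecs5.all h8ftChkP = true := by decide +kernel

theorem h8ftChkP_c6 : h8ftRecs6.all h8ftChkP = true := by decide +kernel

theorem h8ftChkP_c7 : h8ftRecs7.all h8ftChkP = true := by decide +kernel

theorem h8ftChkP_c8 : h8ftRecs8.all h8ftChkP = true := by decide +kernel

theorem h8ftChkA_all : ∀ c < 9, (h8ftChunk c).all h8ftChkA = true := by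
  intro c hc
  interval_cases c
  · exact h8ftChkA_c0
  · exact h8ftChkA_c1
  · exact h8ftChkA_c2
  · exact h8ftChkA_c3
  · exact h8ftChkA_c4
  · exact h8ftChkA_c5
  · exact h8ftChkA_c6
  · exact h8ftChkA_c7
  · exact h8ftChkA_c8

theorem h8ftChkP_all : ∀ c < 9, (h8ftChunk c).all h8ftChkP = true := by
  intro c hc
  interval_cases c
  · exact h8ftChkP_c0
  · exact h8ftChkP_c1
  · exact h8ftChkP_c2
  · exact h8ftChkP_c3
  · exact h8ftChkP_c4
  · exact h8ftChkP_c5
  · exact h8ftChkP_c6
  · exact h8ftChkP_c7
  · exact h8ftChkP_c8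

theorem h8ftChunk_length : ∀ c < 9, (h8ftChunk c).length = 128 := by decide +kernel

end Cfsg.Agent.Lib.helper8
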