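import Mathlib
import Cfsg.Prelude.Def_ChevStructure
import Cfsg.Prelude.Def_LieTwisted
import Cfsg.Agent.Lib.helper8.ChevTwE6W2

set_option autoImplicit false

namespace Cfsg.Agent.Lib.helper8

open Cfsg.Lie Cfsg.Lie.ChevalleyDatum

/-- the E₆-lengths of the orbit reflections -/
def h8ftA (j : ℕ) : ℕ := ([1, 1, 2, 2] : List ℕ).getD j 0

/-- the word of the element with index `k` -/
def h8ftW (k : ℕ) : List ℕ := h8ftWT.getD k []

theorem h8ftOA_ok : ∀ j < 4, ∀ s < 72, h8ftU (h8ftOA j) s = h8sW chevE6 (h8wE6 j) s := by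
  decide +kernel

theorem h8ftK0 : (∀ r < 72, h8ftU (h8ftR 0).N r = r) ∧ h8ftW 0 = [] ∧ (h8ftR 0).len = 0 := by
  decide +kernel

/-- the consistency of the record with index `k` with the records it refers to -/
def H8FtK2 (k : ℕ) : Prop :=
  (1 ≤ k → (h8ftR k).par < k ∧ (h8ftR k).fl < 4 ∧
    (h8ftR k).pN = (h8ftR (h8ftR k).par).N ∧ (h8ftR k).pik = (h8ftR (h8ftR k).par).ik ∧
    (h8ftR k).len = h8ftA (h8ftR k).fl + (h8ftR (h8ftR k).par).len ∧
    h8ftW k = h8wE6 (h8ftR k).fl ++ h8ftW (h8ftR k).par) ∧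
  (∀ j < 4, (h8ftR k).mt.getD j 0 < 1152 ∧
    (h8ftR k).mtN.getD j 0 = (h8ftR ((h8ftR k).mt.getD j 0)).N) ∧
  (h8ftR k).len = h8ftLenT.getD k 0

instance (k : ℕ) : Decidable (H8FtK2 k) := by
  unfold H8FtK2
  infer_instance

theorem h8ftK2_c0 : ∀ i < 128, H8FtK2 (0 + i) := by decide +kernel

theorem h8ftK2_c1 : ∀ i < 128, H8FtK2 (128 + i) := by decide +kernel

theorem h8ftK2_c2 : ∀ i < 128, H8FtK2 (256 + i) := by decide +kernel

theorem h8ftK2_c3 : ∀ i < 128, H8FtK2 (384 + i) := by decide +kernel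

theorem h8ftK2_c4 : ∀ i < 128, H8FtK2 (512 + i) := by decide +kernel

theorem h8ftK2_c5 : ∀ i < 128, H8FtK2 (640 + i) := by decide +kernel

theorem h8ftK2_c6 : ∀ i < 128, H8FtK2 (768 + i) := by decide +kernel

theorem h8ftK2_c7 : ∀ i < 128, H8FtK2 (896 + i) := by decide +kernel

theorem h8ftK2_c8 : ∀ i < 128, H8FtK2 (1024 + i) := by decide +kernel

theorem h8ftK2 : ∀ k < 1152, H8FtK2 k := by
  intro k hk
  obtain ⟨c, i, hi, rfl⟩ : ∃ c i, i < 128 ∧ k = 128 * c + i :=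
    ⟨k / 128, k % 128, Nat.mod_lt _ (by norm_num), (Nat.div_add_mod k 128).symm⟩
  have hc : c < 9 := by omega
  interval_cases c
  · exact h8ftK2_c0 i hi
  · exact h8ftK2_c1 i hi
  · exact h8ftK2_c2 i hi
  · exact h8ftK2_c3 i hi
  · exact h8ftK2_c4 i hi
  · exact h8ftK2_c5 i hi
  · exact h8ftK2_c6 i hi
  · exact h8ftK2_c7 i hi
  · exact h8ftK2_c8 i hi

theorem h8ftWT_lt : h8ftWT.all (fun w => w.all fun i => decide (i < chevE6.rank)) = true := by
  decide +kernel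

theorem h8ftLenT_length : h8ftLenT.length = 1152 := by decide +kernel

end Cfsg.Agent.Lib.helper8
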