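import Mathlib
import Cfsg.Prelude.Def_ChevStructure
import Cfsg.Prelude.Def_LieTwisted
import Cfsg.Agent.Lib.helper8.ChevTwE6W3

set_option autoImplicit false

namespace Cfsg.Agent.Lib.helper8

open Cfsg.Lie Cfsg.Lie.ChevalleyDatum

/-- a decision tree recovering the index of an element from the images of the simple roots -/
def h8ftTrie : List (ℕ × List (ℕ × List (ℕ × List (ℕ × List (ℕ × List (ℕ × ℕ)))))) :=
  [(3, [(5, [(36, [(56, [(44, [(46, 714), (47, 622)]), (51, [(25, 759), (39, 528)]), (53, [(24, 669), (32, 575)])])]), (45, [(59, [(27, [(51, 788), (53, 700)]), (46, [(20, 830), (39, 268)]), (47, [(18, 745), (32, 306)])])]), (52, [(62, [(20, [(44, 857), (53, 607)]), (25, [(27, 895), (47, 333)]), (39, [(18, 654), (24, 375)])])]), (54, [(64, [(18, [(44, 774), (51, 685)]), (24, [(27, 816), (46, 404)]), (32, [(20, 730), (25, 449)])])])])]), (4, [(16, [(35, [(15, [(60, [(46, 800), (47, 713)]), (63, [(25, 842), (39, 621)]), (65, [(24, 758), (32, 668)])])]),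 (59, [(45, [(11, [(63, 869), (65, 787)]), (46, [(8, 907), (39, 197)]), (47, [(6, 829), (32, 230)])])]), (62, [(52, [(8, [(60, 931), (65, 699)]), (25, [(11, 964), (47, 254)]), (39, [(6, 744), (24, 292)])])]), (64, [(54, [(6, [(60, 856), (63, 773)]), (24, [(11, 894), (46, 319)]), (32, [(8, 815), (25, 361)])])])])]), (5, [(3, [(38, [(57, [(39, [(46, 801), (51, 527)]), (47, [(25, 843), (44, 435)]), (53, [(20, 574), (27, 480)])])]), (41, [(58, [(32, [(47, 870), (53, 606)]), (46, [(24, 908), (44, 348)]), (51, [(18, 653), (27, 390)])])]), (49, [(61, [(24, [(39, 932), (53, 511)]), (25, [(32, 965), (51, 419)]), (44, [(18, 558), (20, 464)])])]), (55, [(67, [(18, [(39, 684), (47, 590)]), (20, [(32, 729), (46, 495)]), (27, [(24, 637), (25, 542)])])])])]), (7, [(17, [(33, [(14, [(60, [(46, 880), (51, 620)]), (63, [(25, 918), (44, 525)]), (69, [(20, 667), (27, 572)])])]), (58, [(41, [(11, [(63, 942), (69, 698)]), (46, [(8, 975), (44, 137)]), (51, [(2, 743), (27, 164)])])]),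 (61, [(49, [(8, [(60, 995), (69, 604)]), (25, [(11, 1022), (51, 184)]), (44, [(2, 651), (20, 217)])])]), (67, [(55, [(2, [(60, 772), (63, 682)]), (20, [(11, 814), (46, 241)]), (27, [(8, 727), (25, 279)])])])])]), (9, [(19, [(30, [(13, [(60, [(47, 951), (53, 711)]), (65, [(24, 984), (44, 433)]), (70, [(18, 756), (27, 478)])])]), (57, [(38, [(11, [(65, 1004), (70, 785)]), (47, [(6, 1031), (44, 89)]), (53, [(1, 827), (27, 110)])])]), (61, [(49, [(6, [(60, 1047), (70, 509)]), (24, [(11, 1068), (53, 126)]), (44, [(1, 556), (18, 153)])])]), (67, [(55, [(1, [(60, 854), (65, 588)]), (18, [(11, 892), (47, 173)]), (27, [(6, 635), (24, 206)])])])])]), (10, [(22, [(26, [(12, [(60, [(51, 879), (53, 799)]), (69, [(20, 917), (39, 346)]), (70, [(18, 841), (32, 388)])])]), (56, [(36, [(11, [(69, 941), (70, 868)]), (51, [(2, 974), (39, 53)]), (53, [(1, 906), (32, 68)])])]), (62, [(52, [(2, [(60, 994), (70, 417)]), (20, [(11, 1021), (53, 80)]), (39, [(1, 462), (18, 101)])])]),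 (64, [(54, [(1, [(60, 930), (69, 493)]), (18, [(11, 963), (51, 117)]), (32, [(2, 540), (20, 144)])])])])]), (12, [(26, [(22, [(10, [(63, [(39, 1010), (53, 618)]), (65, [(32, 1037), (51, 523)]), (71, [(18, 665), (20, 570)])])]), (57, [(38, [(8, [(65, 1053), (71, 696)]), (39, [(6, 1074), (51, 54)]), (53, [(0, 741), (20, 69)])])]), (58, [(41, [(6, [(63, 1086), (71, 602)]), (32, [(8, 1101), (53, 81)]), (51, [(0, 649), (18, 102)])])]), (67, [(55, [(0, [(63, 770), (65, 680)]), (18, [(8, 812), (39, 118)]), (20, [(6, 725), (32, 145)])])])])]), (13, [(30, [(19, [(9, [(63, [(44, 949), (53, 712)]), (69, [(27, 982), (47, 431)]), (71, [(18, 757), (24, 476)])])]), (56, [(36, [(8, [(69, 1002), (71, 786)]), (44, [(2, 1029), (47, 29)]), (53, [(0, 828), (24, 39)])])]), (59, [(45, [(2, [(63, 1045), (71, 507)]), (27, [(8, 1066), (53, 47)]), (47, [(0, 554), (18, 62)])])]), (64, [(54, [(0, [(63, 855), (69, 586)]), (18, [(8, 893), (44, 74)]), (24, [(2, 633), (27, 95)])])])])]),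 (14, [(33, [(17, [(7, [(65, [(44, 877), (51, 796)]), (70, [(27, 915), (46, 519)]), (71, [(20, 838), (25, 566)])])]), (56, [(36, [(6, [(70, 939), (71, 865)]), (44, [(1, 972), (46, 13)]), (51, [(0, 903), (25, 19)])])]), (59, [(45, [(1, [(65, 992), (71, 598)]), (27, [(6, 1019), (51, 24)]), (46, [(0, 645), (20, 34)])])]), (62, [(52, [(0, [(65, 927), (70, 676)]), (20, [(6, 960), (44, 42)]), (25, [(1, 721), (27, 57)])])])])]), (15, [(35, [(16, [(4, [(69, [(39, 795), (47, 707)]), (70, [(32, 837), (46, 614)]), (71, [(24, 752), (25, 661)])])]), (57, [(38, [(2, [(70, 864), (71, 781)]), (39, [(1, 902), (46, 4)]), (47, [(0, 823), (25, 7)])])]), (58, [(41, [(1, [(69, 926), (71, 692)]), (32, [(2, 959), (47, 10)]), (46, [(0, 737), (24, 16)])])]), (61, [(49, [(0, [(69, 850), (70, 766)]), (24, [(2, 888), (39, 21)]), (25, [(1, 808), (32, 31)])])])])]), (16, [(4, [(37, [(42, [(39, [(46, 881), (63, 436)]), (47, [(25, 919), (60, 349)]), (65, [(8, 481), (11, 391)])])]), (40,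 [(43, [(32, [(47, 943), (65, 512)]), (46, [(24, 976), (60, 269)]), (63, [(6, 559), (11, 307)])])]), (48, [(50, [(24, [(39, 996), (65, 420)]), (25, [(32, 1023), (63, 334)]), (60, [(6, 465), (8, 376)])])]), (66, [(68, [(6, [(39, 591), (47, 496)]), (8, [(32, 638), (46, 405)]), (11, [(24, 543), (25, 450)])])])])]), (17, [(7, [(34, [(29, [(44, [(46, 952), (63, 526)]), (51, [(25, 985), (60, 434)]), (69, [(8, 573), (11, 479)])])]), (43, [(40, [(27, [(51, 1005), (69, 605)]), (46, [(20, 1032), (60, 198)]), (63, [(2, 652), (11, 231)])])]), (50, [(48, [(20, [(44, 1048), (69, 510)]), (25, [(27, 1069), (63, 255)]), (60, [(2, 557), (8, 293)])])]), (68, [(66, [(2, [(44, 683), (51, 589)]), (8, [(27, 728), (46, 320)]), (11, [(20, 636), (25, 362)])])])])]), (19, [(9, [(31, [(28, [(44, [(47, 1012), (65, 619)]), (53, [(24, 1039), (60, 347)]), (70, [(6, 666), (11, 389)])])]), (42, [(37, [(27, [(53, 1055), (70, 697)]), (47, [(18, 1076), (60, 138)]), (65, [(1, 742), (11, 165)])])]),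 (50, [(48, [(18, [(44, 1088), (70, 418)]), (24, [(27, 1103), (65, 185)]), (60, [(1, 463), (6, 218)])])]), (68, [(66, [(1, [(44, 771), (53, 494)]), (6, [(27, 813), (47, 242)]), (11, [(18, 541), (24, 280)])])])])]), (21, [(23, [(12, [(26, [(44, [(63, 950), (65, 878)]), (69, [(8, 983), (39, 266)]), (70, [(6, 916), (32, 304)])])]), (15, [(35, [(27, [(69, 1003), (70, 940)]), (63, [(2, 1030), (39, 87)]), (65, [(1, 973), (32, 108)])])]), (52, [(62, [(2, [(44, 1046), (70, 331)]), (8, [(27, 1067), (65, 124)]), (39, [(1, 373), (6, 151)])])]), (54, [(64, [(1, [(44, 993), (69, 402)]), (6, [(27, 1020), (63, 171)]), (32, [(2, 447), (8, 204)])])])])]), (22, [(10, [(28, [(31, [(39, [(51, 1060), (69, 710)]), (53, [(20, 1081), (60, 267)]), (70, [(2, 755), (11, 305)])])]), (29, [(34, [(32, [(53, 1093), (70, 784)]), (51, [(18, 1108), (60, 196)]), (69, [(1, 826), (11, 229)])])]), (48, [(50, [(18, [(39, 1116), (70, 332)]), (20, [(32, 1126), (69, 253)]), (60, [(1, 374), (2,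 291)])])]), (66, [(68, [(1, [(39, 853), (53, 403)]), (2, [(32, 891), (51, 318)]), (11, [(18, 448), (20, 360)])])])])]), (23, [(21, [(13, [(30, [(39, [(63, 1011), (69, 797)]), (65, [(8, 1038), (44, 195)]), (70, [(2, 839), (27, 228)])])]), (14, [(33, [(32, [(65, 1054), (70, 866)]), (63, [(6, 1075), (44, 135)]), (69, [(1, 904), (27, 162)])])]), (49, [(61, [(6, [(39, 1087), (70, 252)]), (8, [(32, 1102), (69, 182)]), (44, [(1, 290), (2, 215)])])]), (55, [(67, [(1, [(39, 928), (65, 317)]), (2, [(32, 961), (63, 239)]), (27, [(6, 359), (8, 277)])])])])]), (26, [(12, [(23, [(21, [(51, [(39, 1059), (65, 524)]), (53, [(32, 1080), (63, 432)]), (71, [(6, 571), (8, 477)])])]), (42, [(37, [(20, [(53, 1092), (71, 603)]), (39, [(18, 1107), (63, 90)]), (65, [(0, 650), (8, 111)])])]), (43, [(40, [(18, [(51, 1115), (71, 508)]), (32, [(20, 1125), (65, 127)]), (63, [(0, 555), (6, 154)])])]), (68, [(66, [(0, [(51, 681), (53, 587)]), (6, [(20, 726), (39, 174)]), (8, [(18, 634),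 (32, 207)])])])])]), (28, [(31, [(9, [(19, [(51, [(60, 1009), (65, 798)]), (69, [(11, 1036), (47, 344)]), (71, [(6, 840), (24, 386)])])]), (15, [(35, [(20, [(69, 1052), (71, 867)]), (60, [(2, 1073), (47, 52)]), (65, [(0, 905), (24, 67)])])]), (45, [(59, [(2, [(51, 1085), (71, 415)]), (11, [(20, 1100), (65, 79)]), (47, [(0, 460), (6, 100)])])]), (54, [(64, [(0, [(51, 929), (69, 491)]), (6, [(20, 962), (60, 116)]), (24, [(2, 538), (11, 143)])])])])]), (29, [(34, [(7, [(17, [(53, [(60, 948), (63, 876)]), (70, [(11, 981), (46, 427)]), (71, [(8, 914), (25, 472)])])]), (15, [(35, [(18, [(70, 1001), (71, 938)]), (60, [(1, 1028), (46, 28)]), (63, [(0, 971), (25, 38)])])]), (45, [(59, [(1, [(53, 1044), (71, 503)]), (11, [(18, 1065), (63, 46)]), (46, [(0, 550), (8, 61)])])]), (52, [(62, [(0, [(53, 991), (70, 582)]), (8, [(18, 1018), (60, 73)]), (25, [(1, 629), (11, 94)])])])])]), (30, [(13, [(21, [(23, [(47, [(44, 1096), (69, 617)]), (53, [(27, 1111), (63, 345)]),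 (71, [(2, 664), (8, 387)])])]), (29, [(34, [(24, [(53, 1119), (71, 695)]), (44, [(18, 1129), (63, 136)]), (69, [(0, 740), (8, 163)])])]), (40, [(43, [(18, [(47, 1134), (71, 416)]), (27, [(24, 1140), (69, 183)]), (63, [(0, 461), (2, 216)])])]), (66, [(68, [(0, [(47, 769), (53, 492)]), (2, [(24, 811), (44, 240)]), (8, [(18, 539), (27, 278)])])])])]), (31, [(28, [(10, [(22, [(47, [(60, 1058), (69, 709)]), (65, [(11, 1079), (51, 264)]), (71, [(2, 754), (20, 302)])])]), (14, [(33, [(24, [(65, 1091), (71, 783)]), (60, [(6, 1106), (51, 88)]), (69, [(0, 825), (20, 109)])])]), (41, [(58, [(6, [(47, 1114), (71, 329)]), (11, [(24, 1124), (69, 125)]), (51, [(0, 371), (2, 152)])])]), (55, [(67, [(0, [(47, 852), (65, 400)]), (2, [(24, 890), (60, 172)]), (20, [(6, 445), (11, 205)])])])])]), (33, [(14, [(21, [(23, [(46, [(44, 1121), (70, 522)]), (51, [(27, 1131), (65, 265)]), (71, [(1, 569), (6, 303)])])]), (28, [(31, [(25, [(51, 1136), (71, 601)]), (44, [(20, 1142),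 (65, 194)]), (70, [(0, 648), (6, 227)])])]), (37, [(42, [(20, [(46, 1145), (71, 330)]), (27, [(25, 1148), (70, 251)]), (65, [(0, 372), (1, 289)])])]), (66, [(68, [(0, [(46, 679), (51, 401)]), (1, [(25, 724), (44, 316)]), (6, [(20, 446), (27, 358)])])])])]), (34, [(29, [(10, [(22, [(46, [(60, 1095), (70, 616)]), (63, [(11, 1110), (53, 193)]), (71, [(1, 663), (18, 226)])])]), (13, [(30, [(25, [(63, 1118), (71, 694)]), (60, [(8, 1128), (53, 134)]), (70, [(0, 739), (18, 161)])])]), (38, [(57, [(8, [(46, 1133), (71, 250)]), (11, [(25, 1139), (70, 181)]), (53, [(0, 288), (1, 214)])])]), (55, [(67, [(0, [(46, 768), (63, 315)]), (1, [(25, 810), (60, 238)]), (18, [(8, 357), (11, 276)])])])])]), (35, [(15, [(23, [(21, [(46, [(39, 1137), (70, 430)]), (47, [(32, 1143), (69, 343)]), (71, [(1, 475), (2, 385)])])]), (31, [(28, [(25, [(47, 1146), (71, 506)]), (39, [(24, 1149), (69, 263)]), (70, [(0, 553), (2, 301)])])]), (34, [(29, [(24, [(46, 1150), (71, 414)]), (32,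 [(25, 1151), (70, 328)]), (69, [(0, 459), (1, 370)])])]), (68, [(66, [(0, [(46, 585), (47, 490)]), (1, [(25, 632), (39, 399)]), (2, [(24, 537), (32, 444)])])])])]), (36, [(56, [(22, [(10, [(46, [(39, 1120), (70, 342)]), (47, [(32, 1130), (69, 262)]), (71, [(1, 384), (2, 300)])])]), (30, [(13, [(25, [(47, 1135), (71, 413)]), (39, [(24, 1141), (69, 192)]), (70, [(0, 458), (2, 225)])])]), (33, [(14, [(24, [(46, 1144), (71, 327)]), (32, [(25, 1147), (70, 249)]), (69, [(0, 369), (1, 287)])])]), (67, [(55, [(0, [(46, 489), (47, 398)]), (1, [(25, 536), (39, 314)]), (2, [(24, 443), (32, 356)])])])])]), (37, [(42, [(9, [(19, [(46, [(60, 1057), (70, 521)]), (63, [(11, 1078), (53, 133)]), (71, [(1, 568), (18, 160)])])]), (12, [(26, [(25, [(63, 1090), (71, 600)]), (60, [(8, 1105), (53, 86)]), (70, [(0, 647), (18, 107)])])]), (36, [(56, [(8, [(46, 1113), (71, 180)]), (11, [(25, 1123), (70, 123)]), (53, [(0, 213), (1, 150)])])]), (54, [(64, [(0, [(46, 678), (63, 237)]),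 (1, [(25, 723), (60, 170)]), (18, [(8, 275), (11, 203)])])])])]), (38, [(57, [(19, [(9, [(46, [(44, 1094), (70, 429)]), (51, [(27, 1109), (65, 191)]), (71, [(1, 474), (6, 224)])])]), (26, [(12, [(25, [(51, 1117), (71, 505)]), (44, [(20, 1127), (65, 132)]), (70, [(0, 552), (6, 159)])])]), (35, [(15, [(20, [(46, 1132), (71, 248)]), (27, [(25, 1138), (70, 179)]), (65, [(0, 286), (1, 212)])])]), (64, [(54, [(0, [(46, 584), (51, 313)]), (1, [(25, 631), (44, 236)]), (6, [(20, 355), (27, 274)])])])])]), (40, [(43, [(7, [(17, [(47, [(60, 1008), (69, 612)]), (65, [(11, 1035), (51, 189)]), (71, [(2, 659), (20, 222)])])]), (12, [(26, [(24, [(65, 1051), (71, 690)]), (60, [(6, 1072), (51, 51)]), (69, [(0, 735), (20, 66)])])]), (36, [(56, [(6, [(47, 1084), (71, 246)]), (11, [(24, 1099), (69, 78)]), (51, [(0, 284), (2, 99)])])]), (52, [(62, [(0, [(47, 764), (65, 311)]), (2, [(24, 806), (60, 115)]), (20, [(6, 353), (11, 142)])])])])]), (41, [(58, [(17, [(7, [(47, [(44,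 1056), (69, 517)]), (53, [(27, 1077), (63, 258)]), (71, [(2, 564), (8, 296)])])]), (26, [(12, [(24, [(53, 1089), (71, 596)]), (44, [(18, 1104), (63, 85)]), (69, [(0, 643), (8, 106)])])]), (35, [(15, [(18, [(47, 1112), (71, 323)]), (27, [(24, 1122), (69, 122)]), (63, [(0, 365), (2, 149)])])]), (62, [(52, [(0, [(47, 674), (53, 394)]), (2, [(24, 719), (44, 169)]), (8, [(18, 439), (27, 202)])])])])]), (42, [(37, [(4, [(16, [(53, [(60, 875), (63, 793)]), (70, [(11, 913), (46, 340)]), (71, [(8, 835), (25, 382)])])]), (14, [(33, [(18, [(70, 937), (71, 862)]), (60, [(1, 970), (46, 12)]), (63, [(0, 900), (25, 18)])])]), (41, [(58, [(1, [(53, 990), (71, 411)]), (11, [(18, 1017), (63, 23)]), (46, [(0, 456), (8, 33)])])]), (49, [(61, [(0, [(53, 924), (70, 487)]), (8, [(18, 957), (60, 41)]), (25, [(1, 534), (11, 56)])])])])]), (43, [(40, [(4, [(16, [(51, [(60, 946), (65, 705)]), (69, [(11, 979), (47, 260)]), (71, [(6, 750), (24, 298)])])]), (13, [(30, [(20, [(69,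 999), (71, 779)]), (60, [(2, 1026), (47, 27)]), (65, [(0, 821), (24, 37)])])]), (38, [(57, [(2, [(51, 1042), (71, 325)]), (11, [(20, 1063), (65, 45)]), (47, [(0, 367), (6, 60)])])]), (49, [(61, [(0, [(51, 848), (69, 396)]), (6, [(20, 886), (60, 72)]), (24, [(2, 441), (11, 93)])])])])]), (45, [(59, [(16, [(4, [(51, [(39, 1006), (65, 425)]), (53, [(32, 1033), (63, 338)]), (71, [(6, 470), (8, 380)])])]), (30, [(13, [(20, [(53, 1049), (71, 501)]), (39, [(18, 1070), (63, 50)]), (65, [(0, 548), (8, 65)])])]), (33, [(14, [(18, [(51, 1082), (71, 409)]), (32, [(20, 1097), (65, 77)]), (63, [(0, 454), (6, 98)])])]), (61, [(49, [(0, [(51, 580), (53, 485)]), (6, [(20, 627), (39, 114)]), (8, [(18, 532), (32, 141)])])])])]), (48, [(50, [(7, [(17, [(39, [(63, 947), (69, 703)]), (65, [(8, 980), (44, 131)]), (70, [(2, 748), (27, 158)])])]), (9, [(19, [(32, [(65, 1000), (70, 777)]), (63, [(6, 1027), (44, 84)]), (69, [(1, 819), (27, 105)])])]), (36, [(56, [(6, [(39, 1043),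 (70, 178)]), (8, [(32, 1064), (69, 121)]), (44, [(1, 211), (2, 148)])])]), (45, [(59, [(1, [(39, 846), (65, 235)]), (2, [(32, 884), (63, 168)]), (27, [(6, 273), (8, 201)])])])])]), (49, [(61, [(17, [(7, [(39, [(51, 1007), (69, 610)]), (53, [(20, 1034), (60, 188)]), (70, [(2, 657), (11, 221)])])]), (19, [(9, [(32, [(53, 1050), (70, 688)]), (51, [(18, 1071), (60, 130)]), (69, [(1, 733), (11, 157)])])]), (35, [(15, [(18, [(39, 1083), (70, 245)]), (20, [(32, 1098), (69, 177)]), (60, [(1, 283), (2, 210)])])]), (59, [(45, [(1, [(39, 762), (53, 310)]), (2, [(32, 804), (51, 234)]), (11, [(18, 352), (20, 272)])])])])]), (50, [(48, [(4, [(16, [(44, [(63, 873), (65, 791)]), (69, [(8, 911), (39, 190)]), (70, [(6, 833), (32, 223)])])]), (10, [(22, [(27, [(69, 935), (70, 860)]), (63, [(2, 968), (39, 49)]), (65, [(1, 898), (32, 64)])])]), (38, [(57, [(2, [(44, 988), (70, 247)]), (8, [(27, 1015), (65, 76)]), (39, [(1, 285), (6, 97)])])]), (41, [(58, [(1, [(44, 922),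 (69, 312)]), (6, [(27, 955), (63, 113)]), (32, [(2, 354), (8, 140)])])])])]), (52, [(62, [(16, [(4, [(44, [(47, 944), (65, 515)]), (53, [(24, 977), (60, 259)]), (70, [(6, 562), (11, 297)])])]), (22, [(10, [(27, [(53, 997), (70, 594)]), (47, [(18, 1024), (60, 83)]), (65, [(1, 641), (11, 104)])])]), (33, [(14, [(18, [(44, 1040), (70, 324)]), (24, [(27, 1061), (65, 120)]), (60, [(1, 366), (6, 147)])])]), (58, [(41, [(1, [(44, 672), (53, 395)]), (6, [(27, 717), (47, 167)]), (11, [(18, 440), (24, 200)])])])])]), (54, [(64, [(16, [(4, [(44, [(46, 871), (63, 423)]), (51, [(25, 909), (60, 337)]), (69, [(8, 468), (11, 379)])])]), (22, [(10, [(27, [(51, 933), (69, 499)]), (46, [(20, 966), (60, 129)]), (63, [(2, 546), (11, 156)])])]), (30, [(13, [(20, [(44, 986), (69, 408)]), (25, [(27, 1013), (63, 176)]), (60, [(2, 453), (8, 209)])])]), (57, [(38, [(2, [(44, 578), (51, 484)]), (8, [(27, 625), (46, 233)]), (11, [(20, 531), (25, 271)])])])])]), (55, [(67, [(17, [(7,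 [(39, [(46, 789), (63, 336)]), (47, [(25, 831), (60, 257)]), (65, [(8, 378), (11, 295)])])]), (19, [(9, [(32, [(47, 858), (65, 407)]), (46, [(24, 896), (60, 187)]), (63, [(6, 452), (11, 220)])])]), (26, [(12, [(24, [(39, 920), (65, 322)]), (25, [(32, 953), (63, 244)]), (60, [(6, 364), (8, 282)])])]), (56, [(36, [(6, [(39, 483), (47, 393)]), (8, [(32, 530), (46, 309)]), (11, [(24, 438), (25, 351)])])])])]), (56, [(36, [(5, [(3, [(69, [(39, 708), (47, 615)]), (70, [(32, 753), (46, 520)]), (71, [(24, 662), (25, 567)])])]), (42, [(37, [(2, [(70, 782), (71, 693)]), (39, [(1, 824), (46, 0)]), (47, [(0, 738), (25, 1)])])]), (43, [(40, [(1, [(69, 851), (71, 599)]), (32, [(2, 889), (47, 2)]), (46, [(0, 646), (24, 5)])])]), (50, [(48, [(0, [(69, 767), (70, 677)]), (24, [(2, 809), (39, 8)]), (25, [(1, 722), (32, 14)])])])])]), (57, [(38, [(3, [(5, [(65, [(44, 794), (51, 706)]), (70, [(27, 836), (46, 428)]), (71, [(20, 751), (25, 473)])])]), (29, [(34, [(6, [(70,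 863), (71, 780)]), (44, [(1, 901), (46, 3)]), (51, [(0, 822), (25, 6)])])]), (40, [(43, [(1, [(65, 925), (71, 504)]), (27, [(6, 958), (51, 9)]), (46, [(0, 551), (20, 15)])])]), (48, [(50, [(0, [(65, 849), (70, 583)]), (20, [(6, 887), (44, 20)]), (25, [(1, 630), (27, 30)])])])])]), (58, [(41, [(3, [(5, [(63, [(44, 874), (53, 613)]), (69, [(27, 912), (47, 341)]), (71, [(18, 660), (24, 383)])])]), (28, [(31, [(8, [(69, 936), (71, 691)]), (44, [(2, 969), (47, 11)]), (53, [(0, 736), (24, 17)])])]), (37, [(42, [(2, [(63, 989), (71, 412)]), (27, [(8, 1016), (53, 22)]), (47, [(0, 457), (18, 32)])])]), (48, [(50, [(0, [(63, 765), (69, 488)]), (18, [(8, 807), (44, 40)]), (24, [(2, 535), (27, 55)])])])])]), (59, [(45, [(5, [(3, [(63, [(39, 945), (53, 518)]), (65, [(32, 978), (51, 426)]), (71, [(18, 565), (20, 471)])])]), (31, [(28, [(8, [(65, 998), (71, 597)]), (39, [(6, 1025), (51, 26)]), (53, [(0, 644), (20, 36)])])]), (34, [(29, [(6, [(63, 1041), (71, 502)]),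 (32, [(8, 1062), (53, 44)]), (51, [(0, 549), (18, 59)])])]), (50, [(48, [(0, [(63, 675), (65, 581)]), (18, [(8, 720), (39, 71)]), (20, [(6, 628), (32, 92)])])])])]), (61, [(49, [(3, [(5, [(60, [(51, 792), (53, 704)]), (69, [(20, 834), (39, 261)]), (70, [(18, 749), (32, 299)])])]), (21, [(23, [(11, [(69, 861), (70, 778)]), (51, [(2, 899), (39, 25)]), (53, [(1, 820), (32, 35)])])]), (37, [(42, [(2, [(60, 923), (70, 326)]), (20, [(11, 956), (53, 43)]), (39, [(1, 368), (18, 58)])])]), (40, [(43, [(1, [(60, 847), (69, 397)]), (18, [(11, 885), (51, 70)]), (32, [(2, 442), (20, 91)])])])])]), (62, [(52, [(5, [(3, [(60, [(47, 872), (53, 611)]), (65, [(24, 910), (44, 339)]), (70, [(18, 658), (27, 381)])])]), (23, [(21, [(11, [(65, 934), (70, 689)]), (47, [(6, 967), (44, 48)]), (53, [(1, 734), (27, 63)])])]), (34, [(29, [(6, [(60, 987), (70, 410)]), (24, [(11, 1014), (53, 75)]), (44, [(1, 455), (18, 96)])])]), (43, [(40, [(1, [(60, 763), (65, 486)]), (18, [(11,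 805), (47, 112)]), (27, [(6, 533), (24, 139)])])])])]), (64, [(54, [(5, [(3, [(60, [(46, 790), (51, 516)]), (63, [(25, 832), (44, 424)]), (69, [(20, 563), (27, 469)])])]), (23, [(21, [(11, [(63, 859), (69, 595)]), (46, [(8, 897), (44, 82)]), (51, [(2, 642), (27, 103)])])]), (31, [(28, [(8, [(60, 921), (69, 500)]), (25, [(11, 954), (51, 119)]), (44, [(2, 547), (20, 146)])])]), (42, [(37, [(2, [(60, 673), (63, 579)]), (20, [(11, 718), (46, 166)]), (27, [(8, 626), (25, 199)])])])])]), (66, [(68, [(7, [(17, [(39, [(46, 701), (51, 421)]), (47, [(25, 746), (44, 335)]), (53, [(20, 466), (27, 377)])])]), (9, [(19, [(32, [(47, 775), (53, 497)]), (46, [(24, 817), (44, 256)]), (51, [(18, 544), (27, 294)])])]), (12, [(26, [(24, [(39, 844), (53, 406)]), (25, [(32, 882), (51, 321)]), (44, [(18, 451), (20, 363)])])]), (15, [(35, [(18, [(39, 576), (47, 482)]), (20, [(32, 623), (46, 392)]), (27, [(24, 529), (25, 437)])])])])]), (67, [(55, [(3, [(5, [(60, [(46, 702), (47,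 609)]), (63, [(25, 747), (39, 514)]), (65, [(24, 656), (32, 561)])])]), (21, [(23, [(11, [(63, 776), (65, 687)]), (46, [(8, 818), (39, 128)]), (47, [(6, 732), (32, 155)])])]), (28, [(31, [(8, [(60, 845), (65, 593)]), (25, [(11, 883), (47, 175)]), (39, [(6, 640), (24, 208)])])]), (29, [(34, [(6, [(60, 761), (63, 671)]), (24, [(11, 803), (46, 232)]), (32, [(8, 716), (25, 270)])])])])]), (68, [(66, [(4, [(16, [(44, [(46, 608), (47, 513)]), (51, [(25, 655), (39, 422)]), (53, [(24, 560), (32, 467)])])]), (10, [(22, [(27, [(51, 686), (53, 592)]), (46, [(20, 731), (39, 186)]), (47, [(18, 639), (32, 219)])])]), (13, [(30, [(20, [(44, 760), (53, 498)]), (25, [(27, 802), (47, 243)]), (39, [(18, 545), (24, 281)])])]), (14, [(33, [(18, [(44, 670), (51, 577)]), (24, [(27, 715), (46, 308)]), (32, [(20, 624), (25, 350)])])])])])]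

/-- lookup in an association list with a default -/
def h8ftLk {β : Type} (l : List (ℕ × β)) (a : ℕ) (d : β) : β := (l.lookup a).getD d

/-- the index of the element with given images of the simple roots -/
def h8ftDec6 (a b c d e f : ℕ) : ℕ :=
  h8ftLk (h8ftLk (h8ftLk (h8ftLk (h8ftLk (h8ftLk h8ftTrie a []) b []) c []) d []) e []) f 0

def h8ftDec (x : H8Ft) : ℕ :=
  h8ftDec6 (h8ftU x.N 56) (h8ftU x.N 36) (h8ftU x.N 42) (h8ftU x.N 37) (h8ftU x.N 39)
    (h8ftU x.N 46)

theorem h8ftK4 : ∀ k < 1152, h8ftDec (h8ftR k) = k := by decide +kernel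

/-- the multiplicities of the lengths -/
def h8ftCnt : List ℕ := [1, 2, 4, 6, 9, 13, 17, 22, 26, 32, 37, 43, 47, 51, 55, 58, 61, 61, 62,
  61, 61, 58, 55, 51, 47, 43, 37, 32, 26, 22, 17, 13, 9, 6, 4, 2, 1]

theorem h8ftK5 : ∀ l < 37, h8ftLenT.count l = h8ftCnt.getD l 0 := by decide +kernel

theorem h8ftK6 : h8ftLenT.all (fun x => decide (x < 37)) = true := by decide +kernel

end Cfsg.Agent.Lib.helper8
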