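import Mathlib
import Cfsg.Prelude.Def_ChevStructure
import Cfsg.Prelude.Def_LieTwisted
import Cfsg.Agent.Lib.helper8.ChevTwE6W4
import Cfsg.Agent.Lib.helper8.ChevTwO4
import Cfsg.Agent.Lib.helper8.ChevTwE6B

set_option autoImplicit false

namespace Cfsg.Agent.Lib.helper8

open Cfsg.Lie Cfsg.Lie.ChevalleyDatum

theorem h8ftR_mem (k : ℕ) (hk : k < 1152) : h8ftR k ∈ h8ftChunk (k / 128) := by
  unfold h8ftR
  have hc : k / 128 < 9 := by omega
  have hl := h8ftChunk_length _ hc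
  rw [List.getD_eq_getElem _ _ (by rw [hl]; exact Nat.mod_lt _ (by norm_num))]
  exact List.getElem_mem _

theorem h8ftR_chkA (k : ℕ) (hk : k < 1152) : h8ftChkA (h8ftR k) = true :=
  List.all_eq_true.1 (h8ftChkA_all _ (by omega)) _ (h8ftR_mem k hk)

theorem h8ftR_chkP (k : ℕ) (hk : k < 1152) : h8ftChkP (h8ftR k) = true :=
  List.all_eq_true.1 (h8ftChkP_all _ (by omega)) _ (h8ftR_mem k hk)

theorem h8ftR_A1 (k : ℕ) (hk : k < 1152) : ∀ r < 72,
    h8ftU (h8ftR k).N r = h8ftU (h8ftOA (h8ftR k).fl) (h8ftU (h8ftR k).pN r) := by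
  have h := h8ftR_chkA k hk
  unfold h8ftChkA at h
  simp only [Bool.and_eq_true, List.all_eq_true, List.mem_range, beq_iff_eq,
    decide_eq_true_eq] at h
  exact h.1.1

theorem h8ftR_A2 (k : ℕ) (hk : k < 1152) : ∀ i < 6,
    h8ftU (h8ftR k).N (h8ftU (h8ftR k).ik i) = chevE6.simple i ∧ h8ftU (h8ftR k).ik i < 72 := by
  have h := h8ftR_chkA k hk
  unfold h8ftChkA at h
  simp only [Bool.and_eq_true, List.all_eq_true, List.mem_range, beq_iff_eq,
    decide_eq_true_eq] at h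
  exact h.1.2

theorem h8ftR_A3 (k : ℕ) (hk : k < 1152) : ∀ j < 4, ∀ r < 72,
    h8ftU ((h8ftR k).mtN.getD j 0) r = h8ftU (h8ftOA j) (h8ftU (h8ftR k).N r) := by
  have h := h8ftR_chkA k hk
  unfold h8ftChkA at h
  simp only [Bool.and_eq_true, List.all_eq_true, List.mem_range, beq_iff_eq,
    decide_eq_true_eq] at h
  exact h.2

theorem h8ftR_P (k : ℕ) (hk : k < 1152) : ∀ i ∈ h8wE6 (h8ftR k).fl,
    chevE6.IsPosRoot (h8ftU (h8ftR k).pik i) := by
  have h := h8ftR_chkP k hk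
  unfold h8ftChkP at h
  simp only [List.all_eq_true, decide_eq_true_eq] at h
  exact h

theorem h8ft_F2 (k : ℕ) : ∀ i ∈ h8ftW k, i < chevE6.rank := by
  intro i hi
  unfold h8ftW at hi
  by_cases hk : k < h8ftWT.length
  · rw [List.getD_eq_getElem _ _ hk] at hi
    have := List.all_eq_true.1 h8ftWT_lt _ (List.getElem_mem hk)
    exact of_decide_eq_true (List.all_eq_true.1 this i hi)
  · rw [List.getD_eq_default _ _ (by omega)] at hi
    exact absurd hi List.not_mem_nil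

/-- the packed rows are the actions of the words -/
theorem h8ft_row (hA : H8ReflAll chevE6) : ∀ k < 1152, ∀ r < 72,
    h8ftU (h8ftR k).N r = h8sW chevE6 (h8ftW k) r := by
  intro k
  induction k using Nat.strong_induction_on with
  | _ k ih =>
    intro hk r hr
    by_cases hk1 : 1 ≤ k
    · obtain ⟨hp, hfl, hpN, _, _, hW⟩ := (h8ftK2 k hk).1 hk1
      rw [h8ftR_A1 k hk r hr, hpN, ih _ hp (by omega) r hr,
        h8ftOA_ok _ hfl _ (h8sW_lt chevE6 hA _ (h8ft_F2 _) r hr), hW, h8sW_append]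
    · have : k = 0 := by omega
      subst this
      rw [h8ftK0.1 r hr, h8ftK0.2.1]
      rfl

theorem h8sW_reverse' (D : ChevalleyDatum) (hA : H8ReflAll D) (w : List ℕ)
    (hw : ∀ i ∈ w, i < D.rank) (s : ℕ) (hs : s < D.nroots) :
    h8sW D w.reverse (h8sW D w s) = s := by
  have := h8sW_reverse D hA w.reverse (fun i hi => hw i (List.mem_reverse.1 hi)) s hs
  rw [List.reverse_reverse] at this
  exact this

/-- the packed inverse images of the simple roots -/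
theorem h8ft_ik (hA : H8ReflAll chevE6) : ∀ k < 1152, ∀ i < 6,
    h8ftU (h8ftR k).ik i = h8sW chevE6 (h8ftW k).reverse (chevE6.simple i) := by
  intro k hk i hi
  obtain ⟨h1, h2⟩ := h8ftR_A2 k hk i hi
  rw [h8ft_row hA k hk _ h2] at h1
  rw [← h1, h8sW_reverse' chevE6 hA _ (h8ft_F2 k) _ h2]

theorem h8posW_one (D : ChevalleyDatum) (i : ℕ) (v : List ℕ)
    (h : D.IsPosRoot (h8sW D v.reverse (D.simple i))) : h8posW D [i] v = true := by
  simp only [h8posW, List.nil_append, Bool.and_true, decide_eq_true_eq]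
  exact h

theorem h8posW_two (D : ChevalleyDatum) (a b : ℕ) (v : List ℕ)
    (hab : D.reflectRoot b (D.simple a) = D.simple a)
    (ha : D.IsPosRoot (h8sW D v.reverse (D.simple a)))
    (hb : D.IsPosRoot (h8sW D v.reverse (D.simple b))) : h8posW D [a, b] v = true := by
  simp only [h8posW, List.nil_append, Bool.and_true, Bool.and_eq_true, decide_eq_true_eq]
  refine ⟨?_, hb⟩
  rw [List.reverse_append, h8sW_append]
  have : h8sW D [b].reverse (D.simple a) = D.reflectRoot b (D.simple a) := rfl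
  rw [this, hab]
  exact ha

theorem h8ft_orth : chevE6.reflectRoot 4 (chevE6.simple 2) = chevE6.simple 2 ∧
    chevE6.reflectRoot 5 (chevE6.simple 0) = chevE6.simple 0 ∧
    h8wE6 0 = [1] ∧ h8wE6 1 = [3] ∧ h8wE6 2 = [2, 4] ∧ h8wE6 3 = [0, 5] := by decide +kernel

/-- the lengths of the orbit reflections in the Weyl group of `E₆` -/
theorem h8ft_F1 (hA : H8ReflAll chevE6) : ∀ k < 1152, 1 ≤ k →
    (h8ftR k).par < k ∧ (h8ftR k).fl < 4 ∧
    h8ftW k = h8wE6 (h8ftR k).fl ++ h8ftW (h8ftR k).par ∧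
    h8posW chevE6 (h8wE6 (h8ftR k).fl) (h8ftW (h8ftR k).par) = true ∧
    (h8ftR k).len = h8ftA (h8ftR k).fl + (h8ftR (h8ftR k).par).len := by
  intro k hk hk1
  obtain ⟨hp, hfl, _, hpik, hlen, hW⟩ := (h8ftK2 k hk).1 hk1
  refine ⟨hp, hfl, hW, ?_, hlen⟩
  have hP := h8ftR_P k hk
  rw [hpik] at hP
  have hpos : ∀ i ∈ h8wE6 (h8ftR k).fl,
      chevE6.IsPosRoot (h8sW chevE6 (h8ftW (h8ftR k).par).reverse (chevE6.simple i)) := by
    intro i hi
    have hi6 : i < 6 := (h8uE6_wlt _ hfl).2 i hi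
    rw [← h8ft_ik hA _ (by omega) i hi6]
    exact hP i hi
  obtain ⟨o1, o2, w0, w1, w2, w3⟩ := h8ft_orth
  generalize (h8ftR k).fl = fl at hfl hpos ⊢
  interval_cases fl
  · rw [w0] at hpos ⊢
    exact h8posW_one _ _ _ (hpos 1 (by simp))
  · rw [w1] at hpos ⊢
    exact h8posW_one _ _ _ (hpos 3 (by simp))
  · rw [w2] at hpos ⊢
    exact h8posW_two _ _ _ _ o1 (hpos 2 (by simp)) (hpos 4 (by simp))
  · rw [w3] at hpos ⊢
    exact h8posW_two _ _ _ _ o2 (hpos 0 (by simp)) (hpos 5 (by simp))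

/-- the multiplication table -/
theorem h8ft_F3 (hA : H8ReflAll chevE6) : ∀ j < 4, ∀ k < 1152,
    (h8ftR k).mt.getD j 0 < 1152 ∧ ∀ r < chevE6.nroots,
    h8sW chevE6 (h8wE6 j ++ h8ftW k) r = h8sW chevE6 (h8ftW ((h8ftR k).mt.getD j 0)) r := by
  intro j hj k hk
  obtain ⟨hm, hmN⟩ := (h8ftK2 k hk).2.1 j hj
  refine ⟨hm, fun r hr => ?_⟩
  rw [← h8ft_row hA _ hm r hr, ← hmN, h8ftR_A3 k hk j hj r hr, h8ft_row hA k hk r hr,
    h8ftOA_ok j hj _ (h8sW_lt chevE6 hA _ (h8ft_F2 _) r hr), h8sW_append]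

/-- distinct elements act differently -/
theorem h8ft_F4 (hA : H8ReflAll chevE6) : ∀ k < 1152, ∀ k' < 1152, k ≠ k' →
    ∃ r < chevE6.nroots, h8sW chevE6 (h8ftW k) r ≠ h8sW chevE6 (h8ftW k') r := by
  intro k hk k' hk' hne
  by_contra hcon
  push_neg at hcon
  apply hne
  have h : ∀ r < 72, h8ftU (h8ftR k).N r = h8ftU (h8ftR k').N r := by
    intro r hr
    rw [h8ft_row hA k hk r hr, h8ft_row hA k' hk' r hr]
    exact hcon r hr
  rw [← h8ftK4 k hk, ← h8ftK4 k' hk']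
  unfold h8ftDec
  rw [h 56 (by norm_num), h 36 (by norm_num), h 42 (by norm_num), h 37 (by norm_num),
    h 39 (by norm_num), h 46 (by norm_num)]

set_option synthInstance.maxSize 1000 in
set_option synthInstance.maxHeartbeats 200000 in
theorem h8ft_F5 : ∀ j < 4,
    (∀ r ∈ h8Lb chevE6 h8posiE6 (h8blkOfE6 j), chevE6.IsNegRoot (h8sW chevE6 (h8wE6 j) r)) ∧
    (∀ r < chevE6.nroots, chevE6.IsPosRoot r → r ∉ h8Lb chevE6 h8posiE6 (h8blkOfE6 j) →
      chevE6.IsPosRoot (h8sW chevE6 (h8wE6 j) r)) ∧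
    (h8Lb chevE6 h8posiE6 (h8blkOfE6 j)).length = h8ftA j ∧ h8blkOfE6 j < 24 := by decide +kernel

theorem h8ft_len (k : ℕ) (hk : k < 1152) : (h8ftR k).len = h8ftLenT.getD k 0 :=
  (h8ftK2 k hk).2.2

end Cfsg.Agent.Lib.helper8
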