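import Mathlib
import Cfsg.Prelude.Def_ChevStructure
import Cfsg.Prelude.Def_LieTwisted
import Cfsg.Prelude.Def_LieExceptional
import Cfsg.Agent.Lib.helper8.ChevTwE6W5
import Cfsg.Agent.Lib.helper8.ChevTwE6H16
import Cfsg.Agent.Lib.helper8.ChevTwE6c

set_option autoImplicit false

namespace Cfsg.Agent.Lib.helper8

open Cfsg.Lie Cfsg.Lie.ChevalleyDatum H3

universe u

variable {K : Type u} [Field K]

theorem h8sum_getD (f : ℕ → ℕ) : ∀ L : List ℕ,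
    ∑ i ∈ Finset.range L.length, f (L.getD i 0) = (L.map f).sum
  | [] => by simp
  | a :: t => by
    rw [List.length_cons, Finset.sum_range_succ', List.map_cons, List.sum_cons, add_comm,
      ← h8sum_getD f t]
    congr 1

theorem h8sum_count (q m : ℕ) : ∀ L : List ℕ, (∀ x ∈ L, x < m) →
    (L.map (fun l => q ^ l)).sum = ∑ l ∈ Finset.range m, L.count l * q ^ l
  | [], _ => by simp
  | a :: t, h => by
    rw [List.map_cons, List.sum_cons,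
      h8sum_count q m t (fun x hx => h x (List.mem_cons_of_mem _ hx))]
    have ha : a ∈ Finset.range m := Finset.mem_range.2 (h a List.mem_cons_self)
    have e : ∀ l ∈ Finset.range m, (a :: t).count l * q ^ l =
        t.count l * q ^ l + (if a = l then q ^ l else 0) := by
      intro l _
      rw [List.count_cons]
      by_cases hal : a = l
      · subst hal
        simp [add_mul]
      · simp [hal]
    rw [Finset.sum_congr rfl e, Finset.sum_add_distrib, Finset.sum_ite_eq, if_pos ha, add_comm]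

theorem h8ft_poly (q : ℕ) (hq : 1 ≤ q) :
    (q - 1) ^ 4 * (q + 1) ^ 2 * (1 * q ^ 0 + 2 * q ^ 1 + 4 * q ^ 2 + 6 * q ^ 3 + 9 * q ^ 4 + 13 * q ^ 5 + 17 * q ^ 6 + 22 * q ^ 7 + 26 * q ^ 8 + 32 * q ^ 9 + 37 * q ^ 10 + 43 * q ^ 11 + 47 * q ^ 12 + 51 * q ^ 13 + 55 * q ^ 14 + 58 * q ^ 15 + 61 * q ^ 16 + 61 * q ^ 17 + 62 * q ^ 18 + 61 * q ^ 19 + 61 * q ^ 20 + 58 * q ^ 21 + 55 * q ^ 22 + 51 * q ^ 23 + 47 * q ^ 24 + 43 * q ^ 25 + 37 * q ^ 26 + 32 * q ^ 27 + 26 * q ^ 28 + 22 * q ^ 29 + 17 * q ^ 30 + 13 * q ^ 31 + 9 * q ^ 32 + 6 * q ^ 33 + 4 * q ^ 34 + 2 * q ^ 35 + 1 * q ^ 36) =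
      (q ^ 2 - 1) * (q ^ 5 + 1) * (q ^ 6 - 1) * (q ^ 8 - 1) * (q ^ 9 + 1) * (q ^ 12 - 1) := by
  have h2 : 1 ≤ q ^ 2 := Nat.one_le_pow _ _ hq
  have h6 : 1 ≤ q ^ 6 := Nat.one_le_pow _ _ hq
  have h8 : 1 ≤ q ^ 8 := Nat.one_le_pow _ _ hq
  have h12 : 1 ≤ q ^ 12 := Nat.one_le_pow _ _ hq
  zify [hq, h2, h6, h8, h12]
  ring

theorem h8ft_sum (q : ℕ) :
    ∑ l ∈ Finset.range 37, h8ftLenT.count l * q ^ l = 1 * q ^ 0 + 2 * q ^ 1 + 4 * q ^ 2 + 6 * q ^ 3 + 9 * q ^ 4 + 13 * q ^ 5 + 17 * q ^ 6 + 22 * q ^ 7 + 26 * q ^ 8 + 32 * q ^ 9 + 37 * q ^ 10 + 43 * q ^ 11 + 47 * q ^ 12 + 51 * q ^ 13 + 55 * q ^ 14 + 58 * q ^ 15 + 61 * q ^ 16 + 61 * q ^ 17 + 62 * q ^ 18 + 61 * q ^ 19 + 61 * q ^ 20 + 58 * q ^ 21 + 55 * q ^ 22 + 51 * q ^ 23 + 47 * q ^ 24 + 43 * q ^ 25 + 37 * q ^ 26 + 32 * q ^ 27 + 26 * q ^ 28 + 22 * q ^ 29 + 17 * q ^ 30 + 13 * q ^ 31 + 9 * q ^ 32 +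 6 * q ^ 33 + 4 * q ^ 34 + 2 * q ^ 35 + 1 * q ^ 36 := by
  rw [Finset.sum_congr rfl (fun l hl => by rw [h8ftK5 l (Finset.mem_range.1 hl)])]
  simp only [Finset.sum_range_succ, Finset.sum_range_zero, h8ftCnt, List.getD_cons_zero,
    List.getD_cons_succ, zero_add]

end Cfsg.Agent.Lib.helper8
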