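import Mathlib
import Cfsg.Prelude.Def_ChevStructure
import Cfsg.Prelude.Def_LieTwisted
import Cfsg.Prelude.Def_LieExceptional
import Cfsg.Agent.Lib.helper8.ChevTwE6O1

set_option autoImplicit false

namespace Cfsg.Agent.Lib.helper8

open Cfsg.Lie Cfsg.Lie.ChevalleyDatum H3

universe u

variable {K : Type u} [Field K]

theorem h8ftWT_length : h8ftWT.length = 1152 := by decide +kernel

theorem h8ftW_zero : h8ftW 0 = [] := h8ftK0.2.1

theorem h8ftW_big (k : ℕ) (hk : ¬ k < 1152) : h8ftW k = [] := by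
  unfold h8ftW
  exact List.getD_eq_default _ _ (by rw [h8ftWT_length]; omega)

/-- `gcd(3, q + 1) |²E₆(q)| = q³⁶ (q² - 1)(q⁵ + 1)(q⁶ - 1)(q⁸ - 1)(q⁹ + 1)(q¹² - 1)` -/
theorem h8twE6_card [Fintype K] {q : ℕ} (hq : IsPrimePow q) (hKc : Fintype.card K = q ^ 2) :
    Nat.gcd 3 (q + 1) * Nat.card ↥(twistedE6 K q) =
      q ^ 36 * (q ^ 2 - 1) * (q ^ 5 + 1) * (q ^ 6 - 1) * (q ^ 8 - 1) * (q ^ 9 + 1) *
        (q ^ 12 - 1) := by
  classical
  have hD : chevE6 ∈ [chevG2, chevB2, chevD4, chevF4, chevE6, chevE7, chevE8] := by simp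
  have hB := h8base_all.{u} chevE6 hD
  have hB0 := h8base_all.{0} chevE6 hD
  have hA := h8reflAll chevE6 hD
  have hC := h8commAll.{u} chevE6 hD
  have hBN := h8bn_all chevE6 hD
  have hW := h8bn2_all chevE6 hD
  obtain ⟨hO, hO2⟩ := h8ord_all chevE6 hD
  obtain ⟨f, hf, hff2, hneg⟩ := h8frob_exists hq 2 (by norm_num) hKc
  have hff : ∀ t, f (f t) = t := fun t => hff2 t
  have hσp : ∀ r, chevE6.IsPosRoot r →
      chevE6.IsPosRoot (h8sE6 r) ∧ h8posiE6 (h8sE6 r) = h8posiE6 r :=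
    fun r hr => ⟨(h8uE6_sig1 r hr.1 hr).1, (h8uE6_sig1 r hr.1 hr).2.1⟩
  have hUfix := h8twE6_U_fix hB hC hA hBN hO2 q f hf hff hneg
  have hfixG := h8twE6_fix hB hC hA q f hf hff
  have hnJ := h8twE6_nJ (K := K) hB hC q hneg
  have hG1 : twistedE6 K q ≤ chevE6.group K := h8gen_le_group chevE6 hB _
  have hfc : Nat.card {c : K // f c = c} = q :=
    h8frob_fix_card hq.one_lt (by norm_num) hKc f hf hff2
  have hK2 : Nat.card K = q ^ 2 := by rw [Nat.card_eq_fintype_card, hKc]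
  obtain ⟨P, hPB, hPN, hPS⟩ := h8tw_bnpair chevE6 hB hB0 hA hC hBN hW hO hO2 h8sE6 h8tE6 h8pE6
    h8qE6 h8eE6 (h8autE6 hA) f (h8mkRho chevE6 h8sE6 h8tE6 h8pE6 h8qE6 h8eE6 (h8autE6 hA))
    (fun r => rfl) h8piE6 h8orbsE6 (h8twE6 hA hBN) (fun r hr => (hσp r hr).1) (twistedE6 K q)
    hG1 hfixG hUfix hnJ h8twE6_disj (by
      intro J hJ
      have hk : ∃ k < 4, J = h8orbsE6.getD k [] := by
        simp only [h8orbsE6, List.mem_cons, List.not_mem_nil, or_false] at hJ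
        rcases hJ with rfl | rfl | rfl | rfl
        · exact ⟨0, by norm_num, rfl⟩
        · exact ⟨1, by norm_num, rfl⟩
        · exact ⟨2, by norm_num, rfl⟩
        · exact ⟨3, by norm_num, rfl⟩
      obtain ⟨k, hk4, rfl⟩ := hk
      obtain ⟨hne, hdata⟩ := h8twE6_xdata k hk4
      exact h8tw_xJ chevE6 hB hC hBN hO2 h8posiE6 h8uE6_blk h8uE6_read h8sE6 h8tE6 h8pE6 h8qE6
        h8eE6 (h8autE6 hA) f hσp (twistedE6 K q) hUfix _ (h8blkOfE6 k) hne hdata)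
  -- the orbit products and the elements
  have hwJ : ∀ j, ∀ i ∈ h8wE6 j, i < chevE6.rank := by
    intro j i hi
    unfold h8wE6 at hi
    exact h8J_lt chevE6 _ i hi
  have hsJ1 : ∀ j, (h8nWU chevE6 hB (h8wE6 j) : GL chevE6.Idx K) ∈ twistedE6 K q := by
    intro j
    by_cases hj : j < 4
    · exact hnJ _ (h8uE6_wlt j hj).1
    · have : h8wE6 j = [] := by
        unfold h8wE6
        rw [List.getD_eq_default _ _ (by simp only [h8orbsE6, List.length_cons, List.length_nil]; omega)]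
        rfl
      rw [this]
      unfold h8nWU
      simp
  have hnk1 : ∀ k, (h8nWU chevE6 hB (h8ftW k) : GL chevE6.Idx K) ∈ twistedE6 K q := by
    intro k
    induction k using Nat.strong_induction_on with
    | _ k ih =>
      by_cases hk : k < 1152
      · by_cases hk1 : 1 ≤ k
        · obtain ⟨h1, _, h3, _, _⟩ := h8ft_F1 hA k hk hk1
          rw [h3, h8nWU_append]
          exact Subgroup.mul_mem _ (hsJ1 _) (ih _ h1)
        · have : k = 0 := by omega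
          subst this
          rw [h8ftW_zero]
          unfold h8nWU
          simp
      · rw [h8ftW_big k hk]
        unfold h8nWU
        simp
  let sJ : ℕ → ↥(twistedE6 K q) := fun j => ⟨h8nWU chevE6 hB (h8wE6 j), hsJ1 j⟩
  let nn : ℕ → ↥(twistedE6 K q) := fun k => ⟨h8nWU chevE6 hB (h8ftW k), hnk1 k⟩
  have hS : ∀ j < 4, sJ j ∈ P.S := by
    intro j hj
    rw [hPS]
    exact ⟨_, (h8uE6_wlt j hj).1, rfl⟩
  have hSall : ∀ s ∈ P.S, ∃ j < 4, s = sJ j := by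
    intro s hs
    rw [hPS] at hs
    obtain ⟨J, hJ, e⟩ := hs
    simp only [h8orbsE6, List.mem_cons, List.not_mem_nil, or_false] at hJ
    rcases hJ with rfl | rfl | rfl | rfl
    · exact ⟨0, by norm_num, Subtype.ext e⟩
    · exact ⟨1, by norm_num, Subtype.ext e⟩
    · exact ⟨2, by norm_num, Subtype.ext e⟩
    · exact ⟨3, by norm_num, Subtype.ext e⟩
  have hN : ∀ k, nn k ∈ P.N := by
    intro k
    rw [hPN, Subgroup.mem_subgroupOf]
    exact ⟨h8nWU_mem_N chevE6 hB hA _ (h8ft_F2 k), hnk1 k⟩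
  have hmemB : ∀ c : ↥(twistedE6 K q), c ∈ P.B ↔ c.val ∈ chevE6.borelSubgroup K := by
    intro c
    rw [hPB, Subgroup.mem_subgroupOf]
    exact ⟨fun h => h.1, fun h => ⟨h, c.2⟩⟩
  have hnn0 : nn 0 = 1 := by
    apply Subtype.ext
    show h8nWU chevE6 hB (h8ftW 0) = 1
    rw [h8ftW_zero]
    unfold h8nWU
    simp
  have hstep : ∀ k < 1152, 1 ≤ k → nn k = sJ (h8ftR k).fl * nn (h8ftR k).par := by
    intro k hk hk1
    obtain ⟨_, _, h3, _, _⟩ := h8ft_F1 hA k hk hk1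
    apply Subtype.ext
    show h8nWU chevE6 hB (h8ftW k) = h8nWU chevE6 hB (h8wE6 (h8ftR k).fl) *
      h8nWU chevE6 hB (h8ftW (h8ftR k).par)
    rw [← h8nWU_append, ← h3]
  have hPp : ∀ k < 1152, 1 ≤ k → Pp P (sJ (h8ftR k).fl) (nn (h8ftR k).par) := by
    intro k hk hk1
    obtain ⟨_, h2, _, h4, _⟩ := h8ft_F1 hA k hk hk1
    apply h8tw_Pp chevE6 hB hA hC hBN (twistedE6 K q) P hPB _ _ (hS _ h2) (hN _)
      (h8nWU_mem_N chevE6 hB hA _ (hwJ _)) (h8nWU_mem_N chevE6 hB hA _ (h8ft_F2 _))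
    intro b hb
    obtain ⟨b1, hb1, b2, hb2, e⟩ := h8bn_pos_word chevE6 hB hA hC hBN _
      (h8ft_F2 (h8ftR k).par) _ (hwJ (h8ftR k).fl) h4 b hb
    refine ⟨b1, hb1, b2, hb2, ?_⟩
    show h8nWU chevE6 hB (h8wE6 (h8ftR k).fl) * b * h8nWU chevE6 hB (h8ftW (h8ftR k).par) =
      b1 * (h8nWU chevE6 hB (h8wE6 (h8ftR k).fl) * h8nWU chevE6 hB (h8ftW (h8ftR k).par)) * b2
    rw [← h8nWU_append]
    exact e
  have hBpos : 0 < Nat.card ↥P.B := Nat.card_pos
  -- rank one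
  have hrk1 : ∀ j < 4, Nat.card ↥(dc P (sJ j)) = Nat.card ↥P.B * q ^ h8ftA j := by
    intro j hj
    obtain ⟨h1, h2, h3, h4⟩ := h8ft_F5 j hj
    rw [h8tw_dc_card chevE6 hB hA hC hBN hW hO hO2 h8posiE6 h8uE6_blk h8uE6_read h8sE6 h8tE6
      h8pE6 h8qE6 h8eE6 (h8autE6 hA) f hσp (twistedE6 K q) hG1 hfixG hUfix P hPB (h8wE6 j)
      (hwJ j) (hsJ1 j) (h8blkOfE6 j) h1 (fun r hr => h2 r hr.1 hr),
      h8Bt_card_chk2 chevE6 h8posiE6 h8sE6 h8tE6 h8pE6 h8qE6 h8eE6 (h8autE6 hA) f q _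
        (h8uE6_chk _ h4) hff hfc hK2, h3]
  -- the sizes of the double cosets
  have hsize : ∀ k < 1152, Nat.card ↥(dc P (nn k)) = Nat.card ↥P.B * q ^ (h8ftR k).len := by
    intro k
    induction k using Nat.strong_induction_on with
    | _ k ih =>
      intro hk
      by_cases hk1 : 1 ≤ k
      · obtain ⟨h1, h2, _, _, h5⟩ := h8ft_F1 hA k hk hk1
        have hmul := h8dc_card_mul P (hS _ h2) (hN (h8ftR k).par) (hPp k hk hk1)
        rw [← hstep k hk hk1, hrk1 _ h2, ih _ h1 (by omega)] at hmul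
        apply Nat.eq_of_mul_eq_mul_right hBpos
        rw [hmul, h5, pow_add]
        ring
      · have : k = 0 := by omega
        subst this
        rw [hnn0, dc_one, h8ftK0.2.2, pow_zero, mul_one]
        rfl
  -- the multiplication table
  have hmt : ∀ j < 4, ∀ k < 1152,
      dc P (sJ j * nn k) = dc P (nn ((h8ftR k).mt.getD j 0)) := by
    intro j hj k hk
    obtain ⟨_, h2⟩ := h8ft_F3 hA j hj k hk
    rw [dc_eq_iff (P.N.mul_mem (S_mem_N (hS j hj)) (hN k)) (hN _), hmemB]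
    apply h8H_le_B
    have happ : ∀ i ∈ h8wE6 j ++ h8ftW k, i < chevE6.rank := by
      intro i hi
      rw [List.mem_append] at hi
      rcases hi with hi | hi
      · exact hwJ j i hi
      · exact h8ft_F2 k i hi
    have := h8nWU_same_H (K := K) chevE6 hB hA hBN hW hO2 _ _ happ
      (h8ft_F2 ((h8ftR k).mt.getD j 0)) h2
    rw [h8nWU_append] at this
    exact this
  -- covering
  have hcover : ∀ g : ↥(twistedE6 K q), ∃ k < 1152, g ∈ dc P (nn k) := by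
    have hstab : ∀ t ∈ (P.B : Set ↥(twistedE6 K q)) ∪ P.S,
        ∀ x ∈ {x : ↥(twistedE6 K q) | ∃ k < 1152, x ∈ dc P (nn k)},
        t * x ∈ {x : ↥(twistedE6 K q) | ∃ k < 1152, x ∈ dc P (nn k)} ∧
        t⁻¹ * x ∈ {x : ↥(twistedE6 K q) | ∃ k < 1152, x ∈ dc P (nn k)} := by
      rintro t (ht | ht) x ⟨k, hk, hx⟩
      · exact ⟨⟨k, hk, dc_mul_left ht hx⟩, ⟨k, hk, dc_mul_left (P.B.inv_mem ht) hx⟩⟩
      · obtain ⟨j, hj, rfl⟩ := hSall t ht
        obtain ⟨b1, hb1, b2, hb2, rfl⟩ := mem_dc.1 hx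
        have hk' := (h8ft_F3 hA j hj k hk).1
        constructor
        · have e : sJ j * (b1 * nn k * b2) = (sJ j * b1 * nn k) * b2 := by group
          rw [e]
          rcases t3 (hS j hj) (hN k) hb1 with h | h
          · rw [hmt j hj k hk] at h
            exact ⟨_, hk', dc_mul_right hb2 h⟩
          · exact ⟨k, hk, dc_mul_right hb2 h⟩
        · have e : (sJ j)⁻¹ * (b1 * nn k * b2) = ((sJ j)⁻¹ * b1 * nn k) * b2 := by group
          rw [e]
          rcases t3_inv (hS j hj) (hN k) hb1 with h | h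
          · rw [dc_sinv_mul (hS j hj) (hN k), hmt j hj k hk] at h
            exact ⟨_, hk', dc_mul_right hb2 h⟩
          · exact ⟨k, hk, dc_mul_right hb2 h⟩
    intro g
    have hg : g ∈ Subgroup.closure ((P.B : Set ↥(twistedE6 K q)) ∪ P.S) := by
      rw [top_eq_closure]
      exact Subgroup.mem_top g
    have h1 : (1 : ↥(twistedE6 K q)) ∈
        {x : ↥(twistedE6 K q) | ∃ k < 1152, x ∈ dc P (nn k)} := by
      refine ⟨0, by norm_num, ?_⟩
      rw [hnn0]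
      exact dc_self 1
    have := (closure_mul_mem hstab hg 1 h1).1
    rw [mul_one] at this
    exact this
  -- disjointness
  have hdisj : ∀ k < 1152, ∀ k' < 1152, ∀ g : ↥(twistedE6 K q), g ∈ dc P (nn k) →
      g ∈ dc P (nn k') → k = k' := by
    intro k hk k' hk' g hg hg'
    by_contra hne
    have e : dc P (nn k) = dc P (nn k') := (dc_eq_of_mem hg).symm.trans (dc_eq_of_mem hg')
    rw [dc_eq_iff (hN k) (hN k'), hmemB] at e
    have hcell : ∃ d1 ∈ chevE6.borelSubgroup K, ∃ d2 ∈ chevE6.borelSubgroup K,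
        (nn k').val = d1 * (nn k).val * d2 :=
      ⟨1, Subgroup.one_mem _, _, e, by
        show (nn k').val = 1 * (nn k).val * ((nn k).val⁻¹ * (nn k').val)
        group⟩
    have hH := h8cell_disjoint chevE6 hB hA hC hBN _ _
      (h8nWU_mem_N chevE6 hB hA _ (h8ft_F2 k')) (h8nWU_mem_N chevE6 hB hA _ (h8ft_F2 k)) hcell
    have hsame := h8nWU_H_same (K := K) chevE6 hB hA hBN hW hO2 _ _ (h8ft_F2 k') (h8ft_F2 k) hH
    obtain ⟨r, hr, hrne⟩ := h8ft_F4 hA k hk k' hk' hne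
    exact hrne (hsame r hr).symm
  -- the sum
  have hsum : Nat.card ↥(twistedE6 K q) = ∑ k : Fin 1152, Nat.card ↥(dc P (nn k.val)) := by
    rw [← Nat.card_sigma]
    symm
    apply Nat.card_congr
    refine Equiv.ofBijective (fun x : (Σ k : Fin 1152, ↥(dc P (nn k.val))) => x.2.val) ⟨?_, ?_⟩
    · rintro ⟨k, x, hx⟩ ⟨k', x', hx'⟩ h
      have hxx : x = x' := h
      subst hxx
      have := hdisj k.val k.2 k'.val k'.2 x hx hx'
      have hkk : k = k' := Fin.ext this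
      subst hkk
      rfl
    · intro g
      obtain ⟨k, hk, hg⟩ := hcover g
      exact ⟨⟨⟨k, hk⟩, ⟨g, hg⟩⟩, rfl⟩
  have hBcard := h8tw_B_card chevE6 hB hA hBN h8sE6 h8tE6 h8pE6 h8qE6 h8eE6 (h8autE6 hA) f
    (fun r hr => (hσp r hr).1) (twistedE6 K q) hfixG hUfix P hPB
  rw [h8twE6_U_card hq hKc] at hBcard
  have hHc := h8twE6_H_card hq hKc
  have hterm : ∀ k : Fin 1152, Nat.card ↥(dc P (nn k.val)) =
      Nat.card ↥P.B * q ^ (h8ftLenT.getD k.val 0) := by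
    intro k
    rw [hsize k.val k.2, h8ft_len k.val k.2]
  have hS2 : ∑ k : Fin 1152, q ^ (h8ftLenT.getD k.val 0) = (1 * q ^ 0 + 2 * q ^ 1 + 4 * q ^ 2 + 6 * q ^ 3 + 9 * q ^ 4 + 13 * q ^ 5 + 17 * q ^ 6 + 22 * q ^ 7 + 26 * q ^ 8 + 32 * q ^ 9 + 37 * q ^ 10 + 43 * q ^ 11 + 47 * q ^ 12 + 51 * q ^ 13 + 55 * q ^ 14 + 58 * q ^ 15 + 61 * q ^ 16 + 61 * q ^ 17 + 62 * q ^ 18 + 61 * q ^ 19 + 61 * q ^ 20 + 58 * q ^ 21 + 55 * q ^ 22 + 51 * q ^ 23 + 47 * q ^ 24 + 43 * q ^ 25 + 37 * q ^ 26 + 32 * q ^ 27 + 26 * q ^ 28 + 22 * q ^ 29 + 17 * q ^ 30 + 13 * q ^ 31 + 9 * q ^ 32 + 6 * q ^ 33 + 4 * q ^ 34 + 2 * q ^ 35 + 1 * q ^ 36) := by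
    rw [Fin.sum_univ_eq_sum_range (fun i => q ^ (h8ftLenT.getD i 0)) 1152, ← h8ftLenT_length,
      h8sum_getD (fun l => q ^ l) h8ftLenT, h8sum_count q 37 h8ftLenT
        (fun x hx => of_decide_eq_true (List.all_eq_true.1 h8ftK6 x hx)), h8ft_sum]
  have hfin : q ^ 36 * (q ^ 2 - 1) * (q ^ 5 + 1) * (q ^ 6 - 1) * (q ^ 8 - 1) * (q ^ 9 + 1) *
      (q ^ 12 - 1) = q ^ 36 * ((q ^ 2 - 1) * (q ^ 5 + 1) * (q ^ 6 - 1) * (q ^ 8 - 1) *
        (q ^ 9 + 1) * (q ^ 12 - 1)) := by ring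
  rw [hsum, Finset.sum_congr rfl (fun k _ => hterm k), ← Finset.mul_sum, hS2, hBcard, hfin,
    ← h8ft_poly q hq.one_lt.le, ← hHc]
  ring

end Cfsg.Agent.Lib.helper8
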