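import Mathlib
import Cfsg.Prelude.Def_ChevF4
import Cfsg.Agent.Lib.helper8.ChevTabCoxF4S

set_option autoImplicit false

namespace Cfsg.Agent.Lib.helper8

open Cfsg.Lie

def h8cxT_F4_1 : ℕ := 0x2f2e2d28201f1e2c2726251d1c1b0e2b2a292423221a19181716150d0c0b060504211413120a09080311100f070201002f2e2d2c2b2a292827262524232221201f1e1d1c1b1a191817161514131211100f0e0d0c0b0a09080706050403020100

def h8cxP_F4_1 : ℕ := 0x0

def h8cxG_F4_1 : ℕ := 0x0

def h8cxC_F4_1 : ℕ := 0x2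

def h8cxM_F4_1 : ℕ := 0xffffff000000

set_option maxRecDepth 100000 in
theorem h8cxRow_F4_1_0 : (List.range' 0 2).all (h8lvRow chevF4 h8cxS_F4 h8cxT_F4_1
    h8cxP_F4_1 h8cxG_F4_1 h8cxC_F4_1 h8cxM_F4_1 1 2) = true := by decide +kernel

theorem h8cxRows_F4_1 : ∀ k < 2, h8lvRow chevF4 h8cxS_F4 h8cxT_F4_1
    h8cxP_F4_1 h8cxG_F4_1 h8cxC_F4_1 h8cxM_F4_1 1 2 k = true := by
  intro k hk
  exact h8rows_of_chunk _ _ _ h8cxRow_F4_1_0 k (by omega) (by omega)

set_option maxRecDepth 100000 in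
theorem h8cxMask_F4_1 : h8lvMask chevF4 h8cxS_F4 h8cxM_F4_1 1 = true := by decide +kernel

set_option maxRecDepth 100000 in
theorem h8cxKeys_F4_1 : h8lvKeys chevF4 h8cxT_F4_1 2 = true := by decide +kernel

set_option maxRecDepth 100000 in
theorem h8cxDense_F4_1 : h8dense ((List.range 2).map (h8invT chevF4.nroots h8cxT_F4_1)) =
    [1, 1] := by decide +kernel

end Cfsg.Agent.Lib.helper8
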