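import Mathlib
import Cfsg.Prelude.Def_ChevF4
import Cfsg.Agent.Lib.helper8.ChevTabCoxF4S

set_option autoImplicit false

namespace Cfsg.Agent.Lib.helper8

open Cfsg.Lie

def h8cxT_F4_2 : ℕ := 0x2f2e20282d1f1e272c1d1c26250e1b2b1a1924230d2a2918170605220c0b16150414210a0913120308111002070f01002f2e2b2c2d2a292728242326252122201a191d1c141f1e181711101b131216150f0d0e0a090c0b0708060502030401002f2e2d2c2b2a292827262524232221201f1e1d1c1b1a191817161514131211100f0e0d0c0b0a09080706050403020100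

def h8cxP_F4_2 : ℕ := 0x10000

def h8cxG_F4_2 : ℕ := 0x100

def h8cxC_F4_2 : ℕ := 0x100020000000000000000000000000000000400000000000000000000000000020001

def h8cxM_F4_2 : ℕ := 0xfffdff000000

set_option maxRecDepth 100000 in
theorem h8cxRow_F4_2_0 : (List.range' 0 3).all (h8lvRow chevF4 h8cxS_F4 h8cxT_F4_2
    h8cxP_F4_2 h8cxG_F4_2 h8cxC_F4_2 h8cxM_F4_2 2 3) = true := by decide +kernel

theorem h8cxRows_F4_2 : ∀ k < 3, h8lvRow chevF4 h8cxS_F4 h8cxT_F4_2
    h8cxP_F4_2 h8cxG_F4_2 h8cxC_F4_2 h8cxM_F4_2 2 3 k = true := by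
  intro k hk
  exact h8rows_of_chunk _ _ _ h8cxRow_F4_2_0 k (by omega) (by omega)

set_option maxRecDepth 100000 in
theorem h8cxMask_F4_2 : h8lvMask chevF4 h8cxS_F4 h8cxM_F4_2 2 = true := by decide +kernel

set_option maxRecDepth 100000 in
theorem h8cxKeys_F4_2 : h8lvKeys chevF4 h8cxT_F4_2 3 = true := by decide +kernel

set_option maxRecDepth 100000 in
theorem h8cxDense_F4_2 : h8dense ((List.range 3).map (h8invT chevF4.nroots h8cxT_F4_2)) =
    [1, 1, 1] := by decide +kernel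

end Cfsg.Agent.Lib.helper8
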