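import Mathlib
import Cfsg.Prelude.Def_ChevF4
import Cfsg.Agent.Lib.helper8.ChevTabCoxF4S

set_option autoImplicit false

namespace Cfsg.Agent.Lib.helper8

open Cfsg.Lie

def h8cxT_F4_3 : ℕ := 0x2f182a261f2d16241d2c13280c221b1a2b11270a2120062e01290f0e25081e0415140d23071c03120b190210090517002f1a2b27202e19241d2c14280d231c182a11260a211f062d0229100e25091e0517130c22071b03120b16010f080415002f1f2d28202e1e261d2c1b270e251c182a16240c221a062b0429150d230b190517130a21081403120911010f070210002f2a2d2c2b2e292624282227212523181f161d131b1a11200f1e15141c121910170c0a0e080d070b09060104030205002f202e281f2d1e271d2c1c260e251b1a2b19240d2318062a0529170c220b160415140a21091303120811021007010f002f2b2e2c2a2d2927242823262125221a20191d141c18111f101e17131b12160f150d0a0e090c070b08060205030104002f2d2e2c2a2b2928262725242223211f201e1d1b1c18161a151917131412110f100e0c0d0b0a080907060405030102002f2e2d2c2b2a292827262524232221201f1e1d1c1b1a191817161514131211100f0e0d0c0b0a09080706050403020100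

def h8cxP_F4_3 : ℕ := 0x605030202010000

def h8cxG_F4_3 : ℕ := 0x201020200010200

def h8cxC_F4_3 : ℕ := 0xc0001000300000000000000000000000e000a0003000000000000000000000006000c00080000000000000000000000040003000a00000000000000000000000a00010004000000000000000000000008000200060000000000000000000000000004000100000000000000000000000200030001

def h8cxM_F4_3 : ℕ := 0xfff9f7000000

set_option maxRecDepth 100000 in
theorem h8cxRow_F4_3_0 : (List.range' 0 8).all (h8lvRow chevF4 h8cxS_F4 h8cxT_F4_3
    h8cxP_F4_3 h8cxG_F4_3 h8cxC_F4_3 h8cxM_F4_3 3 8) = true := by decide +kernel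

theorem h8cxRows_F4_3 : ∀ k < 8, h8lvRow chevF4 h8cxS_F4 h8cxT_F4_3
    h8cxP_F4_3 h8cxG_F4_3 h8cxC_F4_3 h8cxM_F4_3 3 8 k = true := by
  intro k hk
  exact h8rows_of_chunk _ _ _ h8cxRow_F4_3_0 k (by omega) (by omega)

set_option maxRecDepth 100000 in
theorem h8cxMask_F4_3 : h8lvMask chevF4 h8cxS_F4 h8cxM_F4_3 3 = true := by decide +kernel

set_option maxRecDepth 100000 in
theorem h8cxKeys_F4_3 : h8lvKeys chevF4 h8cxT_F4_3 8 = true := by decide +kernel

set_option maxRecDepth 100000 in
theorem h8cxDense_F4_3 : h8dense ((List.range 8).map (h8invT chevF4.nroots h8cxT_F4_3)) =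
    [1, 1, 1, 2, 1, 1, 1] := by decide +kernel

end Cfsg.Agent.Lib.helper8
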