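import Mathlib
import Cfsg.Prelude.Def_ChevF4
import Cfsg.Agent.Lib.helper8.ChevTabCoxF4S
import Cfsg.Agent.Lib.helper8.ChevTabCoxF4L4
import Cfsg.Agent.Lib.helper8.ChevTabCoxF4L3
import Cfsg.Agent.Lib.helper8.ChevTabCoxF4L2
import Cfsg.Agent.Lib.helper8.ChevTabCoxF4L1
import Cfsg.Agent.Lib.helper8.ChevBaseAll
import Cfsg.Agent.Lib.helper8.ChevReflAll
import Cfsg.Agent.Lib.helper8.ChevBNAll2
import Cfsg.Agent.Lib.helper8.ChevOrdAll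

set_option autoImplicit false

namespace Cfsg.Agent.Lib.helper8

open Cfsg.Lie

def h8cxCs_F4 : List (List ℕ) := [[1, 1], [1, 1, 1], [1, 1, 1, 2, 1, 1, 1], [1, 1, 1, 1, 2, 2, 2, 2, 2, 2, 2, 2, 1, 1, 1, 1]]

set_option maxRecDepth 100000 in
theorem h8cxPoly_F4 : h8pmulL h8cxCs_F4 = h8pmulL ([2, 6, 8, 12].map h8ones) := by decide +kernel

theorem h8poin_F4 (hA : H8ReflAll chevF4) (q : ℕ) :
    ∑ π ∈ h8Wfin chevF4 hA, q ^ h8Ninv chevF4 π =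
      ([2, 6, 8, 12].map fun d => h8pe (h8ones d) q).prod := by
  have hD : chevF4 ∈ [chevG2, chevB2, chevD4, chevF4, chevE6, chevE7, chevE8] := by simp
  have hB := h8base_all.{0} chevF4 hD
  have hBN := h8bn_all chevF4 hD
  have hW := h8bn2_all chevF4 hD
  have hO2 := (h8ord_all chevF4 hD).2
  rw [h8chain chevF4 hA h8cxCs_F4 rfl q, h8cxPoly_F4, h8pe_pmulL, List.map_map]
  · rfl
  · intro j0 hj0 hj1
    have hr : chevF4.rank = 4 := rfl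
    rw [hr] at hj1
    interval_cases j0
    · exact h8level_pe chevF4 hB hA hBN hW hO2 h8cxS_F4 h8cxSchk_F4 (by decide)
        h8cxT_F4_1 h8cxP_F4_1 h8cxG_F4_1 h8cxC_F4_1 h8cxM_F4_1 1 2 (by decide) (by decide)
        h8cxRows_F4_1 h8cxMask_F4_1 h8cxKeys_F4_1 _ h8cxDense_F4_1 q
    · exact h8level_pe chevF4 hB hA hBN hW hO2 h8cxS_F4 h8cxSchk_F4 (by decide)
        h8cxT_F4_2 h8cxP_F4_2 h8cxG_F4_2 h8cxC_F4_2 h8cxM_F4_2 2 3 (by decide) (by decide)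
        h8cxRows_F4_2 h8cxMask_F4_2 h8cxKeys_F4_2 _ h8cxDense_F4_2 q
    · exact h8level_pe chevF4 hB hA hBN hW hO2 h8cxS_F4 h8cxSchk_F4 (by decide)
        h8cxT_F4_3 h8cxP_F4_3 h8cxG_F4_3 h8cxC_F4_3 h8cxM_F4_3 3 8 (by decide) (by decide)
        h8cxRows_F4_3 h8cxMask_F4_3 h8cxKeys_F4_3 _ h8cxDense_F4_3 q
    · exact h8level_pe chevF4 hB hA hBN hW hO2 h8cxS_F4 h8cxSchk_F4 (by decide)
        h8cxT_F4_4 h8cxP_F4_4 h8cxG_F4_4 h8cxC_F4_4 h8cxM_F4_4 4 24 (by decide) (by decide)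
        h8cxRows_F4_4 h8cxMask_F4_4 h8cxKeys_F4_4 _ h8cxDense_F4_4 q

end Cfsg.Agent.Lib.helper8
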