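import Mathlib
import Cfsg.Prelude.Def_ChevAutomorphisms
import Cfsg.Prelude.Def_KGroupFacts
import Cfsg.Agent.Lib.helper8.ChevAV11
import Cfsg.Agent.Lib.helper8.ChevAutTab
import Cfsg.Agent.Lib.helper8.ChevGrE6g
import Cfsg.Agent.S2161

set_option autoImplicit false

namespace Cfsg.Agent.Lib.helper8

open Cfsg.Lie Cfsg.Lie.ChevalleyDatum

universe u

variable {F : Type u} [Field F]

/-- the nontrivial symmetry of the `E₆` diagram -/
def h8rhoE6 : Equiv.Perm (Fin chevE6.rank) :=
  Equiv.swap ⟨0, by decide⟩ ⟨5, by decide⟩ * Equiv.swap ⟨2, by decide⟩ ⟨4, by decide⟩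

theorem h8rhoE6_val : ∀ i : Fin chevE6.rank, (h8rhoE6 i).val = h8aP_E6_1.getD i.val 0 := by
  decide +kernel

theorem h8rhoE6_sym : chevE6.IsDiagramSymmetry h8rhoE6 := by
  unfold ChevalleyDatum.IsDiagramSymmetry
  decide +kernel

theorem h8rhoE6_ne : h8rhoE6 ≠ 1 := by
  intro h
  have := congrArg (fun ρ : Equiv.Perm (Fin chevE6.rank) => (ρ ⟨0, by decide⟩).val) h
  revert this
  decide +kernel

theorem h8posChk_E6_1 : h8posChk chevE6 (fun s => h8aS_E6_1.getD s 0) = true := by
  decide +kernel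

theorem h8symE6_set : {ρ : Equiv.Perm (Fin chevE6.rank) | chevE6.IsDiagramSymmetry ρ} =
    {1, h8rhoE6} := by
  ext ρ
  simp only [Set.mem_ofPred_eq, Set.mem_insert_iff, Set.mem_singleton_iff]
  constructor
  · intro hρ
    obtain ⟨L, hL, hπL⟩ := Cfsg.Agent.S2161.symE6 ρ hρ
    simp only [List.mem_cons, List.not_mem_nil, or_false] at hL
    rcases hL with rfl | rfl
    · left
      apply Equiv.ext
      intro i
      apply Fin.ext
      rw [hπL]
      exact (h8grE6_sdata i.val i.2).2.2.2.2.2.2.2.2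
    · right
      apply Equiv.ext
      intro i
      apply Fin.ext
      rw [hπL, h8rhoE6_val]
  · rintro (rfl | rfl)
    · intro i j _
      rfl
    · exact h8rhoE6_sym

/-- the outer automorphism group of `E₆(q)` -/
theorem h8out_E6 [Fintype F] (p f : ℕ) [Fact p.Prime] [CharP F p] (hF : Fintype.card F = p ^ f) :
    Nat.card (Cfsg.Out ↥(chevE6.group F)) = 2 * Nat.gcd 3 (p ^ f - 1) * f := by
  classical
  have hD : chevE6 ∈ [chevG2, chevB2, chevD4, chevF4, chevE6, chevE7, chevE8] := by simp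
  obtain ⟨α, hα1, hα2⟩ := h8av_graph_table (F := F) chevE6 hD _ _ _ _ _ h8aChk_E6_1 h8aX_E6_1
    h8posChk_E6_1 h8rhoE6 h8rhoE6_val (fun i j => h8grE6_gexp _ i j)
  have h := h8av_out_count chevE6 hD {1, h8rhoE6}
    (fun ρ => if ρ.val = 1 then 1 else α)
    (fun ρ => by
      by_cases h1 : ρ.val = 1
      · rw [if_pos h1, h1]
        exact ⟨Subgroup.one_mem _, h8av_std_one chevE6 hD⟩
      · rw [if_neg h1]
        have h2 : ρ.val = h8rhoE6 := by
          rcases ρ.2 with h | h
          · exact absurd h h1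
          · exact h
        rw [h2]
        exact ⟨hα1, hα2⟩)
    (fun θ _ ρ c σ hstd => by
      rw [← h8symE6_set]
      exact h8av_std_sym chevE6 hD θ ρ c σ hstd)
    p f hF (Nat.gcd 3 (Fintype.card F - 1)) h8H_card_E6
  rw [h, hF, Nat.card_coe_set_eq, Set.ncard_pair (Ne.symm h8rhoE6_ne)]
  ring

end Cfsg.Agent.Lib.helper8
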