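import Mathlib
import Cfsg.Prelude.Def_ChevAutomorphisms
import Cfsg.Prelude.Def_ChevF4

set_option autoImplicit false

namespace Cfsg.Agent.Lib.helper8

open Cfsg.Lie Cfsg.Lie.ChevalleyDatum

/-- the symmetry of the `F₄` diagram -/
def h8rhoF4 : Equiv.Perm (Fin chevF4.rank) :=
  Equiv.swap ⟨0, by decide⟩ ⟨3, by decide⟩ * Equiv.swap ⟨1, by decide⟩ ⟨2, by decide⟩

theorem h8rhoF4_ne : h8rhoF4 ≠ 1 := by
  intro h
  have := congrArg (fun ρ : Equiv.Perm (Fin chevF4.rank) => (ρ ⟨0, by decide⟩).val) h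
  revert this
  decide +kernel

theorem h8symF4_list : ∀ a0 a1 a2 a3 : Fin chevF4.rank,
    (∀ i j : Fin chevF4.rank, i ≠ j →
      chevF4.bonds (![a0, a1, a2, a3] i) (![a0, a1, a2, a3] j) = chevF4.bonds i j) →
    (a0.val = 0 ∧ a1.val = 1 ∧ a2.val = 2 ∧ a3.val = 3) ∨
      (a0.val = 3 ∧ a1.val = 2 ∧ a2.val = 1 ∧ a3.val = 0) := by
  decide +kernel

theorem h8rhoF4_val : (h8rhoF4 ⟨0, by decide⟩).val = 3 ∧ (h8rhoF4 ⟨1, by decide⟩).val = 2 ∧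
    (h8rhoF4 ⟨2, by decide⟩).val = 1 ∧ (h8rhoF4 ⟨3, by decide⟩).val = 0 := by
  decide +kernel

theorem h8symF4 (ρ : Equiv.Perm (Fin chevF4.rank)) (hρ : chevF4.IsDiagramSymmetry ρ) :
    ρ = 1 ∨ ρ = h8rhoF4 := by
  have hcases : ∀ i : Fin chevF4.rank, i = ⟨0, by decide⟩ ∨ i = ⟨1, by decide⟩ ∨
      i = ⟨2, by decide⟩ ∨ i = ⟨3, by decide⟩ := by
    decide +kernel
  have hvec : ∀ i : Fin chevF4.rank, ![ρ ⟨0, by decide⟩, ρ ⟨1, by decide⟩, ρ ⟨2, by decide⟩,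
      ρ ⟨3, by decide⟩] i = ρ i := by
    intro i
    rcases hcases i with rfl | rfl | rfl | rfl <;> rfl
  have key := h8symF4_list (ρ ⟨0, by decide⟩) (ρ ⟨1, by decide⟩) (ρ ⟨2, by decide⟩)
    (ρ ⟨3, by decide⟩) (by
      intro i j hij
      rw [hvec i, hvec j]
      exact hρ i j hij)
  obtain ⟨v0, v1, v2, v3⟩ := h8rhoF4_val
  rcases key with ⟨e0, e1, e2, e3⟩ | ⟨e0, e1, e2, e3⟩
  · left
    apply Equiv.ext
    intro i
    apply Fin.ext
    rcases hcases i with rfl | rfl | rfl | rfl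
    · rw [e0]; rfl
    · rw [e1]; rfl
    · rw [e2]; rfl
    · rw [e3]; rfl
  · right
    apply Equiv.ext
    intro i
    apply Fin.ext
    rcases hcases i with rfl | rfl | rfl | rfl
    · rw [e0, v0]
    · rw [e1, v1]
    · rw [e2, v2]
    · rw [e3, v3]

end Cfsg.Agent.Lib.helper8
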