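import Mathlib
import Cfsg.Prelude.Def_ChevAutomorphisms
import Cfsg.Prelude.Def_KGroupFacts
import Cfsg.Agent.Lib.helper8.ChevAV9

set_option autoImplicit false

namespace Cfsg.Agent.Lib.helper8

open Cfsg.Lie Cfsg.Lie.ChevalleyDatum

universe u

variable {F : Type u} [Field F]

/-- the permutation of a standard form is read off from one value -/
theorem h8ax_rho_eq (D : ChevalleyDatum)
    (hD : D ∈ [chevG2, chevB2, chevD4, chevF4, chevE6, chevE7, chevE8])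
    (θ : ↥(D.group F) ≃* ↥(D.group F)) (ρ : Equiv.Perm (Fin D.rank))
    (c : Fin D.rank → Fˣ) (σ : F ≃+* F) (h : H8Std D (h8base_all.{u} D hD) θ ρ c σ)
    (i j : Fin D.rank) (a : F) (ha : a ≠ 0)
    (e : θ (h8xG D (h8base_all.{u} D hD) (D.simple i) 1) =
      h8xG D (h8base_all.{u} D hD) (D.simple j) a) : ρ i = j := by
  have hA := h8reflAll D hD
  have hBN := h8bn_all D hD
  have hW := h8bn2_all D hD
  obtain ⟨hO, hO2⟩ := h8ord_all D hD
  have hsc := h8scChk_all D hD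
  have e1 := (h i 1).1.symm.trans e
  have e2 := congrArg Subtype.val e1
  rw [h8xG_val, h8xG_val] at e2
  have h3 := h8x_inj_root D (h8base_all.{u} D hD) hA hBN hW hO2 _ _
    (h8simple_pos D hBN (ρ i) (ρ i).2).1 (h8simple_pos D hBN j j.2).1 _ _
    (by simp) ha e2
  exact Fin.ext (h8au_simple_inj D hsc _ _ (ρ i).2 j.2 h3)

theorem h8ax_std_ne_zero (D : ChevalleyDatum) (c : Fin D.rank → Fˣ) (σ : F ≃+* F) (i : Fin D.rank)
    (t : F) (ht : t ≠ 0) (n : ℕ) : (c i : F) * (σ t) ^ n ≠ 0 := by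
  apply mul_ne_zero (Units.ne_zero _)
  apply pow_ne_zero
  intro h0
  apply ht
  have := congrArg σ.symm h0
  rwa [RingEquiv.symm_apply_apply, map_zero] at this

/-- normalized data of an automorphism -/
theorem h8ax_exists [Finite F] (D : ChevalleyDatum)
    (hD : D ∈ [chevG2, chevB2, chevD4, chevF4, chevE6, chevE7, chevE8])
    (θ : MulAut ↥(D.group F)) :
    ∃ (ρ : Equiv.Perm (Fin D.rank)) (x : ↥(D.group F)) (c : Fin D.rank → Fˣ) (σ : F ≃+* F),
      MulAut.conj x * θ ∈ h8A0 D F ∧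
        H8Std D (h8base_all.{u} D hD) (MulAut.conj x * θ) ρ c σ := by
  obtain ⟨x, hU, hV⟩ := h8au_step1 D hD θ
  have h1 : MulAut.conj x * θ ∈ h8A0 D F := ⟨hU, hV⟩
  obtain ⟨ρ, c, σ, _, hstd⟩ := h8av_std_UV D hD (MulAut.conj x * θ) hU hV
  exact ⟨ρ, x, c, σ, h1, hstd⟩

theorem h8ax_unique [Finite F] (D : ChevalleyDatum)
    (hD : D ∈ [chevG2, chevB2, chevD4, chevF4, chevE6, chevE7, chevE8])
    (θ : MulAut ↥(D.group F)) (x x' : ↥(D.group F)) (ρ ρ' : Equiv.Perm (Fin D.rank))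
    (c c' : Fin D.rank → Fˣ) (σ σ' : F ≃+* F)
    (h1 : MulAut.conj x * θ ∈ h8A0 D F)
    (h2 : H8Std D (h8base_all.{u} D hD) (MulAut.conj x * θ) ρ c σ)
    (h1' : MulAut.conj x' * θ ∈ h8A0 D F)
    (h2' : H8Std D (h8base_all.{u} D hD) (MulAut.conj x' * θ) ρ' c' σ') : ρ = ρ' := by
  have hBN := h8bn_all D hD
  have hW := h8bn2_all D hD
  have e : MulAut.conj (x' * x⁻¹) = (MulAut.conj x' * θ) * (MulAut.conj x * θ)⁻¹ := by
    rw [map_mul, map_inv, mul_inv_rev, mul_assoc, mul_inv_cancel_left]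
  have hy : MulAut.conj (x' * x⁻¹) ∈ h8A0 D F := by
    rw [e]
    exact Subgroup.mul_mem _ h1' (Subgroup.inv_mem _ h1)
  have hyH := h8av_inner_UV D hD _ hy
  have e' : MulAut.conj x' * θ = MulAut.conj (x' * x⁻¹) * (MulAut.conj x * θ) := by
    rw [e, inv_mul_cancel_right]
  apply Equiv.ext
  intro i
  symm
  obtain ⟨κ, hκ, hact, -⟩ := h8actN_T D (h8base_all.{u} D hD) hW.neglt _ hyH
    (D.simple (ρ i)) (h8simple_pos D hBN (ρ i) (ρ i).2).1
  apply h8ax_rho_eq D hD _ ρ' c' σ' h2' i (ρ i)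
    (κ * ((c i : F) * (σ 1) ^ D.graphExp (ringChar F) i (ρ i)))
    (mul_ne_zero hκ (h8ax_std_ne_zero D c σ i 1 one_ne_zero _))
  rw [e', MulAut.mul_apply, (h2 i 1).1, MulAut.conj_apply]
  apply Subtype.ext
  exact hact _

/-- the permutation of the nodes induced by an automorphism -/
noncomputable def h8axRfun [Finite F] (D : ChevalleyDatum)
    (hD : D ∈ [chevG2, chevB2, chevD4, chevF4, chevE6, chevE7, chevE8])
    (θ : MulAut ↥(D.group F)) : Equiv.Perm (Fin D.rank) :=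
  Classical.choose (h8ax_exists D hD θ)

theorem h8axRfun_eq [Finite F] (D : ChevalleyDatum)
    (hD : D ∈ [chevG2, chevB2, chevD4, chevF4, chevE6, chevE7, chevE8])
    (θ : MulAut ↥(D.group F)) (x : ↥(D.group F)) (ρ : Equiv.Perm (Fin D.rank))
    (c : Fin D.rank → Fˣ) (σ : F ≃+* F)
    (h1 : MulAut.conj x * θ ∈ h8A0 D F)
    (h2 : H8Std D (h8base_all.{u} D hD) (MulAut.conj x * θ) ρ c σ) : h8axRfun D hD θ = ρ := by
  obtain ⟨x', c', σ', h1', h2'⟩ := Classical.choose_spec (h8ax_exists D hD θ)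
  exact h8ax_unique D hD θ x' x _ ρ c' c σ' σ h1' h2' h1 h2

theorem h8axRfun_mul [Finite F] (D : ChevalleyDatum)
    (hD : D ∈ [chevG2, chevB2, chevD4, chevF4, chevE6, chevE7, chevE8])
    (θ θ' : MulAut ↥(D.group F)) :
    h8axRfun D hD (θ * θ') = h8axRfun D hD θ * h8axRfun D hD θ' := by
  have hBN := h8bn_all D hD
  obtain ⟨ρ, x, c, σ, h1, h2⟩ := h8ax_exists D hD θ
  obtain ⟨ρ', x', c', σ', h1', h2'⟩ := h8ax_exists D hD θ'
  rw [h8axRfun_eq D hD θ x ρ c σ h1 h2, h8axRfun_eq D hD θ' x' ρ' c' σ' h1' h2']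
  have e : MulAut.conj (x * θ x') * (θ * θ') = (MulAut.conj x * θ) * (MulAut.conj x' * θ') := by
    apply MulEquiv.ext
    intro g
    show x * θ x' * (θ (θ' g)) * (x * θ x')⁻¹ = x * θ (x' * θ' g * x'⁻¹) * x⁻¹
    rw [map_mul, map_mul, map_inv, mul_inv_rev]
    simp only [mul_assoc]
  have h3 : MulAut.conj (x * θ x') * (θ * θ') ∈ h8A0 D F := by
    rw [e]
    exact Subgroup.mul_mem _ h1 h1'
  obtain ⟨ρ'', c'', σ'', _, h4⟩ := h8av_std_UV D hD _ h3.1 h3.2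
  rw [h8axRfun_eq D hD (θ * θ') _ ρ'' c'' σ'' h3 h4]
  apply Equiv.ext
  intro i
  rw [Equiv.Perm.mul_apply]
  apply h8ax_rho_eq D hD _ ρ'' c'' σ'' h4 i (ρ (ρ' i))
    ((c (ρ' i) : F) * (σ ((c' i : F) * (σ' 1) ^ D.graphExp (ringChar F) i (ρ' i))) ^
      D.graphExp (ringChar F) (ρ' i) (ρ (ρ' i)))
    (h8ax_std_ne_zero D c σ _ _ (h8ax_std_ne_zero D c' σ' i 1 one_ne_zero _) _)
  rw [e, MulAut.mul_apply, (h2' i 1).1, (h2 (ρ' i) _).1]

/-- the homomorphism to the permutations of the nodes -/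
noncomputable def h8axR [Finite F] (D : ChevalleyDatum)
    (hD : D ∈ [chevG2, chevB2, chevD4, chevF4, chevE6, chevE7, chevE8]) :
    MulAut ↥(D.group F) →* Equiv.Perm (Fin D.rank) :=
  MonoidHom.mk' (h8axRfun D hD) (h8axRfun_mul D hD)

theorem h8axR_eq [Finite F] (D : ChevalleyDatum)
    (hD : D ∈ [chevG2, chevB2, chevD4, chevF4, chevE6, chevE7, chevE8])
    (θ : MulAut ↥(D.group F)) (x : ↥(D.group F)) (ρ : Equiv.Perm (Fin D.rank))
    (c : Fin D.rank → Fˣ) (σ : F ≃+* F)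
    (h1 : MulAut.conj x * θ ∈ h8A0 D F)
    (h2 : H8Std D (h8base_all.{u} D hD) (MulAut.conj x * θ) ρ c σ) : h8axR D hD θ = ρ :=
  h8axRfun_eq D hD θ x ρ c σ h1 h2

/-- for an automorphism stabilizing `U` and `V` -/
theorem h8axR_eq' [Finite F] (D : ChevalleyDatum)
    (hD : D ∈ [chevG2, chevB2, chevD4, chevF4, chevE6, chevE7, chevE8])
    (θ : MulAut ↥(D.group F)) (ρ : Equiv.Perm (Fin D.rank))
    (c : Fin D.rank → Fˣ) (σ : F ≃+* F) (h1 : θ ∈ h8A0 D F)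
    (h2 : H8Std D (h8base_all.{u} D hD) θ ρ c σ) : h8axR D hD θ = ρ := by
  apply h8axR_eq D hD θ 1 ρ c σ
  · rw [map_one, one_mul]; exact h1
  · rw [map_one, one_mul]; exact h2

theorem h8axR_inn [Finite F] (D : ChevalleyDatum)
    (hD : D ∈ [chevG2, chevB2, chevD4, chevF4, chevE6, chevE7, chevE8]) :
    Cfsg.Inn ↥(D.group F) ≤ (h8axR (F := F) D hD).ker := by
  rintro _ ⟨y, rfl⟩
  rw [MonoidHom.mem_ker]
  apply h8axR_eq D hD _ y⁻¹ 1 (fun _ => 1) (RingEquiv.refl F)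
  · rw [← map_mul, inv_mul_cancel, map_one]
    exact Subgroup.one_mem _
  · rw [← map_mul, inv_mul_cancel, map_one]
    exact h8av_std_one D hD

end Cfsg.Agent.Lib.helper8
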