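import Mathlib
import Cfsg.Prelude.Def_ChevAutomorphisms
import Cfsg.Prelude.Def_KGroupFacts
import Cfsg.Agent.Lib.helper8.ChevAX1

set_option autoImplicit false

namespace Cfsg.Agent.Lib.helper8

open Cfsg.Lie Cfsg.Lie.ChevalleyDatum

universe u

variable {F : Type u} [Field F]

section
variable (D : ChevalleyDatum) (hD : D ∈ [chevG2, chevB2, chevD4, chevF4, chevE6, chevE7, chevE8])

include hD in
/-- a diagonal automorphism is one of the constructed ones -/
theorem h8ax_diag_eq (φ : ↥(D.group F) ≃* ↥(D.group F)) (hφ : D.IsDiagonalAut φ) :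
    ∃ (χ : ℕ → Fˣ) (_ : D.IsRootCharacter χ)
      (hmap : (D.group F).map (MulAut.conj (h8chiU D χ)).toMonoidHom = D.group F),
      φ = h8diagAut D χ hmap := by
  obtain ⟨χ, hχ, h⟩ := hφ
  have hmap := h8chiU_map_eq (F := F) D (h8base_all.{u} D hD) (h8reflAll D hD)
    (h8consChk_all D hD) χ hχ
  refine ⟨χ, hχ, hmap, ?_⟩
  apply MulEquiv.ext
  intro g
  apply Subtype.ext
  apply Units.ext
  rw [h g, h8diagAut_val]
  rfl

/-- a field automorphism is one of the constructed ones -/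
theorem h8ax_field_eq (φ : ↥(D.group F) ≃* ↥(D.group F)) (hφ : D.IsFieldAut φ) :
    ∃ σ : F ≃+* F, φ = h8fieldAut D (h8base_all.{u} D hD) σ := by
  obtain ⟨σ, h⟩ := hφ
  refine ⟨σ, ?_⟩
  have hA := h8reflAll D hD
  have hBN := h8bn_all D hD
  have hW := h8bn2_all D hD
  have hx : ∀ r < D.nroots, ∀ t : F, φ (h8xG D (h8base_all.{u} D hD) r t) =
      h8fieldAut D (h8base_all.{u} D hD) σ (h8xG D (h8base_all.{u} D hD) r t) := by
    intro r hr t
    rw [h8fieldAut_xG]
    apply h8xG_of_val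
    exact h _ r t hr rfl
  have key : φ.toMonoidHom = (h8fieldAut D (h8base_all.{u} D hD) σ).toMonoidHom := by
    apply h8hom_ext_simple D (h8base_all.{u} D hD) hA hBN
    · intro j hj t
      exact hx _ (h8simple_pos D hBN j hj).1 t
    · intro j hj t
      exact hx _ (hW.neglt _ (h8simple_pos D hBN j hj).1) t
  apply MulEquiv.ext
  intro y
  exact DFunLike.congr_fun key y

/-- the automorphisms with trivial permutation, in standard form -/
theorem h8ax_std_diag_field (c : Fin D.rank → Fˣ) (σ : F ≃+* F) :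
    ∃ (χ : ℕ → Fˣ) (_ : D.IsRootCharacter χ)
      (hmap : (D.group F).map (MulAut.conj (h8chiU D χ)).toMonoidHom = D.group F),
      H8Std D (h8base_all.{u} D hD)
        ((h8diagAut D χ hmap : MulAut ↥(D.group F)) *
          (h8fieldAut D (h8base_all.{u} D hD) σ : MulAut ↥(D.group F))) 1 c σ := by
  have hA := h8reflAll D hD
  have hcons := h8consChk_all D hD
  obtain ⟨m, hm⟩ := h8rc_all D hD
  have hχ : D.IsRootCharacter (h8rchi D m c) := h8rchi_root D (h8base_all.{u} D hD) hA m hm c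
  have hmap := h8chiU_map_eq (F := F) D (h8base_all.{u} D hD) hA hcons _ hχ
  refine ⟨_, hχ, hmap, ?_⟩
  have h1 := h8av_std_mul_field D hD 1 1 (fun _ => 1) (RingEquiv.refl F) σ (h8av_std_one D hD)
  have h2 := h8av_std_diag_mul D hD _ 1 (fun _ => 1) _ h1 _ hχ hmap
  have e1 : (fun i => h8rchi D m c (D.simple ((1 : Equiv.Perm (Fin D.rank)) i)) * 1) = c := by
    funext i
    rw [Equiv.Perm.one_apply, h8rchi_simple D m hm, mul_one]
  have e2 : σ.trans (RingEquiv.refl F) = σ := by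
    apply RingEquiv.ext
    intro t
    rfl
  rw [e1, e2, one_mul] at h2
  exact h2

variable [Finite F]

/-- diagonal automorphisms induce the trivial permutation -/
theorem h8axR_diag (φ : MulAut ↥(D.group F)) (hφ : D.IsDiagonalAut φ) :
    h8axR D hD φ = 1 := by
  obtain ⟨χ, hχ, hmap, rfl⟩ := h8ax_diag_eq D hD φ hφ
  have h2 := h8av_std_diag_mul D hD 1 1 (fun _ => 1) _ (h8av_std_one D hD) χ hχ hmap
  rw [mul_one] at h2
  exact h8axR_eq' D hD _ 1 _ _ (h8av_diag_mem D hD χ hχ hmap) h2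

/-- field automorphisms induce the trivial permutation -/
theorem h8axR_field (φ : MulAut ↥(D.group F)) (hφ : D.IsFieldAut φ) :
    h8axR D hD φ = 1 := by
  obtain ⟨σ, rfl⟩ := h8ax_field_eq D hD φ hφ
  have h1 := h8av_std_mul_field D hD 1 1 (fun _ => 1) (RingEquiv.refl F) σ (h8av_std_one D hD)
  rw [one_mul] at h1
  exact h8axR_eq' D hD _ 1 _ _ (h8av_field_mem D hD σ) h1

/-- an automorphism inducing the trivial permutation is inner-diagonal-field -/
theorem h8axR_ker (θ : MulAut ↥(D.group F)) (hθ : h8axR D hD θ = 1) :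
    ∃ (x : ↥(D.group F)) (d f : MulAut ↥(D.group F)), D.IsDiagonalAut d ∧ D.IsFieldAut f ∧
      θ = MulAut.conj x * d * f := by
  obtain ⟨ρ, x, c, σ, h1, h2⟩ := h8ax_exists D hD θ
  have hρ : ρ = 1 := by rw [← h8axR_eq D hD θ x ρ c σ h1 h2, hθ]
  subst hρ
  obtain ⟨χ, hχ, hmap, h3⟩ := h8ax_std_diag_field D hD c σ
  have e := h8av_std_ext D hD _ _ 1 c σ h2 h3
  refine ⟨x⁻¹, h8diagAut D χ hmap, h8fieldAut D (h8base_all.{u} D hD) σ,
    h8diagAut_isDiag D χ hχ hmap, h8fieldAut_isField D _ σ, ?_⟩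
  rw [map_inv, mul_assoc, ← e, inv_mul_cancel_left]

end

end Cfsg.Agent.Lib.helper8
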