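import Mathlib
import Cfsg.Prelude.Def_ChevAutomorphisms
import Cfsg.Prelude.Def_KGroupFacts
import Cfsg.Agent.Lib.helper8.ChevAX2

set_option autoImplicit false

namespace Cfsg.Agent.Lib.helper8

open Cfsg.Lie Cfsg.Lie.ChevalleyDatum

universe u

variable {F : Type u} [Field F]

/-- the automorphism group of a finite field is cyclic -/
theorem h8ax_ringAut_cyclic [Finite F] : IsCyclic (RingAut F) := by
  obtain ⟨p, hp⟩ := CharP.exists F
  have := hp
  have : Fact p.Prime := ⟨CharP.char_is_prime F p⟩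
  let _ := ZMod.algebra F p
  let g : (F ≃ₐ[ZMod p] F) →* RingAut F :=
    MonoidHom.mk' (fun a => (a.toRingEquiv : RingAut F)) (fun a b => rfl)
  have hg : Function.Surjective g := by
    intro σ
    refine ⟨AlgEquiv.ofRingEquiv (f := σ) (fun x => ?_), rfl⟩
    have : (σ : F →+* F).comp (algebraMap (ZMod p) F) = algebraMap (ZMod p) F :=
      Subsingleton.elim _ _
    exact DFunLike.congr_fun this x
  exact isCyclic_of_surjective g hg

section
variable (D : ChevalleyDatum) (hD : D ∈ [chevG2, chevB2, chevD4, chevF4, chevE6, chevE7, chevE8])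

/-- field automorphisms compose -/
theorem h8fieldAut_mul (σ τ : RingAut F) :
    (h8fieldAut D (h8base_all.{u} D hD) (σ * τ) : MulAut ↥(D.group F)) =
      (h8fieldAut D (h8base_all.{u} D hD) σ : MulAut ↥(D.group F)) *
        (h8fieldAut D (h8base_all.{u} D hD) τ : MulAut ↥(D.group F)) := by
  have hA := h8reflAll D hD
  have hBN := h8bn_all D hD
  have key : (h8fieldAut D (h8base_all.{u} D hD) (σ * τ)).toMonoidHom =
      ((h8fieldAut D (h8base_all.{u} D hD) σ : MulAut ↥(D.group F)) *
        (h8fieldAut D (h8base_all.{u} D hD) τ : MulAut ↥(D.group F))).toMonoidHom := by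
    apply h8hom_ext_simple D (h8base_all.{u} D hD) hA hBN
    · intro j _ t
      show h8fieldAut D (h8base_all.{u} D hD) (σ * τ) (h8xG D (h8base_all.{u} D hD) _ t) =
        h8fieldAut D (h8base_all.{u} D hD) σ
          (h8fieldAut D (h8base_all.{u} D hD) τ (h8xG D (h8base_all.{u} D hD) _ t))
      rw [h8fieldAut_xG, h8fieldAut_xG, h8fieldAut_xG]
      rfl
    · intro j _ t
      show h8fieldAut D (h8base_all.{u} D hD) (σ * τ) (h8xG D (h8base_all.{u} D hD) _ t) =
        h8fieldAut D (h8base_all.{u} D hD) σ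
          (h8fieldAut D (h8base_all.{u} D hD) τ (h8xG D (h8base_all.{u} D hD) _ t))
      rw [h8fieldAut_xG, h8fieldAut_xG, h8fieldAut_xG]
      rfl
  apply MulEquiv.ext
  intro y
  exact DFunLike.congr_fun key y

/-- the field automorphisms as a homomorphism -/
noncomputable def h8fieldHom : RingAut F →* MulAut ↥(D.group F) :=
  MonoidHom.mk' (fun σ => (h8fieldAut D (h8base_all.{u} D hD) σ : MulAut ↥(D.group F)))
    (h8fieldAut_mul D hD)

theorem h8ax_field_closure :
    Subgroup.closure {φ : MulAut ↥(D.group F) | D.IsFieldAut φ} = (h8fieldHom (F := F) D hD).range := by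
  apply le_antisymm
  · rw [Subgroup.closure_le]
    intro φ hφ
    obtain ⟨σ, rfl⟩ := h8ax_field_eq D hD φ hφ
    exact ⟨σ, rfl⟩
  · rintro _ ⟨σ, rfl⟩
    apply Subgroup.subset_closure
    exact h8fieldAut_isField D (h8base_all.{u} D hD) σ

include hD in
/-- the image of the field automorphisms in `Out` is cyclic -/
theorem h8ax_Fbar_cyclic [Finite F] :
    IsCyclic ↥((Subgroup.closure {φ : MulAut ↥(D.group F) | D.IsFieldAut φ}).map
      (QuotientGroup.mk' (Cfsg.Inn ↥(D.group F)))) := by
  rw [h8ax_field_closure D hD, MonoidHom.map_range]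
  have := h8ax_ringAut_cyclic (F := F)
  exact isCyclic_of_surjective _
    (((QuotientGroup.mk' (Cfsg.Inn ↥(D.group F))).comp (h8fieldHom (F := F) D hD)).rangeRestrict_surjective)

include hD in
/-- diagonal automorphisms commute -/
theorem h8ax_diag_comm (φ ψ : MulAut ↥(D.group F)) (hφ : D.IsDiagonalAut φ)
    (hψ : D.IsDiagonalAut ψ) : φ * ψ = ψ * φ := by
  have hA := h8reflAll D hD
  have hBN := h8bn_all D hD
  have hW := h8bn2_all D hD
  have hcons := h8consChk_all D hD
  obtain ⟨χ, hχ, hmap, rfl⟩ := h8ax_diag_eq D hD φ hφ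
  obtain ⟨χ', hχ', hmap', rfl⟩ := h8ax_diag_eq D hD ψ hψ
  have hx : ∀ r < D.nroots, ∀ t : F,
      ((h8diagAut D χ hmap : MulAut ↥(D.group F)) * (h8diagAut D χ' hmap' : MulAut ↥(D.group F)))
        (h8xG D (h8base_all.{u} D hD) r t) =
      ((h8diagAut D χ' hmap' : MulAut ↥(D.group F)) * (h8diagAut D χ hmap : MulAut ↥(D.group F)))
        (h8xG D (h8base_all.{u} D hD) r t) := by
    intro r hr t
    rw [MulAut.mul_apply, MulAut.mul_apply,
      h8diagAut_xG D _ hA hcons χ' hχ' hmap' r hr, h8diagAut_xG D _ hA hcons χ hχ hmap r hr,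
      h8diagAut_xG D _ hA hcons χ hχ hmap r hr, h8diagAut_xG D _ hA hcons χ' hχ' hmap' r hr]
    congr 1
    ring
  have key : ((h8diagAut D χ hmap : MulAut ↥(D.group F)) *
      (h8diagAut D χ' hmap' : MulAut ↥(D.group F))).toMonoidHom =
      ((h8diagAut D χ' hmap' : MulAut ↥(D.group F)) *
        (h8diagAut D χ hmap : MulAut ↥(D.group F))).toMonoidHom := by
    apply h8hom_ext_simple D (h8base_all.{u} D hD) hA hBN
    · intro j hj t
      exact hx _ (h8simple_pos D hBN j hj).1 t
    · intro j hj t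
      exact hx _ (hW.neglt _ (h8simple_pos D hBN j hj).1) t
  apply MulEquiv.ext
  intro y
  exact DFunLike.congr_fun key y

include hD in
/-- the image of the diagonal automorphisms in `Out` is commutative -/
theorem h8ax_Dbar_comm :
    IsMulCommutative ↥((Subgroup.closure {φ : MulAut ↥(D.group F) | D.IsDiagonalAut φ}).map
      (QuotientGroup.mk' (Cfsg.Inn ↥(D.group F)))) := by
  have hcl : ∀ a ∈ Subgroup.closure {φ : MulAut ↥(D.group F) | D.IsDiagonalAut φ},
      ∀ b ∈ Subgroup.closure {φ : MulAut ↥(D.group F) | D.IsDiagonalAut φ}, a * b = b * a := by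
    intro a ha b hb
    have hle : Subgroup.closure {φ : MulAut ↥(D.group F) | D.IsDiagonalAut φ} ≤
        Subgroup.centralizer {φ : MulAut ↥(D.group F) | D.IsDiagonalAut φ} := by
      rw [Subgroup.closure_le]
      intro φ hφ
      rw [SetLike.mem_coe, Subgroup.mem_centralizer_iff]
      intro ψ hψ
      exact h8ax_diag_comm D hD ψ φ hψ hφ
    have hle2 : Subgroup.closure {φ : MulAut ↥(D.group F) | D.IsDiagonalAut φ} ≤
        Subgroup.centralizer
          (Subgroup.closure {φ : MulAut ↥(D.group F) | D.IsDiagonalAut φ} : Set _) := by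
      rw [Subgroup.le_centralizer_iff, Subgroup.centralizer_closure]
      exact hle
    exact ((Subgroup.mem_centralizer_iff.mp (hle2 hb)) a ha)
  apply IsMulCommutative.of_setLike_mul_comm
  rintro _ ⟨a, ha, rfl⟩ _ ⟨b, hb, rfl⟩
  rw [← map_mul, ← map_mul, hcl a ha b hb]

end

end Cfsg.Agent.Lib.helper8
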