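import Mathlib
import Cfsg.Prelude.Def_ChevAutomorphisms
import Cfsg.Prelude.Def_KGroupFacts
import Cfsg.Agent.Lib.helper8.ChevAX3

set_option autoImplicit false

namespace Cfsg.Agent.Lib.helper8

open Cfsg.Lie Cfsg.Lie.ChevalleyDatum

universe u

variable {F : Type u} [Field F]

section
variable (D : ChevalleyDatum) (hD : D ∈ [chevG2, chevB2, chevD4, chevF4, chevE6, chevE7, chevE8])

/-- an automorphism in standard form normalizes the diagonal automorphisms -/
theorem h8ax_conj_diag (θ : MulAut ↥(D.group F)) (ρ : Equiv.Perm (Fin D.rank))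
    (c : Fin D.rank → Fˣ) (σ : F ≃+* F) (h : H8Std D (h8base_all.{u} D hD) θ ρ c σ)
    (χ : ℕ → Fˣ) (hχ : D.IsRootCharacter χ)
    (hmap : (D.group F).map (MulAut.conj (h8chiU D χ)).toMonoidHom = D.group F) :
    ∃ d' : MulAut ↥(D.group F), D.IsDiagonalAut d' ∧
      θ * (h8diagAut D χ hmap : MulAut ↥(D.group F)) = d' * θ := by
  have hA := h8reflAll D hD
  have hBN := h8bn_all D hD
  have hW := h8bn2_all D hD
  have hcons := h8consChk_all D hD
  obtain ⟨m, hm⟩ := h8rc_all D hD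
  have hχ' : D.IsRootCharacter (h8rchi D m (fun j =>
      (Units.map (σ : F →* F) (χ (D.simple (ρ.symm j)))) ^
        (D.graphExp (ringChar F) (ρ.symm j) (ρ (ρ.symm j))))) :=
    h8rchi_root D (h8base_all.{u} D hD) hA m hm _
  have hmap' := h8chiU_map_eq (F := F) D (h8base_all.{u} D hD) hA hcons _ hχ'
  refine ⟨h8diagAut D _ hmap', h8diagAut_isDiag D _ hχ' hmap', ?_⟩
  have hval : ∀ i : Fin D.rank, ((h8rchi D m (fun j =>
      (Units.map (σ : F →* F) (χ (D.simple (ρ.symm j)))) ^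
        (D.graphExp (ringChar F) (ρ.symm j) (ρ (ρ.symm j)))) (D.simple (ρ i)) : Fˣ) : F) =
      (σ (χ (D.simple i) : F)) ^ (D.graphExp (ringChar F) i (ρ i)) := by
    intro i
    rw [h8rchi_simple D m hm, Equiv.symm_apply_apply, Units.val_pow_eq_pow_val]
    rfl
  have key : (θ * (h8diagAut D χ hmap : MulAut ↥(D.group F))).toMonoidHom =
      ((h8diagAut D _ hmap' : MulAut ↥(D.group F)) * θ).toMonoidHom := by
    apply h8hom_ext_simple D (h8base_all.{u} D hD) hA hBN
    · intro j hj t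
      have hp := (h8simple_pos D hBN j hj).1
      have hp' := (h8simple_pos D hBN (ρ ⟨j, hj⟩) (ρ ⟨j, hj⟩).2).1
      show θ (h8diagAut D χ hmap (h8xG D (h8base_all.{u} D hD) (D.simple j) t)) =
        h8diagAut D _ hmap' (θ (h8xG D (h8base_all.{u} D hD) (D.simple j) t))
      rw [h8diagAut_xG D _ hA hcons χ hχ hmap _ hp, (h ⟨j, hj⟩ _).1, (h ⟨j, hj⟩ _).1,
        h8diagAut_xG D _ hA hcons _ hχ' hmap' _ hp', hval ⟨j, hj⟩]
      congr 1
      rw [map_mul, mul_pow]
      ring
    · intro j hj t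
      have hp := (h8simple_pos D hBN j hj).1
      have hp' := (h8simple_pos D hBN (ρ ⟨j, hj⟩) (ρ ⟨j, hj⟩).2).1
      have hn := hW.neglt _ hp
      have hn' := hW.neglt _ hp'
      show θ (h8diagAut D χ hmap
          (h8xG D (h8base_all.{u} D hD) (D.negIdx.getD (D.simple j) 0) t)) =
        h8diagAut D _ hmap' (θ (h8xG D (h8base_all.{u} D hD) (D.negIdx.getD (D.simple j) 0) t))
      have e1 := hχ.1 (D.simple j) hp
      have e2 := hχ'.1 (D.simple (ρ ⟨j, hj⟩)) hp'
      unfold ChevalleyDatum.neg at e1 e2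
      rw [h8diagAut_xG D _ hA hcons χ hχ hmap _ hn, (h ⟨j, hj⟩ _).2, (h ⟨j, hj⟩ _).2,
        h8diagAut_xG D _ hA hcons _ hχ' hmap' _ hn', e1, e2]
      simp only [Units.val_inv_eq_inv_val]
      rw [hval ⟨j, hj⟩]
      congr 1
      rw [map_mul, mul_pow, map_inv₀, inv_pow]
      ring
  apply MulEquiv.ext
  intro y
  exact DFunLike.congr_fun key y

variable [Finite F]

include hD in
/-- conjugates of diagonal automorphisms are diagonal modulo inner automorphisms -/
theorem h8ax_conj_diag_out (θ d : MulAut ↥(D.group F)) (hd : D.IsDiagonalAut d) :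
    ∃ d' : MulAut ↥(D.group F), D.IsDiagonalAut d' ∧
      QuotientGroup.mk' (Cfsg.Inn ↥(D.group F)) (θ * d * θ⁻¹) =
        QuotientGroup.mk' (Cfsg.Inn ↥(D.group F)) d' := by
  obtain ⟨χ, hχ, hmap, rfl⟩ := h8ax_diag_eq D hD d hd
  obtain ⟨ρ, x, c, σ, -, h2⟩ := h8ax_exists D hD θ
  obtain ⟨d', hd', e⟩ := h8ax_conj_diag D hD _ ρ c σ h2 χ hχ hmap
  refine ⟨d', hd', ?_⟩
  have e2 : θ * (h8diagAut D χ hmap : MulAut ↥(D.group F)) * θ⁻¹ =
      (MulAut.conj x)⁻¹ * d' * MulAut.conj x := by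
    have e3 : θ = (MulAut.conj x)⁻¹ * (MulAut.conj x * θ) := by
      rw [inv_mul_cancel_left]
    have e4 : (MulAut.conj x * θ) * (h8diagAut D χ hmap : MulAut ↥(D.group F)) *
        (MulAut.conj x * θ)⁻¹ = d' := by
      rw [e, mul_inv_cancel_right]
    rw [← e4]
    simp only [mul_inv_rev, mul_assoc, inv_mul_cancel_left, inv_mul_cancel, mul_one]
  have hq : ∀ y : ↥(D.group F), QuotientGroup.mk' (Cfsg.Inn ↥(D.group F)) (MulAut.conj y) = 1 := by
    intro y
    rw [QuotientGroup.mk'_apply, QuotientGroup.eq_one_iff]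
    exact ⟨y, rfl⟩
  rw [e2, map_mul, map_mul, map_inv, hq, inv_one, one_mul, mul_one]

include hD in
/-- the image of the diagonal automorphisms in `Out` is normal -/
theorem h8ax_Dbar_normal :
    ((Subgroup.closure {φ : MulAut ↥(D.group F) | D.IsDiagonalAut φ}).map
      (QuotientGroup.mk' (Cfsg.Inn ↥(D.group F)))).Normal := by
  constructor
  rintro _ ⟨δ, hδ, rfl⟩ g
  obtain ⟨θ, rfl⟩ := QuotientGroup.mk'_surjective _ g
  rw [← map_mul, ← map_inv, ← map_mul]
  induction hδ using Subgroup.closure_induction with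
  | mem d hd =>
    obtain ⟨d', hd', e⟩ := h8ax_conj_diag_out D hD θ d hd
    rw [e]
    exact ⟨d', Subgroup.subset_closure hd', rfl⟩
  | one =>
    rw [mul_one, mul_inv_cancel, map_one]
    exact Subgroup.one_mem _
  | mul a b _ _ iha ihb =>
    have : θ * (a * b) * θ⁻¹ = (θ * a * θ⁻¹) * (θ * b * θ⁻¹) := by
      simp only [mul_assoc, inv_mul_cancel_left]
    rw [this, map_mul]
    exact Subgroup.mul_mem _ iha ihb
  | inv a _ iha =>
    have : θ * a⁻¹ * θ⁻¹ = (θ * a * θ⁻¹)⁻¹ := by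
      simp only [mul_inv_rev, inv_inv, mul_assoc]
    rw [this, map_inv]
    exact Subgroup.inv_mem _ iha

/-- the homomorphism from `Out` to the permutations of the nodes -/
noncomputable def h8axRbar : Cfsg.Out ↥(D.group F) →* Equiv.Perm (Fin D.rank) :=
  QuotientGroup.lift (Cfsg.Inn ↥(D.group F)) (h8axR D hD) (h8axR_inn D hD)

theorem h8axRbar_mk (θ : MulAut ↥(D.group F)) :
    h8axRbar D hD (QuotientGroup.mk' (Cfsg.Inn ↥(D.group F)) θ) = h8axR D hD θ := rfl

/-- the images of the diagonal and field automorphisms generate the kernel -/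
theorem h8ax_ker_eq :
    (Subgroup.closure {φ : MulAut ↥(D.group F) | D.IsDiagonalAut φ}).map
        (QuotientGroup.mk' (Cfsg.Inn ↥(D.group F))) ⊔
      (Subgroup.closure {φ : MulAut ↥(D.group F) | D.IsFieldAut φ}).map
        (QuotientGroup.mk' (Cfsg.Inn ↥(D.group F))) = (h8axRbar (F := F) D hD).ker := by
  apply le_antisymm
  · apply sup_le
    · rintro _ ⟨δ, hδ, rfl⟩
      rw [MonoidHom.mem_ker, h8axRbar_mk]
      have hle : Subgroup.closure {φ : MulAut ↥(D.group F) | D.IsDiagonalAut φ} ≤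
          (h8axR (F := F) D hD).ker := by
        rw [Subgroup.closure_le]
        intro φ hφ
        exact h8axR_diag D hD φ hφ
      exact hle hδ
    · rintro _ ⟨δ, hδ, rfl⟩
      rw [MonoidHom.mem_ker, h8axRbar_mk]
      have hle : Subgroup.closure {φ : MulAut ↥(D.group F) | D.IsFieldAut φ} ≤
          (h8axR (F := F) D hD).ker := by
        rw [Subgroup.closure_le]
        intro φ hφ
        exact h8axR_field D hD φ hφ
      exact hle hδ
  · intro z hz
    obtain ⟨θ, rfl⟩ := QuotientGroup.mk'_surjective _ z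
    rw [MonoidHom.mem_ker, h8axRbar_mk] at hz
    obtain ⟨x, d, f, hd, hf, rfl⟩ := h8axR_ker D hD θ hz
    have hq : QuotientGroup.mk' (Cfsg.Inn ↥(D.group F)) (MulAut.conj x) = 1 := by
      rw [QuotientGroup.mk'_apply, QuotientGroup.eq_one_iff]
      exact ⟨x, rfl⟩
    rw [map_mul, map_mul, hq, one_mul]
    exact Subgroup.mul_mem_sup ⟨d, Subgroup.subset_closure hd, rfl⟩
      ⟨f, Subgroup.subset_closure hf, rfl⟩

end

end Cfsg.Agent.Lib.helper8
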