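import Mathlib
import Cfsg.Prelude.Def_ChevAutomorphisms
import Cfsg.Prelude.Def_KGroupFacts
import Cfsg.Agent.Lib.helper8.ChevAX4
import Cfsg.Agent.Lib.helper8.ChevAV12
import Cfsg.Agent.Lib.helper8.ChevAW8a

set_option autoImplicit false

namespace Cfsg.Agent.Lib.helper8

open Cfsg.Lie Cfsg.Lie.ChevalleyDatum

universe u

variable {F : Type u} [Field F]

section
variable (D : ChevalleyDatum) (hD : D ∈ [chevG2, chevB2, chevD4, chevF4, chevE6, chevE7, chevE8])
variable [Finite F]

/-- the values of the homomorphism to the permutations are diagram symmetries -/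
theorem h8axR_sym (θ : MulAut ↥(D.group F)) : D.IsDiagramSymmetry (h8axR D hD θ) := by
  obtain ⟨ρ, x, c, σ, h1, h2⟩ := h8ax_exists D hD θ
  rw [h8axR_eq D hD θ x ρ c σ h1 h2]
  exact h8av_std_sym D hD _ ρ c σ h2

theorem h8axRbar_range : (h8axRbar (F := F) D hD).range = (h8axR (F := F) D hD).range := by
  ext ρ
  constructor
  · rintro ⟨z, rfl⟩
    obtain ⟨θ, rfl⟩ := QuotientGroup.mk'_surjective _ z
    exact ⟨θ, rfl⟩
  · rintro ⟨θ, rfl⟩
    exact ⟨QuotientGroup.mk' _ θ, rfl⟩

/-- the index of the subgroup generated by the diagonal and field automorphisms -/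
theorem h8ax_index :
    ((Subgroup.closure {φ : MulAut ↥(D.group F) | D.IsDiagonalAut φ}).map
        (QuotientGroup.mk' (Cfsg.Inn ↥(D.group F))) ⊔
      (Subgroup.closure {φ : MulAut ↥(D.group F) | D.IsFieldAut φ}).map
        (QuotientGroup.mk' (Cfsg.Inn ↥(D.group F)))).index =
      Nat.card ↥(h8axR (F := F) D hD).range := by
  rw [h8ax_ker_eq D hD, Subgroup.index_ker, h8axRbar_range]

/-- if there are at most two diagram symmetries the index is one or two -/
theorem h8ax_index_le_two (S : Set (Equiv.Perm (Fin D.rank))) (hS : S.ncard ≤ 2)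
    (hsym : ∀ ρ, D.IsDiagramSymmetry ρ → ρ ∈ S) :
    Nat.card ↥(h8axR (F := F) D hD).range = 1 ∨ Nat.card ↥(h8axR (F := F) D hD).range = 2 := by
  have hfin : (S : Set (Equiv.Perm (Fin D.rank))).Finite := Set.toFinite S
  have hsub : ((h8axR (F := F) D hD).range : Set (Equiv.Perm (Fin D.rank))) ⊆ S := by
    rintro _ ⟨θ, rfl⟩
    exact hsym _ (h8axR_sym D hD θ)
  have h1 := Set.ncard_le_ncard hsub hfin
  have h2 : Nat.card ↥(h8axR (F := F) D hD).range =
      ((h8axR (F := F) D hD).range : Set (Equiv.Perm (Fin D.rank))).ncard := rfl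
  have h3 : 0 < Nat.card ↥(h8axR (F := F) D hD).range := Nat.card_pos
  omega

end

theorem h8perm2_ncard (n : ℕ) (hn : n = 2) :
    (Set.univ : Set (Equiv.Perm (Fin n))).ncard ≤ 2 := by
  subst hn
  rw [Set.ncard_univ, Nat.card_eq_fintype_card, Fintype.card_perm, Fintype.card_fin]
  decide

end Cfsg.Agent.Lib.helper8
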