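import Mathlib
import Cfsg.Prelude.Def_ChevAutomorphisms
import Cfsg.Prelude.Def_KGroupFacts
import Cfsg.Agent.Lib.helper8.ChevAX5
import Cfsg.Agent.Lib.helper8.ChevGrD4g

set_option autoImplicit false

namespace Cfsg.Agent.Lib.helper8

open Cfsg.Lie Cfsg.Lie.ChevalleyDatum
open scoped commutatorElement

universe u

variable {F : Type u} [Field F]

theorem h8posChk_D4_0 : h8posChk chevD4 (fun s => h8aS_D4_0.getD s 0) = true := by decide +kernel
theorem h8posChk_D4_1 : h8posChk chevD4 (fun s => h8aS_D4_1.getD s 0) = true := by decide +kernel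
theorem h8posChk_D4_2 : h8posChk chevD4 (fun s => h8aS_D4_2.getD s 0) = true := by decide +kernel
theorem h8posChk_D4_3 : h8posChk chevD4 (fun s => h8aS_D4_3.getD s 0) = true := by decide +kernel
theorem h8posChk_D4_4 : h8posChk chevD4 (fun s => h8aS_D4_4.getD s 0) = true := by decide +kernel
theorem h8posChk_D4_5 : h8posChk chevD4 (fun s => h8aS_D4_5.getD s 0) = true := by decide +kernel

instance h8symD4_dec : DecidablePred
    (fun ρ : Equiv.Perm (Fin chevD4.rank) => chevD4.IsDiagramSymmetry ρ) :=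
  fun ρ => inferInstanceAs (Decidable (∀ i j : Fin chevD4.rank, i ≠ j →
    chevD4.bonds (ρ i) (ρ j) = chevD4.bonds i j))

theorem h8symD4_card : (Finset.univ.filter
    (fun ρ : Equiv.Perm (Fin chevD4.rank) => chevD4.IsDiagramSymmetry ρ)).card = 6 := by
  decide +kernel

theorem h8symD4_noncomm : ∃ a b : Equiv.Perm (Fin chevD4.rank),
    chevD4.IsDiagramSymmetry a ∧ chevD4.IsDiagramSymmetry b ∧ a * b ≠ b * a := by
  refine ⟨Equiv.swap ⟨0, by decide⟩ ⟨2, by decide⟩, Equiv.swap ⟨2, by decide⟩ ⟨3, by decide⟩,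
    ?_, ?_, ?_⟩
  · unfold ChevalleyDatum.IsDiagramSymmetry
    decide +kernel
  · unfold ChevalleyDatum.IsDiagramSymmetry
    decide +kernel
  · intro h
    have := congrArg (fun ρ : Equiv.Perm (Fin chevD4.rank) => (ρ ⟨0, by decide⟩).val) h
    revert this
    decide +kernel

section
variable [Finite F]

/-- every symmetry of the `D₄` diagram is induced by an automorphism -/
theorem h8ax_D4_realized (hD : chevD4 ∈ [chevG2, chevB2, chevD4, chevF4, chevE6, chevE7, chevE8])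
    (ρ : Equiv.Perm (Fin chevD4.rank)) (hρ : chevD4.IsDiagramSymmetry ρ) :
    ρ ∈ (h8axR (F := F) chevD4 hD).range := by
  obtain ⟨L, hL, hπL⟩ := Cfsg.Agent.S2161.symD4 ρ hρ
  simp only [List.mem_cons, List.not_mem_nil, or_false] at hL
  rcases hL with rfl | rfl | rfl | rfl | rfl | rfl
  · obtain ⟨γ, h1, h2⟩ := h8av_graph_table (F := F) chevD4 hD _ _ _ _ _ h8aChk_D4_0 h8aX_D4_0
      h8posChk_D4_0 ρ hπL (fun i j => h8grD4_gexp _ i j)
    exact ⟨γ, h8axR_eq' chevD4 hD γ ρ _ _ h1 h2⟩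
  · obtain ⟨γ, h1, h2⟩ := h8av_graph_table (F := F) chevD4 hD _ _ _ _ _ h8aChk_D4_1 h8aX_D4_1
      h8posChk_D4_1 ρ hπL (fun i j => h8grD4_gexp _ i j)
    exact ⟨γ, h8axR_eq' chevD4 hD γ ρ _ _ h1 h2⟩
  · obtain ⟨γ, h1, h2⟩ := h8av_graph_table (F := F) chevD4 hD _ _ _ _ _ h8aChk_D4_2 h8aX_D4_2
      h8posChk_D4_2 ρ hπL (fun i j => h8grD4_gexp _ i j)
    exact ⟨γ, h8axR_eq' chevD4 hD γ ρ _ _ h1 h2⟩
  · obtain ⟨γ, h1, h2⟩ := h8av_graph_table (F := F) chevD4 hD _ _ _ _ _ h8aChk_D4_3 h8aX_D4_3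
      h8posChk_D4_3 ρ hπL (fun i j => h8grD4_gexp _ i j)
    exact ⟨γ, h8axR_eq' chevD4 hD γ ρ _ _ h1 h2⟩
  · obtain ⟨γ, h1, h2⟩ := h8av_graph_table (F := F) chevD4 hD _ _ _ _ _ h8aChk_D4_4 h8aX_D4_4
      h8posChk_D4_4 ρ hπL (fun i j => h8grD4_gexp _ i j)
    exact ⟨γ, h8axR_eq' chevD4 hD γ ρ _ _ h1 h2⟩
  · obtain ⟨γ, h1, h2⟩ := h8av_graph_table (F := F) chevD4 hD _ _ _ _ _ h8aChk_D4_5 h8aX_D4_5
      h8posChk_D4_5 ρ hπL (fun i j => h8grD4_gexp _ i j)
    exact ⟨γ, h8axR_eq' chevD4 hD γ ρ _ _ h1 h2⟩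

theorem h8ax_D4_card (hD : chevD4 ∈ [chevG2, chevB2, chevD4, chevF4, chevE6, chevE7, chevE8]) :
    Nat.card ↥(h8axR (F := F) chevD4 hD).range = 6 := by
  have h1 : ((h8axR (F := F) chevD4 hD).range : Set (Equiv.Perm (Fin chevD4.rank))) =
      ↑(Finset.univ.filter
        (fun ρ : Equiv.Perm (Fin chevD4.rank) => chevD4.IsDiagramSymmetry ρ)) := by
    ext ρ
    rw [Finset.coe_filter]
    simp only [Finset.mem_univ, true_and, Set.mem_ofPred_eq, SetLike.mem_coe]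
    constructor
    · rintro ⟨θ, rfl⟩
      exact h8axR_sym chevD4 hD θ
    · intro hρ
      exact h8ax_D4_realized hD ρ hρ
  have h2 : Nat.card ↥(h8axR (F := F) chevD4 hD).range =
      ((h8axR (F := F) chevD4 hD).range : Set (Equiv.Perm (Fin chevD4.rank))).ncard := rfl
  rw [h2, h1, Set.ncard_coe_finset, h8symD4_card]

/-- the quotient by the diagonal and field automorphisms is not commutative for `D₄` -/
theorem h8ax_D4_noncomm (hD : chevD4 ∈ [chevG2, chevB2, chevD4, chevF4, chevE6, chevE7, chevE8]) :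
    ¬ commutator (Cfsg.Out ↥(chevD4.group F)) ≤ (h8axRbar (F := F) chevD4 hD).ker := by
  intro hle
  obtain ⟨a, b, ha, hb, hab⟩ := h8symD4_noncomm
  obtain ⟨α, rfl⟩ := h8ax_D4_realized (F := F) hD a ha
  obtain ⟨β, rfl⟩ := h8ax_D4_realized (F := F) hD b hb
  have hmem : ⁅(QuotientGroup.mk' (Cfsg.Inn ↥(chevD4.group F)) α : Cfsg.Out ↥(chevD4.group F)),
      (QuotientGroup.mk' (Cfsg.Inn ↥(chevD4.group F)) β : Cfsg.Out ↥(chevD4.group F))⁆ ∈
      commutator (Cfsg.Out ↥(chevD4.group F)) :=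
    Subgroup.commutator_mem_commutator (Subgroup.mem_top _) (Subgroup.mem_top _)
  have h1 := hle hmem
  rw [MonoidHom.mem_ker, map_commutatorElement, h8axRbar_mk, h8axRbar_mk,
    commutatorElement_eq_one_iff_mul_comm] at h1
  exact hab h1

end

end Cfsg.Agent.Lib.helper8
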