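import Mathlib
import Cfsg.Prelude.Def_ChevAutomorphisms
import Cfsg.Prelude.Def_KGroupFacts
import Cfsg.Agent.Lib.helper8.ChevAV11
import Cfsg.Agent.Lib.helper8.ChevAutTab
import Cfsg.Agent.Lib.helper8.ChevGrD4g
import Cfsg.Agent.Lib.helper8.ChevAX6
import Cfsg.Agent.Lib.helper8.ChevH5
import Cfsg.Agent.S2161

/-! The outer automorphism group of `D₄(q)`: its order. -/

set_option autoImplicit false

namespace Cfsg.Agent.Lib.helper8

open Cfsg.Lie Cfsg.Lie.ChevalleyDatum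

universe u

variable {F : Type u} [Field F]

/-- every symmetry of the `D₄` diagram is induced by a graph automorphism in standard form -/
theorem h8grD4_exists [Finite F] (ρ : Equiv.Perm (Fin chevD4.rank))
    (hρ : chevD4.IsDiagramSymmetry ρ) :
    ∃ γ : MulAut ↥(chevD4.group F), γ ∈ h8A0 chevD4 F ∧
      H8Std chevD4 (h8base_all.{u} chevD4 (by simp)) γ ρ (fun _ => 1) (RingEquiv.refl F) := by
  have hD : chevD4 ∈ [chevG2, chevB2, chevD4, chevF4, chevE6, chevE7, chevE8] := by simp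
  obtain ⟨L, hL, hπL⟩ := Cfsg.Agent.S2161.symD4 ρ hρ
  simp only [List.mem_cons, List.not_mem_nil, or_false] at hL
  rcases hL with rfl | rfl | rfl | rfl | rfl | rfl
  · exact h8av_graph_table (F := F) chevD4 hD _ _ _ _ _ h8aChk_D4_0 h8aX_D4_0 h8posChk_D4_0 ρ hπL
      (fun i j => h8grD4_gexp _ i j)
  · exact h8av_graph_table (F := F) chevD4 hD _ _ _ _ _ h8aChk_D4_1 h8aX_D4_1 h8posChk_D4_1 ρ hπL
      (fun i j => h8grD4_gexp _ i j)
  · exact h8av_graph_table (F := F) chevD4 hD _ _ _ _ _ h8aChk_D4_2 h8aX_D4_2 h8posChk_D4_2 ρ hπL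
      (fun i j => h8grD4_gexp _ i j)
  · exact h8av_graph_table (F := F) chevD4 hD _ _ _ _ _ h8aChk_D4_3 h8aX_D4_3 h8posChk_D4_3 ρ hπL
      (fun i j => h8grD4_gexp _ i j)
  · exact h8av_graph_table (F := F) chevD4 hD _ _ _ _ _ h8aChk_D4_4 h8aX_D4_4 h8posChk_D4_4 ρ hπL
      (fun i j => h8grD4_gexp _ i j)
  · exact h8av_graph_table (F := F) chevD4 hD _ _ _ _ _ h8aChk_D4_5 h8aX_D4_5 h8posChk_D4_5 ρ hπL
      (fun i j => h8grD4_gexp _ i j)

/-- the outer automorphism group of `D₄(q)` -/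
theorem h8out_D4 [Fintype F] (p f : ℕ) [Fact p.Prime] [CharP F p] (hF : Fintype.card F = p ^ f) :
    Nat.card (Cfsg.Out ↥(chevD4.group F)) = 6 * Nat.gcd 2 (p ^ f - 1) ^ 2 * f := by
  classical
  have hD : chevD4 ∈ [chevG2, chevB2, chevD4, chevF4, chevE6, chevE7, chevE8] := by simp
  have h := h8av_out_count chevD4 hD {ρ | chevD4.IsDiagramSymmetry ρ}
    (fun ρ => (h8grD4_exists (F := F) ρ.val ρ.2).choose)
    (fun ρ => (h8grD4_exists (F := F) ρ.val ρ.2).choose_spec)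
    (fun θ _ ρ c σ hstd => h8av_std_sym chevD4 hD θ ρ c σ hstd)
    p f hF (Nat.gcd 2 (Fintype.card F - 1) ^ 2) h8H_card_D4
  rw [h, hF]
  have hc : Nat.card ↥{ρ : Equiv.Perm (Fin chevD4.rank) | chevD4.IsDiagramSymmetry ρ} = 6 := by
    rw [← h8symD4_card, Nat.card_coe_set_eq, ← Set.ncard_coe_finset]
    congr 1
    ext ρ
    simp
  rw [hc]
  ring

end Cfsg.Agent.Lib.helper8
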