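import Mathlib
import Cfsg.Prelude.Def_ChevAutomorphisms
import Cfsg.Prelude.Def_KGroupFacts
import Cfsg.Agent.Lib.helper8.ChevAX4
import Cfsg.Agent.Lib.helper8.ChevAV9
import Cfsg.Agent.Lib.helper8.ChevTwH1

/-! The field part of an automorphism of a Chevalley group (all `graphExp` trivial). -/

set_option autoImplicit false

namespace Cfsg.Agent.Lib.helper8

open Cfsg.Lie Cfsg.Lie.ChevalleyDatum

universe u

variable {F : Type u} [Field F]

section
variable (D : ChevalleyDatum) (hD : D ∈ [chevG2, chevB2, chevD4, chevF4, chevE6, chevE7, chevE8])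

/-- composition of standard forms when all the graph exponents are trivial -/
theorem h8od_std_mul (hexp : ∀ i j : Fin D.rank, D.graphExp (ringChar F) i j = 1)
    (θ θ' : MulAut ↥(D.group F)) (ρ ρ' : Equiv.Perm (Fin D.rank))
    (c c' : Fin D.rank → Fˣ) (σ σ' : F ≃+* F)
    (h : H8Std D (h8base_all.{u} D hD) θ ρ c σ) (h' : H8Std D (h8base_all.{u} D hD) θ' ρ' c' σ') :
    H8Std D (h8base_all.{u} D hD) (θ * θ') (ρ * ρ')
      (fun i => c (ρ' i) * Units.map (σ : F →* F) (c' i)) (σ'.trans σ) := by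
  intro i t
  constructor
  · rw [MulAut.mul_apply, (h' i t).1, (h (ρ' i) _).1, Equiv.Perm.mul_apply]
    congr 1
    simp only [hexp, pow_one, map_mul, Units.val_mul, Units.coe_map, MonoidHom.coe_coe,
      RingEquiv.coe_trans, Function.comp_apply]
    ring
  · rw [MulAut.mul_apply, (h' i t).2, (h (ρ' i) _).2, Equiv.Perm.mul_apply]
    congr 1
    simp only [hexp, pow_one, map_mul, mul_inv, Units.val_mul, Units.coe_map, MonoidHom.coe_coe,
      RingEquiv.coe_trans, Function.comp_apply, ← map_inv]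
    ring

/-- conjugation by an element of `H` in standard form -/
theorem h8od_std_conjH (y : ↥(D.group F)) (hy : (y : GL D.Idx F) ∈ D.diagonalSubgroup F) :
    ∃ κ : Fin D.rank → Fˣ,
      (∀ i, (κ i : F) = h8chi D (h8base_all.{u} D hD) (y : GL D.Idx F) (D.simple i)) ∧
      H8Std D (h8base_all.{u} D hD) (MulAut.conj y) 1 κ (RingEquiv.refl F) := by
  have hA := h8reflAll D hD
  have hBN := h8bn_all D hD
  have hW := h8bn2_all D hD
  have hlt : ∀ i : Fin D.rank, D.simple i < D.nroots := fun i => (h8simple_pos D hBN i i.2).1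
  have hne : ∀ i : Fin D.rank,
      h8chi D (h8base_all.{u} D hD) (y : GL D.Idx F) (D.simple i) ≠ 0 :=
    fun i => (h8chi_spec D _ _ hy _ (hlt i)).1
  refine ⟨fun i => Units.mk0 _ (hne i), fun i => rfl, ?_⟩
  intro i t
  constructor
  · rw [MulAut.conj_apply]
    apply Subtype.ext
    rw [Equiv.Perm.one_apply, h8graphExp_self, pow_one]
    show (y : GL D.Idx F) * h8xU D (h8base_all.{u} D hD) _ t * (y : GL D.Idx F)⁻¹ =
      h8xU D (h8base_all.{u} D hD) _ _
    rw [(h8chi_spec D _ _ hy _ (hlt i)).2 t]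
    rfl
  · rw [MulAut.conj_apply]
    apply Subtype.ext
    rw [Equiv.Perm.one_apply, h8graphExp_self, pow_one]
    show (y : GL D.Idx F) * h8xU D (h8base_all.{u} D hD) _ t * (y : GL D.Idx F)⁻¹ =
      h8xU D (h8base_all.{u} D hD) _ _
    rw [(h8chi_spec D _ _ hy _ (hW.neglt _ (hlt i))).2 t, h8chi_neg D _ hA hW _ hy _ (hlt i)]
    rfl

variable [Finite F]

/-- the field part does not depend on the normalization -/
theorem h8od_unique (hexp : ∀ i j : Fin D.rank, D.graphExp (ringChar F) i j = 1)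
    (θ : MulAut ↥(D.group F)) (x x' : ↥(D.group F)) (ρ ρ' : Equiv.Perm (Fin D.rank))
    (c c' : Fin D.rank → Fˣ) (σ σ' : F ≃+* F)
    (h1 : MulAut.conj x * θ ∈ h8A0 D F)
    (h2 : H8Std D (h8base_all.{u} D hD) (MulAut.conj x * θ) ρ c σ)
    (h1' : MulAut.conj x' * θ ∈ h8A0 D F)
    (h2' : H8Std D (h8base_all.{u} D hD) (MulAut.conj x' * θ) ρ' c' σ') : σ = σ' := by
  have e : MulAut.conj (x' * x⁻¹) = (MulAut.conj x' * θ) * (MulAut.conj x * θ)⁻¹ := by
    rw [map_mul, map_inv, mul_inv_rev, mul_assoc, mul_inv_cancel_left]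
  have hy : MulAut.conj (x' * x⁻¹) ∈ h8A0 D F := by
    rw [e]
    exact Subgroup.mul_mem _ h1' (Subgroup.inv_mem _ h1)
  have hyH := h8av_inner_UV D hD _ hy
  have e' : MulAut.conj x' * θ = MulAut.conj (x' * x⁻¹) * (MulAut.conj x * θ) := by
    rw [e, inv_mul_cancel_right]
  obtain ⟨κ, -, hκ⟩ := h8od_std_conjH D hD _ hyH
  have h3 := h8od_std_mul D hD hexp _ _ _ _ _ _ _ _ hκ h2
  rw [← e'] at h3
  have := (h8av_std_unique D hD _ _ _ _ _ _ _ h3 h2').2.2
  rw [← this]
  ext t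
  rfl

/-- the field part of an automorphism -/
noncomputable def h8odSfun (θ : MulAut ↥(D.group F)) : RingAut F :=
  (Classical.choose_spec (Classical.choose_spec (Classical.choose_spec
    (h8ax_exists D hD θ)))).choose

theorem h8odSfun_eq (hexp : ∀ i j : Fin D.rank, D.graphExp (ringChar F) i j = 1)
    (θ : MulAut ↥(D.group F)) (x : ↥(D.group F)) (ρ : Equiv.Perm (Fin D.rank))
    (c : Fin D.rank → Fˣ) (σ : F ≃+* F)
    (h1 : MulAut.conj x * θ ∈ h8A0 D F)
    (h2 : H8Std D (h8base_all.{u} D hD) (MulAut.conj x * θ) ρ c σ) : h8odSfun D hD θ = σ := by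
  obtain ⟨h1', h2'⟩ := (Classical.choose_spec (Classical.choose_spec (Classical.choose_spec
    (h8ax_exists D hD θ)))).choose_spec
  exact h8od_unique D hD hexp θ _ x _ ρ _ c _ σ h1' h2' h1 h2

theorem h8odSfun_mul (hexp : ∀ i j : Fin D.rank, D.graphExp (ringChar F) i j = 1)
    (θ θ' : MulAut ↥(D.group F)) :
    h8odSfun D hD (θ * θ') = h8odSfun D hD θ * h8odSfun D hD θ' := by
  obtain ⟨ρ, x, c, σ, h1, h2⟩ := h8ax_exists D hD θ
  obtain ⟨ρ', x', c', σ', h1', h2'⟩ := h8ax_exists D hD θ'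
  rw [h8odSfun_eq D hD hexp θ x ρ c σ h1 h2, h8odSfun_eq D hD hexp θ' x' ρ' c' σ' h1' h2']
  have e : MulAut.conj (x * θ x') * (θ * θ') = (MulAut.conj x * θ) * (MulAut.conj x' * θ') := by
    apply MulEquiv.ext
    intro g
    show x * θ x' * (θ (θ' g)) * (x * θ x')⁻¹ = x * θ (x' * θ' g * x'⁻¹) * x⁻¹
    rw [map_mul, map_mul, map_inv, mul_inv_rev]
    simp only [mul_assoc]
  have h3 : MulAut.conj (x * θ x') * (θ * θ') ∈ h8A0 D F := by
    rw [e]
    exact Subgroup.mul_mem _ h1 h1'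
  have h4 := h8od_std_mul D hD hexp _ _ _ _ _ _ _ _ h2 h2'
  rw [← e] at h4
  rw [h8odSfun_eq D hD hexp (θ * θ') _ _ _ _ h3 h4]
  ext t
  rfl

/-- the homomorphism to the field automorphisms -/
noncomputable def h8odS (hexp : ∀ i j : Fin D.rank, D.graphExp (ringChar F) i j = 1) :
    MulAut ↥(D.group F) →* RingAut F :=
  MonoidHom.mk' (h8odSfun D hD) (h8odSfun_mul D hD hexp)

theorem h8odS_eq (hexp : ∀ i j : Fin D.rank, D.graphExp (ringChar F) i j = 1)
    (θ : MulAut ↥(D.group F)) (x : ↥(D.group F)) (ρ : Equiv.Perm (Fin D.rank))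
    (c : Fin D.rank → Fˣ) (σ : F ≃+* F)
    (h1 : MulAut.conj x * θ ∈ h8A0 D F)
    (h2 : H8Std D (h8base_all.{u} D hD) (MulAut.conj x * θ) ρ c σ) :
    h8odS D hD hexp θ = σ :=
  h8odSfun_eq D hD hexp θ x ρ c σ h1 h2

theorem h8odS_eq' (hexp : ∀ i j : Fin D.rank, D.graphExp (ringChar F) i j = 1)
    (θ : MulAut ↥(D.group F)) (ρ : Equiv.Perm (Fin D.rank))
    (c : Fin D.rank → Fˣ) (σ : F ≃+* F) (h1 : θ ∈ h8A0 D F)
    (h2 : H8Std D (h8base_all.{u} D hD) θ ρ c σ) : h8odS D hD hexp θ = σ := by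
  apply h8odS_eq D hD hexp θ 1 ρ c σ
  · rw [map_one, one_mul]; exact h1
  · rw [map_one, one_mul]; exact h2

theorem h8odS_inn (hexp : ∀ i j : Fin D.rank, D.graphExp (ringChar F) i j = 1) :
    Cfsg.Inn ↥(D.group F) ≤ (h8odS (F := F) D hD hexp).ker := by
  rintro _ ⟨y, rfl⟩
  rw [MonoidHom.mem_ker]
  apply h8odS_eq D hD hexp _ y⁻¹ 1 (fun _ => 1) (RingEquiv.refl F)
  · rw [← map_mul, inv_mul_cancel, map_one]
    exact Subgroup.one_mem _
  · rw [← map_mul, inv_mul_cancel, map_one]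
    exact h8av_std_one D hD

/-- the field part of a field automorphism -/
theorem h8odS_field (hexp : ∀ i j : Fin D.rank, D.graphExp (ringChar F) i j = 1) (τ : RingAut F) :
    h8odS D hD hexp (h8fieldHom D hD τ) = τ := by
  have h := h8av_std_mul_field D hD 1 1 (fun _ => 1) (RingEquiv.refl F) τ (h8av_std_one D hD)
  rw [one_mul] at h
  have h1 : (h8fieldAut D (h8base_all.{u} D hD) τ : MulAut ↥(D.group F)) ∈ h8A0 D F :=
    h8av_field_mem D hD τ
  have := h8odS_eq' D hD hexp _ _ _ _ h1 h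
  rw [show h8fieldHom D hD τ = (h8fieldAut D (h8base_all.{u} D hD) τ : MulAut ↥(D.group F)) from rfl,
    this]
  ext t
  rfl

/-- the induced homomorphism on the outer automorphism group -/
noncomputable def h8odSbar (hexp : ∀ i j : Fin D.rank, D.graphExp (ringChar F) i j = 1) :
    Cfsg.Out ↥(D.group F) →* RingAut F :=
  QuotientGroup.lift (Cfsg.Inn ↥(D.group F)) (h8odS D hD hexp) (h8odS_inn D hD hexp)

theorem h8odSbar_mk (hexp : ∀ i j : Fin D.rank, D.graphExp (ringChar F) i j = 1)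
    (θ : MulAut ↥(D.group F)) :
    h8odSbar D hD hexp (QuotientGroup.mk' (Cfsg.Inn ↥(D.group F)) θ) = h8odS D hD hexp θ := rfl

end

end Cfsg.Agent.Lib.helper8
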