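import Mathlib
import Cfsg.Prelude.Def_ChevAutomorphisms
import Cfsg.Prelude.Def_KGroupFacts
import Cfsg.Agent.Lib.helper8.ChevOD1
import Cfsg.Agent.Lib.helper8.ChevAV13

/-! The outer automorphism group of `D₄(q)`: the classes with trivial field part. -/

set_option autoImplicit false

namespace Cfsg.Agent.Lib.helper8

open Cfsg.Lie Cfsg.Lie.ChevalleyDatum

universe u

variable {F : Type u} [Field F]

theorem h8oq_hD4 : chevD4 ∈ [chevG2, chevB2, chevD4, chevF4, chevE6, chevE7, chevE8] := by simp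

theorem h8oq_hexp4 (F : Type u) [Field F] :
    ∀ i j : Fin chevD4.rank, chevD4.graphExp (ringChar F) i j = 1 :=
  fun i j => h8grD4_gexp _ i j

theorem h8oq_par : ∀ s : Fin 24, ∀ a b : Fin chevD4.rank, a.val ≠ 1 → b.val ≠ 1 →
    (h8K chevD4 s.val (chevD4.simple a.val) + h8K chevD4 s.val (chevD4.simple b.val)) % 2 = 0 := by
  decide +kernel

theorem h8oq_sym_fix : ∀ ρ : Equiv.Perm (Fin chevD4.rank),
    chevD4.IsDiagramSymmetry ρ ↔ ρ ⟨1, by decide⟩ = ⟨1, by decide⟩ := by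
  decide +kernel

theorem h8oq_third : ∀ x z : Fin chevD4.rank, z ≠ x → x.val ≠ 1 → z.val ≠ 1 →
    ∃ y : Fin chevD4.rank, y.val ≠ 1 ∧ y ≠ x ∧ y ≠ z := by
  decide +kernel

/-- the characters of an element of `H` on two outer nodes differ by a square -/
theorem h8oq_D4_inv (k : GL chevD4.Idx F) (hk : k ∈ chevD4.diagonalSubgroup F)
    (a b : Fin chevD4.rank) (ha : a.val ≠ 1) (hb : b.val ≠ 1) :
    IsSquare (h8chi chevD4 (h8base_all.{u} chevD4 h8oq_hD4) k (chevD4.simple a) *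
      h8chi chevD4 (h8base_all.{u} chevD4 h8oq_hD4) k (chevD4.simple b)) := by
  have hA := h8reflAll chevD4 h8oq_hD4
  have hW := h8bn2_all chevD4 h8oq_hD4
  have hBN := h8bn_all chevD4 h8oq_hD4
  have hla : chevD4.simple a < chevD4.nroots := (h8simple_pos chevD4 hBN a a.2).1
  have hlb : chevD4.simple b < chevD4.nroots := (h8simple_pos chevD4 hBN b b.2).1
  have hk' := hk
  unfold ChevalleyDatum.diagonalSubgroup at hk'
  induction hk' using Subgroup.closure_induction with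
  | mem x hx =>
    obtain ⟨s, c, hs, hc, hx⟩ := hx
    have : x = h8hU chevD4 (h8base_all.{u} chevD4 h8oq_hD4) s c :=
      Units.ext (by rw [hx, h8hU_val])
    rw [this, h8chi_hU _ _ hA hW s hs c hc _ hla, h8chi_hU _ _ hA hW s hs c hc _ hlb,
      ← zpow_add₀ hc]
    have hpar := h8oq_par ⟨s, hs⟩ a b ha hb
    obtain ⟨m, hm⟩ : ∃ m : ℤ, h8K chevD4 s (chevD4.simple a) + h8K chevD4 s (chevD4.simple b) =
        m + m := by
      refine ⟨(h8K chevD4 s (chevD4.simple a) + h8K chevD4 s (chevD4.simple b)) / 2, ?_⟩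
      have : ((⟨s, hs⟩ : Fin 24) : ℕ) = s := rfl
      rw [this] at hpar
      omega
    rw [hm, zpow_add₀ hc]
    exact ⟨_, rfl⟩
  | one =>
    rw [h8chi_one _ _ hA hW _ hla, h8chi_one _ _ hA hW _ hlb]
    exact ⟨1, by simp⟩
  | mul x y hx hy ihx ihy =>
    rw [h8chi_mul _ _ hA hW x y hx hy _ hla, h8chi_mul _ _ hA hW x y hx hy _ hlb]
    have e : ∀ p q r s : F, p * q * (r * s) = (p * r) * (q * s) := fun p q r s => by ring
    rw [e]
    exact IsSquare.mul (ihx hx) (ihy hy)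
  | inv x hx ih =>
    rw [h8chi_inv _ _ hA hW x hx _ hla, h8chi_inv _ _ hA hW x hx _ hlb, ← mul_inv]
    exact (ih hx).inv

section
variable (F) [Finite F]

/-- the classes of the automorphisms with trivial field part -/
noncomputable def h8oqA : Subgroup (Cfsg.Out ↥(chevD4.group F)) :=
  (h8odSbar chevD4 h8oq_hD4 (h8oq_hexp4 F)).ker

/-- the action on the nodes restricted to it -/
noncomputable def h8oqRA : ↥(h8oqA F) →* Equiv.Perm (Fin chevD4.rank) :=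
  (h8axRbar chevD4 h8oq_hD4).comp (h8oqA F).subtype

/-- the classes of the diagonal automorphisms -/
noncomputable def h8oqV : Subgroup ↥(h8oqA F) := (h8oqRA F).ker

instance h8oqV_normal : (h8oqV F).Normal := by
  unfold h8oqV
  infer_instance

omit [Finite F] in
theorem h8oq_mk_inn (x : ↥(chevD4.group F)) :
    QuotientGroup.mk' (Cfsg.Inn ↥(chevD4.group F)) (MulAut.conj x) = 1 :=
  (QuotientGroup.eq_one_iff _).2 ⟨x, rfl⟩

theorem h8oq_A_rep (a : Cfsg.Out ↥(chevD4.group F)) (ha : a ∈ h8oqA F) :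
    ∃ (θ : MulAut ↥(chevD4.group F)) (ρ : Equiv.Perm (Fin chevD4.rank))
      (c : Fin chevD4.rank → Fˣ), θ ∈ h8A0 chevD4 F ∧
      H8Std chevD4 (h8base_all.{u} chevD4 h8oq_hD4) θ ρ c (RingEquiv.refl F) ∧
      QuotientGroup.mk' (Cfsg.Inn ↥(chevD4.group F)) θ = a := by
  obtain ⟨θ₀, rfl⟩ := QuotientGroup.mk'_surjective _ a
  obtain ⟨ρ, x, c, σ, h1, h2⟩ := h8ax_exists chevD4 h8oq_hD4 θ₀
  have hσ : σ = RingEquiv.refl F := by
    have := h8odS_eq chevD4 h8oq_hD4 (h8oq_hexp4 F) θ₀ x ρ c σ h1 h2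
    unfold h8oqA at ha
    rw [MonoidHom.mem_ker, h8odSbar_mk] at ha
    rw [← this, ha]
    rfl
  subst hσ
  refine ⟨MulAut.conj x * θ₀, ρ, c, h1, h2, ?_⟩
  rw [map_mul, h8oq_mk_inn, one_mul]

theorem h8oq_mk_mem_A (θ : MulAut ↥(chevD4.group F)) (ρ : Equiv.Perm (Fin chevD4.rank))
    (c : Fin chevD4.rank → Fˣ) (h1 : θ ∈ h8A0 chevD4 F)
    (h2 : H8Std chevD4 (h8base_all.{u} chevD4 h8oq_hD4) θ ρ c (RingEquiv.refl F)) :
    QuotientGroup.mk' (Cfsg.Inn ↥(chevD4.group F)) θ ∈ h8oqA F := by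
  unfold h8oqA
  rw [MonoidHom.mem_ker, h8odSbar_mk, h8odS_eq' chevD4 h8oq_hD4 (h8oq_hexp4 F) θ ρ c _ h1 h2]
  rfl

theorem h8oq_RA_mk (θ : MulAut ↥(chevD4.group F)) (ρ : Equiv.Perm (Fin chevD4.rank))
    (c : Fin chevD4.rank → Fˣ) (h1 : θ ∈ h8A0 chevD4 F)
    (h2 : H8Std chevD4 (h8base_all.{u} chevD4 h8oq_hD4) θ ρ c (RingEquiv.refl F)) :
    h8oqRA F ⟨_, h8oq_mk_mem_A F θ ρ c h1 h2⟩ = ρ := by
  show h8axRbar chevD4 h8oq_hD4 (QuotientGroup.mk' _ θ) = ρ
  rw [h8axRbar_mk]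
  exact h8axR_eq' chevD4 h8oq_hD4 θ ρ c _ h1 h2

/-- diagonal automorphisms with prescribed coefficients -/
theorem h8oq_diag_exists (e : Fin chevD4.rank → Fˣ) :
    ∃ δ : MulAut ↥(chevD4.group F), δ ∈ h8A0 chevD4 F ∧
      H8Std chevD4 (h8base_all.{u} chevD4 h8oq_hD4) δ 1 e (RingEquiv.refl F) := by
  obtain ⟨χ, hχ, hmap, h⟩ := h8ax_std_diag_field chevD4 h8oq_hD4 e (RingEquiv.refl F)
  exact ⟨_, Subgroup.mul_mem _ (h8av_diag_mem chevD4 h8oq_hD4 χ hχ hmap)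
    (h8av_field_mem chevD4 h8oq_hD4 _), h⟩

theorem h8oq_S_surj :
    Function.Surjective (h8odSbar (F := F) chevD4 h8oq_hD4 (h8oq_hexp4 F)) := by
  intro τ
  exact ⟨QuotientGroup.mk' _ (h8fieldHom chevD4 h8oq_hD4 τ), by
    rw [h8odSbar_mk, h8odS_field]⟩

theorem h8oq_RA_range :
    (h8oqRA F).range = (h8axR (F := F) chevD4 h8oq_hD4).range := by
  apply le_antisymm
  · rintro _ ⟨a, rfl⟩
    obtain ⟨θ, hθ⟩ := QuotientGroup.mk'_surjective _ a.val
    refine ⟨θ, ?_⟩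
    show _ = h8axRbar chevD4 h8oq_hD4 a.val
    rw [← hθ]
    rfl
  · rintro _ ⟨θ, rfl⟩
    have hsym := h8axR_sym chevD4 h8oq_hD4 θ
    obtain ⟨γ, hγ, hstd⟩ := h8grD4_exists (F := F) _ hsym
    exact ⟨⟨_, h8oq_mk_mem_A F γ _ _ hγ hstd⟩, h8oq_RA_mk F γ _ _ hγ hstd⟩

end

section
variable (F) [Fintype F] (p f : ℕ) [Fact p.Prime] [CharP F p] (hF : Fintype.card F = p ^ f)

omit [Fact (Nat.Prime p)] [CharP F p] in
include hF in
theorem h8oq_f_pos : 0 < f := by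
  rcases Nat.eq_zero_or_pos f with h | h
  · subst h
    have := Fintype.one_lt_card (α := F)
    rw [hF, pow_zero] at this
    omega
  · exact h

include hF in
theorem h8oq_A_card : Nat.card ↥(h8oqA F) = 6 * Nat.gcd 2 (p ^ f - 1) ^ 2 := by
  have hO := h8out_D4 (F := F) p f hF
  have h1 := Subgroup.card_mul_index (h8oqA F)
  have h2 : (h8oqA F).index = f := by
    unfold h8oqA
    rw [Subgroup.index_ker, MonoidHom.range_eq_top.2 (h8oq_S_surj F), Subgroup.card_top]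
    exact h8av_ringAut_card p f hF
  rw [h2, hO] at h1
  exact Nat.eq_of_mul_eq_mul_right (h8oq_f_pos F p f hF) h1

include hF in
theorem h8oq_V_card : Nat.card ↥(h8oqV F) = Nat.gcd 2 (p ^ f - 1) ^ 2 := by
  have h1 := Subgroup.card_mul_index (h8oqV F)
  have h2 : (h8oqV F).index = 6 := by
    unfold h8oqV
    rw [Subgroup.index_ker, h8oq_RA_range]
    exact h8ax_D4_card h8oq_hD4
  rw [h2, h8oq_A_card F p f hF] at h1
  have : Nat.card ↥(h8oqV F) * 6 = Nat.gcd 2 (p ^ f - 1) ^ 2 * 6 := by rw [h1]; ring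
  exact Nat.eq_of_mul_eq_mul_right (by norm_num) this

end

end Cfsg.Agent.Lib.helper8
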