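import Mathlib
import Cfsg.Agent.Lib.helper8.RSM.Defs

/-!
# Project RSM, row B2 (`invol_kill_left`)
-/

set_option autoImplicit false

namespace Cfsg.Agent.Lib.helper8.RSM

universe u v w

variable {G : Type u} [Group G] {K : Type v} [Field K] [Fintype K] {m : ℕ}

/-- characteristic 3 from the cardinality -/
theorem rsmb2_three (hK : Fintype.card K = 3 ^ (2 * m + 1)) : (3 : K) = 0 := by
  have h : ((Fintype.card K : ℕ) : K) = 0 := Nat.cast_card_eq_zero K
  rw [hK] at h
  push_cast at h
  exact pow_eq_zero_iff (by omega) |>.mp h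

/-- B2 [S]. `B (-u) w = (B u w)⁻¹` by additivity, so `(B u w)² = 1`; `(B u w)³ = B (3 u) w = B 0 w = 1`. -/
theorem invol_kill_left (hK : Fintype.card K = 3 ^ (2 * m + 1)) {A : Type*} [Group A]
    (B : K → K → A) (hl : ∀ u u' w, B (u + u') w = B u w * B u' w)
    (hneg : ∀ u w, B (-u) w = B u w) : ∀ u w, B u w = 1 := by
  intro u w
  have h0 : B 0 w = 1 := by
    have h := hl 0 0 w
    rw [add_zero] at h
    exact left_eq_mul.mp h
  have h2 : B u w * B u w = 1 := by
    have h := hl u (-u) w
    rw [add_neg_cancel, h0, hneg] at h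
    exact h.symm
  have h3 : B u w * B u w * B u w = 1 := by
    have h := hl (u + u) u w
    rw [hl u u w] at h
    rw [← h]
    have e : u + u + u = 0 := by
      have : u + u + u = 3 * u := by ring
      rw [this, rsmb2_three hK, zero_mul]
    rw [e, h0]
  rw [h2, one_mul] at h3
  exact h3

end Cfsg.Agent.Lib.helper8.RSM
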