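import Mathlib
import Cfsg.Prelude.Def_LieTypeChar
import Cfsg.Prelude.Def_ChevStructure
import Cfsg.Prelude.Def_LieTwisted
import Cfsg.Agent.Lib.helper14.SQD.Defs
import Cfsg.Agent.Lib.helper8.ChevTwD4U

/-!
# Project SQD, row TW4 (`tw_d4_U_eq`): `U ∩ ³D₄(q)` is the fixed-point group `h8FixUb … 0`.
-/

set_option autoImplicit false

namespace Cfsg.Agent.Lib.helper14.SQD

open Cfsg Cfsg.Lie Cfsg.Lie.ChevalleyDatum Matrix
open Cfsg.Agent.Lib.helper8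

universe u

section TWgrp

variable {K : Type u} [Field K]

/-- TW4 [E-M]. -/
theorem tw_d4_U_eq (hB : H8Base.{u} chevD4) (hC : H8CommAll.{u} chevD4)
    (hA : H8ReflAll chevD4) (hBN : H8BN chevD4) (hO2 : H8Ord2 chevD4) (q : ℕ) (f : K ≃+* K)
    (hf : ∀ t, f t = t ^ q) (hfff : ∀ t, f (f (f t)) = t) (hneg : (-1 : K) ^ q = -1) :
    chevD4.posUnipotent K ⊓ twistedD4 K q =
      h8FixUb chevD4 h8posiD4 h8sD4 h8tD4 h8pD4 h8qD4 h8eD4 (h8autD4 hA) f 0 := by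
  ext g
  rw [Subgroup.mem_inf, h8FixUb_mem, h8Ub_zero]
  constructor
  · rintro ⟨h1, h2⟩
    exact ⟨h1, h8twD4_fix hB hC hA q f hf hfff g h2⟩
  · rintro ⟨h1, h2⟩
    exact ⟨h1, h8twD4_U_fix hB hC hA hBN hO2 q f hf hfff hneg g h1 h2⟩

end TWgrp

end Cfsg.Agent.Lib.helper14.SQD
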