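import Mathlib
import Cfsg.Agent.Lib.Helper16.U82.Defs
import Cfsg.Agent.Lib.helper14.SubC

set_option autoImplicit false

namespace Cfsg.Agent.Lib.Helper16.U82

open Matrix Cfsg.Agent.Lib.Helper16
open scoped MatrixGroups

/-- a map diagonal in a Jordan basis of `N` (`N² = 0`), with equal entries on each chain, commutes with `N`
and has determinant the product of the entries. -/
theorem u82b4_diag {F : Type*} [Field F] {V : Type*} [AddCommGroup V] [Module F V]
    (N : Module.End F V) (r d : ℕ) (B : Module.Basis (Fin r ⊕ (Fin r ⊕ Fin d)) F V)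
    (h1 : ∀ i, N (B (Sum.inl i)) = B (Sum.inr (Sum.inl i)))
    (h2 : ∀ i, N (B (Sum.inr (Sum.inl i))) = 0)
    (h3 : ∀ j, N (B (Sum.inr (Sum.inr j))) = 0)
    (c : Fin r ⊕ (Fin r ⊕ Fin d) → F) (hc : ∀ i, c (Sum.inl i) = c (Sum.inr (Sum.inl i))) :
    ∃ f : Module.End F V, f ∘ₗ N = N ∘ₗ f ∧ LinearMap.det f = ∏ k, c k := by
  classical
  refine ⟨B.constr F (fun k => c k • B k), ?_, ?_⟩
  · apply B.ext
    intro k
    rcases k with i | i | j
    · simp only [LinearMap.comp_apply, Module.Basis.constr_basis, h1, map_smul, hc]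
    · simp only [LinearMap.comp_apply, Module.Basis.constr_basis, h2, map_smul, map_zero, smul_zero]
    · simp only [LinearMap.comp_apply, Module.Basis.constr_basis, h3, map_smul, map_zero, smul_zero]
  · rw [← LinearMap.det_toMatrix B]
    have : LinearMap.toMatrix B B (B.constr F (fun k => c k • B k)) = Matrix.diagonal c := by
      ext i j
      rw [LinearMap.toMatrix_apply, Module.Basis.constr_basis, map_smul, Module.Basis.repr_self,
        Finsupp.smul_apply, Finsupp.single_apply, Matrix.diagonal_apply]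
      by_cases hij : i = j
      · subst hij; simp
      · have : ¬ j = i := fun h => hij h.symm
        simp [hij, this]
    rw [this, Matrix.det_diagonal]

theorem u82_cent_p2 {F : Type*} [Field F] [Fintype F] (n : ℕ) (hn : 1 ≤ n) (h2 : (2 : F) = 0)
    (u : Matrix (Fin n) (Fin n) F) (hu : u * u = 1) (a : F) (ha : a ≠ 0) :
    ∃ C : Matrix (Fin n) (Fin n) F, C * u = u * C ∧ C.det = a := by
  classical
  have hchar : CharP F 2 := CharTwo.of_one_ne_zero_of_two_eq_zero one_ne_zero h2
  let _ : Fact (Nat.Prime 2) := ⟨Nat.prime_two⟩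
  obtain ⟨b, hb⟩ : ∃ b : F, b ^ 2 = a := by
    obtain ⟨b, hb⟩ := surjective_frobenius F 2 a
    exact ⟨b, by simpa [frobenius_def] using hb⟩
  set N : Module.End F (Fin n → F) := Matrix.toLin' (u - 1) with hN
  have hsq : (u - 1) * (u - 1) = 0 := by
    have : (u - 1) * (u - 1) = u * u - (2 : F) • u + 1 := by
      rw [two_smul]; noncomm_ring
    rw [this, hu, h2, zero_smul, sub_zero]
    have : (1 : Matrix (Fin n) (Fin n) F) + 1 = (2 : F) • 1 := by rw [two_smul]
    rw [this, h2, zero_smul]
  have hNN : ∀ v, N (N v) = 0 := by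
    intro v
    rw [hN, ← LinearMap.comp_apply, ← Matrix.toLin'_mul, hsq]; simp
  obtain ⟨r, d, B, h1, h2', h3⟩ := Cfsg.Agent.Lib.helper14.SubC.exists_jordan_sq_zero N hNN
  -- the cardinality of the index
  have hcard : r + (r + d) = n := by
    have := Module.finrank_eq_card_basis B
    simpa using this.symm
  -- choose the diagonal entries
  obtain ⟨c, hc, hprod⟩ : ∃ c : Fin r ⊕ (Fin r ⊕ Fin d) → F,
      (∀ i, c (Sum.inl i) = c (Sum.inr (Sum.inl i))) ∧ ∏ k, c k = a := by
    by_cases hr : r = 0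
    · have hd : 0 < d := by omega
      refine ⟨Sum.elim (fun _ => 1) (Sum.elim (fun _ => 1) (fun j => if j = ⟨0, hd⟩ then a else 1)),
        fun i => rfl, ?_⟩
      rw [Fintype.prod_sum_type, Fintype.prod_sum_type]
      simp
    · have hr' : 0 < r := Nat.pos_of_ne_zero hr
      refine ⟨Sum.elim (fun i => if i = ⟨0, hr'⟩ then b else 1)
        (Sum.elim (fun i => if i = ⟨0, hr'⟩ then b else 1) (fun _ => 1)), fun i => rfl, ?_⟩
      rw [Fintype.prod_sum_type, Fintype.prod_sum_type]
      simp [← hb, sq]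
  obtain ⟨f, hfN, hfdet⟩ := u82b4_diag N r d B h1 h2' h3 c hc
  refine ⟨LinearMap.toMatrix' f, ?_, ?_⟩
  · have h4 : LinearMap.toMatrix' f * (u - 1) = (u - 1) * LinearMap.toMatrix' f := by
      have := congrArg LinearMap.toMatrix' hfN
      rw [LinearMap.toMatrix'_comp, LinearMap.toMatrix'_comp, hN, LinearMap.toMatrix'_toLin'] at this
      exact this
    rw [mul_sub, sub_mul, mul_one, one_mul] at h4
    exact sub_left_injective h4
  · rw [LinearMap.det_toMatrix', hfdet, hprod]

end Cfsg.Agent.Lib.Helper16.U82
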