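import Mathlib
import Cfsg.Agent.Lib.Helper16.U82.Defs
import Cfsg.Agent.Lib.Helper16.U82A679
import Cfsg.Agent.Lib.Helper16.U82Misc
import Cfsg.Agent.Lib.Helper20.U82B1
import Cfsg.Agent.Lib.Helper20.U82B2
import Cfsg.Agent.Lib.Helper20.U82B3
import Cfsg.Agent.Lib.helper8.U82B4

set_option autoImplicit false

namespace Cfsg.Agent.Lib.Helper16.U82

open Matrix Cfsg.Agent.Lib.Helper16
open scoped MatrixGroups

/-- `x ^ 2 = z • 1`, `z ≠ 0`, `2 ≠ 0`: `x` is semisimple. -/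
theorem u82b7_ss {F : Type*} [Field F] {n : ℕ} (h2 : (2 : F) ≠ 0)
    (x : Matrix (Fin n) (Fin n) F) (z : F) (hz0 : z ≠ 0) (hx : x ^ 2 = z • 1) :
    Module.End.IsSemisimple (Matrix.toLin' x) := by
  have hsep : (Polynomial.X ^ 2 - Polynomial.C z : Polynomial F).Separable :=
    Polynomial.separable_X_pow_sub_C z (by exact_mod_cast h2) hz0
  apply Module.End.isSemisimple_of_squarefree_aeval_eq_zero hsep.squarefree
  rw [map_sub, map_pow, Polynomial.aeval_X, Polynomial.aeval_C, ← Matrix.toLin'_pow, hx]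
  rw [Algebra.algebraMap_eq_smul_one, map_smul, Matrix.toLin'_one]
  exact sub_self _

theorem u82_two_in {F : Type*} [Field F] [Fintype F] {p : ℕ} [Fact p.Prime] [CharP F p]
    (q₀ n : ℕ) (hF : Fintype.card F = q₀ ^ 2) (hn : 1 ≤ n)
    (f : (Fin n → F) → (Fin n → F) → F) (hf : Cfsg.Geo.IsUnitaryFormPow q₀ f)
    (hcond : p = 2 ∨ padicValNat 2 n ≤ padicValNat 2 (q₀ ^ 2 - 1))
    (x : GL (Fin n) F) (hx : x ∈ Cfsg.Geo.specialLinear (Fin n) F)
    (hz : ∃ z : F, ((x ^ 2 : GL (Fin n) F) : Matrix (Fin n) (Fin n) F) =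
      z • (1 : Matrix (Fin n) (Fin n) F)) : ConjIn f x := by
  classical
  obtain ⟨z, hz⟩ := hz
  obtain ⟨c, hc⟩ := u82_two_sq q₀ n hF hn hcond x hx z hz
  have hxm : (x : Matrix (Fin n) (Fin n) F) ^ 2 = z • 1 := by
    rw [← hz]; simp
  -- z ≠ 0
  have hz0 : z ≠ 0 := by
    intro h
    have h1 := congrArg Matrix.det hxm
    have hne : Nonempty (Fin n) := ⟨⟨0, hn⟩⟩
    rw [h, zero_smul, Matrix.det_zero, Matrix.det_pow] at h1
    have h3 : IsUnit (x : Matrix (Fin n) (Fin n) F).det :=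
      (Matrix.isUnit_iff_isUnit_det _).mp x.isUnit
    exact h3.ne_zero (pow_eq_zero_iff (two_ne_zero) |>.mp h1)
  have hc0 : c ≠ 0 := by
    intro h; rw [h, mul_zero] at hc; exact hz0 hc
  -- A = c⁻¹ • x
  set e : Fˣ := Units.mk0 c⁻¹ (inv_ne_zero hc0) with he
  set Am : Matrix (Fin n) (Fin n) F := c⁻¹ • (x : Matrix (Fin n) (Fin n) F) with hAm
  have hAA : Am * Am = 1 := by
    rw [hAm, Matrix.smul_mul, Matrix.mul_smul, smul_smul, ← pow_two (x : Matrix (Fin n) (Fin n) F), hxm,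
      smul_smul, hc]
    rw [show c⁻¹ * c⁻¹ * (c * c) = 1 by field_simp, one_smul]
  have hAdet : IsUnit Am.det := by
    rw [← Matrix.isUnit_iff_isUnit_det]
    exact ⟨⟨Am, Am, hAA, hAA⟩, rfl⟩
  set A : GL (Fin n) F := Matrix.GeneralLinearGroup.mk'' Am hAdet with hA
  have hAcoe : (A : Matrix (Fin n) (Fin n) F) = (e : F) • (x : Matrix (Fin n) (Fin n) F) := rfl
  by_cases h2 : (2 : F) = 0
  · -- characteristic 2
    have hconj : IsConj (A : Matrix (Fin n) (Fin n) F) (ustar q₀ (A : Matrix (Fin n) (Fin n) F)) :=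
      u82_two_in_p2 q₀ n hF h2 Am hAA
    have hGL : ConjInGL f x := u82_crit_in_star q₀ n hF f hf x A e hAcoe hconj
    refine u82_sl_of_gl f x ?_ hGL
    intro a ha
    obtain ⟨C, hC1, hC2⟩ := u82_cent_p2 n hn h2 Am hAA a ha
    refine ⟨C, ?_, hC2⟩
    rw [hAm, Matrix.mul_smul, Matrix.smul_mul] at hC1
    exact smul_right_injective _ (inv_ne_zero hc0) hC1
  · have hconj : IsConj (A : Matrix (Fin n) (Fin n) F) (ustar q₀ (A : Matrix (Fin n) (Fin n) F)) :=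
      u82_two_in_odd q₀ n hF h2 Am hAA
    have hGL : ConjInGL f x := u82_crit_in_star q₀ n hF f hf x A e hAcoe hconj
    exact u82_sl_of_gl_ss hn f x (u82b7_ss h2 _ z hz0 hxm) hGL

end Cfsg.Agent.Lib.Helper16.U82
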