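import Mathlib
import Cfsg.Prelude.Def_GeometricClasses
import Cfsg.Agent.Lib.Helper27.ASC.Defs
import Cfsg.Agent.Lib.Helper19.ASG.Defs
import Cfsg.Agent.Lib.Helper18.ASP.Defs
import Cfsg.Agent.Lib.Lead.Reindex
import Cfsg.Agent.Lib.Helper28.OTrans

set_option autoImplicit false
set_option linter.unusedVariables false
set_option linter.unusedSectionVars false

/-!
# Project ASP (leader helper18), piece TR-C2 (helper8)

`tr_c2`: transport of the non-degenerate subspace clause of `InSpClassG` along `e : ι ≃ κ`.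
Statement verbatim from `Helper18/ASP/Skel.lean.txt`.  `asptrc2_isoGL_reindex` is the statement of TR-ISO
(proved inline, as the leader allowed), `asptrc2_map_inf` the common group step of all clauses `M = S ⊓ isoGL f`.
-/

namespace Cfsg.Agent.Lib.Helper18.ASP

open Cfsg Cfsg.Geo Cfsg.Agent.Lib.Helper27.ASC Cfsg.Agent.Lib.Helper19.ASG
open scoped MatrixGroups Matrix

variable {n : ℕ} {F : Type*} [Field F] [Fintype F]

section transport

open Cfsg.Agent.Lib.Lead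

variable {ι κ : Type} [Fintype ι] [DecidableEq ι] [Fintype κ] [DecidableEq κ]

theorem asptrc2_comp_symm (e : ι ≃ κ) (v : ι → F) : (v ∘ e.symm) ∘ e = v := by
  funext i; simp

theorem asptrc2_symm_comp (e : ι ≃ κ) (v : κ → F) : (v ∘ e) ∘ e.symm = v := by
  funext i; simp

/-- the key identity `(h x) ∘ e = (glReindex e).symm h (x ∘ e)`. -/
theorem asptrc2_key (e : ι ≃ κ) (h : GL κ F) (x : κ → F) :
    ((h : Matrix κ κ F) *ᵥ x) ∘ e =
      (((RI.glReindex (F := F) e).symm h : GL ι F) : Matrix ι ι F) *ᵥ (x ∘ e) := by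
  have hh : ((h : GL κ F) : Matrix κ κ F) =
      Matrix.reindex e e (((RI.glReindex (F := F) e).symm h : GL ι F) : Matrix ι ι F) := by
    rw [← RI.glReindex_coe, MulEquiv.apply_symm_apply]
  rw [hh, RI.reindex_mulVec]
  funext i
  simp

/-- the statement of TR-ISO. -/
theorem asptrc2_isoGL_reindex (e : ι ≃ κ) (f : (ι → F) → (ι → F) → F) :
    (isoGL f).map (RI.glReindex (F := F) e).toMonoidHom = isoGL (fun x y : κ → F => f (x ∘ e) (y ∘ e)) := by
  ext h
  rw [Subgroup.mem_map_equiv, mem_isoGL_iff, mem_isoGL_iff]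
  constructor
  · intro H x y
    show f (((h : Matrix κ κ F) *ᵥ x) ∘ e) (((h : Matrix κ κ F) *ᵥ y) ∘ e) = f (x ∘ e) (y ∘ e)
    rw [asptrc2_key, asptrc2_key]
    exact H (x ∘ e) (y ∘ e)
  · intro H u v
    have h1 : f (((h : Matrix κ κ F) *ᵥ (u ∘ e.symm)) ∘ e) (((h : Matrix κ κ F) *ᵥ (v ∘ e.symm)) ∘ e) =
        f ((u ∘ e.symm) ∘ e) ((v ∘ e.symm) ∘ e) := H (u ∘ e.symm) (v ∘ e.symm)
    rw [asptrc2_key, asptrc2_key, asptrc2_comp_symm, asptrc2_comp_symm] at h1
    exact h1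

/-- the group step common to all clauses `M = S ⊓ isoGL f`. -/
theorem asptrc2_map_inf (e : ι ≃ κ) (f : (ι → F) → (ι → F) → F) (S : Subgroup (GL ι F)) :
    (S ⊓ isoGL f).map (RI.glReindex (F := F) e).toMonoidHom =
      S.map (RI.glReindex (F := F) e).toMonoidHom ⊓ isoGL (fun x y : κ → F => f (x ∘ e) (y ∘ e)) := by
  have hinj : Function.Injective (RI.glReindex (F := F) e).toMonoidHom :=
    (RI.glReindex (F := F) e).injective
  rw [Subgroup.map_inf _ _ _ hinj, asptrc2_isoGL_reindex]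

theorem asptrc2_mem_comap (e : ι ≃ κ) (W : Submodule F (ι → F)) (x : κ → F) :
    x ∈ W.comap (LinearMap.funLeft F F e) ↔ x ∘ e ∈ W := Iff.rfl

theorem asptrc2_comap_ne_bot (e : ι ≃ κ) (W : Submodule F (ι → F)) (hW : W ≠ ⊥) :
    W.comap (LinearMap.funLeft F F e) ≠ ⊥ := by
  obtain ⟨w, hw, hw0⟩ := (Submodule.ne_bot_iff W).1 hW
  refine (Submodule.ne_bot_iff _).2 ⟨w ∘ e.symm, ?_, ?_⟩
  · rw [asptrc2_mem_comap, asptrc2_comp_symm]; exact hw
  · intro h0
    apply hw0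
    rw [← asptrc2_comp_symm (F := F) e w, h0]
    rfl

theorem asptrc2_finrank (e : ι ≃ κ) (W : Submodule F (ι → F)) :
    Module.finrank F (W.comap (LinearMap.funLeft F F e)) = Module.finrank F W := by
  have h : W.comap (LinearMap.funLeft F F e) =
      W.map ((LinearEquiv.funCongrLeft F F e).symm : (ι → F) →ₗ[F] (κ → F)) := by
    rw [Submodule.map_equiv_eq_comap_symm]
    rfl
  rw [h]
  exact LinearEquiv.finrank_map_eq (LinearEquiv.funCongrLeft F F e).symm W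

theorem asptrc2_nondeg (e : ι ≃ κ) (f : (ι → F) → (ι → F) → F) (W : Submodule F (ι → F))
    (h : IsNondegenerateOn f W) :
    IsNondegenerateOn (fun x y : κ → F => f (x ∘ e) (y ∘ e)) (W.comap (LinearMap.funLeft F F e)) := by
  intro w hw hw0
  have hw0' : w ∘ e ≠ 0 := by
    intro h0
    apply hw0
    rw [← asptrc2_symm_comp (F := F) e w, h0]
    rfl
  obtain ⟨⟨x, hx, hx1⟩, ⟨y, hy, hy1⟩⟩ := h (w ∘ e) hw hw0'
  refine ⟨⟨x ∘ e.symm, ?_, ?_⟩, ⟨y ∘ e.symm, ?_, ?_⟩⟩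
  · rw [asptrc2_mem_comap, asptrc2_comp_symm]; exact hx
  · show f ((x ∘ e.symm) ∘ e) (w ∘ e) ≠ 0
    rw [asptrc2_comp_symm]; exact hx1
  · rw [asptrc2_mem_comap, asptrc2_comp_symm]; exact hy
  · show f (w ∘ e) ((y ∘ e.symm) ∘ e) ≠ 0
    rw [asptrc2_comp_symm]; exact hy1

/-- TR-C2 : non-degenerate subspace -/
theorem tr_c2 (e : ι ≃ κ) (m : ℕ) (f : (ι → F) → (ι → F) → F) (M : Subgroup (GL ι F))
    (h : ∃ W : Submodule F (ι → F), W ≠ ⊥ ∧ IsNondegenerateOn f W ∧ Module.finrank F W < m ∧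
      M = subspaceStabilizer W ⊓ isoGL f) :
    ∃ W : Submodule F (κ → F), W ≠ ⊥ ∧ IsNondegenerateOn (fun x y : κ → F => f (x ∘ e) (y ∘ e)) W ∧
      Module.finrank F W < m ∧
      M.map (RI.glReindex (F := F) e).toMonoidHom =
        subspaceStabilizer W ⊓ isoGL (fun x y : κ → F => f (x ∘ e) (y ∘ e)) := by
  obtain ⟨W, hW0, hnd, hfr, rfl⟩ := h
  refine ⟨W.comap (LinearMap.funLeft F F e), asptrc2_comap_ne_bot e W hW0, asptrc2_nondeg e f W hnd, ?_, ?_⟩
  · rw [asptrc2_finrank]; exact hfr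
  · rw [asptrc2_map_inf, Cfsg.Agent.Lib.Helper28.OTrans.map_stab]

end transport

end Cfsg.Agent.Lib.Helper18.ASP
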