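import Mathlib
import Cfsg.Prelude.Def_GeometricClasses
import Cfsg.Agent.Lib.Helper27.ASC.Defs
import Cfsg.Agent.Lib.Helper19.ASG.Defs
import Cfsg.Agent.Lib.Helper18.ASP.Defs
import Cfsg.Agent.Lib.Lead.Reindex
import Cfsg.Agent.Lib.Helper28.OsR
import Cfsg.Agent.Lib.helper8.ASPTRC2

set_option autoImplicit false
set_option linter.unusedVariables false
set_option linter.unusedSectionVars false

/-!
# Project ASP (leader helper18), piece TR-C5 (helper8)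

`tr_c5`: transport of the subfield clause of `InSpClassG` along `e : ι ≃ κ` (`P' = glReindex e P`).
Statement verbatim from `Helper18/ASP/Skel.lean.txt`.
-/

namespace Cfsg.Agent.Lib.Helper18.ASP

open Cfsg Cfsg.Geo Cfsg.Agent.Lib.Helper27.ASC Cfsg.Agent.Lib.Helper19.ASG
open scoped MatrixGroups Matrix

variable {n : ℕ} {F : Type*} [Field F] [Fintype F]

section transport

open Cfsg.Agent.Lib.Lead

variable {ι κ : Type} [Fintype ι] [DecidableEq ι] [Fintype κ] [DecidableEq κ]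

/-- `((glReindex e P) x) ∘ e = P (x ∘ e)`. -/
theorem asptrc5_key (e : ι ≃ κ) (P : GL ι F) (x : κ → F) :
    (((RI.glReindex (F := F) e P : GL κ F) : Matrix κ κ F) *ᵥ x) ∘ e = (P : Matrix ι ι F) *ᵥ (x ∘ e) := by
  rw [asptrc2_key, MulEquiv.symm_apply_apply]

theorem asptrc5_rational (e : ι ≃ κ) (f : (ι → F) → (ι → F) → F) (F₀ : Subfield F) (ζ : F) (P : GL ι F)
    (h : IsFormRationalStructure f F₀ ζ P) :
    IsFormRationalStructure (fun x y : κ → F => f (x ∘ e) (y ∘ e)) F₀ ζ (RI.glReindex (F := F) e P) := by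
  intro u v hu hv
  show ζ * f ((((RI.glReindex (F := F) e P : GL κ F) : Matrix κ κ F) *ᵥ u) ∘ e)
    ((((RI.glReindex (F := F) e P : GL κ F) : Matrix κ κ F) *ᵥ v) ∘ e) ∈ F₀
  rw [asptrc5_key, asptrc5_key]
  exact h (u ∘ e) (v ∘ e) (fun i => hu (e i)) (fun i => hv (e i))

/-- TR-C5 : subfield group -/
theorem tr_c5 (e : ι ≃ κ) (f : (ι → F) → (ι → F) → F) (M : Subgroup (GL ι F))
    (h : ∃ (F₀ : Subfield F) (r : ℕ) (P : GL ι F) (ζ : F), r.Prime ∧ Fintype.card F = Nat.card F₀ ^ r ∧ ζ ≠ 0 ∧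
      IsFormRationalStructure f F₀ ζ P ∧ M = subfieldSubgroup F₀ P ⊓ isoGL f) :
    ∃ (F₀ : Subfield F) (r : ℕ) (P : GL κ F) (ζ : F), r.Prime ∧ Fintype.card F = Nat.card F₀ ^ r ∧ ζ ≠ 0 ∧
      IsFormRationalStructure (fun x y : κ → F => f (x ∘ e) (y ∘ e)) F₀ ζ P ∧
      M.map (RI.glReindex (F := F) e).toMonoidHom =
        subfieldSubgroup F₀ P ⊓ isoGL (fun x y : κ → F => f (x ∘ e) (y ∘ e)) := by
  obtain ⟨F₀, r, P, ζ, hr, hcard, hζ, hrat, rfl⟩ := h
  refine ⟨F₀, r, RI.glReindex (F := F) e P, ζ, hr, hcard, hζ, asptrc5_rational e f F₀ ζ P hrat, ?_⟩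
  rw [asptrc2_map_inf, Cfsg.Agent.Lib.Helper28.Os.map_sub_reindex]

end transport

end Cfsg.Agent.Lib.Helper18.ASP
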