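import Mathlib
import Cfsg.Prelude.Def_GeometricClasses
import Cfsg.Agent.Lib.Helper27.ASC.Defs
import Cfsg.Agent.Lib.Helper19.ASG.Defs
import Cfsg.Agent.Lib.Helper18.ASP.Defs
import Cfsg.Agent.Lib.Lead.Reindex
import Cfsg.Agent.Lib.Helper18.ASCOTRRES
import Cfsg.Agent.Lib.helper8.ASPTRC5

set_option autoImplicit false
set_option linter.unusedVariables false
set_option linter.unusedSectionVars false

/-!
# Project ASP (leader helper18), piece TR-C6 (helper8)

`tr_c6`: transport of the symplectic-type `2`-group clause of `InSpClassG` along `e : ι ≃ κ` (`R' = R.map (glReindex e)`).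
Statement verbatim from `Helper18/ASP/Skel.lean.txt`.  The abstract lemmas `asptrc6_*` say that the group-theoretic
conditions are invariant under a group isomorphism.
-/

namespace Cfsg.Agent.Lib.Helper18.ASP

open Cfsg Cfsg.Geo Cfsg.Agent.Lib.Helper27.ASC Cfsg.Agent.Lib.Helper19.ASG
open scoped MatrixGroups Matrix

section abstract

variable {G G' : Type*} [Group G] [Group G']

/-- a subgroup of `G'` pulled back along `ψ : G ≃* G'`, with the induced isomorphism. -/
theorem asptrc6_comm_of_equiv {A A' : Type*} [Group A] [Group A'] (E : A ≃* A') (h : IsMulCommutative A') :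
    IsMulCommutative A := by
  refine ⟨⟨fun a b => ?_⟩⟩
  apply E.injective
  rw [map_mul, map_mul]
  exact h.is_comm.comm _ _

theorem asptrc6_char_comap (ψ : G ≃* G') (A' : Subgroup G') (hA' : A'.Characteristic) :
    (A'.comap ψ.toMonoidHom).Characteristic := by
  rw [Subgroup.characteristic_iff_comap_eq]
  intro α
  have h1 := Subgroup.characteristic_iff_comap_eq.1 hA' ((ψ.symm.trans α).trans ψ)
  ext x
  simp only [Subgroup.mem_comap, MulEquiv.coe_toMonoidHom]
  have h2 : ψ (α x) ∈ A' ↔ ψ x ∈ A' := by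
    have := congrArg (fun S : Subgroup G' => ψ x ∈ S) h1
    simp only [Subgroup.mem_comap, MulEquiv.coe_toMonoidHom, MulEquiv.trans_apply,
      MulEquiv.symm_apply_apply] at this
    exact Iff.of_eq this
  exact h2

/-- the restriction of `ψ` to a pulled-back subgroup. -/
noncomputable def asptrc6_res (ψ : G ≃* G') (A' : Subgroup G') : ↥(A'.comap ψ.toMonoidHom) ≃* ↥A' where
  toFun x := ⟨ψ x.1, x.2⟩
  invFun y := ⟨ψ.symm y.1, by
    show ψ (ψ.symm y.1) ∈ A'
    rw [MulEquiv.apply_symm_apply]; exact y.2⟩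
  left_inv x := Subtype.ext (ψ.symm_apply_apply x.1)
  right_inv y := Subtype.ext (ψ.apply_symm_apply y.1)
  map_mul' x y := Subtype.ext (map_mul ψ x.1 y.1)

theorem asptrc6_cyclic (ψ : G ≃* G')
    (h : ∀ A : Subgroup G, A.Characteristic → IsMulCommutative A → IsCyclic A) :
    ∀ A' : Subgroup G', A'.Characteristic → IsMulCommutative A' → IsCyclic A' := by
  intro A' hch hcomm
  have h1 : IsCyclic ↥(A'.comap ψ.toMonoidHom) :=
    h _ (asptrc6_char_comap ψ A' hch) (asptrc6_comm_of_equiv (asptrc6_res ψ A') hcomm)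
  exact isCyclic_of_surjective (asptrc6_res ψ A') (asptrc6_res ψ A').surjective

end abstract

variable {n : ℕ} {F : Type*} [Field F] [Fintype F]

section transport

open Cfsg.Agent.Lib.Lead

variable {ι κ : Type} [Fintype ι] [DecidableEq ι] [Fintype κ] [DecidableEq κ]

/-- the isomorphism `R ≃* R.map (glReindex e)`. -/
noncomputable def asptrc6_equiv (e : ι ≃ κ) (R : Subgroup (GL ι F)) :
    ↥R ≃* ↥(R.map (RI.glReindex (F := F) e).toMonoidHom) :=
  (RI.glReindex (F := F) e).subgroupMap R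

theorem asptrc6_sympType (e : ι ≃ κ) (R : Subgroup (GL ι F)) (r : ℕ) (h : IsSymplecticTypeGroup r R) :
    IsSymplecticTypeGroup r (R.map (RI.glReindex (F := F) e).toMonoidHom) := by
  refine ⟨h.prime, h.pGroup.of_equiv (asptrc6_equiv e R), ?_, ?_⟩
  · exact asptrc6_cyclic (asptrc6_equiv e R) h.cyclic_of_characteristic
  · rw [← Monoid.exponent_eq_of_mulEquiv (asptrc6_equiv e R)]
    exact h.exponent_eq

theorem asptrc6_minus (e : ι ≃ κ) (R : Subgroup (GL ι F)) (k : ℕ) (h : IsOfMinusType k R) :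
    IsOfMinusType k (R.map (RI.glReindex (F := F) e).toMonoidHom) := by
  intro A' hcomm hsq
  have h1 := h (A'.comap (asptrc6_equiv e R).toMonoidHom)
    (asptrc6_comm_of_equiv (asptrc6_res (asptrc6_equiv e R) A') hcomm) ?_
  · rw [Nat.card_congr (asptrc6_res (asptrc6_equiv e R) A').toEquiv] at h1
    exact h1
  · intro x hx
    apply (asptrc6_equiv e R).injective
    rw [map_mul, map_one]
    exact hsq _ hx

theorem asptrc6_map_eq_comap (e : ι ≃ κ) (R : Subgroup (GL ι F)) :
    R.map (RI.glReindex (F := F) e).toMonoidHom = R.comap (RI.glReindex (F := F) e.symm).toMonoidHom := by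
  ext h
  rw [Subgroup.mem_map_equiv, Subgroup.mem_comap]
  rfl

theorem asptrc6_absIrr (e : ι ≃ κ) (R : Subgroup (GL ι F)) (h : ActsAbsolutelyIrreducibly (matrixSet R)) :
    ActsAbsolutelyIrreducibly (matrixSet (R.map (RI.glReindex (F := F) e).toMonoidHom)) := by
  rw [asptrc6_map_eq_comap]
  exact Cfsg.Agent.Lib.helper23.ASCO.ascotrres_absIrr e.symm R h

theorem asptrc6_similarity (e : ι ≃ κ) (f : (ι → F) → (ι → F) → F) (R : Subgroup (GL ι F))
    (h : R ≤ similarityGroup f) :
    R.map (RI.glReindex (F := F) e).toMonoidHom ≤ similarityGroup (fun x y : κ → F => f (x ∘ e) (y ∘ e)) := by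
  rintro _ ⟨g, hg, rfl⟩
  obtain ⟨c, hc⟩ := h hg
  refine ⟨c, fun u v => ?_⟩
  show f ((((RI.glReindex (F := F) e g : GL κ F) : Matrix κ κ F) *ᵥ u) ∘ e)
    ((((RI.glReindex (F := F) e g : GL κ F) : Matrix κ κ F) *ᵥ v) ∘ e) = (c : F) * f (u ∘ e) (v ∘ e)
  rw [asptrc5_key, asptrc5_key]
  exact hc (u ∘ e) (v ∘ e)

theorem asptrc6_normalizer (e : ι ≃ κ) (R : Subgroup (GL ι F)) :
    (subgroupNormalizer R).map (RI.glReindex (F := F) e).toMonoidHom =
      subgroupNormalizer (R.map (RI.glReindex (F := F) e).toMonoidHom) :=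
  Subgroup.map_equiv_normalizer_eq R (RI.glReindex (F := F) e)

/-- TR-C6 : symplectic-type 2-group of minus type -/
theorem tr_c6 (e : ι ≃ κ) (f : (ι → F) → (ι → F) → F) (M : Subgroup (GL ι F))
    (h : ∃ (R : Subgroup (GL ι F)) (p k : ℕ), IsSymplecticTypeGroup 2 R ∧
      ActsAbsolutelyIrreducibly (matrixSet R) ∧ R ≤ similarityGroup f ∧ p.Prime ∧ Odd p ∧ Fintype.card F = p ∧
      Nat.card R = 2 ^ (1 + 2 * k) ∧ Nat.card (Subgroup.center R) = 2 ∧ IsOfMinusType k R ∧
      M = subgroupNormalizer R ⊓ isoGL f) :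
    ∃ (R : Subgroup (GL κ F)) (p k : ℕ), IsSymplecticTypeGroup 2 R ∧
      ActsAbsolutelyIrreducibly (matrixSet R) ∧ R ≤ similarityGroup (fun x y : κ → F => f (x ∘ e) (y ∘ e)) ∧
      p.Prime ∧ Odd p ∧ Fintype.card F = p ∧
      Nat.card R = 2 ^ (1 + 2 * k) ∧ Nat.card (Subgroup.center R) = 2 ∧ IsOfMinusType k R ∧
      M.map (RI.glReindex (F := F) e).toMonoidHom =
        subgroupNormalizer R ⊓ isoGL (fun x y : κ → F => f (x ∘ e) (y ∘ e)) := by
  obtain ⟨R, p, k, hst, hai, hsim, hp, hodd, hcard, hR, hZ, hminus, rfl⟩ := h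
  refine ⟨R.map (RI.glReindex (F := F) e).toMonoidHom, p, k, asptrc6_sympType e R 2 hst, asptrc6_absIrr e R hai,
    asptrc6_similarity e f R hsim, hp, hodd, hcard, ?_, ?_, asptrc6_minus e R k hminus, ?_⟩
  · rw [← Nat.card_congr (asptrc6_equiv e R).toEquiv]; exact hR
  · rw [← Nat.card_congr (Subgroup.centerCongr (asptrc6_equiv e R)).toEquiv]; exact hZ
  · rw [asptrc2_map_inf, asptrc6_normalizer]

end transport

end Cfsg.Agent.Lib.Helper18.ASP
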