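import Mathlib
import Cfsg.Prelude.Def_GeometricClasses
import Cfsg.Agent.Lib.Helper27.ASC.Defs
import Cfsg.Agent.Lib.Helper19.ASG.Defs
import Cfsg.Agent.Lib.Helper18.ASP.Defs
import Cfsg.Agent.Lib.Lead.Reindex

set_option autoImplicit false
set_option linter.unusedVariables false
set_option linter.unusedSectionVars false

/-!
# Project ASP (leader helper18), piece TR-FORM (helper8)

`symplectic_reindex`: a symplectic form transported along a bijection of index sets is symplectic.
Statement verbatim from `Helper18/ASP/Skel.lean.txt`.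
-/

namespace Cfsg.Agent.Lib.Helper18.ASP

open Cfsg Cfsg.Geo Cfsg.Agent.Lib.Helper27.ASC Cfsg.Agent.Lib.Helper19.ASG
open scoped MatrixGroups Matrix

variable {n : ℕ} {F : Type*} [Field F] [Fintype F]

section transport

open Cfsg.Agent.Lib.Lead

variable {ι κ : Type} [Fintype ι] [DecidableEq ι] [Fintype κ] [DecidableEq κ]

/-- `x ↦ x ∘ e` is onto (and injective): every `v : ι → F` is `(v ∘ e.symm) ∘ e`. -/
theorem asptrform_comp_symm (e : ι ≃ κ) (v : ι → F) : (v ∘ e.symm) ∘ e = v := by
  funext i; simp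

theorem asptrform_comp_ne_zero (e : ι ≃ κ) (v : κ → F) (hv : v ≠ 0) : v ∘ e ≠ 0 := by
  intro h
  apply hv
  funext k
  have := congrFun h (e.symm k)
  simpa using this

/-- TR-FORM -/
theorem symplectic_reindex (e : ι ≃ κ) (f : (ι → F) → (ι → F) → F) (hf : IsSymplecticForm f) :
    IsSymplecticForm (fun x y : κ → F => f (x ∘ e) (y ∘ e)) := by
  refine ⟨⟨?_, ?_, ?_, ?_⟩, ?_, ?_, ?_⟩
  · intro x y v
    exact hf.bilinear.add_left _ _ _
  · intro c x v
    exact hf.bilinear.smul_left _ _ _
  · intro v x y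
    exact hf.bilinear.add_right _ _ _
  · intro c v x
    exact hf.bilinear.smul_right _ _ _
  · intro v w
    exact hf.skew _ _
  · intro v
    exact hf.alternating _
  · intro v hv
    obtain ⟨⟨x, hx⟩, ⟨y, hy⟩⟩ := hf.nondegenerate (v ∘ e) (asptrform_comp_ne_zero e v hv)
    refine ⟨⟨x ∘ e.symm, ?_⟩, ⟨y ∘ e.symm, ?_⟩⟩
    · simpa only [asptrform_comp_symm] using hx
    · simpa only [asptrform_comp_symm] using hy

end transport

end Cfsg.Agent.Lib.Helper18.ASP
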