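import Mathlib
import Cfsg.Prelude.Def_GeometricClasses
import Cfsg.Agent.Lib.Helper27.ASC.Defs
import Cfsg.Agent.Lib.Helper19.ASG.Defs
import Cfsg.Agent.Lib.Helper18.ASP.Defs
import Cfsg.Agent.Lib.Helper18.ASPADJ
import Cfsg.Agent.Lib.helper8.ASPC.Defs
import Cfsg.Agent.Lib.Helper20.ASGCMEM

set_option autoImplicit false
set_option linter.unusedVariables false
set_option linter.unusedSectionVars false

/-!
# ASP block C, piece C-KRON : `Pᵀ G P = R(a ⊗ b)` gives `KrGram f e P a b`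
-/

namespace Cfsg.Agent.Lib.Helper18.ASP

open Cfsg Cfsg.Geo Cfsg.Agent.Lib.Helper27.ASC Cfsg.Agent.Lib.Helper19.ASG
open scoped MatrixGroups Matrix Kronecker

variable {n : ℕ} {F : Type*} [Field F]

/-- the form with Gram matrix `M` in reindexed coordinates -/
theorem aspckron_reindex_form {κ : Type} [Fintype κ] [DecidableEq κ] (e : Fin n ≃ κ) (M : Matrix κ κ F)
    (x y : κ → F) :
    (x ∘ e) ⬝ᵥ (Matrix.reindexAlgEquiv F F e.symm M *ᵥ (y ∘ e)) = formOfGram id M x y := by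
  unfold formOfGram
  simp only [dotProduct, Matrix.mulVec, Function.comp_apply, Matrix.coe_reindexAlgEquiv, Matrix.reindex_apply,
    Matrix.submatrix_apply, Equiv.symm_symm, id]
  rw [← Equiv.sum_comp e]
  apply Finset.sum_congr rfl
  intro i _
  rw [Finset.mul_sum, ← Equiv.sum_comp e]
  apply Finset.sum_congr rfl
  intro j _
  ring

/-- the form `f` in the coordinates `P`: Gram matrix `Pᵀ G P` -/
theorem aspckron_coord (f : (Fin n → F) → (Fin n → F) → F) (hf : IsSymplecticForm f) (P : Matrix (Fin n) (Fin n) F)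
    (u v : Fin n → F) :
    f (P *ᵥ u) (P *ᵥ v) = u ⬝ᵥ ((Pᵀ * ascformGram f * P) *ᵥ v) := by
  rw [aspadj_gram hf]
  have h1 : (Pᵀ * ascformGram f * P) *ᵥ v = Pᵀ *ᵥ (ascformGram f *ᵥ (P *ᵥ v)) := by
    rw [Matrix.mulVec_mulVec, Matrix.mulVec_mulVec, Matrix.mul_assoc]
  rw [h1, Matrix.dotProduct_mulVec u, Matrix.vecMul_transpose]

/-- C-KRON -/
theorem spc_gram_kron (f : (Fin n → F) → (Fin n → F) → F) (hf : IsSymplecticForm f) {k d : ℕ}
    (e : Fin n ≃ Fin k × Fin d) (P : GL (Fin n) F) (g₀ : GL (Fin n) F)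
    (hg₀ : (g₀ : Matrix (Fin n) (Fin n) F) =
      (P : Matrix (Fin n) (Fin n) F) * (P : Matrix (Fin n) (Fin n) F)ᵀ * ascformGram f)
    (hmem : g₀ ∈ tensorProductSubgroup k d e P) :
    ∃ (A : Matrix (Fin k) (Fin k) F) (B : Matrix (Fin d) (Fin d) F), A.det ≠ 0 ∧ B.det ≠ 0 ∧ KrGram f e P A B := by
  obtain ⟨a, b, hab⟩ := (mem_tensorProductSubgroup_iff e P g₀).mp hmem
  have hPP : ((P⁻¹ : GL (Fin n) F) : Matrix (Fin n) (Fin n) F) * (P : Matrix (Fin n) (Fin n) F) = 1 := by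
    rw [← Units.val_mul, inv_mul_cancel, Units.val_one]
  have hdet : ∀ {r : ℕ} (c : GL (Fin r) F), (c : Matrix (Fin r) (Fin r) F).det ≠ 0 := by
    intro r c
    exact ((Matrix.isUnit_iff_isUnit_det _).mp (Units.isUnit c)).ne_zero
  refine ⟨a, b, hdet a, hdet b, ?_⟩
  -- `Pᵀ G P = R(a ⊗ b)`
  have hG : (P : Matrix (Fin n) (Fin n) F)ᵀ * ascformGram f * (P : Matrix (Fin n) (Fin n) F) =
      Matrix.reindexAlgEquiv F F e.symm ((a : Matrix (Fin k) (Fin k) F) ⊗ₖ (b : Matrix (Fin d) (Fin d) F)) := by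
    have h1 := hg₀.symm.trans hab
    have h2 := congrArg (fun M => ((P⁻¹ : GL (Fin n) F) : Matrix (Fin n) (Fin n) F) * M *
      (P : Matrix (Fin n) (Fin n) F)) h1
    simp only [Matrix.mul_assoc, hPP, Matrix.mul_one] at h2
    simp only [← Matrix.mul_assoc, hPP, Matrix.one_mul] at h2
    exact h2
  intro x y
  rw [aspckron_coord f hf, hG, aspckron_reindex_form]

end Cfsg.Agent.Lib.Helper18.ASP
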