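import Mathlib
import Cfsg.Prelude.Def_GeometricClasses
import Cfsg.Agent.Lib.Helper27.ASC.Defs
import Cfsg.Agent.Lib.Helper19.ASG.Defs
import Cfsg.Agent.Lib.Helper18.ASP.Defs
import Cfsg.Agent.Lib.Helper18.ASPADJ
import Cfsg.Agent.Lib.helper8.ASPC.Defs

set_option autoImplicit false
set_option linter.unusedVariables false
set_option linter.unusedSectionVars false

/-!
# ASP block C, piece C-NRM : `Γ = P Pᵀ G` normalises `centAlg N = P R(M_k ⊗ 1) P⁻¹`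
-/

namespace Cfsg.Agent.Lib.Helper18.ASP

open Cfsg Cfsg.Geo Cfsg.Agent.Lib.Helper27.ASC Cfsg.Agent.Lib.Helper19.ASG
open scoped MatrixGroups Matrix Kronecker

variable {n : ℕ} {F : Type*} [Field F]

theorem aspcnrm_transpose_std {k d : ℕ} (e : Fin n ≃ Fin k × Fin d) (P : GL (Fin n) F)
    (a : Matrix (Fin k) (Fin k) F) :
    ((P : Matrix (Fin n) (Fin n) F) *
        Matrix.reindexAlgEquiv F F e.symm (a ⊗ₖ (1 : Matrix (Fin d) (Fin d) F)) *
        ((P⁻¹ : GL (Fin n) F) : Matrix (Fin n) (Fin n) F))ᵀ =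
      ((P⁻¹ : GL (Fin n) F) : Matrix (Fin n) (Fin n) F)ᵀ *
        Matrix.reindexAlgEquiv F F e.symm (aᵀ ⊗ₖ (1 : Matrix (Fin d) (Fin d) F)) *
        (P : Matrix (Fin n) (Fin n) F)ᵀ := by
  rw [Matrix.transpose_mul, Matrix.transpose_mul, ← Matrix.mul_assoc]
  congr 2
  ext i j
  simp [Matrix.coe_reindexAlgEquiv, Matrix.kroneckerMap_apply, Matrix.one_apply, eq_comm]

/-- the key identity: `Γ (ψ a)* Γ⁻¹ = ψ aᵀ` where `ψ a = P R(a ⊗ 1) P⁻¹`, in the form `Γ (ψ a)* = ψ aᵀ Γ` -/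
theorem aspcnrm_key (f : (Fin n → F) → (Fin n → F) → F) (hf : IsSymplecticForm f) {k d : ℕ}
    (e : Fin n ≃ Fin k × Fin d) (P : GL (Fin n) F) (a : Matrix (Fin k) (Fin k) F) :
    ((P : Matrix (Fin n) (Fin n) F) * (P : Matrix (Fin n) (Fin n) F)ᵀ * ascformGram f) *
        aspAdj f ((P : Matrix (Fin n) (Fin n) F) *
          Matrix.reindexAlgEquiv F F e.symm (a ⊗ₖ (1 : Matrix (Fin d) (Fin d) F)) *
          ((P⁻¹ : GL (Fin n) F) : Matrix (Fin n) (Fin n) F)) =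
      ((P : Matrix (Fin n) (Fin n) F) *
          Matrix.reindexAlgEquiv F F e.symm (aᵀ ⊗ₖ (1 : Matrix (Fin d) (Fin d) F)) *
          ((P⁻¹ : GL (Fin n) F) : Matrix (Fin n) (Fin n) F)) *
        ((P : Matrix (Fin n) (Fin n) F) * (P : Matrix (Fin n) (Fin n) F)ᵀ * ascformGram f) := by
  have hPP : ((P⁻¹ : GL (Fin n) F) : Matrix (Fin n) (Fin n) F) * (P : Matrix (Fin n) (Fin n) F) = 1 := by
    rw [← Units.val_mul, inv_mul_cancel, Units.val_one]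
  have hPPt : (P : Matrix (Fin n) (Fin n) F)ᵀ * ((P⁻¹ : GL (Fin n) F) : Matrix (Fin n) (Fin n) F)ᵀ = 1 := by
    rw [← Matrix.transpose_mul, hPP, Matrix.transpose_one]
  have hGG := aspadj_gram_mul_inv hf
  unfold aspAdj
  rw [aspcnrm_transpose_std]
  set Pm := (P : Matrix (Fin n) (Fin n) F)
  set Pi := ((P⁻¹ : GL (Fin n) F) : Matrix (Fin n) (Fin n) F)
  set G := ascformGram f
  set X := Matrix.reindexAlgEquiv F F e.symm (aᵀ ⊗ₖ (1 : Matrix (Fin d) (Fin d) F))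
  calc Pm * Pmᵀ * G * (G⁻¹ * (Piᵀ * X * Pmᵀ) * G)
      = Pm * Pmᵀ * (G * G⁻¹) * (Piᵀ * X * Pmᵀ) * G := by simp only [Matrix.mul_assoc]
    _ = Pm * (Pmᵀ * Piᵀ) * X * Pmᵀ * G := by rw [hGG, Matrix.mul_one]; simp only [Matrix.mul_assoc]
    _ = Pm * X * (Pi * Pm) * Pmᵀ * G := by rw [hPPt, hPP, Matrix.mul_one, Matrix.mul_one]
    _ = Pm * X * Pi * (Pm * Pmᵀ * G) := by simp only [Matrix.mul_assoc]

/-- C-NRM -/
theorem spc_gram_normalizes (f : (Fin n → F) → (Fin n → F) → F) (hf : IsSymplecticForm f)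
    {N : Subgroup (GL (Fin n) F)} (hNI : N ≤ isoGL f) {k d : ℕ}
    (φ : centAlg N ≃ₐ[F] Matrix (Fin k) (Fin k) F) (e : Fin n ≃ Fin k × Fin d) (P : GL (Fin n) F)
    (hstd : ∀ a : Matrix (Fin k) (Fin k) F, ((φ.symm a : centAlg N) : Matrix (Fin n) (Fin n) F) =
      (P : Matrix (Fin n) (Fin n) F) *
        Matrix.reindexAlgEquiv F F e.symm (a ⊗ₖ (1 : Matrix (Fin d) (Fin d) F)) *
        ((P⁻¹ : GL (Fin n) F) : Matrix (Fin n) (Fin n) F))
    (g₀ : GL (Fin n) F)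
    (hg₀ : (g₀ : Matrix (Fin n) (Fin n) F) =
      (P : Matrix (Fin n) (Fin n) F) * (P : Matrix (Fin n) (Fin n) F)ᵀ * ascformGram f) :
    g₀ ∈ subalgebraNormalizer (centAlg N) := by
  have hgi : (g₀ : Matrix (Fin n) (Fin n) F) * ((g₀⁻¹ : GL (Fin n) F) : Matrix (Fin n) (Fin n) F) = 1 := by
    rw [← Units.val_mul, mul_inv_cancel, Units.val_one]
  have hig : ((g₀⁻¹ : GL (Fin n) F) : Matrix (Fin n) (Fin n) F) * (g₀ : Matrix (Fin n) (Fin n) F) = 1 := by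
    rw [← Units.val_mul, inv_mul_cancel, Units.val_one]
  -- every element of `centAlg N` is `ψ a`
  have hC : ∀ y ∈ centAlg N, ∃ a : Matrix (Fin k) (Fin k) F, y = (P : Matrix (Fin n) (Fin n) F) *
        Matrix.reindexAlgEquiv F F e.symm (a ⊗ₖ (1 : Matrix (Fin d) (Fin d) F)) *
        ((P⁻¹ : GL (Fin n) F) : Matrix (Fin n) (Fin n) F) := by
    intro y hy
    refine ⟨φ ⟨y, hy⟩, ?_⟩
    rw [← hstd, AlgEquiv.symm_apply_apply]
  have hψ : ∀ a : Matrix (Fin k) (Fin k) F, (P : Matrix (Fin n) (Fin n) F) *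
        Matrix.reindexAlgEquiv F F e.symm (a ⊗ₖ (1 : Matrix (Fin d) (Fin d) F)) *
        ((P⁻¹ : GL (Fin n) F) : Matrix (Fin n) (Fin n) F) ∈ centAlg N := by
    intro a
    rw [← hstd]
    exact (φ.symm a).2
  -- `g₀ (ψ a)* g₀⁻¹ = ψ aᵀ`
  have hkey : ∀ a : Matrix (Fin k) (Fin k) F,
      (g₀ : Matrix (Fin n) (Fin n) F) * aspAdj f ((P : Matrix (Fin n) (Fin n) F) *
          Matrix.reindexAlgEquiv F F e.symm (a ⊗ₖ (1 : Matrix (Fin d) (Fin d) F)) *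
          ((P⁻¹ : GL (Fin n) F) : Matrix (Fin n) (Fin n) F)) *
        ((g₀⁻¹ : GL (Fin n) F) : Matrix (Fin n) (Fin n) F) =
      (P : Matrix (Fin n) (Fin n) F) *
          Matrix.reindexAlgEquiv F F e.symm (aᵀ ⊗ₖ (1 : Matrix (Fin d) (Fin d) F)) *
          ((P⁻¹ : GL (Fin n) F) : Matrix (Fin n) (Fin n) F) := by
    intro a
    rw [hg₀, aspcnrm_key f hf e P a, ← hg₀, Matrix.mul_assoc, hgi, Matrix.mul_one]
  intro x
  constructor
  · intro hx
    obtain ⟨a, ha⟩ := hC _ (aspadj_centAlg hf hNI hx)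
    have hx' : x = aspAdj f ((P : Matrix (Fin n) (Fin n) F) *
          Matrix.reindexAlgEquiv F F e.symm (a ⊗ₖ (1 : Matrix (Fin d) (Fin d) F)) *
          ((P⁻¹ : GL (Fin n) F) : Matrix (Fin n) (Fin n) F)) := by
      rw [← ha, aspadj_adj hf]
    rw [hx', hkey]
    exact hψ _
  · intro hx
    obtain ⟨b, hb⟩ := hC _ hx
    have h1 := hkey bᵀ
    rw [Matrix.transpose_transpose, ← hb] at h1
    -- cancel `g₀`
    have h2 : x = aspAdj f ((P : Matrix (Fin n) (Fin n) F) *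
          Matrix.reindexAlgEquiv F F e.symm (bᵀ ⊗ₖ (1 : Matrix (Fin d) (Fin d) F)) *
          ((P⁻¹ : GL (Fin n) F) : Matrix (Fin n) (Fin n) F)) := by
      have h3 := congrArg (fun M => ((g₀⁻¹ : GL (Fin n) F) : Matrix (Fin n) (Fin n) F) * M *
        (g₀ : Matrix (Fin n) (Fin n) F)) h1
      simp only [Matrix.mul_assoc, hig, Matrix.mul_one] at h3
      simp only [← Matrix.mul_assoc, hig, Matrix.one_mul] at h3
      exact h3.symm
    rw [h2]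
    exact aspadj_centAlg hf hNI (hψ _)

end Cfsg.Agent.Lib.Helper18.ASP
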