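import Mathlib
import Cfsg.Prelude.Def_GeometricClasses
import Cfsg.Agent.Lib.Helper27.ASC.Defs
import Cfsg.Agent.Lib.Helper19.ASG.Defs
import Cfsg.Agent.Lib.Helper18.ASP.Defs
import Cfsg.Agent.Lib.Helper18.ASPADJ
import Cfsg.Agent.Lib.helper8.ASPC.Defs
import Cfsg.Agent.Lib.Helper24.ASGCASM
import Cfsg.Agent.Lib.Helper10.ASPD2SQODD
import Cfsg.Agent.Lib.Helper22.ASPCFG
import Cfsg.Agent.Lib.Helper22.ASPCKUNIQ
import Cfsg.Agent.Lib.Helper22.ASPCSWAPF
import Cfsg.Agent.Lib.Helper22.ASPCANI2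
import Cfsg.Agent.Lib.Helper22.ASPCANI5
import Cfsg.Agent.Lib.Helper20.ASPCACT
import Cfsg.Agent.Lib.Helper20.ASPCSIM
import Cfsg.Agent.Lib.Helper18.ASPCANI3
import Cfsg.Agent.Lib.Helper18.ASPCANI4
import Cfsg.Agent.Lib.Helper18.ASPCEVALT
import Cfsg.Agent.Lib.Helper9.ASPCEVQ1
import Cfsg.Agent.Lib.Helper9.ASPCEVQ2
import Cfsg.Agent.Lib.Helper9.ASPCEVQ3
import Cfsg.Agent.Lib.helper4.ASPCSKEW
import Cfsg.Agent.Lib.helper4.ASPCSIGN
import Cfsg.Agent.Lib.helper4.ASPCHYP1
import Cfsg.Agent.Lib.helper8.ASPCANI1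
import Cfsg.Agent.Lib.helper8.ASPCNRM
import Cfsg.Agent.Lib.helper8.ASPCKRON
import Cfsg.Agent.Lib.helper8.ASPCHYP2

set_option autoImplicit false
set_option linter.unusedVariables false
set_option linter.unusedSectionVars false

/-!
# Project ASP, block C : the assembly `sp_tensor_case` (interface of `Helper18/ASP/Skel.lean.txt`)
-/

namespace Cfsg.Agent.Lib.Helper18.ASP

open Cfsg Cfsg.Geo Cfsg.Agent.Lib.Helper27.ASC Cfsg.Agent.Lib.Helper19.ASG
open scoped MatrixGroups Matrix Kronecker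

variable {n : ℕ} {F : Type*} [Field F]

theorem aspcasm_ne_zero_of_det {k : ℕ} (hk : 0 < k) (A : Matrix (Fin k) (Fin k) F) (hA : A.det ≠ 0) : A ≠ 0 := by
  rintro rfl
  have : Nonempty (Fin k) := ⟨⟨0, hk⟩⟩
  exact hA Matrix.det_zero

theorem aspcasm_diag_zero {k : ℕ} (h2 : (2 : F) ≠ 0) (A : Matrix (Fin k) (Fin k) F) (hA : Aᵀ = -A) (i : Fin k) :
    A i i = 0 := by
  have h := congrFun (congrFun hA i) i
  simp only [Matrix.transpose_apply, Matrix.neg_apply] at h
  have h3 : (2 : F) * A i i = 0 := by linear_combination h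
  rcases mul_eq_zero.mp h3 with h4 | h4
  · exact absurd h4 h2
  · exact h4

/-- the symmetric factor has dimension 2 -/
theorem aspcasm_dim2 [Fintype F] {m : ℕ} (hm : 2 ≤ m) (hn : n = 2 * m) (f : (Fin n → F) → (Fin n → F) → F)
    (hf : IsSymplecticForm f) {H : Subgroup (GL (Fin n) F)} (hI : H ≤ isoGL f) (ho : Odd (Fintype.card F)) {d : ℕ}
    (hd : 0 < d)
    (e : Fin n ≃ Fin 2 × Fin d) (P : GL (Fin n) F) (S : Matrix (Fin 2) (Fin 2) F) (Λ : Matrix (Fin d) (Fin d) F)
    (hS : Sᵀ = S) (hSdet : S.det ≠ 0) (hΛdet : Λ.det ≠ 0) (hK : KrGram f e P S Λ)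
    (hH : H ≤ tensorProductSubgroup 2 d e P) : InSp m f H := by
  have h2 : (2 : F) ≠ 0 := aspd2sqodd_two_ne_zero ho
  have hS0 : S ≠ 0 := aspcasm_ne_zero_of_det (by norm_num) S hSdet
  have hΛ0 : Λ ≠ 0 := aspcasm_ne_zero_of_det hd Λ hΛdet
  by_cases hiso : ∃ w : Fin 2 → F, w ≠ 0 ∧ w ⬝ᵥ (S *ᵥ w) = 0
  · obtain ⟨w, hw, hw0⟩ := hiso
    obtain ⟨w', hw'0, hli, hall⟩ := spc_binary_isotropic h2 S hS hSdet w hw hw0
    exact spc_tensor_hyp hm hn f hf hI ho e P S Λ hS hSdet hΛdet hK hH w w' hw0 hw'0 hli hall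
  · have hani : ∀ w : Fin 2 → F, w ≠ 0 → w ⬝ᵥ (S *ᵥ w) ≠ 0 := fun w hw h0 => hiso ⟨w, hw, h0⟩
    obtain ⟨j, c, hj, hc, hadj, hsim⟩ := spc_binary_anisotropic h2 S hS hani
    obtain ⟨K, hKf, hKmem⟩ := spc_ani_field hd e P j c hj hc
    refine inSp_of_field_u hI K ho hKf ?_ ?_ (spc_ani_normalizes f hI e P S Λ hS0 hΛ0 hK hH j hsim K hKmem)
    · intro x hx
      obtain ⟨s, t, rfl⟩ := (hKmem x).1 hx
      refine ⟨_, (hKmem _).2 ⟨s, -t, rfl⟩, fun u v => spc_kron_adjoint f e P S Λ hK _ _ ?_ u v⟩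
      rw [Matrix.transpose_add, Matrix.transpose_smul, Matrix.transpose_smul, Matrix.transpose_one,
        Matrix.add_mul, Matrix.mul_add, Matrix.smul_mul, Matrix.smul_mul, Matrix.mul_smul, Matrix.mul_smul,
        Matrix.one_mul, Matrix.mul_one, hadj, neg_smul, smul_neg]
    · intro hsa
      have hjK : (P : Matrix (Fin n) (Fin n) F) *
          Matrix.reindexAlgEquiv F F e.symm (j ⊗ₖ (1 : Matrix (Fin d) (Fin d) F)) *
          ((P⁻¹ : GL (Fin n) F) : Matrix (Fin n) (Fin n) F) ∈ K :=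
        (hKmem _).2 ⟨0, 1, by rw [zero_smul, one_smul, zero_add]⟩
      have h1 := spc_kron_selfadjoint f e P S Λ hΛ0 hK j (fun u v => hsa _ hjK u v)
      rw [hadj] at h1
      have h3 : S * j = 0 := by
        have h4 : (2 : F) • (S * j) = 0 := by
          rw [two_smul]
          exact (eq_neg_iff_add_eq_zero.mp h1.symm)
        rcases smul_eq_zero.mp h4 with h5 | h5
        · exact absurd h5 h2
        · exact h5
      have hSunit : IsUnit S.det := isUnit_iff_ne_zero.mpr hSdet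
      have hj0 : j = 0 := by
        have := congrArg (fun M => S⁻¹ * M) h3
        simpa [← Matrix.mul_assoc, Matrix.nonsing_inv_mul S hSunit] using this
      have hc0 : c = 0 := by
        rw [hj0, Matrix.zero_mul] at hj
        have := congrFun (congrFun hj 0) 0
        simpa using this.symm
      have := (hc 0 1 (by rw [hc0]; ring)).2
      exact one_ne_zero this

variable [Fintype F]

/-- SP-C -/
theorem sp_tensor_case {m : ℕ} (hm : 2 ≤ m) (hn : n = 2 * m) (f : (Fin n → F) → (Fin n → F) → F)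
    (hf : IsSymplecticForm f) {H N : Subgroup (GL (Fin n) F)} (hI : H ≤ isoGL f) (hH : Irr H)
    (hN : NormalIn N H) {k : ℕ} (φ : centAlg N ≃ₐ[F] Matrix (Fin k) (Fin k) F) (hk1 : 1 < k) (hkn : k < n) :
    InSp m f H := by
  classical
  obtain ⟨d, e, P, hstd⟩ := std_embedding (n := n) (by omega : 0 < k)
    ((centAlg N).val.comp (φ.symm : Matrix (Fin k) (Fin k) F →ₐ[F] centAlg N))
  have hnkd : n = k * d := by
    have := Fintype.card_congr e
    simpa using this
  have hstd' : ∀ a : Matrix (Fin k) (Fin k) F, ((φ.symm a : centAlg N) : Matrix (Fin n) (Fin n) F) =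
      (P : Matrix (Fin n) (Fin n) F) *
        Matrix.reindexAlgEquiv F F e.symm (a ⊗ₖ (1 : Matrix (Fin d) (Fin d) F)) *
        ((P⁻¹ : GL (Fin n) F) : Matrix (Fin n) (Fin n) F) := fun a => hstd a
  have hHle : H ≤ tensorProductSubgroup k d e P :=
    (normalizes_cent hN).trans (normalizer_le_tensor (by omega) (centAlg N) φ e P hstd')
  have hd : 2 ≤ d := by
    by_contra hcon
    have : d ≤ 1 := by omega
    have : k * d ≤ k * 1 := Nat.mul_le_mul_left k this
    omega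
  have hNI : N ≤ isoGL f := hN.1.trans hI
  -- the element `Γ = P Pᵀ G`
  have hΓdet : IsUnit ((P : Matrix (Fin n) (Fin n) F) * (P : Matrix (Fin n) (Fin n) F)ᵀ * ascformGram f).det := by
    rw [Matrix.det_mul, Matrix.det_mul, Matrix.det_transpose]
    have hP : IsUnit (P : Matrix (Fin n) (Fin n) F).det := by
      have := (Matrix.isUnit_iff_isUnit_det _).mp (Units.isUnit P)
      exact this
    exact (hP.mul hP).mul (aspadj_det hf)
  obtain ⟨g₀, hg₀⟩ : ∃ g₀ : GL (Fin n) F, (g₀ : Matrix (Fin n) (Fin n) F) =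
      (P : Matrix (Fin n) (Fin n) F) * (P : Matrix (Fin n) (Fin n) F)ᵀ * ascformGram f :=
    ⟨((Matrix.isUnit_iff_isUnit_det _).mpr hΓdet).unit, rfl⟩
  have hnorm := spc_gram_normalizes f hf hNI φ e P hstd' g₀ hg₀
  have hmem := normalizer_le_tensor (by omega) (centAlg N) φ e P hstd' hnorm
  obtain ⟨A, B, hAdet, hBdet, hK⟩ := spc_gram_kron f hf e P g₀ hg₀ hmem
  have hA0 : A ≠ 0 := aspcasm_ne_zero_of_det (by omega) A hAdet
  have hB0 : B ≠ 0 := aspcasm_ne_zero_of_det (by omega) B hBdet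
  obtain ⟨hskew, hdiag⟩ := spc_kron_skew f hf e P A B hK
  have hK' := spc_krGram_swap f e P A B hK
  have hHle' : H ≤ tensorProductSubgroup d k (e.trans (Equiv.prodComm (Fin k) (Fin d))) P := by
    rw [← tensor_swap]
    exact hHle
  by_cases ho : Odd (Fintype.card F)
  · have h2 : (2 : F) ≠ 0 := aspd2sqodd_two_ne_zero ho
    rcases spc_kron_skew_cases A B hA0 hB0 hskew with ⟨hAs, hBk⟩ | ⟨hAk, hBs⟩
    · -- `A` symmetric, `B` skew
      by_cases hk3 : 3 ≤ k
      · exact inSp_of_tensor hI _ P (formOfGram id B) (formOfGram id A) ho hk3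
          (spc_formOfGram_symplectic B hBdet hBk (aspcasm_diag_zero h2 B hBk))
          (spc_formOfGram_symmetric A hAdet hAs)
          ⟨1, one_ne_zero, fun x y => by rw [spc_gram_formOfGram, spc_gram_formOfGram, one_mul]; exact hK' x y⟩ hHle'
      · have hk2 : k = 2 := by omega
        subst hk2
        exact aspcasm_dim2 hm hn f hf hI ho (by omega) e P A B hAs hAdet hBdet hK hHle
    · -- `A` skew, `B` symmetric
      by_cases hd3 : 3 ≤ d
      · exact inSp_of_tensor hI e P (formOfGram id A) (formOfGram id B) ho hd3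
          (spc_formOfGram_symplectic A hAdet hAk (aspcasm_diag_zero h2 A hAk))
          (spc_formOfGram_symmetric B hBdet hBs)
          ⟨1, one_ne_zero, fun x y => by rw [spc_gram_formOfGram, spc_gram_formOfGram, one_mul]; exact hK x y⟩ hHle
      · have hd2 : d = 2 := by omega
        subst hd2
        exact aspcasm_dim2 hm hn f hf hI ho (by omega) _ P B A hBs hBdet hAdet hK' hHle'
  · -- `|F|` even
    have h2 : (2 : F) = 0 := asgc_two_eq_zero ho
    have hneg : ∀ {r : ℕ} (M : Matrix (Fin r) (Fin r) F), -M = M := by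
      intro r M
      have h11 : (-1 : F) = 1 := by linear_combination -h2
      rw [← neg_one_smul F M, h11, one_smul]
    have hAB : Aᵀ = A ∧ Bᵀ = B := by
      rcases spc_kron_skew_cases A B hA0 hB0 hskew with ⟨hAs, hBk⟩ | ⟨hAk, hBs⟩
      · exact ⟨hAs, by rw [hBk, hneg]⟩
      · exact ⟨by rw [hAk, hneg], hBs⟩
    obtain ⟨hAs, hBs⟩ := hAB
    have hB0' : ∀ j, B j j = 0 := spc_even_alt ho f hI hH (by omega) hd e P A B hA0 hB0 hBs hK hHle
    have hA0' : ∀ i, A i i = 0 := spc_even_alt ho f hI hH (by omega) (by omega) _ P B A hB0 hA0 hAs hK' hHle'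
    exact spc_tensor_even ho f hf hI e P A B hAs hBs hA0' hB0' hK hHle
      (spc_even_quad h2 A B hAs hBs hA0' hB0') spc_additive_zero_of_ptv

end Cfsg.Agent.Lib.Helper18.ASP
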