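import Cfsg.Agent.Lib.helper8.BTT.Defs
import Cfsg.Agent.Lib.helper8.BTTGEN12h8

/-!
Project BTT rows GEN1 + GEN2 (verbatim names; proofs in `BTTGEN12h8`).
-/

set_option autoImplicit false

namespace Cfsg.Agent.Lib.helper8.BTT

open Cfsg.Lie Cfsg.Lie.ChevalleyDatum

universe u

section gen
variable {ι : Type*} [Fintype ι] [DecidableEq ι] {F : Type*} [Field F]

/-- GEN1 [S] -/
theorem fil_one (ℓ : ι → ℝ) (c : ℝ) : Fil ℓ c (1 : Matrix ι ι F) := bttgen12_h8_fil_one ℓ c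

theorem fil_mul (ℓ : ι → ℝ) (c : ℝ) (hc : 0 ≤ c) (M M' : Matrix ι ι F) (h : Fil ℓ c M)
    (h' : Fil ℓ c M') : Fil ℓ c (M * M') := bttgen12_h8_fil_mul ℓ c hc M M' h h'

theorem fil_mono (ℓ : ι → ℝ) (c c' : ℝ) (hcc : c' ≤ c) (M : Matrix ι ι F) (h : Fil ℓ c M) :
    Fil ℓ c' M := bttgen12_h8_fil_mono ℓ c c' hcc M h

theorem fil_filP (ℓ : ι → ℝ) (c : ℝ) (hc : 0 < c) (M : Matrix ι ι F) (h : Fil ℓ c M) :
    FilP ℓ M := bttgen12_h8_fil_filP ℓ c hc M h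

/-- GEN2 [S] -/
theorem filP_one (ℓ : ι → ℝ) : FilP ℓ (1 : Matrix ι ι F) := bttgen12_h8_filP_one ℓ

theorem filP_mul (ℓ : ι → ℝ) (M M' : Matrix ι ι F) (h : FilP ℓ M) (h' : FilP ℓ M') :
    FilP ℓ (M * M') := bttgen12_h8_filP_mul ℓ M M' h h'

end gen

end Cfsg.Agent.Lib.helper8.BTT
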