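import Mathlib
import Cfsg.Agent.Lib.helper8.RSM.Defs
import Cfsg.Agent.Lib.Helper5.StemQ
import Cfsg.Agent.Lib.helper15.RSMD1core
import Cfsg.Agent.Lib.Helper29.RSMA5
import Cfsg.Agent.Lib.helper4.RSMC1

/-! Project RSM, row D3 `bet_vv`: core on the statements of B1 `conic_kill` and C8 `torus_act`
(A5 `anrm_surj`, C1 `x_basic` are cited; the generic `rsmd1_gen` is helper15's). -/

set_option autoImplicit false

namespace Cfsg.Agent.Lib.helper8.RSM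

open Cfsg.Agent.Lib.Helper5.Stem
open scoped commutatorElement

universe u v w

variable {G : Type u} [Group G] {K : Type v} [Field K] [Fintype K] {m : ℕ}
variable {Γ : Type w} [Group Γ] {σ : Γ →* G}

/-- D3, core on the statements of B1 `conic_kill` (at `A = Γ`) and C8 `torus_act` -/
theorem rsmd3_core (RU : ReeU G K m) (hs : Function.Surjective σ)
    (hcen : σ.ker ≤ Subgroup.center Γ)
    (hB1 : ∀ (B : K → K → Γ), (∀ u u' w, B (u + u') w = B u w * B u' w) →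
      (∀ u w w', B u (w + w') = B u w * B u w') →
      (∀ s : K, s ≠ 0 → ∀ u w, B (s ^ 2 * u) (s ^ 2 * w) = B u w) → ∀ u w, B u w = 1)
    (hC8 : ∀ a : K, a ≠ 0 → ∃ i : ℕ, a = RU.a0 ^ i ∧ ∀ t u v : K,
      RU.h0 ^ i * RU.x t u v * (RU.h0 ^ i)⁻¹ = RU.x (a * t) (nrm m a * u) (a * nrm m a * v))
    (v v' : K) : bet hs (RU.x 0 0 v) (RU.x 0 0 v') = 1 := by
  obtain ⟨-, hC1a, -, -, -, hC1b, -⟩ := x_basic RU
  have hadd : ∀ a b : K, RU.x 0 0 (a + b) = RU.x 0 0 a * RU.x 0 0 b := by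
    intro a b
    rw [hC1a, add_zero]
  refine rsmd1_gen hs hcen hB1 (fun a => RU.x 0 0 a) (fun a => RU.x 0 0 a) hadd hadd
    (fun a b => hC1b 0 a 0 b) ?_ v v'
  intro s hs0
  have hs2 : s ^ 2 ≠ 0 := pow_ne_zero _ hs0
  obtain ⟨a, ha, has⟩ := anrm_surj RU.hK (s ^ 2) hs2
  obtain ⟨i, -, hi⟩ := hC8 a ha
  refine ⟨RU.h0 ^ i, ?_, ?_⟩ <;>
  · intro c
    show RU.h0 ^ i * RU.x 0 0 c * (RU.h0 ^ i)⁻¹ = RU.x 0 0 (s ^ 2 * c)
    rw [hi, has, mul_zero, mul_zero]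

end Cfsg.Agent.Lib.helper8.RSM
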