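import Cfsg.Agent.Lib.Helper9.UT.Defs
import Cfsg.Agent.Lib.Helper13.UTMONO

/-!
# Project UT (S5655, leader helper9), row CL2 : one vector of weight 2 in `XS` gives all isotropic vectors of weight `≤ 2`
-/

set_option autoImplicit false
set_option linter.unusedSectionVars false

open Cfsg

namespace Cfsg.Agent.Lib.Helper9.UT

open Matrix Cfsg.Agent.Lib.Helper29.ExtrL Cfsg.Agent.Lib.Helper28.UMax

variable {n q : ℕ} {F : Type*} [Field F] [Fintype F] {σ : F ≃+* F}
  {M : Subgroup (Matrix.GeneralLinearGroup (Fin n) F)}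

/-- a permutation with `π i = a`, `π i' = b` -/
theorem utcl2_perm {i i' a b : Fin n} (hii' : i ≠ i') (hab : a ≠ b) :
    ∃ π : Equiv.Perm (Fin n), π i = a ∧ π i' = b := by
  set c := Equiv.swap i a i' with hc
  have hca : c ≠ a := by
    intro h
    have h1 : Equiv.swap i a i' = Equiv.swap i a i := by rw [← hc, h, Equiv.swap_apply_left]
    exact hii' ((Equiv.swap i a).injective h1).symm
  refine ⟨Equiv.swap c b * Equiv.swap i a, ?_, ?_⟩
  · rw [Equiv.Perm.mul_apply, Equiv.swap_apply_left, Equiv.swap_apply_of_ne_of_ne hca.symm hab]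
  · rw [Equiv.Perm.mul_apply, ← hc, Equiv.swap_apply_left]

/-- product of a function supported on three points -/
theorem utcl2_prod {i i' j : Fin n} (h1 : i ≠ i') (h2 : i ≠ j) (h3 : i' ≠ j) (x x' z : F) :
    ∏ l : Fin n, (if l = i then x else if l = i' then x' else if l = j then z else 1) = x * x' * z := by
  have h : ∀ l : Fin n, (if l = i then x else if l = i' then x' else if l = j then z else 1)
      = (if l = i then x else 1) * (if l = i' then x' else 1) * (if l = j then z else 1) := by
    intro l
    by_cases hli : l = i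
    · subst hli; simp [h1, h2]
    · by_cases hli' : l = i'
      · subst hli'; simp [hli, h3]
      · by_cases hlj : l = j
        · subst hlj; simp [hli, hli']
        · simp [hli, hli', hlj]
  rw [Finset.prod_congr rfl (fun l _ => h l), Finset.prod_mul_distrib, Finset.prod_mul_distrib,
    Finset.prod_ite_eq' Finset.univ i, Finset.prod_ite_eq' Finset.univ i', Finset.prod_ite_eq' Finset.univ j]
  simp

/-- CL2. all isotropic vectors of weight `≤ 2` are in `XS`. -/
theorem cl2 (S : UTS n q σ M) (hn : 3 ≤ n) {v : Fin n → F}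
    (hv : v ∈ XS (Cfsg.hermForm n F q) σ M) {i i' : Fin n} (hii' : i ≠ i') (hvi : v i ≠ 0)
    (hvi' : v i' ≠ 0) (hvm : ∀ m, m ≠ i → m ≠ i' → v m = 0) :
    ∀ (a b : Fin n) (α β : F), a ≠ b → α * σ α + β * σ β = 0 →
      α • Pi.single a (1 : F) + β • Pi.single b (1 : F) ∈ XS (Cfsg.hermForm n F q) σ M := by
  classical
  intro a b α β hab hαβ
  have hUF : UF n q σ := S.toUF
  have hf := hUF.hU
  have hinv := hf.involutive
  -- `v` is isotropic
  have hvv : v i * σ (v i) + v i' * σ (v i') = 0 := by
    have h0 := hv.1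
    rw [herm_apply hUF] at h0
    rw [← h0]
    symm
    rw [← Finset.add_sum_erase Finset.univ _ (Finset.mem_univ i),
      ← Finset.add_sum_erase (Finset.univ.erase i) _ (Finset.mem_erase.mpr ⟨hii'.symm, Finset.mem_univ i'⟩)]
    rw [Finset.sum_eq_zero, add_zero]
    intro m hm
    rw [Finset.mem_erase, Finset.mem_erase] at hm
    rw [hvm m hm.2.1 hm.1, zero_mul]
  have hvdec : v = v i • Pi.single i (1 : F) + v i' • Pi.single i' (1 : F) := by
    funext m
    simp only [Pi.add_apply, Pi.smul_apply, smul_eq_mul]
    by_cases hmi : m = i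
    · subst hmi
      rw [Pi.single_eq_same, Pi.single_eq_of_ne hii', mul_one, mul_zero, add_zero]
    · by_cases hmi' : m = i'
      · subst hmi'
        rw [Pi.single_eq_same, Pi.single_eq_of_ne hmi, mul_one, mul_zero, zero_add]
      · rw [Pi.single_eq_of_ne hmi, Pi.single_eq_of_ne hmi', mul_zero, mul_zero, add_zero, hvm m hmi hmi']
  by_cases hα : α = 0
  · -- then `β = 0`
    have hβ : β = 0 := by
      rw [hα, zero_mul, zero_add] at hαβ
      rcases mul_eq_zero.mp hαβ with h | h
      · exact h
      · exact (map_eq_zero σ).mp h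
    rw [hα, hβ, zero_smul, zero_smul, add_zero]
    have := XS_smul hf M 0 hv
    rwa [zero_smul] at this
  · have hσvi : σ (v i) ≠ 0 := fun h => hvi ((map_eq_zero σ).mp h)
    have hσvi' : σ (v i') ≠ 0 := fun h => hvi' ((map_eq_zero σ).mp h)
    have hσα : σ α ≠ 0 := fun h => hα ((map_eq_zero σ).mp h)
    have hNvi : v i * σ (v i) ≠ 0 := mul_ne_zero hvi hσvi
    -- `μ` with `N μ = N α / N (v i)`
    obtain ⟨μ, hμ⟩ := Cfsg.Agent.Lib.Helper28.UForm.norm_surj hf ((α * σ α) / (v i * σ (v i))) (by
      rw [map_div₀, map_mul, map_mul, hinv, hinv, mul_comm (σ α), mul_comm (σ (v i))])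
    have hμ0 : μ ≠ 0 := by
      intro h0
      rw [h0, zero_mul] at hμ
      exact (div_ne_zero (mul_ne_zero hα hσα) hNvi) hμ.symm
    have hσμ : σ μ ≠ 0 := fun h => hμ0 ((map_eq_zero σ).mp h)
    set x : F := α / (μ * v i) with hx
    set x' : F := β / (μ * v i') with hx'
    have hNx : x * σ x = 1 := by
      rw [hx, map_div₀, map_mul]
      have : α / (μ * v i) * (σ α / (σ μ * σ (v i))) = (α * σ α) / ((μ * σ μ) * (v i * σ (v i))) := by
        field_simp
      rw [this, hμ, div_mul_cancel₀ _ hNvi, div_self (mul_ne_zero hα hσα)]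
    have hNx' : x' * σ x' = 1 := by
      rw [hx', map_div₀, map_mul]
      have h1 : β / (μ * v i') * (σ β / (σ μ * σ (v i'))) = (β * σ β) / ((μ * σ μ) * (v i' * σ (v i'))) := by
        field_simp
      have h2 : β * σ β = -(α * σ α) := by linear_combination hαβ
      have h3 : v i' * σ (v i') = -(v i * σ (v i)) := by linear_combination hvv
      rw [h1, hμ, h2, h3, mul_neg, div_mul_cancel₀ _ hNvi, neg_div_neg_eq, div_self (mul_ne_zero hα hσα)]
    -- the permutation and the third coordinate
    obtain ⟨π, hπi, hπi'⟩ := utcl2_perm hii' hab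
    obtain ⟨j, hji, hji'⟩ : ∃ j : Fin n, j ≠ i ∧ j ≠ i' := by
      by_contra hcon
      push Not at hcon
      have hsub : (Finset.univ : Finset (Fin n)) ⊆ {i, i'} := by
        intro l _
        by_cases hli : l = i
        · rw [hli]; exact Finset.mem_insert_self _ _
        · rw [hcon l hli]
          exact Finset.mem_insert_of_mem (Finset.mem_singleton_self _)
      have := Finset.card_le_card hsub
      rw [Finset.card_univ, Fintype.card_fin] at this
      have h2 : ({i, i'} : Finset (Fin n)).card ≤ 2 := Finset.card_le_two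
      omega
    set s : F := (((Equiv.Perm.sign π : ℤˣ) : ℤ) : F) with hs
    have hs1 : s = 1 ∨ s = -1 := by
      rcases Int.units_eq_one_or (Equiv.Perm.sign π) with h | h
      · left; rw [hs, h]; simp
      · right; rw [hs, h]; simp
    have hss : s * σ s = 1 := by
      rcases hs1 with h | h
      · rw [h, map_one, mul_one]
      · rw [h, map_neg, map_one]; ring
    have hs0 : s ≠ 0 := by
      rcases hs1 with h | h
      · rw [h]; exact one_ne_zero
      · rw [h]; exact neg_ne_zero.mpr one_ne_zero
    have hx0 : x ≠ 0 := by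
      intro h0
      rw [h0, zero_mul] at hNx
      exact zero_ne_one hNx
    have hx'0 : x' ≠ 0 := by
      intro h0
      rw [h0, zero_mul] at hNx'
      exact zero_ne_one hNx'
    set z : F := (s * x * x')⁻¹ with hz
    have hNz : z * σ z = 1 := by
      rw [hz, map_inv₀, map_mul, map_mul, ← mul_inv]
      have : s * x * x' * (σ s * σ x * σ x') = (s * σ s) * (x * σ x) * (x' * σ x') := by ring
      rw [this, hss, hNx, hNx', one_mul, one_mul, inv_one]
    set d : Fin n → F := fun l => if l = i then x else if l = i' then x' else if l = j then z else 1 with hd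
    have hdN : ∀ l, d l * σ (d l) = 1 := by
      intro l
      simp only [hd]
      by_cases hli : l = i
      · rw [if_pos hli]; exact hNx
      · rw [if_neg hli]
        by_cases hli' : l = i'
        · rw [if_pos hli']; exact hNx'
        · rw [if_neg hli']
          by_cases hlj : l = j
          · rw [if_pos hlj]; exact hNz
          · rw [if_neg hlj, map_one, mul_one]
    have hdet : s * ∏ l, d l = 1 := by
      simp only [hd]
      rw [utcl2_prod hii' hji.symm hji'.symm, hz]
      have : s * (x * x' * (s * x * x')⁻¹) = (s * x * x') * (s * x * x')⁻¹ := by ring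
      rw [this, mul_inv_cancel₀ (mul_ne_zero (mul_ne_zero hs0 hx0) hx'0)]
    obtain ⟨g, hgS, hgmono, hge⟩ := mono_mem hUF π d hdN hdet
    have hgM : g ∈ M := S.hN g hgS hgmono
    have h1 := XS_conj M hgM (iso_of_mem S hgM) (XS_smul hf M μ hv)
    have h2 : (g : Matrix (Fin n) (Fin n) F) *ᵥ (μ • v) =
        α • Pi.single a (1 : F) + β • Pi.single b (1 : F) := by
      rw [Matrix.mulVec_smul]
      conv_lhs => rw [hvdec]
      rw [Matrix.mulVec_add, Matrix.mulVec_smul, Matrix.mulVec_smul, hge i, hge i', hπi, hπi']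
      have hdi : d i = x := by simp [hd]
      have hdi' : d i' = x' := by simp [hd, hii'.symm]
      rw [hdi, hdi', smul_add, smul_smul, smul_smul, smul_smul, smul_smul]
      have e1 : μ * v i * x = α := by
        rw [hx]
        field_simp
      have e2 : μ * v i' * x' = β := by
        rw [hx']
        field_simp
      rw [e1, e2]
    rw [h2] at h1
    exact h1

end Cfsg.Agent.Lib.Helper9.UT
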