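import Mathlib
import Cfsg.Prelude.Def_GeometricClasses
import Cfsg.Agent.Lib.Helper27.ASC.Defs
import Cfsg.Agent.Lib.Helper19.ASG.Defs
import Cfsg.Agent.Lib.Helper19.ASU.Defs
import Cfsg.Agent.Lib.Helper26.ASUC.Defs
import Cfsg.Agent.Lib.Helper19.ASUADJ
import Cfsg.Agent.Lib.Helper10.ASOCGRAMa
import Cfsg.Agent.Lib.Helper20.ASPCACT

set_option autoImplicit false
set_option linter.unusedVariables false
set_option linter.unusedSectionVars false

/-!
# ASU block C, piece C-GRAM1 : the Gram matrix of `hermForm` in the Kronecker basis is a Kronecker product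
-/

namespace Cfsg.Agent.Lib.Helper19.ASU

open Cfsg Cfsg.Geo Cfsg.Agent.Lib.Helper27.ASC Cfsg.Agent.Lib.Helper19.ASG
open scoped MatrixGroups Matrix Kronecker

variable {n : ℕ} {F : Type*} [Field F]

/-- the adjoint of a standard matrix `R(a ⊗ 1)` -/
theorem asucgram1_uadj_std [Fintype F] (q : ℕ) (hF : Fintype.card F = q ^ 2) {k d : ℕ} (e : Fin n ≃ Fin k × Fin d)
    (a : Matrix (Fin k) (Fin k) F) :
    uadj q (Matrix.reindexAlgEquiv F F e.symm (a ⊗ₖ (1 : Matrix (Fin d) (Fin d) F))) =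
      Matrix.reindexAlgEquiv F F e.symm (uadj q a ⊗ₖ (1 : Matrix (Fin d) (Fin d) F)) := by
  have hq : q ≠ 0 := (uq_pos hF).ne'
  ext i j
  rw [uadj_apply]
  simp only [Matrix.coe_reindexAlgEquiv, Matrix.reindex_apply, Matrix.submatrix_apply, Equiv.symm_symm,
    Matrix.kroneckerMap_apply, uadj_apply, Matrix.one_apply]
  by_cases h : (e i).2 = (e j).2
  · rw [if_pos h, if_pos h.symm, mul_one, mul_one]
  · rw [if_neg h, if_neg (fun h' => h h'.symm), mul_zero, mul_zero, zero_pow hq]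

/-- C-GRAM1 -/
theorem uc_gram_kron [Fintype F] (q : ℕ) (hF : Fintype.card F = q ^ 2) {N : Subgroup (GL (Fin n) F)}
    (hNI : N ≤ GU n F q) {k d : ℕ} (hk : 0 < k) (hd : 0 < d)
    (φ : centAlg N ≃ₐ[F] Matrix (Fin k) (Fin k) F) (e : Fin n ≃ Fin k × Fin d) (P : GL (Fin n) F)
    (hstd : ∀ a : Matrix (Fin k) (Fin k) F, ((φ.symm a : centAlg N) : Matrix (Fin n) (Fin n) F) =
      (P : Matrix (Fin n) (Fin n) F) *
        Matrix.reindexAlgEquiv F F e.symm (a ⊗ₖ (1 : Matrix (Fin d) (Fin d) F)) *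
        ((P⁻¹ : GL (Fin n) F) : Matrix (Fin n) (Fin n) F)) :
    ∃ (A : Matrix (Fin k) (Fin k) F) (B : Matrix (Fin d) (Fin d) F), A.det ≠ 0 ∧ B.det ≠ 0 ∧ UKrGram q e P A B := by
  classical
  have hPiPm : ((P⁻¹ : GL (Fin n) F) : Matrix (Fin n) (Fin n) F) * (P : Matrix (Fin n) (Fin n) F) = 1 := by
    rw [← Units.val_mul, inv_mul_cancel, Units.val_one]
  have hPmPi : (P : Matrix (Fin n) (Fin n) F) * ((P⁻¹ : GL (Fin n) F) : Matrix (Fin n) (Fin n) F) = 1 := by
    rw [← Units.val_mul, mul_inv_cancel, Units.val_one]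
  -- `uadj P * uadj P⁻¹ = 1`
  have hUU : uadj q (P : Matrix (Fin n) (Fin n) F) * uadj q ((P⁻¹ : GL (Fin n) F) : Matrix (Fin n) (Fin n) F) = 1 := by
    rw [← uadj_mul hF, hPiPm, uadj_one hF]
  obtain ⟨G₁, hG₁⟩ : ∃ G₁ : Matrix (Fin n) (Fin n) F,
      G₁ = uadj q (P : Matrix (Fin n) (Fin n) F) * (P : Matrix (Fin n) (Fin n) F) := ⟨_, rfl⟩
  obtain ⟨G'', hG''⟩ : ∃ G'' : Matrix (Fin k × Fin d) (Fin k × Fin d) F,
      Matrix.reindexAlgEquiv F F e.symm G'' = G₁ :=
    ⟨(Matrix.reindexAlgEquiv F F e.symm).symm G₁, (Matrix.reindexAlgEquiv F F e.symm).apply_symm_apply G₁⟩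
  -- determinants
  have hPdet : (P : Matrix (Fin n) (Fin n) F).det ≠ 0 :=
    ((Matrix.isUnit_iff_isUnit_det _).mp (Units.isUnit P)).ne_zero
  have hG₁det : G₁.det ≠ 0 := by
    rw [hG₁, Matrix.det_mul]
    refine mul_ne_zero ?_ hPdet
    intro h0
    have h1 := congrArg Matrix.det hUU
    rw [Matrix.det_mul, h0, zero_mul, Matrix.det_one] at h1
    exact zero_ne_one h1
  have hG''det : G''.det ≠ 0 := by
    rw [← hG'', Matrix.coe_reindexAlgEquiv, Matrix.det_reindex_self] at hG₁det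
    exact hG₁det
  -- the normalising relation
  have hkey : ∀ b : Matrix (Fin k) (Fin k) F, ∃ a' : Matrix (Fin k) (Fin k) F,
      (b ⊗ₖ (1 : Matrix (Fin d) (Fin d) F)) * G'' = G'' * (a' ⊗ₖ (1 : Matrix (Fin d) (Fin d) F)) := by
    intro b
    have hx : (P : Matrix (Fin n) (Fin n) F) *
        Matrix.reindexAlgEquiv F F e.symm (uadj q b ⊗ₖ (1 : Matrix (Fin d) (Fin d) F)) *
        ((P⁻¹ : GL (Fin n) F) : Matrix (Fin n) (Fin n) F) ∈ centAlg N := by
      rw [← hstd]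
      exact (φ.symm _).2
    have hx' := uadj_centAlg hF hNI hx
    obtain ⟨a', h1⟩ : ∃ a' : Matrix (Fin k) (Fin k) F,
        uadj q ((P : Matrix (Fin n) (Fin n) F) *
          Matrix.reindexAlgEquiv F F e.symm (uadj q b ⊗ₖ (1 : Matrix (Fin d) (Fin d) F)) *
          ((P⁻¹ : GL (Fin n) F) : Matrix (Fin n) (Fin n) F)) =
        (P : Matrix (Fin n) (Fin n) F) *
          Matrix.reindexAlgEquiv F F e.symm (a' ⊗ₖ (1 : Matrix (Fin d) (Fin d) F)) *
          ((P⁻¹ : GL (Fin n) F) : Matrix (Fin n) (Fin n) F) := by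
      refine ⟨φ ⟨_, hx'⟩, ?_⟩
      have h0 := hstd (φ ⟨_, hx'⟩)
      rw [AlgEquiv.symm_apply_apply] at h0
      exact h0
    refine ⟨a', ?_⟩
    rw [uadj_mul hF, uadj_mul hF, asucgram1_uadj_std q hF, uadj_uadj hF] at h1
    -- h1 : uadj P⁻¹ * (R(b ⊗ 1) * uadj P) = P * R(a' ⊗ 1) * P⁻¹
    have h2 := congrArg (fun M => uadj q (P : Matrix (Fin n) (Fin n) F) * M * (P : Matrix (Fin n) (Fin n) F)) h1
    simp only at h2
    have h3 : Matrix.reindexAlgEquiv F F e.symm (b ⊗ₖ (1 : Matrix (Fin d) (Fin d) F)) * G₁ =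
        G₁ * Matrix.reindexAlgEquiv F F e.symm (a' ⊗ₖ (1 : Matrix (Fin d) (Fin d) F)) := by
      rw [hG₁]
      calc Matrix.reindexAlgEquiv F F e.symm (b ⊗ₖ (1 : Matrix (Fin d) (Fin d) F)) *
            (uadj q (P : Matrix (Fin n) (Fin n) F) * (P : Matrix (Fin n) (Fin n) F))
          = (uadj q (P : Matrix (Fin n) (Fin n) F) * uadj q ((P⁻¹ : GL (Fin n) F) : Matrix (Fin n) (Fin n) F)) *
              Matrix.reindexAlgEquiv F F e.symm (b ⊗ₖ (1 : Matrix (Fin d) (Fin d) F)) *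
              (uadj q (P : Matrix (Fin n) (Fin n) F) * (P : Matrix (Fin n) (Fin n) F)) := by
            rw [hUU, Matrix.one_mul]
        _ = uadj q (P : Matrix (Fin n) (Fin n) F) * (uadj q ((P⁻¹ : GL (Fin n) F) : Matrix (Fin n) (Fin n) F) *
              (Matrix.reindexAlgEquiv F F e.symm (b ⊗ₖ (1 : Matrix (Fin d) (Fin d) F)) *
              uadj q (P : Matrix (Fin n) (Fin n) F))) * (P : Matrix (Fin n) (Fin n) F) := by
            simp only [Matrix.mul_assoc]
        _ = uadj q (P : Matrix (Fin n) (Fin n) F) * ((P : Matrix (Fin n) (Fin n) F) *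
              Matrix.reindexAlgEquiv F F e.symm (a' ⊗ₖ (1 : Matrix (Fin d) (Fin d) F)) *
              ((P⁻¹ : GL (Fin n) F) : Matrix (Fin n) (Fin n) F)) * (P : Matrix (Fin n) (Fin n) F) := h2
        _ = uadj q (P : Matrix (Fin n) (Fin n) F) * (P : Matrix (Fin n) (Fin n) F) *
              Matrix.reindexAlgEquiv F F e.symm (a' ⊗ₖ (1 : Matrix (Fin d) (Fin d) F)) *
              (((P⁻¹ : GL (Fin n) F) : Matrix (Fin n) (Fin n) F) * (P : Matrix (Fin n) (Fin n) F)) := by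
            simp only [Matrix.mul_assoc]
        _ = _ := by rw [hPiPm, Matrix.mul_one]
    apply (Matrix.reindexAlgEquiv F F e.symm).injective
    rw [map_mul, map_mul, hG'']
    exact h3
  obtain ⟨A'', B'', hAB⟩ := Cfsg.Agent.Lib.Helper25.ASO.asocgram_factor hk hd G''
    (isUnit_iff_ne_zero.mpr hG''det) hkey
  -- determinants of the factors
  have hdetAB : A''.det ≠ 0 ∧ B''.det ≠ 0 := by
    rw [hAB, Matrix.det_kronecker] at hG''det
    simp only [Fintype.card_fin] at hG''det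
    constructor
    · intro h0
      rw [h0, zero_pow hd.ne', zero_mul] at hG''det
      exact hG''det rfl
    · intro h0
      rw [h0, zero_pow hk.ne', mul_zero] at hG''det
      exact hG''det rfl
  refine ⟨A''.map (ufrob hF), B''.map (ufrob hF), ?_, ?_, ?_⟩
  · rw [← RingHom.mapMatrix_apply, ← RingHom.map_det]
    exact fun h0 => hdetAB.1 (ufrob_injective hF (h0.trans (map_zero _).symm))
  · rw [← RingHom.mapMatrix_apply, ← RingHom.map_det]
    exact fun h0 => hdetAB.2 (ufrob_injective hF (h0.trans (map_zero _).symm))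
  · intro x y
    rw [uadj_spec hF, Matrix.mulVec_mulVec, ← hG₁, ← hG'', Cfsg.Agent.Lib.Helper18.ASP.aspcact_reindex_mulVec, hAB]
    unfold hermForm formOfGram
    rw [← Equiv.sum_comp e.symm]
    apply Finset.sum_congr rfl
    intro p _
    simp only [Function.comp_apply, Equiv.apply_symm_apply]
    rw [← ufrob_apply hF, Matrix.mulVec, dotProduct, map_sum, Finset.mul_sum]
    apply Finset.sum_congr rfl
    intro p' _
    rw [map_mul, ufrob_apply, ufrob_apply]
    simp only [Matrix.kroneckerMap_apply, Matrix.map_apply, ufrob_apply]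
    ring

end Cfsg.Agent.Lib.Helper19.ASU
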