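import Mathlib
import Cfsg.Agent.Lib.Helper19.G2V.Defs

/-!
# G2V row F1A (`xG_eq`): `xG τ ν = X 7 (-1) * X 4 1 * X 7 (-1 + τ/ν) * hb ν`.
-/

set_option autoImplicit false

namespace Cfsg.Agent.Lib.Helper19.G2V

open Cfsg.Lie Cfsg.Lie.ChevalleyDatum Matrix
open Cfsg.Agent.Lib.helper8
open Cfsg.Agent.Lib.helper23.P4V

universe u

variable {F : Type u} [Field F]

/-- upper transvection in `SL₂` -/
def g2vf1a_up (t : F) : Matrix.SpecialLinearGroup (Fin 2) F :=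
  ⟨!![1, t; 0, 1], by rw [Matrix.det_fin_two_of]; ring⟩

/-- lower transvection in `SL₂` -/
def g2vf1a_lo (t : F) : Matrix.SpecialLinearGroup (Fin 2) F :=
  ⟨!![1, 0; t, 1], by rw [Matrix.det_fin_two_of]; ring⟩

theorem g2vf1a_sl (τ ν : F) (hν : ν ≠ 0) :
    sl2of (cmpU τ ν hν) = g2vf1a_up (-1) * g2vf1a_lo 1 * g2vf1a_up (-1 + τ / ν) := by
  apply Subtype.ext
  rw [sl2of_val, cmpU_val, det_cmp]
  show Cfsg.Agent.Lib.helper23.P4V.cmp τ ν * !![1, 0; 0, ν⁻¹] = !![1, -1; 0, 1] * !![1, 0; 1, 1] * !![1, -1 + τ / ν; 0, 1]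
  unfold Cfsg.Agent.Lib.helper23.P4V.cmp
  ext i j
  fin_cases i <;> fin_cases j <;> simp [Matrix.mul_apply, Fin.sum_univ_two] <;> field_simp

/-- **F1A** [S-M]. -/
theorem xG_eq (τ ν : F) (hν : ν ≠ 0) :
    xG τ ν hν = X 7 (-1) * X 4 1 * X 7 (-1 + τ / ν) * hb ν := by
  unfold xG iota
  rw [cmpU_val, det_cmp, g2vf1a_sl, map_mul, map_mul,
    phiA_upper (g2vf1a_up (-1)) (-1) rfl, phiA_lower (g2vf1a_lo 1) 1 rfl,
    phiA_upper (g2vf1a_up (-1 + τ / ν)) (-1 + τ / ν) rfl]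

end Cfsg.Agent.Lib.Helper19.G2V
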