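import Mathlib
import Cfsg.Agent.Lib.Helper19.G2V.Defs
import Cfsg.Agent.Lib.helper8.G2VF1A
import Cfsg.Agent.Lib.helper8.ChevSimple
import Cfsg.Agent.Lib.helper8.ChevTabHG2
import Cfsg.Agent.Lib.helper8.ChevTabSimRG2

/-!
# G2V row F1 (`xG_val`): the explicit `14 × 14` matrix of `xG τ ν`.

All matrices involved are block diagonal for the grading of the adjoint module by the `b`-coefficient:
`e₀ | e₁ e₂ e₃ e₅ | h_a h_b e₄ e₇ | e₆ e₈ e₉ e₁₀ | e₁₁`.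
-/

set_option autoImplicit false

namespace Cfsg.Agent.Lib.Helper19.G2V

open Cfsg.Lie Cfsg.Lie.ChevalleyDatum Matrix
open Cfsg.Agent.Lib.helper8
open Cfsg.Agent.Lib.helper23.P4V

universe u

variable {F : Type u} [Field F]

/-- the block index set -/
abbrev G2vBI : Type := Fin 1 ⊕ (Fin 4 ⊕ (Fin 4 ⊕ (Fin 4 ⊕ Fin 1)))

/-- a block diagonal matrix -/
def g2vf1_blk (a : F) (B1 B2 B3 : Matrix (Fin 4) (Fin 4) F) (b : F) : Matrix G2vBI G2vBI F :=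
  Matrix.fromBlocks (Matrix.of fun _ _ => a) 0 0
    (Matrix.fromBlocks B1 0 0 (Matrix.fromBlocks B2 0 0
      (Matrix.fromBlocks B3 0 0 (Matrix.of fun _ _ => b))))

theorem g2vf1_one_mul (a a' : F) :
    (Matrix.of fun (_ _ : Fin 1) => a) * (Matrix.of fun (_ _ : Fin 1) => a') =
      Matrix.of fun (_ _ : Fin 1) => a * a' := by
  ext i j
  simp [Matrix.mul_apply]

theorem g2vf1_blk_mul (a a' : F) (B1 B2 B3 B1' B2' B3' : Matrix (Fin 4) (Fin 4) F) (b b' : F) :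
    g2vf1_blk a B1 B2 B3 b * g2vf1_blk a' B1' B2' B3' b' =
      g2vf1_blk (a * a') (B1 * B1') (B2 * B2') (B3 * B3') (b * b') := by
  unfold g2vf1_blk
  simp only [Matrix.fromBlocks_multiply, Matrix.mul_zero, Matrix.zero_mul, add_zero, zero_add,
    g2vf1_one_mul]

/-- coordinates to blocks -/
def g2vf1_toB (x : chevG2.Idx) : G2vBI :=
  match idxN x with
  | 2 => Sum.inl 0
  | 3 => Sum.inr (Sum.inl 0)
  | 4 => Sum.inr (Sum.inl 1)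
  | 5 => Sum.inr (Sum.inl 2)
  | 7 => Sum.inr (Sum.inl 3)
  | 0 => Sum.inr (Sum.inr (Sum.inl 0))
  | 1 => Sum.inr (Sum.inr (Sum.inl 1))
  | 6 => Sum.inr (Sum.inr (Sum.inl 2))
  | 9 => Sum.inr (Sum.inr (Sum.inl 3))
  | 8 => Sum.inr (Sum.inr (Sum.inr (Sum.inl 0)))
  | 10 => Sum.inr (Sum.inr (Sum.inr (Sum.inl 1)))
  | 11 => Sum.inr (Sum.inr (Sum.inr (Sum.inl 2)))
  | 12 => Sum.inr (Sum.inr (Sum.inr (Sum.inl 3)))
  | _ => Sum.inr (Sum.inr (Sum.inr (Sum.inr 0)))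

/-- blocks to coordinates -/
def g2vf1_ofB : G2vBI → chevG2.Idx
  | Sum.inl _ => eI 0
  | Sum.inr (Sum.inl k) => ![eI 1, eI 2, eI 3, eI 5] k
  | Sum.inr (Sum.inr (Sum.inl k)) => ![hI 0, hI 1, eI 4, eI 7] k
  | Sum.inr (Sum.inr (Sum.inr (Sum.inl k))) => ![eI 6, eI 8, eI 9, eI 10] k
  | Sum.inr (Sum.inr (Sum.inr (Sum.inr _))) => eI 11

theorem g2vf1_idx_cases (P : chevG2.Idx → Prop) (h0 : P (hI 0)) (h1 : P (hI 1))
    (e0 : P (eI 0)) (e1 : P (eI 1)) (e2 : P (eI 2)) (e3 : P (eI 3)) (e4 : P (eI 4))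
    (e5 : P (eI 5)) (e6 : P (eI 6)) (e7 : P (eI 7)) (e8 : P (eI 8)) (e9 : P (eI 9))
    (e10 : P (eI 10)) (e11 : P (eI 11)) : ∀ x, P x := by
  rintro (⟨i, hi⟩ | ⟨r, hr⟩)
  · have hi' : i < 2 := hi
    interval_cases i
    · exact h0
    · exact h1
  · have hr' : r < 12 := hr
    interval_cases r
    · exact e0
    · exact e1
    · exact e2
    · exact e3
    · exact e4
    · exact e5
    · exact e6
    · exact e7
    · exact e8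
    · exact e9
    · exact e10
    · exact e11

/-- the equivalence between coordinates and blocks -/
def g2vf1_eqv : chevG2.Idx ≃ G2vBI where
  toFun := g2vf1_toB
  invFun := g2vf1_ofB
  left_inv := by
    apply g2vf1_idx_cases <;> rfl
  right_inv := by
    rintro (i | i | i | i | i) <;> fin_cases i <;> rfl

set_option maxHeartbeats 4000000 in
theorem g2vf1_x7 (t : F) : chevG2.x F 7 t =
    (g2vf1_blk 1 !![1, 0, 0, 0; -t, 1, 0, 0; -t ^ 2, 2 * t, 1, 0; -t ^ 3, 3 * t ^ 2, 3 * t, 1]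
      !![1, 0, t, 0; 0, 1, 0, 0; 0, 0, 1, 0; -2 * t, t, -t ^ 2, 1]
      !![1, 0, 0, 0; -t, 1, 0, 0; t ^ 2, -2 * t, 1, 0; t ^ 3, -3 * t ^ 2, 3 * t, 1] 1).submatrix
      g2vf1_eqv g2vf1_eqv := by
  unfold ChevalleyDatum.x
  rw [dif_pos (by decide)]
  ext i j
  revert j
  apply g2vf1_idx_cases
  all_goals
    revert i
    apply g2vf1_idx_cases
  all_goals
    simp only [ChevalleyDatum.xMat, Matrix.submatrix_apply, g2vf1_eqv, Equiv.coe_fn_mk, g2vf1_toB, idxN, eI, hI,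
      g2vf1_blk]
    rw [Matrix.of_apply]
    simp [chainCoeff, chevG2, chevG2Chain, chevG2Chain7, chevG2NegIdx, chevG2Coroot, chevG2CartanSR, Fin.ext_iff]
set_option maxHeartbeats 4000000 in
theorem g2vf1_x4 (t : F) : chevG2.x F 4 t =
    (g2vf1_blk 1 !![1, -3 * t, -3 * t ^ 2, -t ^ 3; 0, 1, 2 * t, t ^ 2; 0, 0, 1, t; 0, 0, 0, 1]
      !![1, 0, 0, -t; 0, 1, 0, 0; 2 * t, -t, 1, -t ^ 2; 0, 0, 0, 1]
      !![1, -3 * t, 3 * t ^ 2, t ^ 3; 0, 1, -2 * t, -t ^ 2; 0, 0, 1, t; 0, 0, 0, 1] 1).submatrix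
      g2vf1_eqv g2vf1_eqv := by
  unfold ChevalleyDatum.x
  rw [dif_pos (by decide)]
  ext i j
  revert j
  apply g2vf1_idx_cases
  all_goals
    revert i
    apply g2vf1_idx_cases
  all_goals
    simp only [ChevalleyDatum.xMat, Matrix.submatrix_apply, g2vf1_eqv, Equiv.coe_fn_mk, g2vf1_toB, idxN, eI, hI,
      g2vf1_blk]
    rw [Matrix.of_apply]
    simp [chainCoeff, chevG2, chevG2Chain, chevG2Chain4, chevG2NegIdx, chevG2Coroot, chevG2CartanSR, Fin.ext_iff]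

set_option maxHeartbeats 4000000 in
theorem g2vf1_hb (c : F) (hc : c ≠ 0) : chevG2.hMat F 6 c =
    (g2vf1_blk c⁻¹ (Matrix.diagonal ![c, 1, c⁻¹, (c ^ 2)⁻¹]) (Matrix.diagonal ![1, 1, c, c⁻¹])
      (Matrix.diagonal ![c ^ 2, c, 1, c⁻¹]) c).submatrix g2vf1_eqv g2vf1_eqv := by
  have h := h8hMat_simple_refl chevG2 h8hDiagChk_G2 h8simpleChkRefl_G2 1 (by decide) c hc
  have h6 : chevG2.simple 1 = 6 := by decide
  rw [h6] at h
  rw [h]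
  ext i j
  revert j
  apply g2vf1_idx_cases
  all_goals
    revert i
    apply g2vf1_idx_cases
  all_goals
    simp only [Matrix.submatrix_apply, g2vf1_eqv, Equiv.coe_fn_mk, g2vf1_toB, idxN, eI, hI, g2vf1_blk]
    simp [ChevalleyDatum.cartan, chevG2, chevG2CartanSR, Fin.ext_iff, _root_.zpow_neg]

set_option maxHeartbeats 4000000 in
theorem g2vf1_xM (τ ν : F) : xM τ ν =
    (g2vf1_blk (1 / ν)
      !![τ ^ 3 / ν ^ 2, -3 * τ ^ 2 / ν ^ 2, -3 * τ / ν ^ 2, -1 / ν ^ 2; τ ^ 2 / ν, -2 * τ / ν, -1 / ν, 0;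
        -τ, 1, 0, 0; ν, 0, 0, 0]
      !![-1, 1, -τ, 0; 0, 1, 0, 0; 2 * τ / ν, -τ / ν, τ ^ 2 / ν, -1 / ν; 0, 0, -ν, 0]
      !![τ ^ 3 / ν, -3 * τ ^ 2 / ν, 3 * τ / ν, 1 / ν; τ ^ 2, -2 * τ, 1, 0; τ * ν, -ν, 0, 0; -ν ^ 2, 0, 0, 0]
      ν).submatrix g2vf1_eqv g2vf1_eqv := by
  ext i j
  revert j
  apply g2vf1_idx_cases
  all_goals
    revert i
    apply g2vf1_idx_cases
  all_goals
    simp only [xM, Matrix.of_apply, Matrix.submatrix_apply, g2vf1_eqv, Equiv.coe_fn_mk, g2vf1_toB, idxN, eI, hI,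
      g2vf1_blk, xMfun]
    simp

theorem g2vf1_mul4 {R : Type*} [CommRing R] (a11 a12 a13 a14 a21 a22 a23 a24 a31 a32 a33 a34 a41 a42 a43 a44
    b11 b12 b13 b14 b21 b22 b23 b24 b31 b32 b33 b34 b41 b42 b43 b44 : R) :
    !![a11, a12, a13, a14; a21, a22, a23, a24; a31, a32, a33, a34; a41, a42, a43, a44] *
      !![b11, b12, b13, b14; b21, b22, b23, b24; b31, b32, b33, b34; b41, b42, b43, b44] =
    !![a11 * b11 + a12 * b21 + a13 * b31 + a14 * b41, a11 * b12 + a12 * b22 + a13 * b32 + a14 * b42,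
        a11 * b13 + a12 * b23 + a13 * b33 + a14 * b43, a11 * b14 + a12 * b24 + a13 * b34 + a14 * b44;
      a21 * b11 + a22 * b21 + a23 * b31 + a24 * b41, a21 * b12 + a22 * b22 + a23 * b32 + a24 * b42,
        a21 * b13 + a22 * b23 + a23 * b33 + a24 * b43, a21 * b14 + a22 * b24 + a23 * b34 + a24 * b44;
      a31 * b11 + a32 * b21 + a33 * b31 + a34 * b41, a31 * b12 + a32 * b22 + a33 * b32 + a34 * b42,
        a31 * b13 + a32 * b23 + a33 * b33 + a34 * b43, a31 * b14 + a32 * b24 + a33 * b34 + a34 * b44;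
      a41 * b11 + a42 * b21 + a43 * b31 + a44 * b41, a41 * b12 + a42 * b22 + a43 * b32 + a44 * b42,
        a41 * b13 + a42 * b23 + a43 * b33 + a44 * b43, a41 * b14 + a42 * b24 + a43 * b34 + a44 * b44] := by
  ext i j
  fin_cases i <;> fin_cases j <;> simp [Matrix.mul_apply, Fin.sum_univ_four]

theorem g2vf1_eq4 {R : Type*} (a11 a12 a13 a14 a21 a22 a23 a24 a31 a32 a33 a34 a41 a42 a43 a44
    b11 b12 b13 b14 b21 b22 b23 b24 b31 b32 b33 b34 b41 b42 b43 b44 : R)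
    (h11 : a11 = b11) (h12 : a12 = b12) (h13 : a13 = b13) (h14 : a14 = b14)
    (h21 : a21 = b21) (h22 : a22 = b22) (h23 : a23 = b23) (h24 : a24 = b24)
    (h31 : a31 = b31) (h32 : a32 = b32) (h33 : a33 = b33) (h34 : a34 = b34)
    (h41 : a41 = b41) (h42 : a42 = b42) (h43 : a43 = b43) (h44 : a44 = b44) :
    !![a11, a12, a13, a14; a21, a22, a23, a24; a31, a32, a33, a34; a41, a42, a43, a44] =
      !![b11, b12, b13, b14; b21, b22, b23, b24; b31, b32, b33, b34; b41, b42, b43, b44] := by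
  subst h11 h12 h13 h14 h21 h22 h23 h24 h31 h32 h33 h34 h41 h42 h43 h44
  rfl

theorem g2vf1_diag4 {R : Type*} [Zero R] (a b c d : R) :
    Matrix.diagonal ![a, b, c, d] = !![a, 0, 0, 0; 0, b, 0, 0; 0, 0, c, 0; 0, 0, 0, d] := by
  ext i j
  fin_cases i <;> fin_cases j <;> simp

theorem g2vf1_b1 (τ ν : F) (hν : ν ≠ 0) :
    (!![1, 0, 0, 0; -(-1 : F), 1, 0, 0; -(-1 : F) ^ 2, 2 * (-1 : F), 1, 0; -(-1 : F) ^ 3, 3 * (-1 : F) ^ 2, 3 * (-1 : F), 1] *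
      !![1, -3 * (1 : F), -3 * (1 : F) ^ 2, -(1 : F) ^ 3; 0, 1, 2 * (1 : F), (1 : F) ^ 2; 0, 0, 1, (1 : F); 0, 0, 0, 1] *
      !![1, 0, 0, 0; -(-1 + τ / ν), 1, 0, 0; -(-1 + τ / ν) ^ 2, 2 * (-1 + τ / ν), 1, 0;
        -(-1 + τ / ν) ^ 3, 3 * (-1 + τ / ν) ^ 2, 3 * (-1 + τ / ν), 1] *
      Matrix.diagonal ![ν, 1, ν⁻¹, (ν ^ 2)⁻¹] : Matrix (Fin 4) (Fin 4) F) =
    !![τ ^ 3 / ν ^ 2, -3 * τ ^ 2 / ν ^ 2, -3 * τ / ν ^ 2, -1 / ν ^ 2; τ ^ 2 / ν, -2 * τ / ν, -1 / ν, 0;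
        -τ, 1, 0, 0; ν, 0, 0, 0] := by
  rw [g2vf1_diag4, g2vf1_mul4, g2vf1_mul4, g2vf1_mul4]
  apply g2vf1_eq4 <;> first | (field_simp; ring) | ring | field_simp

theorem g2vf1_b2 (τ ν : F) (hν : ν ≠ 0) :
    (!![1, 0, (-1 : F), 0; 0, 1, 0, 0; 0, 0, 1, 0; -2 * (-1 : F), (-1 : F), -(-1 : F) ^ 2, 1] *
      !![1, 0, 0, -(1 : F); 0, 1, 0, 0; 2 * (1 : F), -(1 : F), 1, -(1 : F) ^ 2; 0, 0, 0, 1] *
      !![1, 0, (-1 + τ / ν), 0; 0, 1, 0, 0; 0, 0, 1, 0; -2 * (-1 + τ / ν), (-1 + τ / ν), -(-1 + τ / ν) ^ 2, 1] *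
      Matrix.diagonal ![1, 1, ν, ν⁻¹] : Matrix (Fin 4) (Fin 4) F) =
    !![-1, 1, -τ, 0; 0, 1, 0, 0; 2 * τ / ν, -τ / ν, τ ^ 2 / ν, -1 / ν; 0, 0, -ν, 0] := by
  rw [g2vf1_diag4, g2vf1_mul4, g2vf1_mul4, g2vf1_mul4]
  apply g2vf1_eq4 <;> first | (field_simp; ring) | ring | field_simp

theorem g2vf1_b3 (τ ν : F) (hν : ν ≠ 0) :
    (!![1, 0, 0, 0; -(-1 : F), 1, 0, 0; (-1 : F) ^ 2, -2 * (-1 : F), 1, 0; (-1 : F) ^ 3, -3 * (-1 : F) ^ 2, 3 * (-1 : F), 1] *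
      !![1, -3 * (1 : F), 3 * (1 : F) ^ 2, (1 : F) ^ 3; 0, 1, -2 * (1 : F), -(1 : F) ^ 2; 0, 0, 1, (1 : F); 0, 0, 0, 1] *
      !![1, 0, 0, 0; -(-1 + τ / ν), 1, 0, 0; (-1 + τ / ν) ^ 2, -2 * (-1 + τ / ν), 1, 0;
        (-1 + τ / ν) ^ 3, -3 * (-1 + τ / ν) ^ 2, 3 * (-1 + τ / ν), 1] *
      Matrix.diagonal ![ν ^ 2, ν, 1, ν⁻¹] : Matrix (Fin 4) (Fin 4) F) =
    !![τ ^ 3 / ν, -3 * τ ^ 2 / ν, 3 * τ / ν, 1 / ν; τ ^ 2, -2 * τ, 1, 0; τ * ν, -ν, 0, 0; -ν ^ 2, 0, 0, 0] := by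
  rw [g2vf1_diag4, g2vf1_mul4, g2vf1_mul4, g2vf1_mul4]
  apply g2vf1_eq4 <;> first | (field_simp; ring) | ring | field_simp

/-- **F1** [M-H]. -/
theorem xG_val (τ ν : F) (hν : ν ≠ 0) :
    ((xG τ ν hν : GG F) : Matrix chevG2.Idx chevG2.Idx F) = xM τ ν := by
  rw [xG_eq, Units.val_mul, Units.val_mul, Units.val_mul]
  show chevG2.x F 7 (-1) * chevG2.x F 4 1 * chevG2.x F 7 (-1 + τ / ν) * chevG2.hMat F 6 ν = xM τ ν
  rw [g2vf1_x7, g2vf1_x4, g2vf1_x7, g2vf1_hb ν hν, g2vf1_xM, Matrix.submatrix_mul_equiv,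
    Matrix.submatrix_mul_equiv, Matrix.submatrix_mul_equiv, g2vf1_blk_mul, g2vf1_blk_mul, g2vf1_blk_mul,
    g2vf1_b1 τ ν hν, g2vf1_b2 τ ν hν, g2vf1_b3 τ ν hν]
  congr 2
  · simp
  · simp

end Cfsg.Agent.Lib.Helper19.G2V
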