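import Mathlib
import Cfsg.Agent.Lib.Helper19.G2V.Defs
import Cfsg.Agent.Lib.Helper19.G2VF3core
import Cfsg.Agent.Lib.Helper19.G2VF2
import Cfsg.Agent.Lib.helper8.G2VF1

/-!
# G2V row F3 (`fpf_cmp`), verbatim: helper19's `fpf_cmp_core` on F1 (`xG_val`, helper8) and F2 (`Qcol`, `Qcol11`, helper19).
-/

set_option autoImplicit false

namespace Cfsg.Agent.Lib.Helper19.G2V

open Cfsg.Lie Cfsg.Lie.ChevalleyDatum Matrix
open Cfsg.Agent.Lib.helper8
open Cfsg.Agent.Lib.helper23.P4V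

universe u

variable {F : Type u} [Field F]

/-- **F3** [H]. -/
theorem fpf_cmp (τ ν : F) (hG : Good' τ ν) (u : GG F) (hu : u ∈ Qp F)
    (hc : u * xG τ ν hG.1.nu_ne_zero = xG τ ν hG.1.nu_ne_zero * u) : u = 1 :=
  fpf_cmp_core xG_val Qcol Qcol11 τ ν hG u hu hc

end Cfsg.Agent.Lib.Helper19.G2V
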