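import Mathlib
import Cfsg.Agent.Lib.Helper19.G2V.Defs
import Cfsg.Agent.Lib.Helper19.G2VI5core
import Cfsg.Agent.Lib.Helper27.G2VI2

/-!
# G2V row I5 (`Lv_le_iota`), verbatim: helper19's `Lv_le_iota_core` on helper27's I2.
-/

set_option autoImplicit false

namespace Cfsg.Agent.Lib.Helper19.G2V

open Cfsg.Lie Cfsg.Lie.ChevalleyDatum Matrix
open Cfsg.Agent.Lib.helper8
open Cfsg.Agent.Lib.helper23.P4V

universe u

variable {F : Type u} [Field F]

/-- **I5** [M]. -/
theorem Lv_le_iota (g : GG F) (hg : g ∈ Lv F) : ∃ A : GL (Fin 2) F, g = iota A :=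
  Lv_le_iota_core iota_mul iota_one iota_inv g hg

end Cfsg.Agent.Lib.Helper19.G2V
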