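import Mathlib
import Cfsg.Prelude.Def_GeometricClasses
import Cfsg.Agent.Lib.Helper19.OU.Defs

set_option autoImplicit false
set_option linter.unusedVariables false
set_option linter.unusedSectionVars false

/-!
# Project OU (S5700, leader helper19), row SETUP, second half (helper8, for helper29) :
from `adj` and the rescaling hypothesis for `κ` and `1 + κ` : `Q (κ v) = D Q v` and `f (v, κ v) = T Q v`.
-/

namespace Cfsg.Agent.Lib.Helper19.OU

open Matrix Cfsg.Agent.Lib.Helper28.HForm Cfsg.Agent.Lib.Helper28.OGen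
  Cfsg.Agent.Lib.Helper28.OMax Cfsg.Agent.Lib.Helper28.OQ Cfsg.Agent.Lib.Helper28.OMax2
  Cfsg.Agent.Lib.Helper28.OIwa Cfsg.Agent.Lib.Helper28.OPair

variable {n : ℕ} {F : Type*} [Field F] {Q : (Fin n → F) → F}
  {f : (Fin n → F) → (Fin n → F) → F}

/-- polarisation of `Q (k v) = c Q v` -/
theorem oustart_polarise (hq : QF Q f) (k : Matrix (Fin n) (Fin n) F) (c : F)
    (h : ∀ v : Fin n → F, Q (k *ᵥ v) = c * Q v) (u v : Fin n → F) :
    f (k *ᵥ u) (k *ᵥ v) = c * f u v := by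
  have h1 := hq.polar (k *ᵥ u) (k *ᵥ v)
  rw [← Matrix.mulVec_add, h, h, h, hq.polar] at h1
  linear_combination -h1

/-- `f (κ u, κ v) = D f (u, v)` from `adj` and `κ² = T κ - D` -/
theorem oustart_ff (hq : QF Q f) {κ : Matrix (Fin n) (Fin n) F} {T D : F}
    (hsq : κ * κ = T • κ - D • (1 : Matrix (Fin n) (Fin n) F))
    (hadj : ∀ u v : Fin n → F, f (κ *ᵥ u) v = T * f u v - f u (κ *ᵥ v)) (u v : Fin n → F) :
    f (κ *ᵥ u) (κ *ᵥ v) = D * f u v := by
  have hs : SymF f := hq.sym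
  have h2 : κ *ᵥ (κ *ᵥ v) = T • (κ *ᵥ v) - D • v := by
    rw [Matrix.mulVec_mulVec, hsq, Matrix.sub_mulVec, Matrix.smul_mulVec, Matrix.smul_mulVec,
      Matrix.one_mulVec]
  rw [hadj u (κ *ᵥ v), h2, f_sub_right hs, s_smul_right hs, s_smul_right hs]
  ring

/-- SETUP, second half : the fields `Qθ` and `fθ` of `KS`. -/
theorem oustart_setup_scal (hq : QF Q f) {κ : Matrix (Fin n) (Fin n) F} {T D : F}
    (hsq : κ * κ = T • κ - D • (1 : Matrix (Fin n) (Fin n) F))
    (hadj : ∀ u v : Fin n → F, f (κ *ᵥ u) v = T * f u v - f u (κ *ᵥ v))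
    (hne : ∃ u v : Fin n → F, f u v ≠ 0)
    (hsc1 : ∃ c : F, ∀ v : Fin n → F, Q (κ *ᵥ v) = c * Q v)
    (hsc2 : ∃ c : F, ∀ v : Fin n → F, Q ((1 + κ) *ᵥ v) = c * Q v) :
    (∀ v : Fin n → F, Q (κ *ᵥ v) = D * Q v) ∧ (∀ v : Fin n → F, f v (κ *ᵥ v) = T * Q v) := by
  have hs : SymF f := hq.sym
  obtain ⟨u0, v0, h0⟩ := hne
  obtain ⟨c, hc⟩ := hsc1
  obtain ⟨c', hc'⟩ := hsc2
  have hcD : c = D := by
    have h1 := oustart_polarise hq κ c hc u0 v0
    rw [oustart_ff hq hsq hadj] at h1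
    have : (D - c) * f u0 v0 = 0 := by linear_combination h1
    rcases mul_eq_zero.mp this with h | h
    · exact (sub_eq_zero.mp h).symm
    · exact absurd h h0
  have hQ : ∀ v : Fin n → F, Q (κ *ᵥ v) = D * Q v := by
    intro v
    rw [hc, hcD]
  have h1k : ∀ v : Fin n → F, (1 + κ) *ᵥ v = v + κ *ᵥ v := by
    intro v
    rw [Matrix.add_mulVec, Matrix.one_mulVec]
  have hc'D : c' = 1 + T + D := by
    have h1 := oustart_polarise hq (1 + κ) c' hc' u0 v0
    rw [h1k, h1k, hs.add_left, f_add_right hs, f_add_right hs, oustart_ff hq hsq hadj,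
      hadj u0 v0] at h1
    have : (1 + T + D - c') * f u0 v0 = 0 := by linear_combination h1
    rcases mul_eq_zero.mp this with h | h
    · exact (sub_eq_zero.mp h).symm
    · exact absurd h h0
  refine ⟨hQ, ?_⟩
  intro v
  have h2 := hc' v
  rw [h1k, hq.polar, hQ, hc'D] at h2
  linear_combination h2

end Cfsg.Agent.Lib.Helper19.OU
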