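import Mathlib
import Cfsg.Prelude.Def_GeometricClasses
import Cfsg.Agent.Lib.Helper19.OU.Defs
import Cfsg.Agent.Lib.helper8.OUSETUPscal

set_option autoImplicit false
set_option linter.unusedVariables false
set_option linter.unusedSectionVars false

/-!
# Project OU (S5700, leader helper19), row SETUP : `setup` (verbatim).
-/

namespace Cfsg.Agent.Lib.Helper19.OU

open Matrix Cfsg.Agent.Lib.Helper28.HForm Cfsg.Agent.Lib.Helper28.OGen
  Cfsg.Agent.Lib.Helper28.OMax Cfsg.Agent.Lib.Helper28.OQ Cfsg.Agent.Lib.Helper28.OMax2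
  Cfsg.Agent.Lib.Helper28.OIwa Cfsg.Agent.Lib.Helper28.OPair

variable {n : ℕ} {F : Type*} [Field F] {Q : (Fin n → F) → F}
  {f : (Fin n → F) → (Fin n → F) → F} {θ : Matrix (Fin n) (Fin n) F} {t N : F}
  {G M : Subgroup (Matrix.GeneralLinearGroup (Fin n) F)}

/-- two vectors with the same `f (u, ·)` for all `u` are equal -/
theorem ousetup_vec_ext (hs : SymF f) {x y : Fin n → F} (h : ∀ u, f u x = f u y) : x = y := by
  by_contra hne
  have h0 : x - y ≠ 0 := sub_ne_zero.mpr hne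
  obtain ⟨u, hu⟩ := (hs.nondegenerate (x - y) h0).1
  apply hu
  rw [f_sub_right hs, h u, sub_self]

/-- two matrices with the same `f (u, · v)` for all `u, v` are equal -/
theorem ousetup_mat_ext (hs : SymF f) {A B : Matrix (Fin n) (Fin n) F}
    (h : ∀ u v, f u (A *ᵥ v) = f u (B *ᵥ v)) : A = B := by
  apply Matrix.toLin'.injective
  apply LinearMap.ext
  intro v
  rw [Matrix.toLin'_apply, Matrix.toLin'_apply]
  exact ousetup_vec_ext hs (fun u => h u v)

/-- the adjoint of a generator `κ` of a quadratic field subalgebra (`κ² = T κ - D`), when it lies in `K` and `K` is not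
self-adjoint, is `T - κ`. -/
theorem ousetup_adj (hs : SymF f) (K : Subalgebra F (Matrix (Fin n) (Fin n) F))
    (hK : Cfsg.Geo.IsFieldSubalgebra 2 K) {κ κ' : Matrix (Fin n) (Fin n) F} {T D : F}
    (hκK : κ ∈ K) (hκ'K : κ' ∈ K)
    (hspan : ∀ m : Matrix (Fin n) (Fin n) F, m ∈ K ↔
      ∃ a b : F, m = a • (1 : Matrix (Fin n) (Fin n) F) + b • κ)
    (hsq : κ * κ = T • κ - D • (1 : Matrix (Fin n) (Fin n) F))
    (hadj' : ∀ u v : Fin n → F, f (κ *ᵥ u) v = f u (κ' *ᵥ v))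
    (hnsa : ¬ Cfsg.Geo.IsSelfAdjointFor f K) :
    ∀ u v : Fin n → F, f (κ *ᵥ u) v = T * f u v - f u (κ *ᵥ v) := by
  -- `κ'² = T κ' - D`
  have hsq' : κ' * κ' = T • κ' - D • (1 : Matrix (Fin n) (Fin n) F) := by
    apply ousetup_mat_ext hs
    intro u v
    have e1 : f u ((κ' * κ') *ᵥ v) = f ((κ * κ) *ᵥ u) v := by
      rw [← Matrix.mulVec_mulVec, ← Matrix.mulVec_mulVec, hadj', hadj']
    rw [e1, hsq, Matrix.sub_mulVec, Matrix.smul_mulVec, Matrix.smul_mulVec, Matrix.one_mulVec,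
      Matrix.sub_mulVec, Matrix.smul_mulVec, Matrix.smul_mulVec, Matrix.one_mulVec,
      f_sub_left hs, hs.smul_left, hs.smul_left, f_sub_right hs, s_smul_right hs,
      s_smul_right hs, hadj']
  have hcomm : κ' * κ = κ * κ' := hK.comm κ' hκ'K κ hκK
  set A : Matrix (Fin n) (Fin n) F := κ' - κ with hA
  set B : Matrix (Fin n) (Fin n) F := κ' - (T • (1 : Matrix (Fin n) (Fin n) F) - κ) with hB
  have hAK : A ∈ K := K.sub_mem hκ'K hκK
  have hBK : B ∈ K := K.sub_mem hκ'K (K.sub_mem (K.smul_mem K.one_mem T) hκK)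
  have hAB : A * B = 0 := by
    rw [hA, hB, Matrix.sub_mul, Matrix.mul_sub, Matrix.mul_sub, Matrix.mul_sub, Matrix.mul_sub,
      hsq', hcomm, hsq]
    simp only [Matrix.mul_smul, Matrix.mul_one]
    abel
  by_cases hA0 : A = 0
  · -- `κ' = κ` : `K` self-adjoint
    exfalso
    apply hnsa
    have hκκ' : κ' = κ := sub_eq_zero.mp hA0
    intro k hk u v
    obtain ⟨a, b, rfl⟩ := (hspan k).mp hk
    rw [Matrix.add_mulVec, Matrix.smul_mulVec, Matrix.smul_mulVec, Matrix.one_mulVec,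
      Matrix.add_mulVec, Matrix.smul_mulVec, Matrix.smul_mulVec, Matrix.one_mulVec,
      hs.add_left, hs.smul_left, hs.smul_left, f_add_right hs, s_smul_right hs,
      s_smul_right hs, hadj', hκκ']
  · obtain ⟨y, hyK, hy⟩ := hK.inv A hAK hA0
    have hB0 : B = 0 := by
      calc B = (y * A) * B := by rw [← hK.comm A hAK y hyK, hy, Matrix.one_mul]
        _ = y * (A * B) := Matrix.mul_assoc _ _ _
        _ = 0 := by rw [hAB, Matrix.mul_zero]
    have hκ' : κ' = T • (1 : Matrix (Fin n) (Fin n) F) - κ := sub_eq_zero.mp hB0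
    intro u v
    rw [hadj', hκ', Matrix.sub_mulVec, Matrix.smul_mulVec, Matrix.one_mulVec, f_sub_right hs,
      s_smul_right hs]

/-- SETUP [L] : the hypotheses of S5700 give the data `KS`. -/
theorem setup [Fintype F] (hn : 1 ≤ n) (Q : (Fin n → F) → F)
    (hQ : Cfsg.Geo.IsNondegenerateQuadraticForm Q) (K : Subalgebra F (Matrix (Fin n) (Fin n) F))
    (hK : Cfsg.Geo.IsFieldSubalgebra 2 K)
    (hac : Cfsg.Geo.IsAdjointClosedFor (QuadraticMap.polar Q) K)
    (hnsa : ¬ Cfsg.Geo.IsSelfAdjointFor (QuadraticMap.polar Q) K)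
    (hsc : ∀ k ∈ K, ∃ c : F, ∀ v : (Fin n → F), Q (Matrix.mulVec k v) = c * Q v) :
    ∃ (θ : Matrix (Fin n) (Fin n) F) (t N : F), KS Q (QuadraticMap.polar Q) θ t N ∧
      ∀ m : Matrix (Fin n) (Fin n) F, m ∈ K ↔
        ∃ a b : F, m = a • (1 : Matrix (Fin n) (Fin n) F) + b • θ := by
  have hq : QF Q (QuadraticMap.polar Q) := Cfsg.Agent.Lib.Helper28.OEven.qf_unb Q hQ
  have hs : SymF (QuadraticMap.polar Q) := hq.sym
  obtain ⟨κ, T, D, hκK, hspan, hsq, hirr, hns⟩ := Cfsg.Agent.Lib.helper14.FldA.exists_gen hn K hK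
  obtain ⟨κ', hκ'K, hadj'⟩ := hac κ hκK
  have hadj := ousetup_adj hs K hK hκK hκ'K hspan hsq hadj' hnsa
  -- the form is not identically zero
  have hne : ∃ u v : Fin n → F, QuadraticMap.polar Q u v ≠ 0 := by
    have he : (Pi.single (⟨0, by omega⟩ : Fin n) (1 : F) : Fin n → F) ≠ 0 := by
      intro h
      have := congrFun h ⟨0, by omega⟩
      simp at this
    obtain ⟨x, hx⟩ := (hs.nondegenerate _ he).1
    exact ⟨x, _, hx⟩
  have h1κ : (1 + κ) ∈ K := K.add_mem K.one_mem hκK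
  obtain ⟨hQθ, hfθ⟩ := oustart_setup_scal hq hsq hadj hne (hsc κ hκK) (hsc (1 + κ) h1κ)
  exact ⟨κ, T, D, ⟨hq, hsq, hirr, hadj, hQθ, hfθ⟩, hspan⟩

end Cfsg.Agent.Lib.Helper19.OU
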