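import Mathlib
import Cfsg.Prelude.Def_GeometricClasses
import Cfsg.Agent.Lib.Helper19.OU.Defs
import Cfsg.Agent.Lib.Helper11.OUTAU

set_option autoImplicit false
set_option linter.unusedVariables false
set_option linter.unusedSectionVars false

/-!
# Project OU (S5700, leader helper19), row START : the core, with INK (`mem_K_of_lines`) as a hypothesis.

Self-contained apart from TAU (`Helper11.OUTAU`): the direction of `rs_iff_sro` that is needed is proved here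
(`oustart_rs_of_sro`).
-/

namespace Cfsg.Agent.Lib.Helper19.OU

open Matrix Cfsg.Agent.Lib.Helper28.HForm Cfsg.Agent.Lib.Helper28.OGen
  Cfsg.Agent.Lib.Helper28.OMax Cfsg.Agent.Lib.Helper28.OQ Cfsg.Agent.Lib.Helper28.OMax2
  Cfsg.Agent.Lib.Helper28.OIwa Cfsg.Agent.Lib.Helper28.OPair

variable {n : ℕ} {F : Type*} [Field F] {Q : (Fin n → F) → F}
  {f : (Fin n → F) → (Fin n → F) → F} {θ : Matrix (Fin n) (Fin n) F} {t N : F}
  {G M : Subgroup (Matrix.GeneralLinearGroup (Fin n) F)}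

/-- for singular `y` : `ρ_{u, c y} = Tv f u y c` -/
theorem oustart_rho_tv (hq : QF Q f) {u y : Fin n → F} (hy : Q y = 0) (c : F) (x : Fin n → F) :
    Rho Q f u (c • y) x = Tv f u y c x := by
  have hs : SymF f := hq.sym
  unfold Rho Tv
  rw [hq.smul, hy, hs.smul_left]
  module

/-- the direction of `rs_iff_sro` used by START -/
theorem oustart_rs_of_sro (hq : QF Q f) {u y : Fin n → F} (hy : Q y = 0) (huy : f u y = 0)
    (h : SRO f M u y) : y ∈ RS Q f M u := by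
  refine ⟨huy, ?_⟩
  intro c g hg
  apply h c g
  intro x
  rw [hg x, oustart_rho_tv hq hy c x]

/-- START with INK as a hypothesis. -/
theorem oustart_core (ks : KS Q f θ t N) (am : Amb Q f θ G M)
    (hINK : ∀ φ : Matrix (Fin n) (Fin n) F, (∀ w, Q w = 0 → φ *ᵥ w ∈ Kl θ w) →
      ∃ a b : F, φ = a • (1 : Matrix (Fin n) (Fin n) F) + b • θ)
    (g : Matrix.GeneralLinearGroup (Fin n) F) (hg : g ∈ M)
    (hgK : ¬ ∃ a b : F, (g : Matrix (Fin n) (Fin n) F) * θ *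
      ((g⁻¹ : Matrix.GeneralLinearGroup (Fin n) F) : Matrix (Fin n) (Fin n) F) =
        a • (1 : Matrix (Fin n) (Fin n) F) + b • θ) :
    ∃ u v : Fin n → F, Q u = 0 ∧ u ≠ 0 ∧ Q v = 0 ∧ f u v = 0 ∧ v ∉ Kl θ u ∧ v ∈ RS Q f M u := by
  have hq : QF Q f := ks.hq
  have hs : SymF f := hq.sym
  -- some singular `w` with `θ' w ∉ K w`
  have hex : ∃ w, Q w = 0 ∧ ((g : Matrix (Fin n) (Fin n) F) * θ *
      ((g⁻¹ : Matrix.GeneralLinearGroup (Fin n) F) : Matrix (Fin n) (Fin n) F)) *ᵥ w ∉ Kl θ w := by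
    by_contra hcon
    apply hgK
    apply hINK
    intro w hw
    by_contra hw'
    exact hcon ⟨w, hw, hw'⟩
  obtain ⟨w, hw, hwK⟩ := hex
  have hgG : g ∈ G := am.hM hg
  have hgiG : g⁻¹ ∈ G := G.inv_mem hgG
  have hisoQ : ∀ x, Q ((g : Matrix (Fin n) (Fin n) F) *ᵥ x) = Q x := am.hG.iso g hgG
  have hisoQi : ∀ x, Q (((g⁻¹ : Matrix.GeneralLinearGroup (Fin n) F) :
      Matrix (Fin n) (Fin n) F) *ᵥ x) = Q x := am.hG.iso g⁻¹ hgiG
  have hisof := iso_f hq g hisoQ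
  set w0 : Fin n → F := ((g⁻¹ : Matrix.GeneralLinearGroup (Fin n) F) :
      Matrix (Fin n) (Fin n) F) *ᵥ w with hw0def
  have hgw0 : (g : Matrix (Fin n) (Fin n) F) *ᵥ w0 = w := Cfsg.Agent.S5643.inv_mv' g w
  have hv : ((g : Matrix (Fin n) (Fin n) F) * θ *
      ((g⁻¹ : Matrix.GeneralLinearGroup (Fin n) F) : Matrix (Fin n) (Fin n) F)) *ᵥ w =
      (g : Matrix (Fin n) (Fin n) F) *ᵥ (θ *ᵥ w0) := by
    rw [← Matrix.mulVec_mulVec, ← Matrix.mulVec_mulVec]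
  rw [hv] at hwK
  have hw0 : Q w0 = 0 := by rw [hw0def, hisoQi, hw]
  have hQv : Q ((g : Matrix (Fin n) (Fin n) F) *ᵥ (θ *ᵥ w0)) = 0 := by
    rw [hisoQ, ks.Qθ, hw0, mul_zero]
  have hfv : f w ((g : Matrix (Fin n) (Fin n) F) *ᵥ (θ *ᵥ w0)) = 0 := by
    rw [← hgw0, hisof, ks.fθ, hw0, mul_zero]
  have hwne : w ≠ 0 := by
    intro h0
    apply hwK
    have : w0 = 0 := by rw [hw0def, h0, Matrix.mulVec_zero]
    rw [this, Matrix.mulVec_zero, Matrix.mulVec_zero]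
    exact Submodule.zero_mem _
  refine ⟨w, (g : Matrix (Fin n) (Fin n) F) *ᵥ (θ *ᵥ w0), hw, hwne, hQv, hfv, hwK, ?_⟩
  apply oustart_rs_of_sro hq hQv hfv
  intro c t' ht'
  obtain ⟨τ, hτM, hτ⟩ := tau_ex ks am hw0 c
  have hconj := isSg_conj (k := g) hisof hτ
  rw [hgw0] at hconj
  have : t' = g * τ * g⁻¹ := by
    apply gl_ext
    intro x
    rw [ht' x, hconj x]
  rw [this]
  exact M.mul_mem (M.mul_mem hg hτM) (M.inv_mem hg)

end Cfsg.Agent.Lib.Helper19.OU
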