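import Mathlib
import Cfsg.Prelude.Def_GeometricClasses
import Cfsg.Agent.Lib.Helper19.OU.Defs
import Cfsg.Agent.Lib.helper2.OUINK
import Cfsg.Agent.Lib.helper8.OUSTARTcore

set_option autoImplicit false
set_option linter.unusedVariables false
set_option linter.unusedSectionVars false

/-!
# Project OU (S5700, leader helper19), row START : `start` (verbatim) = `oustart_core` + INK (`mem_K_of_lines`).
-/

namespace Cfsg.Agent.Lib.Helper19.OU

open Matrix Cfsg.Agent.Lib.Helper28.HForm Cfsg.Agent.Lib.Helper28.OGen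
  Cfsg.Agent.Lib.Helper28.OMax Cfsg.Agent.Lib.Helper28.OQ Cfsg.Agent.Lib.Helper28.OMax2
  Cfsg.Agent.Lib.Helper28.OIwa Cfsg.Agent.Lib.Helper28.OPair

variable {n : ℕ} {F : Type*} [Field F] {Q : (Fin n → F) → F}
  {f : (Fin n → F) → (Fin n → F) → F} {θ : Matrix (Fin n) (Fin n) F} {t N : F}
  {G M : Subgroup (Matrix.GeneralLinearGroup (Fin n) F)}

/-- START [M-L] : an element of `M` not normalising `K` gives a pair `(u, v)`, `v ∈ RS M u` singular outside `K u`. -/
theorem start [Fintype F] (hn : 11 ≤ n) (ks : KS Q f θ t N) (am : Amb Q f θ G M)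
    (g : Matrix.GeneralLinearGroup (Fin n) F) (hg : g ∈ M)
    (hgK : ¬ ∃ a b : F, (g : Matrix (Fin n) (Fin n) F) * θ *
      ((g⁻¹ : Matrix.GeneralLinearGroup (Fin n) F) : Matrix (Fin n) (Fin n) F) =
        a • (1 : Matrix (Fin n) (Fin n) F) + b • θ) :
    ∃ u v : Fin n → F, Q u = 0 ∧ u ≠ 0 ∧ Q v = 0 ∧ f u v = 0 ∧ v ∉ Kl θ u ∧ v ∈ RS Q f M u :=
  oustart_core ks am (fun φ h => mem_K_of_lines hn ks am.vf φ h) g hg hgK

end Cfsg.Agent.Lib.Helper19.OU
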