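import Mathlib
import Cfsg.Agent.Lib.helper3.SU5.Defs

/-!
# Project SU5 (designer helper3), rows I1 I2 I3 (helper8): the flip `M ↦ J M J` of the rank one group
VERBATIM vs `helper3/SU5/Skel.lean.txt`.  Extras: `su5i1_flipS`, `su5i1_flipS_XpS`, `su5i1_flipS_XmS`,
`su5i1_flipS_mem`.
-/

set_option autoImplicit false

namespace Cfsg.Agent.Lib.helper3.SU5

open Cfsg.Agent.Lib.helper15.St2 Cfsg.Agent.Lib.Helper27.STU
open Cfsg.Agent.Lib.helper3.STC (ng sws)

universe u v w w₀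

section I

variable {F : Type u} [Field F] [StarRing F] {od : Prop}

/-- I1 [S-M] -/
theorem flipM_mul (M N : Matrix (Fin 3) (Fin 3) F) : flipM (M * N) = flipM M * flipM N := by
  ext i j
  show (M * N) (Fin.rev i) (Fin.rev j) = (flipM M * flipM N) i j
  rw [Matrix.mul_apply, Matrix.mul_apply]
  exact (Equiv.sum_comp Fin.revPerm (fun k => M (Fin.rev i) k * N k (Fin.rev j))).symm

theorem flipM_XpM (ξ : Lam F od) : flipM (XpM ξ) = XmM ξ := by
  ext i j
  fin_cases i <;> fin_cases j <;> simp [flipM, XpM, XmM, Fin.rev]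

theorem flipM_XmM (ξ : Lam F od) : flipM (XmM ξ) = XpM ξ := by
  ext i j
  fin_cases i <;> fin_cases j <;> simp [flipM, XpM, XmM, Fin.rev]

theorem su5i1_flipM_det (M : Matrix (Fin 3) (Fin 3) F) : (flipM M).det = M.det := by
  have : flipM M = M.submatrix Fin.revPerm Fin.revPerm := by
    ext i j
    rfl
  rw [this, Matrix.det_submatrix_equiv_self]

theorem su5i1_flipM_one : flipM (1 : Matrix (Fin 3) (Fin 3) F) = 1 := by
  ext i j
  unfold flipM
  rw [Matrix.one_apply, Matrix.one_apply]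
  by_cases h : i = j
  · rw [if_pos h, if_pos (by rw [h])]
  · rw [if_neg h, if_neg (fun h' => h (Fin.rev_injective h'))]

/-- the flip on `SL₃(F)` -/
def su5i1_flipS : Matrix.SpecialLinearGroup (Fin 3) F →* Matrix.SpecialLinearGroup (Fin 3) F where
  toFun M := ⟨flipM M.1, by rw [su5i1_flipM_det]; exact M.2⟩
  map_one' := by
    apply Subtype.ext
    exact su5i1_flipM_one
  map_mul' M N := by
    apply Subtype.ext
    show flipM (M.1 * N.1) = flipM M.1 * flipM N.1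
    exact flipM_mul _ _

theorem su5i1_flipS_XpS (ξ : Lam F od) : su5i1_flipS (XpS ξ) = XmS ξ := by
  apply Subtype.ext
  exact flipM_XpM ξ

theorem su5i1_flipS_XmS (ξ : Lam F od) : su5i1_flipS (XmS ξ) = XpS ξ := by
  apply Subtype.ext
  exact flipM_XmM ξ

theorem su5i1_flipS_mem (x : Matrix.SpecialLinearGroup (Fin 3) F) (hx : x ∈ SUm F od) :
    su5i1_flipS x ∈ SUm F od := by
  unfold SUm at hx ⊢
  induction hx using Subgroup.closure_induction with
  | mem y hy =>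
    rcases hy with ⟨ξ, rfl⟩ | ⟨ξ, rfl⟩
    · rw [su5i1_flipS_XpS]
      exact Subgroup.subset_closure (Or.inr ⟨ξ, rfl⟩)
    · rw [su5i1_flipS_XmS]
      exact Subgroup.subset_closure (Or.inl ⟨ξ, rfl⟩)
  | one => rw [map_one]; exact Subgroup.one_mem _
  | mul a b _ _ ha hb => rw [map_mul]; exact Subgroup.mul_mem _ ha hb
  | inv a _ ha => rw [map_inv]; exact Subgroup.inv_mem _ ha

/-- I2 [M] -/
theorem exists_flipU : ∃ τ : ↥(SUm F od) →* ↥(SUm F od), ∀ ξ, τ (XpU ξ) = XmU ξ ∧ τ (XmU ξ) = XpU ξ := by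
  refine ⟨((su5i1_flipS (F := F)).comp (SUm F od).subtype).codRestrict (SUm F od)
    (fun x => su5i1_flipS_mem x.1 x.2), fun ξ => ⟨?_, ?_⟩⟩
  · apply Subtype.ext
    exact su5i1_flipS_XpS ξ
  · apply Subtype.ext
    exact su5i1_flipS_XmS ξ

/-- I3 [S] -/
theorem Pre.R1.ng {ι : Type v} {G : Type w} [Group G] (P : Pre F od ι G) {a : ι ⊕ ι} (h : P.R1 a) : P.R1 (ng a) := by
  obtain ⟨ρ, hρ⟩ := h
  obtain ⟨τ, hτ⟩ := exists_flipU (F := F) (od := od)
  refine ⟨ρ.comp τ, fun ξ => ⟨?_, ?_⟩⟩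
  · rw [MonoidHom.comp_apply, (hτ ξ).1]
    exact (hρ ξ).2
  · rw [MonoidHom.comp_apply, (hτ ξ).2]
    have : Cfsg.Agent.Lib.helper3.STC.ng (Cfsg.Agent.Lib.helper3.STC.ng a) = a := Sum.swap_swap a
    rw [this]
    exact (hρ ξ).1

end I

end Cfsg.Agent.Lib.helper3.SU5
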