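import Mathlib
import Cfsg.Agent.Lib.helper3.SU5.Defs

/-!
# Project SU5 (designer helper3), row S3 (helper8): `orbit8`, `orbit4` — the Weyl group of type `BC₂` is
transitive on the 8 ordered pairs and on the 4 signed indices.  VERBATIM vs `helper3/SU5/Skel.lean.txt`.
-/

set_option autoImplicit false

namespace Cfsg.Agent.Lib.helper3.SU5

open Cfsg.Agent.Lib.helper15.St2 Cfsg.Agent.Lib.Helper27.STU
open Cfsg.Agent.Lib.helper3.STC (ng sws)

universe u v w w₀

theorem su5s3_A (x : Fin 2 ⊕ Fin 2) : sws (Sum.inl (0 : Fin 2)) (Sum.inl 1) x =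
    match x with
    | Sum.inl 0 => Sum.inl 1
    | Sum.inl 1 => Sum.inl 0
    | Sum.inr 0 => Sum.inr 1
    | Sum.inr 1 => Sum.inr 0 := by
  rcases x with x | x <;> fin_cases x <;> decide

theorem su5s3_B (x : Fin 2 ⊕ Fin 2) : Equiv.swap (Sum.inl (1 : Fin 2)) (Sum.inr 1) x =
    match x with
    | Sum.inl 0 => Sum.inl 0
    | Sum.inl 1 => Sum.inr 1
    | Sum.inr 0 => Sum.inr 0
    | Sum.inr 1 => Sum.inl 1 := by
  rcases x with x | x <;> fin_cases x <;> decide

/-- S3 [M] -/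
theorem orbit8 (Q : Fin 2 ⊕ Fin 2 → Fin 2 ⊕ Fin 2 → Prop)
    (hA : ∀ a b, a ≠ b → a ≠ ng b → Q a b → Q (sws (Sum.inl 0) (Sum.inl 1) a) (sws (Sum.inl 0) (Sum.inl 1) b))
    (hB : ∀ a b, a ≠ b → a ≠ ng b → Q a b → Q (Equiv.swap (Sum.inl 1) (Sum.inr 1) a) (Equiv.swap (Sum.inl 1) (Sum.inr 1) b))
    {a₀ b₀ : Fin 2 ⊕ Fin 2} (h₀ : a₀ ≠ b₀) (h₀' : a₀ ≠ ng b₀) (hQ : Q a₀ b₀) :
    ∀ a b, a ≠ b → a ≠ ng b → Q a b := by
  -- the eight steps of the cycle
  have s1 : Q (Sum.inl 0) (Sum.inl 1) → Q (Sum.inl 0) (Sum.inr 1) := fun h => by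
    have := hB _ _ (by decide) (by decide) h
    rwa [su5s3_B, su5s3_B] at this
  have s2 : Q (Sum.inl 0) (Sum.inr 1) → Q (Sum.inl 1) (Sum.inr 0) := fun h => by
    have := hA _ _ (by decide) (by decide) h
    rwa [su5s3_A, su5s3_A] at this
  have s3 : Q (Sum.inl 1) (Sum.inr 0) → Q (Sum.inr 1) (Sum.inr 0) := fun h => by
    have := hB _ _ (by decide) (by decide) h
    rwa [su5s3_B, su5s3_B] at this
  have s4 : Q (Sum.inr 1) (Sum.inr 0) → Q (Sum.inr 0) (Sum.inr 1) := fun h => by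
    have := hA _ _ (by decide) (by decide) h
    rwa [su5s3_A, su5s3_A] at this
  have s5 : Q (Sum.inr 0) (Sum.inr 1) → Q (Sum.inr 0) (Sum.inl 1) := fun h => by
    have := hB _ _ (by decide) (by decide) h
    rwa [su5s3_B, su5s3_B] at this
  have s6 : Q (Sum.inr 0) (Sum.inl 1) → Q (Sum.inr 1) (Sum.inl 0) := fun h => by
    have := hA _ _ (by decide) (by decide) h
    rwa [su5s3_A, su5s3_A] at this
  have s7 : Q (Sum.inr 1) (Sum.inl 0) → Q (Sum.inl 1) (Sum.inl 0) := fun h => by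
    have := hB _ _ (by decide) (by decide) h
    rwa [su5s3_B, su5s3_B] at this
  have s8 : Q (Sum.inl 1) (Sum.inl 0) → Q (Sum.inl 0) (Sum.inl 1) := fun h => by
    have := hA _ _ (by decide) (by decide) h
    rwa [su5s3_A, su5s3_A] at this
  -- reach the base pair
  have base : Q (Sum.inl 0) (Sum.inl 1) := by
    rcases a₀ with x | x <;> rcases b₀ with y | y <;> fin_cases x <;> fin_cases y
    all_goals first
      | exact absurd rfl h₀
      | exact absurd rfl h₀'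
      | exact hQ
      | exact s8 hQ
      | exact s8 (s7 hQ)
      | exact s8 (s7 (s6 hQ))
      | exact s8 (s7 (s6 (s5 hQ)))
      | exact s8 (s7 (s6 (s5 (s4 hQ))))
      | exact s8 (s7 (s6 (s5 (s4 (s3 hQ)))))
      | exact s8 (s7 (s6 (s5 (s4 (s3 (s2 hQ))))))
  intro a b hab hab'
  rcases a with x | x <;> rcases b with y | y <;> fin_cases x <;> fin_cases y
  all_goals first
    | exact absurd rfl hab
    | exact absurd rfl hab'
    | exact base
    | exact s1 base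
    | exact s2 (s1 base)
    | exact s3 (s2 (s1 base))
    | exact s4 (s3 (s2 (s1 base)))
    | exact s5 (s4 (s3 (s2 (s1 base))))
    | exact s6 (s5 (s4 (s3 (s2 (s1 base)))))
    | exact s7 (s6 (s5 (s4 (s3 (s2 (s1 base))))))

theorem orbit4 (Q : Fin 2 ⊕ Fin 2 → Prop)
    (hA : ∀ a, Q a → Q (sws (Sum.inl 0) (Sum.inl 1) a))
    (hB : ∀ a, Q a → Q (Equiv.swap (Sum.inl 1) (Sum.inr 1) a)) {a₀ : Fin 2 ⊕ Fin 2} (hQ : Q a₀) : ∀ a, Q a := by
  -- cycle `1 →A 2 →B -2 →A -1 →A ... `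
  have s1 : Q (Sum.inl 0) → Q (Sum.inl 1) := fun h => by
    have := hA _ h
    rwa [su5s3_A] at this
  have s2 : Q (Sum.inl 1) → Q (Sum.inr 1) := fun h => by
    have := hB _ h
    rwa [su5s3_B] at this
  have s3 : Q (Sum.inr 1) → Q (Sum.inr 0) := fun h => by
    have := hA _ h
    rwa [su5s3_A] at this
  have s3' : Q (Sum.inr 0) → Q (Sum.inr 1) := fun h => by
    have := hA _ h
    rwa [su5s3_A] at this
  have s2' : Q (Sum.inr 1) → Q (Sum.inl 1) := fun h => by
    have := hB _ h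
    rwa [su5s3_B] at this
  have s1' : Q (Sum.inl 1) → Q (Sum.inl 0) := fun h => by
    have := hA _ h
    rwa [su5s3_A] at this
  have base : Q (Sum.inl 0) := by
    rcases a₀ with x | x <;> fin_cases x
    · exact hQ
    · exact s1' hQ
    · exact s1' (s2' (s3' hQ))
    · exact s1' (s2' hQ)
  intro a
  rcases a with x | x <;> fin_cases x
  · exact base
  · exact s1 base
  · exact s3 (s2 (s1 base))
  · exact s2 (s1 base)

end Cfsg.Agent.Lib.helper3.SU5
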