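import Mathlib
import Cfsg.Agent.Lib.helper3.SU5.Defs

/-!
# Project SU5 (designer helper3), row S1 (helper8): `pre_sym` — `sym` holds by the definition of `D.xs`.
VERBATIM vs `helper3/SU5/Skel.lean.txt`.
-/

set_option autoImplicit false

namespace Cfsg.Agent.Lib.helper3.SU5

open Cfsg.Agent.Lib.helper15.St2 Cfsg.Agent.Lib.Helper27.STU
open Cfsg.Agent.Lib.helper3.STC (ng sws)

universe u v w w₀

namespace Dat

variable {F : Type u} [Field F] [StarRing F] {G : Type w} [Group G] (D : Dat F G)

/-- S1 [S-M] -/
theorem pre_sym : D.pre.Sym := by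
  intro a b hab hab' t
  rcases a with x | x <;> rcases b with y | y <;> fin_cases x <;> fin_cases y
  all_goals first
    | exact absurd rfl hab
    | exact absurd rfl hab'
    | simp [Dat.pre, Dat.xs, ng]

end Dat

end Cfsg.Agent.Lib.helper3.SU5
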