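import Cfsg.Agent.Lib.Helper27.TS2.Defs

/-!
# Project TS2 (S5666, NT world, `a = 2`), piece RLCHAR: `rl_char_two`

For `a = 2` an element of `Sp(V)` fixing the Lagrangian `u ⊗ B` pointwise is some `X_u(η)`.
-/

set_option autoImplicit false
set_option linter.unusedSectionVars false
set_option linter.unusedVariables false

namespace Cfsg.Agent.Lib.Helper21.TS

open Matrix
open scoped Kronecker
open Cfsg.Agent.Lib.helper7.TP

variable {a b : ℕ} {F : Type*} [Field F]

/-- two matrices that agree on all pure tensors are equal. -/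
theorem ts2rlchar_mat_ext {X Y : Matrix (Fin a × Fin b) (Fin a × Fin b) F}
    (h : ∀ (u : Fin a → F) (w : Fin b → F), X *ᵥ ten u w = Y *ᵥ ten u w) : X = Y := by
  ext p r
  obtain ⟨i, j⟩ := r
  have hs : ten (Pi.single i (1 : F)) (Pi.single j (1 : F)) = Pi.single (i, j) (1 : F) := by
    funext p'
    obtain ⟨i', j'⟩ := p'
    simp only [ten, Pi.single_apply, Prod.mk.injEq]
    by_cases hi : i' = i <;> by_cases hj : j' = j <;> simp [hi, hj]
  have := congrFun (h (Pi.single i 1) (Pi.single j 1)) p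
  rw [hs, Matrix.mulVec_single_one, Matrix.mulVec_single_one] at this
  exact this

/-- the form `bf J` on `F²` for an alternating `J`. -/
theorem ts2rlchar_bf_two {J1 : Matrix (Fin 2) (Fin 2) F} (halt : J1ᵀ = -J1) (two : (2 : F) ≠ 0)
    (x y : Fin 2 → F) : bf J1 x y = J1 0 1 * (x 0 * y 1 - x 1 * y 0) := by
  have h00 : J1 0 0 = 0 := by
    have := congrFun (congrFun halt 0) 0
    simp only [Matrix.transpose_apply, Matrix.neg_apply] at this
    have h2 : (2 : F) * J1 0 0 = 0 := by linear_combination this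
    rcases mul_eq_zero.mp h2 with h | h
    · exact absurd h two
    · exact h
  have h11 : J1 1 1 = 0 := by
    have := congrFun (congrFun halt 1) 1
    simp only [Matrix.transpose_apply, Matrix.neg_apply] at this
    have h2 : (2 : F) * J1 1 1 = 0 := by linear_combination this
    rcases mul_eq_zero.mp h2 with h | h
    · exact absurd h two
    · exact h
  have h10 : J1 1 0 = -J1 0 1 := by
    have := congrFun (congrFun halt 0) 1
    simp only [Matrix.transpose_apply, Matrix.neg_apply] at this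
    exact this
  simp only [bf, dotProduct, Matrix.mulVec, Fin.sum_univ_two, h00, h11, h10]
  ring

/-- a symplectic pair `u, u₂` of `F²` is a basis. -/
theorem ts2rlchar_decomp {J1 : Matrix (Fin 2) (Fin 2) F} (halt : J1ᵀ = -J1) (two : (2 : F) ≠ 0)
    {u u₂ : Fin 2 → F} (h12 : bf J1 u u₂ = 1) (x : Fin 2 → F) :
    x = (-(bf J1 u₂ x)) • u + (bf J1 u x) • u₂ := by
  rw [ts2rlchar_bf_two halt two] at h12
  rw [ts2rlchar_bf_two halt two, ts2rlchar_bf_two halt two]
  funext i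
  fin_cases i
  · simp only [Fin.zero_eta, Pi.add_apply, Pi.smul_apply, smul_eq_mul]
    linear_combination (-(x 0)) * h12
  · simp only [Fin.mk_one, Pi.add_apply, Pi.smul_apply, smul_eq_mul]
    linear_combination (-(x 1)) * h12

/-- the `u`-coordinate of a vector of `F² ⊗ B` with respect to the symplectic pair `u, u₂`. -/
def ts2rlchar_zA (J1 : Matrix (Fin 2) (Fin 2) F) (u₂ : Fin 2 → F) (v : Fin 2 × Fin b → F) :
    Fin b → F := fun j => -(bf J1 u₂ (fun i => v (i, j)))

/-- the `u₂`-coordinate. -/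
def ts2rlchar_zB (J1 : Matrix (Fin 2) (Fin 2) F) (u : Fin 2 → F) (v : Fin 2 × Fin b → F) :
    Fin b → F := fun j => bf J1 u (fun i => v (i, j))

theorem ts2rlchar_vec_decomp {J1 : Matrix (Fin 2) (Fin 2) F} (halt : J1ᵀ = -J1) (two : (2 : F) ≠ 0)
    {u u₂ : Fin 2 → F} (h12 : bf J1 u u₂ = 1) (v : Fin 2 × Fin b → F) :
    v = ten u (ts2rlchar_zA J1 u₂ v) + ten u₂ (ts2rlchar_zB J1 u v) := by
  funext p
  obtain ⟨i, j⟩ := p
  have := congrFun (ts2rlchar_decomp halt two h12 (fun i => v (i, j))) i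
  simp only [Pi.add_apply, Pi.smul_apply, smul_eq_mul] at this
  simp only [Pi.add_apply, ten, ts2rlchar_zA, ts2rlchar_zB]
  rw [this]
  ring

theorem ts2rlchar_zA_add (J1 : Matrix (Fin 2) (Fin 2) F) (u₂ : Fin 2 → F)
    (v v' : Fin 2 × Fin b → F) :
    ts2rlchar_zA J1 u₂ (v + v') = ts2rlchar_zA J1 u₂ v + ts2rlchar_zA J1 u₂ v' := by
  funext j
  simp only [ts2rlchar_zA, Pi.add_apply]
  have : (fun i => v (i, j) + v' (i, j)) = (fun i => v (i, j)) + (fun i => v' (i, j)) := rfl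
  rw [this, bf_add_right]
  ring

theorem ts2rlchar_zA_smul (J1 : Matrix (Fin 2) (Fin 2) F) (u₂ : Fin 2 → F) (c : F)
    (v : Fin 2 × Fin b → F) :
    ts2rlchar_zA J1 u₂ (c • v) = c • ts2rlchar_zA J1 u₂ v := by
  funext j
  simp only [ts2rlchar_zA, Pi.smul_apply, smul_eq_mul]
  have : (fun i => c * v (i, j)) = c • (fun i => v (i, j)) := rfl
  rw [this, bf_smul_right]
  ring

theorem ts2rlchar_zA_ten {J1 : Matrix (Fin 2) (Fin 2) F} (u₂ x : Fin 2 → F) (z : Fin b → F) :
    ts2rlchar_zA J1 u₂ (ten x z) = (-(bf J1 u₂ x)) • z := by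
  funext j
  simp only [ts2rlchar_zA, ten, Pi.smul_apply, smul_eq_mul]
  have : (fun i => x i * z j) = z j • x := by
    funext i
    simp [mul_comm]
  rw [this, bf_smul_right]
  ring

theorem ts2rlchar_zB_ten {J1 : Matrix (Fin 2) (Fin 2) F} (u x : Fin 2 → F) (z : Fin b → F) :
    ts2rlchar_zB J1 u (ten x z) = (bf J1 u x) • z := by
  funext j
  simp only [ts2rlchar_zB, ten, Pi.smul_apply, smul_eq_mul]
  have : (fun i => x i * z j) = z j • x := by
    funext i
    simp [mul_comm]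
  rw [this, bf_smul_right]
  ring

variable {J1 : Matrix (Fin 2) (Fin 2) F} {J2 : Matrix (Fin b) (Fin b) F}

/-- RLCHAR [M]. `a = 2`: an element of `Sp(V)` fixing the Lagrangian `u ⊗ B` pointwise is some `X_u(η)`. -/
theorem rl_char_two (C : Ctx J1 J2) {u : Fin 2 → F} (hu : u ≠ 0)
    (h : Matrix.GeneralLinearGroup (Fin 2 × Fin b) F) (hS : h ∈ SpV J1 J2)
    (h1 : ∀ z : Fin b → F, (h : Matrix (Fin 2 × Fin b) (Fin 2 × Fin b) F) *ᵥ ten u z = ten u z) :
    ∃ η : Matrix (Fin b) (Fin b) F,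
      (h : Matrix (Fin 2 × Fin b) (Fin 2 × Fin b) F) = XAm J1 u η := by
  -- a symplectic partner of `u`
  obtain ⟨y, hy⟩ := bf_nondeg C.det1 hu
  set u₂ : Fin 2 → F := (bf J1 u y)⁻¹ • y with hu₂
  have h12 : bf J1 u u₂ = 1 := by
    rw [hu₂, bf_smul_right, inv_mul_cancel₀ hy]
  have h21 : bf J1 u₂ u = -1 := by rw [bf_alt C.alt, h12]
  have h22 : bf J1 u₂ u₂ = 0 := bf_self_alt C.alt C.two u₂
  have huu : bf J1 u u = 0 := bf_self_alt C.alt C.two u
  have hiso := (mem_Iso_iff_bf (JV J1 J2) h).mp hS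
  set H : Matrix (Fin 2 × Fin b) (Fin 2 × Fin b) F := (h : Matrix (Fin 2 × Fin b) (Fin 2 × Fin b) F) with hH
  -- the `u₂`-coordinate of `h (u₂ ⊗ z)` is `z`
  have hB : ∀ z : Fin b → F, ts2rlchar_zB J1 u (H *ᵥ ten u₂ z) = z := by
    intro z
    by_contra hne
    have hne' : ts2rlchar_zB J1 u (H *ᵥ ten u₂ z) - z ≠ 0 := sub_ne_zero.mpr hne
    obtain ⟨z', hz'⟩ := bf_nondeg C.det2 hne'
    apply hz'
    have e1 : bf (JV J1 J2) (H *ᵥ ten u₂ z) (ten u z') = bf (JV J1 J2) (ten u₂ z) (ten u z') := by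
      rw [← hiso (ten u₂ z) (ten u z'), h1 z']
    rw [ts2rlchar_vec_decomp C.alt C.two h12 (H *ᵥ ten u₂ z), bf_add_left, bf_JV_ten, bf_JV_ten,
      bf_JV_ten, huu, h21] at e1
    rw [bf_sub_left]
    linear_combination -e1
  -- the linear map `z ↦ u`-coordinate of `h (u₂ ⊗ z)`
  let L : (Fin b → F) →ₗ[F] (Fin b → F) :=
    { toFun := fun z => ts2rlchar_zA J1 u₂ (H *ᵥ ten u₂ z)
      map_add' := by
        intro z z'
        rw [ten_add_right, Matrix.mulVec_add, ts2rlchar_zA_add]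
      map_smul' := by
        intro c z
        rw [ten_smul_right, Matrix.mulVec_smul, ts2rlchar_zA_smul]
        rfl }
  refine ⟨LinearMap.toMatrix' L, ?_⟩
  apply ts2rlchar_mat_ext
  intro x w
  rw [XAm_mulVec_ten, LinearMap.toMatrix'_mulVec]
  have hL : L w = ts2rlchar_zA J1 u₂ (H *ᵥ ten u₂ w) := rfl
  have hdec := ts2rlchar_vec_decomp C.alt C.two h12 (H *ᵥ ten u₂ w)
  rw [hB w] at hdec
  rw [hL]
  generalize hZ : ts2rlchar_zA J1 u₂ (H *ᵥ ten u₂ w) = Z at hdec ⊢
  have hx := ts2rlchar_decomp C.alt C.two h12 x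
  generalize hαdef : -bf J1 u₂ x = α at hx
  generalize hβdef : bf J1 u x = β at hx ⊢
  subst hx
  rw [ten_add_left, ten_smul_left, ten_smul_left, Matrix.mulVec_add, Matrix.mulVec_smul,
    Matrix.mulVec_smul, h1 w, hdec]
  module

end Cfsg.Agent.Lib.Helper21.TS
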