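import Mathlib
import Cfsg.Agent.Lib.Helper18.OCT.Defs

/-!
# OCG row D6 (`card_TorSet`): `#TorSet 1 = (q-1)^2`, `#TorSet (-1) = q^2 - 1` when `-1` is not a square.
-/

set_option autoImplicit false

namespace Cfsg.Agent.Lib.Helper18.OCT

open Cfsg.Lie Matrix
open scoped MatrixGroups

section D

variable {F : Type*} [Field F]

theorem ocgd6_det (δ x y : F) : (kmat δ x y).det = x ^ 2 - δ * y ^ 2 := by
  unfold kmat
  rw [Matrix.det_fin_two_of]
  ring

/-- the torus is in bijection with the pairs `(x, y)` with `x² - δ y² ≠ 0` -/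
theorem ocgd6_card (δ : F) :
    Nat.card (TorSet δ) = Nat.card {p : F × F // p.1 ^ 2 - δ * p.2 ^ 2 ≠ 0} := by
  have hprop : ∀ g : TorSet δ,
      ((((g : GL (Fin 2) F) : Matrix (Fin 2) (Fin 2) F) 0 0,
        ((g : GL (Fin 2) F) : Matrix (Fin 2) (Fin 2) F) 1 0) : F × F).1 ^ 2 -
        δ * ((((g : GL (Fin 2) F) : Matrix (Fin 2) (Fin 2) F) 0 0,
        ((g : GL (Fin 2) F) : Matrix (Fin 2) (Fin 2) F) 1 0) : F × F).2 ^ 2 ≠ 0 := by
    rintro ⟨g, x, y, h⟩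
    have hu : IsUnit ((g : Matrix (Fin 2) (Fin 2) F)).det :=
      (Matrix.isUnit_iff_isUnit_det _).1 (Units.isUnit g)
    have h0 := hu.ne_zero
    rw [h, ocgd6_det] at h0
    have hx : ((g : Matrix (Fin 2) (Fin 2) F)) 0 0 = x := by rw [h]; simp [kmat]
    have hy : ((g : Matrix (Fin 2) (Fin 2) F)) 1 0 = y := by rw [h]; simp [kmat]
    show ((g : Matrix (Fin 2) (Fin 2) F)) 0 0 ^ 2 - δ * ((g : Matrix (Fin 2) (Fin 2) F)) 1 0 ^ 2 ≠ 0
    rw [hx, hy]
    exact h0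
  refine Nat.card_congr (Equiv.ofBijective
    (fun g : TorSet δ => (⟨(((g : GL (Fin 2) F) : Matrix (Fin 2) (Fin 2) F) 0 0,
        ((g : GL (Fin 2) F) : Matrix (Fin 2) (Fin 2) F) 1 0), hprop g⟩ :
        {p : F × F // p.1 ^ 2 - δ * p.2 ^ 2 ≠ 0})) ⟨?_, ?_⟩)
  · rintro ⟨g, x, y, h⟩ ⟨g', x', y', h'⟩ hgg
    have h1 := congrArg (fun z : {p : F × F // p.1 ^ 2 - δ * p.2 ^ 2 ≠ 0} => (z : F × F).1) hgg
    have h2 := congrArg (fun z : {p : F × F // p.1 ^ 2 - δ * p.2 ^ 2 ≠ 0} => (z : F × F).2) hgg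
    simp only at h1 h2
    have hx : ((g : Matrix (Fin 2) (Fin 2) F)) 0 0 = x := by rw [h]; simp [kmat]
    have hy : ((g : Matrix (Fin 2) (Fin 2) F)) 1 0 = y := by rw [h]; simp [kmat]
    have hx' : ((g' : Matrix (Fin 2) (Fin 2) F)) 0 0 = x' := by rw [h']; simp [kmat]
    have hy' : ((g' : Matrix (Fin 2) (Fin 2) F)) 1 0 = y' := by rw [h']; simp [kmat]
    rw [hx, hx'] at h1
    rw [hy, hy'] at h2
    apply Subtype.ext
    apply Units.ext
    show (g : Matrix (Fin 2) (Fin 2) F) = (g' : Matrix (Fin 2) (Fin 2) F)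
    rw [h, h', h1, h2]
  · rintro ⟨⟨x, y⟩, hne⟩
    have hd : (kmat δ x y).det ≠ 0 := by rw [ocgd6_det]; exact hne
    refine ⟨⟨Matrix.GeneralLinearGroup.mkOfDetNeZero (kmat δ x y) hd, x, y, rfl⟩, ?_⟩
    apply Subtype.ext
    show ((kmat δ x y) 0 0, (kmat δ x y) 1 0) = (x, y)
    simp [kmat]

theorem ocgd6_split [Fintype F] (h2 : (2 : F) ≠ 0) :
    Nat.card {p : F × F // p.1 ^ 2 - (1 : F) * p.2 ^ 2 ≠ 0} = (Fintype.card F - 1) ^ 2 := by
  classical
  have hc : Nat.card (Fˣ × Fˣ) = (Fintype.card F - 1) ^ 2 := by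
    rw [Nat.card_prod, Nat.card_eq_fintype_card, Fintype.card_units, sq]
  rw [← hc]
  have hprop : ∀ p : {p : F × F // p.1 ^ 2 - (1 : F) * p.2 ^ 2 ≠ 0},
      (p : F × F).1 - (p : F × F).2 ≠ 0 ∧ (p : F × F).1 + (p : F × F).2 ≠ 0 := by
    rintro ⟨⟨x, y⟩, h⟩
    have h' : (x - y) * (x + y) ≠ 0 := by
      intro h0
      apply h
      show x ^ 2 - 1 * y ^ 2 = 0
      linear_combination h0
    exact ⟨left_ne_zero_of_mul h', right_ne_zero_of_mul h'⟩
  refine Nat.card_congr (Equiv.ofBijective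
    (fun p : {p : F × F // p.1 ^ 2 - (1 : F) * p.2 ^ 2 ≠ 0} =>
      ((Units.mk0 _ (hprop p).1, Units.mk0 _ (hprop p).2) : Fˣ × Fˣ)) ⟨?_, ?_⟩)
  · rintro ⟨⟨x, y⟩, h⟩ ⟨⟨x', y'⟩, h'⟩ hpp
    have h1 := congrArg (fun z : Fˣ × Fˣ => ((z.1 : Fˣ) : F)) hpp
    have h3 := congrArg (fun z : Fˣ × Fˣ => ((z.2 : Fˣ) : F)) hpp
    simp only [Units.val_mk0] at h1 h3
    have hx : x = x' := by
      have : (2 : F) * x = 2 * x' := by linear_combination h1 + h3
      exact mul_left_cancel₀ h2 this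
    have hy : y = y' := by
      have : (2 : F) * y = 2 * y' := by linear_combination h3 - h1
      exact mul_left_cancel₀ h2 this
    subst hx
    subst hy
    rfl
  · rintro ⟨u, v⟩
    have hne : (((u : F) + v) / 2, ((v : F) - u) / 2).1 ^ 2 -
        (1 : F) * (((u : F) + v) / 2, ((v : F) - u) / 2).2 ^ 2 ≠ 0 := by
      show (((u : F) + v) / 2) ^ 2 - 1 * (((v : F) - u) / 2) ^ 2 ≠ 0
      have : (((u : F) + v) / 2) ^ 2 - 1 * (((v : F) - u) / 2) ^ 2 = u * v := by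
        field_simp
        ring
      rw [this]
      exact mul_ne_zero u.ne_zero v.ne_zero
    refine ⟨⟨(((u : F) + v) / 2, ((v : F) - u) / 2), hne⟩, ?_⟩
    apply Prod.ext
    · apply Units.ext
      show ((u : F) + v) / 2 - ((v : F) - u) / 2 = u
      field_simp
      ring
    · apply Units.ext
      show ((u : F) + v) / 2 + ((v : F) - u) / 2 = v
      field_simp
      ring

theorem ocgd6_aniso (hns : ¬ IsSquare (-1 : F)) (x y : F) (h : x ^ 2 - (-1 : F) * y ^ 2 = 0) :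
    x = 0 ∧ y = 0 := by
  have hy : y = 0 := by
    by_contra hy
    apply hns
    refine ⟨x / y, ?_⟩
    field_simp
    linear_combination -h
  subst hy
  refine ⟨?_, rfl⟩
  have : x ^ 2 = 0 := by linear_combination h
  exact pow_eq_zero_iff (two_ne_zero) |>.1 this

theorem ocgd6_nonsplit [Fintype F] (hns : ¬ IsSquare (-1 : F)) :
    Nat.card {p : F × F // p.1 ^ 2 - (-1 : F) * p.2 ^ 2 ≠ 0} = Fintype.card F ^ 2 - 1 := by
  classical
  have hiff : ∀ p : F × F, p.1 ^ 2 - (-1 : F) * p.2 ^ 2 ≠ 0 ↔ p ≠ 0 := by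
    rintro ⟨x, y⟩
    constructor
    · intro h h0
      apply h
      have hx : x = 0 := congrArg Prod.fst h0
      have hy : y = 0 := congrArg Prod.snd h0
      show x ^ 2 - (-1 : F) * y ^ 2 = 0
      rw [hx, hy]
      ring
    · intro h h0
      apply h
      obtain ⟨hx, hy⟩ := ocgd6_aniso hns x y h0
      rw [hx, hy]
      rfl
  rw [Nat.card_congr (Equiv.subtypeEquivRight hiff), Nat.card_eq_fintype_card,
    Fintype.card_subtype_compl, Fintype.card_subtype_eq, Fintype.card_prod, sq]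

/-- D6 [S-M]. -/
theorem card_TorSet [Fintype F] {q : ℕ} (hq : Fintype.card F = q) (h2 : (2 : F) ≠ 0) :
    (IsSquare (-1 : F) → Nat.card (TorSet (1 : F)) = (q - 1) ^ 2) ∧
      (¬ IsSquare (-1 : F) → Nat.card (TorSet (-1 : F)) = q ^ 2 - 1) := by
  subst hq
  refine ⟨fun _ => ?_, fun hns => ?_⟩
  · rw [ocgd6_card, ocgd6_split h2]
  · rw [ocgd6_card, ocgd6_nonsplit hns]

end D

end Cfsg.Agent.Lib.Helper18.OCT
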