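import Mathlib
import Cfsg.Agent.Lib.Helper18.OCT.Defs
import Cfsg.Agent.Lib.Helper29.OCGC4
import Cfsg.Agent.Lib.Helper25.OCGC5
import Cfsg.Agent.Lib.Helper25.OCGC6

/-!
# OCG row P4 (`P0_sq`), core form.

`ocgp4_core`: the statement of P4 with the statements of P1 (`sq_mem_commutator_abs`, at `X = GL₂(F)`, `G = GL₈(F)`),
D4 (`DGrp_sq`) and D5 (`RGrp_sq`) as hypotheses; C4, C5, C6 are cited from main.
-/

set_option autoImplicit false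

namespace Cfsg.Agent.Lib.Helper18.OCT

open Cfsg.Lie Matrix
open scoped MatrixGroups

section P

variable {F : Type*} [Field F]

/-- `RGrp δ` is normalised by `DGrp δ`. -/
theorem ocgp4_norm (δ : F) : ∀ h ∈ DGrp δ, ∀ r ∈ RGrp δ, h * r * h⁻¹ ∈ RGrp δ := by
  intro h hh r hr
  have hr' : r ∈ DGrp δ ∧ r ∈ SLker F := by
    simpa [RGrp, Subgroup.mem_inf] using hr
  have : h * r * h⁻¹ ∈ DGrp δ ∧ h * r * h⁻¹ ∈ SLker F := by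
    refine ⟨(DGrp δ).mul_mem ((DGrp δ).mul_mem hh hr'.1) ((DGrp δ).inv_mem hh), ?_⟩
    have hk : r ∈ (Matrix.GeneralLinearGroup.det : GL (Fin 2) F →* Fˣ).ker := hr'.2
    show h * r * h⁻¹ ∈ (Matrix.GeneralLinearGroup.det : GL (Fin 2) F →* Fˣ).ker
    exact (MonoidHom.normal_ker _).conj_mem r hk h
  simpa [RGrp, Subgroup.mem_inf] using this

/-- P4 core. -/
theorem ocgp4_core
    (hP1 : ∀ (L M : GL (Fin 2) F → GL (Fin 8) F)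
      (_ : ∀ p p', L (p * p') = L p * L p') (_ : ∀ h h', M (h * h') = M h * M h')
      (_ : ∀ h p, M h * L p * (M h)⁻¹ = L (h * p * h⁻¹)) (D R Z : Subgroup (GL (Fin 2) F)) (_ : R ≤ D)
      (_ : ∀ h ∈ D, ∀ r ∈ R, h * r * h⁻¹ ∈ R) (_ : ∀ z ∈ Z, M z = 1)
      (_ : ∀ r ∈ R, r ^ 2 ∈ ⁅R, D⁆) (_ : ∀ h ∈ D, ∃ z ∈ Z, ∃ k ∈ ⁅D, D⁆, h ^ 2 = z * k),
      ∀ x ∈ Subgroup.closure (L '' (R : Set (GL (Fin 2) F)) ∪ M '' (D : Set (GL (Fin 2) F))),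
        x ^ 2 ∈ ⁅Subgroup.closure (L '' (R : Set (GL (Fin 2) F)) ∪ M '' (D : Set (GL (Fin 2) F))),
          Subgroup.closure (L '' (R : Set (GL (Fin 2) F)) ∪ M '' (D : Set (GL (Fin 2) F)))⁆)
    (hD4 : ∀ (δ : F) (h : GL (Fin 2) F), h ∈ DGrp δ → ∃ z ∈ ZGrp F, ∃ k ∈ ⁅DGrp δ, DGrp δ⁆, h ^ 2 = z * k)
    (hD5 : ∀ r : GL (Fin 2) F, r ∈ RGrp (delta F) → r ^ 2 ∈ ⁅RGrp (delta F), DGrp (delta F)⁆)
    (x : GL (Fin 8) F) (hx : x ∈ P0 (delta F)) :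
    x ^ 2 ∈ ⁅P0 (delta F), P0 (delta F)⁆ := by
  have key := hP1 LGL MGL (fun p p' => (LGL_props p p').2.1) (fun h h' => (MGL_props h h').2.1)
    (fun h p => MGL_conj_LGL h p) (DGrp (delta F)) (RGrp (delta F)) (ZGrp F) inf_le_left
    (ocgp4_norm (delta F)) (fun z hz => ((MGL_props z 1).2.2.1).2 hz) hD5 (hD4 (delta F))
  exact key x hx

end P

end Cfsg.Agent.Lib.Helper18.OCT
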