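import Mathlib
import Cfsg.Agent.Lib.Helper18.OCT.Defs

/-!
# OCG row X6 (`card_stab`), core form.

`ocgx6_core`: the statement of X6 with the statements of the rows X4 (`sl3GL_mem`), X4c (`sl3GL_inj`) and X5 (`stab_e1`)
as hypotheses.  The verbatim one-liner `card_stab` is in `OCGX6v.lean` once those rows are on main.
-/

set_option autoImplicit false

namespace Cfsg.Agent.Lib.Helper18.OCT

open Cfsg.Lie Matrix
open scoped MatrixGroups

section X

variable {F : Type*} [Field F]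

/-- X6 core: `A ↦ ⟨⟨sl3GL A, _⟩, _⟩` is a bijection `SL(3,F) → Stab(e1)`. -/
theorem ocgx6_core
    (hmem : ∀ A : Matrix.SpecialLinearGroup (Fin 3) F, sl3GL A ∈ G2 F)
    (hinj : Function.Injective (sl3GL : Matrix.SpecialLinearGroup (Fin 3) F → GL (Fin 8) F))
    (hfix : ∀ A : Matrix.SpecialLinearGroup (Fin 3) F, act (sl3GL A) (e1 : Oct F) = e1)
    (hstab : ∀ g : GL (Fin 8) F, g ∈ G2 F → act g e1 = e1 →
      ∃ A : Matrix.SpecialLinearGroup (Fin 3) F, g = sl3GL A) :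
    Nat.card {g : ↥(G2 F) // act (g : GL (Fin 8) F) e1 = e1} =
      Nat.card (Matrix.SpecialLinearGroup (Fin 3) F) := by
  symm
  refine Nat.card_congr (Equiv.ofBijective
    (fun A => (⟨⟨sl3GL A, hmem A⟩, hfix A⟩ : {g : ↥(G2 F) // act (g : GL (Fin 8) F) e1 = e1})) ⟨?_, ?_⟩)
  · intro A B hAB
    apply hinj
    have h1 := congrArg (fun z : {g : ↥(G2 F) // act (g : GL (Fin 8) F) e1 = e1} =>
      ((z : ↥(G2 F)) : GL (Fin 8) F)) hAB
    exact h1
  · rintro ⟨⟨g, hg⟩, h1⟩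
    obtain ⟨A, hA⟩ := hstab g hg h1
    refine ⟨A, ?_⟩
    apply Subtype.ext
    apply Subtype.ext
    exact hA.symm

end X

end Cfsg.Agent.Lib.Helper18.OCT
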