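import Mathlib
import Cfsg.Agent.Lib.Helper18.OCT.Defs
import Cfsg.Agent.Lib.helper8.OCGX6
import Cfsg.Agent.Lib.Helper20.OCGX4
import Cfsg.Agent.Lib.Helper18.OCGX5

/-!
# OCG row X6 (`card_stab`), verbatim.
-/

set_option autoImplicit false

namespace Cfsg.Agent.Lib.Helper18.OCT

open Cfsg.Lie Matrix
open scoped MatrixGroups

section X

variable {F : Type*} [Field F]

/-- X6 [S-M]. `A ↦ ⟨⟨sl3GL A, _⟩, _⟩` is a bijection (X4, X4c, X5). -/
theorem card_stab [Finite F] :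
    Nat.card {g : ↥(G2 F) // act (g : GL (Fin 8) F) e1 = e1} =
      Nat.card (Matrix.SpecialLinearGroup (Fin 3) F) :=
  ocgx6_core (fun A => (sl3GL_mem A).1) sl3GL_inj.1 sl3GL_inj.2 stab_e1

end X

end Cfsg.Agent.Lib.Helper18.OCT
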