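import Mathlib
import Cfsg.Prelude.Def_GeometricClasses
import Cfsg.Agent.Lib.Helper27.ASC.Defs
import Cfsg.Agent.Lib.Lead.ASCU.Defs
import Cfsg.Agent.Lib.helper2.UXDefs
import Cfsg.Agent.Lib.Helper21.ASCUUPR1

/-! Project UX, piece NSC : `SU_n(q)`, `n ≥ 2`, is not contained in the scalars
(the diagonal element `diag(ζ, ζ⁻¹, 1, …, 1)`, `ζ ^ (q + 1) = 1`, `ζ ^ 2 ≠ 1`). -/

set_option autoImplicit false
set_option linter.unusedVariables false
set_option linter.unusedSectionVars false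

namespace Cfsg.Agent.Lib.helper2.UX

open Cfsg Cfsg.Geo Cfsg.Agent.Lib.Helper27.ASC Cfsg.Agent.Lib.Lead.ASCU
open scoped MatrixGroups Matrix

variable {n : ℕ} {F : Type*} [Field F] [Fintype F]

/-- an element of norm one whose square is not one -/
theorem uxnsc_zeta (q : ℕ) (hF : Fintype.card F = q ^ 2) :
    ∃ ζ : F, ζ ≠ 0 ∧ ζ ^ 2 ≠ 1 ∧ ζ ^ (q + 1) = 1 := by
  classical
  have hq2 := Cfsg.Agent.Lib.Helper28.UHerm.two_le_q hF
  obtain ⟨g, hg⟩ := IsCyclic.exists_generator (α := Fˣ)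
  have hord : orderOf g = q ^ 2 - 1 := by
    rw [orderOf_eq_card_of_forall_mem_zpowers hg, Nat.card_eq_fintype_card, Fintype.card_units, hF]
  have hmul : (q - 1) * (q + 1) = q ^ 2 - 1 := by
    obtain ⟨m, rfl⟩ : ∃ m, q = m + 1 := ⟨q - 1, by omega⟩
    have : (m + 1) ^ 2 = (m + 1 - 1) * (m + 1 + 1) + 1 := by
      simp only [Nat.add_sub_cancel]; ring
    omega
  refine ⟨((g ^ (q - 1) : Fˣ) : F), Units.ne_zero _, ?_, ?_⟩
  · intro h
    have h2 : (g ^ (q - 1)) ^ 2 = 1 := Units.ext (by simpa using h)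
    rw [← pow_mul] at h2
    have h3 := orderOf_dvd_of_pow_eq_one h2
    rw [hord, ← hmul] at h3
    have hpos : 0 < (q - 1) * 2 := by omega
    have h4 := Nat.le_of_dvd hpos h3
    have h5 : (q - 1) * 3 ≤ (q - 1) * (q + 1) := Nat.mul_le_mul_left _ (by omega)
    omega
  · rw [← Units.val_pow_eq_pow_val, ← pow_mul, hmul, ← hord, pow_orderOf_eq_one]
    rfl

/-- NSC : `SU_n(q)`, `n ≥ 2`, is not contained in the scalars. -/
theorem su_not_scalar (q : ℕ) (hF : Fintype.card F = q ^ 2) (hn : 2 ≤ n) :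
    ¬ SUg n F q ≤ scalars (Fin n) F := by
  classical
  intro hle
  obtain ⟨ζ, hζ0, hζ2, hζ⟩ := uxnsc_zeta q hF
  set i0 : Fin n := ⟨0, by omega⟩ with hi0
  set i1 : Fin n := ⟨1, by omega⟩ with hi1
  have h01 : i0 ≠ i1 := by
    intro h
    have := congrArg Fin.val h
    simp [hi0, hi1] at this
  set d : Fin n → F := fun x => if x = i0 then ζ else if x = i1 then ζ⁻¹ else 1 with hd
  have hd0 : d i0 = ζ := by simp [hd]
  have hd1 : d i1 = ζ⁻¹ := by simp [hd, h01.symm]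
  have hζinv : ζ⁻¹ ^ (q + 1) = 1 := by rw [inv_pow, hζ, inv_one]
  have hdn : ∀ x, d x ^ (q + 1) = 1 := by
    intro x
    simp only [hd]
    split_ifs
    · exact hζ
    · exact hζinv
    · exact one_pow _
  have hprod : ∏ x, d x = 1 := by
    rw [Finset.prod_eq_mul i0 i1 h01 (fun c _ hc => by simp [hd, hc.1, hc.2])
      (fun h => absurd (Finset.mem_univ _) h) (fun h => absurd (Finset.mem_univ _) h), hd0, hd1,
      mul_inv_cancel₀ hζ0]
  obtain ⟨g, hg, hgd⟩ := ascuupr1_diag_mem (n := n) (F := F) q d hdn hprod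
  obtain ⟨c, hc⟩ := (mem_scalars_iff g).1 (hle hg)
  rw [hgd] at hc
  have e0 := congrFun (congrFun hc i0) i0
  have e1 := congrFun (congrFun hc i1) i1
  simp only [Matrix.diagonal_apply_eq, Matrix.smul_apply, Matrix.one_apply_eq, smul_eq_mul, mul_one,
    hd0, hd1] at e0 e1
  apply hζ2
  have : ζ = ζ⁻¹ := e0.trans e1.symm
  calc ζ ^ 2 = ζ * ζ := sq ζ
    _ = ζ * ζ⁻¹ := by rw [← this]
    _ = 1 := mul_inv_cancel₀ hζ0

end Cfsg.Agent.Lib.helper2.UX
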