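import Mathlib
import Cfsg.Agent.Lib.Helper21.BSQ.Defs

/-!
# Project BSQ (designer helper21), row B3 `cent_N_of_cyclic` (helper8), verbatim.
-/

set_option autoImplicit false

namespace Cfsg.Agent.Lib.Helper21.BSQ

universe u

variable {G : Type u} [Group G]

/-- an element of order dividing `p` in a cyclic `p`-group of order `≠ p`, divisible by `p`, is a `p`-th power -/
theorem bsqb3_pow {H : Type*} [Group H] [Finite H] (p : ℕ) [Fact p.Prime] (hcyc : IsCyclic H)
    (hp : IsPGroup p H) (hdvd : p ∣ Nat.card H) (hne : Nat.card H ≠ p) (n : H) (hn : n ^ p = 1) :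
    ∃ x : H, x ^ p = n := by
  have hpp : p.Prime := Fact.out
  obtain ⟨g, hg⟩ := hcyc.exists_monoid_generator
  have hord : orderOf g = Nat.card H := by
    apply orderOf_eq_card_of_forall_mem_zpowers
    intro y
    obtain ⟨k, hk⟩ := hg y
    exact ⟨(k : ℤ), by simpa using hk⟩
  obtain ⟨m, hm⟩ := hp.exists_card_eq
  have hm2 : 2 ≤ m := by
    rcases m with _ | _ | m
    · rw [hm, pow_zero] at hdvd
      exact absurd (Nat.le_of_dvd one_pos hdvd) (not_le.mpr hpp.one_lt)
    · rw [hm, pow_one] at hne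
      exact absurd rfl hne
    · omega
  obtain ⟨k, hk⟩ := hg n
  have hk' : g ^ k = n := hk
  have h1 : g ^ (k * p) = 1 := by rw [pow_mul, hk', hn]
  have h2 : p ^ m ∣ k * p := by
    rw [← hm, ← hord]
    exact orderOf_dvd_of_pow_eq_one h1
  have h3 : p ∣ k := by
    obtain ⟨m', rfl⟩ : ∃ m', m = m' + 2 := ⟨m - 2, by omega⟩
    have h4 : p ^ 2 ∣ k * p := dvd_trans (pow_dvd_pow p (by omega)) h2
    rw [sq] at h4
    exact Nat.dvd_of_mul_dvd_mul_right hpp.pos h4
  obtain ⟨k', rfl⟩ := h3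
  exact ⟨g ^ k', by rw [← pow_mul, mul_comm k' p]; exact hk'⟩

/-- B3 [M]. `S` cyclic of order `p ^ (k + 1)`, `k ≥ 1` (`N ≠ S`); every `n ∈ N` is `x ^ p` with `x ∈ S` (the subgroup of
`p`-th powers has index `p` and contains every proper subgroup; or `n = s ^ (p ^ k * j)` for a generator `s`); then
`h n h⁻¹ = (h x h⁻¹) ^ p = (c x) ^ p = c ^ p x ^ p = n` as `c ∈ N` commutes with `x` and `c ^ p = 1`. -/
theorem cent_N_of_cyclic [Finite G] (p : ℕ) [Fact p.Prime] (N S : Subgroup G)
    (hN : Nat.card ↥N = p) (hNS : N ≤ S) (hne : N ≠ S) (hS : IsCyclic ↥S) (hSp : IsPGroup p ↥S)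
    (h : G) (hc : ∀ s ∈ S, h * s * h⁻¹ * s⁻¹ ∈ N) : ∀ n ∈ N, h * n = n * h := by
  intro n hn
  have hNp : ∀ c ∈ N, c ^ p = 1 := by
    intro c hcN
    have := pow_card_eq_one' (G := ↥N) (x := ⟨c, hcN⟩)
    rw [hN] at this
    have h2 := congrArg Subtype.val this
    simpa using h2
  have hdvd : p ∣ Nat.card ↥S := by
    rw [← hN]
    exact Subgroup.card_dvd_of_le hNS
  have hneS : Nat.card ↥S ≠ p := by
    intro hcard
    apply hne
    exact Subgroup.eq_of_le_of_card_ge hNS (by rw [hN, hcard])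
  obtain ⟨x, hx⟩ := bsqb3_pow p hS hSp hdvd hneS ⟨n, hNS hn⟩
    (by apply Subtype.ext; simpa using hNp n hn)
  have hxn : (x : G) ^ p = n := by
    have := congrArg Subtype.val hx
    simpa using this
  set c : G := h * (x : G) * h⁻¹ * (x : G)⁻¹ with hcdef
  have hcN : c ∈ N := hc x x.2
  have hcx : Commute c (x : G) := by
    have hcomm : ∀ a b : ↥S, a * b = b * a := by
      intro a b
      have := hS
      exact IsCyclic.commGroup.mul_comm a b
    have := hcomm ⟨c, hNS hcN⟩ x
    have h2 : c * (x : G) = (x : G) * c := by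
      have h3 := congrArg Subtype.val this
      simpa using h3
    exact h2
  have hconj : h * (x : G) * h⁻¹ = c * (x : G) := by
    rw [hcdef]; group
  have hpow : h * n * h⁻¹ = n := by
    rw [← hxn]
    have : h * (x : G) ^ p * h⁻¹ = (h * (x : G) * h⁻¹) ^ p := by
      rw [conj_pow]
    rw [this, hconj, hcx.mul_pow, hNp c hcN, one_mul]
  calc h * n = (h * n * h⁻¹) * h := by group
    _ = n * h := by rw [hpow]

end Cfsg.Agent.Lib.Helper21.BSQ
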