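import Mathlib
import Cfsg.Prelude.Def_Steinberg
import Cfsg.Agent.Lib.helper8.ChevSt27
import Cfsg.Agent.Lib.helper8.ChevSt28

set_option autoImplicit false
set_option linter.unusedSectionVars false

namespace Cfsg.Agent.Lib.helper8

open Cfsg.Lie Cfsg.Lie.ChevalleyDatum

universe u

variable {K : Type u} [Field K]

theorem h8stTheta_ker (D : ChevalleyDatum)
    (hD : D ∈ [chevG2, chevB2, chevD4, chevF4, chevE6, chevE7, chevE8]) :
    (h8stTheta (K := K) D (h8base_all.{u} D hD) (h8commAll.{u} D hD)).ker =
      Subgroup.center (D.SteinbergGroup K) := by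
  have hB := h8base_all.{u} D hD
  have hC := h8commAll.{u} D hD
  apply le_antisymm
  · exact (h8st_ker_le_diag D hD _ (fun r t _ => h8stTheta_gen D hB hC r t)).2
  · intro z hz
    rw [MonoidHom.mem_ker]
    have : h8stTheta D hB hC z ∈ Subgroup.center ↥(D.group K) := by
      rw [Subgroup.mem_center_iff]
      intro g
      obtain ⟨y, rfl⟩ := h8stTheta_surj D hB hC g
      rw [← map_mul, ← map_mul, Subgroup.mem_center_iff.mp hz y]
    rw [h8group_center D hD] at this
    exact this

/-- the Steinberg group is a central extension of the Chevalley group by its centre -/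
theorem h8st_main (D : ChevalleyDatum)
    (hD : D ∈ [chevG2, chevB2, chevD4, chevF4, chevE6, chevE7, chevE8]) :
    ∃ θ : D.SteinbergGroup K →* ↥(D.group K), Function.Surjective θ ∧
      θ.ker = Subgroup.center (D.SteinbergGroup K) ∧
      ∀ (r : ℕ) (t : K), r < D.nroots →
        ((θ (D.stGen K r t) : GL D.Idx K) : Matrix D.Idx D.Idx K) = D.x K r t := by
  have hB := h8base_all.{u} D hD
  have hC := h8commAll.{u} D hD
  exact ⟨h8stTheta D hB hC, h8stTheta_surj D hB hC, h8stTheta_ker D hD,
    fun r t _ => h8stTheta_gen D hB hC r t⟩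

end Cfsg.Agent.Lib.helper8
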