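import Mathlib
import Cfsg.Prelude.Def_Steinberg
import Cfsg.Agent.Lib.helper8.ChevSt29
import Cfsg.Agent.Lib.helper8.ChevSt30

set_option autoImplicit false
set_option linter.unusedSectionVars false

namespace Cfsg.Agent.Lib.helper8

open Cfsg.Lie Cfsg.Lie.ChevalleyDatum

universe u v

variable {K : Type u} [Field K]

theorem h8unimod (n : ℕ) (A B : ℕ → ℕ → ℤ)
    (hAB : ∀ i < n, ∀ k < n, ∑ j ∈ Finset.range n, A i j * B j k = if i = k then 1 else 0)
    (c : ℕ → K) (hc : ∀ i, c i ≠ 0) (h : ∀ j < n, ∏ i ∈ Finset.range n, c i ^ A i j = 1) :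
    ∀ k < n, c k = 1 := by
  intro k hk
  have e1 : c k = ∏ i ∈ Finset.range n, c i ^ (if i = k then (1 : ℤ) else 0) := by
    rw [Finset.prod_eq_single k]
    · rw [if_pos rfl, zpow_one]
    · intro i _ hik
      rw [if_neg hik, zpow_zero]
    · intro hk'
      exact absurd (Finset.mem_range.mpr hk) hk'
  rw [e1]
  have e2 : ∏ i ∈ Finset.range n, c i ^ (if i = k then (1 : ℤ) else 0) =
      ∏ i ∈ Finset.range n, ∏ j ∈ Finset.range n, (c i ^ A i j) ^ B j k := by
    apply Finset.prod_congr rfl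
    intro i hi
    rw [← hAB i (Finset.mem_range.mp hi) k hk, h8zpow_sum_range (c i) (hc i)]
    apply Finset.prod_congr rfl
    intro j _
    rw [zpow_mul]
  rw [e2, Finset.prod_comm]
  apply Finset.prod_eq_one
  intro j hj
  rw [Finset.prod_zpow, h j (Finset.mem_range.mp hj), one_zpow]

/-- `B` is inverse to the Cartan matrix -/
def h8uniChk (D : ChevalleyDatum) (B : List (List ℤ)) : Bool :=
  (List.range D.rank).all fun i => (List.range D.rank).all fun k =>
    decide ((∑ j ∈ Finset.range D.rank, D.cartan i (D.simple j) * ((B.getD j []).getD k 0)) =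
      if i = k then 1 else 0)

theorem h8uniChk_spec (D : ChevalleyDatum) (B : List (List ℤ)) (h : h8uniChk D B = true) :
    ∀ i < D.rank, ∀ k < D.rank,
      ∑ j ∈ Finset.range D.rank, D.cartan i (D.simple j) * ((B.getD j []).getD k 0) =
        if i = k then 1 else 0 := by
  intro i hi k hk
  unfold h8uniChk at h
  simp only [List.all_eq_true, List.mem_range, decide_eq_true_eq] at h
  exact h i hi k hk

theorem h8uni_G2 : h8uniChk chevG2 [[2, 3], [1, 2]] = true := by decide +kernel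

theorem h8uni_F4 :
    h8uniChk chevF4 [[2, 3, 4, 2], [3, 6, 8, 4], [2, 4, 6, 3], [1, 2, 3, 2]] = true := by
  decide +kernel

theorem h8uni_E8 :
    h8uniChk chevE8 [[4, 5, 7, 10, 8, 6, 4, 2], [5, 8, 10, 15, 12, 9, 6, 3],
      [7, 10, 14, 20, 16, 12, 8, 4], [10, 15, 20, 30, 24, 18, 12, 6],
      [8, 12, 16, 24, 20, 15, 10, 5], [6, 9, 12, 18, 15, 12, 8, 4], [4, 6, 8, 12, 10, 8, 6, 3],
      [2, 3, 4, 6, 5, 4, 3, 2]] = true := by
  decide +kernel

theorem h8uni_all (D : ChevalleyDatum) (hD : D ∈ [chevG2, chevF4, chevE8]) :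
    ∃ B : List (List ℤ), h8uniChk D B = true := by
  simp only [List.mem_cons, List.mem_nil_iff, or_false] at hD
  rcases hD with rfl | rfl | rfl
  · exact ⟨_, h8uni_G2⟩
  · exact ⟨_, h8uni_F4⟩
  · exact ⟨_, h8uni_E8⟩

section
variable {Γ : Type v} [Group Γ] {D : ChevalleyDatum} {X : ℕ → K → Γ}
variable {hB : H8Base.{u} D} {π : Γ →* GL D.Idx K} (hP : H8Pair D hB X π 1)
  (hL : H8All D) (hWS : H8W0S D) (hN2 : H8N2 D) (hCr : H8RelC D X)
include hP hL hWS hN2 hCr

/-- for a unimodular Cartan matrix the abstract torus maps injectively -/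
theorem h8pair_HS_ker_trivial (hsc : h8scChk D = true) (Bm : List (List ℤ))
    (hchk : h8uniChk D Bm = true) (z : Γ) (hz : z ∈ Subgroup.closure (h8HS D X))
    (h1 : π z = 1) : z = 1 := by
  obtain ⟨c, hc, rfl⟩ := h8pair_HS_eq_TorS hP hL hWS hN2 hCr z hz
  rw [h8pair_TorS_im hP hL] at h1
  have hval := h8Tor_val D hB hsc c (fun i _ => hc i)
  rw [h1, Units.val_one] at hval
  have hphi : ∀ v (hv : v < D.nroots), ∏ i ∈ Finset.range D.rank, c i ^ D.cartan i v = 1 := by
    intro v hv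
    have := congrFun (congrFun hval (Sum.inr ⟨v, hv⟩)) (Sum.inr ⟨v, hv⟩)
    rw [Matrix.one_apply_eq, Matrix.diagonal_apply_eq] at this
    exact this.symm
  have hc1 := h8unimod D.rank (fun i j => D.cartan i (D.simple j))
    (fun j k => (Bm.getD j []).getD k 0) (h8uniChk_spec D Bm hchk) c hc
    (fun j hj => hphi (D.simple j) (h8simple_pos D hL.hBN j hj).1)
  rw [← h8TorS_one hL hCr]
  exact h8TorS_congr _ _ hc1

end

theorem h8stg_relC (D : ChevalleyDatum) : H8RelC D (D.stGen K) := by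
  intro r hr t u ht hu
  have h : D.stH r t * D.stH r u * (D.stH r (t * u))⁻¹ ∈ D.steinbergRels K :=
    Or.inr ⟨r, t, u, hr, ht, hu, rfl⟩
  have h1 := PresentedGroup.one_of_mem h
  rw [map_mul, map_mul, map_inv, mul_inv_eq_one] at h1
  rw [h8stg_hS, h8stg_hS, h8stg_hS]
  exact h1

/-- for the types with unimodular Cartan matrix the Steinberg group has trivial centre -/
theorem h8st_center_trivial (D : ChevalleyDatum) (hD : D ∈ [chevG2, chevF4, chevE8]) :
    Subgroup.center (D.SteinbergGroup K) = ⊥ := by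
  have hD' : D ∈ [chevG2, chevB2, chevD4, chevF4, chevE6, chevE7, chevE8] := by
    simp only [List.mem_cons, List.mem_nil_iff, or_false] at hD ⊢
    rcases hD with rfl | rfl | rfl <;> simp
  obtain ⟨Bm, hBm⟩ := h8uni_all D hD
  have hB := h8base_all.{u} D hD'
  have hC := h8commAll.{u} D hD'
  have hL := h8all_all D hD'
  have hWS := h8w0s_all D hD'
  have hN2 := h8n2_all D hD'
  have hgen : ∀ (r : ℕ) (t : K), r < D.nroots →
      ((h8stTheta D hB hC (D.stGen K r t) : GL D.Idx K) : Matrix D.Idx D.Idx K) = D.x K r t :=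
    fun r t _ => h8stTheta_gen D hB hC r t
  have hP := h8stg_pair D hB (h8stTheta D hB hC) hgen
  rw [← h8stTheta_ker D hD', eq_bot_iff]
  intro z hz
  rw [Subgroup.mem_bot]
  have hzT := (h8st_ker_le_diag D hD' _ hgen).1 hz
  rw [← h8stg_HS] at hzT
  have h1 : ((D.group K).subtype.comp (h8stTheta D hB hC)) z = 1 := by
    rw [MonoidHom.mem_ker] at hz
    rw [MonoidHom.comp_apply, hz, map_one]
  exact h8pair_HS_ker_trivial hP hL hWS hN2 (h8stg_relC D) (h8scChk_all D hD') Bm hBm z hzT h1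

end Cfsg.Agent.Lib.helper8
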