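import Mathlib

set_option autoImplicit false

namespace Cfsg.Agent.Lib.helper8

variable {K : Type*} [Field K] {Γ : Type*} [Group Γ]

/-- `w(t) = x(t) y(-t⁻¹) x(t)` -/
def h8r1w (x y : K → Γ) (t : K) : Γ := x t * y (-t⁻¹) * x t

/-- `h(t) = w(t) w(-1)` -/
def h8r1h (x y : K → Γ) (t : K) : Γ := h8r1w x y t * h8r1w x y (-1)

/-- Steinberg's cocycle `f(t,u) = h(t) h(u) h(tu)⁻¹` -/
def h8r1f (x y : K → Γ) (t u : K) : Γ := h8r1h x y t * h8r1h x y u * (h8r1h x y (t * u))⁻¹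

/-- a pair of opposite root subgroups with the rank-one relations (A), (B') and central cocycle -/
structure H8R1 (x y : K → Γ) : Prop where
  x_add : ∀ s t, x s * x t = x (s + t)
  y_add : ∀ s t, y s * y t = y (s + t)
  conj : ∀ t u, t ≠ 0 → h8r1w x y t * x u * (h8r1w x y t)⁻¹ = y (-(t⁻¹ ^ 2 * u))
  cent : ∀ t u, t ≠ 0 → u ≠ 0 → ∀ g : Γ, g * h8r1f x y t u = h8r1f x y t u * g

namespace H8R1

variable {x y : K → Γ} (S : H8R1 x y)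
include S

theorem x_zero : x 0 = 1 := by
  have := S.x_add 0 0
  rw [add_zero] at this
  exact mul_eq_left.mp this

theorem y_zero : y 0 = 1 := by
  have := S.y_add 0 0
  rw [add_zero] at this
  exact mul_eq_left.mp this

theorem x_inv (t : K) : (x t)⁻¹ = x (-t) := by
  rw [inv_eq_iff_mul_eq_one, S.x_add, add_neg_cancel, S.x_zero]

theorem y_inv (t : K) : (y t)⁻¹ = y (-t) := by
  rw [inv_eq_iff_mul_eq_one, S.y_add, add_neg_cancel, S.y_zero]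

theorem w_inv (t : K) : (h8r1w x y t)⁻¹ = h8r1w x y (-t) := by
  unfold h8r1w
  rw [mul_inv_rev, mul_inv_rev, S.x_inv, S.y_inv, inv_neg, neg_neg, mul_assoc]

theorem conj_y (t u : K) (ht : t ≠ 0) :
    h8r1w x y t * y u * (h8r1w x y t)⁻¹ = x (-(t ^ 2 * u)) := by
  have h := S.conj (-t) (-(t ^ 2 * u)) (neg_ne_zero.mpr ht)
  have e : -((-t)⁻¹ ^ 2 * -(t ^ 2 * u)) = u := by
    field_simp
  rw [e, ← S.w_inv t, inv_inv] at h
  rw [← h]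
  group

theorem w_eq' (t : K) (ht : t ≠ 0) : h8r1w x y t = y (-t⁻¹) * x t * y (-t⁻¹) := by
  have e : h8r1w x y t = (h8r1w x y t * x t * (h8r1w x y t)⁻¹) *
      (h8r1w x y t * y (-t⁻¹) * (h8r1w x y t)⁻¹) * (h8r1w x y t * x t * (h8r1w x y t)⁻¹) := by
    have : (h8r1w x y t * x t * (h8r1w x y t)⁻¹) *
      (h8r1w x y t * y (-t⁻¹) * (h8r1w x y t)⁻¹) * (h8r1w x y t * x t * (h8r1w x y t)⁻¹) =
      h8r1w x y t * (x t * y (-t⁻¹) * x t) * (h8r1w x y t)⁻¹ := by group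
    rw [this]
    show h8r1w x y t = h8r1w x y t * h8r1w x y t * (h8r1w x y t)⁻¹
    group
  rw [S.conj t t ht, S.conj_y t (-t⁻¹) ht] at e
  have e1 : -(t⁻¹ ^ 2 * t) = -t⁻¹ := by field_simp
  have e2 : -(t ^ 2 * -t⁻¹) = t := by field_simp
  rw [e1, e2] at e
  exact e

theorem h_x (t u : K) (ht : t ≠ 0) :
    h8r1h x y t * x u * (h8r1h x y t)⁻¹ = x (t ^ 2 * u) := by
  unfold h8r1h
  have e : h8r1w x y t * h8r1w x y (-1) * x u * (h8r1w x y t * h8r1w x y (-1))⁻¹ =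
      h8r1w x y t * (h8r1w x y (-1) * x u * (h8r1w x y (-1))⁻¹) * (h8r1w x y t)⁻¹ := by group
  rw [e, S.conj (-1) u (neg_ne_zero.mpr one_ne_zero), S.conj_y t _ ht]
  congr 1
  field_simp

theorem h_y (t u : K) (ht : t ≠ 0) :
    h8r1h x y t * y u * (h8r1h x y t)⁻¹ = y (t⁻¹ ^ 2 * u) := by
  unfold h8r1h
  have e : h8r1w x y t * h8r1w x y (-1) * y u * (h8r1w x y t * h8r1w x y (-1))⁻¹ =
      h8r1w x y t * (h8r1w x y (-1) * y u * (h8r1w x y (-1))⁻¹) * (h8r1w x y t)⁻¹ := by group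
  rw [e, S.conj_y (-1) u (neg_ne_zero.mpr one_ne_zero), S.conj t _ ht]
  congr 1
  field_simp

theorem h_w (t u : K) (ht : t ≠ 0) :
    h8r1h x y t * h8r1w x y u * (h8r1h x y t)⁻¹ = h8r1w x y (t ^ 2 * u) := by
  have e : h8r1h x y t * h8r1w x y u * (h8r1h x y t)⁻¹ =
      (h8r1h x y t * x u * (h8r1h x y t)⁻¹) * (h8r1h x y t * y (-u⁻¹) * (h8r1h x y t)⁻¹) *
      (h8r1h x y t * x u * (h8r1h x y t)⁻¹) := by
    unfold h8r1w; group
  rw [e, S.h_x t u ht, S.h_y t _ ht]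
  unfold h8r1w
  congr 2
  field_simp

theorem h_one : h8r1h x y 1 = 1 := by
  unfold h8r1h
  rw [← S.w_inv 1, mul_inv_cancel]

theorem h_eq (t u : K) :
    h8r1h x y t * (h8r1h x y u)⁻¹ = h8r1w x y t * h8r1w x y (-u) := by
  unfold h8r1h
  rw [← S.w_inv u]
  group

theorem h_h (t u : K) (ht : t ≠ 0) :
    h8r1h x y t * h8r1h x y u * (h8r1h x y t)⁻¹ =
      h8r1h x y (t ^ 2 * u) * (h8r1h x y (t ^ 2))⁻¹ := by
  have e : h8r1h x y t * h8r1h x y u * (h8r1h x y t)⁻¹ =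
      (h8r1h x y t * h8r1w x y u * (h8r1h x y t)⁻¹) *
      (h8r1h x y t * h8r1w x y (-1) * (h8r1h x y t)⁻¹) := by
    have : h8r1h x y u = h8r1w x y u * h8r1w x y (-1) := rfl
    rw [this]; group
  rw [e, S.h_w t u ht, S.h_w t (-1) ht, S.h_eq, mul_neg, mul_one]

theorem w1_w (t : K) (ht : t ≠ 0) :
    h8r1w x y 1 * h8r1w x y t * (h8r1w x y 1)⁻¹ = h8r1w x y t⁻¹ := by
  have e : h8r1w x y 1 * h8r1w x y t * (h8r1w x y 1)⁻¹ =
      (h8r1w x y 1 * x t * (h8r1w x y 1)⁻¹) * (h8r1w x y 1 * y (-t⁻¹) * (h8r1w x y 1)⁻¹) *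
      (h8r1w x y 1 * x t * (h8r1w x y 1)⁻¹) := by
    have : h8r1w x y t = x t * y (-t⁻¹) * x t := rfl
    rw [this]; group
  rw [e, S.conj 1 t one_ne_zero, S.conj_y 1 _ one_ne_zero, S.w_eq' t⁻¹ (inv_ne_zero ht)]
  have e1 : -((1 : K)⁻¹ ^ 2 * t) = -t⁻¹⁻¹ := by rw [inv_inv]; simp
  have e2 : -((1 : K) ^ 2 * -t⁻¹) = t⁻¹ := by simp
  rw [e1, e2]

theorem w1_h (t : K) (ht : t ≠ 0) :
    h8r1w x y 1 * h8r1h x y t * (h8r1w x y 1)⁻¹ = h8r1h x y t⁻¹ := by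
  have e : h8r1w x y 1 * h8r1h x y t * (h8r1w x y 1)⁻¹ =
      (h8r1w x y 1 * h8r1w x y t * (h8r1w x y 1)⁻¹) *
      (h8r1w x y 1 * h8r1w x y (-1) * (h8r1w x y 1)⁻¹) := by
    have : h8r1h x y t = h8r1w x y t * h8r1w x y (-1) := rfl
    rw [this]; group
  rw [e, S.w1_w t ht, S.w1_w (-1) (neg_ne_zero.mpr one_ne_zero)]
  have : (-1 : K)⁻¹ = -1 := by norm_num
  rw [this]
  rfl

theorem f_one_right (t : K) : h8r1f x y t 1 = 1 := by
  unfold h8r1f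
  rw [S.h_one, mul_one, mul_one, mul_inv_cancel]

theorem f_one_left (u : K) : h8r1f x y 1 u = 1 := by
  unfold h8r1f
  rw [S.h_one, one_mul, one_mul, mul_inv_cancel]

theorem f_inv (t u : K) (ht : t ≠ 0) (hu : u ≠ 0) : h8r1f x y t⁻¹ u⁻¹ = h8r1f x y t u := by
  have h1 : h8r1w x y 1 * h8r1f x y t u * (h8r1w x y 1)⁻¹ = h8r1f x y t u := by
    rw [S.cent t u ht hu, mul_inv_cancel_right]
  have h2 : h8r1w x y 1 * h8r1f x y t u * (h8r1w x y 1)⁻¹ =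
      (h8r1w x y 1 * h8r1h x y t * (h8r1w x y 1)⁻¹) *
      (h8r1w x y 1 * h8r1h x y u * (h8r1w x y 1)⁻¹) *
      (h8r1w x y 1 * h8r1h x y (t * u) * (h8r1w x y 1)⁻¹)⁻¹ := by
    unfold h8r1f; group
  rw [h2, S.w1_h t ht, S.w1_h u hu, S.w1_h (t * u) (mul_ne_zero ht hu), mul_inv] at h1
  exact h1

end H8R1

end Cfsg.Agent.Lib.helper8
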