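import Mathlib
import Cfsg.Agent.Lib.helper8.ChevSt32

set_option autoImplicit false

namespace Cfsg.Agent.Lib.helper8

variable {K : Type*} [Field K] {Γ : Type*} [Group Γ]

namespace H8R1

variable {x y : K → Γ} (S : H8R1 x y)
include S

theorem y_eq (b : K) : y b = x b⁻¹ * h8r1w x y (-b⁻¹) * x b⁻¹ := by
  unfold h8r1w
  have e : -(-b⁻¹)⁻¹ = b := by
    rw [inv_neg, inv_inv, neg_neg]
  rw [e, ← S.x_inv]
  group

theorem x_eq (a : K) (ha : a ≠ 0) : x a = y a⁻¹ * h8r1w x y a * y a⁻¹ := by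
  rw [S.w_eq' a ha, ← S.y_inv]
  group

/-- the two big-cell decompositions of `x(a) y(b)` agree -/
theorem id4 (a b : K) (ha : a ≠ 0) (hb : b ≠ 0) (hp : 1 + a * b ≠ 0) :
    h8r1w x y (a + b⁻¹) * h8r1w x y (-b⁻¹) =
      h8r1w x y a * h8r1w x y (-(a⁻¹ + b)⁻¹) := by
  have hc : a + b⁻¹ ≠ 0 := by
    intro h
    apply hp
    have : (a + b⁻¹) * b = 0 := by rw [h, zero_mul]
    rw [add_mul, inv_mul_cancel₀ hb] at this
    rw [add_comm]; exact this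
  have hd : a⁻¹ + b ≠ 0 := by
    intro h
    apply hp
    have : a * (a⁻¹ + b) = 0 := by rw [h, mul_zero]
    rw [mul_add, mul_inv_cancel₀ ha] at this
    exact this
  -- first decomposition
  have D1 : x a * y b = y (a + b⁻¹)⁻¹ * (h8r1w x y (a + b⁻¹) * h8r1w x y (-b⁻¹)) *
      (x (-(b⁻¹ ^ 2 * (a + b⁻¹)⁻¹)) * x b⁻¹) := by
    have e1 : h8r1w x y (-b⁻¹) * (h8r1w x y b⁻¹ * y (a + b⁻¹)⁻¹ * (h8r1w x y b⁻¹)⁻¹) =
        y (a + b⁻¹)⁻¹ * h8r1w x y (-b⁻¹) := by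
      rw [S.w_inv b⁻¹]
      have : h8r1w x y (-b⁻¹) * h8r1w x y b⁻¹ = 1 := by
        rw [← S.w_inv b⁻¹, inv_mul_cancel]
      calc h8r1w x y (-b⁻¹) * (h8r1w x y b⁻¹ * y (a + b⁻¹)⁻¹ * h8r1w x y (-b⁻¹))
          = (h8r1w x y (-b⁻¹) * h8r1w x y b⁻¹) * y (a + b⁻¹)⁻¹ * h8r1w x y (-b⁻¹) := by
            simp only [mul_assoc]
        _ = _ := by rw [this, one_mul]
    rw [S.conj_y b⁻¹ _ (inv_ne_zero hb)] at e1
    calc x a * y b = x a * (x b⁻¹ * h8r1w x y (-b⁻¹) * x b⁻¹) := by rw [← S.y_eq b]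
      _ = x (a + b⁻¹) * h8r1w x y (-b⁻¹) * x b⁻¹ := by
        rw [← S.x_add a b⁻¹]; simp only [mul_assoc]
      _ = y (a + b⁻¹)⁻¹ * h8r1w x y (a + b⁻¹) * (y (a + b⁻¹)⁻¹ * h8r1w x y (-b⁻¹)) * x b⁻¹ := by
        rw [S.x_eq (a + b⁻¹) hc]; simp only [mul_assoc]
      _ = _ := by rw [← e1]; simp only [mul_assoc]
  -- second decomposition
  have D2 : x a * y b = (y a⁻¹ * y (-(a⁻¹ ^ 2 * (a⁻¹ + b)⁻¹))) *
      (h8r1w x y a * h8r1w x y (-(a⁻¹ + b)⁻¹)) * x (a⁻¹ + b)⁻¹ := by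
    have e2 := S.conj a (a⁻¹ + b)⁻¹ ha
    calc x a * y b = y a⁻¹ * h8r1w x y a * (y a⁻¹ * y b) := by
          rw [S.x_eq a ha]; simp only [mul_assoc]
      _ = y a⁻¹ * h8r1w x y a * (x (a⁻¹ + b)⁻¹ * h8r1w x y (-(a⁻¹ + b)⁻¹) * x (a⁻¹ + b)⁻¹) := by
          rw [S.y_add, ← S.y_eq _]
      _ = y a⁻¹ * (h8r1w x y a * x (a⁻¹ + b)⁻¹ * (h8r1w x y a)⁻¹) * h8r1w x y a *
            h8r1w x y (-(a⁻¹ + b)⁻¹) * x (a⁻¹ + b)⁻¹ := by group
      _ = _ := by rw [e2]; simp only [mul_assoc]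
  have hb1 : b⁻¹ ≠ 0 := inv_ne_zero hb
  have ha1 : a⁻¹ ≠ 0 := inv_ne_zero ha
  have c1 : (a + b⁻¹)⁻¹ = b / (1 + a * b) := by
    have : a + b⁻¹ = (1 + a * b) / b := by field_simp; ring
    rw [this, inv_div]
  have c2 : (a⁻¹ + b)⁻¹ = a / (1 + a * b) := by
    have : a⁻¹ + b = (1 + a * b) / a := by field_simp
    rw [this, inv_div]
  have hp' : 1 + b * a ≠ 0 := by rwa [mul_comm]
  have f1 : (a + b⁻¹)⁻¹ = a⁻¹ + -(a⁻¹ ^ 2 * (a⁻¹ + b)⁻¹) := by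
    rw [c1, c2]
    field_simp
    ring
  have f2 : -(b⁻¹ ^ 2 * (a + b⁻¹)⁻¹) + b⁻¹ = (a⁻¹ + b)⁻¹ := by
    rw [c1, c2]
    field_simp
    ring
  rw [S.x_add, f2] at D1
  rw [S.y_add, ← f1] at D2
  rw [D1] at D2
  exact mul_left_cancel (mul_right_cancel D2)

omit S in
theorem h_split (p s : K) :
    h8r1h x y (p * s) * (h8r1h x y s)⁻¹ = (h8r1f x y p s)⁻¹ * h8r1h x y p := by
  unfold h8r1f
  group

theorem f_shift (a b : K) (ha : a ≠ 0) (hb : b ≠ 0) (hp : 1 + a * b ≠ 0) :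
    h8r1f x y (1 + a * b) b⁻¹ = h8r1f x y (1 + a * b) (a⁻¹ + b)⁻¹ := by
  have hd : a⁻¹ + b ≠ 0 := by
    intro h
    apply hp
    have : a * (a⁻¹ + b) = 0 := by rw [h, mul_zero]
    rw [mul_add, mul_inv_cancel₀ ha] at this
    exact this
  have h4 := S.id4 a b ha hb hp
  rw [← S.h_eq, ← S.h_eq] at h4
  have e1 : a + b⁻¹ = (1 + a * b) * b⁻¹ := by
    rw [add_mul, one_mul, mul_assoc, mul_inv_cancel₀ hb, mul_one, add_comm]
  have e2 : a = (1 + a * b) * (a⁻¹ + b)⁻¹ := by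
    have : 1 + a * b = a * (a⁻¹ + b) := by
      rw [mul_add, mul_inv_cancel₀ ha]
    rw [this, mul_assoc, mul_inv_cancel₀ hd, mul_one]
  have h5 : h8r1h x y ((1 + a * b) * b⁻¹) * (h8r1h x y b⁻¹)⁻¹ =
      h8r1h x y ((1 + a * b) * (a⁻¹ + b)⁻¹) * (h8r1h x y (a⁻¹ + b)⁻¹)⁻¹ := by
    rw [← e1, ← e2]
    exact h4
  rw [h_split, h_split] at h5
  exact inv_injective (mul_right_cancel h5)

theorem f_sub (p : K) (hp : p ≠ 0) (hp1 : p ≠ 1) : h8r1f x y p ((p - 1) / p) = 1 := by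
  have ha : p - 1 ≠ 0 := sub_ne_zero.mpr hp1
  have e : 1 + (p - 1) * 1 = p := by ring
  have h := S.f_shift (p - 1) 1 ha one_ne_zero (by rw [e]; exact hp)
  rw [e, inv_one, S.f_one_right] at h
  have e2 : ((p - 1)⁻¹ + 1)⁻¹ = (p - 1) / p := by
    have : (p - 1)⁻¹ + 1 = p / (p - 1) := by
      field_simp
      ring
    rw [this, inv_div]
  rw [e2] at h
  exact h.symm

theorem f_d1 (q : K) (hq : q ≠ 0) (hq1 : q ≠ 1) : h8r1f x y q (1 - q)⁻¹ = 1 := by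
  have hp : q⁻¹ ≠ 0 := inv_ne_zero hq
  have hp1 : q⁻¹ ≠ 1 := by
    intro h
    apply hq1
    rw [← inv_inv q, h, inv_one]
  have h1q : 1 - q ≠ 0 := sub_ne_zero.mpr (Ne.symm hq1)
  have h := S.f_sub q⁻¹ hp hp1
  have hne : (q⁻¹ - 1) / q⁻¹ ≠ 0 := div_ne_zero (sub_ne_zero.mpr hp1) hp
  rw [← S.f_inv q⁻¹ _ hp hne, inv_inv] at h
  have e : ((q⁻¹ - 1) / q⁻¹)⁻¹ = (1 - q)⁻¹ := by
    congr 1
    field_simp
  rw [e] at h
  exact h

omit S in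
theorem comm_eq (t u : K) :
    h8r1h x y t * h8r1h x y u * (h8r1h x y t)⁻¹ * (h8r1h x y u)⁻¹ =
      h8r1f x y t u * (h8r1f x y u t)⁻¹ := by
  unfold h8r1f
  rw [mul_comm u t]
  group

theorem f_sq (t u v : K) (ht : t ≠ 0) (hu : u ≠ 0) (hv : v ≠ 0) :
    h8r1f x y t (u ^ 2 * v) =
      (h8r1h x y t * h8r1h x y u * (h8r1h x y t)⁻¹ * (h8r1h x y u)⁻¹) * h8r1f x y t v := by
  have e1 : h8r1h x y (u ^ 2 * v) =
      h8r1h x y u * h8r1h x y v * (h8r1h x y u)⁻¹ * h8r1h x y (u ^ 2) := by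
    rw [S.h_h u v hu]; group
  have e2 : h8r1h x y (t * (u ^ 2 * v)) =
      h8r1h x y u * h8r1h x y (t * v) * (h8r1h x y u)⁻¹ * h8r1h x y (u ^ 2) := by
    rw [S.h_h u (t * v) hu]
    have : t * (u ^ 2 * v) = u ^ 2 * (t * v) := by ring
    rw [this]; group
  have hc := S.cent t v ht hv (h8r1h x y u)⁻¹
  have e3 : h8r1f x y t (u ^ 2 * v) = h8r1h x y t * h8r1h x y u *
      (h8r1h x y t)⁻¹ * (h8r1f x y t v * (h8r1h x y u)⁻¹) := by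
    unfold h8r1f
    rw [e1, e2]
    group
  rw [e3, ← hc]
  simp only [mul_assoc]

/-- Steinberg's relation `f(t, 1 - t) = 1` -/
theorem f_d (t u : K) (ht : t ≠ 0) (hu : u ≠ 0) (htu : t + u = 1) : h8r1f x y t u = 1 := by
  have key : ∀ t u : K, t ≠ 0 → u ≠ 0 → t + u = 1 → h8r1f x y u t = 1 := by
    intro t u ht hu htu
    have ht1 : t ≠ 1 := by
      intro h
      apply hu
      rw [h] at htu
      exact add_eq_left.mp htu
    have hu' : u = 1 - t := by rw [← htu]; ring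
    have h1 := S.f_sq t u u⁻¹ ht hu (inv_ne_zero hu)
    have e : u ^ 2 * u⁻¹ = u := by field_simp
    rw [e, hu', S.f_d1 t ht ht1, mul_one, ← hu', comm_eq] at h1
    have : (h8r1f x y u t)⁻¹ = 1 := by
      have h2 : h8r1f x y t u * 1 = h8r1f x y t u * (h8r1f x y u t)⁻¹ := by
        rw [mul_one]; exact h1
      exact (mul_left_cancel h2).symm
    exact inv_eq_one.mp this
  exact key u t hu ht (by rw [add_comm]; exact htu)

end H8R1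

end Cfsg.Agent.Lib.helper8
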