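import Mathlib
import Cfsg.Agent.Lib.helper8.ChevSt33

set_option autoImplicit false

namespace Cfsg.Agent.Lib.helper8

variable {K : Type*} [Field K] {Γ : Type*} [Group Γ]

namespace H8R1

variable {x y : K → Γ} (S : H8R1 x y)
include S

theorem h_pow (v : K) (hv : v ≠ 0) (k : ℕ) :
    ∃ z : Γ, (∀ g : Γ, g * z = z * g) ∧ h8r1h x y (v ^ k) = z * (h8r1h x y v) ^ k := by
  induction k with
  | zero =>
    exact ⟨1, fun g => by rw [mul_one, one_mul], by rw [pow_zero, S.h_one, pow_zero, mul_one]⟩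
  | succ k ih =>
    obtain ⟨z, hz, e⟩ := ih
    have hc : ∀ g : Γ, g * (h8r1f x y v (v ^ k))⁻¹ = (h8r1f x y v (v ^ k))⁻¹ * g := by
      intro g
      have hc := S.cent v (v ^ k) hv (pow_ne_zero k hv) g
      calc g * (h8r1f x y v (v ^ k))⁻¹
          = (h8r1f x y v (v ^ k))⁻¹ * (h8r1f x y v (v ^ k) * g) * (h8r1f x y v (v ^ k))⁻¹ := by
            group
        _ = (h8r1f x y v (v ^ k))⁻¹ * (g * h8r1f x y v (v ^ k)) * (h8r1f x y v (v ^ k))⁻¹ := by
            rw [hc]
        _ = _ := by group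
    refine ⟨(h8r1f x y v (v ^ k))⁻¹ * z, ?_, ?_⟩
    · intro g
      rw [← mul_assoc, hc g, mul_assoc, hz g, mul_assoc]
    · have e1 : h8r1h x y (v ^ (k + 1)) =
          (h8r1f x y v (v ^ k))⁻¹ * (h8r1h x y v * h8r1h x y (v ^ k)) := by
        rw [pow_succ']
        unfold h8r1f
        group
      rw [e1, e, pow_succ', ← mul_assoc (h8r1h x y v) z, hz (h8r1h x y v)]
      simp only [mul_assoc]

theorem h_comm [Finite K] (t u : K) (ht : t ≠ 0) (hu : u ≠ 0) :
    h8r1h x y t * h8r1h x y u = h8r1h x y u * h8r1h x y t := by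
  obtain ⟨g, hg⟩ := IsCyclic.exists_monoid_generator (α := Kˣ)
  obtain ⟨k, hk⟩ := Submonoid.mem_powers_iff _ _ |>.mp (hg (Units.mk0 t ht))
  obtain ⟨m, hm⟩ := Submonoid.mem_powers_iff _ _ |>.mp (hg (Units.mk0 u hu))
  have et : t = (g : K) ^ k := by
    have := congrArg Units.val hk
    rw [Units.val_pow_eq_pow_val, Units.val_mk0] at this
    exact this.symm
  have eu : u = (g : K) ^ m := by
    have := congrArg Units.val hm
    rw [Units.val_pow_eq_pow_val, Units.val_mk0] at this
    exact this.symm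
  obtain ⟨z, hz, e⟩ := S.h_pow (g : K) g.ne_zero k
  obtain ⟨z', hz', e'⟩ := S.h_pow (g : K) g.ne_zero m
  rw [et, eu, e, e']
  have hpp : h8r1h x y (g : K) ^ k * h8r1h x y (g : K) ^ m =
      h8r1h x y (g : K) ^ m * h8r1h x y (g : K) ^ k := by
    rw [← pow_add, ← pow_add, add_comm]
  calc z * h8r1h x y (g : K) ^ k * (z' * h8r1h x y (g : K) ^ m)
      = z * (h8r1h x y (g : K) ^ k * z') * h8r1h x y (g : K) ^ m := by simp only [mul_assoc]
    _ = z * (z' * h8r1h x y (g : K) ^ k) * h8r1h x y (g : K) ^ m := by rw [hz']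
    _ = (z * z') * (h8r1h x y (g : K) ^ k * h8r1h x y (g : K) ^ m) := by simp only [mul_assoc]
    _ = (z' * z) * (h8r1h x y (g : K) ^ m * h8r1h x y (g : K) ^ k) := by rw [hpp, hz' z]
    _ = z' * (z * h8r1h x y (g : K) ^ m) * h8r1h x y (g : K) ^ k := by simp only [mul_assoc]
    _ = z' * (h8r1h x y (g : K) ^ m * z) * h8r1h x y (g : K) ^ k := by rw [hz]
    _ = _ := by simp only [mul_assoc]

theorem f_symm [Finite K] (t u : K) (ht : t ≠ 0) (hu : u ≠ 0) :
    h8r1f x y t u = h8r1f x y u t := by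
  have h := comm_eq (x := x) (y := y) t u
  rw [S.h_comm t u ht hu, mul_inv_cancel_right, mul_inv_cancel] at h
  exact (mul_inv_eq_one.mp h.symm)

theorem f_sq_mul [Finite K] (t u v : K) (ht : t ≠ 0) (hu : u ≠ 0) (hv : v ≠ 0) :
    h8r1f x y t (u ^ 2 * v) = h8r1f x y t v := by
  rw [S.f_sq t u v ht hu hv, S.h_comm t u ht hu, mul_inv_cancel_right, mul_inv_cancel, one_mul]

theorem f_sq_right [Finite K] (t u : K) (ht : t ≠ 0) (hu : u ≠ 0) :
    h8r1f x y t (u ^ 2) = 1 := by
  have := S.f_sq_mul t u 1 ht hu one_ne_zero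
  rw [mul_one, S.f_one_right] at this
  exact this

/-- over a finite field the cocycle is trivial -/
theorem f_trivial [Finite K] (t u : K) (ht : t ≠ 0) (hu : u ≠ 0) : h8r1f x y t u = 1 := by
  classical
  have : Fintype K := Fintype.ofFinite K
  have hsq : ∀ t u : K, t ≠ 0 → u ≠ 0 → IsSquare u → h8r1f x y t u = 1 := by
    intro t u ht hu ⟨s, hs⟩
    have hs0 : s ≠ 0 := by
      intro h
      apply hu
      rw [hs, h, mul_zero]
    rw [hs, ← sq]
    exact S.f_sq_right t s ht hs0
  by_cases hF : ringChar K = 2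
  · exact hsq t u ht hu (FiniteField.isSquare_of_char_two hF u)
  · obtain ⟨n, hn⟩ := FiniteField.exists_nonsquare hF
    have hn0 : n ≠ 0 := by
      intro h
      apply hn
      rw [h]
      exact IsSquare.zero
    have hχn := quadraticChar_neg_one_iff_not_isSquare.mpr hn
    -- every non-square is a square times `n`
    have hQ : ∀ c : K, c ≠ 0 → ¬ IsSquare c → ∃ s : K, s ≠ 0 ∧ c = s ^ 2 * n := by
      intro c hc hcs
      have hχc := quadraticChar_neg_one_iff_not_isSquare.mpr hcs
      have h1 : quadraticChar K (c * n) = 1 := by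
        rw [map_mul, hχc, hχn]
        norm_num
      obtain ⟨r, hr⟩ := (quadraticChar_one_iff_isSquare (mul_ne_zero hc hn0)).mp h1
      have hr0 : r ≠ 0 := by
        intro h
        rw [h, mul_zero] at hr
        exact mul_ne_zero hc hn0 hr
      refine ⟨r / n, div_ne_zero hr0 hn0, ?_⟩
      field_simp
      rw [sq, ← hr]
    -- `n` is a sum of two squares
    obtain ⟨a, b, hab⟩ : ∃ a b : K, a ^ 2 + b ^ 2 = n := by
      have hf2 : (Polynomial.X ^ 2 : Polynomial K).degree = 2 := Polynomial.degree_X_pow 2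
      have hg2 : (Polynomial.X ^ 2 - Polynomial.C n : Polynomial K).degree = 2 := by
        rw [Polynomial.degree_sub_C]
        · exact Polynomial.degree_X_pow 2
        · rw [Polynomial.degree_X_pow]; norm_num
      obtain ⟨a, b, h⟩ := FiniteField.exists_root_sum_quadratic hf2 hg2
        (FiniteField.odd_card_of_char_ne_two hF)
      refine ⟨a, b, ?_⟩
      simp only [Polynomial.eval_pow, Polynomial.eval_X, Polynomial.eval_sub,
        Polynomial.eval_C] at h
      linear_combination h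
    have ha0 : a ≠ 0 := by
      intro h
      apply hn
      rw [← hab, h]
      exact ⟨b, by ring⟩
    have hb0 : b ≠ 0 := by
      intro h
      apply hn
      rw [← hab, h]
      exact ⟨a, by ring⟩
    -- `f(n, n) = 1`
    have hnn : h8r1f x y n n = 1 := by
      have hd := S.f_d ((a / n) ^ 2 * n) ((b / n) ^ 2 * n)
        (mul_ne_zero (pow_ne_zero 2 (div_ne_zero ha0 hn0)) hn0)
        (mul_ne_zero (pow_ne_zero 2 (div_ne_zero hb0 hn0)) hn0)
        (by field_simp; exact hab)
      rw [S.f_sq_mul _ (b / n) n (mul_ne_zero (pow_ne_zero 2 (div_ne_zero ha0 hn0)) hn0)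
        (div_ne_zero hb0 hn0) hn0,
        S.f_symm _ n (mul_ne_zero (pow_ne_zero 2 (div_ne_zero ha0 hn0)) hn0) hn0,
        S.f_sq_mul n (a / n) n hn0 (div_ne_zero ha0 hn0) hn0] at hd
      exact hd
    by_cases hus : IsSquare u
    · exact hsq t u ht hu hus
    · obtain ⟨s, hs0, rfl⟩ := hQ u hu hus
      rw [S.f_sq_mul t s n ht hs0 hn0, S.f_symm t n ht hn0]
      by_cases hts : IsSquare t
      · exact hsq n t hn0 ht hts
      · obtain ⟨r, hr0, rfl⟩ := hQ t ht hts
        rw [S.f_sq_mul n r n hn0 hr0 hn0]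
        exact hnn

/-- over a finite field relation (C) follows -/
theorem h_mul [Finite K] (t u : K) (ht : t ≠ 0) (hu : u ≠ 0) :
    h8r1h x y t * h8r1h x y u = h8r1h x y (t * u) := by
  have := S.f_trivial t u ht hu
  unfold h8r1f at this
  exact mul_inv_eq_one.mp this

end H8R1

end Cfsg.Agent.Lib.helper8
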