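import Mathlib
import Cfsg.Prelude.Def_ChevStructure
import Cfsg.Agent.Lib.helper8.ChevSt25
import Cfsg.Agent.Lib.helper8.ChevSLP3
import Cfsg.Agent.Lib.helper8.ChevSt34

set_option autoImplicit false
set_option linter.unusedSectionVars false

namespace Cfsg.Agent.Lib.helper8

open Cfsg.Lie Cfsg.Lie.ChevalleyDatum

universe u v

variable {K : Type u} [Field K]

theorem h8sl2_conj (t u : K) (ht : t ≠ 0)
    (U : K → Matrix.SpecialLinearGroup (Fin 2) K) (L : K → Matrix.SpecialLinearGroup (Fin 2) K)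
    (hU : ∀ a, ((U a : Matrix.SpecialLinearGroup (Fin 2) K) : Matrix (Fin 2) (Fin 2) K) =
      !![1, a; 0, 1])
    (hL : ∀ a, ((L a : Matrix.SpecialLinearGroup (Fin 2) K) : Matrix (Fin 2) (Fin 2) K) =
      !![1, 0; a, 1]) :
    (U t * L (-t⁻¹) * U t) * U u * (U t * L (-t⁻¹) * U t)⁻¹ = L (-(t⁻¹ ^ 2 * u)) := by
  rw [mul_inv_eq_iff_eq_mul]
  apply Subtype.ext
  simp only [Matrix.SpecialLinearGroup.coe_mul, hU, hL, Matrix.mul_fin_two]
  rw [← Matrix.ext_iff]
  intro i j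
  fin_cases i <;> fin_cases j
  all_goals simp only [Fin.zero_eta, Fin.mk_one, Matrix.of_apply, Matrix.cons_val',
    Matrix.cons_val_zero, Matrix.cons_val_one, Matrix.cons_val_fin_one, Fin.isValue]
  all_goals (field_simp; try ring)

/-- the rank-one conjugation rule in the matrix group -/
theorem h8nU_conj_x (D : ChevalleyDatum) (hB : H8Base.{u} D) (r : ℕ) (hsl : H8SLHom D hB K r)
    (t u : K) (ht : t ≠ 0) :
    h8nU D hB r t * h8xU D hB r u * (h8nU D hB r t)⁻¹ =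
      h8xU D hB (D.negIdx.getD r 0) (-(t⁻¹ ^ 2 * u)) := by
  obtain ⟨φ, _, hup, hlo⟩ := hsl
  let U : K → Matrix.SpecialLinearGroup (Fin 2) K :=
    fun a => ⟨!![1, a; 0, 1], by rw [Matrix.det_fin_two_of]; ring⟩
  let L : K → Matrix.SpecialLinearGroup (Fin 2) K :=
    fun a => ⟨!![1, 0; a, 1], by rw [Matrix.det_fin_two_of]; ring⟩
  have hU : ∀ a, φ (U a) = h8xU D hB r a := fun a => hup (U a) a rfl
  have hL : ∀ a, φ (L a) = h8xU D hB (D.negIdx.getD r 0) a := fun a => hlo (L a) a rfl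
  rw [h8nU_eq, ← hU t, ← hL (-t⁻¹), ← hU u, ← hL (-(t⁻¹ ^ 2 * u)), ← map_mul, ← map_mul,
    ← map_mul, ← map_inv, ← map_mul]
  congr 1
  exact h8sl2_conj t u ht U L (fun a => rfl) (fun a => rfl)

variable {Γ : Type v} [Group Γ] {D : ChevalleyDatum} {X : ℕ → K → Γ}

section
variable {hB : H8Base.{u} D} {π : Γ →* GL D.Idx K} (hP : H8Pair D hB X π 1)
  (hL : H8All D) (hWS : H8W0S D) (hN2 : H8N2 D)
include hP hL hWS hN2

/-- the rank-one conjugation rule for simple roots of an abstract family -/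
theorem h8pair_conj_simple (hsl : ∀ r < D.nroots, H8SLHom D hB K r) (i : ℕ) (hi : i < D.rank)
    (t u : K) (ht : t ≠ 0) :
    h8nS D X (D.simple i) t * X (D.simple i) u * (h8nS D X (D.simple i) t)⁻¹ =
      X (D.negIdx.getD (D.simple i) 0) (-(t⁻¹ ^ 2 * u)) := by
  have hp := (h8simple_pos D hL.hBN i hi).1
  have hact := h8pair_n_actNX hP hL hWS hN2 i hi t ht (D.simple i) hp
  rw [h8reflectRoot_simple] at hact
  obtain ⟨c, hc, e1, _⟩ := hact
  have hπ := congrArg π (e1 1)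
  rw [map_mul, map_mul, map_inv, h8pair_nS hP hL _ hp, h8pair_one_im hP _ hp,
    h8pair_one_im hP _ (hL.hW.neglt _ hp), h8nU_conj_x D hB _ (hsl _ hp) t 1 ht] at hπ
  have hcc := h8xU_inj_t D hB hL.hA hL.hW _ (hL.hW.neglt _ hp) _ _ hπ
  rw [e1 u]
  congr 1
  have : c = -(t⁻¹ ^ 2) := by
    rw [mul_one, mul_one] at hcc
    exact hcc.symm
  rw [this]
  ring

/-- the rank-one conjugation rule for all roots of an abstract family -/
theorem h8pair_conj_all (hsl : ∀ r < D.nroots, H8SLHom D hB K r) (dep par : List ℕ)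
    (horb : h8orbChk D dep par = true) :
    ∀ r < D.nroots, ∀ t u : K, t ≠ 0 →
      h8nS D X r t * X r u * (h8nS D X r t)⁻¹ = X (D.negIdx.getD r 0) (-(t⁻¹ ^ 2 * u)) := by
  apply h8orb_induction D hL.hA dep par horb
  · intro j hj t u ht
    exact h8pair_conj_simple hP hL hWS hN2 hsl j hj t u ht
  · intro i hi r hr ih t u ht
    obtain ⟨η, hR⟩ := h8reflAll_spec D hL.hA i hi
    have hr' := hR.lt r hr
    -- `y = n_i(1)` maps the root `s_i r` to `r`
    have hact := h8pair_n_actNX hP hL hWS hN2 i hi 1 one_ne_zero _ hr'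
    rw [hR.invol r hr] at hact
    obtain ⟨c, hc, e1, e2⟩ := hact
    have en : ∀ a : K, h8nS D X (D.simple i) 1 * h8nS D X (D.reflectRoot i r) a *
        (h8nS D X (D.simple i) 1)⁻¹ = h8nS D X r (c * a) := by
      intro a
      have e : h8nS D X (D.simple i) 1 * h8nS D X (D.reflectRoot i r) a *
          (h8nS D X (D.simple i) 1)⁻¹ =
          (h8nS D X (D.simple i) 1 * X (D.reflectRoot i r) a * (h8nS D X (D.simple i) 1)⁻¹) *
          (h8nS D X (D.simple i) 1 * X (D.negIdx.getD (D.reflectRoot i r) 0) (-a⁻¹) *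
            (h8nS D X (D.simple i) 1)⁻¹) *
          (h8nS D X (D.simple i) 1 * X (D.reflectRoot i r) a * (h8nS D X (D.simple i) 1)⁻¹) := by
        have : h8nS D X (D.reflectRoot i r) a = X (D.reflectRoot i r) a *
            X (D.negIdx.getD (D.reflectRoot i r) 0) (-a⁻¹) * X (D.reflectRoot i r) a := rfl
        rw [this]; group
      rw [e, e1, e2]
      unfold h8nS
      congr 2
      rw [mul_inv, mul_neg]
    have h0 := ih (c⁻¹ * t) (c⁻¹ * u) (mul_ne_zero (inv_ne_zero hc) ht)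
    have h1 : h8nS D X (D.simple i) 1 * (h8nS D X (D.reflectRoot i r) (c⁻¹ * t) *
        X (D.reflectRoot i r) (c⁻¹ * u) * (h8nS D X (D.reflectRoot i r) (c⁻¹ * t))⁻¹) *
        (h8nS D X (D.simple i) 1)⁻¹ = h8nS D X (D.simple i) 1 *
        X (D.negIdx.getD (D.reflectRoot i r) 0) (-((c⁻¹ * t)⁻¹ ^ 2 * (c⁻¹ * u))) *
        (h8nS D X (D.simple i) 1)⁻¹ := by rw [h0]
    have e : h8nS D X (D.simple i) 1 * (h8nS D X (D.reflectRoot i r) (c⁻¹ * t) *
        X (D.reflectRoot i r) (c⁻¹ * u) * (h8nS D X (D.reflectRoot i r) (c⁻¹ * t))⁻¹) *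
        (h8nS D X (D.simple i) 1)⁻¹ =
        (h8nS D X (D.simple i) 1 * h8nS D X (D.reflectRoot i r) (c⁻¹ * t) *
          (h8nS D X (D.simple i) 1)⁻¹) *
        (h8nS D X (D.simple i) 1 * X (D.reflectRoot i r) (c⁻¹ * u) *
          (h8nS D X (D.simple i) 1)⁻¹) *
        (h8nS D X (D.simple i) 1 * h8nS D X (D.reflectRoot i r) (c⁻¹ * t) *
          (h8nS D X (D.simple i) 1)⁻¹)⁻¹ := by group
    rw [e, en, e1, e2] at h1
    have f1 : c * (c⁻¹ * t) = t := by rw [← mul_assoc, mul_inv_cancel₀ hc, one_mul]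
    have f2 : c * (c⁻¹ * u) = u := by rw [← mul_assoc, mul_inv_cancel₀ hc, one_mul]
    have f3 : c⁻¹ * -((c⁻¹ * t)⁻¹ ^ 2 * (c⁻¹ * u)) = -(t⁻¹ ^ 2 * u) := by
      field_simp
    rw [f1, f2, f3] at h1
    exact h1

end

end Cfsg.Agent.Lib.helper8
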