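import Mathlib
import Cfsg.Prelude.Def_SteinbergCover
import Cfsg.Agent.Lib.helper8.ChevSt35
import Cfsg.Agent.Lib.helper8.ChevSt31

set_option autoImplicit false
set_option linter.unusedSectionVars false

namespace Cfsg.Agent.Lib.helper8

open Cfsg.Lie Cfsg.Lie.ChevalleyDatum

universe u v

variable {K : Type u} [Field K]
variable {Γ : Type v} [Group Γ] {D : ChevalleyDatum} {X : ℕ → K → Γ}

section
variable {hB : H8Base.{u} D} {π : Γ →* GL D.Idx K} (hP : H8Pair D hB X π 1)
  (hL : H8All D) (hWS : H8W0S D) (hN2 : H8N2 D)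
include hP hL hWS hN2

/-- every pair of opposite root subgroups of an abstract family is a rank-one system -/
theorem h8pair_R1 (hgen : Subgroup.closure (h8AllS D X) = ⊤)
    (hsl : ∀ r < D.nroots, H8SLHom D hB K r) (dep par : List ℕ)
    (horb : h8orbChk D dep par = true) (r : ℕ) (hr : r < D.nroots) :
    H8R1 (X r) (X (D.negIdx.getD r 0)) := by
  have hnr := hL.hW.neglt r hr
  refine ⟨fun s t => hP.sys.add r hr s t, fun s t => hP.sys.add _ hnr s t, ?_, ?_⟩
  · intro t u ht
    exact h8pair_conj_all hP hL hWS hN2 hsl dep par horb r hr t u ht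
  · intro t u ht hu g
    have hf : h8r1f (X r) (X (D.negIdx.getD r 0)) t u =
        h8hS D X r t * h8hS D X r u * (h8hS D X r (t * u))⁻¹ := rfl
    have hπ : π (h8r1f (X r) (X (D.negIdx.getD r 0)) t u) = 1 := by
      have hh : ∀ a : K, π (h8hS D X r a) = h8hU D hB r a := by
        intro a
        unfold h8hS
        rw [map_mul, h8pair_nS hP hL _ hr, h8pair_nS hP hL _ hr, h8nU_eq_hU D hB _ a, h8nU_neg,
          mul_inv_cancel_right]
      rw [hf, map_mul, map_mul, map_inv, hh, hh, hh, h8hU_mul D hB r hr t u ht hu,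
        mul_inv_cancel]
    have hz := (h8pair_ker_central hP hL hWS hN2 hgen _ hπ).2
    exact Subgroup.mem_center_iff.mp hz g

/-- over a finite field relation (C) holds in every abstract family -/
theorem h8pair_relC [Finite K] (hgen : Subgroup.closure (h8AllS D X) = ⊤)
    (hsl : ∀ r < D.nroots, H8SLHom D hB K r) (dep par : List ℕ)
    (horb : h8orbChk D dep par = true) : H8RelC D X := by
  intro r hr t u ht hu
  exact (h8pair_R1 hP hL hWS hN2 hgen hsl dep par horb r hr).h_mul t u ht hu

end

/-- over a finite field relation (C) holds in the group presented by (A) and (B) -/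
theorem h8sc_relC [Finite K] (D : ChevalleyDatum)
    (hD : D ∈ [chevG2, chevB2, chevD4, chevF4, chevE6, chevE7, chevE8]) :
    H8RelC D (D.scGen K) := by
  have hB := h8base_all.{u} D hD
  have hC := h8commAll.{u} D hD
  have hL := h8all_all D hD
  have hWS := h8w0s_all D hD
  have hN2 := h8n2_all D hD
  have hA := h8reflAll D hD
  have hsc := h8scChk_all D hD
  have hc2 := h8cartan_simple D hD
  obtain ⟨dep, par, horb⟩ := h8orb_chk_all D hD
  have hP := h8sc_pair (K := K) D hB hC
  exact h8pair_relC hP hL hWS hN2 (h8sc_gen D)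
    (h8slHom_all (F := K) D hB hA hsc hc2 dep par horb) dep par horb

end Cfsg.Agent.Lib.helper8
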