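import Mathlib
import Cfsg.Prelude.Def_SteinbergCover
import Cfsg.Agent.Lib.helper8.ChevSt36

set_option autoImplicit false
set_option linter.unusedSectionVars false

namespace Cfsg.Agent.Lib.helper8

open Cfsg.Lie Cfsg.Lie.ChevalleyDatum

universe u

variable {K : Type u} [Field K]

theorem h8lift_of_eq_mk {α : Type*} (R : Set (FreeGroup α)) (w : FreeGroup α) :
    FreeGroup.lift (fun p : α => (PresentedGroup.of p : PresentedGroup R)) w =
      PresentedGroup.mk R w := by
  have : FreeGroup.lift (fun p : α => (PresentedGroup.of p : PresentedGroup R)) =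
      PresentedGroup.mk R := by
    apply FreeGroup.ext_hom
    intro a
    rw [FreeGroup.lift_apply_of]
    rfl
  rw [this]

theorem h8sc_hS (D : ChevalleyDatum) (r : ℕ) (t : K) :
    h8hS D (D.scGen K) r t = PresentedGroup.mk (D.steinbergRelsAB K) (D.stH r t) := by
  unfold ChevalleyDatum.stH
  rw [h8sc_mk_stWord, h8scWord_eq]
  unfold h8hS h8nS ChevalleyDatum.hWord ChevalleyDatum.nWord ChevalleyDatum.neg h8wX
  simp only [List.map_append, List.map_cons, List.map_nil, List.prod_append, List.prod_cons,
    List.prod_nil, mul_one, mul_assoc]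

theorem h8relsAB_sub (D : ChevalleyDatum) : D.steinbergRelsAB K ⊆ D.steinbergRels K :=
  fun _ hg => Or.inl hg

/-- the canonical map from the (A),(B)-group to the Steinberg group -/
noncomputable def h8scToSt (D : ChevalleyDatum) : D.SteinbergCover K →* D.SteinbergGroup K :=
  PresentedGroup.toGroup
    (f := fun p => (PresentedGroup.of p : PresentedGroup (D.steinbergRels K)))
    (by
      intro r hr
      rw [h8lift_of_eq_mk]
      exact PresentedGroup.one_of_mem (h8relsAB_sub D hr))

theorem h8scToSt_mk (D : ChevalleyDatum) (w : FreeGroup (Fin D.nroots × K)) :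
    h8scToSt D (PresentedGroup.mk (D.steinbergRelsAB K) w) =
      PresentedGroup.mk (D.steinbergRels K) w := by
  have : h8scToSt D (PresentedGroup.mk (D.steinbergRelsAB K) w) =
      FreeGroup.lift (fun p => (PresentedGroup.of p : PresentedGroup (D.steinbergRels K))) w :=
    rfl
  rw [this, h8lift_of_eq_mk]

/-- over a finite field: the canonical map backwards -/
noncomputable def h8stToSc [Finite K] (D : ChevalleyDatum)
    (hD : D ∈ [chevG2, chevB2, chevD4, chevF4, chevE6, chevE7, chevE8]) :
    D.SteinbergGroup K →* D.SteinbergCover K :=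
  PresentedGroup.toGroup
    (f := fun p => (PresentedGroup.of p : PresentedGroup (D.steinbergRelsAB K)))
    (by
      intro g hg
      rw [h8lift_of_eq_mk]
      rcases hg with hAB | ⟨r, t₁, t₂, hr, h₁, h₂, rfl⟩
      · exact PresentedGroup.one_of_mem hAB
      · rw [map_mul, map_mul, map_inv, ← h8sc_hS, ← h8sc_hS, ← h8sc_hS, mul_inv_eq_one]
        exact h8sc_relC D hD r hr t₁ t₂ h₁ h₂)

/-- over a finite field the two presented groups are canonically isomorphic -/
theorem h8sc_iso [Finite K] (D : ChevalleyDatum)
    (hD : D ∈ [chevG2, chevB2, chevD4, chevF4, chevE6, chevE7, chevE8]) :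
    ∃ e : D.SteinbergCover K ≃* D.SteinbergGroup K,
      ∀ (r : ℕ) (t : K), e (D.scGen K r t) = D.stGen K r t := by
  have h1 : (h8stToSc D hD).comp (h8scToSt (K := K) D) = MonoidHom.id _ := by
    apply PresentedGroup.ext
    intro p
    rw [MonoidHom.comp_apply, MonoidHom.id_apply]
    unfold h8scToSt h8stToSc
    rw [PresentedGroup.toGroup.of, PresentedGroup.toGroup.of]
  have h2 : (h8scToSt (K := K) D).comp (h8stToSc D hD) = MonoidHom.id _ := by
    apply PresentedGroup.ext
    intro p
    rw [MonoidHom.comp_apply, MonoidHom.id_apply]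
    unfold h8scToSt h8stToSc
    rw [PresentedGroup.toGroup.of, PresentedGroup.toGroup.of]
  refine ⟨MonoidHom.toMulEquiv (h8scToSt D) (h8stToSc D hD) h1 h2, ?_⟩
  intro r t
  show h8scToSt D (D.scGen K r t) = D.stGen K r t
  unfold ChevalleyDatum.scGen ChevalleyDatum.stGen
  exact h8scToSt_mk D _

end Cfsg.Agent.Lib.helper8
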