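import Mathlib
import Cfsg.Agent.Lib.helper3.SPM.Defs
import Cfsg.Agent.Lib.helper3.SPM.Defs2
import Cfsg.Agent.Lib.Helper29.SPMA4

/-!
# Project SPM (designer helper3), row I5 `xr_comm_pair` (helper8): CORE on the statement of E7 `xr_pair`.
-/

set_option autoImplicit false

namespace Cfsg.Agent.Lib.helper3.SPM

open Cfsg.Agent.Lib.helper3.STC Cfsg.Agent.Lib.helper3.STC.Mat Cfsg.Agent.Lib.helper17.SLP

universe u v w

section main
variable {F : Type u} [Field F] {ι : Type w} [Fintype ι] [DecidableEq ι] {G : Type v} [Group G]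
  (p : Pts ι) (ν : Equiv.Perm ι →* G) (lam : Sp4 F →* G)

/-- I5 core: `hE7` is the statement of E7 `xr_pair` at the pair `(i, j)`. -/
theorem spmi5_core {i j : ι} (hij : i ≠ j)
    (hE7 : ∀ {a' b' : Fin 2 ⊕ Fin 2}, a' ≠ b' → ∀ t : F,
      lamP p ν lam i j (tm a' b' t) = xr p ν lam (pe2 i j a') (pe2 i j b') t)
    {a b c d : ι ⊕ ι}
    (ha : ab a = i ∨ ab a = j) (hb : ab b = i ∨ ab b = j) (hc : ab c = i ∨ ab c = j) (hd : ab d = i ∨ ab d = j)
    (hab : a ≠ b) (hcd : c ≠ d) (hbc : b ≠ c) (had : a ≠ d) (hbd : b ≠ ng d) (hac : a ≠ ng c) (t u : F) :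
    xr p ν lam a b t * xr p ν lam c d u = xr p ν lam c d u * xr p ν lam a b t := by
  obtain ⟨a', rfl⟩ := exists_pe2 i j ha
  obtain ⟨b', rfl⟩ := exists_pe2 i j hb
  obtain ⟨c', rfl⟩ := exists_pe2 i j hc
  obtain ⟨d', rfl⟩ := exists_pe2 i j hd
  have hab' : a' ≠ b' := fun e => hab (by rw [e])
  have hcd' : c' ≠ d' := fun e => hcd (by rw [e])
  have hbc' : b' ≠ c' := fun e => hbc (by rw [e])
  have had' : a' ≠ d' := fun e => had (by rw [e])
  have hbd' : b' ≠ ng d' := fun e => hbd (by rw [e, pe2_ng])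
  have hac' : a' ≠ ng c' := fun e => hac (by rw [e, pe2_ng])
  rw [← hE7 hab' t, ← hE7 hcd' u, ← map_mul, ← map_mul, tm_comm hab' hcd' hbc' had' hbd' hac' t u]

end main

end Cfsg.Agent.Lib.helper3.SPM
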