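import Mathlib
import Cfsg.Agent.Lib.helper3.SPM.Defs
import Cfsg.Agent.Lib.helper3.SPM.Defs2
import Cfsg.Agent.Lib.helper14.SPMI1

/-!
# Project SPM (designer helper3), row Y3 `sysC_of_glue` (helper8): CORE on the statements of I3 `xr_sym`, I4 `xr_ssl xr_ls xr_rel`,
Y1 `xr_comm`, Y2 `xr_comm3` (I1 `xr_diag` and I2 `xr_add` are cited from `helper14.SPMI1`).
-/

set_option autoImplicit false

namespace Cfsg.Agent.Lib.helper3.SPM

open Cfsg.Agent.Lib.helper3.STC Cfsg.Agent.Lib.helper3.STC.Mat Cfsg.Agent.Lib.helper17.SLP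

universe u v w

section main
variable {F : Type u} [Field F] {ι : Type w} [Fintype ι] [DecidableEq ι] {G : Type v} [Group G]
  (p : Pts ι) (ν : Equiv.Perm ι →* G) (lam : Sp4 F →* G)

/-- Y3 core: the hypotheses are the conclusions of I3, Y1, Y2, I4 for the given `p ν lam`. -/
theorem spmy3_core
    (hsym : ∀ {a b : ι ⊕ ι}, a ≠ b → ∀ t : F,
      xr p ν lam a b t = xr p ν lam (ng b) (ng a) (-(sg a * sg b * t)))
    (hcomm : ∀ {a b c d : ι ⊕ ι}, a ≠ b → c ≠ d → b ≠ c → a ≠ d → b ≠ ng d → a ≠ ng c → ∀ t u : F,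
      xr p ν lam a b t * xr p ν lam c d u = xr p ν lam c d u * xr p ν lam a b t)
    (hcomm3 : ∀ {a b c : ι ⊕ ι}, a ≠ b → a ≠ ng b → b ≠ c → b ≠ ng c → a ≠ c → a ≠ ng c → ∀ t u : F,
      xr p ν lam a b t * xr p ν lam b c u * (xr p ν lam a b t)⁻¹ * (xr p ν lam b c u)⁻¹ = xr p ν lam a c (t * u))
    (hssl : ∀ {a b : ι ⊕ ι}, a ≠ b → a ≠ ng b → ∀ t u : F,
      xr p ν lam a b t * xr p ν lam b (ng a) u * (xr p ν lam a b t)⁻¹ * (xr p ν lam b (ng a) u)⁻¹ =
        xr p ν lam a (ng a) (2 * t * u))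
    (hls : ∀ {a b : ι ⊕ ι}, a ≠ b → a ≠ ng b → ∀ t u : F,
      xr p ν lam a (ng a) t * xr p ν lam (ng a) b u * (xr p ν lam a (ng a) t)⁻¹ * (xr p ν lam (ng a) b u)⁻¹ =
        xr p ν lam a b (t * u) * xr p ν lam (ng b) b (sg a * sg b * t * u ^ 2))
    (hrel : ∀ {a b : ι ⊕ ι}, a ≠ b → ∀ t u : F, t ≠ 0 →
      Cfsg.Agent.Lib.helper15.St2.cj (xr p ν lam a b t * xr p ν lam b a (-t⁻¹) * xr p ν lam a b t) (xr p ν lam a b u) =
        xr p ν lam b a (-(t⁻¹ ^ 2 * u))) :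
    ∃ S : SysC F ι G, ∀ a b t, S.x a b t = xr p ν lam a b t :=
  ⟨{ x := xr p ν lam
     diag := fun a t => xr_diag p ν lam a t
     sym := fun a b hab t => hsym hab t
     add := fun a b _ t u => spmi1_xr_add p ν lam a b t u
     comm := fun a b c d hab hcd hbc had hbd hac t u => hcomm hab hcd hbc had hbd hac t u
     comm3 := fun a b c hab hab' hbc hbc' hac hac' t u => hcomm3 hab hab' hbc hbc' hac hac' t u
     ssl := fun a b hab hab' t u => hssl hab hab' t u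
     ls := fun a b hab hab' t u => hls hab hab' t u
     rel := fun a b hab t u ht => hrel hab t u ht },
   fun _ _ _ => rfl⟩

end main

end Cfsg.Agent.Lib.helper3.SPM
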