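import Mathlib
import Cfsg.Prelude.Def_ChevE6
import Cfsg.Agent.Lib.helper8.ChevTabCoxE6S

set_option autoImplicit false

namespace Cfsg.Agent.Lib.helper8

open Cfsg.Lie

def h8cxT_E6_1 : ℕ := 0x47464544433736353433322d2c2b2a0f4241403f3e3d31302f2e3c3b3a39292827262524232221201f1e0e0d0c0b191817160a0908070605381d1c1b1a151413121110040302010047464544434241403f3e3d3c3b3a393837363534333231302f2e2d2c2b2a292827262524232221201f1e1d1c1b1a191817161514131211100f0e0d0c0b0a09080706050403020100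

def h8cxP_E6_1 : ℕ := 0x0

def h8cxG_E6_1 : ℕ := 0x0

def h8cxC_E6_1 : ℕ := 0x2

def h8cxM_E6_1 : ℕ := 0xfffffffff000000000

set_option maxRecDepth 100000 in
theorem h8cxRow_E6_1_0 : (List.range' 0 2).all (h8lvRow chevE6 h8cxS_E6 h8cxT_E6_1
    h8cxP_E6_1 h8cxG_E6_1 h8cxC_E6_1 h8cxM_E6_1 1 2) = true := by decide +kernel

theorem h8cxRows_E6_1 : ∀ k < 2, h8lvRow chevE6 h8cxS_E6 h8cxT_E6_1
    h8cxP_E6_1 h8cxG_E6_1 h8cxC_E6_1 h8cxM_E6_1 1 2 k = true := by
  intro k hk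
  exact h8rows_of_chunk _ _ _ h8cxRow_E6_1_0 k (by omega) (by omega)

set_option maxRecDepth 100000 in
theorem h8cxMask_E6_1 : h8lvMask chevE6 h8cxS_E6 h8cxM_E6_1 1 = true := by decide +kernel

set_option maxRecDepth 100000 in
theorem h8cxKeys_E6_1 : h8lvKeys chevE6 h8cxT_E6_1 2 = true := by decide +kernel

set_option maxRecDepth 100000 in
theorem h8cxDense_E6_1 : h8dense ((List.range 2).map (h8invT chevE6.nroots h8cxT_E6_1)) =
    [1, 1] := by decide +kernel

end Cfsg.Agent.Lib.helper8
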