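import Mathlib
import Cfsg.Prelude.Def_ChevE6
import Cfsg.Agent.Lib.helper8.ChevTabCoxE6S

set_option autoImplicit false

namespace Cfsg.Agent.Lib.helper8

open Cfsg.Lie

def h8cxT_E6_3 : ℕ := 0x47463736354544433433322d2c2b0f2a42414031302f3f3e3d2e2928270e3c3b3a2625242322210d0c0b39201f1e190a09081817160706051d381c1b1a151413040302121110010047464241404544433f3e3d3c3b3a383937363531302f3433322e2928271d2d2c2b2625242322211c1b1a2a201f1e191514131817161211100e0f0d0c0b0a0908040302070605010047464544434241403f3e3d3c3b3a393837363534333231302f2e2d2c2b2a292827262524232221201f1e1d1c1b1a191817161514131211100f0e0d0c0b0a09080706050403020100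

def h8cxP_E6_3 : ℕ := 0x10000

def h8cxG_E6_3 : ℕ := 0x200

def h8cxC_E6_3 : ℕ := 0x1000300020000000000000000000000000003000400000000000000000000000200030001

def h8cxM_E6_3 : ℕ := 0xfffeffbff000000000

set_option maxRecDepth 100000 in
theorem h8cxRow_E6_3_0 : (List.range' 0 3).all (h8lvRow chevE6 h8cxS_E6 h8cxT_E6_3
    h8cxP_E6_3 h8cxG_E6_3 h8cxC_E6_3 h8cxM_E6_3 3 3) = true := by decide +kernel

theorem h8cxRows_E6_3 : ∀ k < 3, h8lvRow chevE6 h8cxS_E6 h8cxT_E6_3
    h8cxP_E6_3 h8cxG_E6_3 h8cxC_E6_3 h8cxM_E6_3 3 3 k = true := by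
  intro k hk
  exact h8rows_of_chunk _ _ _ h8cxRow_E6_3_0 k (by omega) (by omega)

set_option maxRecDepth 100000 in
theorem h8cxMask_E6_3 : h8lvMask chevE6 h8cxS_E6 h8cxM_E6_3 3 = true := by decide +kernel

set_option maxRecDepth 100000 in
theorem h8cxKeys_E6_3 : h8lvKeys chevE6 h8cxT_E6_3 3 = true := by decide +kernel

set_option maxRecDepth 100000 in
theorem h8cxDense_E6_3 : h8dense ((List.range 3).map (h8invT chevE6.nroots h8cxT_E6_3)) =
    [1, 1, 1] := by decide +kernel

end Cfsg.Agent.Lib.helper8
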