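import Mathlib
import Cfsg.Prelude.Def_ChevE6
import Cfsg.Agent.Lib.helper8.ChevTabCoxE6S

set_option autoImplicit false

namespace Cfsg.Agent.Lib.helper8

open Cfsg.Lie

def h8cxT_E6_4 : ℕ := 0x423747313046292841401d36350e2f274526253f3e1c3c3b153834330d2e2d2c0a4443242304033d1b1a193a14130f320c0b2b090822210220183912112a07061f1e0117160010054537473433462d2c44432a36350f322b4226253f3e203c3b183931300d2e29280a4140242307063d1f1e193a17160e2f0c0b2709082221051c153812111d04031b1a0114130010024542473f3e463c3b4443394140383d3a3726253433202d2c182a31301c2e292815363524231211321f1e192b17161d2f1b1a2714132221100d0a0f07060e04030c0b0109080005024637473635452d2c44432b34330f322a4229284140273c3b193a31300e2f26250a3f3e242309083d2221183917160d2e0c0b2007061f1e051d153814131c04031b1a02121100100147374636354534334443322d2c0f2b2a42313041402f3f3e2e3d29280e2726250d3c3b24230c0b3a222120391f1e0a1909081807061716051d1c381b1a15040314130212110110004642474140453c3b44433a3f3e383d393729283635272d2c192b31301d2f262515343324231413322221182a17161c2e1b1a2012111f1e100e0a0f09080d04030c0b02070600050147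42464140453f3e44433d3c3b383a3937313036352f34332e3229281d2726251c2d2c24231b1a2b2221202a1f1e151914131812111716100e0d0f0c0b0a040309080207060105004645474443423c3b41403a3f3e393d38372d2c36352b2928192734332a322625183130242317162f2221151d1413202e1f1e1c12111b1a100f0a0e09080d07060c0b0504030002014745464443423f3e41403d3c3b393a3837343336353231302e2f2d2c2a2b262520292824231f1e2722211c1d1b1a181917161512111413100f0d0e0c0b0a0706090805040301020047464544434241403f3e3d3c3b3a393837363534333231302f2e2d2c2b2a292827262524232221201f1e1d1c1b1a191817161514131211100f0e0d0c0b0a09080706050403020100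

def h8cxP_E6_4 : ℕ := 0x8060404030201010000

def h8cxG_E6_4 : ℕ := 0x2030300000202010300

def h8cxC_E6_4 : ℕ := 0x10010000500030000000000000000000c00120005000e00000000000000000008000300050010000000000000000000100001000a0008000000000000000000050001000c00060000000000000000000e00040006000c0000000000000000000500020008000a000000000000000000030008000200010000000000000000000000060004000100000000000000000002000500030001

def h8cxM_E6_4 : ℕ := 0xfffcffbbf000000000

set_option maxRecDepth 100000 in
theorem h8cxRow_E6_4_0 : (List.range' 0 10).all (h8lvRow chevE6 h8cxS_E6 h8cxT_E6_4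
    h8cxP_E6_4 h8cxG_E6_4 h8cxC_E6_4 h8cxM_E6_4 4 10) = true := by decide +kernel

theorem h8cxRows_E6_4 : ∀ k < 10, h8lvRow chevE6 h8cxS_E6 h8cxT_E6_4
    h8cxP_E6_4 h8cxG_E6_4 h8cxC_E6_4 h8cxM_E6_4 4 10 k = true := by
  intro k hk
  exact h8rows_of_chunk _ _ _ h8cxRow_E6_4_0 k (by omega) (by omega)

set_option maxRecDepth 100000 in
theorem h8cxMask_E6_4 : h8lvMask chevE6 h8cxS_E6 h8cxM_E6_4 4 = true := by decide +kernel

set_option maxRecDepth 100000 in
theorem h8cxKeys_E6_4 : h8lvKeys chevE6 h8cxT_E6_4 10 = true := by decide +kernel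

set_option maxRecDepth 100000 in
theorem h8cxDense_E6_4 : h8dense ((List.range 10).map (h8invT chevE6.nroots h8cxT_E6_4)) =
    [1, 1, 2, 2, 2, 1, 1] := by decide +kernel

end Cfsg.Agent.Lib.helper8
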