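import Mathlib
import Cfsg.Prelude.Def_ChevE6
import Cfsg.Agent.Lib.helper8.ChevTabCoxE6S

set_option autoImplicit false

namespace Cfsg.Agent.Lib.helper8

open Cfsg.Lie

def h8cxT_E6_5 : ℕ := 0x3c2d29461926451842153b370a2c282524441741143a3f12393836092b2734072a3104470043161d4013201c3e110f0e35080d3306300323221f1b3d100c32052f02212e011e1a0b3f3431472e264520421c3e370d33302524441f411b3d3c123938360c322f2d072a29044601431e1d401a18153b110f0e350b0a2c062803232217143a10092b052702211900161308413631472f294627421d40370e3530282444223f1b3d3c143a38340c322e2d092b2604450243211c3e1a19153b130f0d330b0a2c082503231f17123910072a0520011e180016110644363447322d462b452a43370f35332c2441223f1f3d3c173a39310c2f2e290927260742054021203e1e19183b160e0d300b0a28082506231b14123810041d021c011a15001311034237314730294628411d40360e352f272645253f1c3e3c153b38340d332e2d0a2c2404440343231b3d1a19143a130f0c320b092b082202212018123911072a061f011e170016100544413f473d3c463a4539434238403e3b243622341f322d172b2a311b2f2e29142726123710352120331e19182c161d1c301a1528132511230c09070f05040e020d010b0a0008060345373447332d462c442a43360f35322b2642253f203e3c183b39310d302e2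90a282407410640231f3d1e19173a160e0c2f0b0927082205211c15123811041d031b011a140013100245423f473e3c463b4439434138403d3a2637253420332d182c2a311c302e2915282412361135231f321e19172b161d1b2f1a1427132210210d0a070f06040e030c010b090008050246373647352d452c442b43340f33322a2942284127403c193b3a310e302f260a2524093f083e23223d21181739160d0c2e0b0720061f051e1d15143813041c031b021a120011100147373646353445334432432d0f2c2b2a314230412f403f2e3e3d290e2827260d25240c3c0b3b23223a21201f391e0a0919080718061705161d1c1b381a041503140213120111100046424147403c453b443a433f383e3d392937283627352d192c2b311d302f26152524143413332322322118172a161c1b2e1a1220111f101e0e0a090f08040d030c020b070006050147424146403f453e443d433c383b3a39313730362f35342e3332291d2827261c25241b2d1a2c23222b21201f2a1e151419131218111710160e0d0c0f0b040a03090208070106050046454447433c423b413a403f393e3d382d372c362b3529192827342a3332261825241731163023222f2115141d13201f2e1e121c111b101a0f0a090e08070d060c050b040003020147454446433f423e413d403c393b3a38343733363235312e302f2d2a2c2b262025241f291e28232227211c1b1d1a181719161215111410130f0d0c0e0b070a06090508040103020047464445434142403f3d3e3c3a3b3938363735343233312f302e2d2b2c2a2927282422262125231f201e1d1b1c1a191718161415131210110f0e0c0d0b090a08070506040203010047464544434241403f3e3d3c3b3a393837363534333231302f2e2d2c2b2a292827262524232221201f1e1d1c1b1a191817161514131211100f0e0d0c0b0a09080706050403020100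

def h8cxP_E6_5 : ℕ := 0xe0d0b09090807050504030202010000

def h8cxG_E6_5 : ℕ := 0x1030404020403030000020201030400

def h8cxC_E6_5 : ℕ := 0x100050007001c00030000000000000001001a0007001e00030000000000000016001c00180005000300000000000000120007001a00050014000000000000001a0001001200050003000000000000001000070003000500180000000000000018000e0016000500100000000000000014000a000300050012000000000000000700120001000c000a000000000000000700050001000e00080000000000000007001000060008000e000000000000000700050004000a000c00000000000000070003000a00040001000000000000000700020008000600010000000000000000000400050003000100000000000000020007000500030001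

def h8cxM_E6_5 : ℕ := 0xffd8fb337000000000

set_option maxRecDepth 100000 in
theorem h8cxRow_E6_5_0 : (List.range' 0 16).all (h8lvRow chevE6 h8cxS_E6 h8cxT_E6_5
    h8cxP_E6_5 h8cxG_E6_5 h8cxC_E6_5 h8cxM_E6_5 5 16) = true := by decide +kernel

theorem h8cxRows_E6_5 : ∀ k < 16, h8lvRow chevE6 h8cxS_E6 h8cxT_E6_5
    h8cxP_E6_5 h8cxG_E6_5 h8cxC_E6_5 h8cxM_E6_5 5 16 k = true := by
  intro k hk
  exact h8rows_of_chunk _ _ _ h8cxRow_E6_5_0 k (by omega) (by omega)

set_option maxRecDepth 100000 in
theorem h8cxMask_E6_5 : h8lvMask chevE6 h8cxS_E6 h8cxM_E6_5 5 = true := by decide +kernel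

set_option maxRecDepth 100000 in
theorem h8cxKeys_E6_5 : h8lvKeys chevE6 h8cxT_E6_5 16 = true := by decide +kernel

set_option maxRecDepth 100000 in
theorem h8cxDense_E6_5 : h8dense ((List.range 16).map (h8invT chevE6.nroots h8cxT_E6_5)) =
    [1, 1, 1, 2, 2, 2, 2, 2, 1, 1, 1] := by decide +kernel

end Cfsg.Agent.Lib.helper8
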