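import Mathlib
import Cfsg.Prelude.Def_ChevE7
import Cfsg.Agent.Lib.helper8.ChevCox5
import Cfsg.Agent.Lib.helper8.ChevCertPairE7

set_option autoImplicit false

namespace Cfsg.Agent.Lib.helper8

open Cfsg.Lie

def h8cxS_E7 : ℕ := h8csg_E7

theorem h8cxSchk_E7 : h8sgsChk chevE7 h8cxS_E7 = true := h8csgChk_E7

end Cfsg.Agent.Lib.helper8
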