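import Mathlib
import Cfsg.Prelude.Def_ChevE7
import Cfsg.Agent.Lib.helper8.ChevTabCoxE7S

set_option autoImplicit false

namespace Cfsg.Agent.Lib.helper8

open Cfsg.Lie

def h8cxT_E7_1 : ℕ := 0x7c7d7b7a797877767574737271706f6e6d5c5b5a595857565554534d4c4b4a49206c6b6a696867666564635251504f4e6261605f5e4847464544434241403f3e3d3c3b3a39383736351f1e1d1c1b2f2e2d2c2b1a1918171615141312115d34333231302a292827262524232221100f0e0d0c0b0a090807060504030200017d7c7b7a797877767574737271706f6e6d6c6b6a696867666564636261605f5e5d5c5b5a595857565554535251504f4e4d4c4b4a494847464544434241403f3e3d3c3b3a393837363534333231302f2e2d2c2b2a292827262524232221201f1e1d1c1b1a191817161514131211100f0e0d0c0b0a09080706050403020100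

def h8cxP_E7_1 : ℕ := 0x0

def h8cxG_E7_1 : ℕ := 0x0

def h8cxC_E7_1 : ℕ := 0x2

def h8cxM_E7_1 : ℕ := 0x3fffffffffffffff8000000000000000

set_option maxRecDepth 100000 in
theorem h8cxRow_E7_1_0 : (List.range' 0 2).all (h8lvRow chevE7 h8cxS_E7 h8cxT_E7_1
    h8cxP_E7_1 h8cxG_E7_1 h8cxC_E7_1 h8cxM_E7_1 1 2) = true := by decide +kernel

theorem h8cxRows_E7_1 : ∀ k < 2, h8lvRow chevE7 h8cxS_E7 h8cxT_E7_1
    h8cxP_E7_1 h8cxG_E7_1 h8cxC_E7_1 h8cxM_E7_1 1 2 k = true := by
  intro k hk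
  exact h8rows_of_chunk _ _ _ h8cxRow_E7_1_0 k (by omega) (by omega)

set_option maxRecDepth 100000 in
theorem h8cxMask_E7_1 : h8lvMask chevE7 h8cxS_E7 h8cxM_E7_1 1 = true := by decide +kernel

set_option maxRecDepth 100000 in
theorem h8cxKeys_E7_1 : h8lvKeys chevE7 h8cxT_E7_1 2 = true := by decide +kernel

set_option maxRecDepth 100000 in
theorem h8cxDense_E7_1 : h8dense ((List.range 2).map (h8invT chevE7.nroots h8cxT_E7_1)) =
    [1, 1] := by decide +kernel

end Cfsg.Agent.Lib.helper8
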