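import Mathlib
import Cfsg.Prelude.Def_ChevE7
import Cfsg.Agent.Lib.helper8.ChevTabCoxE7S

set_option autoImplicit false

namespace Cfsg.Agent.Lib.helper8

open Cfsg.Lie

def h8cxT_E7_2 : ℕ := 0x7d7c7b767574737a7978777271706f6e6d6c6b6a6968676261605f666564635e5d5c5b5a5958574d4c4b4a484746452f56555453495251504f44434241403f3e3d3c3b3a392e2d2c2b342a2928274e3837363533323130262524232221201f1a1918171e1d1c1b161514131211100f0e0d0c0b060504030a0908070201007d7c7b7a797877767574737271706f6e6d6c6b6a696867666564636261605f5e5d5c5b5a595857565554535251504f4e4d4c4b4a494847464544434241403f3e3d3c3b3a393837363534333231302f2e2d2c2b2a292827262524232221201f1e1d1c1b1a191817161514131211100f0e0d0c0b0a09080706050403020100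

def h8cxP_E7_2 : ℕ := 0x0

def h8cxG_E7_2 : ℕ := 0x100

def h8cxC_E7_2 : ℕ := 0x100000000000000000000000000020001

def h8cxM_E7_2 : ℕ := 0x3fffffffdfffffff8000000000000000

set_option maxRecDepth 100000 in
theorem h8cxRow_E7_2_0 : (List.range' 0 2).all (h8lvRow chevE7 h8cxS_E7 h8cxT_E7_2
    h8cxP_E7_2 h8cxG_E7_2 h8cxC_E7_2 h8cxM_E7_2 2 2) = true := by decide +kernel

theorem h8cxRows_E7_2 : ∀ k < 2, h8lvRow chevE7 h8cxS_E7 h8cxT_E7_2
    h8cxP_E7_2 h8cxG_E7_2 h8cxC_E7_2 h8cxM_E7_2 2 2 k = true := by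
  intro k hk
  exact h8rows_of_chunk _ _ _ h8cxRow_E7_2_0 k (by omega) (by omega)

set_option maxRecDepth 100000 in
theorem h8cxMask_E7_2 : h8lvMask chevE7 h8cxS_E7 h8cxM_E7_2 2 = true := by decide +kernel

set_option maxRecDepth 100000 in
theorem h8cxKeys_E7_2 : h8lvKeys chevE7 h8cxT_E7_2 2 = true := by decide +kernel

set_option maxRecDepth 100000 in
theorem h8cxDense_E7_2 : h8dense ((List.range 2).map (h8invT chevE7.nroots h8cxT_E7_2)) =
    [1, 1] := by decide +kernel

end Cfsg.Agent.Lib.helper8
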