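import Mathlib
import Cfsg.Prelude.Def_ChevE7
import Cfsg.Agent.Lib.helper8.ChevTabCoxE7S

set_option autoImplicit false

namespace Cfsg.Agent.Lib.helper8

open Cfsg.Lie

def h8cxT_E7_3 : ℕ := 0x7c7b7d7a797877767574735c5b5a5958577271706f6e6d565554534d4c4b4a20496c6b6a6968675251504f666564634e484746451f6261605f44434241403f3e3d3c3b3a391e1d1c1b5e383736352f1a1918172e2d2c2b161514131211345d333231302a292827100f0e0d0c0b2625242322210a090807060504030002017d7b7c7a797877767574736c6b6a6968677271706f6e6d666564636261605f5d5e5c5b5a5958575251504f565554534e48474645344d4c4b4a44434241403f3e3d3c3b3a393332313049383736352f2a2928272e2d2c2b2625242322211f201e1d1c1b1a191817100f0e0d0c0b1615141312110a090807060504030102007d7c7b7a797877767574737271706f6e6d6c6b6a696867666564636261605f5e5d5c5b5a595857565554535251504f4e4d4c4b4a494847464544434241403f3e3d3c3b3a393837363534333231302f2e2d2c2b2a292827262524232221201f1e1d1c1b1a191817161514131211100f0e0d0c0b0a09080706050403020100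

def h8cxP_E7_3 : ℕ := 0x10000

def h8cxG_E7_3 : ℕ := 0x200

def h8cxC_E7_3 : ℕ := 0x1000300020000000000000000000000000003000400000000000000000000000200030001

def h8cxM_E7_3 : ℕ := 0x3fffffffdfffbfff8000000000000000

set_option maxRecDepth 100000 in
theorem h8cxRow_E7_3_0 : (List.range' 0 3).all (h8lvRow chevE7 h8cxS_E7 h8cxT_E7_3
    h8cxP_E7_3 h8cxG_E7_3 h8cxC_E7_3 h8cxM_E7_3 3 3) = true := by decide +kernel

theorem h8cxRows_E7_3 : ∀ k < 3, h8lvRow chevE7 h8cxS_E7 h8cxT_E7_3
    h8cxP_E7_3 h8cxG_E7_3 h8cxC_E7_3 h8cxM_E7_3 3 3 k = true := by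
  intro k hk
  exact h8rows_of_chunk _ _ _ h8cxRow_E7_3_0 k (by omega) (by omega)

set_option maxRecDepth 100000 in
theorem h8cxMask_E7_3 : h8lvMask chevE7 h8cxS_E7 h8cxM_E7_3 3 = true := by decide +kernel

set_option maxRecDepth 100000 in
theorem h8cxKeys_E7_3 : h8lvKeys chevE7 h8cxT_E7_3 3 = true := by decide +kernel

set_option maxRecDepth 100000 in
theorem h8cxDense_E7_3 : h8dense ((List.range 3).map (h8invT chevE7.nroots h8cxT_E7_3)) =
    [1, 1, 1] := by decide +kernel

end Cfsg.Agent.Lib.helper8
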