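import Mathlib
import Cfsg.Prelude.Def_ChevE7
import Cfsg.Agent.Lib.helper8.ChevTabCoxE7S

set_option autoImplicit false

namespace Cfsg.Agent.Lib.helper8

open Cfsg.Lie

def h8cxT_E7_4 : ℕ := 0x7b7a767d6c6b6a7c5c5b5a797877525150757473484746696867345958571f4f45727170444342666564336261602a5d5655541e4e4d4c4b1a6f6e6d41403f3e3d3c100f0e633231302f5f29282720531d1c1b4a1918173b3a390d0c0b382e5e262524491615143736350a09082d2c2b06050423222101131211000703027c7a767d7271707b5c5b5a7978775655547574734d4c4b6f6e6d4959585720534a6c6b6a444342666564386261602e5e5251501e4e4847461a69686741403f3e3d3c161514633736352f5f2d2c2b1f4f1d1c1b451918173b3a39131211332a5d26252434100f0e3231300a0908292827060504232221020d0c0b000703017d7a767c7271707b6c6b6a7978776665647574736261606f6e6d5e6968675d635f5c5b5a444342565554384d4c4b2e49525150334e4847462a59585741403f3e3d3c262524533736352f4a2d2c2b344f323130452928273b3a392322211e1a201615141f100f0e1d1c1b0a0908191817060504131211020d0c0b010703007c7b767d7574737a5c5b5a7978775958577271704d4c4b6f6e6d4a5655542053496c6b6a484746696867456261602f5f525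1501f4f4443421a66656441403f3e3d3c191817633b3a392e5e2d2c2b1e4e1d1c1b38161514373635131211342a5d29282733100f0e3231300d0c0b262524060504232221030a0908000702017c7b7a7d797877765c5b5a7574735958577271705655546f6e6d534d4c4b204a496c6b6a5251506968674f6665644e634847461f454443421e62616041403f3e3d3c1d1c1b5f3b3a39385e3736351a2f1918172e1615142d2c2b13121134335d3231302a100f0e2928270d0c0b2625240a090823222107060504000302017d7b767c7574737a6c6b6a7978776968677271706261606f6e6d5f6665645d635e5c5b5a484746595857454d4c4b2f4a525150344f4443422a56555441403f3e3d3c292827533b3a392e492d2c2b334e323130382625243736352322211f1a201918171e100f0e1d1c1b0d0c0b161514060504131211030a0908010702007d7b7a7c797877766c6b6a7574736968677271706665646f6e6d636261605d5f5e5c5b5a5251505958574f5655544e534847463445444342334d4c4b41403f3e3d3c3231304a3b3a3938493736352a2f2928272e2625242d2c2b2322211f1e201d1c1b1a100f0e1918170d0c0b1615140a090813121107060504010302007d7c767b7574737a7271707978776f6e6d6c6b6a6261606968675f6665645e635d5c5b5a4d4c4b5958574a4847462f4556555449534443422e52515041403f3e3d3c2d2c2b4f3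b3a392a34292827384e37363533262524323130232221201a1f1918171e1615141d1c1b131211100f0e0605040d0c0b030a0908020701007d7c7a7b797877767271707574736f6e6d6c6b6a666564696867636261605e5f5d5c5b5a565554595857535251504e4f4d4c4b494a4443423848474641403f3e3d3c373635453b3a3933343231302e2f2d2c2b2a262524292827232221201e1f1d1c1b1a161514191817131211100f0e0a09080d0c0b07060504020301007d7c7b7a797877767574737271706f6e6d6c6b6a696867666564636261605f5e5d5c5b5a595857565554535251504f4e4d4c4b4a494847464544434241403f3e3d3c3b3a393837363534333231302f2e2d2c2b2a292827262524232221201f1e1d1c1b1a191817161514131211100f0e0d0c0b0a09080706050403020100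

def h8cxP_E7_4 : ℕ := 0x8060404030201010000

def h8cxG_E7_4 : ℕ := 0x2030300000202010300

def h8cxC_E7_4 : ℕ := 0x10010000500030000000000000000000c00120005000e00000000000000000008000300050010000000000000000000100001000a0008000000000000000000050001000c00060000000000000000000e00040006000c0000000000000000000500020008000a000000000000000000030008000200010000000000000000000000060004000100000000000000000002000500030001

def h8cxM_E7_4 : ℕ := 0x3fffffff9fffbdff8000000000000000

set_option maxRecDepth 100000 in
theorem h8cxRow_E7_4_0 : (List.range' 0 10).all (h8lvRow chevE7 h8cxS_E7 h8cxT_E7_4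
    h8cxP_E7_4 h8cxG_E7_4 h8cxC_E7_4 h8cxM_E7_4 4 10) = true := by decide +kernel

theorem h8cxRows_E7_4 : ∀ k < 10, h8lvRow chevE7 h8cxS_E7 h8cxT_E7_4
    h8cxP_E7_4 h8cxG_E7_4 h8cxC_E7_4 h8cxM_E7_4 4 10 k = true := by
  intro k hk
  exact h8rows_of_chunk _ _ _ h8cxRow_E7_4_0 k (by omega) (by omega)

set_option maxRecDepth 100000 in
theorem h8cxMask_E7_4 : h8lvMask chevE7 h8cxS_E7 h8cxM_E7_4 4 = true := by decide +kernel

set_option maxRecDepth 100000 in
theorem h8cxKeys_E7_4 : h8lvKeys chevE7 h8cxT_E7_4 10 = true := by decide +kernel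

set_option maxRecDepth 100000 in
theorem h8cxDense_E7_4 : h8dense ((List.range 10).map (h8invT chevE7.nroots h8cxT_E7_4)) =
    [1, 1, 2, 2, 2, 1, 1] := by decide +kernel

end Cfsg.Agent.Lib.helper8
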