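import Mathlib
import Cfsg.Prelude.Def_ChevE7
import Cfsg.Agent.Lib.helper8.ChevTabCoxE7S
import Cfsg.Agent.Lib.helper8.ChevTabCoxE7L7
import Cfsg.Agent.Lib.helper8.ChevTabCoxE7L6
import Cfsg.Agent.Lib.helper8.ChevTabCoxE7L5
import Cfsg.Agent.Lib.helper8.ChevTabCoxE7L4
import Cfsg.Agent.Lib.helper8.ChevTabCoxE7L3
import Cfsg.Agent.Lib.helper8.ChevTabCoxE7L2
import Cfsg.Agent.Lib.helper8.ChevTabCoxE7L1
import Cfsg.Agent.Lib.helper8.ChevBaseAll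
import Cfsg.Agent.Lib.helper8.ChevReflAll
import Cfsg.Agent.Lib.helper8.ChevBNAll2
import Cfsg.Agent.Lib.helper8.ChevOrdAll

set_option autoImplicit false

namespace Cfsg.Agent.Lib.helper8

open Cfsg.Lie

def h8cxCs_E7 : List (List ℕ) := [[1, 1], [1, 1], [1, 1, 1], [1, 1, 2, 2, 2, 1, 1], [1, 1, 1, 2, 2, 2, 2, 2, 1, 1, 1], [1, 1, 1, 1, 2, 2, 2, 2, 3, 2, 2, 2, 2, 1, 1, 1, 1], [1, 1, 1, 1, 1, 2, 2, 2, 2, 3, 3, 3, 3, 3, 3, 3, 3, 3, 3, 2, 2, 2, 2, 1, 1, 1, 1, 1]]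

set_option maxRecDepth 100000 in
theorem h8cxPoly_E7 : h8pmulL h8cxCs_E7 = h8pmulL ([2, 6, 8, 10, 12, 14, 18].map h8ones) := by decide +kernel

theorem h8poin_E7 (hA : H8ReflAll chevE7) (q : ℕ) :
    ∑ π ∈ h8Wfin chevE7 hA, q ^ h8Ninv chevE7 π =
      ([2, 6, 8, 10, 12, 14, 18].map fun d => h8pe (h8ones d) q).prod := by
  have hD : chevE7 ∈ [chevG2, chevB2, chevD4, chevF4, chevE6, chevE7, chevE8] := by simp
  have hB := h8base_all.{0} chevE7 hD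
  have hBN := h8bn_all chevE7 hD
  have hW := h8bn2_all chevE7 hD
  have hO2 := (h8ord_all chevE7 hD).2
  rw [h8chain chevE7 hA h8cxCs_E7 rfl q, h8cxPoly_E7, h8pe_pmulL, List.map_map]
  · rfl
  · intro j0 hj0 hj1
    have hr : chevE7.rank = 7 := rfl
    rw [hr] at hj1
    interval_cases j0
    · exact h8level_pe chevE7 hB hA hBN hW hO2 h8cxS_E7 h8cxSchk_E7 (by decide)
        h8cxT_E7_1 h8cxP_E7_1 h8cxG_E7_1 h8cxC_E7_1 h8cxM_E7_1 1 2 (by decide) (by decide)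
        h8cxRows_E7_1 h8cxMask_E7_1 h8cxKeys_E7_1 _ h8cxDense_E7_1 q
    · exact h8level_pe chevE7 hB hA hBN hW hO2 h8cxS_E7 h8cxSchk_E7 (by decide)
        h8cxT_E7_2 h8cxP_E7_2 h8cxG_E7_2 h8cxC_E7_2 h8cxM_E7_2 2 2 (by decide) (by decide)
        h8cxRows_E7_2 h8cxMask_E7_2 h8cxKeys_E7_2 _ h8cxDense_E7_2 q
    · exact h8level_pe chevE7 hB hA hBN hW hO2 h8cxS_E7 h8cxSchk_E7 (by decide)
        h8cxT_E7_3 h8cxP_E7_3 h8cxG_E7_3 h8cxC_E7_3 h8cxM_E7_3 3 3 (by decide) (by decide)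
        h8cxRows_E7_3 h8cxMask_E7_3 h8cxKeys_E7_3 _ h8cxDense_E7_3 q
    · exact h8level_pe chevE7 hB hA hBN hW hO2 h8cxS_E7 h8cxSchk_E7 (by decide)
        h8cxT_E7_4 h8cxP_E7_4 h8cxG_E7_4 h8cxC_E7_4 h8cxM_E7_4 4 10 (by decide) (by decide)
        h8cxRows_E7_4 h8cxMask_E7_4 h8cxKeys_E7_4 _ h8cxDense_E7_4 q
    · exact h8level_pe chevE7 hB hA hBN hW hO2 h8cxS_E7 h8cxSchk_E7 (by decide)
        h8cxT_E7_5 h8cxP_E7_5 h8cxG_E7_5 h8cxC_E7_5 h8cxM_E7_5 5 16 (by decide) (by decide)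
        h8cxRows_E7_5 h8cxMask_E7_5 h8cxKeys_E7_5 _ h8cxDense_E7_5 q
    · exact h8level_pe chevE7 hB hA hBN hW hO2 h8cxS_E7 h8cxSchk_E7 (by decide)
        h8cxT_E7_6 h8cxP_E7_6 h8cxG_E7_6 h8cxC_E7_6 h8cxM_E7_6 6 27 (by decide) (by decide)
        h8cxRows_E7_6 h8cxMask_E7_6 h8cxKeys_E7_6 _ h8cxDense_E7_6 q
    · exact h8level_pe chevE7 hB hA hBN hW hO2 h8cxS_E7 h8cxSchk_E7 (by decide)
        h8cxT_E7_7 h8cxP_E7_7 h8cxG_E7_7 h8cxC_E7_7 h8cxM_E7_7 7 56 (by decide) (by decide)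
        h8cxRows_E7_7 h8cxMask_E7_7 h8cxKeys_E7_7 _ h8cxDense_E7_7 q

end Cfsg.Agent.Lib.helper8
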