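import Mathlib
import Cfsg.Prelude.Def_ChevE8
import Cfsg.Agent.Lib.helper8.ChevCox5
import Cfsg.Agent.Lib.helper8.ChevCertPairE8

set_option autoImplicit false

namespace Cfsg.Agent.Lib.helper8

open Cfsg.Lie

def h8cxS_E8 : ℕ := h8csg_E8

theorem h8cxSchk_E8 : h8sgsChk chevE8 h8cxS_E8 = true := h8csgChk_E8

end Cfsg.Agent.Lib.helper8
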