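import Mathlib
import Cfsg.Prelude.Def_ChevE8
import Cfsg.Agent.Lib.helper8.ChevTabCoxE8S

set_option autoImplicit false

namespace Cfsg.Agent.Lib.helper8

open Cfsg.Lie

def h8cxT_E8_2 : ℕ := 0xefeeedecebe8e7eae9e6e5e4e3e2e0e1dfdedddcdbdad9d8d7d6cbcac9c8c7c6c5c4c3c2d5d4d3d2d1d0cfcecdccc1c0bfbebdbcbbbab9b8b7b6b5b4b3b2b1b0afaea8a7a6a5a4adacabaaa9a3a2a1a09f9e9d9c9b9a99988c8b8a89888685848382629796959493879291908f8e81807f7e7d7c7b7a797877767574737271706f6e61605f5e5d685c5b5a59588d6d6c6b6a69676665646357565554535251504f4e4d4c46454443424b4a49484741403f3e3d3c3b3a393837363534333231302f2e232221201f1e1d1c1b1a2d2c2b2a292827262524191817161514131211100e0f0d0c0b0a09060508070403020100efeeedecebeae9e8e7e6e5e4e3e2e1e0dfdedddcdbdad9d8d7d6d5d4d3d2d1d0cfcecdcccbcac9c8c7c6c5c4c3c2c1c0bfbebdbcbbbab9b8b7b6b5b4b3b2b1b0afaeadacabaaa9a8a7a6a5a4a3a2a1a09f9e9d9c9b9a999897969594939291908f8e8d8c8b8a898887868584838281807f7e7d7c7b7a797877767574737271706f6e6d6c6b6a696867666564636261605f5e5d5c5b5a595857565554535251504f4e4d4c4b4a494847464544434241403f3e3d3c3b3a393837363534333231302f2e2d2c2b2a292827262524232221201f1e1d1c1b1a191817161514131211100f0e0d0c0b0a09080706050403020100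

def h8cxP_E8_2 : ℕ := 0x0

def h8cxG_E8_2 : ℕ := 0x100

def h8cxC_E8_2 : ℕ := 0x100000000000000000000000000020001

def h8cxM_E8_2 : ℕ := 0xfffffffffffffffffffbffffffffff000000000000000000000000000000

set_option maxRecDepth 100000 in
theorem h8cxRow_E8_2_0 : (List.range' 0 2).all (h8lvRow chevE8 h8cxS_E8 h8cxT_E8_2
    h8cxP_E8_2 h8cxG_E8_2 h8cxC_E8_2 h8cxM_E8_2 2 2) = true := by decide +kernel

theorem h8cxRows_E8_2 : ∀ k < 2, h8lvRow chevE8 h8cxS_E8 h8cxT_E8_2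
    h8cxP_E8_2 h8cxG_E8_2 h8cxC_E8_2 h8cxM_E8_2 2 2 k = true := by
  intro k hk
  exact h8rows_of_chunk _ _ _ h8cxRow_E8_2_0 k (by omega) (by omega)

set_option maxRecDepth 100000 in
theorem h8cxMask_E8_2 : h8lvMask chevE8 h8cxS_E8 h8cxM_E8_2 2 = true := by decide +kernel

set_option maxRecDepth 100000 in
theorem h8cxKeys_E8_2 : h8lvKeys chevE8 h8cxT_E8_2 2 = true := by decide +kernel

set_option maxRecDepth 100000 in
theorem h8cxDense_E8_2 : h8dense ((List.range 2).map (h8invT chevE8.nroots h8cxT_E8_2)) =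
    [1, 1] := by decide +kernel

end Cfsg.Agent.Lib.helper8
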