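import Mathlib
import Cfsg.Prelude.Def_ChevE8
import Cfsg.Agent.Lib.helper8.ChevTabCoxE8L7D

set_option autoImplicit false

namespace Cfsg.Agent.Lib.helper8

open Cfsg.Lie

set_option maxRecDepth 100000 in
theorem h8cxRow_E8_7_0 : (List.range' 0 5).all (h8lvRow chevE8 h8cxS_E8 h8cxT_E8_7
    h8cxP_E8_7 h8cxG_E8_7 h8cxC_E8_7 h8cxM_E8_7 7 56) = true := by decide +kernel

set_option maxRecDepth 100000 in
theorem h8cxRow_E8_7_1 : (List.range' 5 5).all (h8lvRow chevE8 h8cxS_E8 h8cxT_E8_7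
    h8cxP_E8_7 h8cxG_E8_7 h8cxC_E8_7 h8cxM_E8_7 7 56) = true := by decide +kernel

set_option maxRecDepth 100000 in
theorem h8cxRow_E8_7_2 : (List.range' 10 5).all (h8lvRow chevE8 h8cxS_E8 h8cxT_E8_7
    h8cxP_E8_7 h8cxG_E8_7 h8cxC_E8_7 h8cxM_E8_7 7 56) = true := by decide +kernel

set_option maxRecDepth 100000 in
theorem h8cxRow_E8_7_3 : (List.range' 15 5).all (h8lvRow chevE8 h8cxS_E8 h8cxT_E8_7
    h8cxP_E8_7 h8cxG_E8_7 h8cxC_E8_7 h8cxM_E8_7 7 56) = true := by decide +kernel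

set_option maxRecDepth 100000 in
theorem h8cxRow_E8_7_4 : (List.range' 20 5).all (h8lvRow chevE8 h8cxS_E8 h8cxT_E8_7
    h8cxP_E8_7 h8cxG_E8_7 h8cxC_E8_7 h8cxM_E8_7 7 56) = true := by decide +kernel

set_option maxRecDepth 100000 in
theorem h8cxRow_E8_7_5 : (List.range' 25 5).all (h8lvRow chevE8 h8cxS_E8 h8cxT_E8_7
    h8cxP_E8_7 h8cxG_E8_7 h8cxC_E8_7 h8cxM_E8_7 7 56) = true := by decide +kernel


end Cfsg.Agent.Lib.helper8
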