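import Mathlib
import Cfsg.Prelude.Def_ChevE8
import Cfsg.Agent.Lib.helper8.ChevTabCoxE8L7D

set_option autoImplicit false

namespace Cfsg.Agent.Lib.helper8

open Cfsg.Lie

set_option maxRecDepth 100000 in
theorem h8cxRow_E8_7_6 : (List.range' 30 5).all (h8lvRow chevE8 h8cxS_E8 h8cxT_E8_7
    h8cxP_E8_7 h8cxG_E8_7 h8cxC_E8_7 h8cxM_E8_7 7 56) = true := by decide +kernel

set_option maxRecDepth 100000 in
theorem h8cxRow_E8_7_7 : (List.range' 35 5).all (h8lvRow chevE8 h8cxS_E8 h8cxT_E8_7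
    h8cxP_E8_7 h8cxG_E8_7 h8cxC_E8_7 h8cxM_E8_7 7 56) = true := by decide +kernel

set_option maxRecDepth 100000 in
theorem h8cxRow_E8_7_8 : (List.range' 40 5).all (h8lvRow chevE8 h8cxS_E8 h8cxT_E8_7
    h8cxP_E8_7 h8cxG_E8_7 h8cxC_E8_7 h8cxM_E8_7 7 56) = true := by decide +kernel

set_option maxRecDepth 100000 in
theorem h8cxRow_E8_7_9 : (List.range' 45 5).all (h8lvRow chevE8 h8cxS_E8 h8cxT_E8_7
    h8cxP_E8_7 h8cxG_E8_7 h8cxC_E8_7 h8cxM_E8_7 7 56) = true := by decide +kernel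

set_option maxRecDepth 100000 in
theorem h8cxRow_E8_7_10 : (List.range' 50 5).all (h8lvRow chevE8 h8cxS_E8 h8cxT_E8_7
    h8cxP_E8_7 h8cxG_E8_7 h8cxC_E8_7 h8cxM_E8_7 7 56) = true := by decide +kernel

set_option maxRecDepth 100000 in
theorem h8cxRow_E8_7_11 : (List.range' 55 1).all (h8lvRow chevE8 h8cxS_E8 h8cxT_E8_7
    h8cxP_E8_7 h8cxG_E8_7 h8cxC_E8_7 h8cxM_E8_7 7 56) = true := by decide +kernel


end Cfsg.Agent.Lib.helper8
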