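import Mathlib
import Cfsg.Prelude.Def_ChevE8
import Cfsg.Agent.Lib.helper8.ChevTabCoxE8L7R0
import Cfsg.Agent.Lib.helper8.ChevTabCoxE8L7R1

set_option autoImplicit false

namespace Cfsg.Agent.Lib.helper8

open Cfsg.Lie

theorem h8cxRows_E8_7 : ∀ k < 56, h8lvRow chevE8 h8cxS_E8 h8cxT_E8_7
    h8cxP_E8_7 h8cxG_E8_7 h8cxC_E8_7 h8cxM_E8_7 7 56 k = true := by
  intro k hk
  by_cases h0 : k < 5
  · exact h8rows_of_chunk _ _ _ h8cxRow_E8_7_0 k (by omega) (by omega)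
  by_cases h1 : k < 10
  · exact h8rows_of_chunk _ _ _ h8cxRow_E8_7_1 k (by omega) (by omega)
  by_cases h2 : k < 15
  · exact h8rows_of_chunk _ _ _ h8cxRow_E8_7_2 k (by omega) (by omega)
  by_cases h3 : k < 20
  · exact h8rows_of_chunk _ _ _ h8cxRow_E8_7_3 k (by omega) (by omega)
  by_cases h4 : k < 25
  · exact h8rows_of_chunk _ _ _ h8cxRow_E8_7_4 k (by omega) (by omega)
  by_cases h5 : k < 30
  · exact h8rows_of_chunk _ _ _ h8cxRow_E8_7_5 k (by omega) (by omega)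
  by_cases h6 : k < 35
  · exact h8rows_of_chunk _ _ _ h8cxRow_E8_7_6 k (by omega) (by omega)
  by_cases h7 : k < 40
  · exact h8rows_of_chunk _ _ _ h8cxRow_E8_7_7 k (by omega) (by omega)
  by_cases h8 : k < 45
  · exact h8rows_of_chunk _ _ _ h8cxRow_E8_7_8 k (by omega) (by omega)
  by_cases h9 : k < 50
  · exact h8rows_of_chunk _ _ _ h8cxRow_E8_7_9 k (by omega) (by omega)
  by_cases h10 : k < 55
  · exact h8rows_of_chunk _ _ _ h8cxRow_E8_7_10 k (by omega) (by omega)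
  exact h8rows_of_chunk _ _ _ h8cxRow_E8_7_11 k (by omega) (by omega)

set_option maxRecDepth 100000 in
theorem h8cxMask_E8_7 : h8lvMask chevE8 h8cxS_E8 h8cxM_E8_7 7 = true := by decide +kernel

set_option maxRecDepth 100000 in
theorem h8cxKeys_E8_7 : h8lvKeys chevE8 h8cxT_E8_7 56 = true := by decide +kernel

set_option maxRecDepth 100000 in
theorem h8cxDense_E8_7 : h8dense ((List.range 56).map (h8invT chevE8.nroots h8cxT_E8_7)) =
    [1, 1, 1, 1, 1, 2, 2, 2, 2, 3, 3, 3, 3, 3, 3, 3, 3, 3, 3, 2, 2, 2, 2, 1, 1, 1, 1, 1] := by decide +kernel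

end Cfsg.Agent.Lib.helper8
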