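import Mathlib
import Cfsg.Prelude.Def_ChevE8
import Cfsg.Agent.Lib.helper8.ChevTabCoxE8L8D

set_option autoImplicit false

namespace Cfsg.Agent.Lib.helper8

open Cfsg.Lie

set_option maxRecDepth 100000 in
theorem h8cxRow_E8_8_24 : (List.range' 120 5).all (h8lvRow chevE8 h8cxS_E8 h8cxT_E8_8
    h8cxP_E8_8 h8cxG_E8_8 h8cxC_E8_8 h8cxM_E8_8 8 240) = true := by decide +kernel

set_option maxRecDepth 100000 in
theorem h8cxRow_E8_8_25 : (List.range' 125 5).all (h8lvRow chevE8 h8cxS_E8 h8cxT_E8_8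
    h8cxP_E8_8 h8cxG_E8_8 h8cxC_E8_8 h8cxM_E8_8 8 240) = true := by decide +kernel

set_option maxRecDepth 100000 in
theorem h8cxRow_E8_8_26 : (List.range' 130 5).all (h8lvRow chevE8 h8cxS_E8 h8cxT_E8_8
    h8cxP_E8_8 h8cxG_E8_8 h8cxC_E8_8 h8cxM_E8_8 8 240) = true := by decide +kernel

set_option maxRecDepth 100000 in
theorem h8cxRow_E8_8_27 : (List.range' 135 5).all (h8lvRow chevE8 h8cxS_E8 h8cxT_E8_8
    h8cxP_E8_8 h8cxG_E8_8 h8cxC_E8_8 h8cxM_E8_8 8 240) = true := by decide +kernel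

set_option maxRecDepth 100000 in
theorem h8cxRow_E8_8_28 : (List.range' 140 5).all (h8lvRow chevE8 h8cxS_E8 h8cxT_E8_8
    h8cxP_E8_8 h8cxG_E8_8 h8cxC_E8_8 h8cxM_E8_8 8 240) = true := by decide +kernel

set_option maxRecDepth 100000 in
theorem h8cxRow_E8_8_29 : (List.range' 145 5).all (h8lvRow chevE8 h8cxS_E8 h8cxT_E8_8
    h8cxP_E8_8 h8cxG_E8_8 h8cxC_E8_8 h8cxM_E8_8 8 240) = true := by decide +kernel


end Cfsg.Agent.Lib.helper8
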