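import Mathlib
import Cfsg.Prelude.Def_ChevE8
import Cfsg.Agent.Lib.helper8.ChevTabCoxE8L8R0
import Cfsg.Agent.Lib.helper8.ChevTabCoxE8L8R1
import Cfsg.Agent.Lib.helper8.ChevTabCoxE8L8R2
import Cfsg.Agent.Lib.helper8.ChevTabCoxE8L8R3
import Cfsg.Agent.Lib.helper8.ChevTabCoxE8L8R4
import Cfsg.Agent.Lib.helper8.ChevTabCoxE8L8R5
import Cfsg.Agent.Lib.helper8.ChevTabCoxE8L8R6
import Cfsg.Agent.Lib.helper8.ChevTabCoxE8L8R7

set_option autoImplicit false

namespace Cfsg.Agent.Lib.helper8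

open Cfsg.Lie

theorem h8cxRows_E8_8 : ∀ k < 240, h8lvRow chevE8 h8cxS_E8 h8cxT_E8_8
    h8cxP_E8_8 h8cxG_E8_8 h8cxC_E8_8 h8cxM_E8_8 8 240 k = true := by
  intro k hk
  by_cases h0 : k < 5
  · exact h8rows_of_chunk _ _ _ h8cxRow_E8_8_0 k (by omega) (by omega)
  by_cases h1 : k < 10
  · exact h8rows_of_chunk _ _ _ h8cxRow_E8_8_1 k (by omega) (by omega)
  by_cases h2 : k < 15
  · exact h8rows_of_chunk _ _ _ h8cxRow_E8_8_2 k (by omega) (by omega)
  by_cases h3 : k < 20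
  · exact h8rows_of_chunk _ _ _ h8cxRow_E8_8_3 k (by omega) (by omega)
  by_cases h4 : k < 25
  · exact h8rows_of_chunk _ _ _ h8cxRow_E8_8_4 k (by omega) (by omega)
  by_cases h5 : k < 30
  · exact h8rows_of_chunk _ _ _ h8cxRow_E8_8_5 k (by omega) (by omega)
  by_cases h6 : k < 35
  · exact h8rows_of_chunk _ _ _ h8cxRow_E8_8_6 k (by omega) (by omega)
  by_cases h7 : k < 40
  · exact h8rows_of_chunk _ _ _ h8cxRow_E8_8_7 k (by omega) (by omega)
  by_cases h8 : k < 45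
  · exact h8rows_of_chunk _ _ _ h8cxRow_E8_8_8 k (by omega) (by omega)
  by_cases h9 : k < 50
  · exact h8rows_of_chunk _ _ _ h8cxRow_E8_8_9 k (by omega) (by omega)
  by_cases h10 : k < 55
  · exact h8rows_of_chunk _ _ _ h8cxRow_E8_8_10 k (by omega) (by omega)
  by_cases h11 : k < 60
  · exact h8rows_of_chunk _ _ _ h8cxRow_E8_8_11 k (by omega) (by omega)
  by_cases h12 : k < 65
  · exact h8rows_of_chunk _ _ _ h8cxRow_E8_8_12 k (by omega) (by omega)
  by_cases h13 : k < 70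
  · exact h8rows_of_chunk _ _ _ h8cxRow_E8_8_13 k (by omega) (by omega)
  by_cases h14 : k < 75
  · exact h8rows_of_chunk _ _ _ h8cxRow_E8_8_14 k (by omega) (by omega)
  by_cases h15 : k < 80
  · exact h8rows_of_chunk _ _ _ h8cxRow_E8_8_15 k (by omega) (by omega)
  by_cases h16 : k < 85
  · exact h8rows_of_chunk _ _ _ h8cxRow_E8_8_16 k (by omega) (by omega)
  by_cases h17 : k < 90
  · exact h8rows_of_chunk _ _ _ h8cxRow_E8_8_17 k (by omega) (by omega)
  by_cases h18 : k < 95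
  · exact h8rows_of_chunk _ _ _ h8cxRow_E8_8_18 k (by omega) (by omega)
  by_cases h19 : k < 100
  · exact h8rows_of_chunk _ _ _ h8cxRow_E8_8_19 k (by omega) (by omega)
  by_cases h20 : k < 105
  · exact h8rows_of_chunk _ _ _ h8cxRow_E8_8_20 k (by omega) (by omega)
  by_cases h21 : k < 110
  · exact h8rows_of_chunk _ _ _ h8cxRow_E8_8_21 k (by omega) (by omega)
  by_cases h22 : k < 115
  · exact h8rows_of_chunk _ _ _ h8cxRow_E8_8_22 k (by omega) (by omega)
  by_cases h23 : k < 120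
  · exact h8rows_of_chunk _ _ _ h8cxRow_E8_8_23 k (by omega) (by omega)
  by_cases h24 : k < 125
  · exact h8rows_of_chunk _ _ _ h8cxRow_E8_8_24 k (by omega) (by omega)
  by_cases h25 : k < 130
  · exact h8rows_of_chunk _ _ _ h8cxRow_E8_8_25 k (by omega) (by omega)
  by_cases h26 : k < 135
  · exact h8rows_of_chunk _ _ _ h8cxRow_E8_8_26 k (by omega) (by omega)
  by_cases h27 : k < 140
  · exact h8rows_of_chunk _ _ _ h8cxRow_E8_8_27 k (by omega) (by omega)
  by_cases h28 : k < 145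
  · exact h8rows_of_chunk _ _ _ h8cxRow_E8_8_28 k (by omega) (by omega)
  by_cases h29 : k < 150
  · exact h8rows_of_chunk _ _ _ h8cxRow_E8_8_29 k (by omega) (by omega)
  by_cases h30 : k < 155
  · exact h8rows_of_chunk _ _ _ h8cxRow_E8_8_30 k (by omega) (by omega)
  by_cases h31 : k < 160
  · exact h8rows_of_chunk _ _ _ h8cxRow_E8_8_31 k (by omega) (by omega)
  by_cases h32 : k < 165
  · exact h8rows_of_chunk _ _ _ h8cxRow_E8_8_32 k (by omega) (by omega)
  by_cases h33 : k < 170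
  · exact h8rows_of_chunk _ _ _ h8cxRow_E8_8_33 k (by omega) (by omega)
  by_cases h34 : k < 175
  · exact h8rows_of_chunk _ _ _ h8cxRow_E8_8_34 k (by omega) (by omega)
  by_cases h35 : k < 180
  · exact h8rows_of_chunk _ _ _ h8cxRow_E8_8_35 k (by omega) (by omega)
  by_cases h36 : k < 185
  · exact h8rows_of_chunk _ _ _ h8cxRow_E8_8_36 k (by omega) (by omega)
  by_cases h37 : k < 190
  · exact h8rows_of_chunk _ _ _ h8cxRow_E8_8_37 k (by omega) (by omega)
  by_cases h38 : k < 195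
  · exact h8rows_of_chunk _ _ _ h8cxRow_E8_8_38 k (by omega) (by omega)
  by_cases h39 : k < 200
  · exact h8rows_of_chunk _ _ _ h8cxRow_E8_8_39 k (by omega) (by omega)
  by_cases h40 : k < 205
  · exact h8rows_of_chunk _ _ _ h8cxRow_E8_8_40 k (by omega) (by omega)
  by_cases h41 : k < 210
  · exact h8rows_of_chunk _ _ _ h8cxRow_E8_8_41 k (by omega) (by omega)
  by_cases h42 : k < 215
  · exact h8rows_of_chunk _ _ _ h8cxRow_E8_8_42 k (by omega) (by omega)
  by_cases h43 : k < 220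
  · exact h8rows_of_chunk _ _ _ h8cxRow_E8_8_43 k (by omega) (by omega)
  by_cases h44 : k < 225
  · exact h8rows_of_chunk _ _ _ h8cxRow_E8_8_44 k (by omega) (by omega)
  by_cases h45 : k < 230
  · exact h8rows_of_chunk _ _ _ h8cxRow_E8_8_45 k (by omega) (by omega)
  by_cases h46 : k < 235
  · exact h8rows_of_chunk _ _ _ h8cxRow_E8_8_46 k (by omega) (by omega)
  exact h8rows_of_chunk _ _ _ h8cxRow_E8_8_47 k (by omega) (by omega)

set_option maxRecDepth 100000 in
theorem h8cxMask_E8_8 : h8lvMask chevE8 h8cxS_E8 h8cxM_E8_8 8 = true := by decide +kernel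

set_option maxRecDepth 100000 in
theorem h8cxKeys_E8_8 : h8lvKeys chevE8 h8cxT_E8_8 240 = true := by decide +kernel

set_option maxRecDepth 100000 in
theorem h8cxDense_E8_8 : h8dense ((List.range 240).map (h8invT chevE8.nroots h8cxT_E8_8)) =
    [1, 1, 1, 1, 1, 1, 2, 2, 2, 2, 3, 3, 4, 4, 4, 4, 5, 5, 6, 6, 6, 6, 7, 7, 7, 7, 7, 7, 8, 8, 7, 7, 7, 7, 7, 7, 6, 6, 6, 6, 5, 5, 4, 4, 4, 4, 3, 3, 2, 2, 2, 2, 1, 1, 1, 1, 1, 1] := by decide +kernel

end Cfsg.Agent.Lib.helper8
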