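import Mathlib
import Cfsg.Prelude.Def_ChevE8
import Cfsg.Agent.Lib.helper8.ChevTabCoxE8S
import Cfsg.Agent.Lib.helper8.ChevTabCoxE8L8
import Cfsg.Agent.Lib.helper8.ChevTabCoxE8L7
import Cfsg.Agent.Lib.helper8.ChevTabCoxE8L6
import Cfsg.Agent.Lib.helper8.ChevTabCoxE8L5
import Cfsg.Agent.Lib.helper8.ChevTabCoxE8L4
import Cfsg.Agent.Lib.helper8.ChevTabCoxE8L3
import Cfsg.Agent.Lib.helper8.ChevTabCoxE8L2
import Cfsg.Agent.Lib.helper8.ChevTabCoxE8L1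
import Cfsg.Agent.Lib.helper8.ChevBaseAll
import Cfsg.Agent.Lib.helper8.ChevReflAll
import Cfsg.Agent.Lib.helper8.ChevBNAll2
import Cfsg.Agent.Lib.helper8.ChevOrdAll

set_option autoImplicit false

namespace Cfsg.Agent.Lib.helper8

open Cfsg.Lie

def h8cxCs_E8 : List (List ℕ) := [[1, 1], [1, 1], [1, 1, 1], [1, 1, 2, 2, 2, 1, 1], [1, 1, 1, 2, 2, 2, 2, 2, 1, 1, 1], [1, 1, 1, 1, 2, 2, 2, 2, 3, 2, 2, 2, 2, 1, 1, 1, 1], [1, 1, 1, 1, 1, 2, 2, 2, 2, 3, 3, 3, 3, 3, 3, 3, 3, 3, 3, 2, 2, 2, 2, 1, 1, 1, 1, 1], [1, 1, 1, 1, 1, 1, 2, 2, 2, 2, 3, 3, 4, 4, 4, 4, 5, 5, 6, 6, 6, 6, 7, 7, 7, 7, 7, 7, 8, 8, 7, 7, 7, 7, 7, 7, 6, 6, 6, 6, 5, 5, 4, 4, 4, 4, 3, 3, 2, 2, 2, 2, 1, 1, 1, 1, 1, 1]]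

set_option maxRecDepth 100000 in
theorem h8cxPoly_E8 : h8pmulL h8cxCs_E8 = h8pmulL ([2, 8, 12, 14, 18, 20, 24, 30].map h8ones) := by decide +kernel

theorem h8poin_E8 (hA : H8ReflAll chevE8) (q : ℕ) :
    ∑ π ∈ h8Wfin chevE8 hA, q ^ h8Ninv chevE8 π =
      ([2, 8, 12, 14, 18, 20, 24, 30].map fun d => h8pe (h8ones d) q).prod := by
  have hD : chevE8 ∈ [chevG2, chevB2, chevD4, chevF4, chevE6, chevE7, chevE8] := by simp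
  have hB := h8base_all.{0} chevE8 hD
  have hBN := h8bn_all chevE8 hD
  have hW := h8bn2_all chevE8 hD
  have hO2 := (h8ord_all chevE8 hD).2
  rw [h8chain chevE8 hA h8cxCs_E8 rfl q, h8cxPoly_E8, h8pe_pmulL, List.map_map]
  · rfl
  · intro j0 hj0 hj1
    have hr : chevE8.rank = 8 := rfl
    rw [hr] at hj1
    interval_cases j0
    · exact h8level_pe chevE8 hB hA hBN hW hO2 h8cxS_E8 h8cxSchk_E8 (by decide)
        h8cxT_E8_1 h8cxP_E8_1 h8cxG_E8_1 h8cxC_E8_1 h8cxM_E8_1 1 2 (by decide) (by decide)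
        h8cxRows_E8_1 h8cxMask_E8_1 h8cxKeys_E8_1 _ h8cxDense_E8_1 q
    · exact h8level_pe chevE8 hB hA hBN hW hO2 h8cxS_E8 h8cxSchk_E8 (by decide)
        h8cxT_E8_2 h8cxP_E8_2 h8cxG_E8_2 h8cxC_E8_2 h8cxM_E8_2 2 2 (by decide) (by decide)
        h8cxRows_E8_2 h8cxMask_E8_2 h8cxKeys_E8_2 _ h8cxDense_E8_2 q
    · exact h8level_pe chevE8 hB hA hBN hW hO2 h8cxS_E8 h8cxSchk_E8 (by decide)
        h8cxT_E8_3 h8cxP_E8_3 h8cxG_E8_3 h8cxC_E8_3 h8cxM_E8_3 3 3 (by decide) (by decide)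
        h8cxRows_E8_3 h8cxMask_E8_3 h8cxKeys_E8_3 _ h8cxDense_E8_3 q
    · exact h8level_pe chevE8 hB hA hBN hW hO2 h8cxS_E8 h8cxSchk_E8 (by decide)
        h8cxT_E8_4 h8cxP_E8_4 h8cxG_E8_4 h8cxC_E8_4 h8cxM_E8_4 4 10 (by decide) (by decide)
        h8cxRows_E8_4 h8cxMask_E8_4 h8cxKeys_E8_4 _ h8cxDense_E8_4 q
    · exact h8level_pe chevE8 hB hA hBN hW hO2 h8cxS_E8 h8cxSchk_E8 (by decide)
        h8cxT_E8_5 h8cxP_E8_5 h8cxG_E8_5 h8cxC_E8_5 h8cxM_E8_5 5 16 (by decide) (by decide)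
        h8cxRows_E8_5 h8cxMask_E8_5 h8cxKeys_E8_5 _ h8cxDense_E8_5 q
    · exact h8level_pe chevE8 hB hA hBN hW hO2 h8cxS_E8 h8cxSchk_E8 (by decide)
        h8cxT_E8_6 h8cxP_E8_6 h8cxG_E8_6 h8cxC_E8_6 h8cxM_E8_6 6 27 (by decide) (by decide)
        h8cxRows_E8_6 h8cxMask_E8_6 h8cxKeys_E8_6 _ h8cxDense_E8_6 q
    · exact h8level_pe chevE8 hB hA hBN hW hO2 h8cxS_E8 h8cxSchk_E8 (by decide)
        h8cxT_E8_7 h8cxP_E8_7 h8cxG_E8_7 h8cxC_E8_7 h8cxM_E8_7 7 56 (by decide) (by decide)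
        h8cxRows_E8_7 h8cxMask_E8_7 h8cxKeys_E8_7 _ h8cxDense_E8_7 q
    · exact h8level_pe chevE8 hB hA hBN hW hO2 h8cxS_E8 h8cxSchk_E8 (by decide)
        h8cxT_E8_8 h8cxP_E8_8 h8cxG_E8_8 h8cxC_E8_8 h8cxM_E8_8 8 240 (by decide) (by decide)
        h8cxRows_E8_8 h8cxMask_E8_8 h8cxKeys_E8_8 _ h8cxDense_E8_8 q

end Cfsg.Agent.Lib.helper8
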