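import Mathlib
import Cfsg.Agent.Lib.helper17.SLP.Defs
import Cfsg.Agent.Lib.helper3.SP4.Defs
import Cfsg.Agent.Lib.Helper28.SP4R3
import Cfsg.Agent.Lib.Helper22.SU4.Defs

/-!
# Project SU4 (designer helper22), row P4 `hypT_iff_rel` (helper8), VERBATIM (port of `Helper9.SP4P2` `hyp_iff_rel`).
-/

set_option autoImplicit false

namespace Cfsg.Agent.Lib.Helper22.SU4

open Cfsg.Agent.Lib.helper17.SLP Cfsg.Agent.Lib.helper3.SP4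

universe u v

/-- P4 [M]  Model SP4 P4 `hyp_iff_rel` (`Helper9.SP4P2`). -/
theorem hypT_iff_rel {F : Type u} {K : Type u} [Field F] [Field K] {G : Type v} [Group G] (D : Tw F K) (ζ : Fˣ)
    (ζ₀ : Kˣ) (e : ℕ) (he : D.ιu ζ₀ = ζ ^ e) (φa : Matrix.SpecialLinearGroup (Fin 2) F →* G)
    (φb : Matrix.SpecialLinearGroup (Fin 2) K →* G) :
    HypT D ζ ζ₀ φa φb ↔
      (relS1 (rh φa ζ) (rh φb ζ₀) = 1 ∧ relT2 (rx φa 1) (rh φb ζ₀) (rx φa (D.ι (ζ₀ : K))) = 1 ∧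
        relT3 (rh φa ζ) (rx φb 1) (rx φb (ζ₀ : K)) = 1 ∧ relT4 (rh φa ζ) (rn φa) (rh φb ζ₀) e = 1 ∧
        relT5 (rh φa ζ) (rh φb ζ₀) (rn φb) = 1 ∧ relS6 (rn φa) (rn φb) = 1 ∧
        relS7 (rx φa 1) (rn φa) (rn φb) = 1 ∧ relS8 (rn φa) (rx φb 1) (rn φb) = 1 ∧
        relS9 (rx φa 1) (rn φa) (rx φb 1) (rn φb) = 1 ∧ relS10 (rx φa 1) (rn φa) (rx φb 1) (rn φb) = 1 ∧
        relT10b (rx φa 1) (rn φa) (rn φb) (rx φa (ζ : F)) (rx φb (D.tr (ζ : F))) = 1 ∧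
        relS11 (rx φa 1) (rn φa) (rx φb 1) = 1 ∧ relS12 (rn φa) (rx φb 1) = 1) := by
  have hpow : rh φa (D.ιu ζ₀) = rh φa ζ ^ e := by
    rw [he, ← zpow_natCast, (r_basic φa).2.2.2.2.2.2.1, zpow_natCast]
  have e1 : relS1 (rh φa ζ) (rh φb ζ₀) = 1 ↔ Commute (rh φa ζ) (rh φb ζ₀) := by
    unfold relS1; exact cm_eq_one_iff _ _
  have e2 : relT2 (rx φa 1) (rh φb ζ₀) (rx φa (D.ι (ζ₀ : K))) = 1 ↔
      (rh φb ζ₀)⁻¹ * rx φa 1 * rh φb ζ₀ = rx φa (D.ι (ζ₀ : K)) := by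
    unfold relT2; exact mul_inv_eq_one
  have e3 : relT3 (rh φa ζ) (rx φb 1) (rx φb (ζ₀ : K)) = 1 ↔
      (rh φa ζ)⁻¹ * rx φb 1 * rh φa ζ = rx φb (ζ₀ : K) := by
    unfold relT3; exact mul_inv_eq_one
  have e4 : relT4 (rh φa ζ) (rn φa) (rh φb ζ₀) e = 1 ↔
      rn φa * rh φb ζ₀ * (rn φa)⁻¹ = rh φb ζ₀ * rh φa (D.ιu ζ₀) := by
    unfold relT4; rw [hpow]; exact mul_inv_eq_one
  have e5 : relT5 (rh φa ζ) (rh φb ζ₀) (rn φb) = 1 ↔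
      rn φb * rh φa ζ * (rn φb)⁻¹ = rh φa ζ * rh φb ζ₀ := by
    unfold relT5; exact mul_inv_eq_one
  have e6 : relS6 (rn φa) (rn φb) = 1 ↔
      rn φa * rn φb * rn φa * rn φb = rn φb * rn φa * rn φb * rn φa := by
    unfold relS6; exact mul_inv_eq_one
  have e7 : relS7 (rx φa 1) (rn φa) (rn φb) = 1 ↔
      (rn φb * rn φa * (rn φb)⁻¹) * rx φa 1 * (rn φb * rn φa * (rn φb)⁻¹)⁻¹ = (rx φa 1)⁻¹ := by
    unfold relS7; exact mul_eq_one_iff_eq_inv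
  have e8 : relS8 (rn φa) (rx φb 1) (rn φb) = 1 ↔
      Commute (rn φa * rn φb * (rn φa)⁻¹) (rx φb 1) := by
    unfold relS8; exact cm_eq_one_iff _ _
  have e9 : relS9 (rx φa 1) (rn φa) (rx φb 1) (rn φb) = 1 ↔
      cm (rx φa 1) (rx φb 1) = xcT φa φb 1 * xdT φa φb 1 := by
    unfold relS9 xcT xdT; exact mul_inv_eq_one
  have e10 : relS10 (rx φa 1) (rn φa) (rx φb 1) (rn φb) = 1 ↔
      cm (rx φa 1) (xcT φa φb 1) = xdT φa φb 1 ^ 2 := by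
    unfold relS10 xcT xdT; exact mul_inv_eq_one
  have e10b : relT10b (rx φa 1) (rn φa) (rn φb) (rx φa (ζ : F)) (rx φb (D.tr (ζ : F))) = 1 ↔
      cm (rx φa 1) (xcT φa φb (ζ : F)) = xdT φa φb (D.tr (ζ : F)) := by
    unfold relT10b xcT xdT; exact mul_inv_eq_one
  have e11 : relS11 (rx φa 1) (rn φa) (rx φb 1) = 1 ↔ Commute (rx φa 1) (xdT φa φb 1) := by
    unfold relS11 xdT; exact cm_eq_one_iff _ _
  have e12 : relS12 (rn φa) (rx φb 1) = 1 ↔ Commute (rx φb 1) (xdT φa φb 1) := by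
    unfold relS12 xdT; exact cm_eq_one_iff _ _
  rw [e1, e2, e3, e4, e5, e6, e7, e8, e9, e10, e10b, e11, e12]
  constructor
  · intro H
    exact ⟨H.T1, H.T2, H.T3, H.N4, H.N5, H.N6, H.W7, H.W8, H.C9, H.C10, H.C10b, H.C11, H.C12⟩
  · rintro ⟨h1, h2, h3, h4, h5, h6, h7, h8, h9, h10, h10b, h11, h12⟩
    exact ⟨h1, h2, h3, h4, h5, h6, h7, h8, h9, h10, h10b, h11, h12⟩

end Cfsg.Agent.Lib.Helper22.SU4
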