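import Mathlib
import Cfsg.Agent.Lib.helper3.BSZ.Defs

set_option autoImplicit false

/-! Project BSZ row C06 (`sylow_ti_fpf`), verbatim vs `helper3/BSZ/Skel.lean.txt`. -/

namespace Cfsg.Agent.Lib.helper3.BSZ

open Cfsg Cfsg.Agent.Lib.helper3
open scoped Pointwise

variable {F : Type*} [Field F] [Fintype F] {m : ℕ}

/-- C06: a fixed-point-free element conjugates no non-trivial element of a Sylow 2-subgroup into it. -/
theorem sylow_ti_fpf (hF : Fintype.card F = 2 ^ (2 * m + 1)) (hm : 1 ≤ m) (P : Sylow 2 (Sz F m))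
    {y k : Sz F m} (hy : Fpf y) (hk : k ∈ P) (hk' : y * k * y⁻¹ ∈ P) : k = 1 := by
  by_contra hk1
  have hmem : k ∈ (y⁻¹ • P : Sylow 2 (Sz F m)) := by
    change k ∈ ((y⁻¹ • P : Sylow 2 (Sz F m)) : Subgroup (Sz F m))
    rw [Sylow.coe_subgroup_smul, Subgroup.mem_pointwise_smul_iff_inv_smul_mem, ← map_inv, inv_inv,
      MulAut.smul_def, MulAut.conj_apply]
    exact hk'
  have heq : (y⁻¹ • P : Sylow 2 (Sz F m)) = P := (sylow_two_eq_of_mem hF hm hk1 hmem hk)
  have hn : y⁻¹ ∈ Subgroup.normalizer ((P : Subgroup (Sz F m)) : Set (Sz F m)) :=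
    Sylow.smul_eq_iff_mem_normalizer.1 heq
  have hn' : y ∈ Subgroup.normalizer ((P : Subgroup (Sz F m)) : Set (Sz F m)) := by
    have := Subgroup.inv_mem _ hn
    simpa using this
  obtain ⟨p, hp⟩ := normalizer_sylow_fix hF hm P
  exact hy p (hp y hn')

end Cfsg.Agent.Lib.helper3.BSZ
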