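import Mathlib
import Cfsg.Agent.Lib.helper17.SLP.Defs
import Cfsg.Agent.Lib.helper3.SP4.Defs
import Cfsg.Prelude.Def_Classical
import Cfsg.Agent.Lib.Helper22.SU4.Defs
import Cfsg.Agent.Lib.helper4.SU4F1
import Cfsg.Agent.Lib.Helper5.SU4F2
import Cfsg.Agent.Lib.helper15.SP4H6
import Cfsg.Agent.Lib.Helper9.SP4H1
import Cfsg.Agent.Lib.Helper9.SP4P1
import Cfsg.Agent.Lib.helper6.SLPM4
import Cfsg.Agent.Lib.helper8.SU4T8

/-!
# Project SU4 (designer helper22), row FIN5 `su4_main` (helper8): CORE on the statements of FIN1 `TTT_card`, FIN2 `card_le_su4`, FIN3 `hypT_of_words`,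
FIN4 `wordsT_M`, M6 `suj_iso`, M7 `card_SU4` (F1, F2, T8, SP4 `sl_hom exists_word pres_of_card6`, `closure_M` are cited from main).  Model: `Helper26.SP4FIN5core`.
-/

set_option autoImplicit false

namespace Cfsg.Agent.Lib.Helper22.SU4

open Cfsg.Agent.Lib.helper17.SLP Cfsg.Agent.Lib.helper3.SP4

universe u v

/-- naturality of `ev6` -/
theorem su4fin5_ev6_map {G : Type u} {H : Type v} [Group G] [Group H] (φ : G →* H) (a₁ a₂ a₃ b₁ b₂ b₃ : G)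
    (r : FreeGroup (Fin 6)) : φ (ev6 a₁ a₂ a₃ b₁ b₂ b₃ r) = ev6 (φ a₁) (φ a₂) (φ a₃) (φ b₁) (φ b₂) (φ b₃) r := by
  have h : φ.comp (ev6 a₁ a₂ a₃ b₁ b₂ b₃) = ev6 (φ a₁) (φ a₂) (φ a₃) (φ b₁) (φ b₂) (φ b₃) := by
    apply FreeGroup.ext_hom
    intro i
    fin_cases i <;> simp [ev6]
  exact DFunLike.congr_fun h r

/-- an isomorphism maps a generating set of six elements to a generating set -/
theorem su4fin5_gen_map {G : Type u} {H : Type v} [Group G] [Group H] (Φ : G ≃* H) (a₁ a₂ a₃ b₁ b₂ b₃ : G)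
    (hgen : Subgroup.closure {a₁, a₂, a₃, b₁, b₂, b₃} = ⊤) :
    Subgroup.closure {Φ a₁, Φ a₂, Φ a₃, Φ b₁, Φ b₂, Φ b₃} = ⊤ := by
  have h1 : (Subgroup.closure {a₁, a₂, a₃, b₁, b₂, b₃}).map Φ.toMonoidHom = ⊤ := by
    rw [hgen, ← MonoidHom.range_eq_map, MonoidHom.range_eq_top]
    exact Φ.surjective
  rw [MonoidHom.map_closure] at h1
  rw [← h1]
  congr 1
  ext x
  simp only [Set.mem_image, Set.mem_insert_iff, Set.mem_singleton_iff, MulEquiv.coe_toMonoidHom]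
  constructor
  · rintro (rfl | rfl | rfl | rfl | rfl | rfl)
    · exact ⟨a₁, Or.inl rfl, rfl⟩
    · exact ⟨a₂, Or.inr (Or.inl rfl), rfl⟩
    · exact ⟨a₃, Or.inr (Or.inr (Or.inl rfl)), rfl⟩
    · exact ⟨b₁, Or.inr (Or.inr (Or.inr (Or.inl rfl))), rfl⟩
    · exact ⟨b₂, Or.inr (Or.inr (Or.inr (Or.inr (Or.inl rfl)))), rfl⟩
    · exact ⟨b₃, Or.inr (Or.inr (Or.inr (Or.inr (Or.inr rfl)))), rfl⟩
  · rintro ⟨y, (rfl | rfl | rfl | rfl | rfl | rfl), rfl⟩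
    · exact Or.inl rfl
    · exact Or.inr (Or.inl rfl)
    · exact Or.inr (Or.inr (Or.inl rfl))
    · exact Or.inr (Or.inr (Or.inr (Or.inl rfl)))
    · exact Or.inr (Or.inr (Or.inr (Or.inr (Or.inl rfl))))
    · exact Or.inr (Or.inr (Or.inr (Or.inr (Or.inr rfl))))

/-- FIN5, core: the hypotheses are the statements of FIN1, FIN2, FIN3, FIN4, M6, M7 (for the field `F`, every fixed field `K`, and groups `G : Type`). -/
theorem su4fin5_core {F : Type u} [Field F] [Fintype F] (q : ℕ) (hF : Fintype.card F = q ^ 2)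
    (hFIN1 : ∀ (K : Type u) [Field K] [Fintype K] (G : Type) [Group G] (D : Tw F K)
      (φa : Matrix.SpecialLinearGroup (Fin 2) F →* G) (φb : Matrix.SpecialLinearGroup (Fin 2) K →* G),
      Tor4T D φa φb →
      Nat.card (TTT φa φb) ≤ (Fintype.card F - 1) * (Fintype.card K - 1))
    (hFIN2 : ∀ (K : Type u) [Field K] [Fintype K] (G : Type) [Group G] (D : Tw F K),
      Fintype.card F = Fintype.card K ^ 2 → ∀ (ζ : Fˣ),
      (∀ y : Fˣ, y ∈ Subgroup.zpowers ζ) → ∀ (ζ₀ : Kˣ), (∀ y : Kˣ, y ∈ Subgroup.zpowers ζ₀) →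
      D.nmu ζ = ζ₀ → ∀ (φa : Matrix.SpecialLinearGroup (Fin 2) F →* G)
      (φb : Matrix.SpecialLinearGroup (Fin 2) K →* G), HypT D ζ ζ₀ φa φb →
      Subgroup.closure (Set.range φa ∪ Set.range φb) = ⊤ →
      Finite G ∧ Nat.card G ≤ Nat.card (TTT φa φb) * (Fintype.card F ^ 2 * Fintype.card K ^ 2) *
        (1 + Fintype.card F + Fintype.card K + 2 * (Fintype.card F * Fintype.card K) +
          Fintype.card F ^ 2 * Fintype.card K + Fintype.card F * Fintype.card K ^ 2 +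
          Fintype.card F ^ 2 * Fintype.card K ^ 2))
    (hFIN3 : ∀ (K : Type u) [Field K] [Fintype K] (D : Tw F K) (ζ : Fˣ) (ζ₀ : Kˣ) (e : ℕ), D.ιu ζ₀ = ζ ^ e →
      ∀ (LA LB : List (FreeGroup (Fin 3))) (za zc zb zd : FreeGroup (Fin 3)),
      ev (xM (1 : F)) (hM ζ) wM za = xM (D.ι (ζ₀ : K)) → ev (xM (1 : F)) (hM ζ) wM zc = xM (ζ : F) →
      ev (xM (1 : K)) (hM ζ₀) wM zb = xM (ζ₀ : K) → ev (xM (1 : K)) (hM ζ₀) wM zd = xM (D.tr (ζ : F)) →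
      (∀ (G : Type) [Group G] (u h w : G), (∀ r ∈ LA, ev u h w r = 1) →
        ∃ φ : Matrix.SpecialLinearGroup (Fin 2) F →* G, φ (xM 1) = u ∧ φ (hM ζ) = h ∧ φ wM = w) →
      (∀ (G : Type) [Group G] (u h w : G), (∀ r ∈ LB, ev u h w r = 1) →
        ∃ φ : Matrix.SpecialLinearGroup (Fin 2) K →* G, φ (xM 1) = u ∧ φ (hM ζ₀) = h ∧ φ wM = w) →
      ∀ (G : Type) [Group G] (ua ha wa ub hb wb : G),
      Subgroup.closure {ua, ha, wa, ub, hb, wb} = ⊤ →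
      (∀ r ∈ LA.map inA ++ LB.map inB ++ wordsT6 (inA za) (inA zc) (inB zb) (inB zd) e,
        ev6 ua ha wa ub hb wb r = 1) →
      ∃ (φa : Matrix.SpecialLinearGroup (Fin 2) F →* G) (φb : Matrix.SpecialLinearGroup (Fin 2) K →* G),
        HypT D ζ ζ₀ φa φb ∧ rh φa ζ = ha ∧ rh φb ζ₀ = hb ∧
          Subgroup.closure (Set.range φa ∪ Set.range φb) = ⊤)
    (hFIN4 : ∀ (K : Type u) [Field K] [Fintype K] (D : Tw F K), Fintype.card F = Fintype.card K ^ 2 →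
      ∀ (ζ : Fˣ), (∀ y : Fˣ, y ∈ Subgroup.zpowers ζ) → ∀ (ζ₀ : Kˣ), (∀ y : Kˣ, y ∈ Subgroup.zpowers ζ₀) →
      D.nmu ζ = ζ₀ → ∀ (e : ℕ), D.ιu ζ₀ = ζ ^ e →
      ∀ (LA LB : List (FreeGroup (Fin 3))) (za zc zb zd : FreeGroup (Fin 3)),
      (∀ r ∈ LA, ev (xM (1 : F)) (hM ζ) wM r = 1) → (∀ r ∈ LB, ev (xM (1 : K)) (hM ζ₀) wM r = 1) →
      ev (xM (1 : F)) (hM ζ) wM za = xM (D.ι (ζ₀ : K)) → ev (xM (1 : F)) (hM ζ) wM zc = xM (ζ : F) →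
      ev (xM (1 : K)) (hM ζ₀) wM zb = xM (ζ₀ : K) → ev (xM (1 : K)) (hM ζ₀) wM zd = xM (D.tr (ζ : F)) →
      (∀ r ∈ LA.map inA ++ LB.map inB ++ wordsT6 (inA za) (inA zc) (inB zb) (inB zd) e,
          ev6 (rhoAT D (xM (1 : F))) (rhoAT D (hM ζ)) (rhoAT D wM) (rhoBT D (xM (1 : K))) (rhoBT D (hM ζ₀))
            (rhoBT D wM) r = 1) ∧
        Subgroup.closure {rhoAT D (xM (1 : F)), rhoAT D (hM ζ), rhoAT D wM, rhoBT D (xM (1 : K)),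
          rhoBT D (hM ζ₀), rhoBT D wM} = ⊤)
    (hM6 : ∀ (K : Type u) [Field K] [Fintype K] (D : Tw F K), (∀ x, D.σ x = x ^ q) →
      Nonempty (↥(SUJ D.σ) ≃* ↥(Cfsg.SU 4 F q)))
    (hM7 : Nat.card (Cfsg.SU 4 F q) = (q ^ 2 - 1) * (q - 1) * ((q ^ 2) ^ 2 * q ^ 2) *
      (1 + q ^ 2 + q + 2 * (q ^ 2 * q) + (q ^ 2) ^ 2 * q + q ^ 2 * q ^ 2 + (q ^ 2) ^ 2 * q ^ 2)) :
    ∃ rels : Finset (FreeGroup (Fin 6)), rels.card ≤ 35 ∧
      Nonempty (PresentedGroup (↑rels : Set (FreeGroup (Fin 6))) ≃* ↥(Cfsg.SU 4 F q)) := by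
  obtain ⟨K, iK, fK, D, hK, hσ⟩ := exists_twT q hF
  obtain ⟨ζ, ζ₀, hζ, hζ₀, hn, he⟩ := exists_gensT q hF hK D hσ
  have hFK : Fintype.card F = Fintype.card K ^ 2 := by rw [hF, hK]
  obtain ⟨LA, zc, hlenA, -, hLArel, hzc, hLA⟩ := sl_hom ζ hζ
  obtain ⟨LB, zb, hlenB, -, hLBrel, hzb, hLB⟩ := sl_hom ζ₀ hζ₀
  obtain ⟨za, hza⟩ := exists_word (xM (1 : F)) (hM ζ) wM (closure_M ζ hζ) (xM (D.ι (ζ₀ : K)))
  obtain ⟨zd, hzd⟩ := exists_word (xM (1 : K)) (hM ζ₀) wM (closure_M ζ₀ hζ₀) (xM (D.tr (ζ : F)))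
  obtain ⟨hrelM, hgenM⟩ := hFIN4 K D hFK ζ hζ ζ₀ hζ₀ hn (q + 1) he LA LB za zc zb zd hLArel hLBrel hza hzc hzb hzd
  obtain ⟨Φ⟩ := hM6 K D hσ
  have hfinS : Finite ↥(Cfsg.SU 4 F q) := inferInstance
  refine ⟨(LA.map inA ++ LB.map inB ++ wordsT6 (inA za) (inA zc) (inB zb) (inB zd) (q + 1)).toFinset, ?_, ?_⟩
  · refine le_trans (List.toFinset_card_le _) ?_
    simp only [List.length_append, List.length_map, wordsT6, List.length_cons, List.length_nil]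
    omega
  · refine pres_of_card6 _ (Φ (rhoAT D (xM (1 : F)))) (Φ (rhoAT D (hM ζ))) (Φ (rhoAT D wM))
      (Φ (rhoBT D (xM (1 : K)))) (Φ (rhoBT D (hM ζ₀))) (Φ (rhoBT D wM)) ?_ ?_ ?_
    · exact su4fin5_gen_map Φ _ _ _ _ _ _ hgenM
    · intro r hr
      have h1 := su4fin5_ev6_map Φ.toMonoidHom (rhoAT D (xM (1 : F))) (rhoAT D (hM ζ)) (rhoAT D wM)
        (rhoBT D (xM (1 : K))) (rhoBT D (hM ζ₀)) (rhoBT D wM) r
      rw [hrelM r hr, map_one] at h1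
      exact h1.symm
    · intro G _ ua ha wa ub hb wb hgen hrel
      obtain ⟨φa, φb, H, -, -, hgen'⟩ :=
        hFIN3 K D ζ ζ₀ (q + 1) he LA LB za zc zb zd hza hzc hzb hzd hLA hLB G ua ha wa ub hb wb hgen hrel
      have R : Tor4T D φa φb := tor4T D ζ hζ ζ₀ hζ₀ hn φa φb H
      obtain ⟨hfin, hle⟩ := hFIN2 K G D hFK ζ hζ ζ₀ hζ₀ hn φa φb H hgen'
      have hT := hFIN1 K G D φa φb R
      refine ⟨hfin, le_trans hle ?_⟩
      rw [hM7]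
      rw [hF, hK] at hle hT ⊢
      exact Nat.mul_le_mul_right _ (Nat.mul_le_mul_right _ hT)

end Cfsg.Agent.Lib.Helper22.SU4
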