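import Mathlib
import Cfsg.Agent.Lib.Helper1.ODN.Defs
import Cfsg.Agent.Lib.helper8.ODNCORNERABScore
import Cfsg.Agent.Lib.Helper1.ODNEXCLS
import Cfsg.Agent.Lib.Helper20.ODNCONG
import Cfsg.Agent.Lib.Helper25.ODNCORNERFIX
import Cfsg.Agent.Lib.Helper24.ODNSUBCARD
import Cfsg.Agent.Lib.Helper25.ODNORBABS

set_option autoImplicit false

/-!
# Project ODN (designer helper1), row CORNERABS (`odn_corner_abs`), verbatim wrapper (helper8):
`odncornerabs_core` + CONG (helper20), CORNERFIX (helper25), EXCLS (helper1), SUBCARD (helper24), ORBABS (helper25).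
-/

namespace Cfsg.Agent.Lib.Helper1.ODN

open Polynomial Module Cfsg.Agent.Lib.Helper13.S5955 Cfsg.Agent.Lib.helper15.S5972 Cfsg.Agent.Lib.Helper18.ONE

/-- CORNERABS [M-L]: `m < dim fixS < c`: `r` does not divide the size of the class. -/
theorem odn_corner_abs {F : Type*} [Field F] [Fintype F] {p : ℕ} [Fact p.Prime] [CharP F p]
    (h2 : (2 : F) ≠ 0) {V : Type*} [AddCommGroup V] [Module F V] [FiniteDimensional F V]
    {r : ℕ} [Fact r.Prime] (hrp : r ≠ p) (hr2 : r ≠ 2) {B : LinearMap.BilinForm F V}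
    {x : Module.End F V} (h : OCtx r B x) (m i c : ℕ) (hm : 1 ≤ m)
    (hi : i = orderOf ((Fintype.card F : ℕ) : ZMod r)) (hc : c = if Even i then i else 2 * i)
    (hmk : m < finrank F (fixS x)) (hkc : finrank F (fixS x) < c)
    (W₀ : Submodule F V) (hW₀ : SND B W₀) (hW₀m : finrank F W₀ = m) :
    ¬ r ∣ Nat.card (OmC B m W₀) :=
  odncornerabs_core h2 hrp hr2 h m i c hm hi hc hmk hkc W₀ hW₀ hW₀m
    (odn_cong B x h.pow h.pres m W₀)
    (fun W hW hWnd hWm => odn_corner_fix hrp hr2 h m i c hi hc (lt_trans hmk hkc) W hW hWnd hWm)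
    (fun N M W₀ hN hM hNM hW₀ e he heN hdim => ex_cls h2 B h.symm N M W₀ hN hM hNM hW₀ e he heN hdim)
    (fun C W₁ hle => odn_sub_card B C m W₁ hle)
    (fun hs hn hd W₁ hW₁ hW₁m =>
      odn_orb_abs h2 hrp hr2 (B.restrict (fixS x)) hs hn i c hi hc hd m W₁ hW₁ hW₁m)

end Cfsg.Agent.Lib.Helper1.ODN
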