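import Mathlib
import Cfsg.Agent.Lib.helper6.SSCONJIRR

set_option autoImplicit false

/-!
# SFO row TYPEB
-/

namespace Cfsg.Agent.Lib.helper8.SFO

open Matrix Polynomial
open scoped MatrixGroups

/-- a monic polynomial all of whose irreducible factors divide the monic irreducible `g` is a power of `g` -/
theorem sfotypeb_pow_of_factors {F : Type*} [Field F] (g : F[X]) (hg : Irreducible g) (hgm : g.Monic)
    (c : F[X]) (hc : c.Monic) (h : ∀ f : F[X], Irreducible f → f ∣ c → f ∣ g) :
    ∃ m : ℕ, c = g ^ m := by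
  classical
  have hc0 : c ≠ 0 := hc.ne_zero
  have hall : ∀ p ∈ UniqueFactorizationMonoid.normalizedFactors c, p = g := by
    intro p hp
    have hirr := UniqueFactorizationMonoid.irreducible_of_normalized_factor p hp
    have hdvd := UniqueFactorizationMonoid.dvd_of_mem_normalizedFactors hp
    have hnorm := UniqueFactorizationMonoid.normalize_normalized_factor p hp
    have hpg : p ∣ g := h p hirr hdvd
    have hass : Associated p g := hirr.associated_of_dvd hg hpg
    have h1 : normalize p = normalize g := normalize_eq_normalize_iff.mpr ⟨hass.dvd, hass.symm.dvd⟩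
    rw [hnorm, hgm.normalize_eq_self] at h1
    exact h1
  have hrep := Multiset.eq_replicate_card.mpr hall
  refine ⟨Multiset.card (UniqueFactorizationMonoid.normalizedFactors c), ?_⟩
  have hprod := UniqueFactorizationMonoid.prod_normalizedFactors hc0
  rw [hrep, Multiset.prod_replicate] at hprod
  exact (Polynomial.eq_of_monic_of_associated (hgm.pow _) hc hprod).symm

/-- TYPEB [M-L] -/
theorem typeB {F : Type*} [Field F] {n : ℕ} (r : ℕ) [Fact r.Prime] (hr2 : r ≠ 2)
    (M : Matrix (Fin n) (Fin n) F) (hdet : M.det = 1) (z : F) (hM : M ^ r = z • 1)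
    (hz : ∀ b : F, b ^ r ≠ z) : r ∣ n ∧ z ^ (n / r) = 1 := by
  classical
  have hrpr : r.Prime := Fact.out
  set g : F[X] := X ^ r - C z with hg
  have hgirr : Irreducible g := X_pow_sub_C_irreducible_of_prime hrpr hz
  have hgm : g.Monic := monic_X_pow_sub_C z hrpr.ne_zero
  have hgdeg : g.natDegree = r := natDegree_X_pow_sub_C
  have hkill : aeval M g = 0 := by
    rw [hg, map_sub, map_pow, aeval_X, aeval_C, hM, Algebra.algebraMap_eq_smul_one, sub_self]
  have hmin : minpoly F M ∣ g := minpoly.dvd F M hkill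
  obtain ⟨m, hm⟩ := sfotypeb_pow_of_factors g hgirr hgm M.charpoly (Matrix.charpoly_monic M)
    (fun f hf hd => (Cfsg.Agent.Lib.helper6.SSCONJ.ssconjirr_matrix M f hf hd).trans hmin)
  have hdeg : n = m * r := by
    have h1 := Matrix.charpoly_natDegree_eq_dim M
    rw [hm, natDegree_pow, hgdeg, Fintype.card_fin] at h1
    exact h1.symm
  have hrn : r ∣ n := ⟨m, by rw [hdeg, mul_comm]⟩
  refine ⟨hrn, ?_⟩
  have hnr : n / r = m := by
    rw [hdeg]
    exact Nat.mul_div_cancel m hrpr.pos
  rw [hnr]
  have hd := Matrix.det_eq_sign_charpoly_coeff M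
  rw [hdet, Fintype.card_fin, hm, coeff_zero_eq_eval_zero, eval_pow, hg, eval_sub, eval_pow, eval_X,
    eval_C, zero_pow hrpr.ne_zero, zero_sub, neg_pow z, ← mul_assoc, ← pow_add] at hd
  have heven : Even (n + m) := by
    rw [hdeg]
    obtain ⟨t, ht⟩ := hrpr.odd_of_ne_two hr2
    exact ⟨m * (t + 1), by rw [ht]; ring⟩
  rw [heven.neg_one_pow, one_mul] at hd
  exact hd.symm

end Cfsg.Agent.Lib.helper8.SFO
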