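import Mathlib
import Cfsg.Prelude.Def_AxialAlgebras
import Cfsg.Agent.Lib.Helper24.SAK.Defs
import Cfsg.Agent.Lib.helper2.SAKA1
import Cfsg.Agent.Lib.Helper11.SAKA3
import Cfsg.Agent.Lib.Helper11.SAKA4
import Cfsg.Agent.Lib.Helper24.SAKE2

/-!
# SAK row E6 (`fin3`); spares for E7 (`sake6_fin4` = statement of `fin4`) and E8 (`sake6_fin5` = statement of `fin5`).
-/

set_option autoImplicit false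

namespace Cfsg.Agent.Lib.Helper24.SAK

open Cfsg.Axial

variable {V : Type*} [AddCommGroup V] [Module ℝ V]

theorem sake6_sq {mul : V →ₗ[ℝ] V →ₗ[ℝ] V} {B : LinearMap.BilinForm ℝ V} {μ : V ≃ₗ[ℝ] V} {a : V}
    (h : IsMajoranaPair mul B μ a) : μ * μ = 1 := by
  apply LinearEquiv.ext
  intro v
  show μ (μ v) = v
  exact mu_invol h v

theorem sake6_conj_sq {G : Type*} [Group G] (g x : G) (hg : g * g = 1) (hx : x * x = 1) :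
    (g * x * g) * (g * x * g) = 1 := by
  calc (g * x * g) * (g * x * g) = g * x * (g * g) * x * g := by group
    _ = g * (x * x) * g := by rw [hg]; group
    _ = 1 := by rw [hx, mul_one, hg]

theorem fin3 {mul : V →ₗ[ℝ] V →ₗ[ℝ] V} {B : LinearMap.BilinForm ℝ V} {μ₀ μ₁ : V ≃ₗ[ℝ] V} {a0 a1 : V}
    (h : Cfg mul B μ₀ μ₁ a0 a1) (hk : B a0 (μ₁ (μ₀ a1)) = 1) : (μ₀ * μ₁) ^ 3 = 1 := by
  obtain ⟨hV, h0, h1, n0, n1⟩ := h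
  have ha3 : B (μ₁ (μ₀ a1)) (μ₁ (μ₀ a1)) = 1 := by rw [h1.2.1, h0.2.1, n1]
  have e0 : a0 = μ₁ (μ₀ a1) := eq_of_form hV a0 _ n0 ha3 hk
  have P1 := pair_conj h0 h1
  have P2 := pair_conj h1 P1
  rw [← e0] at P2
  have e : μ₀ = μ₁ * (μ₀ * μ₁ * μ₀) * μ₁ := pair_unique h0 P2
  have s0 := sake6_sq h0
  calc (μ₀ * μ₁) ^ 3 = μ₀ * (μ₁ * (μ₀ * μ₁ * μ₀) * μ₁) := by
        simp only [pow_succ, pow_zero, one_mul, mul_assoc]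
    _ = μ₀ * μ₀ := by rw [← e]
    _ = 1 := s0

theorem sake6_fin4 {mul : V →ₗ[ℝ] V →ₗ[ℝ] V} {B : LinearMap.BilinForm ℝ V} {μ₀ μ₁ : V ≃ₗ[ℝ] V} {a0 a1 : V}
    (h : Cfg mul B μ₀ μ₁ a0 a1) (hp : B (μ₀ (μ₁ a0)) (μ₁ a0) = 1) : (μ₀ * μ₁) ^ 4 = 1 := by
  obtain ⟨hV, h0, h1, n0, n1⟩ := h
  have ha2 : B (μ₁ a0) (μ₁ a0) = 1 := by rw [h1.2.1, n0]
  have ham2 : B (μ₀ (μ₁ a0)) (μ₀ (μ₁ a0)) = 1 := by rw [h0.2.1, ha2]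
  have e0 : μ₀ (μ₁ a0) = μ₁ a0 := eq_of_form hV _ _ ham2 ha2 hp
  have P1 := pair_conj h1 h0
  have P2 := pair_conj h0 P1
  rw [e0] at P2
  have e : μ₀ * (μ₁ * μ₀ * μ₁) * μ₀ = μ₁ * μ₀ * μ₁ := pair_unique P2 P1
  have s0 := sake6_sq h0
  have s1 := sake6_sq h1
  calc (μ₀ * μ₁) ^ 4 = (μ₀ * (μ₁ * μ₀ * μ₁) * μ₀) * (μ₁ * μ₀ * μ₁) := by
        simp only [pow_succ, pow_zero, one_mul, mul_assoc]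
    _ = (μ₁ * μ₀ * μ₁) * (μ₁ * μ₀ * μ₁) := by rw [e]
    _ = 1 := sake6_conj_sq μ₁ μ₀ s1 s0

theorem sake6_fin5 {mul : V →ₗ[ℝ] V →ₗ[ℝ] V} {B : LinearMap.BilinForm ℝ V} {μ₀ μ₁ : V ≃ₗ[ℝ] V} {a0 a1 : V}
    (h : Cfg mul B μ₀ μ₁ a0 a1) (hr : B (μ₀ (μ₁ a0)) (μ₁ (μ₀ a1)) = 1) : (μ₀ * μ₁) ^ 5 = 1 := by
  obtain ⟨hV, h0, h1, n0, n1⟩ := h
  have ha2 : B (μ₁ a0) (μ₁ a0) = 1 := by rw [h1.2.1, n0]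
  have ham2 : B (μ₀ (μ₁ a0)) (μ₀ (μ₁ a0)) = 1 := by rw [h0.2.1, ha2]
  have ha3 : B (μ₁ (μ₀ a1)) (μ₁ (μ₀ a1)) = 1 := by rw [h1.2.1, h0.2.1, n1]
  have e0 : μ₀ (μ₁ a0) = μ₁ (μ₀ a1) := eq_of_form hV _ _ ham2 ha3 hr
  have P1 := pair_conj h1 h0
  have P2 := pair_conj h0 P1
  have Q1 := pair_conj h0 h1
  have Q2 := pair_conj h1 Q1
  rw [e0] at P2
  have e : μ₀ * (μ₁ * μ₀ * μ₁) * μ₀ = μ₁ * (μ₀ * μ₁ * μ₀) * μ₁ := pair_unique P2 Q2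
  have s0 := sake6_sq h0
  have s1 := sake6_sq h1
  calc (μ₀ * μ₁) ^ 5 = (μ₀ * (μ₁ * μ₀ * μ₁) * μ₀) * (μ₁ * (μ₀ * μ₁ * μ₀) * μ₁) := by
        simp only [pow_succ, pow_zero, one_mul, mul_assoc]
    _ = (μ₁ * (μ₀ * μ₁ * μ₀) * μ₁) * (μ₁ * (μ₀ * μ₁ * μ₀) * μ₁) := by rw [e]
    _ = 1 := sake6_conj_sq μ₁ (μ₀ * μ₁ * μ₀) s1 (sake6_conj_sq μ₀ μ₁ s0 s1)

end Cfsg.Agent.Lib.Helper24.SAK
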