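import Mathlib
import Cfsg.Prelude.Def_LieTypeChar
import Cfsg.Agent.Lib.helper14.SQD.Defs
import Cfsg.Agent.Lib.helper14.SQD.DefsU
import Cfsg.Agent.Lib.Helper24.SQD.DefsO
import Cfsg.Agent.S0294

/-!
# Project SQD, row OM12 (`omega_minus_center`): the centre of `Ω⁻_{2k+2}(F)` is trivial in characteristic 2.
-/

set_option autoImplicit false

namespace Cfsg.Agent.Lib.helper14.SQD

open Cfsg Cfsg.Lie Matrix

universe u v

/-- OM12 [E]. -/
theorem omega_minus_center {F : Type} [Field F] [Fintype F] [CharP F 2] (k : ℕ) (hk : 1 ≤ k) (a b : F)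
    (hab : ∀ z₁ z₂ : F, z₁ ^ 2 + a * z₁ * z₂ + b * z₂ ^ 2 = 0 → z₁ = 0 ∧ z₂ = 0) :
    Subgroup.center ↥(Omega F (quadFormMinus k F a b)) = ⊥ := by
  have hcard : Fintype.card ((Fin k ⊕ Fin k) ⊕ Fin 2) = 2 * k + 2 := by
    simp only [Fintype.card_sum, Fintype.card_fin]; omega
  have hQ := Cfsg.Agent.S0791.nondeg_minus k a b hab
  have := Cfsg.Agent.Lib.Lead.OC2.center_eq_bot (Cfsg.Agent.Lib.Helper16.qfMinus k F a b) hQ
    (by rw [hcard]; omega)
  rw [Cfsg.Agent.Lib.Helper16.qfMinus_coe] at this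
  exact this

end Cfsg.Agent.Lib.helper14.SQD
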