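import Mathlib
import Cfsg.Prelude.Def_LieTypeChar
import Cfsg.Agent.Lib.helper14.SQD.Defs
import Cfsg.Agent.Lib.helper14.SQD.DefsU
import Cfsg.Agent.Lib.Helper24.SQD.DefsO
import Cfsg.Agent.Lib.Helper27.SQDX12
import Cfsg.Agent.S0293

/-!
# Project SQD, row OP5 (`card_pomega_plus_two_part`): the 2-part of `|PΩ⁺_{2m}(2^f)|` is `2 ^ (f m (m - 1))`.
-/

set_option autoImplicit false

namespace Cfsg.Agent.Lib.helper14.SQD

open Cfsg Cfsg.Lie Matrix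

universe u v

/-- `q ^ j - 1` is odd for `q` even, `j ≥ 1` -/
theorem sqdop5_odd_pred (q j : ℕ) (hq : 2 ∣ q) (hq0 : 0 < q) (hj : j ≠ 0) : ¬ 2 ∣ q ^ j - 1 := by
  obtain ⟨c, hc⟩ : 2 ∣ q ^ j := dvd_pow hq hj
  have h1 : 0 < q ^ j := pow_pos hq0 j
  omega

/-- `q ^ j + 1` is odd for `q` even, `j ≥ 1` -/
theorem sqdop5_odd_succ (q j : ℕ) (hq : 2 ∣ q) (hj : j ≠ 0) : ¬ 2 ∣ q ^ j + 1 := by
  obtain ⟨c, hc⟩ : 2 ∣ q ^ j := dvd_pow hq hj
  omega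

/-- the common odd cofactor `∏ i < n, (q ^ (2 (i + 1)) - 1)` -/
theorem sqdop5_odd_prod (q n : ℕ) (hq : 2 ∣ q) (hq0 : 0 < q) :
    ¬ 2 ∣ ∏ i ∈ Finset.range n, (q ^ (2 * (i + 1)) - 1) := by
  intro h
  obtain ⟨i, -, hi⟩ := (Nat.prime_two.prime.dvd_finsetProd_iff _).mp h
  exact sqdop5_odd_pred q (2 * (i + 1)) hq hq0 (by omega) hi

/-- `card F = 2 ^ f` forces `f ≠ 0` -/
theorem sqdop5_f_ne {F : Type u} [Field F] [Fintype F] (f : ℕ) (hF : Fintype.card F = 2 ^ f) :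
    f ≠ 0 := by
  rintro rfl
  have := Fintype.one_lt_card (α := F)
  rw [hF] at this
  simp at this

/-- OP5 [M]. -/
theorem card_pomega_plus_two_part {F : Type} [Field F] [Fintype F] (f : ℕ) (hF : Fintype.card F = 2 ^ f)
    (m : ℕ) (hm : 4 ≤ m) :
    ∃ r, Nat.card (POmega F (quadFormPlus m F)) = 2 ^ (f * (m * (m - 1))) * r ∧ ¬ 2 ∣ r := by
  have hf := sqdop5_f_ne f hF
  have hq : 2 ∣ 2 ^ f := dvd_pow_self 2 hf
  have hq0 : 0 < 2 ^ f := by positivity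
  have h := Cfsg.Agent.S0293.result hF m hm
  rw [mul_assoc] at h
  have hodd1 : ¬ 2 ∣ (2 ^ f) ^ m - 1 := sqdop5_odd_pred _ m hq hq0 (by omega)
  have hM : ¬ 2 ∣ ((2 ^ f) ^ m - 1) * ∏ i ∈ Finset.range (m - 1), ((2 ^ f) ^ (2 * (i + 1)) - 1) := by
    intro h2
    rcases (Nat.Prime.dvd_mul Nat.prime_two).mp h2 with h2 | h2
    · exact hodd1 h2
    · exact sqdop5_odd_prod _ _ hq hq0 h2
  have hd : ¬ 2 ∣ Nat.gcd 4 ((2 ^ f) ^ m - 1) := fun h2 =>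
    hodd1 (dvd_trans h2 (Nat.gcd_dvd_right _ _))
  have hn : 0 < Nat.card (POmega F (quadFormPlus m F)) := by
    rcases Nat.eq_zero_or_pos (Nat.card (POmega F (quadFormPlus m F))) with h0 | h0
    · exfalso
      rw [h0, mul_zero] at h
      have h1 : 0 < (2 ^ f) ^ (m * (m - 1)) := by positivity
      have h2 : 0 < ((2 ^ f) ^ m - 1) * ∏ i ∈ Finset.range (m - 1), ((2 ^ f) ^ (2 * (i + 1)) - 1) :=
        Nat.pos_of_ne_zero (fun h3 => hM (by rw [h3]; exact dvd_zero 2))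
      have := Nat.mul_pos h1 h2
      omega
    · exact h0
  exact two_part_of_formula f (m * (m - 1)) _ _ _ hn h hd hM

end Cfsg.Agent.Lib.helper14.SQD
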