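import Mathlib
import Cfsg.Prelude.Def_LieTypeChar
import Cfsg.Agent.Lib.helper14.SQD.Defs
import Cfsg.Agent.Lib.helper14.SQD.DefsU
import Cfsg.Agent.Lib.Helper24.SQD.DefsO
import Cfsg.Agent.Lib.Helper27.SQDX12
import Cfsg.Agent.Lib.helper8.SQDOP5
import Cfsg.Agent.S0294

/-!
# Project SQD, row OM13 (`card_pomega_minus_two_part`): the 2-part of `|PΩ⁻_{2m}(2^f)|` is `2 ^ (f m (m - 1))`.
-/

set_option autoImplicit false

namespace Cfsg.Agent.Lib.helper14.SQD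

open Cfsg Cfsg.Lie Matrix

universe u v

/-- OM13 [M]. -/
theorem card_pomega_minus_two_part {F : Type} [Field F] [Fintype F] (f : ℕ) (hF : Fintype.card F = 2 ^ f)
    (m : ℕ) (hm : 4 ≤ m) (a b : F)
    (hab : ∀ z₁ z₂ : F, z₁ ^ 2 + a * z₁ * z₂ + b * z₂ ^ 2 = 0 → z₁ = 0 ∧ z₂ = 0) :
    ∃ r, Nat.card (POmega F (quadFormMinus (m - 1) F a b)) = 2 ^ (f * (m * (m - 1))) * r ∧ ¬ 2 ∣ r := by
  have hf := sqdop5_f_ne f hF
  have hq : 2 ∣ 2 ^ f := dvd_pow_self 2 hf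
  have hq0 : 0 < 2 ^ f := by positivity
  have h := Cfsg.Agent.S0294.result hF m hm a b hab
  rw [mul_assoc] at h
  have hodd1 : ¬ 2 ∣ (2 ^ f) ^ m + 1 := sqdop5_odd_succ _ m hq (by omega)
  have hM : ¬ 2 ∣ ((2 ^ f) ^ m + 1) * ∏ i ∈ Finset.range (m - 1), ((2 ^ f) ^ (2 * (i + 1)) - 1) := by
    intro h2
    rcases (Nat.Prime.dvd_mul Nat.prime_two).mp h2 with h2 | h2
    · exact hodd1 h2
    · exact sqdop5_odd_prod _ _ hq hq0 h2
  have hd : ¬ 2 ∣ Nat.gcd 4 ((2 ^ f) ^ m + 1) := fun h2 =>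
    hodd1 (dvd_trans h2 (Nat.gcd_dvd_right _ _))
  have hn : 0 < Nat.card (POmega F (quadFormMinus (m - 1) F a b)) := by
    rcases Nat.eq_zero_or_pos (Nat.card (POmega F (quadFormMinus (m - 1) F a b))) with h0 | h0
    · exfalso
      rw [h0, mul_zero] at h
      have h1 : 0 < (2 ^ f) ^ (m * (m - 1)) := by positivity
      have h2 : 0 < ((2 ^ f) ^ m + 1) * ∏ i ∈ Finset.range (m - 1), ((2 ^ f) ^ (2 * (i + 1)) - 1) :=
        Nat.pos_of_ne_zero (fun h3 => hM (by rw [h3]; exact dvd_zero 2))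
      have := Nat.mul_pos h1 h2
      omega
    · exact h0
  exact two_part_of_formula f (m * (m - 1)) _ _ _ hn h hd hM

end Cfsg.Agent.Lib.helper14.SQD
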