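import Mathlib
import Cfsg.Prelude.Def_ChevStructure
import Cfsg.Prelude.Def_ChevE7
import Cfsg.Agent.Lib.helper8.ChevTabCoxE7S
import Cfsg.Agent.Lib.helper8.ChevTw1
import Cfsg.Agent.Lib.helper8.ChevReflAll
import Cfsg.Agent.Lib.helper8.ChevBaseAll
import Cfsg.Agent.Lib.helper8.ChevBNAll2
import Cfsg.Agent.Lib.helper8.ChevOrdAll

/-!
# Type `E₇`: fast evaluation of Weyl words on roots
-/

set_option autoImplicit false

namespace Cfsg.Agent.Lib.helper8

open Cfsg.Lie Cfsg.Lie.ChevalleyDatum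

theorem h8e7_mem : chevE7 ∈ [chevG2, chevB2, chevD4, chevF4, chevE6, chevE7, chevE8] := by simp

/-- fast evaluation of a word on a root of `E₇` -/
def h8e7sW (w : List ℕ) (s : ℕ) : ℕ := w.foldr (fun i acc => h8sgS h8cxS_E7 126 i acc) s

theorem h8e7sW_nil (s : ℕ) : h8e7sW [] s = s := rfl

theorem h8e7sW_append (w1 w2 : List ℕ) (s : ℕ) :
    h8e7sW (w1 ++ w2) s = h8e7sW w1 (h8e7sW w2 s) := by
  unfold h8e7sW
  rw [List.foldr_append]

theorem h8e7sW_eq (hA : H8ReflAll chevE7) (w : List ℕ) (hw : ∀ i ∈ w, i < chevE7.rank) (s : ℕ)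
    (hs : s < chevE7.nroots) : h8e7sW w s = h8sW chevE7 w s := by
  induction w with
  | nil => rfl
  | cons i w ih =>
    have hw' : ∀ j ∈ w, j < chevE7.rank := fun j hj => hw j (List.mem_cons_of_mem _ hj)
    have hi := hw i List.mem_cons_self
    show h8sgS h8cxS_E7 126 i (h8e7sW w s) = chevE7.reflectRoot i (h8sW chevE7 w s)
    rw [ih hw']
    have e := h8sgS_eq chevE7 h8cxS_E7 h8cxSchk_E7 i hi (h8sW chevE7 w s)
    have e2 := h8sg_eq chevE7 i (fun s hs => h8refl_lt chevE7 hA i hi s hs) (by decide)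
      (h8sW chevE7 w s) (h8sW_lt chevE7 hA w hw' s hs)
    rw [← e2, ← e]
    rfl

/-- the same, with the structure hypotheses filled in -/
theorem h8e7sW_eq' (w : List ℕ) (hw : ∀ i ∈ w, i < 7) (s : ℕ) (hs : s < 126) :
    h8sW chevE7 w s = h8e7sW w s :=
  (h8e7sW_eq (h8reflAll chevE7 h8e7_mem) w hw s hs).symm

theorem h8e7_wPerm_val (hA : H8ReflAll chevE7) (w : List ℕ) (hw : ∀ i ∈ w, i < chevE7.rank)
    (r : Fin chevE7.nroots) : (h8wPerm chevE7 hA w r).val = h8e7sW w r.val := by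
  rw [h8wPerm_val chevE7 hA w hw r, h8e7sW_eq hA w hw r.val r.2]

theorem h8e7sW_lt (w : List ℕ) (hw : ∀ i ∈ w, i < 7) (s : ℕ) (hs : s < 126) :
    h8e7sW w s < 126 := by
  rw [← h8e7sW_eq' w hw s hs]
  exact h8sW_lt chevE7 (h8reflAll chevE7 h8e7_mem) w hw s hs

theorem h8e7_pos_iff : ∀ r < 126, decide (chevE7.IsPosRoot r) = decide (63 ≤ r) := by
  decide +kernel

theorem h8e7_pos_iff' (r : ℕ) (hr : r < 126) : chevE7.IsPosRoot r ↔ 63 ≤ r := by
  have := h8e7_pos_iff r hr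
  rwa [decide_eq_decide] at this

theorem h8e7_pos_lt (r : ℕ) (h : chevE7.IsPosRoot r) : r < 126 := h.1

theorem h8e7_simple_val : ∀ i < 7, chevE7.simple i = [93, 78, 73, 69, 66, 64, 63].getD i 0 := by
  decide

/-- two words with the same fast evaluation on the simple roots act equally on all the roots -/
theorem h8e7_ext7 (w1 w2 : List ℕ) (hw1 : ∀ i ∈ w1, i < 7) (hw2 : ∀ i ∈ w2, i < 7)
    (h : ∀ r ∈ [93, 78, 73, 69, 66, 64, 63], h8e7sW w1 r = h8e7sW w2 r) :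
    ∀ r < 126, h8sW chevE7 w1 r = h8sW chevE7 w2 r := by
  have hA := h8reflAll chevE7 h8e7_mem
  have hB := h8base_all.{0} chevE7 h8e7_mem
  have hBN := h8bn_all chevE7 h8e7_mem
  have hW := h8bn2_all chevE7 h8e7_mem
  obtain ⟨_, hO2⟩ := h8ord_all chevE7 h8e7_mem
  have hx : h8wPerm chevE7 hA w1 ∈ h8W chevE7 hA := (h8W_mem_iff chevE7 hA _).mpr ⟨w1, hw1, rfl⟩
  have hy : h8wPerm chevE7 hA w2 ∈ h8W chevE7 hA := (h8W_mem_iff chevE7 hA _).mpr ⟨w2, hw2, rfl⟩
  have hv := h8W_simple_pos chevE7 hB hA hBN hW hO2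
    ((h8wPerm chevE7 hA w2)⁻¹ * h8wPerm chevE7 hA w1)
    (Subgroup.mul_mem _ (Subgroup.inv_mem _ hy) hx) (by
      intro i
      have e : h8wPerm chevE7 hA w1 (h8simF chevE7 hBN i) =
          h8wPerm chevE7 hA w2 (h8simF chevE7 hBN i) := by
        apply Fin.ext
        rw [h8e7_wPerm_val hA w1 hw1, h8e7_wPerm_val hA w2 hw2]
        apply h
        show chevE7.simple i.val ∈ _
        have hi : i.val < 7 := i.2
        rw [h8e7_simple_val i.val hi]
        interval_cases i.val <;> simp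
      rw [Equiv.Perm.mul_apply, e]
      have e2 : (h8wPerm chevE7 hA w2)⁻¹ ((h8wPerm chevE7 hA w2) (h8simF chevE7 hBN i)) =
          h8simF chevE7 hBN i := by simp
      rw [e2]
      exact h8simple_pos chevE7 hBN i.val i.2)
  have e : h8wPerm chevE7 hA w1 = h8wPerm chevE7 hA w2 := by
    have : h8wPerm chevE7 hA w1 = h8wPerm chevE7 hA w2 * ((h8wPerm chevE7 hA w2)⁻¹ *
        h8wPerm chevE7 hA w1) := by group
    rw [this, hv, mul_one]
  intro r hr
  have h1 := h8wPerm_val chevE7 hA w1 hw1 ⟨r, hr⟩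
  have h2 := h8wPerm_val chevE7 hA w2 hw2 ⟨r, hr⟩
  rw [← h1, ← h2, e]

end Cfsg.Agent.Lib.helper8
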