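import Mathlib
import Cfsg.Prelude.Def_ChevStructure
import Cfsg.Prelude.Def_ChevE7
import Cfsg.Agent.Lib.helper8.ChevIE7d

/-!
# Project INVE7 (S2181): the data for the non-conjugacy of the five representatives
-/

set_option autoImplicit false

namespace Cfsg.Agent.Lib.helper8.E7I

open Cfsg.Lie Cfsg.Lie.ChevalleyDatum Cfsg.Agent.Lib.helper8 Cfsg.Agent.Lib.helper14
  Cfsg.Agent.Lib.helper14.INV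

/-- the up-closures (under adding positive roots) of the five sets of representatives -/
def e7ncL : List (List ℕ) :=
  [[125],
   [118, 121, 122, 123, 124, 125],
   [114, 116, 117, 118, 119, 120, 121, 122, 123, 124, 125],
   [92, 107, 108, 111, 113, 114, 116, 117, 118, 120, 121, 122, 123, 124, 125],
   [92, 107, 108, 111, 113, 114, 116, 117, 118, 119, 120, 121, 122, 123, 124, 125]]

/-- witness words cutting out the up-closures: `s ∈ e7ncL[k]` iff `v s > 0` for all `v ∈ e7ncWs[k]` -/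
def e7ncWs : List (List (List ℕ)) :=
  [[[], [6, 5, 4, 3, 2, 1, 3, 4, 5, 0, 2, 3, 4, 1, 3, 2], [6, 5, 4, 3, 2, 1, 3, 4, 5, 0, 2, 3, 4, 1, 3], [6, 5, 4, 3, 2, 1, 3, 4, 5, 0, 2, 3, 4, 1], [6, 5, 4, 3, 2, 1, 3, 4, 5, 0, 2, 3, 1], [6, 5, 4, 3, 2, 1, 3, 4, 0, 2, 3, 1], [6, 5, 4, 3, 2, 1, 3, 4, 5, 0, 2, 3, 4], [6, 5, 4, 3, 2, 1, 3, 4, 5, 0, 2, 3], [6, 5, 4, 3, 2, 1, 3, 4, 0, 2, 3], [6, 5, 4, 3, 2, 1, 3, 4, 5, 0, 2], [6, 5, 4, 3, 2, 1, 3, 4, 0, 2], [6, 5, 4, 3, 2, 1, 3, 0, 2], [6, 5, 4, 3, 2, 1, 3, 4, 5, 0], [6, 5, 4, 3, 2, 1, 3, 4, 0], [6, 5, 4, 3, 2, 1, 3, 0], [6, 5, 4, 3, 2, 1, 0], [6, 5, 4, 3, 2, 0], [6, 5, 4, 3, 2, 1, 3, 4, 5], [6, 5, 4, 3, 2, 1, 3, 4], [6, 5, 4, 3, 2, 1, 3], [6, 5, 4, 3, 2, 1], [6, 5, 4, 3, 1], [6, 5, 4, 3, 2], [6, 5, 4, 3], [6, 5, 4], [6, 5], [6]],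
   [[], [6, 5, 4, 3, 2, 1, 3, 4, 0, 2, 3, 1], [6, 5, 4, 3, 2, 1, 3, 4, 5, 0, 2, 3], [6, 5, 4, 3, 2, 1, 3, 4, 0, 2, 3], [6, 5, 4, 3, 2, 1, 3, 4, 5, 0, 2], [6, 5, 4, 3, 2, 1, 3, 4, 0, 2], [6, 5, 4, 3, 2, 1, 3, 0, 2], [6, 5, 4, 3, 2, 1, 3, 4, 5, 0], [6, 5, 4, 3, 2, 1, 3, 4, 0], [6, 5, 4, 3, 2, 1, 3, 0], [6, 5, 4, 3, 2, 1, 0], [6, 5, 4, 3, 2, 0], [6, 5, 4, 3, 2, 1, 3, 4, 5], [6, 5, 4, 3, 2, 1, 3, 4], [6, 5, 4, 3, 2, 1, 3], [6, 5, 4, 3, 2, 1], [6, 5, 4, 3, 1], [6, 5, 4, 3, 2], [6, 5, 4, 3], [6, 5, 4], [6, 5], [6]],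
   [[], [5, 4, 3, 2, 1, 3, 4, 0, 2, 3], [6, 5, 4, 3, 2, 1, 3, 4, 0, 2], [6, 5, 4, 3, 2, 1, 3, 0, 2], [6, 5, 4, 3, 2, 1, 3, 4, 5, 0], [6, 5, 4, 3, 2, 1, 3, 4, 0], [6, 5, 4, 3, 2, 1, 3, 0], [6, 5, 4, 3, 2, 1, 0], [6, 5, 4, 3, 2, 0], [6, 5, 4, 3, 2, 1, 3, 4, 5], [6, 5, 4, 3, 2, 1, 3, 4], [6, 5, 4, 3, 2, 1, 3], [6, 5, 4, 3, 2, 1], [6, 5, 4, 3, 1], [6, 5, 4, 3, 2], [6, 5, 4, 3], [6, 5, 4], [6, 5], [6]],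
   [[], [5, 4, 3, 2, 1, 3, 4, 0, 2, 3, 1], [5, 4, 3, 2, 1, 3, 4, 0, 2, 3], [5, 4, 3, 2, 1, 3, 4, 0, 2], [5, 4, 3, 2, 1, 3, 0, 2], [5, 4, 3, 2, 1, 3, 4, 0], [6, 5, 4, 3, 2, 1, 3, 0], [6, 5, 4, 3, 2, 1, 0], [6, 5, 4, 3, 2, 0], [6, 5, 4, 3, 2, 1, 3, 4], [6, 5, 4, 3, 2, 1, 3], [6, 5, 4, 3, 2, 1], [6, 5, 4, 3, 1], [6, 5, 4, 3, 2], [6, 5, 4, 3], [6, 5, 4], [6, 5], [6]],
   [[], [5, 4, 3, 2, 1, 3, 4, 0, 2, 3], [5, 4, 3, 2, 1, 3, 4, 0, 2], [5, 4, 3, 2, 1, 3, 0, 2], [5, 4, 3, 2, 1, 3, 4, 0], [6, 5, 4, 3, 2, 1, 3, 0], [6, 5, 4, 3, 2, 1, 0], [6, 5, 4, 3, 2, 0], [6, 5, 4, 3, 2, 1, 3, 4], [6, 5, 4, 3, 2, 1, 3], [6, 5, 4, 3, 2, 1], [6, 5, 4, 3, 1], [6, 5, 4, 3, 2], [6, 5, 4, 3], [6, 5, 4], [6, 5], [6]]]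

/-- for every root `r` of the `k`-th set of representatives the roots `> r` of its up-closure -/
def e7ncUp : List (List (ℕ × List ℕ)) :=
  [[(125, [])],
   [(118, [122, 123, 124, 125]), (121, [122, 123, 124, 125])],
   [(114, [117, 118, 121, 122, 123, 124, 125]), (116, [117, 118, 120, 121, 122, 123, 124, 125]), (119, [120, 121, 122, 123, 124, 125])],
   [(92, [108, 114, 117, 118, 121, 122, 123, 124, 125]), (107, [108, 113, 114, 116, 117, 118, 120, 121, 122, 123, 124, 125]), (111, [113, 114, 116, 117, 118, 120, 121, 122, 123, 124, 125])],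
   [(92, [108, 114, 117, 118, 121, 122, 123, 124, 125]), (107, [108, 113, 114, 116, 117, 118, 120, 121, 122, 123, 124, 125]), (111, [113, 114, 116, 117, 118, 120, 121, 122, 123, 124, 125]), (119, [120, 121, 122, 123, 124, 125])]]

/-- the strict up-closure of the root `r` of the `k`-th set of representatives -/
def e7ncUpF (k r : ℕ) : List ℕ :=
  ((e7ncUp.getD k []).find? fun p => p.1 == r).elim [] fun p => p.2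

end Cfsg.Agent.Lib.helper8.E7I
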