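import Mathlib
import Cfsg.Prelude.Def_ChevStructure
import Cfsg.Prelude.Def_ChevE7
import Cfsg.Agent.Lib.helper8.ChevIE7b
import Cfsg.Agent.Lib.helper8.ChevIE7d
import Cfsg.Agent.Lib.Helper11.INVSTDN
import Cfsg.Agent.Lib.Helper10.INVLEMN
import Cfsg.Agent.Lib.helper23.INVSAMEPERM
import Cfsg.Agent.Lib.helper14.INVHodd
import Cfsg.Agent.Lib.helper8.ChevCommAll

/-!
# Project INVE7 (S2181): every involution of `E₇(q)`, `q` even, is conjugate to one of the nine
standard involutions `∏ n_r(1)` of `N`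
-/

set_option autoImplicit false

namespace Cfsg.Agent.Lib.helper8.E7I

open Cfsg.Lie Cfsg.Lie.ChevalleyDatum Cfsg.Agent.Lib.helper8 Cfsg.Agent.Lib.helper14
  Cfsg.Agent.Lib.helper14.INV

universe u

variable {F : Type u} [Field F]

theorem e7_good_valid : ∀ g ∈ e7Good, (∀ i ∈ g.1, i < 7) ∧ g.2.1 < 9 ∧ (∀ i ∈ g.2.2, i < 7) := by
  decide +kernel

theorem e7_clsW_valid : ∀ k < 9, ∀ vj ∈ e7ClsW.getD k [],
    (∀ i ∈ vj.1, i < chevE7.rank) ∧ vj.2 < chevE7.rank := by decide +kernel

theorem e7_clsW_roots : ∀ k < 9, (e7ClsW.getD k []).map (stdaRoot chevE7) = e7Cls.getD k [] := by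
  decide +kernel

theorem e7_clsW_valid' : ∀ k < 9, ∀ i ∈ (e7ClsW.getD k []).flatMap stdaWord, i < 7 := by
  decide +kernel

/-- the classification of the entries of the table, fast form -/
def e7ClassFast (e : List ℕ × List ℕ) : Bool :=
  e.2 == [] || e7Good.any (fun g => g.1 == e.2) ||
  [93, 78, 73, 69, 66, 64, 63].any (fun r => h8e7sW e.2 (h8e7sW e.2 r) != r) ||
  e.1.any (fun j => decide (j < 7) && (h8e7sW e.2 (chevE7.simple j) != chevE7.simple j))

theorem e7_classFast : e7Tab.all e7ClassFast = true := by decide +kernel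

theorem e7_simple_lt : ∀ j < 7, chevE7.simple j < 126 := by decide

/-- a good entry of the table is the identity or one of the `39` listed ones -/
theorem e7_class (e : List ℕ × List ℕ) (he : e ∈ e7Tab) (hg : gtGood chevE7 e = true) :
    e.2 = [] ∨ ∃ g ∈ e7Good, g.1 = e.2 := by
  have hv : ∀ i ∈ e.2, i < 7 := by
    have h1 := e7_tab_all e he
    unfold e7InvFast at h1
    rw [Bool.and_eq_true, List.all_eq_true] at h1
    intro i hi
    simpa using h1.1 i hi
  have h := e7_classFast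
  rw [List.all_eq_true] at h
  have h1 := h e he
  unfold e7ClassFast at h1
  unfold gtGood at hg
  rw [Bool.and_eq_true, List.all_eq_true, List.all_eq_true] at hg
  obtain ⟨hg1, hg2⟩ := hg
  rw [Bool.or_eq_true, Bool.or_eq_true, Bool.or_eq_true] at h1
  rcases h1 with ((h1 | h1) | h1) | h1
  · left
    exact beq_iff_eq.mp h1
  · right
    rw [List.any_eq_true] at h1
    obtain ⟨g, hgm, hge⟩ := h1
    exact ⟨g, hgm, beq_iff_eq.mp hge⟩
  · exfalso
    rw [List.any_eq_true] at h1
    obtain ⟨r, hr, hne⟩ := h1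
    have hr126 : r < 126 := by
      simp only [List.mem_cons, List.not_mem_nil, or_false] at hr
      omega
    have h2 := hg1 r (List.mem_range.mpr hr126)
    rw [beq_iff_eq, h8e7sW_eq' e.2 hv r hr126,
      h8e7sW_eq' e.2 hv _ (h8e7sW_lt e.2 hv r hr126)] at h2
    rw [h2] at hne
    simp at hne
  · exfalso
    rw [List.any_eq_true] at h1
    obtain ⟨j, hj, hne⟩ := h1
    rw [Bool.and_eq_true, decide_eq_true_eq] at hne
    have h2 := hg2 j hj
    rw [beq_iff_eq, h8e7sW_eq' e.2 hv _ (e7_simple_lt j hne.1)] at h2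
    rw [h2] at hne
    simp at hne

/-- the conjugation check, fast form -/
def e7ConjFast (g : List ℕ × ℕ × List ℕ) : Bool :=
  [93, 78, 73, 69, 66, 64, 63].all fun r =>
    h8e7sW (g.2.2 ++ g.1 ++ g.2.2.reverse) r ==
      h8e7sW ((e7ClsW.getD g.2.1 []).flatMap stdaWord) r

theorem e7_conjFast : e7Good.all e7ConjFast = true := by decide +kernel

theorem e7_conj (g : List ℕ × ℕ × List ℕ) (hg : g ∈ e7Good) : ∀ r < 126,
    h8sW chevE7 (g.2.2 ++ g.1 ++ g.2.2.reverse) r =
      h8sW chevE7 ((e7ClsW.getD g.2.1 []).flatMap stdaWord) r := by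
  obtain ⟨h1, h2, h3⟩ := e7_good_valid g hg
  have h := e7_conjFast
  rw [List.all_eq_true] at h
  have h4 := h g hg
  unfold e7ConjFast at h4
  rw [List.all_eq_true] at h4
  apply h8e7_ext7
  · intro i hi
    rw [List.mem_append, List.mem_append, List.mem_reverse] at hi
    rcases hi with (hi | hi) | hi
    · exact h3 i hi
    · exact h1 i hi
    · exact h3 i hi
  · exact e7_clsW_valid' g.2.1 h2
  · intro r hr
    exact beq_iff_eq.mp (h4 r hr)

theorem e7_stdn_chk : ∀ k < 9, invstdnListChk chevE7 (e7Cls.getD k []) = true := by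
  decide +kernel

/-- STDN : the standard involutions lie in `N` and square to `1` -/
theorem e7_std_N [CharP F 2] (hB : H8Base.{u} chevE7) (k : ℕ) (hk : k < 9) :
    (n1 chevE7 hB (e7Cls.getD k []) : GL chevE7.Idx F) ∈ chevE7.monomialSubgroup F ∧
    (n1 chevE7 hB (e7Cls.getD k []) : GL chevE7.Idx F) * n1 chevE7 hB (e7Cls.getD k []) = 1 := by
  have hC := h8commAll.{u} chevE7 h8e7_mem
  exact invstdn_list chevE7 hB hC _ (e7_stdn_chk k hk)

/-- STDA : the standard involutions act on the root subgroups through the words of `e7ClsW` -/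
theorem e7_std_act (hB : H8Base.{u} chevE7) (k : ℕ) (hk : k < 9) (r : ℕ) (hr : r < 126) :
    H8Act chevE7 hB (n1 chevE7 hB (e7Cls.getD k []) : GL chevE7.Idx F) r
      (h8sW chevE7 ((e7ClsW.getD k []).flatMap stdaWord) r) := by
  have hA := h8reflAll chevE7 h8e7_mem
  have hBN := h8bn_all chevE7 h8e7_mem
  have hW := h8bn2_all chevE7 h8e7_mem
  obtain ⟨_, hO2⟩ := h8ord_all chevE7 h8e7_mem
  have h := (stda_list_act (F := F) chevE7 hB hA hBN hW hO2 (e7ClsW.getD k [])
    (e7_clsW_valid k hk) r hr).1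
  rw [e7_clsW_roots k hk] at h
  exact h

end Cfsg.Agent.Lib.helper8.E7I
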