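import Mathlib
import Cfsg.Prelude.Def_ChevStructure
import Cfsg.Prelude.Def_ChevE7
import Cfsg.Agent.Lib.helper8.ChevIE7e
import Cfsg.Agent.Lib.helper8.ChevIE7f

/-!
# Project INVE7 (S2181): from the maximal cell argument to the nine standard involutions of `N`
-/

set_option autoImplicit false

namespace Cfsg.Agent.Lib.helper8.E7I

open Cfsg.Lie Cfsg.Lie.ChevalleyDatum Cfsg.Agent.Lib.helper8 Cfsg.Agent.Lib.helper14
  Cfsg.Agent.Lib.helper14.INV

universe u

variable {F : Type u} [Field F]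

theorem e7_gtChk : gtChk chevE7 = true := by decide +kernel

theorem e7_lsChk : lsChk chevE7 = true := by decide +kernel

theorem e7_cls_nodup : ∀ k < 9, (e7Cls.getD k []).Nodup := by decide

/-- STDC : `∏ n_r(1)` is conjugate to `∏ x_r(1)` -/
theorem e7_std_cj [CharP F 2] (hB : H8Base.{u} chevE7) (k : ℕ) (hk : k < 9) :
    Cj chevE7 (n1 chevE7 hB (e7Cls.getD k []) : GL chevE7.Idx F)
      (w1 chevE7 hB (e7Cls.getD k [])) :=
  stdc_all chevE7 h8e7_mem hB _ (e7_cls_nodup k hk) (e7_stdn_chk k hk)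

/-- an involution of a group of odd order is trivial -/
theorem e7_odd_invol {G : Type*} [Group G] (H : Subgroup G) (hodd : Odd (Nat.card H)) (x : G)
    (hx : x ∈ H) (hsq : x * x = 1) : x = 1 := by
  have hord : orderOf (⟨x, hx⟩ : H) ∣ Nat.card H := orderOf_dvd_natCard _
  have h2 : (⟨x, hx⟩ : H) ^ 2 = 1 := by
    apply Subtype.ext
    rw [Subgroup.coe_pow, pow_two]
    exact hsq
  have hd2 : orderOf (⟨x, hx⟩ : H) ∣ 2 := orderOf_dvd_of_pow_eq_one h2
  have hone : orderOf (⟨x, hx⟩ : H) = 1 := by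
    have hodd' : Odd (orderOf (⟨x, hx⟩ : H)) := by
      obtain ⟨c, hc⟩ := hord
      rw [hc] at hodd
      exact (Nat.odd_mul.mp hodd).1
    rcases (Nat.dvd_prime Nat.prime_two).mp hd2 with h | h
    · exact h
    · rw [h] at hodd'
      exact absurd hodd' (by decide)
  rw [orderOf_eq_one_iff] at hone
  exact congrArg Subtype.val hone

/-- every involution of `E₇(F)`, `char F = 2`, is conjugate to one of the nine standard involutions
of `N`; `hgen` is the conclusion of the maximal cell argument (`invol_conj_N`) -/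
theorem e7_invol_N [Fintype F] [CharP F 2]
    (hgen : ∀ t : GL chevE7.Idx F, t ∈ chevE7.group F → t * t = 1 →
      ∃ g ∈ chevE7.group F, ∃ w : List ℕ, ValidW chevE7 w ∧ JProp chevE7 w ∧
        ∃ h0 ∈ chevE7.diagonalSubgroup F,
          g * t * g⁻¹ = h0 * (h8nWU chevE7 (h8base_all.{u} chevE7 h8e7_mem) w : GL chevE7.Idx F))
    (t : GL chevE7.Idx F) (ht : t ∈ chevE7.group F) (ho : orderOf t = 2) :
    ∃ k < 9, Cj chevE7 t
      (n1 chevE7 (h8base_all.{u} chevE7 h8e7_mem) (e7Cls.getD k []) : GL chevE7.Idx F) := by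
  have hD := h8e7_mem
  set hB := h8base_all.{u} chevE7 hD with hBdef
  have hB0 := h8base_all.{0} chevE7 hD
  have hA := h8reflAll chevE7 hD
  have hBN := h8bn_all chevE7 hD
  have hW := h8bn2_all chevE7 hD
  obtain ⟨hO, hO2⟩ := h8ord_all chevE7 hD
  have hsq : t * t = 1 := by
    have := pow_orderOf_eq_one t
    rw [ho, pow_two] at this
    exact this
  have hne : t ≠ 1 := by
    intro h
    rw [h, orderOf_one] at ho
    omega
  obtain ⟨g, hg, w, hw, hJ, h0, hh, e⟩ := hgen t ht hsq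
  obtain ⟨e', he', hgood, _, hv', heq⟩ :=
    gt_table_good chevE7 hB0 hA hBN hW hO2 e7_gtChk e7Tab e7_tabChk w hw hJ
  have hn'N : h0 * (h8nWU chevE7 hB w : GL chevE7.Idx F) ∈ chevE7.monomialSubgroup F :=
    Subgroup.mul_mem _ (h8H_le_N chevE7 hh) (h8nWU_mem_N chevE7 hB hA w hw)
  have hn'sq : (h0 * (h8nWU chevE7 hB w : GL chevE7.Idx F)) *
      (h0 * (h8nWU chevE7 hB w : GL chevE7.Idx F)) = 1 := by
    rw [← e]
    exact conjN_sq g t hsq
  have hodd : Odd (Nat.card (chevE7.diagonalSubgroup F)) := H_card_odd chevE7 hD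
  rcases e7_class e' he' hgood with hnil | ⟨g0, hg0, hg0e⟩
  · -- the identity: `t = 1`
    exfalso
    have hid : ∀ r < 126, h8sW chevE7 w r = r := by
      intro r hr
      rw [heq r hr, hnil]
      rfl
    have hn'act : ∀ r < chevE7.nroots,
        H8Act chevE7 hB (h0 * (h8nWU chevE7 hB w : GL chevE7.Idx F)) r r := by
      intro r hr
      have h1 := h8nWU_act (F := F) chevE7 hB hA w hw r hr
      rw [hid r hr] at h1
      exact h8act_mul chevE7 hB h0 _ _ _ _ h1 (h8perm_H_id chevE7 hB h0 hh r hr)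
    have h1act : ∀ r < chevE7.nroots, H8Act chevE7 hB (1 : GL chevE7.Idx F) r r := by
      intro r _
      refine ⟨1, one_ne_zero, fun t => ?_⟩
      rw [one_mul, inv_one, mul_one, one_mul]
    have hH := N_same_perm chevE7 hB hA hBN hW hO2 (1 : GL chevE7.Idx F)
      (h0 * (h8nWU chevE7 hB w : GL chevE7.Idx F)) (Subgroup.one_mem _) hn'N (fun r => r) h1act
      hn'act
    rw [inv_one, one_mul] at hH
    have hn1 := e7_odd_invol _ hodd _ hH hn'sq
    apply hne
    have : t = g⁻¹ * (g * t * g⁻¹) * g := by group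
    rw [this, e, hn1]
    group
  · obtain ⟨hc, hk, hvv⟩ := e7_good_valid g0 hg0
    set k := g0.2.1 with hkdef
    set v := g0.2.2 with hvdef
    refine ⟨k, hk, ?_⟩
    have hvV : ValidW chevE7 v := hvv
    obtain ⟨hcN, hcact⟩ := conjN_act (F := F) chevE7 hB hA v w hvV hw h0 hh
    have hcsq := conjN_sq (h8nWU chevE7 hB v : GL chevE7.Idx F) _ hn'sq
    obtain ⟨hzN, hzsq⟩ := e7_std_N (F := F) hB k hk
    have hvr : ValidW chevE7 v.reverse := fun i hi => hvV i (List.mem_reverse.mp hi)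
    have hact1 : ∀ r < chevE7.nroots, H8Act chevE7 hB
        ((h8nWU chevE7 hB v : GL chevE7.Idx F) * (h0 * h8nWU chevE7 hB w) *
          (h8nWU chevE7 hB v : GL chevE7.Idx F)⁻¹) r
        (h8sW chevE7 ((e7ClsW.getD k []).flatMap stdaWord) r) := by
      intro r hr
      have h1 := hcact r hr
      have e1 : h8sW chevE7 (v ++ w ++ v.reverse) r = h8sW chevE7 (v ++ g0.1 ++ v.reverse) r := by
        rw [h8sW_append, h8sW_append, h8sW_append, h8sW_append,
          heq _ (h8sW_lt chevE7 hA v.reverse hvr r hr), hg0e]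
      rw [e1, e7_conj g0 hg0 r hr] at h1
      exact h1
    have hH := N_same_perm chevE7 hB hA hBN hW hO2 _ _ hcN hzN _ hact1
      (fun r hr => e7_std_act (F := F) hB k hk r hr)
    obtain ⟨h, hhH, eh⟩ := N_invol_conj chevE7 hB hA hBN hodd _ _ hcN hzN hcsq hzsq hH
    have hhG : h ∈ chevE7.group F := h8_B_le_group chevE7 hB (h8H_le_B chevE7 hhH)
    have hvG : (h8nWU chevE7 hB v : GL chevE7.Idx F) ∈ chevE7.group F :=
      h8_N_le_group chevE7 hB (h8nWU_mem_N chevE7 hB hA v hvV)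
    refine ⟨h * (h8nWU chevE7 hB v : GL chevE7.Idx F) * g,
      Subgroup.mul_mem _ (Subgroup.mul_mem _ hhG hvG) hg, ?_⟩
    rw [← eh, ← e]
    group

end Cfsg.Agent.Lib.helper8.E7I
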