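import Mathlib
import Cfsg.Prelude.Def_ChevStructure
import Cfsg.Prelude.Def_ChevG2
import Cfsg.Prelude.Def_LieTwisted
import Cfsg.Agent.Lib.helper8.ChevRee12

set_option autoImplicit false

namespace Cfsg.Agent.Lib.helper8

open Cfsg.Lie Cfsg.Lie.ChevalleyDatum

universe u

variable {K : Type u} [Field K]

/-- an entry of a word matrix computed modulo `p` -/
theorem h8word_entryP (p : ℕ) [CharP K p] (D : ChevalleyDatum) (a b : K) (ha : a ≠ 0)
    (hb : b ≠ 0) (w : List (ℕ × H8Poly)) (i j : D.Idx) (q : H8Poly)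
    (h : H8Poly.isZeroP p (H8Poly.add
      (h8coeffAt (h8wordAct D w [(h8code D j, H8Poly.const 1)]) (h8code D i))
      (H8Poly.neg q)) = true) :
    D.wordMat K (h8evWord a b w) i j = H8Poly.ev a b q := by
  rw [h8word_entry D a b ha hb]
  have := H8Poly.ev_of_isZeroP p a b _ h
  rw [H8Poly.ev_add, H8Poly.ev_neg] at this
  exact sub_eq_zero.mp (by rw [sub_eq_add_neg]; exact this)

theorem h8ree_n0chk : H8Poly.isZeroP 3 (H8Poly.add
    (h8coeffAt (h8wordAct chevG2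
      [(8, [(1, 0, 0)]), (10, [(1, 0, 0)]), (3, [(-1, 0, 0)]), (1, [(-1, 0, 0)]),
        (8, [(1, 0, 0)]), (10, [(1, 0, 0)])]
      [(h8code chevG2 (Sum.inr ⟨11, by decide⟩), H8Poly.const 1)])
      (h8code chevG2 (Sum.inr ⟨0, by decide⟩)))
    (H8Poly.neg [(-1, 0, 0)])) = true := by decide +kernel

theorem h8ree_v3chk : H8Poly.isZeroP 3 (H8Poly.add
    (h8coeffAt (h8wordAct chevG2
      [(2, [(-1, 0, 1)]), (0, [(-1, 1, 0)])]
      [(h8code chevG2 (Sum.inr ⟨11, by decide⟩), H8Poly.const 1)])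
      (h8code chevG2 (Sum.inr ⟨0, by decide⟩)))
    (H8Poly.neg [(-1, 2, 0)])) = true := by decide +kernel

theorem h8ree_v1chk : H8Poly.isZeroP 3 (H8Poly.add
    (h8coeffAt (h8wordAct chevG2
      [(4, [(-1, 0, 0)]), (5, [(-1, 0, 0)]), (3, [(-1, 0, 0)]), (2, [(-1, 0, 0)])]
      [(h8code chevG2 (Sum.inr ⟨11, by decide⟩), H8Poly.const 1)])
      (h8code chevG2 (Sum.inr ⟨0, by decide⟩)))
    (H8Poly.neg [(1, 0, 0)])) = true := by decide +kernel

theorem h8ree_ct1 : chevG2.commTerms 10 3 = [] := by decide +kernel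

theorem h8ree_ct2 : chevG2.commTerms 1 8 = [] := by decide +kernel

variable {hB : H8Base.{u} chevG2}

/-- the element of the Ree group representing the non-trivial element of its Weyl group -/
def h8reeN0 (hB : H8Base.{u} chevG2) (e : ℕ) : GL chevG2.Idx K :=
  h8wordU chevG2 hB (reeWordU e 0 1 0) * h8wordU chevG2 hB (reeWordV e 0 1 0) *
    h8wordU chevG2 hB (reeWordU e 0 1 0)

theorem h8reeN0_mem (e : ℕ) : h8reeN0 (K := K) hB e ∈ twistedG2 K e :=
  Subgroup.mul_mem _ (Subgroup.mul_mem _ (h8reeWordU_mem hB e _ _ _) (h8reeWordV_mem hB e _ _ _))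
    (h8reeWordU_mem hB e _ _ _)

theorem h8reeN0_eq (e : ℕ) (he : e ≠ 0) :
    h8reeN0 (K := K) hB e = h8xU chevG2 hB 8 1 * h8xU chevG2 hB 10 1 * h8xU chevG2 hB 3 (-1) *
      h8xU chevG2 hB 1 (-1) * h8xU chevG2 hB 8 1 * h8xU chevG2 hB 10 1 := by
  unfold h8reeN0 reeWordV ChevalleyDatum.negWord reeWordU g2a g2b g2ab g2aab g2aaab g2aaabb
  simp only [List.map_cons, List.map_nil, h8wordU_cons]
  have e0 : h8wordU chevG2 hB ([] : List (ℕ × K)) = 1 := rfl
  have n7 : chevG2.negIdx.getD 7 0 = 4 := rfl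
  have n6 : chevG2.negIdx.getD 6 0 = 5 := rfl
  have n8 : chevG2.negIdx.getD 8 0 = 3 := rfl
  have n9 : chevG2.negIdx.getD 9 0 = 2 := rfl
  have n10 : chevG2.negIdx.getD 10 0 = 1 := rfl
  have n11 : chevG2.negIdx.getD 11 0 = 0 := rfl
  rw [e0, n7, n6, n8, n9, n10, n11, zero_pow he, zero_pow (Nat.succ_ne_zero _),
    zero_pow (Nat.succ_ne_zero _), one_pow, zero_add, add_zero, neg_zero]
  simp only [h8xU_zero', one_mul, mul_one]
  group

theorem h8reeN0_eq_word (e : ℕ) (he : e ≠ 0) :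
    h8reeN0 (K := K) hB e = h8wordU chevG2 hB
      [(8, 1), (10, 1), (3, -1), (1, -1), (8, 1), (10, 1)] := by
  rw [h8reeN0_eq e he]
  simp only [h8wordU_cons]
  have e0 : h8wordU chevG2 hB ([] : List (ℕ × K)) = 1 := rfl
  rw [e0]
  group

theorem h8reeN0_entry [CharP K 3] (e : ℕ) (he : e ≠ 0) :
    (h8reeN0 (K := K) hB e : Matrix chevG2.Idx chevG2.Idx K) (Sum.inr ⟨0, by decide⟩)
      (Sum.inr ⟨11, by decide⟩) = -1 := by
  rw [h8reeN0_eq_word e he, h8wordU_val]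
  have hw : ([(8, 1), (10, 1), (3, -1), (1, -1), (8, 1), (10, 1)] : List (ℕ × K)) =
      h8evWord (1 : K) 1 [(8, [(1, 0, 0)]), (10, [(1, 0, 0)]), (3, [(-1, 0, 0)]),
        (1, [(-1, 0, 0)]), (8, [(1, 0, 0)]), (10, [(1, 0, 0)])] := by
    simp [h8evWord, H8Poly.ev, H8Poly.mev]
  rw [hw, h8word_entryP 3 chevG2 1 1 one_ne_zero one_ne_zero _ _ _ _ h8ree_n0chk]
  simp [H8Poly.ev, H8Poly.mev]

theorem h8reeN0_eq_nn [CharP K 3] (hC : H8CommAll.{u} chevG2) (e : ℕ) (he : e ≠ 0) :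
    h8reeN0 (K := K) hB e = h8nU chevG2 hB 8 1 * h8nU chevG2 hB 10 1 := by
  rw [h8reeN0_eq e he, h8nU_eq, h8nU_eq]
  have n8 : chevG2.negIdx.getD 8 0 = 3 := rfl
  have n10 : chevG2.negIdx.getD 10 0 = 1 := rfl
  rw [n8, n10, inv_one]
  have hbc : Commute (h8xU chevG2 hB 10 (1 : K)) (h8xU chevG2 hB 3 (-1)) :=
    h8comm_char chevG2 hB hC 10 3 (by decide) (by decide) (by decide) (by decide)
      (by rw [h8ree_ct1]; simp) _ _
  have hda : Commute (h8xU chevG2 hB 1 (-1 : K)) (h8xU chevG2 hB 8 1) :=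
    h8comm_char chevG2 hB hC 1 8 (by decide) (by decide) (by decide) (by decide)
      (by rw [h8ree_ct2]; simp) _ _
  have hba : Commute (h8xU chevG2 hB 10 (1 : K)) (h8xU chevG2 hB 8 1) :=
    h8ree_comm_pos hB hC _ _ (by decide) (by decide) _ _
  generalize h8xU chevG2 hB 8 (1 : K) = a at *
  generalize h8xU chevG2 hB 10 (1 : K) = b at *
  generalize h8xU chevG2 hB 3 (-1 : K) = c at *
  generalize h8xU chevG2 hB 1 (-1 : K) = d at *
  calc a * b * c * d * a * b = a * (b * c) * d * a * b := by group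
    _ = a * (c * b) * d * a * b := by rw [hbc.eq]
    _ = a * c * b * (d * a) * b := by group
    _ = a * c * b * (a * d) * b := by rw [hda.eq]
    _ = a * c * (b * a) * d * b := by group
    _ = a * c * (a * b) * d * b := by rw [hba.eq]
    _ = a * c * a * (b * d * b) := by group

theorem h8reeN0_mem_N [CharP K 3] (hC : H8CommAll.{u} chevG2) (e : ℕ) (he : e ≠ 0) :
    h8reeN0 (K := K) hB e ∈ chevG2.monomialSubgroup K := by
  rw [h8reeN0_eq_nn hC e he]
  exact Subgroup.mul_mem _ (h8nU_mem_N chevG2 hB 8 (by decide)) (h8nU_mem_N chevG2 hB 10 (by decide))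

theorem h8reeN0_not_H [CharP K 3] (e : ℕ) (he : e ≠ 0) :
    h8reeN0 (K := K) hB e ∉ chevG2.diagonalSubgroup K := by
  intro h
  obtain ⟨d, hd⟩ := h8_diag_of_mem_H chevG2 hB _ h
  have := h8reeN0_entry (K := K) (hB := hB) e he
  rw [hd, Matrix.diagonal_apply_ne _ (by decide)] at this
  exact (neg_ne_zero.mpr one_ne_zero) this.symm

end Cfsg.Agent.Lib.helper8
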