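import Mathlib
import Cfsg.Prelude.Def_ChevStructure
import Cfsg.Prelude.Def_ChevG2
import Cfsg.Prelude.Def_LieTwisted
import Cfsg.Agent.Lib.helper8.ChevRee13

set_option autoImplicit false

namespace Cfsg.Agent.Lib.helper8

open Cfsg.Lie Cfsg.Lie.ChevalleyDatum

universe u

variable {K : Type u} [Field K] [Fintype K] {m : ℕ}

/-- an element of `N` in the Ree group induces the trivial or the longest permutation -/
theorem h8ree_Pi_N1 (hK : Fintype.card K = 3 ^ (2 * m + 1)) (hB : H8Base.{u} chevG2)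
    (hA : H8ReflAll chevG2) (hBN : H8BN chevG2) (hW : H8BN2 chevG2) (hO2 : H8Ord2 chevG2)
    (n : ↥(chevG2.monomialSubgroup K)) (hn : n.val ∈ twistedG2 K (3 ^ m)) :
    h8Pi chevG2 hB hA hBN hW hO2 n = 1 ∨ h8Pi chevG2 hB hA hBN hW hO2 n = h8reeW0 hA := by
  have hD : chevG2 ∈ [chevG2, chevB2, chevD4, chevF4, chevE6, chevE7, chevE8] := by simp
  have hC := h8commAll.{u} chevG2 hD
  haveI := h8ree_char3 hK
  obtain ⟨R, hfe⟩ := h8ree_setup hK hB
  have hfix := (h8ree_G1_fix R hC (3 ^ m) hfe n.val hn).2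
  exact h8ree_W_cent hA hBN hW hO2 _ (h8Pi_mem_W chevG2 hB hA hBN hW hO2 n)
    (fun r => h8ree_Pi_comm R hA hBN hW hO2 n hfix r)

/-- the element `n₀` induces the longest permutation -/
theorem h8ree_Pi_N0 (hK : Fintype.card K = 3 ^ (2 * m + 1)) (hB : H8Base.{u} chevG2)
    (hA : H8ReflAll chevG2) (hBN : H8BN chevG2) (hW : H8BN2 chevG2) (hO2 : H8Ord2 chevG2)
    (hmem : h8reeN0 (K := K) hB (3 ^ m) ∈ chevG2.monomialSubgroup K) :
    h8Pi chevG2 hB hA hBN hW hO2 ⟨h8reeN0 (K := K) hB (3 ^ m), hmem⟩ = h8reeW0 hA := by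
  haveI := h8ree_char3 hK
  rcases h8ree_Pi_N1 hK hB hA hBN hW hO2 ⟨_, hmem⟩ (h8reeN0_mem _) with h | h
  · exact absurd (h8Pi_ker chevG2 hB hA hBN hW hO2 _ h)
      (h8reeN0_not_H (3 ^ m) (pow_ne_zero _ (by norm_num)))
  · exact h

/-- the homomorphism from `N ∩ ²G₂(q)` onto a group of order two with kernel `H ∩ ²G₂(q)` -/
theorem h8ree_N1_hom (hK : Fintype.card K = 3 ^ (2 * m + 1)) :
    ∃ φ : ↥(chevG2.monomialSubgroup K ⊓ twistedG2 K (3 ^ m)) →* Multiplicative (ZMod 2),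
      Function.Surjective φ ∧
      φ.ker = (chevG2.diagonalSubgroup K ⊓ twistedG2 K (3 ^ m)).subgroupOf
        (chevG2.monomialSubgroup K ⊓ twistedG2 K (3 ^ m)) := by
  classical
  have hD : chevG2 ∈ [chevG2, chevB2, chevD4, chevF4, chevE6, chevE7, chevE8] := by simp
  have hB := h8base_all.{u} chevG2 hD
  have hA := h8reflAll chevG2 hD
  have hC := h8commAll.{u} chevG2 hD
  have hBN := h8bn_all chevG2 hD
  have hW := h8bn2_all chevG2 hD
  obtain ⟨hO, hO2⟩ := h8ord_all chevG2 hD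
  haveI := h8ree_char3 hK
  have he : (3 ^ m : ℕ) ≠ 0 := pow_ne_zero _ (by norm_num)
  let P : ↥(chevG2.monomialSubgroup K ⊓ twistedG2 K (3 ^ m)) →* Equiv.Perm (Fin chevG2.nroots) :=
    (h8Pi chevG2 hB hA hBN hW hO2).comp (Subgroup.inclusion inf_le_left)
  have hP : ∀ x, P x = 1 ∨ P x = h8reeW0 hA := fun x =>
    h8ree_Pi_N1 hK hB hA hBN hW hO2 ⟨x.val, x.2.1⟩ x.2.2
  have hw1 : h8reeW0 hA ≠ 1 := h8reeW0_ne_one hA
  have hww : h8reeW0 hA * h8reeW0 hA = 1 := h8reeW0_sq hA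
  let φ : ↥(chevG2.monomialSubgroup K ⊓ twistedG2 K (3 ^ m)) →* Multiplicative (ZMod 2) :=
    { toFun := fun x => if P x = 1 then 1 else Multiplicative.ofAdd 1
      map_one' := by simp
      map_mul' := by
        intro x y
        simp only [map_mul]
        rcases hP x with hx | hx <;> rcases hP y with hy | hy
        · rw [hx, hy]; simp
        · rw [hx, hy, one_mul, if_neg hw1]; simp
        · rw [hx, hy, mul_one, if_neg hw1]; simp
        · rw [hx, hy, hww, if_neg hw1]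
          simp only [if_true]
          decide }
  have hφ : ∀ x, φ x = if P x = 1 then 1 else Multiplicative.ofAdd 1 := fun _ => rfl
  refine ⟨φ, ?_, ?_⟩
  · intro y
    have hy : y = 1 ∨ y = Multiplicative.ofAdd 1 := by
      revert y
      decide
    rcases hy with rfl | rfl
    · exact ⟨1, map_one φ⟩
    · have hmem := h8reeN0_mem_N (K := K) (hB := hB) hC (3 ^ m) he
      refine ⟨⟨h8reeN0 hB (3 ^ m), hmem, h8reeN0_mem _⟩, ?_⟩
      rw [hφ]
      have : P ⟨h8reeN0 hB (3 ^ m), hmem, h8reeN0_mem _⟩ = h8reeW0 hA :=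
        h8ree_Pi_N0 hK hB hA hBN hW hO2 hmem
      rw [this, if_neg hw1]
  · ext x
    rw [MonoidHom.mem_ker, Subgroup.mem_subgroupOf, hφ]
    constructor
    · intro h
      have h1 : P x = 1 := by
        by_contra hne
        rw [if_neg hne] at h
        revert h
        decide
      exact ⟨h8Pi_ker chevG2 hB hA hBN hW hO2 ⟨x.val, x.2.1⟩ h1, x.2.2⟩
    · intro h
      have h1 : P x = 1 := h8Pi_H chevG2 hB hA hBN hW hO2 ⟨x.val, x.2.1⟩ h.1
      rw [if_pos h1]

end Cfsg.Agent.Lib.helper8
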