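import Mathlib
import Cfsg.Prelude.Def_ChevStructure
import Cfsg.Prelude.Def_ChevG2
import Cfsg.Prelude.Def_LieTwisted
import Cfsg.Agent.Lib.helper8.ChevRee14
import Cfsg.Agent.Lib.helper8.ChevTwH1
import Cfsg.Agent.Lib.helper8.ChevTits5

set_option autoImplicit false

namespace Cfsg.Agent.Lib.helper8

open Cfsg.Lie Cfsg.Lie.ChevalleyDatum

universe u

variable {K : Type u} [Field K] {hB : H8Base.{u} chevG2}

/-- the characters of a fixed element of `H` are compatible with the Ree twist -/
theorem h8ree_chi_sig [CharP K 3] (R : H8Ree K hB) (hA : H8ReflAll chevG2) (hW : H8BN2 chevG2)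
    (k : GL chevG2.Idx K) (hk : k ∈ chevG2.diagonalSubgroup K) (hfix : h8reeS R k = k)
    (r : ℕ) (hr : r < 12) :
    h8chi chevG2 hB k (h8reeRho r) = h8reeE R r (h8chi chevG2 hB k r) := by
  have hkG : k ∈ chevG2.group K := h8_H_le_group chevG2 hB hk
  have h1 := congrArg (h8reeS R) ((h8chi_spec chevG2 hB k hk r hr).2 1)
  rw [h8reeS_mul R _ _ (Subgroup.mul_mem _ hkG (h8xU_mem_group chevG2 hB _ _))
    (Subgroup.inv_mem _ hkG), h8reeS_mul R _ _ hkG (h8xU_mem_group chevG2 hB _ _),
    h8reeS_inv R _ hkG, hfix, h8reeS_xU R _ hr, h8reeS_xU R _ hr, h8reeE_one, mul_one] at h1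
  exact h8chi_unique chevG2 hB hA hW k hk (h8reeRho r) (h8reeRho_lt r hr) _ h1

/-- an element of `H` acting trivially on the simple root subgroups is trivial -/
theorem h8ree_H_inj (hne : ∃ a : K, a ≠ 0 ∧ a ≠ 1) (hA : H8ReflAll chevG2) (hBN : H8BN chevG2)
    (hW : H8BN2 chevG2) (k : GL chevG2.Idx K) (hk : k ∈ chevG2.diagonalSubgroup K)
    (h7 : h8chi chevG2 hB k 7 = 1) (h6 : h8chi chevG2 hB k 6 = 1) : k = 1 := by
  have hD : chevG2 ∈ [chevG2, chevB2, chevD4, chevF4, chevE6, chevE7, chevE8] := by simp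
  have hkG : k ∈ chevG2.group K := h8_H_le_group chevG2 hB hk
  have n7 : chevG2.negIdx.getD 7 0 = 4 := rfl
  have n6 : chevG2.negIdx.getD 6 0 = 5 := rfl
  have h4 : h8chi chevG2 hB k 4 = 1 := by
    have := h8chi_neg chevG2 hB hA hW k hk 7 (by decide)
    rw [n7, h7, inv_one] at this
    exact this
  have h5 : h8chi chevG2 hB k 5 = 1 := by
    have := h8chi_neg chevG2 hB hA hW k hk 6 (by decide)
    rw [n6, h6, inv_one] at this
    exact this
  have hcomm : ∀ r ∈ [7, 6, 4, 5], ∀ t : K, h8xU chevG2 hB r t * k = k * h8xU chevG2 hB r t := by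
    intro r hr t
    have hlt : r < chevG2.nroots := by
      simp only [List.mem_cons, List.not_mem_nil, or_false] at hr
      rcases hr with rfl | rfl | rfl | rfl <;> decide
    have h1 : h8chi chevG2 hB k r = 1 := by
      simp only [List.mem_cons, List.not_mem_nil, or_false] at hr
      rcases hr with rfl | rfl | rfl | rfl <;> assumption
    have := (h8chi_spec chevG2 hB k hk r hlt).2 t
    rw [h1, one_mul, mul_inv_eq_iff_eq_mul] at this
    exact this.symm
  have hle : chevG2.group K ≤ Subgroup.centralizer ({k} : Set (GL chevG2.Idx K)) := by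
    apply h8group_le_of_simple chevG2 hB hA hBN
    · intro j hj t
      rw [Subgroup.mem_centralizer_iff]
      intro x hx
      rw [Set.mem_singleton_iff] at hx
      rw [hx]
      have hj' : j = 0 ∨ j = 1 := by
        have : j < 2 := hj
        omega
      rcases hj' with rfl | rfl
      · exact (hcomm 7 (by simp) t).symm
      · exact (hcomm 6 (by simp) t).symm
    · intro j hj t
      rw [Subgroup.mem_centralizer_iff]
      intro x hx
      rw [Set.mem_singleton_iff] at hx
      rw [hx]
      have hj' : j = 0 ∨ j = 1 := by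
        have : j < 2 := hj
        omega
      rcases hj' with rfl | rfl
      · exact (hcomm 4 (by simp) t).symm
      · exact (hcomm 5 (by simp) t).symm
  obtain ⟨hsimp, hnc⟩ := h8simple_main (F := K) chevG2 hD (fun _ => hne)
  have := h8center_trivial hsimp hnc ⟨k, hkG⟩ (fun g => by
    apply Subtype.ext
    have h1 := hle g.2
    rw [Subgroup.mem_centralizer_iff] at h1
    exact h1 k rfl)
  exact congrArg Subtype.val this

end Cfsg.Agent.Lib.helper8
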