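import Mathlib
import Cfsg.Prelude.Def_ChevStructure
import Cfsg.Prelude.Def_ChevG2
import Cfsg.Prelude.Def_LieTwisted
import Cfsg.Agent.Lib.helper8.ChevRee15

set_option autoImplicit false

namespace Cfsg.Agent.Lib.helper8

open Cfsg.Lie Cfsg.Lie.ChevalleyDatum

universe u

variable {K : Type u} [Field K]

theorem h8ree_exists_ne [CharP K 3] : ∃ a : K, a ≠ 0 ∧ a ≠ 1 := by
  refine ⟨-1, neg_ne_zero.mpr one_ne_zero, fun h => ?_⟩
  have h2 : ((2 : ℕ) : K) = 0 := by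
    push_cast
    linear_combination (-1 : K) * h
  rw [CharP.cast_eq_zero_iff K 3] at h2
  omega

/-- `|H ∩ ²G₂(q)| ≤ q - 1` -/
theorem h8ree_H1_le [Fintype K] {m : ℕ} (hK : Fintype.card K = 3 ^ (2 * m + 1)) :
    Nat.card ↥(chevG2.diagonalSubgroup K ⊓ twistedG2 K (3 ^ m)) ≤ 3 ^ (2 * m + 1) - 1 := by
  classical
  have hD : chevG2 ∈ [chevG2, chevB2, chevD4, chevF4, chevE6, chevE7, chevE8] := by simp
  have hB := h8base_all.{u} chevG2 hD
  have hA := h8reflAll chevG2 hD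
  have hC := h8commAll.{u} chevG2 hD
  have hBN := h8bn_all chevG2 hD
  have hW := h8bn2_all chevG2 hD
  haveI := h8ree_char3 hK
  obtain ⟨R, hfe⟩ := h8ree_setup hK hB
  let ψ : ↥(chevG2.diagonalSubgroup K ⊓ twistedG2 K (3 ^ m)) → Kˣ := fun k =>
    Units.mk0 (h8chi chevG2 hB k.val 7) (h8chi_spec chevG2 hB k.val k.2.1 7 (by decide)).1
  have hinj : Function.Injective ψ := by
    intro k k' h
    have h7 : h8chi chevG2 hB k.val 7 = h8chi chevG2 hB k'.val 7 := congrArg Units.val h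
    have hzH : k.val * k'.val⁻¹ ∈ chevG2.diagonalSubgroup K :=
      Subgroup.mul_mem _ k.2.1 (Subgroup.inv_mem _ k'.2.1)
    have hzG : k.val * k'.val⁻¹ ∈ twistedG2 K (3 ^ m) :=
      Subgroup.mul_mem _ k.2.2 (Subgroup.inv_mem _ k'.2.2)
    have hz7 : h8chi chevG2 hB (k.val * k'.val⁻¹) 7 = 1 := by
      rw [h8chi_mul chevG2 hB hA hW _ _ k.2.1 (Subgroup.inv_mem _ k'.2.1) 7 (by decide),
        h8chi_inv chevG2 hB hA hW _ k'.2.1 7 (by decide), h7,
        mul_inv_cancel₀ (h8chi_spec chevG2 hB k'.val k'.2.1 7 (by decide)).1]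
    have hz6 : h8chi chevG2 hB (k.val * k'.val⁻¹) 6 = 1 := by
      have := h8ree_chi_sig R hA hW _ hzH (h8ree_G1_fix R hC (3 ^ m) hfe _ hzG).2 7 (by decide)
      rw [hz7, h8reeE_one] at this
      exact this
    have := h8ree_H_inj h8ree_exists_ne hA hBN hW _ hzH hz7 hz6
    apply Subtype.ext
    exact mul_inv_eq_one.mp this
  have := Nat.card_le_card_of_injective ψ hinj
  rw [Nat.card_eq_fintype_card (α := Kˣ), Fintype.card_units, hK] at this
  exact this

end Cfsg.Agent.Lib.helper8
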