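import Mathlib
import Cfsg.Prelude.Def_ChevStructure
import Cfsg.Prelude.Def_ChevG2
import Cfsg.Prelude.Def_LieTwisted
import Cfsg.Agent.Lib.helper8.ChevRee16

set_option autoImplicit false

namespace Cfsg.Agent.Lib.helper8

open Cfsg.Lie Cfsg.Lie.ChevalleyDatum

universe u

variable {K : Type u} [Field K]

/-- the character of the short simple root on `H ∩ ²G₂(q)` -/
noncomputable def h8reeChiHom (hB : H8Base.{u} chevG2) (hA : H8ReflAll chevG2)
    (hW : H8BN2 chevG2) (e : ℕ) :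
    ↥(chevG2.diagonalSubgroup K ⊓ twistedG2 K e) →* Kˣ where
  toFun k := Units.mk0 (h8chi chevG2 hB k.val 7)
    (h8chi_spec chevG2 hB k.val k.2.1 7 (by decide)).1
  map_one' := by
    apply Units.ext
    exact h8chi_one chevG2 hB hA hW 7 (by decide)
  map_mul' k k' := by
    apply Units.ext
    exact h8chi_mul chevG2 hB hA hW _ _ k.2.1 k'.2.1 7 (by decide)

theorem h8reeChiHom_injective [Fintype K] {m : ℕ} (hK : Fintype.card K = 3 ^ (2 * m + 1))
    (hB : H8Base.{u} chevG2) (hA : H8ReflAll chevG2) (hW : H8BN2 chevG2) :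
    Function.Injective (h8reeChiHom (K := K) hB hA hW (3 ^ m)) := by
  have hD : chevG2 ∈ [chevG2, chevB2, chevD4, chevF4, chevE6, chevE7, chevE8] := by simp
  have hC := h8commAll.{u} chevG2 hD
  have hBN := h8bn_all chevG2 hD
  haveI := h8ree_char3 hK
  obtain ⟨R, hfe⟩ := h8ree_setup hK hB
  rw [injective_iff_map_eq_one]
  intro k hk
  have h7 : h8chi chevG2 hB k.val 7 = 1 := congrArg Units.val hk
  have h6 : h8chi chevG2 hB k.val 6 = 1 := by
    have := h8ree_chi_sig R hA hW _ k.2.1 (h8ree_G1_fix R hC (3 ^ m) hfe _ k.2.2).2 7 (by decide)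
    rw [h7, h8reeE_one] at this
    exact this
  exact Subtype.ext (h8ree_H_inj h8ree_exists_ne hA hBN hW _ k.2.1 h7 h6)

/-- `H ∩ ²G₂(q)` is cyclic -/
theorem h8ree_H1_cyclic [Fintype K] {m : ℕ} (hK : Fintype.card K = 3 ^ (2 * m + 1)) :
    IsCyclic ↥(chevG2.diagonalSubgroup K ⊓ twistedG2 K (3 ^ m)) := by
  have hD : chevG2 ∈ [chevG2, chevB2, chevD4, chevF4, chevE6, chevE7, chevE8] := by simp
  have hB := h8base_all.{u} chevG2 hD
  have hA := h8reflAll chevG2 hD
  have hW := h8bn2_all chevG2 hD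
  exact isCyclic_of_injective (h8reeChiHom (K := K) hB hA hW (3 ^ m))
    (h8reeChiHom_injective hK hB hA hW)

end Cfsg.Agent.Lib.helper8
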