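import Mathlib
import Cfsg.Prelude.Def_ChevStructure
import Cfsg.Prelude.Def_ChevG2
import Cfsg.Prelude.Def_LieTwisted
import Cfsg.Agent.Lib.helper8.ChevRee16

set_option autoImplicit false

namespace Cfsg.Agent.Lib.helper8

open Cfsg.Lie Cfsg.Lie.ChevalleyDatum

universe u

theorem h8row_mul {ι : Type*} [Fintype ι] [DecidableEq ι] {R : Type*} [CommRing R]
    (A B : Matrix ι ι R) (i₀ : ι) (hA : ∀ j, A i₀ j = (1 : Matrix ι ι R) i₀ j) (j : ι) :
    (A * B) i₀ j = B i₀ j := by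
  rw [Matrix.mul_apply]
  simp_rw [hA, Matrix.one_apply]
  simp

theorem h8col_mul {ι : Type*} [Fintype ι] [DecidableEq ι] {R : Type*} [CommRing R]
    (A B : Matrix ι ι R) (j₀ : ι) (hB : ∀ i, B i j₀ = (1 : Matrix ι ι R) i j₀) (i : ι) :
    (A * B) i j₀ = A i j₀ := by
  rw [Matrix.mul_apply]
  simp_rw [hB, Matrix.one_apply]
  simp

variable {K : Type u} [Field K]

/-- the lowest row of an element of `U` -/
theorem h8ree_U_row (hB : H8Base.{u} chevG2) (g : GL chevG2.Idx K)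
    (hg : g ∈ chevG2.posUnipotent K) (j : chevG2.Idx) :
    (g : Matrix chevG2.Idx chevG2.Idx K) (Sum.inr ⟨0, by decide⟩) j =
      (1 : Matrix chevG2.Idx chevG2.Idx K) (Sum.inr ⟨0, by decide⟩) j := by
  have h := h8_posUnipotent_unitri chevG2 hB.posOK g hg
  by_contra hne
  have h1 : ((g : Matrix chevG2.Idx chevG2.Idx K) - 1) (Sum.inr ⟨0, by decide⟩) j ≠ 0 := by
    rw [Matrix.sub_apply]
    exact sub_ne_zero.mpr hne
  have := h _ _ h1
  have e : h8rho chevG2 (Sum.inr ⟨0, by decide⟩) = 0 := rfl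
  rw [e] at this
  omega

/-- the highest column of an element of `U` -/
theorem h8ree_U_col (hB : H8Base.{u} chevG2) (g : GL chevG2.Idx K)
    (hg : g ∈ chevG2.posUnipotent K) (i : chevG2.Idx) :
    (g : Matrix chevG2.Idx chevG2.Idx K) i (Sum.inr ⟨11, by decide⟩) =
      (1 : Matrix chevG2.Idx chevG2.Idx K) i (Sum.inr ⟨11, by decide⟩) := by
  have h := h8_posUnipotent_unitri chevG2 hB.posOK g hg
  by_contra hne
  have h1 : ((g : Matrix chevG2.Idx chevG2.Idx K) - 1) i (Sum.inr ⟨11, by decide⟩) ≠ 0 := by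
    rw [Matrix.sub_apply]
    exact sub_ne_zero.mpr hne
  have := h _ _ h1
  have e : h8rho chevG2 (Sum.inr ⟨11, by decide⟩) = 13 := rfl
  have := h8rho_lt chevG2 i
  have e2 : chevG2.rank + chevG2.nroots = 14 := rfl
  omega

/-- a non-trivial element of `V` in the Ree group yields an element of `H` in the Ree group -/
theorem h8ree_V_bruhat [Fintype K] {m : ℕ} (hK : Fintype.card K = 3 ^ (2 * m + 1))
    (hB : H8Base.{u} chevG2) (v : GL chevG2.Idx K) (hv : v ∈ chevG2.negUnipotent K)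
    (hvG : v ∈ twistedG2 K (3 ^ m)) (hv1 : v ≠ 1) :
    ∃ k ∈ chevG2.diagonalSubgroup K ⊓ twistedG2 K (3 ^ m),
      (k : Matrix chevG2.Idx chevG2.Idx K) (Sum.inr ⟨11, by decide⟩) (Sum.inr ⟨11, by decide⟩) =
        - (v : Matrix chevG2.Idx chevG2.Idx K) (Sum.inr ⟨0, by decide⟩)
          (Sum.inr ⟨11, by decide⟩) := by
  have hD : chevG2 ∈ [chevG2, chevB2, chevD4, chevF4, chevE6, chevE7, chevE8] := by simp
  have hA := h8reflAll chevG2 hD
  have hC := h8commAll.{u} chevG2 hD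
  have hBN := h8bn_all chevG2 hD
  have hW := h8bn2_all chevG2 hD
  obtain ⟨hO, hO2⟩ := h8ord_all chevG2 hD
  haveI := h8ree_char3 hK
  obtain ⟨R, hfe⟩ := h8ree_setup hK hB
  have he : (3 ^ m : ℕ) ≠ 0 := pow_ne_zero _ (by norm_num)
  have hfix := (h8ree_G1_fix R hC (3 ^ m) hfe v hvG).2
  obtain ⟨u1, hu1, mm, hm, u, hu, rfl, f1, f2, f3⟩ :=
    h8ree_normal R hA hC hBN hW hO v (h8_V_le_group' chevG2 hv) hfix
  have huU := h8Um_le_U chevG2 mm hu
  have hu1G : u1 ∈ twistedG2 K (3 ^ m) := by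
    obtain ⟨a, b, c, rfl⟩ := h8ree_U_fix R hC hO hO2 (3 ^ m) hfe u1 hu1 f1
    exact h8reeWordU_mem hB _ _ _ _
  have huG : u ∈ twistedG2 K (3 ^ m) := by
    obtain ⟨a, b, c, rfl⟩ := h8ree_U_fix R hC hO hO2 (3 ^ m) hfe u huU f3
    exact h8reeWordU_mem hB _ _ _ _
  have hmG : mm ∈ twistedG2 K (3 ^ m) := by
    have e : mm = u1⁻¹ * (u1 * mm * u) * u⁻¹ := by group
    rw [e]
    exact Subgroup.mul_mem _ (Subgroup.mul_mem _ (Subgroup.inv_mem _ hu1G) hvG)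
      (Subgroup.inv_mem _ huG)
  rcases h8ree_Pi_N1 hK hB hA hBN hW hO2 ⟨mm, hm⟩ hmG with h | h
  · exfalso
    have hmH := h8Pi_ker chevG2 hB hA hBN hW hO2 _ h
    have hbot : u1 * mm * u ∈ chevG2.borelSubgroup K ⊓ chevG2.negUnipotent K := by
      refine Subgroup.mem_inf.mpr ⟨?_, hv⟩
      unfold ChevalleyDatum.borelSubgroup
      exact Subgroup.mul_mem _ (Subgroup.mul_mem _ (Subgroup.mem_sup_left hu1)
        (Subgroup.mem_sup_right hmH)) (Subgroup.mem_sup_left huU)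
    rw [h8_B_inf_V chevG2 hB hBN.negOK, Subgroup.mem_bot] at hbot
    exact hv1 hbot
  · have hn0N := h8reeN0_mem_N (K := K) (hB := hB) hC (3 ^ m) he
    have hn0 := h8ree_Pi_N0 hK hB hA hBN hW hO2 hn0N
    have hkN : (h8reeN0 hB (3 ^ m))⁻¹ * mm ∈ chevG2.monomialSubgroup K :=
      Subgroup.mul_mem _ (Subgroup.inv_mem _ hn0N) hm
    have hkPi : h8Pi chevG2 hB hA hBN hW hO2 ⟨(h8reeN0 hB (3 ^ m))⁻¹ * mm, hkN⟩ = 1 := by
      have e : (⟨(h8reeN0 hB (3 ^ m))⁻¹ * mm, hkN⟩ : ↥(chevG2.monomialSubgroup K)) =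
          (⟨h8reeN0 hB (3 ^ m), hn0N⟩)⁻¹ * ⟨mm, hm⟩ := rfl
      rw [e, map_mul, map_inv, hn0, h, inv_mul_cancel]
    have hkH := h8Pi_ker chevG2 hB hA hBN hW hO2 _ hkPi
    refine ⟨(h8reeN0 hB (3 ^ m))⁻¹ * mm, ⟨hkH, Subgroup.mul_mem _
      (Subgroup.inv_mem _ (h8reeN0_mem _)) hmG⟩, ?_⟩
    have hkH' : (h8reeN0 hB (3 ^ m))⁻¹ * mm ∈ chevG2.diagonalSubgroup K := hkH
    obtain ⟨d, hd⟩ := h8_diag_of_mem_H chevG2 hB ((h8reeN0 hB (3 ^ m))⁻¹ * mm) hkH'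
    have e : u1 * mm * u = u1 * (h8reeN0 hB (3 ^ m) * ((h8reeN0 hB (3 ^ m))⁻¹ * mm)) * u := by
      group
    rw [e]
    generalize (h8reeN0 hB (3 ^ m))⁻¹ * mm = k at hd ⊢
    have hval : ((u1 * (h8reeN0 hB (3 ^ m) * k) * u : GL chevG2.Idx K) :
        Matrix chevG2.Idx chevG2.Idx K) =
        (u1 : Matrix chevG2.Idx chevG2.Idx K) *
          (((h8reeN0 hB (3 ^ m) : GL chevG2.Idx K) : Matrix chevG2.Idx chevG2.Idx K) *
            (k : Matrix chevG2.Idx chevG2.Idx K)) * (u : Matrix chevG2.Idx chevG2.Idx K) := by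
      simp only [Units.val_mul]
    rw [hval, h8col_mul _ _ _ (h8ree_U_col hB u huU), h8row_mul _ _ _ (h8ree_U_row hB u1 hu1), hd,
      Matrix.mul_diagonal, Matrix.diagonal_apply_eq, h8reeN0_entry (3 ^ m) he]
    ring

end Cfsg.Agent.Lib.helper8
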