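import Mathlib
import Cfsg.Prelude.Def_ChevStructure
import Cfsg.Prelude.Def_ChevG2
import Cfsg.Prelude.Def_LieTwisted
import Cfsg.Agent.Lib.helper8.ChevRee17

set_option autoImplicit false

namespace Cfsg.Agent.Lib.helper8

open Cfsg.Lie Cfsg.Lie.ChevalleyDatum

universe u

variable {K : Type u} [Field K] {hB : H8Base.{u} chevG2}

set_option synthInstance.maxSize 1000 in
set_option synthInstance.maxHeartbeats 200000 in
theorem h8ree_negroots : ∀ r ∈ [0, 1, 2, 3, 4, 5], chevG2.IsNegRoot r := by decide +kernel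

/-- words of the second kind lie in `V` -/
theorem h8reeWordV_mem_V (e : ℕ) (t u v : K) :
    h8wordU chevG2 hB (reeWordV e t u v) ∈ chevG2.negUnipotent K := by
  unfold reeWordV ChevalleyDatum.negWord reeWordU g2a g2b g2ab g2aab g2aaab g2aaabb
  simp only [List.map_cons, List.map_nil, h8wordU_cons]
  have n7 : chevG2.negIdx.getD 7 0 = 4 := rfl
  have n6 : chevG2.negIdx.getD 6 0 = 5 := rfl
  have n8 : chevG2.negIdx.getD 8 0 = 3 := rfl
  have n9 : chevG2.negIdx.getD 9 0 = 2 := rfl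
  have n10 : chevG2.negIdx.getD 10 0 = 1 := rfl
  have n11 : chevG2.negIdx.getD 11 0 = 0 := rfl
  rw [n7, n6, n8, n9, n10, n11]
  have e0 : h8wordU chevG2 hB ([] : List (ℕ × K)) = 1 := rfl
  rw [e0, mul_one]
  exact Subgroup.mul_mem _ (h8xU_mem_V chevG2 hB 4 (h8ree_negroots 4 (by simp)) _)
    (Subgroup.mul_mem _ (h8xU_mem_V chevG2 hB 5 (h8ree_negroots 5 (by simp)) _)
    (Subgroup.mul_mem _ (h8xU_mem_V chevG2 hB 3 (h8ree_negroots 3 (by simp)) _)
    (Subgroup.mul_mem _ (h8xU_mem_V chevG2 hB 2 (h8ree_negroots 2 (by simp)) _)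
    (Subgroup.mul_mem _ (h8xU_mem_V chevG2 hB 1 (h8ree_negroots 1 (by simp)) _)
    (h8xU_mem_V chevG2 hB 0 (h8ree_negroots 0 (by simp)) _)))))

theorem h8reeV3_eq (e : ℕ) (he : e ≠ 0) (s : K) :
    h8wordU chevG2 hB (reeWordV e 0 0 s) = h8wordU chevG2 hB [(2, -s ^ e), (0, -s)] := by
  unfold reeWordV ChevalleyDatum.negWord reeWordU g2a g2b g2ab g2aab g2aaab g2aaabb
  simp only [List.map_cons, List.map_nil, h8wordU_cons]
  have n7 : chevG2.negIdx.getD 7 0 = 4 := rfl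
  have n6 : chevG2.negIdx.getD 6 0 = 5 := rfl
  have n8 : chevG2.negIdx.getD 8 0 = 3 := rfl
  have n9 : chevG2.negIdx.getD 9 0 = 2 := rfl
  have n10 : chevG2.negIdx.getD 10 0 = 1 := rfl
  have n11 : chevG2.negIdx.getD 11 0 = 0 := rfl
  rw [n7, n6, n8, n9, n10, n11, zero_pow he, zero_pow (Nat.succ_ne_zero _),
    zero_pow (Nat.succ_ne_zero _)]
  simp only [zero_add, add_zero, neg_zero, h8xU_zero', one_mul]

theorem h8reeV1_eq (e : ℕ) (he : e ≠ 0) :
    h8wordU chevG2 hB (reeWordV e (1 : K) 0 0) =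
      h8wordU chevG2 hB [(4, -1), (5, -1), (3, -1), (2, -1)] := by
  unfold reeWordV ChevalleyDatum.negWord reeWordU g2a g2b g2ab g2aab g2aaab g2aaabb
  simp only [List.map_cons, List.map_nil, h8wordU_cons]
  have n7 : chevG2.negIdx.getD 7 0 = 4 := rfl
  have n6 : chevG2.negIdx.getD 6 0 = 5 := rfl
  have n8 : chevG2.negIdx.getD 8 0 = 3 := rfl
  have n9 : chevG2.negIdx.getD 9 0 = 2 := rfl
  have n10 : chevG2.negIdx.getD 10 0 = 1 := rfl
  have n11 : chevG2.negIdx.getD 11 0 = 0 := rfl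
  rw [n7, n6, n8, n9, n10, n11, zero_pow he]
  simp only [one_pow, zero_add, add_zero, neg_zero, h8xU_zero', one_mul, mul_one]

theorem h8reeV3_entry [CharP K 3] (e : ℕ) (he : e ≠ 0) (s : K) (hs : s ≠ 0) :
    (h8wordU chevG2 hB (reeWordV e 0 0 s) : Matrix chevG2.Idx chevG2.Idx K)
      (Sum.inr ⟨0, by decide⟩) (Sum.inr ⟨11, by decide⟩) = -s ^ 2 := by
  rw [h8reeV3_eq e he, h8wordU_val]
  have hw : ([(2, -s ^ e), (0, -s)] : List (ℕ × K)) =
      h8evWord s (s ^ e) [(2, [(-1, 0, 1)]), (0, [(-1, 1, 0)])] := by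
    simp [h8evWord, H8Poly.ev, H8Poly.mev]
  rw [hw, h8word_entryP 3 chevG2 s (s ^ e) hs (pow_ne_zero _ hs) _ _ _ _ h8ree_v3chk]
  simp only [H8Poly.ev, H8Poly.mev, List.map_cons, List.map_nil, List.sum_cons, List.sum_nil,
    Int.cast_neg, Int.cast_one, zpow_zero, mul_one, add_zero, neg_mul, one_mul]
  norm_cast

theorem h8reeV1_entry [CharP K 3] (e : ℕ) (he : e ≠ 0) :
    (h8wordU chevG2 hB (reeWordV e (1 : K) 0 0) : Matrix chevG2.Idx chevG2.Idx K)
      (Sum.inr ⟨0, by decide⟩) (Sum.inr ⟨11, by decide⟩) = 1 := by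
  rw [h8reeV1_eq e he, h8wordU_val]
  have hw : ([(4, -1), (5, -1), (3, -1), (2, -1)] : List (ℕ × K)) =
      h8evWord (1 : K) 1 [(4, [(-1, 0, 0)]), (5, [(-1, 0, 0)]), (3, [(-1, 0, 0)]),
        (2, [(-1, 0, 0)])] := by
    simp [h8evWord, H8Poly.ev, H8Poly.mev]
  rw [hw, h8word_entryP 3 chevG2 1 1 one_ne_zero one_ne_zero _ _ _ _ h8ree_v1chk]
  simp [H8Poly.ev, H8Poly.mev]

end Cfsg.Agent.Lib.helper8
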