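import Mathlib
import Cfsg.Prelude.Def_ChevStructure
import Cfsg.Prelude.Def_ChevG2
import Cfsg.Prelude.Def_LieTwisted
import Cfsg.Agent.Lib.helper8.ChevRee18

set_option autoImplicit false

namespace Cfsg.Agent.Lib.helper8

open Cfsg.Lie Cfsg.Lie.ChevalleyDatum

universe u

variable {K : Type u} [Field K]

theorem h8ree_card_mod4 (m : ℕ) : 3 ^ (2 * m + 1) % 4 = 3 := by
  rw [pow_succ, pow_mul, Nat.mul_mod, Nat.pow_mod]
  norm_num

/-- every non-zero element is a square or the negative of a square -/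
theorem h8ree_sq_or_neg [Fintype K] {m : ℕ} (hK : Fintype.card K = 3 ^ (2 * m + 1)) (c : K)
    (hc : c ≠ 0) : ∃ s : K, s ≠ 0 ∧ (c = s ^ 2 ∨ c = -s ^ 2) := by
  classical
  have hm1 : ¬ IsSquare (-1 : K) := by
    rw [FiniteField.isSquare_neg_one_iff, hK, h8ree_card_mod4]
    simp
  by_cases hsq : IsSquare c
  · obtain ⟨s, hs⟩ := hsq
    refine ⟨s, ?_, Or.inl (by rw [hs]; ring)⟩
    rintro rfl
    exact hc (by rw [hs]; ring)
  · have h1 : quadraticChar K c = -1 := quadraticChar_neg_one_iff_not_isSquare.mpr hsq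
    have h2 : quadraticChar K (-1) = -1 := quadraticChar_neg_one_iff_not_isSquare.mpr hm1
    have h3 : quadraticChar K (-c) = 1 := by
      have : -c = -1 * c := by ring
      rw [this, map_mul, h1, h2]
      norm_num
    have hnc : -c ≠ 0 := neg_ne_zero.mpr hc
    obtain ⟨s, hs⟩ := (quadraticChar_one_iff_isSquare hnc).mp h3
    refine ⟨s, ?_, Or.inr ?_⟩
    · rintro rfl
      exact hnc (by rw [hs]; ring)
    · have : c = -(-c) := by ring
      rw [this, hs]
      ring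

/-- every non-zero scalar is the value of the highest character on `H ∩ ²G₂(q)` -/
theorem h8ree_H1_surj [Fintype K] {m : ℕ} (hK : Fintype.card K = 3 ^ (2 * m + 1))
    (hB : H8Base.{u} chevG2) (c : K) (hc : c ≠ 0) :
    ∃ k ∈ chevG2.diagonalSubgroup K ⊓ twistedG2 K (3 ^ m),
      (k : Matrix chevG2.Idx chevG2.Idx K) (Sum.inr ⟨11, by decide⟩) (Sum.inr ⟨11, by decide⟩) =
        c := by
  haveI := h8ree_char3 hK
  have he : (3 ^ m : ℕ) ≠ 0 := pow_ne_zero _ (by norm_num)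
  have hsq : ∀ s : K, s ≠ 0 → ∃ k ∈ chevG2.diagonalSubgroup K ⊓ twistedG2 K (3 ^ m),
      (k : Matrix chevG2.Idx chevG2.Idx K) (Sum.inr ⟨11, by decide⟩)
        (Sum.inr ⟨11, by decide⟩) = s ^ 2 := by
    intro s hs
    have hent := h8reeV3_entry (K := K) (hB := hB) (3 ^ m) he s hs
    have hne : h8wordU chevG2 hB (reeWordV (3 ^ m) 0 0 s) ≠ 1 := by
      intro h
      rw [h, Units.val_one, Matrix.one_apply_ne (by decide)] at hent
      exact (neg_ne_zero.mpr (pow_ne_zero 2 hs)) hent.symm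
    obtain ⟨k, hk, hkk⟩ := h8ree_V_bruhat hK hB _ (h8reeWordV_mem_V (3 ^ m) 0 0 s)
      (h8reeWordV_mem hB (3 ^ m) 0 0 s) hne
    refine ⟨k, hk, ?_⟩
    rw [hkk, hent, neg_neg]
  have hm1 : ∃ k ∈ chevG2.diagonalSubgroup K ⊓ twistedG2 K (3 ^ m),
      (k : Matrix chevG2.Idx chevG2.Idx K) (Sum.inr ⟨11, by decide⟩)
        (Sum.inr ⟨11, by decide⟩) = -1 := by
    have hent := h8reeV1_entry (K := K) (hB := hB) (3 ^ m) he
    have hne : h8wordU chevG2 hB (reeWordV (3 ^ m) (1 : K) 0 0) ≠ 1 := by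
      intro h
      rw [h, Units.val_one, Matrix.one_apply_ne (by decide)] at hent
      exact one_ne_zero hent.symm
    obtain ⟨k, hk, hkk⟩ := h8ree_V_bruhat hK hB _ (h8reeWordV_mem_V (3 ^ m) 1 0 0)
      (h8reeWordV_mem hB (3 ^ m) 1 0 0) hne
    refine ⟨k, hk, ?_⟩
    rw [hkk, hent]
  obtain ⟨s, hs, h | h⟩ := h8ree_sq_or_neg hK c hc
  · rw [h]
    exact hsq s hs
  · obtain ⟨k1, hk1, e1⟩ := hm1
    obtain ⟨k2, hk2, e2⟩ := hsq s hs
    refine ⟨k1 * k2, Subgroup.mul_mem _ hk1 hk2, ?_⟩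
    obtain ⟨d1, hd1⟩ := h8_diag_of_mem_H chevG2 hB k1 hk1.1
    obtain ⟨d2, hd2⟩ := h8_diag_of_mem_H chevG2 hB k2 hk2.1
    rw [hd1, Matrix.diagonal_apply_eq] at e1
    rw [hd2, Matrix.diagonal_apply_eq] at e2
    rw [Units.val_mul, hd1, hd2, Matrix.diagonal_mul_diagonal, Matrix.diagonal_apply_eq, e1, e2, h]
    ring

/-- `|H ∩ ²G₂(q)| = q - 1` -/
theorem h8ree_H1_card [Fintype K] {m : ℕ} (hK : Fintype.card K = 3 ^ (2 * m + 1)) :
    Nat.card ↥(chevG2.diagonalSubgroup K ⊓ twistedG2 K (3 ^ m)) = 3 ^ (2 * m + 1) - 1 := by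
  classical
  have hD : chevG2 ∈ [chevG2, chevB2, chevD4, chevF4, chevE6, chevE7, chevE8] := by simp
  have hB := h8base_all.{u} chevG2 hD
  apply le_antisymm (h8ree_H1_le hK)
  have hch : ∀ c : Kˣ, ∃ k : ↥(chevG2.diagonalSubgroup K ⊓ twistedG2 K (3 ^ m)),
      (k.val : Matrix chevG2.Idx chevG2.Idx K) (Sum.inr ⟨11, by decide⟩)
        (Sum.inr ⟨11, by decide⟩) = c.val := by
    intro c
    obtain ⟨k, hk, h⟩ := h8ree_H1_surj hK hB c.val c.ne_zero
    exact ⟨⟨k, hk⟩, h⟩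
  choose f hf using hch
  have hinj : Function.Injective f := by
    intro c c' h
    apply Units.ext
    rw [← hf c, ← hf c', h]
  have := Nat.card_le_card_of_injective f hinj
  rw [Nat.card_eq_fintype_card (α := Kˣ), Fintype.card_units, hK] at this
  exact this

end Cfsg.Agent.Lib.helper8
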