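import Mathlib
import Cfsg.Prelude.Def_ChevStructure
import Cfsg.Prelude.Def_ChevG2
import Cfsg.Prelude.Def_LieTwisted
import Cfsg.Agent.Lib.helper8.ChevRee19
import Cfsg.Agent.Lib.helper8.ChevCnt3

set_option autoImplicit false

namespace Cfsg.Agent.Lib.helper8

open Cfsg.Lie Cfsg.Lie.ChevalleyDatum

universe u

variable {K : Type u} [Field K]

set_option synthInstance.maxSize 1000 in
set_option synthInstance.maxHeartbeats 200000 in
theorem h8ree_neg_not_pos : ∀ r < 12, chevG2.IsPosRoot r →
    decide (chevG2.IsPosRoot (chevG2.negIdx.getD r 0)) = false := by decide +kernel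

/-- an element of `N` inducing the longest permutation makes all of `U` negative -/
theorem h8ree_U_le_Um (hB : H8Base.{u} chevG2) (hA : H8ReflAll chevG2) (hBN : H8BN chevG2)
    (hW : H8BN2 chevG2) (hO2 : H8Ord2 chevG2) (n : ↥(chevG2.monomialSubgroup K))
    (hπ : h8Pi chevG2 hB hA hBN hW hO2 n = h8reeW0 hA) :
    chevG2.posUnipotent K ≤ Subgroup.closure (h8UmSet chevG2 K n.val) := by
  have hact : ∀ r < chevG2.nroots, H8Act chevG2 hB n.val r (chevG2.negIdx.getD r 0) := by
    intro r hr
    have := h8Pi_act chevG2 hB hA hBN hW hO2 n ⟨r, hr⟩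
    rw [hπ, h8reeW0_val] at this
    exact this
  refine le_trans ?_ (h8splitQ_le chevG2 hB n.val (fun r => chevG2.negIdx.getD r 0)
    (fun r hr => hW.neglt r hr) hact)
  unfold ChevalleyDatum.posUnipotent
  apply Subgroup.closure_mono
  rintro g ⟨r, t, hr, hg⟩
  exact ⟨r, t, hr, h8ree_neg_not_pos r hr.1 hr, Units.ext (by rw [hg, h8xU_val])⟩

end Cfsg.Agent.Lib.helper8
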