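import Mathlib
import Cfsg.Prelude.Def_ChevStructure
import Cfsg.Prelude.Def_ChevG2
import Cfsg.Prelude.Def_LieTwisted
import Cfsg.Agent.Lib.helper8.ChevRee20

set_option autoImplicit false

namespace Cfsg.Agent.Lib.helper8

open Cfsg.Lie Cfsg.Lie.ChevalleyDatum

universe u

variable {K : Type u} [Field K]

/-- the normal form of an element of the Ree group -/
theorem h8ree_G1_normal [Fintype K] {m : ℕ} (hK : Fintype.card K = 3 ^ (2 * m + 1))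
    (hB : H8Base.{u} chevG2) (g : GL chevG2.Idx K) (hg : g ∈ twistedG2 K (3 ^ m)) :
    (∃ u ∈ chevG2.posUnipotent K ⊓ twistedG2 K (3 ^ m),
      ∃ k ∈ chevG2.diagonalSubgroup K ⊓ twistedG2 K (3 ^ m), g = u * k) ∨
    (∃ u1 ∈ chevG2.posUnipotent K ⊓ twistedG2 K (3 ^ m),
      ∃ k ∈ chevG2.diagonalSubgroup K ⊓ twistedG2 K (3 ^ m),
      ∃ u ∈ chevG2.posUnipotent K ⊓ twistedG2 K (3 ^ m),
        g = u1 * (k * h8reeN0 hB (3 ^ m)) * u) := by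
  have hD : chevG2 ∈ [chevG2, chevB2, chevD4, chevF4, chevE6, chevE7, chevE8] := by simp
  have hA := h8reflAll chevG2 hD
  have hC := h8commAll.{u} chevG2 hD
  have hBN := h8bn_all chevG2 hD
  have hW := h8bn2_all chevG2 hD
  obtain ⟨hO, hO2⟩ := h8ord_all chevG2 hD
  haveI := h8ree_char3 hK
  obtain ⟨R, hfe⟩ := h8ree_setup hK hB
  have he : (3 ^ m : ℕ) ≠ 0 := pow_ne_zero _ (by norm_num)
  obtain ⟨hgG, hfix⟩ := h8ree_G1_fix R hC (3 ^ m) hfe g hg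
  obtain ⟨u1, hu1, mm, hm, u, hu, rfl, f1, f2, f3⟩ :=
    h8ree_normal R hA hC hBN hW hO g hgG hfix
  have huU := h8Um_le_U chevG2 mm hu
  have hu1G : u1 ∈ twistedG2 K (3 ^ m) := by
    obtain ⟨a, b, c, rfl⟩ := h8ree_U_fix R hC hO hO2 (3 ^ m) hfe u1 hu1 f1
    exact h8reeWordU_mem hB _ _ _ _
  have huG : u ∈ twistedG2 K (3 ^ m) := by
    obtain ⟨a, b, c, rfl⟩ := h8ree_U_fix R hC hO hO2 (3 ^ m) hfe u huU f3
    exact h8reeWordU_mem hB _ _ _ _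
  have hmG : mm ∈ twistedG2 K (3 ^ m) := by
    have e : mm = u1⁻¹ * (u1 * mm * u) * u⁻¹ := by group
    rw [e]
    exact Subgroup.mul_mem _ (Subgroup.mul_mem _ (Subgroup.inv_mem _ hu1G) hg)
      (Subgroup.inv_mem _ huG)
  rcases h8ree_Pi_N1 hK hB hA hBN hW hO2 ⟨mm, hm⟩ hmG with h | h
  · left
    have hmH : mm ∈ chevG2.diagonalSubgroup K := h8Pi_ker chevG2 hB hA hBN hW hO2 _ h
    have hconj : mm * u * mm⁻¹ ∈ chevG2.posUnipotent K :=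
      ((Subgroup.mem_normalizer_iff (H := chevG2.posUnipotent K)).mp
        (h8_H_le_normalizer_U chevG2 hB hmH) u).mp huU
    refine ⟨u1 * (mm * u * mm⁻¹), ⟨Subgroup.mul_mem _ hu1 hconj, Subgroup.mul_mem _ hu1G
      (Subgroup.mul_mem _ (Subgroup.mul_mem _ hmG huG) (Subgroup.inv_mem _ hmG))⟩,
      mm, ⟨hmH, hmG⟩, ?_⟩
    group
  · right
    have hn0N := h8reeN0_mem_N (K := K) (hB := hB) hC (3 ^ m) he
    have hn0 := h8ree_Pi_N0 hK hB hA hBN hW hO2 hn0N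
    have hkN : mm * (h8reeN0 hB (3 ^ m))⁻¹ ∈ chevG2.monomialSubgroup K :=
      Subgroup.mul_mem _ hm (Subgroup.inv_mem _ hn0N)
    have hkPi : h8Pi chevG2 hB hA hBN hW hO2 ⟨mm * (h8reeN0 hB (3 ^ m))⁻¹, hkN⟩ = 1 := by
      have e : (⟨mm * (h8reeN0 hB (3 ^ m))⁻¹, hkN⟩ : ↥(chevG2.monomialSubgroup K)) =
          ⟨mm, hm⟩ * (⟨h8reeN0 hB (3 ^ m), hn0N⟩)⁻¹ := rfl
      rw [e, map_mul, map_inv, hn0, h, mul_inv_cancel]
    have hkH : mm * (h8reeN0 hB (3 ^ m))⁻¹ ∈ chevG2.diagonalSubgroup K :=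
      h8Pi_ker chevG2 hB hA hBN hW hO2 _ hkPi
    refine ⟨u1, ⟨hu1, hu1G⟩, mm * (h8reeN0 hB (3 ^ m))⁻¹, ⟨hkH, Subgroup.mul_mem _ hmG
      (Subgroup.inv_mem _ (h8reeN0_mem _))⟩, u, ⟨huU, huG⟩, ?_⟩
    group

end Cfsg.Agent.Lib.helper8
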