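import Mathlib
import Cfsg.Prelude.Def_ChevStructure
import Cfsg.Prelude.Def_ChevG2
import Cfsg.Prelude.Def_LieTwisted
import Cfsg.Agent.Lib.helper8.ChevRee21

set_option autoImplicit false

namespace Cfsg.Agent.Lib.helper8

open Cfsg.Lie Cfsg.Lie.ChevalleyDatum

universe u

variable {K : Type u} [Field K]

/-- `|²G₂(q)| = q³ (q - 1) (q³ + 1)` -/
theorem h8ree_card [Fintype K] {m : ℕ} (hK : Fintype.card K = 3 ^ (2 * m + 1)) :
    Nat.card ↥(twistedG2 K (3 ^ m)) =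
      (3 ^ (2 * m + 1)) ^ 3 * (3 ^ (2 * m + 1) - 1) * ((3 ^ (2 * m + 1)) ^ 3 + 1) := by
  classical
  have hD : chevG2 ∈ [chevG2, chevB2, chevD4, chevF4, chevE6, chevE7, chevE8] := by simp
  have hB := h8base_all.{u} chevG2 hD
  have hA := h8reflAll chevG2 hD
  have hC := h8commAll.{u} chevG2 hD
  have hBN := h8bn_all chevG2 hD
  have hW := h8bn2_all chevG2 hD
  obtain ⟨hO, hO2⟩ := h8ord_all chevG2 hD
  haveI := h8ree_char3 hK
  have he : (3 ^ m : ℕ) ≠ 0 := pow_ne_zero _ (by norm_num)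
  have hn0N := h8reeN0_mem_N (K := K) (hB := hB) hC (3 ^ m) he
  have hn0 := h8ree_Pi_N0 hK hB hA hBN hW hO2 hn0N
  have hn0G : h8reeN0 (K := K) hB (3 ^ m) ∈ twistedG2 K (3 ^ m) := h8reeN0_mem _
  have hHN : ∀ k : GL chevG2.Idx K, k ∈ chevG2.diagonalSubgroup K →
      k ∈ chevG2.monomialSubgroup K := fun k hk => h8H_le_N chevG2 hk
  have hkn : ∀ k : GL chevG2.Idx K, k ∈ chevG2.diagonalSubgroup K →
      k * h8reeN0 hB (3 ^ m) ∈ chevG2.monomialSubgroup K :=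
    fun k hk => Subgroup.mul_mem _ (hHN k hk) hn0N
  have hUm : ∀ (k : GL chevG2.Idx K) (hk : k ∈ chevG2.diagonalSubgroup K),
      chevG2.posUnipotent K ≤ Subgroup.closure (h8UmSet chevG2 K (k * h8reeN0 hB (3 ^ m))) := by
    intro k hk
    apply h8ree_U_le_Um hB hA hBN hW hO2 ⟨k * h8reeN0 hB (3 ^ m), hkn k hk⟩
    have e : (⟨k * h8reeN0 hB (3 ^ m), hkn k hk⟩ : ↥(chevG2.monomialSubgroup K)) =
        ⟨k, hHN k hk⟩ * ⟨h8reeN0 hB (3 ^ m), hn0N⟩ := rfl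
    rw [e, map_mul, hn0, h8Pi_H chevG2 hB hA hBN hW hO2 ⟨k, hHN k hk⟩ hk, one_mul]
  let Φ : (↥(chevG2.posUnipotent K ⊓ twistedG2 K (3 ^ m)) ×
      ↥(chevG2.diagonalSubgroup K ⊓ twistedG2 K (3 ^ m))) ⊕
      (↥(chevG2.posUnipotent K ⊓ twistedG2 K (3 ^ m)) ×
        ↥(chevG2.diagonalSubgroup K ⊓ twistedG2 K (3 ^ m)) ×
        ↥(chevG2.posUnipotent K ⊓ twistedG2 K (3 ^ m))) → ↥(twistedG2 K (3 ^ m)) :=
    fun x => match x with
      | Sum.inl p => ⟨p.1.val * p.2.val, Subgroup.mul_mem _ p.1.2.2 p.2.2.2⟩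
      | Sum.inr p => ⟨p.1.val * (p.2.1.val * h8reeN0 hB (3 ^ m)) * p.2.2.val,
          Subgroup.mul_mem _ (Subgroup.mul_mem _ p.1.2.2
            (Subgroup.mul_mem _ p.2.1.2.2 hn0G)) p.2.2.2.2⟩
  have hbij : Function.Bijective Φ := by
    constructor
    · rintro (⟨u, k⟩ | ⟨u1, k, u⟩) (⟨u', k'⟩ | ⟨u1', k', u'⟩) h
      · have h' : u.val * k.val * 1 = u'.val * k'.val * 1 := by
          rw [mul_one, mul_one]
          exact congrArg Subtype.val h
        obtain ⟨e1, e2, _⟩ := h8normal_unique_strong chevG2 hB hA hC hBN _ _ _ _ _ _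
          u.2.1 u'.2.1 (hHN _ k.2.1) (hHN _ k'.2.1) (Subgroup.one_mem _) (Subgroup.one_mem _) h'
        rw [Subtype.ext e1, Subtype.ext e2]
      · exfalso
        have h' : u.val * k.val * 1 = u1'.val * (k'.val * h8reeN0 hB (3 ^ m)) * u'.val := by
          rw [mul_one]
          exact congrArg Subtype.val h
        obtain ⟨e1, _, _⟩ := h8normal_unique_strong chevG2 hB hA hC hBN _ _ _ _ _ _
          u.2.1 u1'.2.1 (hHN _ k.2.1) (hkn _ k'.2.1) (Subgroup.one_mem _)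
          (hUm _ k'.2.1 u'.2.1) h'
        have : h8reeN0 hB (3 ^ m) = k'.val⁻¹ * k.val := by rw [e1]; group
        apply h8reeN0_not_H (K := K) (hB := hB) (3 ^ m) he
        rw [this]
        exact Subgroup.mul_mem _ (Subgroup.inv_mem _ k'.2.1) k.2.1
      · exfalso
        have h' : u'.val * k'.val * 1 = u1.val * (k.val * h8reeN0 hB (3 ^ m)) * u.val := by
          rw [mul_one]
          exact (congrArg Subtype.val h).symm
        obtain ⟨e1, _, _⟩ := h8normal_unique_strong chevG2 hB hA hC hBN _ _ _ _ _ _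
          u'.2.1 u1.2.1 (hHN _ k'.2.1) (hkn _ k.2.1) (Subgroup.one_mem _)
          (hUm _ k.2.1 u.2.1) h'
        have : h8reeN0 hB (3 ^ m) = k.val⁻¹ * k'.val := by rw [e1]; group
        apply h8reeN0_not_H (K := K) (hB := hB) (3 ^ m) he
        rw [this]
        exact Subgroup.mul_mem _ (Subgroup.inv_mem _ k.2.1) k'.2.1
      · have h' : u1.val * (k.val * h8reeN0 hB (3 ^ m)) * u.val =
            u1'.val * (k'.val * h8reeN0 hB (3 ^ m)) * u'.val := congrArg Subtype.val h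
        obtain ⟨e1, e2, e3⟩ := h8normal_unique_strong chevG2 hB hA hC hBN _ _ _ _ _ _
          u1.2.1 u1'.2.1 (hkn _ k.2.1) (hkn _ k'.2.1) (hUm _ k.2.1 u.2.1)
          (hUm _ k'.2.1 u'.2.1) h'
        have e1' : k.val = k'.val := mul_right_cancel e1
        rw [Subtype.ext e1', Subtype.ext e2, Subtype.ext e3]
    · rintro ⟨g, hg⟩
      rcases h8ree_G1_normal hK hB g hg with ⟨u, hu, k, hk, rfl⟩ | ⟨u1, hu1, k, hk, u, hu, rfl⟩
      · exact ⟨Sum.inl (⟨u, hu⟩, ⟨k, hk⟩), rfl⟩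
      · exact ⟨Sum.inr (⟨u1, hu1⟩, ⟨k, hk⟩, ⟨u, hu⟩), rfl⟩
  rw [← Nat.card_congr (Equiv.ofBijective Φ hbij), Nat.card_sum, Nat.card_prod, Nat.card_prod,
    Nat.card_prod, h8ree_U_card hK, h8ree_H1_card hK]
  ring

end Cfsg.Agent.Lib.helper8
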