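import Mathlib
import Cfsg.Prelude.Def_ChevStructure
import Cfsg.Prelude.Def_ChevG2
import Cfsg.Prelude.Def_LieTwisted
import Cfsg.Agent.Lib.helper8.ChevRee22

set_option autoImplicit false

namespace Cfsg.Agent.Lib.helper8

open Cfsg.Lie Cfsg.Lie.ChevalleyDatum

universe u

variable {K : Type u} [Field K] [Fintype K] {m : ℕ}

/-- `n₀` does not lie in `B` -/
theorem h8reeN0_not_B (hK : Fintype.card K = 3 ^ (2 * m + 1)) (hB : H8Base.{u} chevG2) :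
    h8reeN0 (K := K) hB (3 ^ m) ∉ chevG2.borelSubgroup K := by
  have hD : chevG2 ∈ [chevG2, chevB2, chevD4, chevF4, chevE6, chevE7, chevE8] := by simp
  have hA := h8reflAll chevG2 hD
  have hC := h8commAll.{u} chevG2 hD
  have hBN := h8bn_all chevG2 hD
  haveI := h8ree_char3 hK
  have he : (3 ^ m : ℕ) ≠ 0 := pow_ne_zero _ (by norm_num)
  obtain ⟨dep, par, horb⟩ := hBN.orb
  intro h
  have hN := h8reeN0_mem_N (K := K) (hB := hB) hC (3 ^ m) he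
  have hH : h8reeN0 (K := K) hB (3 ^ m) ∈ chevG2.diagonalSubgroup K := by
    rw [← h8_B_inf_N (F := K) chevG2 hB hA dep par horb]
    exact Subgroup.mem_inf.mpr ⟨h, hN⟩
  exact h8reeN0_not_H (K := K) (hB := hB) (3 ^ m) he hH

/-- the elements of `B` in the Ree group -/
theorem h8ree_B1_decomp (hK : Fintype.card K = 3 ^ (2 * m + 1)) (hB : H8Base.{u} chevG2)
    (b : GL chevG2.Idx K) (hb : b ∈ chevG2.borelSubgroup K) (hbG : b ∈ twistedG2 K (3 ^ m)) :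
    ∃ u ∈ chevG2.posUnipotent K ⊓ twistedG2 K (3 ^ m),
      ∃ k ∈ chevG2.diagonalSubgroup K ⊓ twistedG2 K (3 ^ m), b = u * k := by
  rcases h8ree_G1_normal hK hB b hbG with h | ⟨u1, hu1, k, hk, u, hu, rfl⟩
  · exact h
  · exfalso
    apply h8reeN0_not_B hK hB
    have e : h8reeN0 hB (3 ^ m) = k⁻¹ * (u1⁻¹ * (u1 * (k * h8reeN0 hB (3 ^ m)) * u) * u⁻¹) := by
      group
    rw [e]
    exact Subgroup.mul_mem _ (Subgroup.inv_mem _ (h8H_le_B chevG2 hk.1))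
      (Subgroup.mul_mem _ (Subgroup.mul_mem _ (Subgroup.inv_mem _ (h8U_le_B chevG2 hu1.1)) hb)
        (Subgroup.inv_mem _ (h8U_le_B chevG2 hu.1)))

/-- `n₀` conjugates `U` into `V` -/
theorem h8reeN0_conj_V (hK : Fintype.card K = 3 ^ (2 * m + 1)) (hB : H8Base.{u} chevG2)
    (x : GL chevG2.Idx K) (hx : x ∈ chevG2.posUnipotent K) :
    h8reeN0 hB (3 ^ m) * x * (h8reeN0 hB (3 ^ m))⁻¹ ∈ chevG2.negUnipotent K := by
  have hD : chevG2 ∈ [chevG2, chevB2, chevD4, chevF4, chevE6, chevE7, chevE8] := by simp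
  have hA := h8reflAll chevG2 hD
  have hC := h8commAll.{u} chevG2 hD
  have hBN := h8bn_all chevG2 hD
  have hW := h8bn2_all chevG2 hD
  obtain ⟨hO, hO2⟩ := h8ord_all chevG2 hD
  haveI := h8ree_char3 hK
  have he : (3 ^ m : ℕ) ≠ 0 := pow_ne_zero _ (by norm_num)
  have hN := h8reeN0_mem_N (K := K) (hB := hB) hC (3 ^ m) he
  have hπ := h8ree_Pi_N0 hK hB hA hBN hW hO2 hN
  exact h8Um_conj_mem_V chevG2 hB _ x (h8ree_U_le_Um hB hA hBN hW hO2 ⟨_, hN⟩ hπ hx)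

/-- the non-trivial elements of `V` in the Ree group lie in the big cell -/
theorem h8ree_V1_decomp (hK : Fintype.card K = 3 ^ (2 * m + 1)) (hB : H8Base.{u} chevG2)
    (v : GL chevG2.Idx K) (hv : v ∈ chevG2.negUnipotent K) (hvG : v ∈ twistedG2 K (3 ^ m))
    (hv1 : v ≠ 1) :
    ∃ u1 ∈ chevG2.posUnipotent K ⊓ twistedG2 K (3 ^ m),
      ∃ k ∈ chevG2.diagonalSubgroup K ⊓ twistedG2 K (3 ^ m),
      ∃ u ∈ chevG2.posUnipotent K ⊓ twistedG2 K (3 ^ m),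
        v = u1 * (k * h8reeN0 hB (3 ^ m)) * u := by
  have hD : chevG2 ∈ [chevG2, chevB2, chevD4, chevF4, chevE6, chevE7, chevE8] := by simp
  have hBN := h8bn_all chevG2 hD
  rcases h8ree_G1_normal hK hB v hvG with ⟨u, hu, k, hk, rfl⟩ | h
  · exfalso
    have hbot : u * k ∈ chevG2.borelSubgroup K ⊓ chevG2.negUnipotent K :=
      Subgroup.mem_inf.mpr ⟨Subgroup.mul_mem _ (h8U_le_B chevG2 hu.1) (h8H_le_B chevG2 hk.1), hv⟩
    rw [h8_B_inf_V chevG2 hB hBN.negOK, Subgroup.mem_bot] at hbot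
    exact hv1 hbot
  · exact h

/-- `n₀²` lies in `H` -/
theorem h8reeN0_sq (hK : Fintype.card K = 3 ^ (2 * m + 1)) (hB : H8Base.{u} chevG2) :
    h8reeN0 (K := K) hB (3 ^ m) * h8reeN0 hB (3 ^ m) ∈ chevG2.diagonalSubgroup K := by
  have hD : chevG2 ∈ [chevG2, chevB2, chevD4, chevF4, chevE6, chevE7, chevE8] := by simp
  have hA := h8reflAll chevG2 hD
  have hC := h8commAll.{u} chevG2 hD
  have hBN := h8bn_all chevG2 hD
  have hW := h8bn2_all chevG2 hD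
  obtain ⟨hO, hO2⟩ := h8ord_all chevG2 hD
  haveI := h8ree_char3 hK
  have he : (3 ^ m : ℕ) ≠ 0 := pow_ne_zero _ (by norm_num)
  have hN := h8reeN0_mem_N (K := K) (hB := hB) hC (3 ^ m) he
  have hπ := h8ree_Pi_N0 hK hB hA hBN hW hO2 hN
  apply h8Pi_ker chevG2 hB hA hBN hW hO2 ⟨_, Subgroup.mul_mem _ hN hN⟩
  have e : (⟨h8reeN0 (K := K) hB (3 ^ m) * h8reeN0 hB (3 ^ m), Subgroup.mul_mem _ hN hN⟩ :
      ↥(chevG2.monomialSubgroup K)) = ⟨_, hN⟩ * ⟨_, hN⟩ := rfl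
  rw [e, map_mul, hπ, h8reeW0_sq]

/-- the elements of `N` in the Ree group -/
theorem h8ree_N1_decomp (hK : Fintype.card K = 3 ^ (2 * m + 1)) (hB : H8Base.{u} chevG2)
    (n : GL chevG2.Idx K) (hn : n ∈ chevG2.monomialSubgroup K) (hnG : n ∈ twistedG2 K (3 ^ m)) :
    n ∈ chevG2.diagonalSubgroup K ∨ (h8reeN0 hB (3 ^ m))⁻¹ * n ∈ chevG2.diagonalSubgroup K := by
  have hD : chevG2 ∈ [chevG2, chevB2, chevD4, chevF4, chevE6, chevE7, chevE8] := by simp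
  have hA := h8reflAll chevG2 hD
  have hC := h8commAll.{u} chevG2 hD
  have hBN := h8bn_all chevG2 hD
  have hW := h8bn2_all chevG2 hD
  obtain ⟨hO, hO2⟩ := h8ord_all chevG2 hD
  haveI := h8ree_char3 hK
  have he : (3 ^ m : ℕ) ≠ 0 := pow_ne_zero _ (by norm_num)
  have hN := h8reeN0_mem_N (K := K) (hB := hB) hC (3 ^ m) he
  have hπ := h8ree_Pi_N0 hK hB hA hBN hW hO2 hN
  rcases h8ree_Pi_N1 hK hB hA hBN hW hO2 ⟨n, hn⟩ hnG with h | h
  · left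
    exact h8Pi_ker chevG2 hB hA hBN hW hO2 _ h
  · right
    have hkN : (h8reeN0 hB (3 ^ m))⁻¹ * n ∈ chevG2.monomialSubgroup K :=
      Subgroup.mul_mem _ (Subgroup.inv_mem _ hN) hn
    apply h8Pi_ker chevG2 hB hA hBN hW hO2 ⟨_, hkN⟩
    have e : (⟨(h8reeN0 hB (3 ^ m))⁻¹ * n, hkN⟩ : ↥(chevG2.monomialSubgroup K)) =
        (⟨h8reeN0 hB (3 ^ m), hN⟩)⁻¹ * ⟨n, hn⟩ := rfl
    rw [e, map_mul, map_inv, hπ, h, inv_mul_cancel]

/-- a non-trivial element of `U` in the Ree group -/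
theorem h8ree_U1_ne (hK : Fintype.card K = 3 ^ (2 * m + 1)) (hB : H8Base.{u} chevG2) :
    ∃ x ∈ chevG2.posUnipotent K ⊓ twistedG2 K (3 ^ m), x ≠ 1 := by
  have hD : chevG2 ∈ [chevG2, chevB2, chevD4, chevF4, chevE6, chevE7, chevE8] := by simp
  have hC := h8commAll.{u} chevG2 hD
  obtain ⟨hO, hO2⟩ := h8ord_all chevG2 hD
  haveI := h8ree_char3 hK
  obtain ⟨R, hfe⟩ := h8ree_setup hK hB
  refine ⟨h8wordU chevG2 hB (reeWordU (3 ^ m) 1 0 0),
    (h8ree_U_iff hK hB _).mpr ⟨1, 0, 0, rfl⟩, fun h => ?_⟩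
  have h0 : h8wordU chevG2 hB (reeWordU (3 ^ m) (0 : K) 0 0) = 1 := by
    unfold reeWordU g2a g2b g2ab g2aab g2aaab g2aaabb
    simp only [h8wordU_cons]
    have e0 : h8wordU chevG2 hB ([] : List (ℕ × K)) = 1 := rfl
    rw [e0, zero_pow (pow_ne_zero _ (by norm_num)), zero_pow (Nat.succ_ne_zero _),
      zero_pow (Nat.succ_ne_zero _)]
    simp only [add_zero, h8xU_zero', mul_one]
  rw [← h0] at h
  have := (h8reeWordU_inj R hC hO2 (3 ^ m) hfe _ _ _ _ _ _ h).1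
  exact one_ne_zero this

end Cfsg.Agent.Lib.helper8
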