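import Mathlib
import Cfsg.Prelude.Def_ChevStructure
import Cfsg.Prelude.Def_ChevG2
import Cfsg.Prelude.Def_LieTwisted
import Cfsg.Agent.Lib.helper8.ChevRee24

set_option autoImplicit false

namespace Cfsg.Agent.Lib.helper8

open Cfsg.Lie Cfsg.Lie.ChevalleyDatum

universe u

variable {K : Type u} [Field K]

theorem h8conj_mul6 {G : Type*} [Group G] (k a b c d e f : G) :
    k * (a * b * (c * d * e * f)) * k⁻¹ =
      (k * a * k⁻¹) * (k * b * k⁻¹) * ((k * c * k⁻¹) * (k * d * k⁻¹) * (k * e * k⁻¹) *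
        (k * f * k⁻¹)) := by group

/-- conjugating the standard form of an element of `U` by an element of `H` -/
theorem h8reeStd_conj (hB : H8Base.{u} chevG2) (k : GL chevG2.Idx K)
    (hk : k ∈ chevG2.diagonalSubgroup K) (t6 t7 c8 c9 c10 c11 : K) :
    k * h8reeStd hB t6 t7 c8 c9 c10 c11 * k⁻¹ =
      h8reeStd hB (h8chi chevG2 hB k 6 * t6) (h8chi chevG2 hB k 7 * t7)
        (h8chi chevG2 hB k 8 * c8) (h8chi chevG2 hB k 9 * c9) (h8chi chevG2 hB k 10 * c10)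
        (h8chi chevG2 hB k 11 * c11) := by
  unfold h8reeStd h8reeQ4
  rw [h8conj_mul6, (h8chi_spec chevG2 hB k hk 6 (by decide)).2,
    (h8chi_spec chevG2 hB k hk 7 (by decide)).2, (h8chi_spec chevG2 hB k hk 8 (by decide)).2,
    (h8chi_spec chevG2 hB k hk 9 (by decide)).2, (h8chi_spec chevG2 hB k hk 10 (by decide)).2,
    (h8chi_spec chevG2 hB k hk 11 (by decide)).2]

/-- an element of `H` in the Ree group centralizing `U ∩ ²G₂(q)` is trivial -/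
theorem h8ree_H_cent_U [Fintype K] {m : ℕ} (hK : Fintype.card K = 3 ^ (2 * m + 1))
    (hB : H8Base.{u} chevG2) (k : GL chevG2.Idx K) (hk : k ∈ chevG2.diagonalSubgroup K)
    (hc : k * h8wordU chevG2 hB (reeWordU (3 ^ m) 1 0 0) * k⁻¹ =
      h8wordU chevG2 hB (reeWordU (3 ^ m) 1 0 0)) : k = 1 := by
  have hD : chevG2 ∈ [chevG2, chevB2, chevD4, chevF4, chevE6, chevE7, chevE8] := by simp
  have hA := h8reflAll chevG2 hD
  have hC := h8commAll.{u} chevG2 hD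
  have hBN := h8bn_all chevG2 hD
  have hW := h8bn2_all chevG2 hD
  obtain ⟨hO, hO2⟩ := h8ord_all chevG2 hD
  haveI := h8ree_char3 hK
  obtain ⟨R, hfe⟩ := h8ree_setup hK hB
  rw [h8reeWordU_std R hC (3 ^ m) hfe, h8reeStd_conj hB k hk] at hc
  obtain ⟨h6, h7, _⟩ := h8reeStd_inj hO2 _ _ _ _ _ _ _ _ _ _ _ _ hc
  rw [mul_one] at h6
  rw [map_one, mul_one] at h7
  exact h8ree_H_inj h8ree_exists_ne hA hBN hW k hk h7 h6

/-- the core of `B ∩ ²G₂(q)` in `²G₂(q)` is trivial -/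
theorem h8ree_core [Fintype K] {m : ℕ} (hK : Fintype.card K = 3 ^ (2 * m + 1)) :
    ((chevG2.borelSubgroup K ⊓ twistedG2 K (3 ^ m)).subgroupOf
      (twistedG2 K (3 ^ m))).normalCore = ⊥ := by
  have hD : chevG2 ∈ [chevG2, chevB2, chevD4, chevF4, chevE6, chevE7, chevE8] := by simp
  have hB := h8base_all.{u} chevG2 hD
  have hA := h8reflAll chevG2 hD
  have hBN := h8bn_all chevG2 hD
  obtain ⟨dep, par, horb⟩ := hBN.orb
  have hNnorm := h8N_le_normalizer_H (F := K) chevG2 hB hA dep par horb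
  haveI := h8ree_char3 hK
  have hC := h8commAll.{u} chevG2 hD
  have he : (3 ^ m : ℕ) ≠ 0 := pow_ne_zero _ (by norm_num)
  have hn0N := h8reeN0_mem_N (K := K) (hB := hB) hC (3 ^ m) he
  have hn0G : h8reeN0 (K := K) hB (3 ^ m) ∈ twistedG2 K (3 ^ m) := h8reeN0_mem _
  set G1 := twistedG2 K (3 ^ m) with hG1
  have hBmem : ∀ x : ↥G1, x ∈ (chevG2.borelSubgroup K ⊓ G1).subgroupOf G1 ↔
      x.val ∈ chevG2.borelSubgroup K := by
    intro x
    rw [Subgroup.mem_subgroupOf, Subgroup.mem_inf]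
    exact ⟨fun h => h.1, fun h => ⟨h, x.2⟩⟩
  -- elements of the core lie in `H`
  have step1 : ∀ y : ↥G1, y ∈ ((chevG2.borelSubgroup K ⊓ G1).subgroupOf G1).normalCore →
      y.val ∈ chevG2.diagonalSubgroup K := by
    intro y hy
    have hyB : y.val ∈ chevG2.borelSubgroup K :=
      (hBmem y).mp (Subgroup.normalCore_le _ hy)
    obtain ⟨u, hu, k, hk, hyuk⟩ := h8ree_B1_decomp hK hB y.val hyB y.2
    have hconj : h8reeN0 hB (3 ^ m) * y.val * (h8reeN0 hB (3 ^ m))⁻¹ ∈ chevG2.borelSubgroup K :=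
      (hBmem _).mp (hy ⟨h8reeN0 hB (3 ^ m), hn0G⟩)
    have hkk : h8reeN0 hB (3 ^ m) * k * (h8reeN0 hB (3 ^ m))⁻¹ ∈ chevG2.diagonalSubgroup K :=
      (Subgroup.mem_normalizer_iff.mp (hNnorm hn0N) k).mp hk.1
    have hV := h8reeN0_conj_V hK hB u hu.1
    have e : h8reeN0 hB (3 ^ m) * u * (h8reeN0 hB (3 ^ m))⁻¹ =
        (h8reeN0 hB (3 ^ m) * (u * k) * (h8reeN0 hB (3 ^ m))⁻¹) *
          (h8reeN0 hB (3 ^ m) * k * (h8reeN0 hB (3 ^ m))⁻¹)⁻¹ := by group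
    have hbot : h8reeN0 hB (3 ^ m) * u * (h8reeN0 hB (3 ^ m))⁻¹ ∈
        chevG2.borelSubgroup K ⊓ chevG2.negUnipotent K := by
      refine ⟨?_, hV⟩
      rw [e, ← hyuk]
      exact Subgroup.mul_mem _ hconj (Subgroup.inv_mem _ (h8H_le_B chevG2 hkk))
    rw [h8_B_inf_V chevG2 hB hBN.negOK, Subgroup.mem_bot] at hbot
    have hu1 : u = 1 := by
      have : u = (h8reeN0 hB (3 ^ m))⁻¹ *
          (h8reeN0 hB (3 ^ m) * u * (h8reeN0 hB (3 ^ m))⁻¹) * h8reeN0 hB (3 ^ m) := by group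
      rw [this, hbot]
      group
    rw [hyuk, hu1, one_mul]
    exact hk.1
  rw [eq_bot_iff]
  intro x hx
  rw [Subgroup.mem_bot]
  have hxH := step1 x hx
  obtain ⟨w, hw⟩ : ∃ w : GL chevG2.Idx K, w = h8wordU chevG2 hB (reeWordU (3 ^ m) (1 : K) 0 0) :=
    ⟨_, rfl⟩
  have hwG : w ∈ G1 := hw ▸ h8reeWordU_mem hB _ _ _ _
  have hwU : w ∈ chevG2.posUnipotent K :=
    hw ▸ ((h8ree_U_iff hK hB _).mpr ⟨1, 0, 0, rfl⟩).1
  have hyc : (⟨w, hwG⟩ : ↥G1) * x * (⟨w, hwG⟩ : ↥G1)⁻¹ ∈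
      ((chevG2.borelSubgroup K ⊓ G1).subgroupOf G1).normalCore := by
    intro b
    have h1 := hx (b * ⟨w, hwG⟩)
    have e : b * ((⟨w, hwG⟩ : ↥G1) * x * (⟨w, hwG⟩ : ↥G1)⁻¹) * b⁻¹ =
        (b * ⟨w, hwG⟩) * x * (b * ⟨w, hwG⟩)⁻¹ := by group
    rw [e]
    exact h1
  have hyH := step1 _ hyc
  have hyH' : w * x.val * w⁻¹ ∈ chevG2.diagonalSubgroup K := by
    have := hyH
    simp only [Subgroup.coe_mul, Subgroup.coe_inv] at this
    exact this
  -- the commutator lies in `U ∩ H`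
  have hcomm : w * x.val * w⁻¹ * x.val⁻¹ ∈
      chevG2.posUnipotent K ⊓ chevG2.diagonalSubgroup K := by
    refine ⟨?_, Subgroup.mul_mem _ hyH' (Subgroup.inv_mem _ hxH)⟩
    have hnU : x.val * w⁻¹ * x.val⁻¹ ∈ chevG2.posUnipotent K :=
      ((Subgroup.mem_normalizer_iff (H := chevG2.posUnipotent K)).mp
        (h8_H_le_normalizer_U chevG2 hB hxH) _).mp (Subgroup.inv_mem _ hwU)
    have e : w * x.val * w⁻¹ * x.val⁻¹ = w * (x.val * w⁻¹ * x.val⁻¹) := by group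
    rw [e]
    exact Subgroup.mul_mem _ hwU hnU
  rw [h8_U_inf_H chevG2 hB, Subgroup.mem_bot] at hcomm
  have hc : x.val * w * x.val⁻¹ = w := by
    have e : x.val * w * x.val⁻¹ = (w * x.val * w⁻¹ * x.val⁻¹)⁻¹ * w := by group
    rw [e, hcomm, inv_one, one_mul]
  rw [hw] at hc
  exact Subtype.ext (h8ree_H_cent_U hK hB x.val hxH hc)

end Cfsg.Agent.Lib.helper8
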