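import Mathlib
import Cfsg.Prelude.Def_ChevStructure
import Cfsg.Prelude.Def_ChevG2
import Cfsg.Prelude.Def_LieTwisted
import Cfsg.Agent.Lib.helper8.ChevRee26
import Cfsg.Agent.Lib.helper8.ChevXEntry

set_option autoImplicit false

namespace Cfsg.Agent.Lib.helper8

open Cfsg.Lie Cfsg.Lie.ChevalleyDatum

universe u

variable {K : Type u} [Field K]

/-- the characters of an element of `H` on the non-simple positive roots of `G₂`
(in characteristic 3) -/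
theorem h8ree_chi_mult [CharP K 3] (hB : H8Base.{u} chevG2) (hC : H8CommAll.{u} chevG2)
    (hO2 : H8Ord2 chevG2) (k : GL chevG2.Idx K) (hk : k ∈ chevG2.diagonalSubgroup K) :
    h8chi chevG2 hB k 8 = h8chi chevG2 hB k 7 * h8chi chevG2 hB k 6 ∧
    h8chi chevG2 hB k 9 = h8chi chevG2 hB k 7 ^ 2 * h8chi chevG2 hB k 6 ∧
    h8chi chevG2 hB k 10 = h8chi chevG2 hB k 6 * h8chi chevG2 hB k 7 ^ 3 ∧
    h8chi chevG2 hB k 11 = h8chi chevG2 hB k 6 ^ 2 * h8chi chevG2 hB k 7 ^ 3 := by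
  have e1 : h8xU chevG2 hB 7 (1 : K) * h8xU chevG2 hB 6 1 =
      h8reeStd hB 1 1 (-(1 * 1)) (-(1 ^ 2 * 1)) (1 * 1 ^ 3) (1 ^ 2 * 1 ^ 3) := by
    rw [h8ree_swap hC]
    rfl
  have e2 : k * (h8xU chevG2 hB 7 (1 : K) * h8xU chevG2 hB 6 1) * k⁻¹ =
      h8xU chevG2 hB 7 (h8chi chevG2 hB k 7 * 1) * h8xU chevG2 hB 6 (h8chi chevG2 hB k 6 * 1) := by
    rw [← (h8chi_spec chevG2 hB k hk 7 (by decide)).2, ← (h8chi_spec chevG2 hB k hk 6 (by decide)).2]
    group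
  rw [e1, h8reeStd_conj hB k hk, h8ree_swap hC] at e2
  have e3 : h8xU chevG2 hB 6 (h8chi chevG2 hB k 6 * 1) * h8xU chevG2 hB 7 (h8chi chevG2 hB k 7 * 1) *
      h8reeQ4 hB (-(h8chi chevG2 hB k 7 * 1 * (h8chi chevG2 hB k 6 * 1)))
        (-((h8chi chevG2 hB k 7 * 1) ^ 2 * (h8chi chevG2 hB k 6 * 1)))
        (h8chi chevG2 hB k 6 * 1 * (h8chi chevG2 hB k 7 * 1) ^ 3)
        ((h8chi chevG2 hB k 6 * 1) ^ 2 * (h8chi chevG2 hB k 7 * 1) ^ 3) =
      h8reeStd hB (h8chi chevG2 hB k 6 * 1) (h8chi chevG2 hB k 7 * 1)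
        (-(h8chi chevG2 hB k 7 * 1 * (h8chi chevG2 hB k 6 * 1)))
        (-((h8chi chevG2 hB k 7 * 1) ^ 2 * (h8chi chevG2 hB k 6 * 1)))
        (h8chi chevG2 hB k 6 * 1 * (h8chi chevG2 hB k 7 * 1) ^ 3)
        ((h8chi chevG2 hB k 6 * 1) ^ 2 * (h8chi chevG2 hB k 7 * 1) ^ 3) := rfl
  rw [e3] at e2
  obtain ⟨_, _, h8, h9, h10, h11⟩ := h8reeStd_inj hO2 _ _ _ _ _ _ _ _ _ _ _ _ e2
  simp only [mul_one, one_pow, mul_neg, neg_inj] at h8 h9 h10 h11
  exact ⟨h8, h9, h10, h11⟩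

/-- the matrix entry detecting the coefficient of the long simple root -/
def h8reeTau (g : GL chevG2.Idx K) : K :=
  (g : Matrix chevG2.Idx chevG2.Idx K) (Sum.inr ⟨6, by decide⟩) (Sum.inl ⟨1, by decide⟩)

theorem h8reeTau_mul (hB : H8Base.{u} chevG2) (g g' : GL chevG2.Idx K)
    (hg : g ∈ chevG2.posUnipotent K) (hg' : g' ∈ chevG2.posUnipotent K) :
    h8reeTau (g * g') = h8reeTau g + h8reeTau g' := by
  have h1 := h8_posUnipotent_unitri chevG2 hB.posOK g hg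
  have h2 := h8_posUnipotent_unitri chevG2 hB.posOK g' hg'
  have h3 := H8Tri.mul h1 h2
  have hz : (((g : Matrix chevG2.Idx chevG2.Idx K) - 1) * ((g' : Matrix chevG2.Idx chevG2.Idx K) - 1))
      (Sum.inr ⟨6, by decide⟩) (Sum.inl ⟨1, by decide⟩) = 0 := by
    by_contra hne
    have := h3 _ _ hne
    have e1 : h8rho chevG2 (Sum.inr ⟨6, by decide⟩) = 8 := rfl
    have e2 : h8rho chevG2 (Sum.inl ⟨1, by decide⟩) = 7 := rfl
    rw [e1, e2] at this
    omega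
  have e : ((g * g' : GL chevG2.Idx K) : Matrix chevG2.Idx chevG2.Idx K) =
      ((g : Matrix chevG2.Idx chevG2.Idx K) - 1) * ((g' : Matrix chevG2.Idx chevG2.Idx K) - 1) +
        (g : Matrix chevG2.Idx chevG2.Idx K) + (g' : Matrix chevG2.Idx chevG2.Idx K) - 1 := by
    rw [Units.val_mul]
    noncomm_ring
  unfold h8reeTau
  rw [e, Matrix.sub_apply, Matrix.add_apply, Matrix.add_apply, hz,
    Matrix.one_apply_ne (by decide)]
  ring

theorem h8ree_cartan16 : chevG2.cartan 1 6 = 2 := by decide +kernel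

theorem h8reeTau_x (hB : H8Base.{u} chevG2) (r : ℕ) (hr : r < 12) (t : K) :
    h8reeTau (h8xU chevG2 hB r t) = if r = 6 then -(2 * t) else 0 := by
  unfold h8reeTau
  rw [h8xU_val]
  unfold ChevalleyDatum.x
  rw [dif_pos (show r < chevG2.nroots from hr), h8xMat_inr_inl]
  by_cases h6 : r = 6
  · subst h6
    rw [if_pos rfl, if_pos rfl]
    show -(((chevG2.cartan 1 6 : ℤ) : K)) * t = _
    rw [h8ree_cartan16]
    push_cast
    ring
  · rw [if_neg h6, if_neg]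
    intro h
    apply h6
    exact (congrArg Fin.val h).symm

end Cfsg.Agent.Lib.helper8
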