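import Mathlib
import Cfsg.Prelude.Def_ChevStructure
import Cfsg.Prelude.Def_ChevG2
import Cfsg.Prelude.Def_LieTwisted
import Cfsg.Agent.Lib.helper8.ChevRee27
import Cfsg.Agent.Lib.helper8.ChevRee23

set_option autoImplicit false

namespace Cfsg.Agent.Lib.helper8

open Cfsg.Lie Cfsg.Lie.ChevalleyDatum

universe u

variable {K : Type u} [Field K] {hB : H8Base.{u} chevG2}

set_option synthInstance.maxSize 1000 in
set_option synthInstance.maxHeartbeats 200000 in
theorem h8ree_posroots : ∀ r ∈ [6, 7, 8, 9, 10, 11], chevG2.IsPosRoot r := by decide +kernel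

theorem h8reeQ4_mem_U (c8 c9 c10 c11 : K) :
    h8reeQ4 hB c8 c9 c10 c11 ∈ chevG2.posUnipotent K := by
  unfold h8reeQ4
  exact Subgroup.mul_mem _ (Subgroup.mul_mem _ (Subgroup.mul_mem _
    (h8xU_mem_U chevG2 hB 8 (h8ree_posroots 8 (by simp)) _)
    (h8xU_mem_U chevG2 hB 9 (h8ree_posroots 9 (by simp)) _))
    (h8xU_mem_U chevG2 hB 10 (h8ree_posroots 10 (by simp)) _))
    (h8xU_mem_U chevG2 hB 11 (h8ree_posroots 11 (by simp)) _)

theorem h8reeTau_Q4 (c8 c9 c10 c11 : K) : h8reeTau (h8reeQ4 hB c8 c9 c10 c11) = 0 := by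
  unfold h8reeQ4
  have m8 := h8xU_mem_U (F := K) chevG2 hB 8 (h8ree_posroots 8 (by simp)) c8
  have m9 := h8xU_mem_U (F := K) chevG2 hB 9 (h8ree_posroots 9 (by simp)) c9
  have m10 := h8xU_mem_U (F := K) chevG2 hB 10 (h8ree_posroots 10 (by simp)) c10
  have m11 := h8xU_mem_U (F := K) chevG2 hB 11 (h8ree_posroots 11 (by simp)) c11
  rw [h8reeTau_mul hB _ _ (Subgroup.mul_mem _ (Subgroup.mul_mem _ m8 m9) m10) m11,
    h8reeTau_mul hB _ _ (Subgroup.mul_mem _ m8 m9) m10, h8reeTau_mul hB _ _ m8 m9,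
    h8reeTau_x hB 8 (by decide), h8reeTau_x hB 9 (by decide), h8reeTau_x hB 10 (by decide),
    h8reeTau_x hB 11 (by decide)]
  simp

theorem h8reeTau_Std (t6 t7 c8 c9 c10 c11 : K) :
    h8reeTau (h8reeStd hB t6 t7 c8 c9 c10 c11) = -(2 * t6) := by
  unfold h8reeStd
  have m6 := h8xU_mem_U (F := K) chevG2 hB 6 (h8ree_posroots 6 (by simp)) t6
  have m7 := h8xU_mem_U (F := K) chevG2 hB 7 (h8ree_posroots 7 (by simp)) t7
  rw [h8reeTau_mul hB _ _ (Subgroup.mul_mem _ m6 m7) (h8reeQ4_mem_U _ _ _ _),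
    h8reeTau_mul hB _ _ m6 m7, h8reeTau_x hB 6 (by decide), h8reeTau_x hB 7 (by decide),
    h8reeTau_Q4]
  simp

theorem h8reeStd_zero (c8 c9 c10 c11 : K) :
    h8reeStd hB 0 0 c8 c9 c10 c11 = h8reeQ4 hB c8 c9 c10 c11 := by
  unfold h8reeStd
  rw [h8xU_zero', h8xU_zero', one_mul, one_mul]

section
variable [CharP K 3] (R : H8Ree K hB) (hC : H8CommAll.{u} chevG2)

include hC in
/-- words of the first kind with vanishing first parameter -/
theorem h8reeWordU_zero (e : ℕ) (hfe : ∀ t : K, R.f t = t ^ e) (u v : K) :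
    h8wordU chevG2 hB (reeWordU e 0 u v) = h8reeQ4 hB (R.f u) (R.f v) u v := by
  rw [h8reeWordU_std R hC e hfe, map_zero, ← h8reeStd_zero]
  congr 1 <;> ring

include hC in
/-- multiplying a word of the first kind by one with vanishing first parameter -/
theorem h8reeWordU_mul0 (e : ℕ) (hfe : ∀ t : K, R.f t = t ^ e) (t a b u v : K) :
    h8wordU chevG2 hB (reeWordU e t a b) * h8wordU chevG2 hB (reeWordU e 0 u v) =
      h8wordU chevG2 hB (reeWordU e t (a + u) (b + v)) := by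
  rw [h8reeWordU_zero R hC e hfe, h8reeWordU_std R hC e hfe, h8reeWordU_std R hC e hfe]
  unfold h8reeStd
  rw [mul_assoc, h8reeQ4_mul hC, map_add, map_add]
  congr 2 <;> ring

end

end Cfsg.Agent.Lib.helper8
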