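import Mathlib
import Cfsg.Prelude.Def_ChevStructure
import Cfsg.Prelude.Def_ChevG2
import Cfsg.Prelude.Def_LieTwisted
import Cfsg.Agent.Lib.helper8.ChevRee28

set_option autoImplicit false

namespace Cfsg.Agent.Lib.helper8

open Cfsg.Lie Cfsg.Lie.ChevalleyDatum

universe u

variable {K : Type u} [Field K]

/-- commutators with a sufficiently general element of `H ∩ ²G₂(q)` generate `U ∩ ²G₂(q)` -/
theorem h8ree_U1_le [Fintype K] {m : ℕ} (hK : Fintype.card K = 3 ^ (2 * m + 1))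
    (hB : H8Base.{u} chevG2) (T : Subgroup (GL chevG2.Idx K)) (k : GL chevG2.Idx K)
    (hk : k ∈ chevG2.diagonalSubgroup K ⊓ twistedG2 K (3 ^ m))
    (h6 : h8chi chevG2 hB k 6 ≠ 1) (h10 : h8chi chevG2 hB k 10 ≠ 1)
    (h11 : h8chi chevG2 hB k 11 ≠ 1)
    (hT : ∀ w ∈ chevG2.posUnipotent K ⊓ twistedG2 K (3 ^ m), k * w * k⁻¹ * w⁻¹ ∈ T)
    (t u v : K) : h8wordU chevG2 hB (reeWordU (3 ^ m) t u v) ∈ T := by
  have hD : chevG2 ∈ [chevG2, chevB2, chevD4, chevF4, chevE6, chevE7, chevE8] := by simp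
  have hC := h8commAll.{u} chevG2 hD
  obtain ⟨hO, hO2⟩ := h8ord_all chevG2 hD
  haveI := h8ree_char3 hK
  obtain ⟨R, hfe⟩ := h8ree_setup hK hB
  have h2 : (2 : K) ≠ 0 := by
    intro h
    have h' : ((2 : ℕ) : K) = 0 := by exact_mod_cast h
    rw [CharP.cast_eq_zero_iff K 3] at h'
    omega
  -- the commutator of `k` with an element of `U¹` lies in `U¹`
  have hcU : ∀ w ∈ chevG2.posUnipotent K ⊓ twistedG2 K (3 ^ m),
      k * w * k⁻¹ * w⁻¹ ∈ chevG2.posUnipotent K ⊓ twistedG2 K (3 ^ m) := by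
    intro w hw
    refine ⟨Subgroup.mul_mem _ ?_ (Subgroup.inv_mem _ hw.1),
      Subgroup.mul_mem _ (Subgroup.mul_mem _ (Subgroup.mul_mem _ hk.2 hw.2)
        (Subgroup.inv_mem _ hk.2)) (Subgroup.inv_mem _ hw.2)⟩
    exact ((Subgroup.mem_normalizer_iff (H := chevG2.posUnipotent K)).mp
      (h8_H_le_normalizer_U chevG2 hB hk.1) w).mp hw.1
  have hWmem : ∀ a b c : K, h8wordU chevG2 hB (reeWordU (3 ^ m) a b c) ∈
      chevG2.posUnipotent K ⊓ twistedG2 K (3 ^ m) :=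
    fun a b c => (h8ree_U_iff hK hB _).mpr ⟨a, b, c, rfl⟩
  -- words with vanishing first parameter
  have hA : ∀ u v : K, h8wordU chevG2 hB (reeWordU (3 ^ m) 0 u v) ∈ T := by
    intro u v
    set u' := u / (h8chi chevG2 hB k 10 - 1) with hu'
    set v' := v / (h8chi chevG2 hB k 11 - 1) with hv'
    have hc := hT _ (hWmem 0 u' v')
    obtain ⟨t2, u2, v2, e⟩ := (h8ree_U_iff hK hB _).mp (hcU _ (hWmem 0 u' v'))
    have e' := e
    rw [h8reeWordU_zero R hC (3 ^ m) hfe, ← h8reeStd_zero] at e'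
    rw [h8reeStd_conj hB k hk.1, mul_zero, mul_zero, h8reeStd_zero, h8reeStd_zero,
      h8reeQ4_inv hC, h8reeQ4_mul hC, h8reeWordU_std R hC (3 ^ m) hfe, ← h8reeStd_zero] at e'
    obtain ⟨e6, _, _, _, e10, e11⟩ := h8reeStd_inj hO2 _ _ _ _ _ _ _ _ _ _ _ _ e'
    have ht2 : t2 = 0 := e6.symm
    rw [ht2] at e10 e11
    have hu2 : u2 = u := by
      have h10' : h8chi chevG2 hB k 10 - 1 ≠ 0 := sub_ne_zero.mpr h10
      rw [zero_mul, add_zero] at e10
      rw [← e10, hu']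
      field_simp
      ring
    have hv2 : v2 = v := by
      have h11' : h8chi chevG2 hB k 11 - 1 ≠ 0 := sub_ne_zero.mpr h11
      rw [zero_pow (by norm_num), zero_mul, add_zero] at e11
      rw [← e11, hv']
      field_simp
      ring
    rw [e, ht2, hu2, hv2] at hc
    exact hc
  -- the general case
  set t' := t / (h8chi chevG2 hB k 6 - 1) with ht'
  have hc := hT _ (hWmem t' 0 0)
  have hcm := hcU _ (hWmem t' 0 0)
  obtain ⟨t2, u2, v2, e⟩ := (h8ree_U_iff hK hB _).mp hcm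
  have hkwU : k * h8wordU chevG2 hB (reeWordU (3 ^ m) t' 0 0) * k⁻¹ ∈ chevG2.posUnipotent K :=
    ((Subgroup.mem_normalizer_iff (H := chevG2.posUnipotent K)).mp
      (h8_H_le_normalizer_U chevG2 hB hk.1) _).mp (hWmem t' 0 0).1
  have hτ1 : h8reeTau (k * h8wordU chevG2 hB (reeWordU (3 ^ m) t' 0 0) * k⁻¹ *
      (h8wordU chevG2 hB (reeWordU (3 ^ m) t' 0 0))⁻¹) =
      -(2 * (h8chi chevG2 hB k 6 * t')) + 2 * t' := by
    rw [h8reeTau_mul hB _ _ hkwU (Subgroup.inv_mem _ (hWmem t' 0 0).1)]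
    have hinv : h8reeTau (h8wordU chevG2 hB (reeWordU (3 ^ m) t' 0 0))⁻¹ = 2 * t' := by
      have h1 := h8reeTau_mul hB _ _ (hWmem t' 0 0).1 (Subgroup.inv_mem _ (hWmem t' 0 0).1)
      rw [mul_inv_cancel] at h1
      have h0 : h8reeTau (1 : GL chevG2.Idx K) = 0 := by
        unfold h8reeTau
        rw [Units.val_one, Matrix.one_apply_ne (by decide)]
      have hτW : h8reeTau (h8wordU chevG2 hB (reeWordU (3 ^ m) t' 0 0)) = -(2 * t') := by
        rw [h8reeWordU_std R hC (3 ^ m) hfe, h8reeTau_Std]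
      rw [h0, hτW] at h1
      linear_combination -h1
    rw [hinv, h8reeWordU_std R hC (3 ^ m) hfe, h8reeStd_conj hB k hk.1, h8reeTau_Std]
  rw [e, h8reeWordU_std R hC (3 ^ m) hfe, h8reeTau_Std] at hτ1
  have ht2 : t2 = t := by
    have h6' : h8chi chevG2 hB k 6 - 1 ≠ 0 := sub_ne_zero.mpr h6
    have : 2 * t2 = 2 * ((h8chi chevG2 hB k 6 - 1) * t') := by linear_combination -hτ1
    have h3 := mul_left_cancel₀ h2 this
    rw [h3, ht']
    field_simp
  rw [e, ht2] at hc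
  have := h8reeWordU_mul0 R hC (3 ^ m) hfe t u2 v2 (u - u2) (v - v2)
  rw [add_sub_cancel, add_sub_cancel] at this
  rw [← this]
  exact Subgroup.mul_mem _ hc (hA _ _)

end Cfsg.Agent.Lib.helper8
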