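import Mathlib
import Cfsg.Prelude.Def_ChevStructure
import Cfsg.Prelude.Def_ChevG2
import Cfsg.Prelude.Def_LieTwisted
import Cfsg.Agent.Lib.helper8.ChevRee29

set_option autoImplicit false

namespace Cfsg.Agent.Lib.helper8

open Cfsg.Lie Cfsg.Lie.ChevalleyDatum
open scoped commutatorElement

universe u

variable {K : Type u} [Field K]

theorem h8ree_cube_one [CharP K 3] (x : K) (h : x ^ 3 = 1) : x = 1 := by
  haveI : Fact (Nat.Prime 3) := ⟨Nat.prime_three⟩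
  apply frobenius_inj K 3
  rw [frobenius_def, frobenius_def, h, one_pow]

theorem h8ree_ineq (m : ℕ) (hm : 1 ≤ m) : 2 * 3 ^ m + 1 < 3 ^ (2 * m + 1) - 1 := by
  have h3 : 3 ≤ 3 ^ m := by
    calc 3 = 3 ^ 1 := by norm_num
      _ ≤ 3 ^ m := Nat.pow_le_pow_right (by norm_num) hm
  have e : 3 ^ (2 * m + 1) = 3 * (3 ^ m * 3 ^ m) := by ring
  rw [e]
  have : 3 * 3 ^ m ≤ 3 ^ m * 3 ^ m := Nat.mul_le_mul_right _ h3
  omega

/-- an element of `H ∩ ²G₂(q)` on which three characters are non-trivial (`q ≥ 27`) -/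
theorem h8ree_exists_gen [Fintype K] {m : ℕ} (hm : 1 ≤ m) (hK : Fintype.card K = 3 ^ (2 * m + 1))
    (hB : H8Base.{u} chevG2) :
    ∃ k ∈ chevG2.diagonalSubgroup K ⊓ twistedG2 K (3 ^ m),
      h8chi chevG2 hB k 6 ≠ 1 ∧ h8chi chevG2 hB k 10 ≠ 1 ∧ h8chi chevG2 hB k 11 ≠ 1 := by
  classical
  have hD : chevG2 ∈ [chevG2, chevB2, chevD4, chevF4, chevE6, chevE7, chevE8] := by simp
  have hA := h8reflAll chevG2 hD
  have hC := h8commAll.{u} chevG2 hD
  have hW := h8bn2_all chevG2 hD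
  obtain ⟨hO, hO2⟩ := h8ord_all chevG2 hD
  haveI := h8ree_char3 hK
  obtain ⟨R, hfe⟩ := h8ree_setup hK hB
  have hcardU : Nat.card Kˣ = 3 ^ (2 * m + 1) - 1 := by
    rw [Nat.card_eq_fintype_card, Fintype.card_units, hK]
  have hbij : Function.Bijective (h8reeChiHom (K := K) hB hA hW (3 ^ m)) := by
    apply (h8reeChiHom_injective hK hB hA hW).bijective_of_nat_card_le
    rw [hcardU, h8ree_H1_card hK]
  obtain ⟨μ, hμ⟩ := IsCyclic.exists_ofOrder_eq_natCard (α := Kˣ)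
  rw [hcardU] at hμ
  obtain ⟨k, hk⟩ := hbij.2 μ
  have h7 : h8chi chevG2 hB k.val 7 = μ.val := congrArg Units.val hk
  have hfix := (h8ree_G1_fix R hC (3 ^ m) hfe k.val k.2.2).2
  have h6 : h8chi chevG2 hB k.val 6 = (μ.val ^ 3 ^ m) ^ 3 := by
    have := h8ree_chi_sig R hA hW k.val k.2.1 hfix 7 (by decide)
    rw [h8reeE_short R 7 (by decide), h7, hfe] at this
    exact this
  obtain ⟨_, _, h10, h11⟩ := h8ree_chi_mult hB hC hO2 k.val k.2.1
  have hpow : ∀ n : ℕ, 0 < n → n ≤ 2 * 3 ^ m + 1 → (μ.val ^ n) ^ 3 ≠ 1 := by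
    intro n hn0 hn h
    have h1 := h8ree_cube_one _ h
    have h2 : μ ^ n = 1 := Units.ext (by rw [Units.val_pow_eq_pow_val, h1]; rfl)
    have h3 := orderOf_dvd_of_pow_eq_one h2
    rw [hμ] at h3
    have h4 := Nat.le_of_dvd hn0 h3
    have := h8ree_ineq m hm
    omega
  have h3m : 0 < 3 ^ m := pow_pos (by norm_num) m
  refine ⟨k.val, k.2, ?_, ?_, ?_⟩
  · rw [h6]
    exact hpow (3 ^ m) h3m (by omega)
  · rw [h10, h6, h7]
    have e : (μ.val ^ 3 ^ m) ^ 3 * μ.val ^ 3 = (μ.val ^ (3 ^ m + 1)) ^ 3 := by ring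
    rw [e]
    exact hpow _ (by omega) (by omega)
  · rw [h11, h6, h7]
    have e : ((μ.val ^ 3 ^ m) ^ 3) ^ 2 * μ.val ^ 3 = (μ.val ^ (2 * 3 ^ m + 1)) ^ 3 := by ring
    rw [e]
    exact hpow _ (by omega) le_rfl

set_option synthInstance.maxSize 1000 in
set_option synthInstance.maxHeartbeats 200000 in
theorem h8ree_negroot_pos : ∀ r < 12, chevG2.IsNegRoot r →
    chevG2.IsPosRoot (chevG2.negIdx.getD r 0) := by decide +kernel

/-- an element of `N` inducing the longest permutation conjugates `V` into `U` -/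
theorem h8ree_w0_conj_V (hB : H8Base.{u} chevG2) (hA : H8ReflAll chevG2) (hBN : H8BN chevG2)
    (hW : H8BN2 chevG2) (hO2 : H8Ord2 chevG2) (n : ↥(chevG2.monomialSubgroup K))
    (hπ : h8Pi chevG2 hB hA hBN hW hO2 n = h8reeW0 hA) (v : GL chevG2.Idx K)
    (hv : v ∈ chevG2.negUnipotent K) : n.val * v * n.val⁻¹ ∈ chevG2.posUnipotent K := by
  unfold ChevalleyDatum.negUnipotent at hv
  induction hv using Subgroup.closure_induction with
  | mem y hy =>
    obtain ⟨r, t, hr, hy⟩ := hy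
    have hy' : y = h8xU chevG2 hB r t := Units.ext (by rw [hy, h8xU_val])
    have hact := h8Pi_act chevG2 hB hA hBN hW hO2 n ⟨r, hr.1⟩
    rw [hπ, h8reeW0_val] at hact
    obtain ⟨c, _, h1⟩ := hact
    rw [hy', h1]
    exact h8xU_mem_U chevG2 hB _ (h8ree_negroot_pos r hr.1 hr) _
  | one =>
    have : n.val * 1 * n.val⁻¹ = 1 := by group
    rw [this]
    exact Subgroup.one_mem _
  | mul a b _ _ ha hb =>
    have : n.val * (a * b) * n.val⁻¹ = (n.val * a * n.val⁻¹) * (n.val * b * n.val⁻¹) := by group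
    rw [this]
    exact Subgroup.mul_mem _ ha hb
  | inv a _ ha =>
    have : n.val * a⁻¹ * n.val⁻¹ = (n.val * a * n.val⁻¹)⁻¹ := by group
    rw [this]
    exact Subgroup.inv_mem _ ha

/-- `²G₂(q)` is perfect for `q ≥ 27` -/
theorem h8ree_perfect [Fintype K] {m : ℕ} (hm : 1 ≤ m) (hK : Fintype.card K = 3 ^ (2 * m + 1)) :
    commutator ↥(twistedG2 K (3 ^ m)) = ⊤ := by
  have hD : chevG2 ∈ [chevG2, chevB2, chevD4, chevF4, chevE6, chevE7, chevE8] := by simp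
  have hB := h8base_all.{u} chevG2 hD
  have hA := h8reflAll chevG2 hD
  have hC := h8commAll.{u} chevG2 hD
  have hBN := h8bn_all chevG2 hD
  have hW := h8bn2_all chevG2 hD
  obtain ⟨hO, hO2⟩ := h8ord_all chevG2 hD
  haveI := h8ree_char3 hK
  have he : (3 ^ m : ℕ) ≠ 0 := pow_ne_zero _ (by norm_num)
  have hn0N := h8reeN0_mem_N (K := K) (hB := hB) hC (3 ^ m) he
  have hn0G : h8reeN0 (K := K) hB (3 ^ m) ∈ twistedG2 K (3 ^ m) := h8reeN0_mem _
  have hπ := h8ree_Pi_N0 hK hB hA hBN hW hO2 hn0N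
  obtain ⟨k, hk, h6, h10, h11⟩ := h8ree_exists_gen hm hK hB
  set G1 := twistedG2 K (3 ^ m) with hG1
  -- the image of the commutator subgroup
  have hcomm : ∀ a b : GL chevG2.Idx K, a ∈ G1 → b ∈ G1 →
      a * b * a⁻¹ * b⁻¹ ∈ (commutator ↥G1).map G1.subtype := by
    intro a b ha hb
    refine ⟨⁅(⟨a, ha⟩ : ↥G1), ⟨b, hb⟩⁆, ?_, rfl⟩
    rw [commutator_def]
    exact Subgroup.commutator_mem_commutator (Subgroup.mem_top _) (Subgroup.mem_top _)
  have hconj : ∀ a x : GL chevG2.Idx K, a ∈ G1 → x ∈ (commutator ↥G1).map G1.subtype →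
      a * x * a⁻¹ ∈ (commutator ↥G1).map G1.subtype := by
    rintro a x ha ⟨y, hy, rfl⟩
    have : (commutator ↥G1).Normal := inferInstance
    exact ⟨⟨a, ha⟩ * y * ⟨a, ha⟩⁻¹, ‹(commutator ↥G1).Normal›.conj_mem y hy ⟨a, ha⟩, rfl⟩
  have hWw : ∀ t u v : K, h8wordU chevG2 hB (reeWordU (3 ^ m) t u v) ∈
      (commutator ↥G1).map G1.subtype :=
    h8ree_U1_le hK hB _ k hk h6 h10 h11 (fun w hw => hcomm k w hk.2 hw.2)
  have hle : G1 ≤ (commutator ↥G1).map G1.subtype := by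
    conv_lhs => rw [hG1]
    unfold twistedG2 ChevalleyDatum.genSubgroup
    rw [Subgroup.closure_le]
    rintro g ⟨w, ⟨t, u, v, hw⟩, hg⟩
    have hgw : g = h8wordU chevG2 hB w := Units.ext (by rw [hg, h8wordU_val])
    rw [hgw]
    rcases hw with rfl | rfl
    · exact hWw t u v
    · -- a word of the second kind is conjugate to a word of the first kind
      have hvV := h8reeWordV_mem_V (hB := hB) (3 ^ m) t u v
      have hvG : h8wordU chevG2 hB (reeWordV (3 ^ m) t u v) ∈ G1 := h8reeWordV_mem hB _ t u v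
      have hninvN : (h8reeN0 hB (3 ^ m))⁻¹ ∈ chevG2.monomialSubgroup K :=
        Subgroup.inv_mem _ hn0N
      have hπ' : h8Pi chevG2 hB hA hBN hW hO2 ⟨(h8reeN0 hB (3 ^ m))⁻¹, hninvN⟩ = h8reeW0 hA := by
        have e : (⟨(h8reeN0 hB (3 ^ m))⁻¹, hninvN⟩ : ↥(chevG2.monomialSubgroup K)) =
            (⟨h8reeN0 hB (3 ^ m), hn0N⟩)⁻¹ := rfl
        rw [e, map_inv, hπ]
        exact inv_eq_of_mul_eq_one_right (h8reeW0_sq hA)
      have hU := h8ree_w0_conj_V hB hA hBN hW hO2 ⟨_, hninvN⟩ hπ' _ hvV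
      have hUG : (h8reeN0 hB (3 ^ m))⁻¹ * h8wordU chevG2 hB (reeWordV (3 ^ m) t u v) *
          (h8reeN0 hB (3 ^ m))⁻¹⁻¹ ∈ G1 :=
        Subgroup.mul_mem _ (Subgroup.mul_mem _ (Subgroup.inv_mem _ hn0G) hvG)
          (Subgroup.inv_mem _ (Subgroup.inv_mem _ hn0G))
      obtain ⟨a, b, c, e⟩ := (h8ree_U_iff hK hB _).mp ⟨hU, hUG⟩
      have e2 : h8wordU chevG2 hB (reeWordV (3 ^ m) t u v) =
          h8reeN0 hB (3 ^ m) * ((h8reeN0 hB (3 ^ m))⁻¹ *
            h8wordU chevG2 hB (reeWordV (3 ^ m) t u v) * (h8reeN0 hB (3 ^ m))⁻¹⁻¹) *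
            (h8reeN0 hB (3 ^ m))⁻¹ := by group
      rw [e2]
      apply hconj _ _ hn0G
      have e3 : ((⟨(h8reeN0 hB (3 ^ m))⁻¹, hninvN⟩ : ↥(chevG2.monomialSubgroup K)).val) =
          (h8reeN0 hB (3 ^ m))⁻¹ := rfl
      rw [e3] at e
      rw [e]
      exact hWw a b c
  rw [eq_top_iff]
  intro x _
  obtain ⟨y, hy, hyx⟩ := hle x.2
  have : y = x := Subtype.ext hyx
  rw [← this]
  exact hy

end Cfsg.Agent.Lib.helper8
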