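import Mathlib
import Cfsg.Prelude.Def_ChevStructure
import Cfsg.Prelude.Def_ChevG2
import Cfsg.Prelude.Def_LieTwisted
import Cfsg.Agent.Lib.helper8.ChevRee28

set_option autoImplicit false

namespace Cfsg.Agent.Lib.helper8

open Cfsg.Lie Cfsg.Lie.ChevalleyDatum

universe u

variable {K : Type u} [Field K]

/-- an element of `H ∩ ²G₂(q)` centralizing a non-trivial element of `U ∩ ²G₂(q)`: the square
of the character of the short simple root is trivial -/
theorem h8ree_cent_sq [Fintype K] {m : ℕ} (hK : Fintype.card K = 3 ^ (2 * m + 1))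
    (hB : H8Base.{u} chevG2)
    (h : GL chevG2.Idx K) (hh : h ∈ chevG2.diagonalSubgroup K ⊓ twistedG2 K (3 ^ m))
    (w : GL chevG2.Idx K) (hwU : w ∈ chevG2.posUnipotent K ⊓ twistedG2 K (3 ^ m)) (hw1 : w ≠ 1)
    (hcomm : h * w * h⁻¹ = w) : h8chi chevG2 hB h 7 ^ 2 = 1 := by
  have hD : chevG2 ∈ [chevG2, chevB2, chevD4, chevF4, chevE6, chevE7, chevE8] := by simp
  have hA := h8reflAll chevG2 hD
  have hC := h8commAll.{u} chevG2 hD
  have hBN := h8bn_all chevG2 hD
  have hW := h8bn2_all chevG2 hD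
  obtain ⟨hO, hO2⟩ := h8ord_all chevG2 hD
  haveI := h8ree_char3 hK
  obtain ⟨R, hfe⟩ := h8ree_setup hK hB
  have hfix := (h8ree_G1_fix R hC (3 ^ m) hfe h hh.2).2
  obtain ⟨m8, m9, m10, m11⟩ := h8ree_chi_mult hB hC hO2 h hh.1
  have h76 : h8chi chevG2 hB h 7 = R.f (h8chi chevG2 hB h 6) := by
    have := h8ree_chi_sig R hA hW h hh.1 hfix 6 (by decide)
    rw [h8reeE_long R 6 (by decide)] at this
    exact this
  obtain ⟨t, u, v, rfl⟩ := (h8ree_U_iff hK hB w).mp hwU
  have h10 : h8wordU chevG2 hB (reeWordU (3 ^ m) (0 : K) 0 0) = 1 := by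
    rw [h8reeWordU_zero R hC (3 ^ m) hfe, map_zero]
    exact h8reeQ4_zero
  rw [h8reeWordU_std R hC (3 ^ m) hfe, h8reeStd_conj hB h hh.1] at hcomm
  obtain ⟨e6, _, e8, e9, e10, e11⟩ := h8reeStd_inj hO2 _ _ _ _ _ _ _ _ _ _ _ _ hcomm
  have hcancel : ∀ c x : K, x ≠ 0 → c * x = x → c = 1 := by
    intro c x hx hcx
    have : (c - 1) * x = 0 := by rw [sub_mul, hcx, one_mul, sub_self]
    rcases mul_eq_zero.mp this with h0 | h0
    · exact sub_eq_zero.mp h0
    · exact absurd h0 hx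
  by_cases ht : t = 0
  · subst ht
    rw [zero_mul, add_zero] at e10
    rw [zero_pow (by norm_num), zero_mul, add_zero] at e11
    by_cases hu : u = 0
    · subst hu
      have hv : v ≠ 0 := by
        rintro rfl
        exact hw1 h10
      have hfv : R.f v ≠ 0 := (map_ne_zero R.f).2 hv
      have c9 := hcancel _ _ hfv e9
      have c11 := hcancel _ _ hv e11
      rw [m9] at c9
      rw [m11] at c11
      have hμν : h8chi chevG2 hB h 7 * h8chi chevG2 hB h 6 = 1 := by
        have : h8chi chevG2 hB h 6 ^ 2 * h8chi chevG2 hB h 7 ^ 3 =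
            (h8chi chevG2 hB h 7 ^ 2 * h8chi chevG2 hB h 6) *
              (h8chi chevG2 hB h 7 * h8chi chevG2 hB h 6) := by ring
        rw [this, c9, one_mul] at c11
        exact c11
      have hμ1 : h8chi chevG2 hB h 7 = 1 := by
        have : h8chi chevG2 hB h 7 ^ 2 * h8chi chevG2 hB h 6 =
            h8chi chevG2 hB h 7 * (h8chi chevG2 hB h 7 * h8chi chevG2 hB h 6) := by ring
        rw [this, hμν, mul_one] at c9
        exact c9
      rw [hμ1, one_pow]
    · have hfu : R.f u ≠ 0 := (map_ne_zero R.f).2 hu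
      have c8 := hcancel _ _ hfu e8
      have c10 := hcancel _ _ hu e10
      rw [m8] at c8
      rw [m10] at c10
      have : h8chi chevG2 hB h 6 * h8chi chevG2 hB h 7 ^ 3 =
          (h8chi chevG2 hB h 7 * h8chi chevG2 hB h 6) * h8chi chevG2 hB h 7 ^ 2 := by ring
      rw [this, c8, one_mul] at c10
      exact c10
  · have h6 := hcancel _ _ ht e6
    rw [h76, h6, map_one, one_pow]

/-- an involution of `H ∩ ²G₂(q)`; it centralizes the elements `x₈(f u) x₁₀(u)` -/
theorem h8ree_invol_exists [Fintype K] {m : ℕ} (hK : Fintype.card K = 3 ^ (2 * m + 1))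
    (hB : H8Base.{u} chevG2) :
    ∃ h₀ ∈ chevG2.diagonalSubgroup K ⊓ twistedG2 K (3 ^ m), h₀ ≠ 1 ∧
      h₀ * h8wordU chevG2 hB (reeWordU (3 ^ m) 0 1 0) * h₀⁻¹ =
        h8wordU chevG2 hB (reeWordU (3 ^ m) 0 1 0) := by
  have hD : chevG2 ∈ [chevG2, chevB2, chevD4, chevF4, chevE6, chevE7, chevE8] := by simp
  have hA := h8reflAll chevG2 hD
  have hC := h8commAll.{u} chevG2 hD
  have hBN := h8bn_all chevG2 hD
  have hW := h8bn2_all chevG2 hD
  obtain ⟨hO, hO2⟩ := h8ord_all chevG2 hD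
  haveI := h8ree_char3 hK
  obtain ⟨R, hfe⟩ := h8ree_setup hK hB
  haveI : Fact (Nat.Prime 2) := ⟨Nat.prime_two⟩
  have hcard := h8ree_H1_card hK
  have h4 := h8ree_card_mod4 m
  have h2 : 2 ∣ Nat.card ↥(chevG2.diagonalSubgroup K ⊓ twistedG2 K (3 ^ m)) := by
    rw [hcard]
    omega
  obtain ⟨⟨h₀, hh⟩, hord⟩ := exists_prime_orderOf_dvd_card' 2 h2
  rw [orderOf_eq_prime_iff] at hord
  obtain ⟨hsq, hne⟩ := hord
  have hne' : h₀ ≠ 1 := fun h => hne (Subtype.ext h)
  have hsq' : h₀ ^ 2 = 1 := by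
    have := congrArg Subtype.val hsq
    rw [Subgroup.coe_pow] at this
    exact this
  refine ⟨h₀, hh, hne', ?_⟩
  have hfix := (h8ree_G1_fix R hC (3 ^ m) hfe h₀ hh.2).2
  obtain ⟨m8, m9, m10, m11⟩ := h8ree_chi_mult hB hC hO2 h₀ hh.1
  have h76 : h8chi chevG2 hB h₀ 7 = R.f (h8chi chevG2 hB h₀ 6) := by
    have := h8ree_chi_sig R hA hW h₀ hh.1 hfix 6 (by decide)
    rw [h8reeE_long R 6 (by decide)] at this
    exact this
  -- the character of the short simple root is `-1`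
  have hμsq : h8chi chevG2 hB h₀ 7 * h8chi chevG2 hB h₀ 7 = 1 := by
    have h1 : (h8reeChiHom (K := K) hB hA hW (3 ^ m) ⟨h₀, hh⟩) ^ 2 = 1 := by
      rw [← map_pow, hsq, map_one]
    have := congrArg Units.val h1
    rw [Units.val_pow_eq_pow_val, pow_two] at this
    exact this
  have hμ : h8chi chevG2 hB h₀ 7 = -1 := by
    rcases mul_self_eq_one_iff.mp hμsq with h1 | h1
    · exfalso
      apply hne
      apply h8reeChiHom_injective hK hB hA hW
      rw [map_one]
      apply Units.ext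
      exact h1
    · exact h1
  have hν : h8chi chevG2 hB h₀ 6 = -1 := by
    apply R.f.injective
    rw [← h76, hμ, map_neg, map_one]
  have h8 : h8chi chevG2 hB h₀ 8 = 1 := by
    rw [m8, hμ, hν]
    ring
  have h10 : h8chi chevG2 hB h₀ 10 = 1 := by
    rw [m10, hμ, hν]
    ring
  rw [h8reeWordU_std R hC (3 ^ m) hfe, h8reeStd_conj hB h₀ hh.1, h8, h10]
  simp only [mul_zero, map_zero, one_mul, zero_mul]
  congr 1
  ring

end Cfsg.Agent.Lib.helper8
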