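import Mathlib
import Cfsg.Prelude.Def_ChevStructure
import Cfsg.Prelude.Def_ChevG2
import Cfsg.Prelude.Def_LieTwisted
import Cfsg.Agent.Lib.helper8.ChevRee28

set_option autoImplicit false

namespace Cfsg.Agent.Lib.helper8

open Cfsg.Lie Cfsg.Lie.ChevalleyDatum

universe u

variable {K : Type u} [Field K] {hB : H8Base.{u} chevG2}

theorem h8ree_ct78 : chevG2.commTerms 7 8 = [(9, -2, 1, 1), (10, -3, 2, 1), (11, 3, 1, 2)] := by
  decide +kernel

theorem h8ree_ct610 : chevG2.commTerms 6 10 = [(11, 1, 1, 1)] := by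
  decide +kernel

/-- further pairs of roots of type G₂ whose root subgroups commute in characteristic 3 -/
theorem h8ree_commTab2 : ∀ p ∈ [(9, 7), (10, 7), (11, 7), (8, 6), (9, 6), (11, 6)],
    ∀ c ∈ chevG2.commTerms (p : ℕ × ℕ).1 p.2, c.2.1 % 3 = 0 := by decide +kernel

theorem h8ree_three [CharP K 3] : (3 : K) = 0 := by
  have := CharP.cast_eq_zero K 3
  exact_mod_cast this

section
variable [CharP K 3] (hC : H8CommAll.{u} chevG2)

include hC in
theorem h8ree_comm2 (r s : ℕ) (hp : (r, s) ∈ [(9, 7), (10, 7), (11, 7), (8, 6), (9, 6), (11, 6)])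
    (t u : K) : Commute (h8xU chevG2 hB r t) (h8xU chevG2 hB s u) := by
  have hr' : r < chevG2.nroots ∧ s < chevG2.nroots ∧ s ≠ r ∧ s ≠ chevG2.negIdx.getD r 0 := by
    simp only [List.mem_cons, List.not_mem_nil, or_false, Prod.mk.injEq] at hp
    rcases hp with ⟨rfl, rfl⟩ | ⟨rfl, rfl⟩ | ⟨rfl, rfl⟩ | ⟨rfl, rfl⟩ | ⟨rfl, rfl⟩ | ⟨rfl, rfl⟩ <;>
      decide
  apply h8comm_char chevG2 hB hC r s hr'.1 hr'.2.1 hr'.2.2.1 hr'.2.2.2
  intro c hc
  rw [CharP.intCast_eq_zero_iff K 3]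
  exact Int.dvd_of_emod_eq_zero (h8ree_commTab2 (r, s) hp c hc)

include hC in
theorem h8ree_c87 (a s : K) :
    h8xU chevG2 hB 8 s * h8xU chevG2 hB 7 a =
      h8xU chevG2 hB 7 a * h8xU chevG2 hB 8 s * h8xU chevG2 hB 9 (-(a * s)) := by
  have h := hC.all 7 (by decide) 8 (by decide) (by decide) (by decide) K a s
  have h3 : (3 : K) = 0 := h8ree_three
  unfold ChevalleyDatum.commWord at h
  rw [h8ree_ct78] at h
  simp only [List.map_cons, List.map_nil, h8wordMat_cons, h8wordMat_nil] at h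
  have e1 : ((-2 : ℤ) : K) * (-a) ^ 1 * s ^ 1 = -(a * s) := by
    push_cast
    linear_combination (a * s) * h3
  have e2 : ((-3 : ℤ) : K) * (-a) ^ 2 * s ^ 1 = 0 := by
    push_cast
    linear_combination (-(a ^ 2 * s)) * h3
  have e3 : ((3 : ℤ) : K) * (-a) ^ 1 * s ^ 2 = 0 := by
    push_cast
    linear_combination (-(a * s ^ 2)) * h3
  rw [e1, e2, e3, h8x_zero, h8x_zero, one_mul, mul_one, mul_one] at h
  apply Units.ext
  simp only [Units.val_mul, h8xU_val]
  exact h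

include hC in
theorem h8ree_c106 (b s : K) :
    h8xU chevG2 hB 10 s * h8xU chevG2 hB 6 b =
      h8xU chevG2 hB 6 b * h8xU chevG2 hB 10 s * h8xU chevG2 hB 11 (-(b * s)) := by
  have h := hC.all 6 (by decide) 10 (by decide) (by decide) (by decide) K b s
  unfold ChevalleyDatum.commWord at h
  rw [h8ree_ct610] at h
  simp only [List.map_cons, List.map_nil, h8wordMat_cons, h8wordMat_nil] at h
  have e1 : ((1 : ℤ) : K) * (-b) ^ 1 * s ^ 1 = -(b * s) := by
    push_cast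
    ring
  rw [e1, mul_one] at h
  apply Units.ext
  simp only [Units.val_mul, h8xU_val]
  exact h

theorem h8mul5_a {G : Type*} [Group G] (A B C D E F : G) (h1 : Commute (B * C * D) E)
    (h2 : A * E = E * A * F) : A * B * C * D * E = E * (A * (F * B) * C * D) := by
  calc A * B * C * D * E = A * ((B * C * D) * E) := by group
    _ = A * (E * (B * C * D)) := by rw [h1.eq]
    _ = (A * E) * (B * C * D) := by group
    _ = (E * A * F) * (B * C * D) := by rw [h2]
    _ = E * (A * (F * B) * C * D) := by group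

theorem h8mul5_b {G : Type*} [Group G] (A B C D E F : G) (h1 : Commute (A * B) E)
    (h2 : C * E = E * C * F) (h3 : Commute D E) :
    A * B * C * D * E = E * (A * B * C * (F * D)) := by
  calc A * B * C * D * E = A * B * C * (D * E) := by group
    _ = A * B * (C * E) * D := by rw [h3.eq]; group
    _ = A * B * (E * C * F) * D := by rw [h2]
    _ = ((A * B) * E) * C * F * D := by group
    _ = (E * (A * B)) * C * F * D := by rw [h1.eq]
    _ = E * (A * B * C * (F * D)) := by group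

include hC in
/-- moving an element of the abelian part past the short simple root subgroup -/
theorem h8reeQ4_x7 (c8 c9 c10 c11 a : K) :
    h8reeQ4 hB c8 c9 c10 c11 * h8xU chevG2 hB 7 a =
      h8xU chevG2 hB 7 a * h8reeQ4 hB c8 (c9 - a * c8) c10 c11 := by
  unfold h8reeQ4
  rw [h8mul5_a _ _ _ _ _ _
    (((h8ree_comm2 hC 9 7 (by decide) c9 a).mul_left (h8ree_comm2 hC 10 7 (by decide) c10 a)).mul_left
      (h8ree_comm2 hC 11 7 (by decide) c11 a)) (h8ree_c87 hC a c8),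
    h8xU_add chevG2 hB 9 (by decide)]
  congr 5
  ring

include hC in
/-- moving an element of the abelian part past the long simple root subgroup -/
theorem h8reeQ4_x6 (c8 c9 c10 c11 b : K) :
    h8reeQ4 hB c8 c9 c10 c11 * h8xU chevG2 hB 6 b =
      h8xU chevG2 hB 6 b * h8reeQ4 hB c8 c9 c10 (c11 - b * c10) := by
  unfold h8reeQ4
  rw [h8mul5_b _ _ _ _ _ _
    ((h8ree_comm2 hC 8 6 (by decide) c8 b).mul_left (h8ree_comm2 hC 9 6 (by decide) c9 b))
    (h8ree_c106 hC b c10) (h8ree_comm2 hC 11 6 (by decide) c11 b),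
    h8xU_add chevG2 hB 11 (by decide)]
  congr 3
  ring

include hC in
/-- the multiplication of `U` in characteristic 3 -/
theorem h8reeStd_mul (t6 t7 c8 c9 c10 c11 s6 s7 d8 d9 d10 d11 : K) :
    h8reeStd hB t6 t7 c8 c9 c10 c11 * h8reeStd hB s6 s7 d8 d9 d10 d11 =
      h8reeStd hB (t6 + s6) (t7 + s7) (c8 - t7 * s6 + d8)
        (c9 - t7 ^ 2 * s6 - s7 * (c8 - t7 * s6) + d9) (c10 + s6 * t7 ^ 3 + d10)
        (c11 + s6 ^ 2 * t7 ^ 3 - s6 * c10 + d11) := by
  unfold h8reeStd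
  calc h8xU chevG2 hB 6 t6 * h8xU chevG2 hB 7 t7 * h8reeQ4 hB c8 c9 c10 c11 *
        (h8xU chevG2 hB 6 s6 * h8xU chevG2 hB 7 s7 * h8reeQ4 hB d8 d9 d10 d11)
      = h8xU chevG2 hB 6 t6 * h8xU chevG2 hB 7 t7 *
          (h8reeQ4 hB c8 c9 c10 c11 * h8xU chevG2 hB 6 s6) *
          h8xU chevG2 hB 7 s7 * h8reeQ4 hB d8 d9 d10 d11 := by group
    _ = h8xU chevG2 hB 6 t6 * (h8xU chevG2 hB 7 t7 * h8xU chevG2 hB 6 s6) *
          h8reeQ4 hB c8 c9 c10 (c11 - s6 * c10) *
          h8xU chevG2 hB 7 s7 * h8reeQ4 hB d8 d9 d10 d11 := by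
        rw [h8reeQ4_x6 hC]
        group
    _ = h8xU chevG2 hB 6 t6 * h8xU chevG2 hB 6 s6 * h8xU chevG2 hB 7 t7 *
          ((h8reeQ4 hB (-(t7 * s6)) (-(t7 ^ 2 * s6)) (s6 * t7 ^ 3) (s6 ^ 2 * t7 ^ 3) *
            h8reeQ4 hB c8 c9 c10 (c11 - s6 * c10)) *
          h8xU chevG2 hB 7 s7) * h8reeQ4 hB d8 d9 d10 d11 := by
        rw [h8ree_swap hC]
        group
    _ = h8xU chevG2 hB 6 t6 * h8xU chevG2 hB 6 s6 * (h8xU chevG2 hB 7 t7 *
          h8xU chevG2 hB 7 s7) * (h8reeQ4 hB (-(t7 * s6) + c8)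
            (-(t7 ^ 2 * s6) + c9 - s7 * (-(t7 * s6) + c8)) (s6 * t7 ^ 3 + c10)
            (s6 ^ 2 * t7 ^ 3 + (c11 - s6 * c10)) * h8reeQ4 hB d8 d9 d10 d11) := by
        rw [h8reeQ4_mul hC, h8reeQ4_x7 hC]
        group
    _ = _ := by
        rw [h8reeQ4_mul hC, h8xU_add chevG2 hB 6 (by decide), h8xU_add chevG2 hB 7 (by decide)]
        congr 2 <;> ring

theorem h8reeStd_congr {t6 t7 c8 c9 c10 c11 s6 s7 d8 d9 d10 d11 : K} (h6 : t6 = s6) (h7 : t7 = s7)
    (h8 : c8 = d8) (h9 : c9 = d9) (h10 : c10 = d10) (h11 : c11 = d11) :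
    h8reeStd hB t6 t7 c8 c9 c10 c11 = h8reeStd hB s6 s7 d8 d9 d10 d11 := by
  rw [h6, h7, h8, h9, h10, h11]

include hC in
/-- the cube of an element of `U` in characteristic 3 -/
theorem h8reeStd_cube (a b c8 c9 c10 c11 : K) :
    h8reeStd hB a b c8 c9 c10 c11 ^ 3 =
      h8reeStd hB 0 0 0 (-(a * b ^ 2)) 0 (-(a ^ 2 * b ^ 3)) := by
  have h3 : (3 : K) = 0 := h8ree_three
  rw [pow_succ, pow_two, h8reeStd_mul hC, h8reeStd_mul hC]
  apply h8reeStd_congr
  · linear_combination a * h3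
  · linear_combination b * h3
  · linear_combination (c8 - a * b) * h3
  · linear_combination (c9 - b * c8) * h3
  · linear_combination (c10 + 3 * a * b ^ 3) * h3
  · linear_combination (c11 - a * c10 + 3 * a ^ 2 * b ^ 3) * h3

end

end Cfsg.Agent.Lib.helper8
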