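import Mathlib
import Cfsg.Prelude.Def_ChevStructure
import Cfsg.Prelude.Def_ChevG2
import Cfsg.Prelude.Def_LieTwisted
import Cfsg.Agent.Lib.helper8.ChevRee34

set_option autoImplicit false

namespace Cfsg.Agent.Lib.helper8

open Cfsg.Lie Cfsg.Lie.ChevalleyDatum

universe u

variable {K : Type u} [Field K] {hB : H8Base.{u} chevG2}

section
variable [CharP K 3] (R : H8Ree K hB) (hC : H8CommAll.{u} chevG2)

include hC in
/-- the cube of an element of `U ∩ ²G₂(q)` -/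
theorem h8reeWordU_cube (e : ℕ) (hfe : ∀ t : K, R.f t = t ^ e) (t u v : K) :
    h8wordU chevG2 hB (reeWordU e t u v) ^ 3 =
      h8reeStd hB 0 0 0 (-(t * R.f t ^ 2)) 0 (-(t ^ 2 * R.f t ^ 3)) := by
  rw [h8reeWordU_std R hC e hfe, h8reeStd_cube hC]

include hC in
theorem h8reeWordU_cube_iff (hO2 : H8Ord2 chevG2) (e : ℕ) (hfe : ∀ t : K, R.f t = t ^ e)
    (t u v : K) : h8wordU chevG2 hB (reeWordU e t u v) ^ 3 = 1 ↔ t = 0 := by
  rw [h8reeWordU_cube R hC e hfe]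
  constructor
  · intro h
    have h1 : (1 : GL chevG2.Idx K) = h8reeStd hB 0 0 0 0 0 0 := by
      rw [h8reeStd_zero, h8reeQ4_zero]
    rw [h1] at h
    obtain ⟨_, _, _, _, _, e11⟩ := h8reeStd_inj hO2 _ _ _ _ _ _ _ _ _ _ _ _ h
    by_contra ht
    have hft : R.f t ≠ 0 := (map_ne_zero R.f).2 ht
    have : t ^ 2 * R.f t ^ 3 ≠ 0 := mul_ne_zero (pow_ne_zero _ ht) (pow_ne_zero _ hft)
    exact this (neg_eq_zero.mp e11)
  · rintro rfl
    rw [h8reeStd_zero]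
    simp only [zero_mul, neg_zero, ne_eq, OfNat.ofNat_ne_zero, not_false_eq_true, zero_pow]
    exact h8reeQ4_zero

end

/-- `U ∩ ²G₂(q)` has exactly `q² - 1` elements of order 3 -/
theorem h8ree_U_order3 [Fintype K] {m : ℕ} (hK : Fintype.card K = 3 ^ (2 * m + 1)) :
    Nat.card {w : ↥(chevG2.posUnipotent K ⊓ twistedG2 K (3 ^ m)) // orderOf w = 3} =
      (3 ^ (2 * m + 1)) ^ 2 - 1 := by
  classical
  have hD : chevG2 ∈ [chevG2, chevB2, chevD4, chevF4, chevE6, chevE7, chevE8] := by simp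
  have hB := h8base_all.{u} chevG2 hD
  have hC := h8commAll.{u} chevG2 hD
  obtain ⟨hO, hO2⟩ := h8ord_all chevG2 hD
  haveI := h8ree_char3 hK
  obtain ⟨R, hfe⟩ := h8ree_setup hK hB
  haveI : Fact (Nat.Prime 3) := ⟨Nat.prime_three⟩
  have hord : ∀ w : ↥(chevG2.posUnipotent K ⊓ twistedG2 K (3 ^ m)),
      orderOf w = 3 ↔ (w : GL chevG2.Idx K) ^ 3 = 1 ∧ (w : GL chevG2.Idx K) ≠ 1 := by
    intro w
    rw [← Subgroup.orderOf_coe, orderOf_eq_prime_iff]
  have h10 : h8wordU chevG2 hB (reeWordU (3 ^ m) (0 : K) 0 0) = 1 := by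
    rw [h8reeWordU_zero R hC (3 ^ m) hfe, map_zero]
    exact h8reeQ4_zero
  have hbij : Function.Bijective (fun p : {p : K × K // p ≠ (0, 0)} =>
      (⟨⟨h8wordU chevG2 hB (reeWordU (3 ^ m) 0 p.1.1 p.1.2),
        (h8ree_U_iff hK hB _).mpr ⟨0, p.1.1, p.1.2, rfl⟩⟩, by
          rw [hord]
          refine ⟨(h8reeWordU_cube_iff R hC hO2 (3 ^ m) hfe 0 p.1.1 p.1.2).mpr rfl, ?_⟩
          intro h1
          apply p.2
          rw [← h10] at h1
          obtain ⟨_, h2, h3⟩ := h8reeWordU_inj R hC hO2 (3 ^ m) hfe _ _ _ _ _ _ h1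
          exact Prod.ext h2 h3⟩ :
        {w : ↥(chevG2.posUnipotent K ⊓ twistedG2 K (3 ^ m)) // orderOf w = 3})) := by
    constructor
    · rintro ⟨⟨u, v⟩, hp⟩ ⟨⟨u', v'⟩, hp'⟩ h
      have h' := congrArg (fun w => ((w : {w : ↥(chevG2.posUnipotent K ⊓ twistedG2 K (3 ^ m)) //
        orderOf w = 3}) : ↥(chevG2.posUnipotent K ⊓ twistedG2 K (3 ^ m))).val) h
      simp only at h'
      obtain ⟨_, h2, h3⟩ := h8reeWordU_inj R hC hO2 (3 ^ m) hfe _ _ _ _ _ _ h'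
      subst h2 h3
      rfl
    · rintro ⟨⟨g, hg⟩, hg3⟩
      obtain ⟨t, u, v, rfl⟩ := (h8ree_U_iff hK hB g).mp hg
      rw [hord] at hg3
      obtain ⟨hc, hne⟩ := hg3
      simp only at hc hne
      have ht := (h8reeWordU_cube_iff R hC hO2 (3 ^ m) hfe t u v).mp hc
      subst ht
      have hp : (u, v) ≠ ((0, 0) : K × K) := by
        intro h
        rw [Prod.mk.injEq] at h
        rw [h.1, h.2] at hne
        exact hne h10
      exact ⟨⟨(u, v), hp⟩, rfl⟩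
  rw [← Nat.card_congr (Equiv.ofBijective _ hbij), Nat.card_eq_fintype_card,
    Fintype.card_subtype_compl, Fintype.card_subtype_eq, Fintype.card_prod, hK]
  ring_nf

end Cfsg.Agent.Lib.helper8
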