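import Mathlib
import Cfsg.Prelude.Def_ChevStructure
import Cfsg.Prelude.Def_ChevG2
import Cfsg.Prelude.Def_LieTwisted
import Cfsg.Agent.Lib.helper8.ChevRee35

set_option autoImplicit false

namespace Cfsg.Agent.Lib.helper8

open Cfsg.Lie Cfsg.Lie.ChevalleyDatum

universe u

variable {K : Type u} [Field K] [Fintype K]

/-- the non-zero elements of the field with three elements have square one -/
theorem h8ree3_sq (hK : Fintype.card K = 3 ^ (2 * 0 + 1)) (x : K) (hx : x ≠ 0) : x ^ 2 = 1 := by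
  have h := FiniteField.pow_card_sub_one_eq_one x hx
  rw [hK] at h
  exact h

/-- the multiplication of `U ∩ ²G₂(3)`: the first two parameters -/
theorem h8ree3_mul (hK : Fintype.card K = 3 ^ (2 * 0 + 1)) (hB : H8Base.{u} chevG2)
    (t u v t' u' v' : K) :
    ∃ c : K, h8wordU chevG2 hB (reeWordU (3 ^ 0) t u v) *
      h8wordU chevG2 hB (reeWordU (3 ^ 0) t' u' v') =
      h8wordU chevG2 hB (reeWordU (3 ^ 0) (t + t') (u + u' - t * t') c) := by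
  have hD : chevG2 ∈ [chevG2, chevB2, chevD4, chevF4, chevE6, chevE7, chevE8] := by simp
  have hC := h8commAll.{u} chevG2 hD
  obtain ⟨hO, hO2⟩ := h8ord_all chevG2 hD
  haveI := h8ree_char3 hK
  obtain ⟨R, hfe⟩ := h8ree_setup hK hB
  have hid : ∀ x : K, R.f x = x := by
    intro x
    rw [hfe, pow_zero, pow_one]
  have hmem : h8wordU chevG2 hB (reeWordU (3 ^ 0) t u v) *
      h8wordU chevG2 hB (reeWordU (3 ^ 0) t' u' v') ∈
      chevG2.posUnipotent K ⊓ twistedG2 K (3 ^ 0) :=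
    Subgroup.mul_mem _ ((h8ree_U_iff hK hB _).mpr ⟨t, u, v, rfl⟩)
      ((h8ree_U_iff hK hB _).mpr ⟨t', u', v', rfl⟩)
  obtain ⟨a, b, c, e⟩ := (h8ree_U_iff hK hB _).mp hmem
  have e' := e
  rw [h8reeWordU_std R hC (3 ^ 0) hfe, h8reeWordU_std R hC (3 ^ 0) hfe,
    h8reeWordU_std R hC (3 ^ 0) hfe, h8reeStd_mul hC] at e'
  obtain ⟨e6, _, e8, _⟩ := h8reeStd_inj hO2 _ _ _ _ _ _ _ _ _ _ _ _ e'
  simp only [hid] at e8
  refine ⟨c, ?_⟩
  rw [e, ← e6, ← e8]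
  congr 3
  ring

/-- conjugation of `U ∩ ²G₂(3)` by `H ∩ ²G₂(3)`: the first two parameters -/
theorem h8ree3_conj (hK : Fintype.card K = 3 ^ (2 * 0 + 1)) (hB : H8Base.{u} chevG2)
    (k : GL chevG2.Idx K) (hk : k ∈ chevG2.diagonalSubgroup K ⊓ twistedG2 K (3 ^ 0))
    (t u v : K) :
    ∃ a c : K, a ^ 2 = t ^ 2 ∧ k * h8wordU chevG2 hB (reeWordU (3 ^ 0) t u v) * k⁻¹ =
      h8wordU chevG2 hB (reeWordU (3 ^ 0) a u c) := by
  have hD : chevG2 ∈ [chevG2, chevB2, chevD4, chevF4, chevE6, chevE7, chevE8] := by simp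
  have hA := h8reflAll chevG2 hD
  have hC := h8commAll.{u} chevG2 hD
  have hW := h8bn2_all chevG2 hD
  obtain ⟨hO, hO2⟩ := h8ord_all chevG2 hD
  haveI := h8ree_char3 hK
  obtain ⟨R, hfe⟩ := h8ree_setup hK hB
  have hid : ∀ x : K, R.f x = x := by
    intro x
    rw [hfe, pow_zero, pow_one]
  have hfix := (h8ree_G1_fix R hC (3 ^ 0) hfe k hk.2).2
  obtain ⟨m8, _, _, _⟩ := h8ree_chi_mult hB hC hO2 k hk.1
  have h76 : h8chi chevG2 hB k 7 = R.f (h8chi chevG2 hB k 6) := by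
    have := h8ree_chi_sig R hA hW k hk.1 hfix 6 (by decide)
    rw [h8reeE_long R 6 (by decide)] at this
    exact this
  rw [hid] at h76
  have h6ne : h8chi chevG2 hB k 6 ≠ 0 := (h8chi_spec chevG2 hB k hk.1 6 (by decide)).1
  have h6sq := h8ree3_sq hK _ h6ne
  have h8one : h8chi chevG2 hB k 8 = 1 := by
    rw [m8, h76, ← pow_two, h6sq]
  have hmem : k * h8wordU chevG2 hB (reeWordU (3 ^ 0) t u v) * k⁻¹ ∈
      chevG2.posUnipotent K ⊓ twistedG2 K (3 ^ 0) := by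
    have hw := (h8ree_U_iff hK hB _).mpr ⟨t, u, v, rfl⟩
    refine ⟨?_, Subgroup.mul_mem _ (Subgroup.mul_mem _ hk.2 hw.2) (Subgroup.inv_mem _ hk.2)⟩
    exact ((Subgroup.mem_normalizer_iff (H := chevG2.posUnipotent K)).mp
      (h8_H_le_normalizer_U chevG2 hB hk.1) _).mp hw.1
  obtain ⟨a, b, c, e⟩ := (h8ree_U_iff hK hB _).mp hmem
  have e' := e
  rw [h8reeWordU_std R hC (3 ^ 0) hfe, h8reeWordU_std R hC (3 ^ 0) hfe,
    h8reeStd_conj hB k hk.1] at e'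
  obtain ⟨e6, _, e8, _⟩ := h8reeStd_inj hO2 _ _ _ _ _ _ _ _ _ _ _ _ e'
  simp only [hid] at e8
  rw [h8one, one_mul] at e8
  refine ⟨a, c, ?_, ?_⟩
  · rw [← e6, mul_pow, h6sq, one_mul]
  · rw [e, ← e8]

/-- the decomposition of an element of `B ∩ ²G₂(3)` is unique -/
theorem h8ree3_unique (hK : Fintype.card K = 3 ^ (2 * 0 + 1)) (hB : H8Base.{u} chevG2)
    (t u v t' u' v' : K) (k k' : GL chevG2.Idx K) (hk : k ∈ chevG2.diagonalSubgroup K)
    (hk' : k' ∈ chevG2.diagonalSubgroup K)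
    (h : h8wordU chevG2 hB (reeWordU (3 ^ 0) t u v) * k =
      h8wordU chevG2 hB (reeWordU (3 ^ 0) t' u' v') * k') : t = t' ∧ u = u' ∧ v = v' ∧ k = k' := by
  have hD : chevG2 ∈ [chevG2, chevB2, chevD4, chevF4, chevE6, chevE7, chevE8] := by simp
  have hC := h8commAll.{u} chevG2 hD
  obtain ⟨hO, hO2⟩ := h8ord_all chevG2 hD
  haveI := h8ree_char3 hK
  obtain ⟨R, hfe⟩ := h8ree_setup hK hB
  have hw := ((h8ree_U_iff hK hB _).mpr ⟨t, u, v, rfl⟩).1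
  have hw' := ((h8ree_U_iff hK hB _).mpr ⟨t', u', v', rfl⟩).1
  have h1 : (h8wordU chevG2 hB (reeWordU (3 ^ 0) t' u' v'))⁻¹ *
      h8wordU chevG2 hB (reeWordU (3 ^ 0) t u v) ∈
      chevG2.posUnipotent K ⊓ chevG2.diagonalSubgroup K := by
    refine Subgroup.mem_inf.mpr ⟨Subgroup.mul_mem _ (Subgroup.inv_mem _ hw') hw, ?_⟩
    have e : (h8wordU chevG2 hB (reeWordU (3 ^ 0) t' u' v'))⁻¹ *
        h8wordU chevG2 hB (reeWordU (3 ^ 0) t u v) = k' * k⁻¹ := by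
      rw [inv_mul_eq_iff_eq_mul, ← mul_assoc, ← h, mul_inv_cancel_right]
    rw [e]
    exact Subgroup.mul_mem _ hk' (Subgroup.inv_mem _ hk)
  rw [h8_U_inf_H chevG2 hB, Subgroup.mem_bot, inv_mul_eq_one] at h1
  obtain ⟨e1, e2, e3⟩ := h8reeWordU_inj R hC hO2 (3 ^ 0) hfe _ _ _ _ _ _ h1
  refine ⟨e1.symm, e2.symm, e3.symm, ?_⟩
  rw [h1] at h
  exact mul_left_cancel h

end Cfsg.Agent.Lib.helper8
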