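import Mathlib
import Cfsg.Prelude.Def_ChevStructure
import Cfsg.Prelude.Def_ChevG2
import Cfsg.Prelude.Def_LieTwisted
import Cfsg.Agent.Lib.helper8.ChevRee39

set_option autoImplicit false

namespace Cfsg.Agent.Lib.helper8

open Cfsg.Lie Cfsg.Lie.ChevalleyDatum

universe u

variable {K : Type u} [Field K] [Fintype K]

open Classical in
/-- the invariant `u - t²` of an element `W(t, u, v) k` of `B ∩ ²G₂(3)` -/
noncomputable def h8ree3Psi (hB : H8Base.{u} chevG2) (b : GL chevG2.Idx K) : K :=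
  if h : ∃ t u v : K, ∃ k ∈ chevG2.diagonalSubgroup K,
      b = h8wordU chevG2 hB (reeWordU (3 ^ 0) t u v) * k then
    Classical.choose (Classical.choose_spec h) - Classical.choose h ^ 2
  else 0

theorem h8ree3Psi_eq (hK : Fintype.card K = 3 ^ (2 * 0 + 1)) (hB : H8Base.{u} chevG2)
    (t u v : K) (k : GL chevG2.Idx K) (hk : k ∈ chevG2.diagonalSubgroup K) :
    h8ree3Psi hB (h8wordU chevG2 hB (reeWordU (3 ^ 0) t u v) * k) = u - t ^ 2 := by
  have hex : ∃ t' u' v' : K, ∃ k' ∈ chevG2.diagonalSubgroup K,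
      h8wordU chevG2 hB (reeWordU (3 ^ 0) t u v) * k =
        h8wordU chevG2 hB (reeWordU (3 ^ 0) t' u' v') * k' := ⟨t, u, v, k, hk, rfl⟩
  unfold h8ree3Psi
  rw [dif_pos hex]
  have h1 := Classical.choose_spec hex
  have h2 := Classical.choose_spec h1
  obtain ⟨v₀, k₀, hk₀, e⟩ := h2
  obtain ⟨e1, e2, _⟩ := h8ree3_unique hK hB _ _ _ _ _ _ _ _ hk hk₀ e
  have e1' : Classical.choose hex = t := e1.symm
  have e2' : Classical.choose (Classical.choose_spec hex) = u := e2.symm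
  rw [e2', e1']

/-- the decomposition of the elements of `B ∩ ²G₂(3)` -/
theorem h8ree3_B_decomp (hK : Fintype.card K = 3 ^ (2 * 0 + 1)) (hB : H8Base.{u} chevG2)
    (b : GL chevG2.Idx K) (hb : b ∈ chevG2.borelSubgroup K ⊓ twistedG2 K (3 ^ 0)) :
    ∃ t u v : K, ∃ k ∈ chevG2.diagonalSubgroup K ⊓ twistedG2 K (3 ^ 0),
      b = h8wordU chevG2 hB (reeWordU (3 ^ 0) t u v) * k := by
  obtain ⟨w, hw, k, hk, e⟩ := h8ree_B1_decomp hK hB b hb.1 hb.2
  obtain ⟨t, u, v, rfl⟩ := (h8ree_U_iff hK hB w).mp hw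
  exact ⟨t, u, v, k, hk, e⟩

/-- the invariant is additive on `B ∩ ²G₂(3)` -/
theorem h8ree3Psi_mul (hK : Fintype.card K = 3 ^ (2 * 0 + 1)) (hB : H8Base.{u} chevG2)
    (b b' : GL chevG2.Idx K) (hb : b ∈ chevG2.borelSubgroup K ⊓ twistedG2 K (3 ^ 0))
    (hb' : b' ∈ chevG2.borelSubgroup K ⊓ twistedG2 K (3 ^ 0)) :
    h8ree3Psi hB (b * b') = h8ree3Psi hB b + h8ree3Psi hB b' := by
  haveI := h8ree_char3 hK
  have h3 : (3 : K) = 0 := h8ree_three
  obtain ⟨t, u, v, k, hk, rfl⟩ := h8ree3_B_decomp hK hB b hb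
  obtain ⟨t', u', v', k', hk', rfl⟩ := h8ree3_B_decomp hK hB b' hb'
  obtain ⟨a, c, ha, e1⟩ := h8ree3_conj hK hB k hk t' u' v'
  obtain ⟨c', e2⟩ := h8ree3_mul hK hB t u v a u' c
  have e : h8wordU chevG2 hB (reeWordU (3 ^ 0) t u v) * k *
      (h8wordU chevG2 hB (reeWordU (3 ^ 0) t' u' v') * k') =
      h8wordU chevG2 hB (reeWordU (3 ^ 0) (t + a) (u + u' - t * a) c') * (k * k') := by
    rw [← e2, ← e1]
    group
  rw [e, h8ree3Psi_eq hK hB _ _ _ _ (Subgroup.mul_mem _ hk.1 hk'.1),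
    h8ree3Psi_eq hK hB _ _ _ _ hk.1, h8ree3Psi_eq hK hB _ _ _ _ hk'.1, ← ha]
  linear_combination (-(t * a)) * h3

/-- the homomorphism from `B ∩ ²G₂(3)` onto the additive group of the field -/
noncomputable def h8ree3Chi (hK : Fintype.card K = 3 ^ (2 * 0 + 1)) (hB : H8Base.{u} chevG2) :
    ↥((chevG2.borelSubgroup K ⊓ twistedG2 K (3 ^ 0)).subgroupOf (twistedG2 K (3 ^ 0))) →*
      Multiplicative K where
  toFun b := Multiplicative.ofAdd (h8ree3Psi hB b.val.val)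
  map_one' := by
    have h := h8ree3Psi_mul hK hB 1 1 (Subgroup.one_mem _) (Subgroup.one_mem _)
    rw [mul_one] at h
    have h0 : h8ree3Psi hB (1 : GL chevG2.Idx K) = 0 := by
      have := congrArg (fun x => x - h8ree3Psi hB (1 : GL chevG2.Idx K)) h
      simp only [sub_self, add_sub_cancel_right] at this
      exact this.symm
    show Multiplicative.ofAdd (h8ree3Psi hB (1 : GL chevG2.Idx K)) = 1
    rw [h0]
    rfl
  map_mul' b b' := by
    show Multiplicative.ofAdd (h8ree3Psi hB (b.val.val * b'.val.val)) = _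
    rw [h8ree3Psi_mul hK hB _ _ (Subgroup.mem_subgroupOf.mp b.2) (Subgroup.mem_subgroupOf.mp b'.2)]
    rfl

theorem h8ree3Chi_apply (hK : Fintype.card K = 3 ^ (2 * 0 + 1)) (hB : H8Base.{u} chevG2)
    (b : ↥((chevG2.borelSubgroup K ⊓ twistedG2 K (3 ^ 0)).subgroupOf (twistedG2 K (3 ^ 0)))) :
    h8ree3Chi hK hB b = Multiplicative.ofAdd (h8ree3Psi hB b.val.val) := rfl

end Cfsg.Agent.Lib.helper8
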