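import Mathlib

set_option autoImplicit false

namespace Cfsg.Agent.Lib.helper8

open Function

/-- the transfer of an element of prime order all of whose conjugates in `H` are conjugate
under `H`: the coset `H` is its only fixed point -/
theorem h8_transfer_TI {G : Type*} [Group G] [Finite G] (H : Subgroup G) {A : Type*}
    [CommGroup A] (ϕ : ↥H →* A) (g : G) (hgH : g ∈ H) (p : ℕ) (hp : p.Prime) (hgp : g ^ p = 1)
    (hfix : ∀ k : G, k⁻¹ * g * k ∈ H → k ∈ H) :
    MonoidHom.transfer ϕ g = ϕ ⟨g, hgH⟩ := by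
  classical
  haveI : Fintype (Quotient (MulAction.orbitRel (Subgroup.zpowers g) (G ⧸ H))) :=
    Fintype.ofFinite _
  rw [MonoidHom.transfer_eq_prod_quotient_orbitRel_zpowers_quot]
  -- the fixed points of `g`
  have hfp : ∀ c : G ⧸ H, g • c = c ↔ c = QuotientGroup.mk 1 := by
    intro c
    obtain ⟨k, rfl⟩ := QuotientGroup.mk_surjective c
    constructor
    · intro h
      have h' : (QuotientGroup.mk (g * k) : G ⧸ H) = QuotientGroup.mk k := h
      rw [QuotientGroup.eq] at h'
      have h2 : k⁻¹ * g * k ∈ H := by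
        have e : k⁻¹ * g * k = ((g * k)⁻¹ * k)⁻¹ := by group
        rw [e]
        exact H.inv_mem h'
      have hk := hfix k h2
      rw [QuotientGroup.eq, mul_one]
      exact H.inv_mem hk
    · intro h
      rw [h]
      show (QuotientGroup.mk (g * 1) : G ⧸ H) = QuotientGroup.mk 1
      rw [QuotientGroup.eq, mul_one, mul_one]
      exact H.inv_mem hgH
  have hc1 : g • (QuotientGroup.mk 1 : G ⧸ H) = QuotientGroup.mk 1 := (hfp _).mpr rfl
  -- the two kinds of factors
  have helper1 : ∀ (n : ℕ) (k : G) (pf : k⁻¹ * g ^ n * k ∈ H), g ^ n = 1 →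
      ϕ ⟨k⁻¹ * g ^ n * k, pf⟩ = 1 := by
    intro n k pf hn
    have : (⟨k⁻¹ * g ^ n * k, pf⟩ : ↥H) = 1 := by
      apply Subtype.ext
      show k⁻¹ * g ^ n * k = 1
      rw [hn]
      group
    rw [this, map_one]
  have helper2 : ∀ (n : ℕ) (k : G) (pf : k⁻¹ * g ^ n * k ∈ H), n = 1 → k ∈ H →
      ϕ ⟨k⁻¹ * g ^ n * k, pf⟩ = ϕ ⟨g, hgH⟩ := by
    intro n k pf hn hk
    subst hn
    have : (⟨k⁻¹ * g ^ 1 * k, pf⟩ : ↥H) = (⟨k, hk⟩ : ↥H)⁻¹ * ⟨g, hgH⟩ * ⟨k, hk⟩ := by
      apply Subtype.ext
      show k⁻¹ * g ^ 1 * k = k⁻¹ * g * k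
      rw [pow_one]
    rw [this, map_mul, map_mul, map_inv, mul_comm, ← mul_assoc, mul_inv_cancel, one_mul]
  -- the orbit of the fixed point
  set q₀ : Quotient (MulAction.orbitRel (Subgroup.zpowers g) (G ⧸ H)) :=
    Quotient.mk _ (QuotientGroup.mk 1) with hq₀
  have hout : q₀.out = QuotientGroup.mk 1 := by
    have h1 : (MulAction.orbitRel (Subgroup.zpowers g) (G ⧸ H)).r q₀.out (QuotientGroup.mk 1) :=
      Quotient.mk_out (s := MulAction.orbitRel (Subgroup.zpowers g) (G ⧸ H))
        (QuotientGroup.mk 1 : G ⧸ H)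
    rw [MulAction.orbitRel_apply] at h1
    obtain ⟨z, hz⟩ := h1
    have hzs : z.val ∈ MulAction.stabilizer G (QuotientGroup.mk 1 : G ⧸ H) := by
      have hle : Subgroup.zpowers g ≤ MulAction.stabilizer G (QuotientGroup.mk 1 : G ⧸ H) := by
        rw [Subgroup.zpowers_le]
        exact hc1
      exact hle z.2
    rw [MulAction.mem_stabilizer_iff] at hzs
    rw [← hz]
    exact hzs
  rw [Finset.prod_eq_single q₀]
  · apply helper2
    · rw [hout, minimalPeriod_eq_one_iff_isFixedPt]
      exact hc1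
    · rw [hout]
      obtain ⟨h, hh⟩ := QuotientGroup.mk_out_eq_mul H (1 : G)
      rw [hh, one_mul]
      exact h.2
  · intro q _ hq
    apply helper1
    have hne : q.out ≠ QuotientGroup.mk 1 := by
      intro h
      apply hq
      rw [← Quotient.out_eq q, h]
    have hnf : ¬ g • q.out = q.out := fun h => hne ((hfp _).mp h)
    have hdvd : minimalPeriod (g • ·) q.out ∣ p := by
      rw [← MulAction.pow_smul_eq_iff_minimalPeriod_dvd, hgp, one_smul]
    rcases (Nat.dvd_prime hp).mp hdvd with h1 | h1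
    · exfalso
      apply hnf
      exact minimalPeriod_eq_one_iff_isFixedPt.mp h1
    · rw [h1]
      exact hgp
  · intro h
    exact absurd (Finset.mem_univ _) h

end Cfsg.Agent.Lib.helper8
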