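import Mathlib
import Cfsg.Prelude.Def_ChevStructure
import Cfsg.Prelude.Def_ChevG2
import Cfsg.Prelude.Def_LieTwisted
import Cfsg.Agent.Lib.helper8.ChevRee40
import Cfsg.Agent.Lib.helper8.TransferTI

set_option autoImplicit false

namespace Cfsg.Agent.Lib.helper8

open Cfsg.Lie Cfsg.Lie.ChevalleyDatum

universe u

variable {K : Type u} [Field K] [Fintype K] {m : ℕ}

/-- an element of the Ree group conjugating a non-trivial element of `U` into `B` lies in `B` -/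
theorem h8ree_TI_core' (hK : Fintype.card K = 3 ^ (2 * m + 1)) (hB : H8Base.{u} chevG2)
    (a y : GL chevG2.Idx K) (ha : a ∈ twistedG2 K (3 ^ m))
    (hy : y ∈ chevG2.posUnipotent K) (hy1 : y ≠ 1)
    (hc : a * y * a⁻¹ ∈ chevG2.borelSubgroup K) : a ∈ chevG2.borelSubgroup K := by
  have hD : chevG2 ∈ [chevG2, chevB2, chevD4, chevF4, chevE6, chevE7, chevE8] := by simp
  have hBN := h8bn_all chevG2 hD
  rcases h8ree_G1_normal hK hB a ha with ⟨u, hu, k, hk, rfl⟩ | ⟨u1, hu1, k, hk, u, hu, rfl⟩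
  · exact Subgroup.mul_mem _ (h8U_le_B chevG2 hu.1) (h8H_le_B chevG2 hk.1)
  · exfalso
    apply hy1
    have huy : u * y * u⁻¹ ∈ chevG2.posUnipotent K :=
      Subgroup.mul_mem _ (Subgroup.mul_mem _ hu.1 hy) (Subgroup.inv_mem _ hu.1)
    have hV1 := h8reeN0_conj_V hK hB _ huy
    have hV : k * (h8reeN0 hB (3 ^ m) * (u * y * u⁻¹) * (h8reeN0 hB (3 ^ m))⁻¹) * k⁻¹ ∈
        chevG2.negUnipotent K :=
      ((Subgroup.mem_normalizer_iff (H := chevG2.negUnipotent K)).mp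
        (h8_H_le_normalizer_V chevG2 hB hk.1) _).mp hV1
    have hU : k * (h8reeN0 hB (3 ^ m) * (u * y * u⁻¹) * (h8reeN0 hB (3 ^ m))⁻¹) * k⁻¹ ∈
        chevG2.borelSubgroup K := by
      have e : k * (h8reeN0 hB (3 ^ m) * (u * y * u⁻¹) * (h8reeN0 hB (3 ^ m))⁻¹) * k⁻¹ =
          u1⁻¹ * (u1 * (k * h8reeN0 hB (3 ^ m)) * u * y * (u1 * (k * h8reeN0 hB (3 ^ m)) * u)⁻¹) *
            u1 := by group
      rw [e]
      exact Subgroup.mul_mem _ (Subgroup.mul_mem _ (Subgroup.inv_mem _ (h8U_le_B chevG2 hu1.1)) hc)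
        (h8U_le_B chevG2 hu1.1)
    have hbot : k * (h8reeN0 hB (3 ^ m) * (u * y * u⁻¹) * (h8reeN0 hB (3 ^ m))⁻¹) * k⁻¹ ∈
        chevG2.borelSubgroup K ⊓ chevG2.negUnipotent K := ⟨hU, hV⟩
    rw [h8_B_inf_V chevG2 hB hBN.negOK, Subgroup.mem_bot] at hbot
    have e2 : y = u⁻¹ * ((h8reeN0 hB (3 ^ m))⁻¹ * (k⁻¹ *
        (k * (h8reeN0 hB (3 ^ m) * (u * y * u⁻¹) * (h8reeN0 hB (3 ^ m))⁻¹) * k⁻¹) * k) *
        h8reeN0 hB (3 ^ m)) * u := by group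
    rw [e2, hbot]
    group

/-- `²G₂(3)` is not perfect -/
theorem h8ree3_not_perfect (hK : Fintype.card K = 3 ^ (2 * 0 + 1)) :
    commutator ↥(twistedG2 K (3 ^ 0)) ≠ ⊤ := by
  classical
  have hD : chevG2 ∈ [chevG2, chevB2, chevD4, chevF4, chevE6, chevE7, chevE8] := by simp
  have hB := h8base_all.{u} chevG2 hD
  have hC := h8commAll.{u} chevG2 hD
  obtain ⟨hO, hO2⟩ := h8ord_all chevG2 hD
  haveI := h8ree_char3 hK
  obtain ⟨R, hfe⟩ := h8ree_setup hK hB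
  have hwU : h8wordU chevG2 hB (reeWordU (3 ^ 0) (0 : K) 1 0) ∈
      chevG2.posUnipotent K ⊓ twistedG2 K (3 ^ 0) := (h8ree_U_iff hK hB _).mpr ⟨0, 1, 0, rfl⟩
  have h10 : h8wordU chevG2 hB (reeWordU (3 ^ 0) (0 : K) 0 0) = 1 := by
    rw [h8reeWordU_zero R hC (3 ^ 0) hfe, map_zero]
    exact h8reeQ4_zero
  have hw1 : h8wordU chevG2 hB (reeWordU (3 ^ 0) (0 : K) 1 0) ≠ 1 := by
    intro h
    rw [← h10] at h
    obtain ⟨_, h2, _⟩ := h8reeWordU_inj R hC hO2 (3 ^ 0) hfe _ _ _ _ _ _ h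
    exact one_ne_zero h2
  have hcube : h8wordU chevG2 hB (reeWordU (3 ^ 0) (0 : K) 1 0) ^ 3 = 1 :=
    (h8reeWordU_cube_iff R hC hO2 (3 ^ 0) hfe 0 1 0).mpr rfl
  have hxB : (⟨h8wordU chevG2 hB (reeWordU (3 ^ 0) (0 : K) 1 0), hwU.2⟩ :
      ↥(twistedG2 K (3 ^ 0))) ∈
      (chevG2.borelSubgroup K ⊓ twistedG2 K (3 ^ 0)).subgroupOf (twistedG2 K (3 ^ 0)) :=
    Subgroup.mem_subgroupOf.mpr ⟨h8U_le_B chevG2 hwU.1, hwU.2⟩
  have htr := h8_transfer_TI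
    ((chevG2.borelSubgroup K ⊓ twistedG2 K (3 ^ 0)).subgroupOf (twistedG2 K (3 ^ 0)))
    (h8ree3Chi hK hB) ⟨h8wordU chevG2 hB (reeWordU (3 ^ 0) (0 : K) 1 0), hwU.2⟩ hxB 3
    Nat.prime_three (Subtype.ext (by rw [Subgroup.coe_pow]; exact hcube))
    (by
      intro k hk
      rw [Subgroup.mem_subgroupOf] at hk ⊢
      refine ⟨?_, k.2⟩
      have hk' : (k.val)⁻¹ * h8wordU chevG2 hB (reeWordU (3 ^ 0) (0 : K) 1 0) * (k.val)⁻¹⁻¹ ∈
          chevG2.borelSubgroup K := by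
        rw [inv_inv]
        exact hk.1
      have := h8ree_TI_core' hK hB (k.val)⁻¹ _ (Subgroup.inv_mem _ k.2) hwU.1 hw1 hk'
      have e : k.val = ((k.val)⁻¹)⁻¹ := (inv_inv _).symm
      rw [e]
      exact Subgroup.inv_mem _ this)
  intro htop
  have hker : (⟨h8wordU chevG2 hB (reeWordU (3 ^ 0) (0 : K) 1 0), hwU.2⟩ :
      ↥(twistedG2 K (3 ^ 0))) ∈ (MonoidHom.transfer (h8ree3Chi hK hB)).ker := by
    apply Abelianization.commutator_subset_ker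
    rw [htop]
    exact Subgroup.mem_top _
  rw [MonoidHom.mem_ker, htr, h8ree3Chi_apply] at hker
  have hpsi : h8ree3Psi hB (h8wordU chevG2 hB (reeWordU (3 ^ 0) (0 : K) 1 0)) = 1 - 0 ^ 2 := by
    have := h8ree3Psi_eq hK hB (0 : K) 1 0 1 (Subgroup.one_mem _)
    rw [mul_one] at this
    exact this
  have h2 : h8ree3Psi hB (h8wordU chevG2 hB (reeWordU (3 ^ 0) (0 : K) 1 0)) = 0 := by
    have := congrArg Multiplicative.toAdd hker
    exact this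
  rw [hpsi] at h2
  norm_num at h2

end Cfsg.Agent.Lib.helper8
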