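import Mathlib
import Cfsg.Prelude.Def_ChevStructure
import Cfsg.Prelude.Def_ChevG2
import Cfsg.Prelude.Def_LieTwisted
import Cfsg.Agent.Lib.helper8.ChevRee41
import Cfsg.Agent.Lib.helper8.ChevRee36
import Cfsg.Agent.Lib.helper8.ChevRee30

set_option autoImplicit false

namespace Cfsg.Agent.Lib.helper8

open Cfsg.Lie Cfsg.Lie.ChevalleyDatum

universe u

variable {K : Type u} [Field K]

/-- the action of the involution of `H ∩ ²G₂(q)` on `U ∩ ²G₂(q)` -/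
theorem h8ree_invol_act [Fintype K] {m : ℕ} (hK : Fintype.card K = 3 ^ (2 * m + 1))
    (hB : H8Base.{u} chevG2) :
    ∃ h₀ ∈ chevG2.diagonalSubgroup K ⊓ twistedG2 K (3 ^ m), h₀ ≠ 1 ∧ h₀ * h₀ = 1 ∧
      ∀ t u v : K, h₀ * h8wordU chevG2 hB (reeWordU (3 ^ m) t u v) * h₀⁻¹ =
        h8wordU chevG2 hB (reeWordU (3 ^ m) (-t) u (-v)) := by
  have hD : chevG2 ∈ [chevG2, chevB2, chevD4, chevF4, chevE6, chevE7, chevE8] := by simp
  have hA := h8reflAll chevG2 hD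
  have hC := h8commAll.{u} chevG2 hD
  have hBN := h8bn_all chevG2 hD
  have hW := h8bn2_all chevG2 hD
  obtain ⟨hO, hO2⟩ := h8ord_all chevG2 hD
  haveI := h8ree_char3 hK
  obtain ⟨R, hfe⟩ := h8ree_setup hK hB
  haveI : Fact (Nat.Prime 2) := ⟨Nat.prime_two⟩
  have hcard := h8ree_H1_card hK
  have h4 := h8ree_card_mod4 m
  have h2 : 2 ∣ Nat.card ↥(chevG2.diagonalSubgroup K ⊓ twistedG2 K (3 ^ m)) := by
    rw [hcard]
    omega
  obtain ⟨⟨h₀, hh⟩, hord⟩ := exists_prime_orderOf_dvd_card' 2 h2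
  rw [orderOf_eq_prime_iff] at hord
  obtain ⟨hsq, hne⟩ := hord
  have hne' : h₀ ≠ 1 := fun h => hne (Subtype.ext h)
  have hsq' : h₀ * h₀ = 1 := by
    have := congrArg Subtype.val hsq
    rw [Subgroup.coe_pow, pow_two] at this
    exact this
  refine ⟨h₀, hh, hne', hsq', ?_⟩
  have hfix := (h8ree_G1_fix R hC (3 ^ m) hfe h₀ hh.2).2
  obtain ⟨m8, m9, m10, m11⟩ := h8ree_chi_mult hB hC hO2 h₀ hh.1
  have h76 : h8chi chevG2 hB h₀ 7 = R.f (h8chi chevG2 hB h₀ 6) := by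
    have := h8ree_chi_sig R hA hW h₀ hh.1 hfix 6 (by decide)
    rw [h8reeE_long R 6 (by decide)] at this
    exact this
  have hμsq : h8chi chevG2 hB h₀ 7 * h8chi chevG2 hB h₀ 7 = 1 := by
    have h1 : (h8reeChiHom (K := K) hB hA hW (3 ^ m) ⟨h₀, hh⟩) ^ 2 = 1 := by
      rw [← map_pow, hsq, map_one]
    have := congrArg Units.val h1
    rw [Units.val_pow_eq_pow_val, pow_two] at this
    exact this
  have hμ : h8chi chevG2 hB h₀ 7 = -1 := by
    rcases mul_self_eq_one_iff.mp hμsq with h1 | h1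
    · exfalso
      apply hne
      apply h8reeChiHom_injective hK hB hA hW
      rw [map_one]
      apply Units.ext
      exact h1
    · exact h1
  have hν : h8chi chevG2 hB h₀ 6 = -1 := by
    apply R.f.injective
    rw [← h76, hμ, map_neg, map_one]
  have h8 : h8chi chevG2 hB h₀ 8 = 1 := by
    rw [m8, hμ, hν]
    ring
  have h9 : h8chi chevG2 hB h₀ 9 = -1 := by
    rw [m9, hμ, hν]
    ring
  have h10 : h8chi chevG2 hB h₀ 10 = 1 := by
    rw [m10, hμ, hν]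
    ring
  have h11 : h8chi chevG2 hB h₀ 11 = -1 := by
    rw [m11, hμ, hν]
    ring
  intro t u v
  rw [h8reeWordU_std R hC (3 ^ m) hfe, h8reeWordU_std R hC (3 ^ m) hfe,
    h8reeStd_conj hB h₀ hh.1, hν, hμ, h8, h9, h10, h11]
  apply h8reeStd_congr
  · ring
  · rw [map_neg]
    ring
  · ring
  · rw [map_neg]
    ring
  · rw [map_neg]
    ring
  · rw [map_neg]
    ring

/-- a normal subgroup of the Ree group containing `U ∩ ²G₂(q)` is the whole group -/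
theorem h8ree_gen_normal [Fintype K] {m : ℕ} (hK : Fintype.card K = 3 ^ (2 * m + 1))
    (T : Subgroup ↥(twistedG2 K (3 ^ m))) [hT : T.Normal]
    (hU : (chevG2.posUnipotent K ⊓ twistedG2 K (3 ^ m)).subgroupOf (twistedG2 K (3 ^ m)) ≤ T) :
    T = ⊤ := by
  have hD : chevG2 ∈ [chevG2, chevB2, chevD4, chevF4, chevE6, chevE7, chevE8] := by simp
  have hB := h8base_all.{u} chevG2 hD
  have hA := h8reflAll chevG2 hD
  have hC := h8commAll.{u} chevG2 hD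
  have hBN := h8bn_all chevG2 hD
  have hW := h8bn2_all chevG2 hD
  obtain ⟨hO, hO2⟩ := h8ord_all chevG2 hD
  haveI := h8ree_char3 hK
  have he : (3 ^ m : ℕ) ≠ 0 := pow_ne_zero _ (by norm_num)
  have hn0N := h8reeN0_mem_N (K := K) (hB := hB) hC (3 ^ m) he
  have hn0G : h8reeN0 (K := K) hB (3 ^ m) ∈ twistedG2 K (3 ^ m) := h8reeN0_mem _
  have hπ := h8ree_Pi_N0 hK hB hA hBN hW hO2 hn0N
  -- the words of the first kind
  have hWw : ∀ t u v : K, h8wordU chevG2 hB (reeWordU (3 ^ m) t u v) ∈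
      T.map (twistedG2 K (3 ^ m)).subtype := by
    intro t u v
    have hw := (h8ree_U_iff hK hB _).mpr ⟨t, u, v, rfl⟩
    exact ⟨⟨_, hw.2⟩, hU (Subgroup.mem_subgroupOf.mpr hw), rfl⟩
  have hconj : ∀ a x : GL chevG2.Idx K, a ∈ twistedG2 K (3 ^ m) →
      x ∈ T.map (twistedG2 K (3 ^ m)).subtype →
      a * x * a⁻¹ ∈ T.map (twistedG2 K (3 ^ m)).subtype := by
    rintro a x ha ⟨y, hy, rfl⟩
    exact ⟨⟨a, ha⟩ * y * ⟨a, ha⟩⁻¹, hT.conj_mem y hy ⟨a, ha⟩, rfl⟩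
  have hle : twistedG2 K (3 ^ m) ≤ T.map (twistedG2 K (3 ^ m)).subtype := by
    conv_lhs => unfold twistedG2 ChevalleyDatum.genSubgroup
    rw [Subgroup.closure_le]
    rintro g ⟨w, ⟨t, u, v, hw⟩, hg⟩
    have hgw : g = h8wordU chevG2 hB w := Units.ext (by rw [hg, h8wordU_val])
    rw [hgw]
    rcases hw with rfl | rfl
    · exact hWw t u v
    · have hvV := h8reeWordV_mem_V (hB := hB) (3 ^ m) t u v
      have hvG : h8wordU chevG2 hB (reeWordV (3 ^ m) t u v) ∈ twistedG2 K (3 ^ m) :=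
        h8reeWordV_mem hB _ t u v
      have hninvN : (h8reeN0 hB (3 ^ m))⁻¹ ∈ chevG2.monomialSubgroup K :=
        Subgroup.inv_mem _ hn0N
      have hπ' : h8Pi chevG2 hB hA hBN hW hO2 ⟨(h8reeN0 hB (3 ^ m))⁻¹, hninvN⟩ = h8reeW0 hA := by
        have e : (⟨(h8reeN0 hB (3 ^ m))⁻¹, hninvN⟩ : ↥(chevG2.monomialSubgroup K)) =
            (⟨h8reeN0 hB (3 ^ m), hn0N⟩)⁻¹ := rfl
        rw [e, map_inv, hπ]
        exact inv_eq_of_mul_eq_one_right (h8reeW0_sq hA)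
      have hU' := h8ree_w0_conj_V hB hA hBN hW hO2 ⟨_, hninvN⟩ hπ' _ hvV
      have hUG : (h8reeN0 hB (3 ^ m))⁻¹ * h8wordU chevG2 hB (reeWordV (3 ^ m) t u v) *
          (h8reeN0 hB (3 ^ m))⁻¹⁻¹ ∈ twistedG2 K (3 ^ m) :=
        Subgroup.mul_mem _ (Subgroup.mul_mem _ (Subgroup.inv_mem _ hn0G) hvG)
          (Subgroup.inv_mem _ (Subgroup.inv_mem _ hn0G))
      obtain ⟨a, b, c, e⟩ := (h8ree_U_iff hK hB _).mp ⟨hU', hUG⟩
      have e2 : h8wordU chevG2 hB (reeWordV (3 ^ m) t u v) =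
          h8reeN0 hB (3 ^ m) * ((h8reeN0 hB (3 ^ m))⁻¹ *
            h8wordU chevG2 hB (reeWordV (3 ^ m) t u v) * (h8reeN0 hB (3 ^ m))⁻¹⁻¹) *
            (h8reeN0 hB (3 ^ m))⁻¹ := by group
      rw [e2]
      apply hconj _ _ hn0G
      have e3 : ((⟨(h8reeN0 hB (3 ^ m))⁻¹, hninvN⟩ : ↥(chevG2.monomialSubgroup K)).val) =
          (h8reeN0 hB (3 ^ m))⁻¹ := rfl
      rw [e3] at e
      rw [e]
      exact hWw a b c
  rw [eq_top_iff]
  intro x _
  obtain ⟨y, hy, hyx⟩ := hle x.2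
  have : y = x := Subtype.ext hyx
  rw [← this]
  exact hy

end Cfsg.Agent.Lib.helper8
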