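import Mathlib

set_option autoImplicit false

namespace Cfsg.Agent.Lib.helper8

/-- an additive subgroup of a finite field of characteristic three, stable under multiplication
by an element of large multiplicative order and not reduced to zero, is the whole field -/
theorem h8_stable_top {K : Type*} [Field K] [Fintype K] {d : ℕ} (hK : Fintype.card K = 3 ^ d)
    (μ : K) (hμ : μ ≠ 0) (hN : Fintype.card K < 3 * (orderOf μ + 1)) (A : AddSubgroup K)
    (hA : ∀ a ∈ A, μ * a ∈ A) (a₀ : K) (ha₀ : a₀ ∈ A) (hne : a₀ ≠ 0) : A = ⊤ := by
  classical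
  set S : AddSubgroup K := AddSubgroup.closure (Set.range fun j : ℕ => μ ^ j) with hS
  -- the size of `S`
  have hdvd : Nat.card S ∣ 3 ^ d := by
    have := AddSubgroup.card_addSubgroup_dvd_card S
    rwa [Nat.card_eq_fintype_card (α := K), hK] at this
  obtain ⟨j, hj, hcard⟩ := (Nat.dvd_prime_pow Nat.prime_three).mp hdvd
  have hge : orderOf μ + 1 ≤ Nat.card S := by
    set T : Finset K := insert 0 ((Finset.range (orderOf μ)).image fun j => μ ^ j) with hT
    have hTc : T.card = orderOf μ + 1 := by
      rw [hT, Finset.card_insert_of_notMem, Finset.card_image_of_injOn, Finset.card_range]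
      · intro a ha b hb hab
        exact pow_injOn_Iio_orderOf (by simpa using ha) (by simpa using hb) hab
      · intro h0
        obtain ⟨i, _, hi⟩ := Finset.mem_image.mp h0
        exact pow_ne_zero i hμ hi
    have hsub : (T : Set K) ⊆ (S : Set K) := by
      intro x hx
      rw [hT, Finset.coe_insert, Finset.coe_image] at hx
      rcases hx with rfl | ⟨i, _, rfl⟩
      · exact S.zero_mem
      · exact AddSubgroup.subset_closure ⟨i, rfl⟩
    have h1 := Set.ncard_le_ncard hsub (Set.toFinite _)
    rw [Set.ncard_coe_finset, hTc] at h1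
    exact h1
  have hjd : j = d := by
    by_contra hne'
    have hlt : j < d := lt_of_le_of_ne hj hne'
    have h1 : 3 ^ (j + 1) ≤ 3 ^ d := Nat.pow_le_pow_right (by norm_num) hlt
    rw [pow_succ] at h1
    rw [hK] at hN
    rw [hcard] at hge
    omega
  have hStop : S = ⊤ := by
    apply AddSubgroup.eq_top_of_card_eq
    rw [hcard, hjd, Nat.card_eq_fintype_card, hK]
  -- `A` is stable under multiplication by `S`
  have hmul : ∀ x ∈ S, x * a₀ ∈ A := by
    intro x hx
    induction hx using AddSubgroup.closure_induction with
    | mem x hx =>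
      obtain ⟨i, rfl⟩ := hx
      show μ ^ i * a₀ ∈ A
      induction i with
      | zero => simpa using ha₀
      | succ i ih =>
        rw [pow_succ', mul_assoc]
        exact hA _ ih
    | zero => rw [zero_mul]; exact A.zero_mem
    | add x y _ _ hx hy => rw [add_mul]; exact A.add_mem hx hy
    | neg x _ hx => rw [neg_mul]; exact A.neg_mem hx
  rw [eq_top_iff]
  intro y _
  have : y / a₀ ∈ S := by rw [hStop]; trivial
  have h2 := hmul _ this
  rwa [div_mul_cancel₀ y hne] at h2

end Cfsg.Agent.Lib.helper8
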