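import Mathlib
import Cfsg.Prelude.Def_ChevStructure
import Cfsg.Prelude.Def_ChevG2
import Cfsg.Prelude.Def_LieTwisted
import Cfsg.Agent.Lib.helper8.ChevRee39

set_option autoImplicit false

namespace Cfsg.Agent.Lib.helper8

open Cfsg.Lie Cfsg.Lie.ChevalleyDatum

universe u

variable {K : Type u} [Field K] [Fintype K] {m : ℕ}

/-- the multiplication of `U ∩ ²G₂(q)` in the parameters `(t, u, v)` -/
theorem h8reeW_mul (hK : Fintype.card K = 3 ^ (2 * m + 1)) (hB : H8Base.{u} chevG2)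
    (t u v t' u' v' : K) :
    h8wordU chevG2 hB (reeWordU (3 ^ m) t u v) * h8wordU chevG2 hB (reeWordU (3 ^ m) t' u' v') =
      h8wordU chevG2 hB (reeWordU (3 ^ m) (t + t') (u + u' - t * (t' ^ 3 ^ m) ^ 3)
        (v + v' - t' * u - t ^ 2 * (t' ^ 3 ^ m) ^ 3 + t * t' * (t' ^ 3 ^ m) ^ 3)) := by
  have hD : chevG2 ∈ [chevG2, chevB2, chevD4, chevF4, chevE6, chevE7, chevE8] := by simp
  have hC := h8commAll.{u} chevG2 hD
  obtain ⟨hO, hO2⟩ := h8ord_all chevG2 hD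
  haveI := h8ree_char3 hK
  haveI : Fact (Nat.Prime 3) := ⟨Nat.prime_three⟩
  have h3 : (3 : K) = 0 := h8ree_three
  obtain ⟨R, hfe⟩ := h8ree_setup hK hB
  have hmem : h8wordU chevG2 hB (reeWordU (3 ^ m) t u v) *
      h8wordU chevG2 hB (reeWordU (3 ^ m) t' u' v') ∈
      chevG2.posUnipotent K ⊓ twistedG2 K (3 ^ m) :=
    Subgroup.mul_mem _ ((h8ree_U_iff hK hB _).mpr ⟨t, u, v, rfl⟩)
      ((h8ree_U_iff hK hB _).mpr ⟨t', u', v', rfl⟩)
  obtain ⟨a, b, c, e⟩ := (h8ree_U_iff hK hB _).mp hmem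
  have e' := e
  rw [h8reeWordU_std R hC (3 ^ m) hfe, h8reeWordU_std R hC (3 ^ m) hfe,
    h8reeWordU_std R hC (3 ^ m) hfe, h8reeStd_mul hC] at e'
  obtain ⟨e6, _, _, _, e10, e11⟩ := h8reeStd_inj hO2 _ _ _ _ _ _ _ _ _ _ _ _ e'
  have hfa : R.f a = R.f t + R.f t' := by rw [← e6, map_add]
  have hcube : (R.f t + R.f t') ^ 3 = R.f t ^ 3 + R.f t' ^ 3 := add_pow_char (R.f t) (R.f t') 3
  rw [hfa, hcube, ← e6] at e10 e11
  have hb : b = u + u' - t * (R.f t') ^ 3 := by linear_combination (-1 : K) * e10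
  have hc : c = v + v' - t' * u - t ^ 2 * (R.f t') ^ 3 + t * t' * (R.f t') ^ 3 := by
    linear_combination (-1 : K) * e11 - (t * t' * (R.f t) ^ 3 + t * t' * (R.f t') ^ 3) * h3
  rw [e, ← e6, hb, hc, hfe]

/-- conjugation of `U ∩ ²G₂(q)` by `H ∩ ²G₂(q)` in the parameters `(t, u, v)` -/
theorem h8reeW_conj (hK : Fintype.card K = 3 ^ (2 * m + 1)) (hB : H8Base.{u} chevG2)
    (k : GL chevG2.Idx K) (hk : k ∈ chevG2.diagonalSubgroup K ⊓ twistedG2 K (3 ^ m))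
    (t u v : K) :
    k * h8wordU chevG2 hB (reeWordU (3 ^ m) t u v) * k⁻¹ =
      h8wordU chevG2 hB (reeWordU (3 ^ m) (h8chi chevG2 hB k 6 * t) (h8chi chevG2 hB k 10 * u)
        (h8chi chevG2 hB k 11 * v)) := by
  have hD : chevG2 ∈ [chevG2, chevB2, chevD4, chevF4, chevE6, chevE7, chevE8] := by simp
  have hA := h8reflAll chevG2 hD
  have hC := h8commAll.{u} chevG2 hD
  have hW := h8bn2_all chevG2 hD
  obtain ⟨hO, hO2⟩ := h8ord_all chevG2 hD
  haveI := h8ree_char3 hK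
  obtain ⟨R, hfe⟩ := h8ree_setup hK hB
  have hfix := (h8ree_G1_fix R hC (3 ^ m) hfe k hk.2).2
  obtain ⟨_, _, m10, m11⟩ := h8ree_chi_mult hB hC hO2 k hk.1
  have h76 : h8chi chevG2 hB k 7 = R.f (h8chi chevG2 hB k 6) := by
    have := h8ree_chi_sig R hA hW k hk.1 hfix 6 (by decide)
    rw [h8reeE_long R 6 (by decide)] at this
    exact this
  have hmem : k * h8wordU chevG2 hB (reeWordU (3 ^ m) t u v) * k⁻¹ ∈
      chevG2.posUnipotent K ⊓ twistedG2 K (3 ^ m) := by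
    have hw := (h8ree_U_iff hK hB _).mpr ⟨t, u, v, rfl⟩
    refine ⟨?_, Subgroup.mul_mem _ (Subgroup.mul_mem _ hk.2 hw.2) (Subgroup.inv_mem _ hk.2)⟩
    exact ((Subgroup.mem_normalizer_iff (H := chevG2.posUnipotent K)).mp
      (h8_H_le_normalizer_U chevG2 hB hk.1) _).mp hw.1
  obtain ⟨a, b, c, e⟩ := (h8ree_U_iff hK hB _).mp hmem
  have e' := e
  rw [h8reeWordU_std R hC (3 ^ m) hfe, h8reeWordU_std R hC (3 ^ m) hfe,
    h8reeStd_conj hB k hk.1] at e'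
  obtain ⟨e6, _, _, _, e10, e11⟩ := h8reeStd_inj hO2 _ _ _ _ _ _ _ _ _ _ _ _ e'
  have hfa : R.f a = h8chi chevG2 hB k 7 * R.f t := by rw [← e6, map_mul, h76]
  rw [hfa, ← e6, m10] at e10
  rw [hfa, ← e6, m11] at e11
  have hb : b = h8chi chevG2 hB k 10 * u := by
    rw [m10]
    linear_combination (-1 : K) * e10
  have hc : c = h8chi chevG2 hB k 11 * v := by
    rw [m11]
    linear_combination (-1 : K) * e11
  rw [e, ← e6, hb, hc]

end Cfsg.Agent.Lib.helper8
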