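import Mathlib
import Cfsg.Prelude.Def_ChevStructure
import Cfsg.Prelude.Def_ChevG2
import Cfsg.Prelude.Def_LieTwisted
import Cfsg.Agent.Lib.helper8.ChevRee46
import Cfsg.Agent.Lib.helper8.ChevRee45

set_option autoImplicit false

namespace Cfsg.Agent.Lib.helper8

open Cfsg.Lie Cfsg.Lie.ChevalleyDatum

universe u

variable {K : Type u} [Field K] [Fintype K] {m : ℕ}

/-- the element of `U ∩ ²G₂(q)` with parameters `(t, u, v)` -/
noncomputable def h8reeW (hB : H8Base.{u} chevG2) (m : ℕ) (t u v : K) : GL chevG2.Idx K :=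
  h8wordU chevG2 hB (reeWordU (3 ^ m) t u v)

theorem h8reeW_mem_iff (hK : Fintype.card K = 3 ^ (2 * m + 1)) (hB : H8Base.{u} chevG2)
    (g : GL chevG2.Idx K) :
    g ∈ chevG2.posUnipotent K ⊓ twistedG2 K (3 ^ m) ↔ ∃ t u v : K, g = h8reeW hB m t u v :=
  h8ree_U_iff hK hB g

theorem h8reeW_mul' (hK : Fintype.card K = 3 ^ (2 * m + 1)) (hB : H8Base.{u} chevG2)
    (t u v t' u' v' : K) :
    h8reeW hB m t u v * h8reeW hB m t' u' v' =
      h8reeW hB m (t + t') (u + u' - t * (t' ^ 3 ^ m) ^ 3)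
        (v + v' - t' * u - t ^ 2 * (t' ^ 3 ^ m) ^ 3 + t * t' * (t' ^ 3 ^ m) ^ 3) :=
  h8reeW_mul hK hB t u v t' u' v'

theorem h8reeW_conj' (hK : Fintype.card K = 3 ^ (2 * m + 1)) (hB : H8Base.{u} chevG2)
    (k : GL chevG2.Idx K) (hk : k ∈ chevG2.diagonalSubgroup K ⊓ twistedG2 K (3 ^ m))
    (t u v : K) :
    k * h8reeW hB m t u v * k⁻¹ =
      h8reeW hB m (h8chi chevG2 hB k 6 * t) (h8chi chevG2 hB k 10 * u)
        (h8chi chevG2 hB k 11 * v) :=
  h8reeW_conj hK hB k hk t u v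

theorem h8reeW_inj (hK : Fintype.card K = 3 ^ (2 * m + 1)) (hB : H8Base.{u} chevG2)
    (t u v t' u' v' : K) (h : h8reeW hB m t u v = h8reeW hB m t' u' v') :
    t = t' ∧ u = u' ∧ v = v' := by
  have hD : chevG2 ∈ [chevG2, chevB2, chevD4, chevF4, chevE6, chevE7, chevE8] := by simp
  have hC := h8commAll.{u} chevG2 hD
  obtain ⟨hO, hO2⟩ := h8ord_all chevG2 hD
  haveI := h8ree_char3 hK
  obtain ⟨R, hfe⟩ := h8ree_setup hK hB
  exact h8reeWordU_inj R hC hO2 (3 ^ m) hfe _ _ _ _ _ _ h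

/-- multiplication by an element with vanishing first parameter -/
theorem h8reeW_mul0 (hK : Fintype.card K = 3 ^ (2 * m + 1)) (hB : H8Base.{u} chevG2)
    (t a b u v : K) :
    h8reeW hB m t a b * h8reeW hB m 0 u v = h8reeW hB m t (a + u) (b + v) := by
  have hD : chevG2 ∈ [chevG2, chevB2, chevD4, chevF4, chevE6, chevE7, chevE8] := by simp
  have hC := h8commAll.{u} chevG2 hD
  haveI := h8ree_char3 hK
  obtain ⟨R, hfe⟩ := h8ree_setup hK hB
  exact h8reeWordU_mul0 R hC (3 ^ m) hfe t a b u v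

theorem h8reeW_zero (hK : Fintype.card K = 3 ^ (2 * m + 1)) (hB : H8Base.{u} chevG2) :
    h8reeW hB m (0 : K) 0 0 = 1 := by
  have h := h8reeW_mul0 hK hB (0 : K) 0 0 0 0
  rw [add_zero] at h
  exact mul_eq_left.mp h

/-- two elements with the same first parameter differ by an element with vanishing first
parameter -/
theorem h8reeW_inv_mul (hK : Fintype.card K = 3 ^ (2 * m + 1)) (hB : H8Base.{u} chevG2)
    (s p r p' r' : K) :
    (h8reeW hB m s p r)⁻¹ * h8reeW hB m s p' r' = h8reeW hB m 0 (p' - p) (r' - r) := by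
  rw [inv_mul_eq_iff_eq_mul, h8reeW_mul0 hK hB]
  congr 1 <;> ring

/-- the inverse of an element: its first parameter -/
theorem h8reeW_inv (hK : Fintype.card K = 3 ^ (2 * m + 1)) (hB : H8Base.{u} chevG2)
    (t u v : K) : ∃ u' v' : K, (h8reeW hB m t u v)⁻¹ = h8reeW hB m (-t) u' v' := by
  have hmem : (h8reeW hB m t u v)⁻¹ ∈ chevG2.posUnipotent K ⊓ twistedG2 K (3 ^ m) :=
    Subgroup.inv_mem _ ((h8reeW_mem_iff hK hB _).mpr ⟨t, u, v, rfl⟩)
  obtain ⟨a, b, c, e⟩ := (h8reeW_mem_iff hK hB _).mp hmem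
  have h1 : h8reeW hB m t u v * h8reeW hB m a b c = h8reeW hB m 0 0 0 := by
    rw [← e, mul_inv_cancel, h8reeW_zero hK hB]
  rw [h8reeW_mul' hK hB] at h1
  obtain ⟨e1, _, _⟩ := h8reeW_inj hK hB _ _ _ _ _ _ h1
  have ha : a = -t := by linear_combination e1
  exact ⟨b, c, by rw [e, ha]⟩

/-- a subgroup stable under a suitable element of `H ∩ ²G₂(q)` and containing an element of
`U ∩ ²G₂(q)` with non-zero first parameter contains `U ∩ ²G₂(q)` -/
theorem h8ree_claim (hK : Fintype.card K = 3 ^ (2 * m + 1)) (hB : H8Base.{u} chevG2)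
    (T : Subgroup (GL chevG2.Idx K)) (k : GL chevG2.Idx K)
    (hk : k ∈ chevG2.diagonalSubgroup K ⊓ twistedG2 K (3 ^ m))
    (hkT : ∀ g ∈ T, k * g * k⁻¹ ∈ T)
    (h6 : Fintype.card K < 3 * (orderOf (h8chi chevG2 hB k 6) + 1))
    (h10 : Fintype.card K < 3 * (orderOf (h8chi chevG2 hB k 10) + 1))
    (t₀ u₀ v₀ : K) (ht₀ : t₀ ≠ 0) (hz : h8reeW hB m t₀ u₀ v₀ ∈ T)
    (s : K) (hs : s - (s ^ 3 ^ m) ^ 3 ≠ 0) (t u v : K) : h8reeW hB m t u v ∈ T := by
  have hχ6 : h8chi chevG2 hB k 6 ≠ 0 := (h8chi_spec chevG2 hB k hk.1 6 (by decide)).1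
  have hχ10 : h8chi chevG2 hB k 10 ≠ 0 := (h8chi_spec chevG2 hB k hk.1 10 (by decide)).1
  -- the first parameters
  let A₁ : AddSubgroup K :=
    { carrier := {t | ∃ u v, h8reeW hB m t u v ∈ T}
      zero_mem' := ⟨0, 0, by rw [h8reeW_zero hK hB]; exact T.one_mem⟩
      add_mem' := by
        rintro a b ⟨u, v, h⟩ ⟨u', v', h'⟩
        exact ⟨_, _, by rw [← h8reeW_mul' hK hB]; exact T.mul_mem h h'⟩
      neg_mem' := by
        rintro a ⟨u, v, h⟩
        obtain ⟨u', v', e⟩ := h8reeW_inv hK hB a u v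
        exact ⟨u', v', by rw [← e]; exact T.inv_mem h⟩ }
  have hA₁ : A₁ = ⊤ := by
    apply h8_stable_top hK _ hχ6 h6 A₁ _ t₀ ⟨u₀, v₀, hz⟩ ht₀
    rintro a ⟨u, v, h⟩
    exact ⟨_, _, by rw [← h8reeW_conj' hK hB k hk]; exact hkT _ h⟩
  have hall₁ : ∀ t : K, ∃ u v, h8reeW hB m t u v ∈ T := by
    intro t
    have : t ∈ A₁ := by rw [hA₁]; trivial
    exact this
  -- the second parameters
  let A₂ : AddSubgroup K :=
    { carrier := {u | ∃ v, h8reeW hB m 0 u v ∈ T}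
      zero_mem' := ⟨0, by rw [h8reeW_zero hK hB]; exact T.one_mem⟩
      add_mem' := by
        rintro a b ⟨v, h⟩ ⟨v', h'⟩
        exact ⟨_, by rw [← h8reeW_mul0 hK hB]; exact T.mul_mem h h'⟩
      neg_mem' := by
        rintro a ⟨v, h⟩
        refine ⟨-v, ?_⟩
        have e : (h8reeW hB m 0 a v)⁻¹ = h8reeW hB m 0 (-a) (-v) := by
          rw [inv_eq_iff_mul_eq_one, h8reeW_mul0 hK hB, add_neg_cancel, add_neg_cancel,
            h8reeW_zero hK hB]
        rw [← e]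
        exact T.inv_mem h }
  have hc₂ : s - (s ^ 3 ^ m) ^ 3 ∈ A₂ := by
    obtain ⟨u₁, v₁, hx⟩ := hall₁ s
    obtain ⟨u₂, v₂, hy⟩ := hall₁ 1
    have hxy := T.mul_mem hx hy
    have hyx := T.mul_mem hy hx
    rw [h8reeW_mul' hK hB] at hxy hyx
    have h := T.mul_mem (T.inv_mem hxy) hyx
    rw [add_comm (1 : K) s, h8reeW_inv_mul hK hB] at h
    have e2 : u₂ + u₁ - 1 * (s ^ 3 ^ m) ^ 3 - (u₁ + u₂ - s * (1 ^ 3 ^ m) ^ 3) =
        s - (s ^ 3 ^ m) ^ 3 := by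
      simp only [one_pow, mul_one, one_mul]
      ring
    rw [e2] at h
    exact ⟨_, h⟩
  have hA₂ : A₂ = ⊤ := by
    apply h8_stable_top hK _ hχ10 h10 A₂ _ _ hc₂ hs
    rintro a ⟨v, h⟩
    refine ⟨h8chi chevG2 hB k 11 * v, ?_⟩
    have := hkT _ h
    rw [h8reeW_conj' hK hB k hk, mul_zero] at this
    exact this
  have hall₂ : ∀ u : K, ∃ v, h8reeW hB m 0 u v ∈ T := by
    intro u
    have : u ∈ A₂ := by rw [hA₂]; trivial
    exact this
  -- the third parameters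
  have hall₃ : ∀ w : K, h8reeW hB m 0 0 w ∈ T := by
    intro w
    obtain ⟨u₁, v₁, hx⟩ := hall₁ 1
    obtain ⟨v₂, hy⟩ := hall₂ (-w)
    have hxy := T.mul_mem hx hy
    have hyx := T.mul_mem hy hx
    rw [h8reeW_mul0 hK hB] at hxy
    rw [h8reeW_mul' hK hB, zero_add] at hyx
    have h := T.mul_mem (T.inv_mem hxy) hyx
    rw [h8reeW_inv_mul hK hB] at h
    convert h using 2
    · ring
    · ring
  -- conclusion
  obtain ⟨u₁, v₁, h1⟩ := hall₁ t
  obtain ⟨v₂, h2⟩ := hall₂ (u - u₁)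
  have h3 := hall₃ (v - v₁ - v₂)
  have h := T.mul_mem (T.mul_mem h1 h2) h3
  rw [h8reeW_mul0 hK hB, h8reeW_mul0 hK hB] at h
  convert h using 2 <;> ring

end Cfsg.Agent.Lib.helper8
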