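import Mathlib
import Cfsg.Prelude.Def_ChevStructure
import Cfsg.Prelude.Def_ChevG2
import Cfsg.Prelude.Def_LieTwisted
import Cfsg.Prelude.Def_LieExceptional
import Cfsg.Agent.Lib.helper8.ChevRee24

set_option autoImplicit false

namespace Cfsg.Agent.Lib.helper8

open Cfsg.Lie Cfsg.Lie.ChevalleyDatum

universe u

variable {K : Type u} [Field K] [Fintype K] {m : ℕ}

/-- the `(B, N)`-pair of rank one of the Ree group -/
theorem h8ree_bnpair (hK : Fintype.card K = 3 ^ (2 * m + 1)) (hB : H8Base.{u} chevG2) :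
    ∃ P : Cfsg.BNPair ↥(twistedG2 K (3 ^ m)),
      P.B = (chevG2.borelSubgroup K ⊓ twistedG2 K (3 ^ m)).subgroupOf (twistedG2 K (3 ^ m)) ∧
      P.N = (chevG2.monomialSubgroup K ⊓ twistedG2 K (3 ^ m)).subgroupOf (twistedG2 K (3 ^ m)) ∧
      P.S = {⟨h8reeN0 hB (3 ^ m), h8reeN0_mem _⟩} := by
  have hD : chevG2 ∈ [chevG2, chevB2, chevD4, chevF4, chevE6, chevE7, chevE8] := by simp
  have hA := h8reflAll chevG2 hD
  have hC := h8commAll.{u} chevG2 hD
  have hBN := h8bn_all chevG2 hD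
  have hW := h8bn2_all chevG2 hD
  obtain ⟨hO, hO2⟩ := h8ord_all chevG2 hD
  haveI := h8ree_char3 hK
  have he : (3 ^ m : ℕ) ≠ 0 := pow_ne_zero _ (by norm_num)
  obtain ⟨dep, par, horb⟩ := hBN.orb
  have hBNH := h8_B_inf_N (F := K) chevG2 hB hA dep par horb
  have hNnorm := h8N_le_normalizer_H (F := K) chevG2 hB hA dep par horb
  have hHN := h8H_le_N (F := K) chevG2
  have hn0N := h8reeN0_mem_N (K := K) (hB := hB) hC (3 ^ m) he
  have hn0G : h8reeN0 (K := K) hB (3 ^ m) ∈ twistedG2 K (3 ^ m) := h8reeN0_mem _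
  have hsq := h8reeN0_sq hK hB
  set G1 := twistedG2 K (3 ^ m) with hG1
  have hBmem : ∀ x : ↥G1, x ∈ (chevG2.borelSubgroup K ⊓ G1).subgroupOf G1 ↔
      x.val ∈ chevG2.borelSubgroup K := by
    intro x
    rw [Subgroup.mem_subgroupOf, Subgroup.mem_inf]
    exact ⟨fun h => h.1, fun h => ⟨h, x.2⟩⟩
  have hNmem : ∀ x : ↥G1, x ∈ (chevG2.monomialSubgroup K ⊓ G1).subgroupOf G1 ↔
      x.val ∈ chevG2.monomialSubgroup K := by
    intro x
    rw [Subgroup.mem_subgroupOf, Subgroup.mem_inf]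
    exact ⟨fun h => h.1, fun h => ⟨h, x.2⟩⟩
  refine ⟨{ B := (chevG2.borelSubgroup K ⊓ G1).subgroupOf G1
            N := (chevG2.monomialSubgroup K ⊓ G1).subgroupOf G1
            S := {⟨h8reeN0 hB (3 ^ m), hn0G⟩}
            sup_eq_top := ?_, conj_mem := ?_, subset := ?_, sq_mem := ?_, inj := ?_,
            closure_sup := ?_, mul_mem_union := ?_, conj_ne := ?_ }, rfl, rfl, rfl⟩
  · -- sup_eq_top
    rw [eq_top_iff]
    intro g _
    rcases h8ree_G1_normal hK hB g.val g.2 with ⟨u, hu, k, hk, e⟩ | ⟨u1, hu1, k, hk, u, hu, e⟩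
    · apply Subgroup.mem_sup_left
      rw [hBmem, e]
      exact Subgroup.mul_mem _ (h8U_le_B chevG2 hu.1) (h8H_le_B chevG2 hk.1)
    · have hg : g = (⟨u1, hu1.2⟩ : ↥G1) * ⟨k * h8reeN0 hB (3 ^ m),
          Subgroup.mul_mem _ hk.2 hn0G⟩ * ⟨u, hu.2⟩ := Subtype.ext e
      rw [hg]
      refine Subgroup.mul_mem _ (Subgroup.mul_mem _ (Subgroup.mem_sup_left ?_)
        (Subgroup.mem_sup_right ?_)) (Subgroup.mem_sup_left ?_)
      · exact (hBmem _).mpr (h8U_le_B chevG2 hu1.1)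
      · exact (hNmem _).mpr (Subgroup.mul_mem _ (hHN hk.1) hn0N)
      · exact (hBmem _).mpr (h8U_le_B chevG2 hu.1)
  · -- conj_mem
    intro n hn t ht
    rw [hNmem] at hn
    rw [Subgroup.mem_inf, hBmem, hNmem] at ht
    rw [hBmem]
    have htH : t.val ∈ chevG2.diagonalSubgroup K := by
      rw [← hBNH]
      exact Subgroup.mem_inf.mpr ht
    exact h8H_le_B chevG2 ((Subgroup.mem_normalizer_iff.mp (hNnorm hn) t.val).mp htH)
  · -- subset
    intro s hs
    rw [Set.mem_singleton_iff] at hs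
    show s ∈ (chevG2.monomialSubgroup K ⊓ G1).subgroupOf G1
    rw [hNmem, hs]
    exact hn0N
  · -- sq_mem
    intro s hs
    rw [Set.mem_singleton_iff] at hs
    rw [hBmem, hs]
    exact h8H_le_B chevG2 hsq
  · -- inj
    intro s hs s' hs' _
    rw [Set.mem_singleton_iff] at hs hs'
    rw [hs, hs']
  · -- closure_sup
    apply le_antisymm
    · apply sup_le
      · rw [Subgroup.closure_le]
        intro s hs
        rw [Set.mem_singleton_iff] at hs
        show s ∈ (chevG2.monomialSubgroup K ⊓ G1).subgroupOf G1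
        rw [hNmem, hs]
        exact hn0N
      · exact inf_le_right
    · intro g hg
      rw [hNmem] at hg
      rcases h8ree_N1_decomp hK hB g.val hg g.2 with h | h
      · apply Subgroup.mem_sup_right
        rw [Subgroup.mem_inf, hBmem, hNmem]
        exact ⟨h8H_le_B chevG2 h, hg⟩
      · have hg' : g = (⟨h8reeN0 hB (3 ^ m), hn0G⟩ : ↥G1) *
            ((⟨h8reeN0 hB (3 ^ m), hn0G⟩ : ↥G1)⁻¹ * g) := by group
        rw [hg']
        refine Subgroup.mul_mem _ (Subgroup.mem_sup_left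
          (Subgroup.subset_closure (Set.mem_singleton _))) (Subgroup.mem_sup_right ?_)
        rw [Subgroup.mem_inf, hBmem, hNmem]
        exact ⟨h8H_le_B chevG2 h, hHN h⟩
  · -- mul_mem_union
    intro s hs n hn b hb
    rw [Set.mem_singleton_iff] at hs
    rw [hNmem] at hn
    rw [hBmem] at hb
    obtain ⟨u, hu, k, hk, hbuk⟩ := h8ree_B1_decomp hK hB b.val hb b.2
    rcases h8ree_N1_decomp hK hB n.val hn n.2 with h | h
    · -- n ∈ H
      left
      rw [DoubleCoset.mem_doubleCoset]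
      refine ⟨1, Subgroup.one_mem _, n⁻¹ * b * n, ?_, by group⟩
      show n⁻¹ * b * n ∈ (chevG2.borelSubgroup K ⊓ G1).subgroupOf G1
      rw [hBmem]
      exact Subgroup.mul_mem _ (Subgroup.mul_mem _ (Subgroup.inv_mem _ (h8H_le_B chevG2 h)) hb)
        (h8H_le_B chevG2 h)
    · -- n = n₀ k'
      have hkk : h8reeN0 hB (3 ^ m) * k * (h8reeN0 hB (3 ^ m))⁻¹ ∈ chevG2.diagonalSubgroup K :=
        (Subgroup.mem_normalizer_iff.mp (hNnorm hn0N) k).mp hk.1
      by_cases hu1 : u = 1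
      · left
        rw [DoubleCoset.mem_doubleCoset]
        refine ⟨s * b * s⁻¹, ?_, 1, Subgroup.one_mem _, by group⟩
        show s * b * s⁻¹ ∈ (chevG2.borelSubgroup K ⊓ G1).subgroupOf G1
        rw [hBmem, hs]
        show h8reeN0 hB (3 ^ m) * b.val * (h8reeN0 hB (3 ^ m))⁻¹ ∈ _
        rw [hbuk, hu1, one_mul]
        exact h8H_le_B chevG2 hkk
      · right
        have hv : h8reeN0 hB (3 ^ m) * u * (h8reeN0 hB (3 ^ m))⁻¹ ∈ chevG2.negUnipotent K :=
          h8reeN0_conj_V hK hB u hu.1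
        have hvG : h8reeN0 hB (3 ^ m) * u * (h8reeN0 hB (3 ^ m))⁻¹ ∈ G1 :=
          Subgroup.mul_mem _ (Subgroup.mul_mem _ hn0G hu.2) (Subgroup.inv_mem _ hn0G)
        have hv1 : h8reeN0 hB (3 ^ m) * u * (h8reeN0 hB (3 ^ m))⁻¹ ≠ 1 := by
          intro h1
          apply hu1
          have : u = (h8reeN0 hB (3 ^ m))⁻¹ *
              (h8reeN0 hB (3 ^ m) * u * (h8reeN0 hB (3 ^ m))⁻¹) * h8reeN0 hB (3 ^ m) := by group
          rw [this, h1]
          group
        obtain ⟨u1, hu1', k1, hk1, u2, hu2, e⟩ := h8ree_V1_decomp hK hB _ hv hvG hv1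
        have hh1 : n.val⁻¹ * h8reeN0 hB (3 ^ m) ∈ chevG2.diagonalSubgroup K := by
          have : n.val⁻¹ * h8reeN0 hB (3 ^ m) = ((h8reeN0 hB (3 ^ m))⁻¹ * n.val)⁻¹ := by group
          rw [this]
          exact Subgroup.inv_mem _ h
        have hh2 : h8reeN0 hB (3 ^ m) * k * n.val ∈ chevG2.diagonalSubgroup K := by
          have : h8reeN0 hB (3 ^ m) * k * n.val =
              (h8reeN0 hB (3 ^ m) * k * (h8reeN0 hB (3 ^ m))⁻¹) *
                (h8reeN0 hB (3 ^ m) * h8reeN0 hB (3 ^ m)) *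
                ((h8reeN0 hB (3 ^ m))⁻¹ * n.val) := by group
          rw [this]
          exact Subgroup.mul_mem _ (Subgroup.mul_mem _ hkk hsq) h
        rw [DoubleCoset.mem_doubleCoset]
        refine ⟨⟨u1 * k1, Subgroup.mul_mem _ hu1'.2 hk1.2⟩, ?_,
          ⟨n.val⁻¹ * h8reeN0 hB (3 ^ m) * u2 * (h8reeN0 hB (3 ^ m) * k * n.val),
            Subgroup.mul_mem _ (Subgroup.mul_mem _ (Subgroup.mul_mem _
              (Subgroup.inv_mem _ n.2) hn0G) hu2.2) (Subgroup.mul_mem _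
              (Subgroup.mul_mem _ hn0G hk.2) n.2)⟩, ?_, ?_⟩
        · show _ ∈ (chevG2.borelSubgroup K ⊓ G1).subgroupOf G1
          rw [hBmem]
          exact Subgroup.mul_mem _ (h8U_le_B chevG2 hu1'.1) (h8H_le_B chevG2 hk1.1)
        · show _ ∈ (chevG2.borelSubgroup K ⊓ G1).subgroupOf G1
          rw [hBmem]
          exact Subgroup.mul_mem _ (Subgroup.mul_mem _ (h8H_le_B chevG2 hh1)
            (h8U_le_B chevG2 hu2.1)) (h8H_le_B chevG2 hh2)
        · apply Subtype.ext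
          show s.val * b.val * n.val = u1 * k1 * n.val *
            (n.val⁻¹ * h8reeN0 hB (3 ^ m) * u2 * (h8reeN0 hB (3 ^ m) * k * n.val))
          have e3 : u1 * k1 * n.val *
              (n.val⁻¹ * h8reeN0 hB (3 ^ m) * u2 * (h8reeN0 hB (3 ^ m) * k * n.val)) =
              (u1 * (k1 * h8reeN0 hB (3 ^ m)) * u2) * (h8reeN0 hB (3 ^ m) * k * n.val) := by
            group
          rw [e3, ← e, hs, hbuk]
          group
  · -- conj_ne
    intro s hs heq
    rw [Set.mem_singleton_iff] at hs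
    obtain ⟨x, hx, hx1⟩ := h8ree_U1_ne hK hB
    have hxB : (⟨x, hx.2⟩ : ↥G1) ∈
        (((chevG2.borelSubgroup K ⊓ G1).subgroupOf G1 : Subgroup ↥G1) : Set ↥G1) :=
      (hBmem _).mpr (h8U_le_B chevG2 hx.1)
    have himg := Set.mem_image_of_mem (fun b : ↥G1 => s * b * s) hxB
    rw [heq] at himg
    have himg' : s.val * x * s.val ∈ chevG2.borelSubgroup K := (hBmem _).mp himg
    rw [hs] at himg'
    have hV := h8reeN0_conj_V hK hB x hx.1
    have e2 : h8reeN0 hB (3 ^ m) * x * (h8reeN0 hB (3 ^ m))⁻¹ =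
        (h8reeN0 hB (3 ^ m) * x * h8reeN0 hB (3 ^ m)) *
          (h8reeN0 hB (3 ^ m) * h8reeN0 hB (3 ^ m))⁻¹ := by group
    have hBm : h8reeN0 hB (3 ^ m) * x * (h8reeN0 hB (3 ^ m))⁻¹ ∈ chevG2.borelSubgroup K := by
      rw [e2]
      exact Subgroup.mul_mem _ himg' (Subgroup.inv_mem _ (h8H_le_B chevG2 hsq))
    have hbot : h8reeN0 hB (3 ^ m) * x * (h8reeN0 hB (3 ^ m))⁻¹ ∈
        chevG2.borelSubgroup K ⊓ chevG2.negUnipotent K := ⟨hBm, hV⟩
    rw [h8_B_inf_V chevG2 hB hBN.negOK, Subgroup.mem_bot] at hbot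
    apply hx1
    have : x = (h8reeN0 hB (3 ^ m))⁻¹ *
        (h8reeN0 hB (3 ^ m) * x * (h8reeN0 hB (3 ^ m))⁻¹) * h8reeN0 hB (3 ^ m) := by group
    rw [this, hbot]
    group

end Cfsg.Agent.Lib.helper8
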