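import Mathlib

set_option autoImplicit false

namespace Cfsg.Agent.Lib.helper8

/-- three-point stabilizers of a split BN-pair of rank one: they embed in the centralizers
of the non-trivial elements of `U` in `H` -/
theorem h8_three_point_le {G : Type*} [Group G] [Finite G] (B U H : Subgroup G) (n : G) (c : ℕ)
    (hBd : ∀ b ∈ B, ∃ u ∈ U, ∃ h ∈ H, b = u * h)
    (hUB : U ≤ B) (hHB : H ≤ B)
    (hG : ∀ g : G, g ∈ B ∨ ∃ u ∈ U, ∃ h ∈ H, ∃ b ∈ B, g = u * (h * n) * b)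
    (huniq : ∀ u ∈ U, n⁻¹ * u * n ∈ B → u = 1)
    (hnH : ∀ h ∈ H, n⁻¹ * h * n ∈ B)
    (hHU : ∀ h ∈ H, ∀ u ∈ U, h * u * h⁻¹ ∈ U)
    (hcent : ∀ u ∈ U, u ≠ 1 → Nat.card ↥(H ⊓ Subgroup.centralizer {u}) ≤ c)
    (x y z : G ⧸ B) (hxy : x ≠ y) (hxz : x ≠ z) (hyz : y ≠ z) :
    Nat.card ↥(MulAction.stabilizer G x ⊓ MulAction.stabilizer G y ⊓
      MulAction.stabilizer G z) ≤ c := by
  -- cosets outside `B`
  have F1 : ∀ g : G, g ∉ B → ∃ u ∈ U, (QuotientGroup.mk g : G ⧸ B) = QuotientGroup.mk (u * n) := by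
    intro g hg
    rcases hG g with h | ⟨u, hu, h, hh, b, hb, rfl⟩
    · exact absurd h hg
    · refine ⟨u, hu, ?_⟩
      rw [QuotientGroup.eq]
      have e : (u * (h * n) * b)⁻¹ * (u * n) = b⁻¹ * (n⁻¹ * h⁻¹ * n) := by group
      rw [e]
      exact B.mul_mem (B.inv_mem hb) (hnH _ (H.inv_mem hh))
  obtain ⟨a, rfl⟩ := QuotientGroup.mk_surjective x
  obtain ⟨b, rfl⟩ := QuotientGroup.mk_surjective y
  obtain ⟨c', rfl⟩ := QuotientGroup.mk_surjective z
  have hab : a⁻¹ * b ∉ B := fun h => hxy (QuotientGroup.eq.mpr h)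
  obtain ⟨u₀, hu₀, e₀⟩ := F1 _ hab
  rw [QuotientGroup.eq] at e₀
  -- the new base point
  have hdc : (a * u₀)⁻¹ * c' ∉ B := by
    intro h
    apply hxz
    rw [QuotientGroup.eq]
    have e : a⁻¹ * c' = u₀ * ((a * u₀)⁻¹ * c') := by group
    rw [e]
    exact B.mul_mem (hUB hu₀) h
  obtain ⟨w, hw, e₁⟩ := F1 _ hdc
  rw [QuotientGroup.eq] at e₁
  have hw1 : w ≠ 1 := by
    rintro rfl
    apply hyz
    rw [QuotientGroup.eq]
    have e : b⁻¹ * c' = ((a⁻¹ * b)⁻¹ * (u₀ * n)) * (((a * u₀)⁻¹ * c')⁻¹ * (1 * n))⁻¹ := by group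
    rw [e]
    exact B.mul_mem e₀ (B.inv_mem e₁)
  -- stabilizers in terms of the base point `d = a u₀`
  have hsx : ∀ s : G, s ∈ MulAction.stabilizer G (QuotientGroup.mk a : G ⧸ B) →
      (a * u₀)⁻¹ * s * (a * u₀) ∈ B := by
    intro s hs
    rw [MulAction.mem_stabilizer_iff] at hs
    have hs' : (QuotientGroup.mk (s * a) : G ⧸ B) = QuotientGroup.mk a := hs
    rw [QuotientGroup.eq] at hs'
    have e : (a * u₀)⁻¹ * s * (a * u₀) = u₀⁻¹ * ((s * a)⁻¹ * a)⁻¹ * u₀ := by group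
    rw [e]
    exact B.mul_mem (B.mul_mem (B.inv_mem (hUB hu₀)) (B.inv_mem hs')) (hUB hu₀)
  have hsy : ∀ s : G, s ∈ MulAction.stabilizer G (QuotientGroup.mk b : G ⧸ B) →
      n⁻¹ * ((a * u₀)⁻¹ * s * (a * u₀)) * n ∈ B := by
    intro s hs
    rw [MulAction.mem_stabilizer_iff] at hs
    have hs' : (QuotientGroup.mk (s * b) : G ⧸ B) = QuotientGroup.mk b := hs
    rw [QuotientGroup.eq] at hs'
    have e : n⁻¹ * ((a * u₀)⁻¹ * s * (a * u₀)) * n =
        ((a⁻¹ * b)⁻¹ * (u₀ * n))⁻¹ * ((s * b)⁻¹ * b)⁻¹ * ((a⁻¹ * b)⁻¹ * (u₀ * n)) := by group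
    rw [e]
    exact B.mul_mem (B.mul_mem (B.inv_mem e₀) (B.inv_mem hs')) e₀
  have hsz : ∀ s : G, s ∈ MulAction.stabilizer G (QuotientGroup.mk c' : G ⧸ B) →
      (w * n)⁻¹ * ((a * u₀)⁻¹ * s * (a * u₀)) * (w * n) ∈ B := by
    intro s hs
    rw [MulAction.mem_stabilizer_iff] at hs
    have hs' : (QuotientGroup.mk (s * c') : G ⧸ B) = QuotientGroup.mk c' := hs
    rw [QuotientGroup.eq] at hs'
    have e : (w * n)⁻¹ * ((a * u₀)⁻¹ * s * (a * u₀)) * (w * n) =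
        (((a * u₀)⁻¹ * c')⁻¹ * (w * n))⁻¹ * ((s * c')⁻¹ * c')⁻¹ *
          (((a * u₀)⁻¹ * c')⁻¹ * (w * n)) := by group
    rw [e]
    exact B.mul_mem (B.mul_mem (B.inv_mem e₁) (B.inv_mem hs')) e₁
  -- the conjugated stabilizer lies in the centralizer of `w` in `H`
  have key : ∀ s : G, s ∈ MulAction.stabilizer G (QuotientGroup.mk a : G ⧸ B) ⊓
      MulAction.stabilizer G (QuotientGroup.mk b : G ⧸ B) ⊓
      MulAction.stabilizer G (QuotientGroup.mk c' : G ⧸ B) →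
      (a * u₀)⁻¹ * s * (a * u₀) ∈ H ⊓ Subgroup.centralizer {w} := by
    intro s hs
    obtain ⟨⟨h1, h2⟩, h3⟩ := hs
    have t1 := hsx s h1
    have t2 := hsy s h2
    have t3 := hsz s h3
    obtain ⟨t, ht⟩ : ∃ t, t = (a * u₀)⁻¹ * s * (a * u₀) := ⟨_, rfl⟩
    rw [← ht] at t1 t2 t3 ⊢
    obtain ⟨u, hu, h, hh, rfl⟩ := hBd t t1
    have hu1 : u = 1 := by
      apply huniq u hu
      have e : n⁻¹ * u * n = (n⁻¹ * (u * h) * n) * (n⁻¹ * h⁻¹ * n) := by group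
      rw [e]
      exact B.mul_mem t2 (hnH _ (H.inv_mem hh))
    subst hu1
    rw [one_mul] at t3 ⊢
    refine Subgroup.mem_inf.mpr ⟨hh, ?_⟩
    rw [Subgroup.mem_centralizer_iff]
    intro w' hw'
    rw [Set.mem_singleton_iff] at hw'
    subst hw'
    have h1 : w'⁻¹ * (h * w' * h⁻¹) = 1 := by
      apply huniq _ (U.mul_mem (U.inv_mem hw) (hHU h hh w' hw))
      have e : n⁻¹ * (w'⁻¹ * (h * w' * h⁻¹)) * n =
          ((w' * n)⁻¹ * h * (w' * n)) * (n⁻¹ * h⁻¹ * n) := by group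
      rw [e]
      exact B.mul_mem t3 (hnH _ (H.inv_mem hh))
    have h2 : h * w' * h⁻¹ = w' := by
      have e : h * w' * h⁻¹ = w' * (w'⁻¹ * (h * w' * h⁻¹)) := by group
      rw [e, h1, mul_one]
    calc w' * h = (h * w' * h⁻¹) * h := by rw [h2]
      _ = h * w' := by group
  refine le_trans ?_ (hcent w hw hw1)
  apply Nat.card_le_card_of_injective (fun s => (⟨(a * u₀)⁻¹ * s.1 * (a * u₀), key s.1 s.2⟩ :
    ↥(H ⊓ Subgroup.centralizer {w})))
  intro s s' hss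
  have h1 := congrArg Subtype.val hss
  simp only at h1
  apply Subtype.ext
  have e : ∀ r : G, r = (a * u₀) * ((a * u₀)⁻¹ * r * (a * u₀)) * (a * u₀)⁻¹ := by
    intro r
    group
  rw [e s.1, h1, ← e s'.1]

/-- a triple of points whose stabilizer contains a given element of `H` -/
theorem h8_three_point_ge {G : Type*} [Group G] [Finite G] (B U H : Subgroup G) (n : G)
    (hHB : H ≤ B)
    (huniq : ∀ u ∈ U, n⁻¹ * u * n ∈ B → u = 1)
    (hnH : ∀ h ∈ H, n⁻¹ * h * n ∈ B)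
    (hn : n ∉ B) (w : G) (hw : w ∈ U) (hUB : U ≤ B) (hw1 : w ≠ 1) (h₀ : G) (hh₀ : h₀ ∈ H)
    (hh1 : h₀ ≠ 1) (hc : h₀ * w = w * h₀) :
    ∃ x y z : G ⧸ B, x ≠ y ∧ x ≠ z ∧ y ≠ z ∧
      2 ≤ Nat.card ↥(MulAction.stabilizer G x ⊓ MulAction.stabilizer G y ⊓
        MulAction.stabilizer G z) := by
  refine ⟨QuotientGroup.mk 1, QuotientGroup.mk n, QuotientGroup.mk (w * n), ?_, ?_, ?_, ?_⟩
  · intro h
    rw [QuotientGroup.eq, inv_one, one_mul] at h
    exact hn h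
  · intro h
    rw [QuotientGroup.eq, inv_one, one_mul] at h
    apply hn
    have e : n = w⁻¹ * (w * n) := by group
    rw [e]
    exact B.mul_mem (B.inv_mem (hUB hw)) h
  · intro h
    rw [QuotientGroup.eq] at h
    apply hw1
    apply huniq w hw
    have e : n⁻¹ * w * n = n⁻¹ * (w * n) := by group
    rw [e]
    exact h
  · have hmem : h₀ ∈ MulAction.stabilizer G (QuotientGroup.mk 1 : G ⧸ B) ⊓
        MulAction.stabilizer G (QuotientGroup.mk n : G ⧸ B) ⊓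
        MulAction.stabilizer G (QuotientGroup.mk (w * n) : G ⧸ B) := by
      refine Subgroup.mem_inf.mpr ⟨Subgroup.mem_inf.mpr ⟨?_, ?_⟩, ?_⟩
      · rw [MulAction.mem_stabilizer_iff]
        show (QuotientGroup.mk (h₀ * 1) : G ⧸ B) = QuotientGroup.mk 1
        rw [QuotientGroup.eq, mul_one, mul_one]
        exact B.inv_mem (hHB hh₀)
      · rw [MulAction.mem_stabilizer_iff]
        show (QuotientGroup.mk (h₀ * n) : G ⧸ B) = QuotientGroup.mk n
        rw [QuotientGroup.eq]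
        have e : (h₀ * n)⁻¹ * n = n⁻¹ * h₀⁻¹ * n := by group
        rw [e]
        exact hnH _ (H.inv_mem hh₀)
      · rw [MulAction.mem_stabilizer_iff]
        show (QuotientGroup.mk (h₀ * (w * n)) : G ⧸ B) = QuotientGroup.mk (w * n)
        rw [QuotientGroup.eq]
        have e : (h₀ * (w * n))⁻¹ * (w * n) = n⁻¹ * h₀⁻¹ * n := by
          have e' : h₀ * (w * n) = w * h₀ * n := by rw [← mul_assoc, hc]
          rw [e']
          group
        rw [e]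
        exact hnH _ (H.inv_mem hh₀)
    have hnt : Nontrivial ↥(MulAction.stabilizer G (QuotientGroup.mk 1 : G ⧸ B) ⊓
        MulAction.stabilizer G (QuotientGroup.mk n : G ⧸ B) ⊓
        MulAction.stabilizer G (QuotientGroup.mk (w * n) : G ⧸ B)) := by
      refine ⟨⟨⟨h₀, hmem⟩, 1, ?_⟩⟩
      intro h
      exact hh1 (congrArg Subtype.val h)
    exact Finite.one_lt_card_iff_nontrivial.mpr hnt

end Cfsg.Agent.Lib.helper8
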