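import Mathlib
import Cfsg.Prelude.Def_ChevStructure
import Cfsg.Prelude.Def_ChevG2
import Cfsg.Prelude.Def_LieTwisted
import Cfsg.Agent.Lib.helper8.ChevRee36
import Cfsg.Agent.Lib.helper8.ThreePoint

set_option autoImplicit false

namespace Cfsg.Agent.Lib.helper8

open Cfsg.Lie Cfsg.Lie.ChevalleyDatum

universe u

variable {K : Type u} [Field K] [Fintype K] {m : ℕ}

/-- `n₀⁻¹` conjugates `U` into `V` -/
theorem h8reeN0_inv_conj_V (hK : Fintype.card K = 3 ^ (2 * m + 1)) (hB : H8Base.{u} chevG2)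
    (x : GL chevG2.Idx K) (hx : x ∈ chevG2.posUnipotent K) :
    (h8reeN0 hB (3 ^ m))⁻¹ * x * h8reeN0 hB (3 ^ m) ∈ chevG2.negUnipotent K := by
  have h1 := h8reeN0_conj_V hK hB x hx
  have hz := h8reeN0_sq hK hB
  have hzn := Subgroup.inv_mem _ (h8_H_le_normalizer_V chevG2 hB hz)
  have h2 := ((Subgroup.mem_normalizer_iff (H := chevG2.negUnipotent K)).mp hzn _).mp h1
  have e : (h8reeN0 hB (3 ^ m))⁻¹ * x * h8reeN0 hB (3 ^ m) =
      (h8reeN0 hB (3 ^ m) * h8reeN0 hB (3 ^ m))⁻¹ *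
        (h8reeN0 hB (3 ^ m) * x * (h8reeN0 hB (3 ^ m))⁻¹) *
        (h8reeN0 hB (3 ^ m) * h8reeN0 hB (3 ^ m))⁻¹⁻¹ := by group
  rw [e]
  exact h2

/-- `n₀⁻¹` normalizes `H` -/
theorem h8reeN0_conj_H (hK : Fintype.card K = 3 ^ (2 * m + 1)) (hB : H8Base.{u} chevG2)
    (h : GL chevG2.Idx K) (hh : h ∈ chevG2.diagonalSubgroup K) :
    (h8reeN0 hB (3 ^ m))⁻¹ * h * h8reeN0 hB (3 ^ m) ∈ chevG2.diagonalSubgroup K := by
  have hD : chevG2 ∈ [chevG2, chevB2, chevD4, chevF4, chevE6, chevE7, chevE8] := by simp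
  have hA := h8reflAll chevG2 hD
  have hC := h8commAll.{u} chevG2 hD
  have hBN := h8bn_all chevG2 hD
  haveI := h8ree_char3 hK
  have he : (3 ^ m : ℕ) ≠ 0 := pow_ne_zero _ (by norm_num)
  obtain ⟨dep, par, horb⟩ := hBN.orb
  have hN := h8reeN0_mem_N (K := K) (hB := hB) hC (3 ^ m) he
  have hn := Subgroup.inv_mem _ (h8N_le_normalizer_H (F := K) chevG2 hB hA dep par horb hN)
  have h2 := ((Subgroup.mem_normalizer_iff (H := chevG2.diagonalSubgroup K)).mp hn _).mp hh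
  rw [inv_inv] at h2
  exact h2

/-- the cosets `u n₀ B` with `u ∈ U` are distinct -/
theorem h8ree_uniq (hK : Fintype.card K = 3 ^ (2 * m + 1)) (hB : H8Base.{u} chevG2)
    (x : GL chevG2.Idx K) (hx : x ∈ chevG2.posUnipotent K)
    (h : (h8reeN0 hB (3 ^ m))⁻¹ * x * h8reeN0 hB (3 ^ m) ∈ chevG2.borelSubgroup K) : x = 1 := by
  have hD : chevG2 ∈ [chevG2, chevB2, chevD4, chevF4, chevE6, chevE7, chevE8] := by simp
  have hBN := h8bn_all chevG2 hD
  have hbot : (h8reeN0 hB (3 ^ m))⁻¹ * x * h8reeN0 hB (3 ^ m) ∈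
      chevG2.borelSubgroup K ⊓ chevG2.negUnipotent K :=
    Subgroup.mem_inf.mpr ⟨h, h8reeN0_inv_conj_V hK hB x hx⟩
  rw [h8_B_inf_V chevG2 hB hBN.negOK, Subgroup.mem_bot] at hbot
  have e : x = h8reeN0 hB (3 ^ m) * ((h8reeN0 hB (3 ^ m))⁻¹ * x * h8reeN0 hB (3 ^ m)) *
      (h8reeN0 hB (3 ^ m))⁻¹ := by group
  rw [e, hbot]
  group

/-- the centralizer in `H ∩ ²G₂(q)` of a non-trivial element of `U ∩ ²G₂(q)` has at most two
elements -/
theorem h8ree_cent_card_le (hK : Fintype.card K = 3 ^ (2 * m + 1))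
    (w : ↥(twistedG2 K (3 ^ m)))
    (hw : w ∈ (chevG2.posUnipotent K ⊓ twistedG2 K (3 ^ m)).subgroupOf (twistedG2 K (3 ^ m)))
    (hw1 : w ≠ 1) :
    Nat.card ↥((chevG2.diagonalSubgroup K ⊓ twistedG2 K (3 ^ m)).subgroupOf (twistedG2 K (3 ^ m)) ⊓
      Subgroup.centralizer {w}) ≤ 2 := by
  classical
  have hD : chevG2 ∈ [chevG2, chevB2, chevD4, chevF4, chevE6, chevE7, chevE8] := by simp
  have hB := h8base_all.{u} chevG2 hD
  have hA := h8reflAll chevG2 hD
  have hW := h8bn2_all chevG2 hD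
  rw [Subgroup.mem_subgroupOf] at hw
  have hw1' : (w : GL chevG2.Idx K) ≠ 1 := fun h => hw1 (Subtype.ext h)
  have hmem : ∀ s : ↥((chevG2.diagonalSubgroup K ⊓ twistedG2 K (3 ^ m)).subgroupOf
      (twistedG2 K (3 ^ m)) ⊓ Subgroup.centralizer {w}),
      ((s : ↥(twistedG2 K (3 ^ m))) : GL chevG2.Idx K) ∈
        chevG2.diagonalSubgroup K ⊓ twistedG2 K (3 ^ m) := by
    intro s
    have := (Subgroup.mem_inf.mp s.2).1
    rw [Subgroup.mem_subgroupOf] at this
    exact this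
  have hval : ∀ s : ↥((chevG2.diagonalSubgroup K ⊓ twistedG2 K (3 ^ m)).subgroupOf
      (twistedG2 K (3 ^ m)) ⊓ Subgroup.centralizer {w}),
      h8reeChiHom (K := K) hB hA hW (3 ^ m) ⟨_, hmem s⟩ ∈ ({1, -1} : Finset Kˣ) := by
    intro s
    have hc := (Subgroup.mem_inf.mp s.2).2
    rw [Subgroup.mem_centralizer_iff] at hc
    have hc' := congrArg Subtype.val (hc w rfl)
    rw [Subgroup.coe_mul, Subgroup.coe_mul] at hc'
    have hcomm : ((s : ↥(twistedG2 K (3 ^ m))) : GL chevG2.Idx K) * (w : GL chevG2.Idx K) *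
        ((s : ↥(twistedG2 K (3 ^ m))) : GL chevG2.Idx K)⁻¹ = (w : GL chevG2.Idx K) := by
      rw [← hc']
      group
    have hsq := h8ree_cent_sq hK hB _ (hmem s) _ hw hw1' hcomm
    rw [pow_two] at hsq
    rw [Finset.mem_insert, Finset.mem_singleton]
    rcases mul_self_eq_one_iff.mp hsq with h1 | h1
    · left
      apply Units.ext
      exact h1
    · right
      apply Units.ext
      rw [Units.val_neg]
      exact h1
  have hinj : Function.Injective (fun s : ↥((chevG2.diagonalSubgroup K ⊓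
      twistedG2 K (3 ^ m)).subgroupOf (twistedG2 K (3 ^ m)) ⊓ Subgroup.centralizer {w}) =>
      (⟨h8reeChiHom (K := K) hB hA hW (3 ^ m) ⟨_, hmem s⟩, hval s⟩ :
        ↥({1, -1} : Finset Kˣ))) := by
    intro s s' hss
    have h1 := congrArg Subtype.val hss
    simp only at h1
    have h2 := congrArg Subtype.val (h8reeChiHom_injective hK hB hA hW h1)
    simp only at h2
    exact Subtype.ext (Subtype.ext h2)
  have := Nat.card_le_card_of_injective _ hinj
  have e : Nat.card ↥({1, -1} : Finset Kˣ) = ({1, -1} : Finset Kˣ).card := by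
    rw [Nat.card_eq_fintype_card, Fintype.card_coe]
  rw [e] at this
  exact le_trans this Finset.card_le_two

end Cfsg.Agent.Lib.helper8
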