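import Mathlib
import Cfsg.Prelude.Def_ChevStructure
import Cfsg.Prelude.Def_ChevG2
import Cfsg.Prelude.Def_LieTwisted
import Cfsg.Agent.Lib.helper8.ChevRee47
import Cfsg.Agent.Lib.helper8.ChevRee30

set_option autoImplicit false

namespace Cfsg.Agent.Lib.helper8

open Cfsg.Lie Cfsg.Lie.ChevalleyDatum

universe u

variable {K : Type u} [Field K]

/-- arithmetic of `q = 3 ^ (2m+1)`: the exponent `3θ + 3` -/
theorem h8ree_gcd_two (m : ℕ) : Nat.gcd (3 ^ (2 * m + 1) - 1) (3 ^ m * 3 + 3) ∣ 2 := by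
  set θ := 3 ^ m with hθ
  have hθpos : 0 < θ := pow_pos (by norm_num) m
  have hq : 3 ^ (2 * m + 1) = 3 * θ * θ := by rw [hθ]; ring
  set g := Nat.gcd (3 ^ (2 * m + 1) - 1) (θ * 3 + 3) with hg
  have h1 : g ∣ 3 ^ (2 * m + 1) - 1 := Nat.gcd_dvd_left _ _
  have h2 : g ∣ θ * 3 + 3 := Nat.gcd_dvd_right _ _
  have hc3 : Nat.Coprime g 3 := by
    have h3 : ¬ 3 ∣ 3 ^ (2 * m + 1) - 1 := by
      obtain ⟨c, hc⟩ : 3 ∣ 3 ^ (2 * m + 1) := dvd_pow_self 3 (by omega)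
      have : 0 < 3 ^ (2 * m + 1) := pow_pos (by norm_num) _
      omega
    have : Nat.Coprime (3 ^ (2 * m + 1) - 1) 3 :=
      ((Nat.Prime.coprime_iff_not_dvd Nat.prime_three).mpr h3).symm
    exact Nat.Coprime.coprime_dvd_left h1 this
  have h4 : g ∣ θ + 1 := by
    have : g ∣ 3 * (θ + 1) := by
      have e : 3 * (θ + 1) = θ * 3 + 3 := by ring
      rw [e]; exact h2
    exact hc3.dvd_of_dvd_mul_left this
  have h5 : g ∣ 3 * θ * θ + 3 * θ := by
    have e : 3 * θ * θ + 3 * θ = (θ + 1) * (3 * θ) := by ring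
    rw [e]
    exact Dvd.dvd.mul_right h4 _
  have h6 : g ∣ (3 * θ * θ + 3 * θ) - (θ * 3 + 3) := Nat.dvd_sub h5 h2
  have h7 : g ∣ ((3 * θ * θ + 3 * θ) - (θ * 3 + 3)) - (3 * θ * θ - 1) := by
    apply Nat.dvd_sub h6
    rw [← hq]; exact h1
  have hge : 1 ≤ θ * θ := Nat.mul_pos hθpos hθpos
  have e : ((3 * θ * θ + 3 * θ) - (θ * 3 + 3)) - (3 * θ * θ - 1) = 0 ∨
      3 * θ * θ - 1 - ((3 * θ * θ + 3 * θ) - (θ * 3 + 3)) = 2 := by
    right
    have : 3 ≤ 3 * θ * θ := by nlinarith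
    omega
  rcases e with e | e
  · -- impossible branch, but harmless
    have h8 : g ∣ 3 * θ * θ - 1 - ((3 * θ * θ + 3 * θ) - (θ * 3 + 3)) := by
      apply Nat.dvd_sub _ h6
      rw [← hq]; exact h1
    have : 3 ≤ 3 * θ * θ := by nlinarith
    have e2 : 3 * θ * θ - 1 - ((3 * θ * θ + 3 * θ) - (θ * 3 + 3)) = 2 := by omega
    rwa [e2] at h8
  · have h8 : g ∣ 3 * θ * θ - 1 - ((3 * θ * θ + 3 * θ) - (θ * 3 + 3)) := by
      apply Nat.dvd_sub _ h6
      rw [← hq]; exact h1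
    rwa [e] at h8

variable [Fintype K]

/-- a generator of `H ∩ ²G₂(q)` with characters of large order -/
theorem h8ree_gen_k {m : ℕ} (hm : 1 ≤ m) (hK : Fintype.card K = 3 ^ (2 * m + 1))
    (hB : H8Base.{u} chevG2) :
    ∃ k ∈ chevG2.diagonalSubgroup K ⊓ twistedG2 K (3 ^ m),
      (∀ h ∈ chevG2.diagonalSubgroup K ⊓ twistedG2 K (3 ^ m), h ∈ Subgroup.zpowers k) ∧
      Fintype.card K < 3 * (orderOf (h8chi chevG2 hB k 6) + 1) ∧
      Fintype.card K < 3 * (orderOf (h8chi chevG2 hB k 10) + 1) ∧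
      h8chi chevG2 hB k 6 ≠ 1 ∧ ∃ s : K, s - (s ^ 3 ^ m) ^ 3 ≠ 0 := by
  classical
  have hD : chevG2 ∈ [chevG2, chevB2, chevD4, chevF4, chevE6, chevE7, chevE8] := by simp
  have hA := h8reflAll chevG2 hD
  have hC := h8commAll.{u} chevG2 hD
  have hW := h8bn2_all chevG2 hD
  obtain ⟨hO, hO2⟩ := h8ord_all chevG2 hD
  haveI := h8ree_char3 hK
  obtain ⟨R, hfe⟩ := h8ree_setup hK hB
  have hcardU : Nat.card Kˣ = 3 ^ (2 * m + 1) - 1 := by
    rw [Nat.card_eq_fintype_card, Fintype.card_units, hK]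
  have hbij : Function.Bijective (h8reeChiHom (K := K) hB hA hW (3 ^ m)) := by
    apply (h8reeChiHom_injective hK hB hA hW).bijective_of_nat_card_le
    rw [hcardU, h8ree_H1_card hK]
  obtain ⟨μ, hμ⟩ := IsCyclic.exists_ofOrder_eq_natCard (α := Kˣ)
  have hμtop : ∀ y : Kˣ, y ∈ Subgroup.zpowers μ := by
    intro y
    have : Subgroup.zpowers μ = ⊤ := by
      apply Subgroup.eq_top_of_card_eq
      rw [Nat.card_zpowers, hμ]
    rw [this]; trivial
  rw [hcardU] at hμ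
  obtain ⟨k, hk⟩ := hbij.2 μ
  have h7 : h8chi chevG2 hB k.val 7 = μ.val := congrArg Units.val hk
  have hfix := (h8ree_G1_fix R hC (3 ^ m) hfe k.val k.2.2).2
  have h6 : h8chi chevG2 hB k.val 6 = μ.val ^ (3 ^ m * 3) := by
    have := h8ree_chi_sig R hA hW k.val k.2.1 hfix 7 (by decide)
    rw [h8reeE_short R 7 (by decide), h7, hfe] at this
    rw [pow_mul]
    exact this
  obtain ⟨_, _, h10, _⟩ := h8ree_chi_mult hB hC hO2 k.val k.2.1
  have h10' : h8chi chevG2 hB k.val 10 = μ.val ^ (3 ^ m * 3 + 3) := by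
    rw [h10, h6, h7, pow_add]
  have hordμ : orderOf (μ.val : K) = 3 ^ (2 * m + 1) - 1 := by rw [orderOf_units, hμ]
  have hq27 : 27 ≤ 3 ^ (2 * m + 1) := by
    calc 27 = 3 ^ 3 := by norm_num
      _ ≤ 3 ^ (2 * m + 1) := Nat.pow_le_pow_right (by norm_num) (by omega)
  have hcop : Nat.Coprime (3 ^ (2 * m + 1) - 1) (3 ^ m * 3) := by
    have h3 : ¬ 3 ∣ 3 ^ (2 * m + 1) - 1 := by
      obtain ⟨c, hc⟩ : 3 ∣ 3 ^ (2 * m + 1) := dvd_pow_self 3 (by omega)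
      omega
    have h1 : Nat.Coprime (3 ^ (2 * m + 1) - 1) 3 :=
      ((Nat.Prime.coprime_iff_not_dvd Nat.prime_three).mpr h3).symm
    have e : 3 ^ m * 3 = 3 ^ (m + 1) := by ring
    rw [e]
    exact Nat.Coprime.pow_right _ h1
  have hord6 : orderOf (h8chi chevG2 hB k.val 6) = 3 ^ (2 * m + 1) - 1 := by
    rw [h6, Nat.Coprime.orderOf_pow (by rw [hordμ]; exact hcop), hordμ]
  have hord10 : orderOf (h8chi chevG2 hB k.val 10) =
      (3 ^ (2 * m + 1) - 1) / Nat.gcd (3 ^ (2 * m + 1) - 1) (3 ^ m * 3 + 3) := by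
    rw [h10', orderOf_pow' _ (by omega), hordμ]
  refine ⟨k.val, k.2, ?_, ?_, ?_, ?_, ?_⟩
  · intro h hh
    obtain ⟨j, hj⟩ := Subgroup.mem_zpowers_iff.mp (hμtop (h8reeChiHom hB hA hW (3 ^ m) ⟨h, hh⟩))
    have e : h8reeChiHom hB hA hW (3 ^ m) (k ^ j) = h8reeChiHom hB hA hW (3 ^ m) ⟨h, hh⟩ := by
      rw [map_zpow, hk, hj]
    have e2 := hbij.1 e
    rw [Subgroup.mem_zpowers_iff]
    refine ⟨j, ?_⟩
    have := congrArg Subtype.val e2
    rw [Subgroup.coe_zpow] at this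
    exact this
  · rw [hord6, hK]
    omega
  · rw [hord10, hK]
    have hg := h8ree_gcd_two m
    have hg2 : Nat.gcd (3 ^ (2 * m + 1) - 1) (3 ^ m * 3 + 3) = 1 ∨
        Nat.gcd (3 ^ (2 * m + 1) - 1) (3 ^ m * 3 + 3) = 2 :=
      (Nat.dvd_prime Nat.prime_two).mp hg
    rcases hg2 with e | e <;> rw [e] <;> omega
  · intro h1
    rw [h1, orderOf_one] at hord6
    omega
  · refine ⟨μ.val, ?_⟩
    intro h0
    have h1 : (μ.val : K) ^ (3 ^ m * 3) = μ.val := by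
      rw [pow_mul]
      linear_combination (-1 : K) * h0
    have h2 : (μ.val : K) ^ (3 ^ m * 3 - 1) = 1 := by
      have hne : (μ.val : K) ≠ 0 := μ.ne_zero
      have e : 3 ^ m * 3 = (3 ^ m * 3 - 1) + 1 := by
        have : 0 < 3 ^ m := pow_pos (by norm_num) m
        omega
      rw [e, pow_succ] at h1
      exact mul_right_cancel₀ hne (by rw [h1, one_mul])
    have h3 := orderOf_dvd_of_pow_eq_one h2
    rw [hordμ] at h3
    have h3m : 3 ≤ 3 ^ m := by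
      calc 3 = 3 ^ 1 := by norm_num
        _ ≤ 3 ^ m := Nat.pow_le_pow_right (by norm_num) hm
    have h4 := Nat.le_of_dvd (by omega) h3
    have e : 3 ^ (2 * m + 1) = 3 * (3 ^ m * 3 ^ m) := by ring
    rw [e] at h4
    have : 3 * 3 ^ m ≤ 3 ^ m * 3 ^ m := Nat.mul_le_mul_right _ h3m
    omega

end Cfsg.Agent.Lib.helper8
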