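import Mathlib
import Cfsg.Prelude.Def_ChevStructure
import Cfsg.Prelude.Def_ChevG2
import Cfsg.Prelude.Def_LieTwisted
import Cfsg.Agent.Lib.helper8.ChevRee48
import Cfsg.Agent.Lib.helper8.ChevRee37
import Cfsg.Agent.Lib.helper8.ChevRee25

set_option autoImplicit false

namespace Cfsg.Agent.Lib.helper8

open Cfsg.Lie Cfsg.Lie.ChevalleyDatum

universe u

variable {K : Type u} [Field K] [Fintype K] {m : ℕ}

/-- `²G₂(q)`, `q ≥ 27`, is generated by two elements (inside the general linear group) -/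
theorem h8ree_two_gen_GL (hm : 1 ≤ m) (hK : Fintype.card K = 3 ^ (2 * m + 1))
    (hB : H8Base.{u} chevG2) :
    ∃ a b : GL chevG2.Idx K, a ∈ twistedG2 K (3 ^ m) ∧ b ∈ twistedG2 K (3 ^ m) ∧
      ∀ g ∈ twistedG2 K (3 ^ m), g ∈ Subgroup.closure ({a, b} : Set (GL chevG2.Idx K)) := by
  classical
  obtain ⟨k, hk, hgen, h6, h10, hχ1, s, hs⟩ := h8ree_gen_k hm hK hB
  set x : GL chevG2.Idx K := h8reeW hB m 1 0 0 with hx
  set n₀ : GL chevG2.Idx K := h8reeN0 hB (3 ^ m) with hn₀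
  have hxU : x ∈ chevG2.posUnipotent K ⊓ twistedG2 K (3 ^ m) :=
    (h8reeW_mem_iff hK hB _).mpr ⟨1, 0, 0, rfl⟩
  have hn₀G : n₀ ∈ twistedG2 K (3 ^ m) := h8reeN0_mem _
  refine ⟨k, x * n₀, hk.2, Subgroup.mul_mem _ hxU.2 hn₀G, ?_⟩
  set Sg : Subgroup (GL chevG2.Idx K) := Subgroup.closure ({k, x * n₀} : Set (GL chevG2.Idx K))
    with hSg
  have hkS : k ∈ Sg := Subgroup.subset_closure (by simp)
  have hbS : x * n₀ ∈ Sg := Subgroup.subset_closure (by simp)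
  -- `H ∩ ²G₂(q)` lies in `Sg`
  have hH : ∀ h ∈ chevG2.diagonalSubgroup K ⊓ twistedG2 K (3 ^ m), h ∈ Sg := by
    intro h hh
    have := hgen h hh
    exact (Subgroup.zpowers_le.mpr hkS) this
  -- the conjugate of `k` by `n₀`
  have hk' : n₀⁻¹ * k * n₀ ∈ chevG2.diagonalSubgroup K ⊓ twistedG2 K (3 ^ m) :=
    ⟨h8reeN0_conj_H hK hB k hk.1,
      Subgroup.mul_mem _ (Subgroup.mul_mem _ (Subgroup.inv_mem _ hn₀G) hk.2) hn₀G⟩
  have hk'S := hH _ hk'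
  -- the subgroup `T`
  set T : Subgroup (GL chevG2.Idx K) := Sg.comap (MulAut.conj n₀⁻¹).toMonoidHom with hT
  have hTmem : ∀ g, g ∈ T ↔ n₀⁻¹ * g * n₀ ∈ Sg := by
    intro g
    rw [hT, Subgroup.mem_comap]
    simp
  have hkT : ∀ g ∈ T, k * g * k⁻¹ ∈ T := by
    intro g hg
    rw [hTmem] at hg ⊢
    have e : n₀⁻¹ * (k * g * k⁻¹) * n₀ = (n₀⁻¹ * k * n₀) * (n₀⁻¹ * g * n₀) * (n₀⁻¹ * k * n₀)⁻¹ := by
      group
    rw [e]
    exact Subgroup.mul_mem _ (Subgroup.mul_mem _ hk'S hg) (Subgroup.inv_mem _ hk'S)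
  -- the element `z`
  have hconj := h8reeW_conj' hK hB k hk 1 0 0
  rw [mul_one, mul_zero, mul_zero] at hconj
  have hzU : x⁻¹ * (k * x * k⁻¹) ∈ chevG2.posUnipotent K ⊓ twistedG2 K (3 ^ m) := by
    apply Subgroup.mul_mem _ (Subgroup.inv_mem _ hxU)
    rw [hx, hconj]
    exact (h8reeW_mem_iff hK hB _).mpr ⟨_, _, _, rfl⟩
  obtain ⟨t₀, u₀, v₀, ez⟩ := (h8reeW_mem_iff hK hB _).mp hzU
  have ht₀ : t₀ ≠ 0 := by
    have e1 : x * h8reeW hB m t₀ u₀ v₀ = h8reeW hB m (h8chi chevG2 hB k 6) 0 0 := by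
      rw [← ez, mul_inv_cancel_left, hx, hconj]
    rw [hx, h8reeW_mul' hK hB] at e1
    obtain ⟨e2, _, _⟩ := h8reeW_inj hK hB _ _ _ _ _ _ e1
    intro h0
    rw [h0, add_zero] at e2
    exact hχ1 e2.symm
  have hzT : h8reeW hB m t₀ u₀ v₀ ∈ T := by
    rw [← ez, hTmem]
    have e : n₀⁻¹ * (x⁻¹ * (k * x * k⁻¹)) * n₀ =
        (x * n₀)⁻¹ * k * (x * n₀) * (n₀⁻¹ * k * n₀)⁻¹ := by group
    rw [e]
    exact Subgroup.mul_mem _ (Subgroup.mul_mem _ (Subgroup.mul_mem _ (Subgroup.inv_mem _ hbS) hkS)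
      hbS) (Subgroup.inv_mem _ hk'S)
  have hall := h8ree_claim hK hB T k hk hkT h6 h10 t₀ u₀ v₀ ht₀ hzT s hs
  -- `U ∩ ²G₂(q)` lies in `Sg`
  have hU : ∀ g ∈ chevG2.posUnipotent K ⊓ twistedG2 K (3 ^ m), g ∈ Sg := by
    intro g hg
    have hg' : x⁻¹ * g * x ∈ chevG2.posUnipotent K ⊓ twistedG2 K (3 ^ m) :=
      Subgroup.mul_mem _ (Subgroup.mul_mem _ (Subgroup.inv_mem _ hxU) hg) hxU
    obtain ⟨t, u, v, e⟩ := (h8reeW_mem_iff hK hB _).mp hg'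
    have h1 := (hTmem _).mp (hall t u v)
    rw [← e] at h1
    have e2 : g = (x * n₀) * (n₀⁻¹ * (x⁻¹ * g * x) * n₀) * (x * n₀)⁻¹ := by group
    rw [e2]
    exact Subgroup.mul_mem _ (Subgroup.mul_mem _ hbS h1) (Subgroup.inv_mem _ hbS)
  have hxS : x ∈ Sg := hU x hxU
  have hn₀S : n₀ ∈ Sg := by
    have e : n₀ = x⁻¹ * (x * n₀) := by group
    rw [e]
    exact Subgroup.mul_mem _ (Subgroup.inv_mem _ hxS) hbS
  -- conclusion from the `BN`-pair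
  obtain ⟨P, hPB, hPN, _⟩ := h8ree_bnpair hK hB
  have hBle : P.B ≤ Sg.comap (twistedG2 K (3 ^ m)).subtype := by
    intro y hy
    rw [hPB, Subgroup.mem_subgroupOf] at hy
    obtain ⟨u, hu, h, hh, e⟩ := h8ree_B1_decomp hK hB y.val hy.1 hy.2
    rw [Subgroup.mem_comap, Subgroup.coe_subtype, e]
    exact Subgroup.mul_mem _ (hU u hu) (hH h hh)
  have hNle : P.N ≤ Sg.comap (twistedG2 K (3 ^ m)).subtype := by
    intro y hy
    rw [hPN, Subgroup.mem_subgroupOf] at hy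
    rw [Subgroup.mem_comap, Subgroup.coe_subtype]
    rcases h8ree_N1_decomp hK hB y.val hy.1 hy.2 with h | h
    · exact hH _ ⟨h, hy.2⟩
    · have e : y.val = n₀ * (n₀⁻¹ * y.val) := by group
      rw [e]
      exact Subgroup.mul_mem _ hn₀S
        (hH _ ⟨h, Subgroup.mul_mem _ (Subgroup.inv_mem _ hn₀G) hy.2⟩)
  have htop : (⊤ : Subgroup ↥(twistedG2 K (3 ^ m))) ≤
      Sg.comap (twistedG2 K (3 ^ m)).subtype := by
    rw [← P.sup_eq_top]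
    exact sup_le hBle hNle
  intro g hg
  have := htop (Subgroup.mem_top (⟨g, hg⟩ : ↥(twistedG2 K (3 ^ m))))
  rwa [Subgroup.mem_comap] at this

/-- `²G₂(q)`, `q ≥ 27`, is generated by two elements -/
theorem h8ree_two_gen (hm : 1 ≤ m) (hK : Fintype.card K = 3 ^ (2 * m + 1)) :
    ∃ a b : ↥(twistedG2 K (3 ^ m)),
      Subgroup.closure ({a, b} : Set ↥(twistedG2 K (3 ^ m))) = ⊤ := by
  have hD : chevG2 ∈ [chevG2, chevB2, chevD4, chevF4, chevE6, chevE7, chevE8] := by simp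
  have hB := h8base_all.{u} chevG2 hD
  obtain ⟨a, b, ha, hb, hgen⟩ := h8ree_two_gen_GL hm hK hB
  refine ⟨⟨a, ha⟩, ⟨b, hb⟩, ?_⟩
  rw [eq_top_iff]
  intro g _
  have h1 := hgen g.val g.2
  have h2 : (Subgroup.closure ({⟨a, ha⟩, ⟨b, hb⟩} : Set ↥(twistedG2 K (3 ^ m)))).map
      (twistedG2 K (3 ^ m)).subtype = Subgroup.closure ({a, b} : Set (GL chevG2.Idx K)) := by
    rw [MonoidHom.map_closure]
    congr 1
    simp [Set.image_pair]
  rw [← h2] at h1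
  obtain ⟨y, hy, e⟩ := Subgroup.mem_map.mp h1
  have : y = g := Subtype.ext e
  rw [← this]
  exact hy

end Cfsg.Agent.Lib.helper8
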