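import Mathlib
import Cfsg.Prelude.Def_ChevStructure
import Cfsg.Prelude.Def_ChevG2
import Cfsg.Prelude.Def_LieTwisted
import Cfsg.Agent.Lib.helper8.ChevRee49
import Cfsg.Agent.Lib.helper8.ChevRee47
import Cfsg.Agent.Lib.helper8.ChevRee42
import Cfsg.Agent.Lib.helper8.ChevSLP3
import Cfsg.Agent.Lib.helper8.ChevReeC1

set_option autoImplicit false

namespace Cfsg.Agent.Lib.helper8

open Cfsg.Lie Cfsg.Lie.ChevalleyDatum Matrix

universe u

/-- product of two homomorphisms with commuting images, the second one twisted -/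
def h8twProd {G Γ : Type*} [Group G] [Group Γ] (φ φ' : G →* Γ) (τ : G →* G)
    (hc : ∀ g g', Commute (φ g) (φ' g')) : G →* Γ where
  toFun g := φ g * φ' (τ g)
  map_one' := by simp
  map_mul' g g' := by
    rw [map_mul, map_mul, map_mul]
    have := (hc g' (τ g)).eq
    calc φ g * φ g' * (φ' (τ g) * φ' (τ g')) = φ g * (φ g' * φ' (τ g)) * φ' (τ g') := by group
      _ = φ g * (φ' (τ g) * φ g') * φ' (τ g') := by rw [this]
      _ = _ := by group

theorem h8twProd_apply {G Γ : Type*} [Group G] [Group Γ] (φ φ' : G →* Γ) (τ : G →* G)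
    (hc : ∀ g g', Commute (φ g) (φ' g')) (g : G) :
    h8twProd φ φ' τ hc g = φ g * φ' (τ g) := rfl

variable {K : Type u} [Field K]

theorem h8reeC_ct : chevG2.commTerms 10 8 = [] ∧ chevG2.commTerms 10 3 = [] ∧
    chevG2.commTerms 1 8 = [] ∧ chevG2.commTerms 1 3 = [] := by decide +kernel

/-- the root subgroups for `±(3a+b)` commute with those for `±(a+b)` -/
theorem h8reeC_comm (hB : H8Base.{u} chevG2) (hC : H8CommAll.{u} chevG2) (r s : ℕ)
    (hr : r = 10 ∨ r = 1) (hs : s = 8 ∨ s = 3) (t u : K) :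
    Commute (h8xU chevG2 hB r t) (h8xU chevG2 hB s u) := by
  obtain ⟨c1, c2, c3, c4⟩ := h8reeC_ct
  rcases hr with rfl | rfl <;> rcases hs with rfl | rfl
  · exact h8comm_char chevG2 hB hC 10 8 (by decide) (by decide) (by decide) (by decide)
      (by rw [c1]; intro c hc; cases hc) t u
  · exact h8comm_char chevG2 hB hC 10 3 (by decide) (by decide) (by decide) (by decide)
      (by rw [c2]; intro c hc; cases hc) t u
  · exact h8comm_char chevG2 hB hC 1 8 (by decide) (by decide) (by decide) (by decide)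
      (by rw [c3]; intro c hc; cases hc) t u
  · exact h8comm_char chevG2 hB hC 1 3 (by decide) (by decide) (by decide) (by decide)
      (by rw [c4]; intro c hc; cases hc) t u

/-- the two `SL₂`-homomorphisms for the orthogonal roots `3a+b` and `a+b`, with commuting images -/
theorem h8reeC_homs (hB : H8Base.{u} chevG2) :
    ∃ φ φ' : SpecialLinearGroup (Fin 2) K →* GL chevG2.Idx K,
      (∀ g g', Commute (φ g) (φ' g')) ∧
      (∀ t, φ (h8slU t) = h8xU chevG2 hB 10 t) ∧ (∀ t, φ (h8slL t) = h8xU chevG2 hB 1 t) ∧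
      (∀ t, φ' (h8slU t) = h8xU chevG2 hB 8 t) ∧ (∀ t, φ' (h8slL t) = h8xU chevG2 hB 3 t) := by
  have hD : chevG2 ∈ [chevG2, chevB2, chevD4, chevF4, chevE6, chevE7, chevE8] := by simp
  have hA := h8reflAll chevG2 hD
  have hC := h8commAll.{u} chevG2 hD
  have hsc := h8scChk_all chevG2 hD
  have hc2 := h8cartan_simple chevG2 hD
  obtain ⟨dep, par, horb⟩ := h8orb_chk_all chevG2 hD
  obtain ⟨φ, hK, hup, hlo⟩ := h8slHom_all (F := K) chevG2 hB hA hsc hc2 dep par horb 10 (by decide)
  obtain ⟨φ', hK', hup', hlo'⟩ :=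
    h8slHom_all (F := K) chevG2 hB hA hsc hc2 dep par horb 8 (by decide)
  have n10 : chevG2.negIdx.getD 10 0 = 1 := rfl
  have n8 : chevG2.negIdx.getD 8 0 = 3 := rfl
  rw [n10] at hK hlo
  rw [n8] at hK' hlo'
  refine ⟨φ, φ', ?_, fun t => hup _ t rfl, fun t => hlo _ t rfl, fun t => hup' _ t rfl,
    fun t => hlo' _ t rfl⟩
  -- commutation
  have h1 : ∀ g, ∀ s, (s = 8 ∨ s = 3) → ∀ u, Commute (φ g) (h8xU chevG2 hB s u) := by
    intro g s hs u
    have := hK (Subgroup.centralizer {h8xU chevG2 hB s u})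
      (fun t => by
        rw [Subgroup.mem_centralizer_iff]
        intro y hy
        rw [Set.mem_singleton_iff.mp hy]
        exact ((h8reeC_comm hB hC 10 s (Or.inl rfl) hs t u).eq).symm)
      (fun t => by
        rw [Subgroup.mem_centralizer_iff]
        intro y hy
        rw [Set.mem_singleton_iff.mp hy]
        exact ((h8reeC_comm hB hC 1 s (Or.inr rfl) hs t u).eq).symm) g
    rw [Subgroup.mem_centralizer_iff] at this
    exact (this _ rfl).symm
  intro g g'
  have := hK' (Subgroup.centralizer {φ g})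
    (fun t => by
      rw [Subgroup.mem_centralizer_iff]
      intro y hy
      rw [Set.mem_singleton_iff.mp hy]
      exact (h1 g 8 (Or.inl rfl) t).eq)
    (fun t => by
      rw [Subgroup.mem_centralizer_iff]
      intro y hy
      rw [Set.mem_singleton_iff.mp hy]
      exact (h1 g 3 (Or.inr rfl) t).eq) g'
  rw [Subgroup.mem_centralizer_iff] at this
  exact this _ rfl

end Cfsg.Agent.Lib.helper8
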