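import Mathlib
import Cfsg.Prelude.Def_ChevStructure
import Cfsg.Prelude.Def_ChevG2
import Cfsg.Prelude.Def_LieTwisted
import Cfsg.Agent.Lib.helper8.ChevReeC2

set_option autoImplicit false

namespace Cfsg.Agent.Lib.helper8

open Cfsg.Lie Cfsg.Lie.ChevalleyDatum Matrix

universe u

variable {K : Type u} [Field K]

theorem h8reeC_Vword (hB : H8Base.{u} chevG2) (e : ℕ) (he : e ≠ 0) (hodd : Odd e) (t : K) :
    h8wordU chevG2 hB (reeWordV e 0 (-t) 0) = h8xU chevG2 hB 3 (t ^ e) * h8xU chevG2 hB 1 t := by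
  unfold reeWordV ChevalleyDatum.negWord reeWordU g2a g2b g2ab g2aab g2aaab g2aaabb
  simp only [List.map_cons, List.map_nil, h8wordU_cons]
  have n7 : chevG2.negIdx.getD 7 0 = 4 := rfl
  have n6 : chevG2.negIdx.getD 6 0 = 5 := rfl
  have n8 : chevG2.negIdx.getD 8 0 = 3 := rfl
  have n9 : chevG2.negIdx.getD 9 0 = 2 := rfl
  have n10 : chevG2.negIdx.getD 10 0 = 1 := rfl
  have n11 : chevG2.negIdx.getD 11 0 = 0 := rfl
  have e0 : h8wordU chevG2 hB ([] : List (ℕ × K)) = 1 := rfl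
  rw [n7, n6, n8, n9, n10, n11, zero_pow he, zero_pow (Nat.succ_ne_zero _),
    zero_pow (Nat.succ_ne_zero _), e0, hodd.neg_pow]
  simp only [zero_add, add_zero, neg_zero, neg_neg, h8xU_zero', one_mul, mul_one]

variable [Fintype K] {m : ℕ}

/-- the diagonal homomorphism from `SL₂(q)` into the Ree group -/
theorem h8reeC_psi (hK : Fintype.card K = 3 ^ (2 * m + 1)) (hB : H8Base.{u} chevG2) :
    ∃ ψ : SpecialLinearGroup (Fin 2) K →* GL chevG2.Idx K,
      (∀ t, ψ (h8slU t) = h8reeW hB m 0 t 0) ∧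
      (∀ t, ψ (h8slL t) = h8wordU chevG2 hB (reeWordV (3 ^ m) 0 (-t) 0)) ∧
      ψ h8slW = h8reeN0 hB (3 ^ m) ∧
      (∀ t, t ≠ 0 → ψ (h8slD t) = h8hU chevG2 hB 10 t * h8hU chevG2 hB 8 (t ^ 3 ^ m)) := by
  have hD : chevG2 ∈ [chevG2, chevB2, chevD4, chevF4, chevE6, chevE7, chevE8] := by simp
  have hC := h8commAll.{u} chevG2 hD
  have hch := h8ree_char3 hK
  obtain ⟨R, hfe⟩ := h8ree_setup hK hB
  obtain ⟨φ, φ', hcomm, hU, hL, hU', hL'⟩ := h8reeC_homs (K := K) hB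
  have he : (3 ^ m : ℕ) ≠ 0 := pow_ne_zero _ (by norm_num)
  have hodd : Odd (3 ^ m : ℕ) := Odd.pow (by decide)
  let θ : K →+* K := (R.f : K →+* K)
  have hθ : ∀ t : K, θ t = t ^ 3 ^ m := fun t => hfe t
  refine ⟨h8twProd φ φ' (SpecialLinearGroup.map θ) hcomm, ?_, ?_, ?_, ?_⟩
  · intro t
    rw [h8twProd_apply, h8slU_map, hU, hU', hθ]
    unfold h8reeW
    rw [h8reeWordU_zero R hC (3 ^ m) hfe, map_zero, hfe]
    unfold h8reeQ4
    rw [h8xU_zero', h8xU_zero', mul_one, mul_one]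
    exact (h8reeC_comm hB hC 10 8 (Or.inl rfl) (Or.inl rfl) _ _).eq
  · intro t
    rw [h8twProd_apply, h8slL_map, hL, hL', hθ, h8reeC_Vword hB _ he hodd]
    exact (h8reeC_comm hB hC 1 3 (Or.inr rfl) (Or.inr rfl) _ _).eq
  · rw [h8twProd_apply, h8slW_map, h8slW_eq, map_mul, map_mul, map_mul, map_mul, hU, hL, hU', hL',
      h8reeN0_eq_nn hC _ he, h8nU_eq, h8nU_eq]
    have n10 : chevG2.negIdx.getD 10 0 = 1 := rfl
    have n8 : chevG2.negIdx.getD 8 0 = 3 := rfl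
    rw [n10, n8, inv_one]
    have c1 := h8reeC_comm (K := K) hB hC 10 8 (Or.inl rfl) (Or.inl rfl) 1 1
    have c2 := h8reeC_comm (K := K) hB hC 10 3 (Or.inl rfl) (Or.inr rfl) 1 (-1)
    have c3 := h8reeC_comm (K := K) hB hC 1 8 (Or.inr rfl) (Or.inl rfl) (-1) 1
    have c4 := h8reeC_comm (K := K) hB hC 1 3 (Or.inr rfl) (Or.inr rfl) (-1) (-1)
    have cA : Commute (h8xU chevG2 hB 10 (1 : K) * h8xU chevG2 hB 1 (-1) * h8xU chevG2 hB 10 1)
        (h8xU chevG2 hB 8 (1 : K) * h8xU chevG2 hB 3 (-1) * h8xU chevG2 hB 8 1) := by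
      apply Commute.mul_left (Commute.mul_left _ _) _
      · exact Commute.mul_right (Commute.mul_right c1 c2) c1
      · exact Commute.mul_right (Commute.mul_right c3 c4) c3
      · exact Commute.mul_right (Commute.mul_right c1 c2) c1
    exact cA.eq
  · intro t ht
    have ht' : θ t ≠ 0 := (map_ne_zero θ).mpr ht
    have key : ∀ (χ : SpecialLinearGroup (Fin 2) K →* GL chevG2.Idx K) (r : ℕ) (s : K),
        s ≠ 0 → (∀ t, χ (h8slU t) = h8xU chevG2 hB r t) →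
        (∀ t, χ (h8slL t) = h8xU chevG2 hB (chevG2.negIdx.getD r 0) t) →
        χ (h8slD s) = h8hU chevG2 hB r s := by
      intro χ r s hs h1 h2
      have e1 := congrArg χ (h8slD_eq s hs)
      have e2 := congrArg χ (h8slW_eq (F := K))
      rw [map_mul, map_mul, map_mul, h1, h2] at e1
      rw [map_mul, map_mul, h1, h2] at e2
      have e3 : h8nU chevG2 hB r (1 : K) =
          h8xU chevG2 hB r 1 * h8xU chevG2 hB (chevG2.negIdx.getD r 0) (-1) * h8xU chevG2 hB r 1 := by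
        rw [h8nU_eq, inv_one]
      have e4 : χ (h8slD s) * h8nU chevG2 hB r 1 = h8hU chevG2 hB r s * h8nU chevG2 hB r 1 := by
        rw [← h8nU_eq_hU chevG2 hB r s, h8nU_eq chevG2 hB r s, ← e1, e2, e3]
      exact mul_right_cancel e4
    rw [h8twProd_apply, h8slD_map θ t ht, key φ 10 t ht hU hL, key φ' 8 _ ht' hU' hL', hθ]

end Cfsg.Agent.Lib.helper8
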