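import Mathlib
import Cfsg.Prelude.Def_ChevStructure
import Cfsg.Prelude.Def_ChevG2
import Cfsg.Prelude.Def_LieTwisted
import Cfsg.Agent.Lib.helper8.ChevReeC3

set_option autoImplicit false

namespace Cfsg.Agent.Lib.helper8

open Cfsg.Lie Cfsg.Lie.ChevalleyDatum Matrix

universe u

variable {K : Type u} [Field K]

/-- the diagonal homomorphism `SL₂(q) → ²G₂(q)` with its values on the standard elements -/
structure H8ReePsi [Fintype K] (hB : H8Base.{u} chevG2) (m : ℕ)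
    (ψ : SpecialLinearGroup (Fin 2) K →* GL chevG2.Idx K) : Prop where
  hU : ∀ t, ψ (h8slU t) = h8reeW hB m 0 t 0
  hL : ∀ t, ψ (h8slL t) = h8wordU chevG2 hB (reeWordV (3 ^ m) 0 (-t) 0)
  hW : ψ h8slW = h8reeN0 hB (3 ^ m)
  hD : ∀ t, t ≠ 0 → ψ (h8slD t) = h8hU chevG2 hB 10 t * h8hU chevG2 hB 8 (t ^ 3 ^ m)

theorem h8reeC_K : h8K chevG2 10 7 = 1 ∧ h8K chevG2 8 7 = -1 ∧ h8K chevG2 10 6 = -1 ∧
    h8K chevG2 8 6 = 3 ∧ h8K chevG2 10 10 = 2 ∧ h8K chevG2 8 10 = 0 := by decide +kernel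

variable [Fintype K] {m : ℕ} {hB : H8Base.{u} chevG2}
  {ψ : SpecialLinearGroup (Fin 2) K →* GL chevG2.Idx K}

theorem H8ReePsi.mem (P : H8ReePsi hB m ψ) (g : SpecialLinearGroup (Fin 2) K) :
    ψ g ∈ twistedG2 K (3 ^ m) := by
  have := h8sl_gen ((twistedG2 K (3 ^ m)).comap ψ)
    (fun t => by
      rw [Subgroup.mem_comap, P.hU]
      exact h8reeWordU_mem hB _ _ _ _)
    (fun t => by
      rw [Subgroup.mem_comap, P.hL]
      exact h8reeWordV_mem hB _ _ _ _) g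
  exact this

theorem H8ReePsi.D_mem_H (P : H8ReePsi hB m ψ) (t : K) (ht : t ≠ 0) :
    ψ (h8slD t) ∈ chevG2.diagonalSubgroup K := by
  rw [P.hD t ht]
  exact Subgroup.mul_mem _ (h8hU_mem_H chevG2 hB 10 (by decide) t ht)
    (h8hU_mem_H chevG2 hB 8 (by decide) _ (pow_ne_zero _ ht))

theorem H8ReePsi.D_chi (P : H8ReePsi hB m ψ) (t : K) (ht : t ≠ 0) (r : ℕ) (hr : r < 12) :
    h8chi chevG2 hB (ψ (h8slD t)) r = t ^ (h8K chevG2 10 r) * (t ^ 3 ^ m) ^ (h8K chevG2 8 r) := by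
  have hD : chevG2 ∈ [chevG2, chevB2, chevD4, chevF4, chevE6, chevE7, chevE8] := by simp
  have hA := h8reflAll chevG2 hD
  have hW := h8bn2_all chevG2 hD
  rw [P.hD t ht, h8chi_mul chevG2 hB hA hW _ _ (h8hU_mem_H chevG2 hB 10 (by decide) t ht)
    (h8hU_mem_H chevG2 hB 8 (by decide) _ (pow_ne_zero _ ht)) r hr,
    h8chi_hU chevG2 hB hA hW 10 (by decide) t ht r hr,
    h8chi_hU chevG2 hB hA hW 8 (by decide) _ (pow_ne_zero _ ht) r hr]

theorem H8ReePsi.U_mem_U (P : H8ReePsi hB m ψ) (hK : Fintype.card K = 3 ^ (2 * m + 1)) (t : K) :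
    ψ (h8slU t) ∈ chevG2.posUnipotent K := by
  rw [P.hU]
  exact ((h8reeW_mem_iff hK hB _).mpr ⟨0, t, 0, rfl⟩).1

/-- the image of an element with non-zero lower left entry is not in `B` -/
theorem H8ReePsi.not_B (P : H8ReePsi hB m ψ) (hK : Fintype.card K = 3 ^ (2 * m + 1))
    (g : SpecialLinearGroup (Fin 2) K) (hc : g 1 0 ≠ 0) : ψ g ∉ chevG2.borelSubgroup K := by
  intro hmem
  rcases h8sl_decomp g with ⟨h0, _, _⟩ | ⟨_, e⟩
  · exact hc h0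
  · rw [e, map_mul, map_mul, map_mul, P.hW] at hmem
    have hU1 : ψ (h8slU (g 0 0 / g 1 0)) ∈ chevG2.borelSubgroup K :=
      Subgroup.mem_sup_left (P.U_mem_U hK _)
    have hU2 : ψ (h8slU (g 1 1 / g 1 0)) ∈ chevG2.borelSubgroup K :=
      Subgroup.mem_sup_left (P.U_mem_U hK _)
    have hD1 : ψ (h8slD (-(g 1 0))) ∈ chevG2.borelSubgroup K :=
      Subgroup.mem_sup_right (P.D_mem_H _ (neg_ne_zero.mpr hc))
    have e2 : h8reeN0 hB (3 ^ m) = (ψ (h8slU (g 0 0 / g 1 0)))⁻¹ *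
        (ψ (h8slU (g 0 0 / g 1 0)) * (h8reeN0 hB (3 ^ m) *
          (ψ (h8slD (-(g 1 0))) * ψ (h8slU (g 1 1 / g 1 0))))) *
        (ψ (h8slD (-(g 1 0))) * ψ (h8slU (g 1 1 / g 1 0)))⁻¹ := by group
    apply h8reeN0_not_B hK hB
    rw [e2]
    exact Subgroup.mul_mem _ (Subgroup.mul_mem _ (Subgroup.inv_mem _ hU1) hmem)
      (Subgroup.inv_mem _ (Subgroup.mul_mem _ hD1 hU2))

/-- the image of an upper triangular matrix: its two components -/
theorem H8ReePsi.tri (P : H8ReePsi hB m ψ) (hK : Fintype.card K = 3 ^ (2 * m + 1))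
    (g : SpecialLinearGroup (Fin 2) K) (hc : g 1 0 = 0) (k : GL chevG2.Idx K)
    (hk : k ∈ chevG2.diagonalSubgroup K) (h : ψ g = k) :
    g 0 1 = 0 ∧ g 0 0 ≠ 0 ∧ ψ (h8slD (g 0 0)) = k ∧ g = h8slD (g 0 0) := by
  rcases h8sl_decomp g with ⟨_, ha, e⟩ | ⟨hc', _⟩
  · have e' := e
    rw [e] at h
    rw [map_mul] at h
    have h1 : ψ (h8slU (g 0 0 * g 0 1)) = k * (ψ (h8slD (g 0 0)))⁻¹ := by
      rw [← h, mul_inv_cancel_right]
    have h2 : ψ (h8slU (g 0 0 * g 0 1)) ∈ chevG2.posUnipotent K ⊓ chevG2.diagonalSubgroup K := by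
      refine Subgroup.mem_inf.mpr ⟨P.U_mem_U hK _, ?_⟩
      rw [h1]
      exact Subgroup.mul_mem _ hk (Subgroup.inv_mem _ (P.D_mem_H _ ha))
    rw [h8_U_inf_H chevG2 hB, Subgroup.mem_bot, P.hU, ← h8reeW_zero hK hB] at h2
    obtain ⟨_, h3, _⟩ := h8reeW_inj hK hB _ _ _ _ _ _ h2
    have hb : g 0 1 = 0 := by
      rcases mul_eq_zero.mp h3 with h4 | h4
      · exact absurd h4 ha
      · exact h4
    refine ⟨hb, ha, ?_, ?_⟩
    · rw [hb, mul_zero, h8slU_zero, map_one, one_mul] at h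
      exact h
    · rw [hb, mul_zero, h8slU_zero, one_mul] at e'
      exact e'
  · exact absurd hc hc'

end Cfsg.Agent.Lib.helper8
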