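import Mathlib
import Cfsg.Prelude.Def_ChevStructure
import Cfsg.Prelude.Def_ChevG2
import Cfsg.Prelude.Def_LieTwisted
import Cfsg.Agent.Lib.helper8.ChevReeC4

set_option autoImplicit false

namespace Cfsg.Agent.Lib.helper8

open Cfsg.Lie Cfsg.Lie.ChevalleyDatum Matrix

universe u

variable {K : Type u} [Field K] [Fintype K] {m : ℕ} {hB : H8Base.{u} chevG2}
  {ψ : SpecialLinearGroup (Fin 2) K →* GL chevG2.Idx K}

theorem h8sq_eq_one {F : Type*} [Field F] (s : F) (h : s ^ 2 = 1) : s = 1 ∨ s = -1 := by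
  have : (s - 1) * (s + 1) = 0 := by linear_combination h
  rcases mul_eq_zero.mp this with h1 | h1
  · left; linear_combination h1
  · right; linear_combination h1

/-- the kernel of the diagonal homomorphism -/
theorem H8ReePsi.ker (P : H8ReePsi hB m ψ) (hK : Fintype.card K = 3 ^ (2 * m + 1))
    (g : SpecialLinearGroup (Fin 2) K) (h : ψ g = 1) : g = 1 ∨ g = -1 := by
  have hD : chevG2 ∈ [chevG2, chevB2, chevD4, chevF4, chevE6, chevE7, chevE8] := by simp
  have hA := h8reflAll chevG2 hD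
  have hW := h8bn2_all chevG2 hD
  by_cases hc : g 1 0 = 0
  · obtain ⟨hb, ha, h1, e⟩ := P.tri hK g hc 1 (Subgroup.one_mem _) h
    have h2 := P.D_chi (g 0 0) ha 10 (by decide)
    rw [h1, h8chi_one chevG2 hB hA hW 10 (by decide), h8reeC_K.2.2.2.2.1, h8reeC_K.2.2.2.2.2,
      zpow_zero, mul_one] at h2
    have h3 : (g 0 0) ^ 2 = 1 := by
      rw [← zpow_natCast]
      exact h2.symm
    rcases h8sq_eq_one _ h3 with h4 | h4
    · left
      rw [e, h4, h8slD_one]
    · right
      rw [e, h4, h8slD_neg_one]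
  · exfalso
    apply P.not_B hK g hc
    rw [h]
    exact Subgroup.one_mem _

theorem H8ReePsi.neg_one (P : H8ReePsi hB m ψ) (hK : Fintype.card K = 3 ^ (2 * m + 1)) :
    ψ (-1) = 1 := by
  have hD : chevG2 ∈ [chevG2, chevB2, chevD4, chevF4, chevE6, chevE7, chevE8] := by simp
  have hA := h8reflAll chevG2 hD
  have hBN := h8bn_all chevG2 hD
  have hW := h8bn2_all chevG2 hD
  have hch := h8ree_char3 hK
  have hne : (-1 : K) ≠ 0 := neg_ne_zero.mpr one_ne_zero
  have hodd : Odd (3 ^ m : ℕ) := Odd.pow (by decide)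
  rw [← h8slD_neg_one]
  apply h8ree_H_inj h8ree_exists_ne hA hBN hW _ (P.D_mem_H _ hne)
  · rw [P.D_chi _ hne 7 (by decide), h8reeC_K.1, h8reeC_K.2.1, hodd.neg_one_pow]
    norm_num
  · rw [P.D_chi _ hne 6 (by decide), h8reeC_K.2.2.1, h8reeC_K.2.2.2.1, hodd.neg_one_pow]
    norm_num

end Cfsg.Agent.Lib.helper8
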