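import Mathlib
import Cfsg.Prelude.Def_ChevStructure
import Cfsg.Prelude.Def_ChevG2
import Cfsg.Prelude.Def_LieTwisted
import Cfsg.Agent.Lib.helper8.ChevReeC5

set_option autoImplicit false

namespace Cfsg.Agent.Lib.helper8

open Cfsg.Lie Cfsg.Lie.ChevalleyDatum Matrix

universe u

variable {K : Type u} [Field K] [Fintype K] {m : ℕ} {hB : H8Base.{u} chevG2}
  {ψ : SpecialLinearGroup (Fin 2) K →* GL chevG2.Idx K}

/-- the character value of an involution of `H ∩ ²G₂(q)` -/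
theorem h8reeC_invol_chi (hK : Fintype.card K = 3 ^ (2 * m + 1)) (hB : H8Base.{u} chevG2)
    (hA : H8ReflAll chevG2) (hW : H8BN2 chevG2)
    (a : GL chevG2.Idx K) (ha : a ∈ chevG2.diagonalSubgroup K ⊓ twistedG2 K (3 ^ m))
    (h1 : a ≠ 1) (h2 : a * a = 1) :
    h8reeChiHom (K := K) hB hA hW (3 ^ m) ⟨a, ha⟩ = -1 := by
  have hinj := h8reeChiHom_injective hK hB hA hW
  set χ := h8reeChiHom (K := K) hB hA hW (3 ^ m) with hχ
  have e1 : χ ⟨a, ha⟩ * χ ⟨a, ha⟩ = 1 := by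
    rw [← map_mul]
    have : (⟨a, ha⟩ : ↥(chevG2.diagonalSubgroup K ⊓ twistedG2 K (3 ^ m))) * ⟨a, ha⟩ = 1 :=
      Subtype.ext h2
    rw [this, map_one]
  have e2 : ((χ ⟨a, ha⟩ : Kˣ) : K) ^ 2 = 1 := by
    have := congrArg Units.val e1
    rw [Units.val_mul, Units.val_one] at this
    rw [pow_two]
    exact this
  rcases h8sq_eq_one _ e2 with e3 | e3
  · exfalso
    apply h1
    have : χ ⟨a, ha⟩ = χ 1 := by
      rw [map_one]
      exact Units.ext e3
    exact congrArg Subtype.val (hinj this)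
  · apply Units.ext
    rw [e3]
    simp

/-- `H ∩ ²G₂(q)` has only one involution -/
theorem h8reeC_invol_unique (hK : Fintype.card K = 3 ^ (2 * m + 1)) (hB : H8Base.{u} chevG2)
    (a a' : GL chevG2.Idx K) (ha : a ∈ chevG2.diagonalSubgroup K ⊓ twistedG2 K (3 ^ m))
    (ha' : a' ∈ chevG2.diagonalSubgroup K ⊓ twistedG2 K (3 ^ m))
    (h1 : a ≠ 1) (h1' : a' ≠ 1) (h2 : a * a = 1) (h2' : a' * a' = 1) : a = a' := by
  have hD : chevG2 ∈ [chevG2, chevB2, chevD4, chevF4, chevE6, chevE7, chevE8] := by simp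
  have hA := h8reflAll chevG2 hD
  have hW := h8bn2_all chevG2 hD
  have hinj := h8reeChiHom_injective hK hB hA hW
  have e := (h8reeC_invol_chi hK hB hA hW a ha h1 h2).trans
    (h8reeC_invol_chi hK hB hA hW a' ha' h1' h2').symm
  exact congrArg Subtype.val (hinj e)

/-- the action of the involution on `U ∩ ²G₂(q)` -/
theorem h8reeC_invol_act (hK : Fintype.card K = 3 ^ (2 * m + 1)) (hB : H8Base.{u} chevG2)
    (a : GL chevG2.Idx K) (ha : a ∈ chevG2.diagonalSubgroup K ⊓ twistedG2 K (3 ^ m))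
    (h1 : a ≠ 1) (h2 : a * a = 1) (t u v : K) :
    a * h8reeW hB m t u v * a⁻¹ = h8reeW hB m (-t) u (-v) := by
  obtain ⟨h₀, hh₀, hne, hsq, hact⟩ := h8ree_invol_act hK hB
  rw [h8reeC_invol_unique hK hB a h₀ ha hh₀ h1 hne h2 hsq]
  exact hact t u v

/-- the involution commutes with `n₀` -/
theorem h8reeC_invol_n0 (hK : Fintype.card K = 3 ^ (2 * m + 1)) (hB : H8Base.{u} chevG2)
    (a : GL chevG2.Idx K) (ha : a ∈ chevG2.diagonalSubgroup K ⊓ twistedG2 K (3 ^ m))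
    (h1 : a ≠ 1) (h2 : a * a = 1) :
    a * h8reeN0 hB (3 ^ m) = h8reeN0 hB (3 ^ m) * a := by
  have hmem : (h8reeN0 hB (3 ^ m))⁻¹ * a * h8reeN0 hB (3 ^ m) ∈
      chevG2.diagonalSubgroup K ⊓ twistedG2 K (3 ^ m) :=
    Subgroup.mem_inf.mpr ⟨h8reeN0_conj_H hK hB a ha.1,
      Subgroup.mul_mem _ (Subgroup.mul_mem _ (Subgroup.inv_mem _ (h8reeN0_mem _)) ha.2)
        (h8reeN0_mem _)⟩
  have hne : (h8reeN0 hB (3 ^ m))⁻¹ * a * h8reeN0 hB (3 ^ m) ≠ 1 := by
    intro h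
    apply h1
    have : a = h8reeN0 hB (3 ^ m) * ((h8reeN0 hB (3 ^ m))⁻¹ * a * h8reeN0 hB (3 ^ m)) *
        (h8reeN0 hB (3 ^ m))⁻¹ := by group
    rw [this, h]
    group
  have hsq : ((h8reeN0 hB (3 ^ m))⁻¹ * a * h8reeN0 hB (3 ^ m)) *
      ((h8reeN0 hB (3 ^ m))⁻¹ * a * h8reeN0 hB (3 ^ m)) = 1 := by
    have : ((h8reeN0 hB (3 ^ m))⁻¹ * a * h8reeN0 hB (3 ^ m)) *
        ((h8reeN0 hB (3 ^ m))⁻¹ * a * h8reeN0 hB (3 ^ m)) =
        (h8reeN0 hB (3 ^ m))⁻¹ * (a * a) * h8reeN0 hB (3 ^ m) := by group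
    rw [this, h2]
    group
  have e := h8reeC_invol_unique hK hB _ a hmem ha hne h1 hsq h2
  calc a * h8reeN0 hB (3 ^ m)
      = h8reeN0 hB (3 ^ m) * ((h8reeN0 hB (3 ^ m))⁻¹ * a * h8reeN0 hB (3 ^ m)) := by group
    _ = h8reeN0 hB (3 ^ m) * a := by rw [e]

/-- the involution centralizes the image of the diagonal homomorphism -/
theorem H8ReePsi.invol_comm (P : H8ReePsi hB m ψ) (hK : Fintype.card K = 3 ^ (2 * m + 1))
    (a : GL chevG2.Idx K) (ha : a ∈ chevG2.diagonalSubgroup K ⊓ twistedG2 K (3 ^ m))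
    (h1 : a ≠ 1) (h2 : a * a = 1) (g : SpecialLinearGroup (Fin 2) K) :
    a * ψ g = ψ g * a := by
  have hUc : ∀ t, ψ (h8slU t) ∈ Subgroup.centralizer {a} := by
    intro t
    rw [Subgroup.mem_centralizer_iff]
    intro y hy
    rw [Set.mem_singleton_iff.mp hy, P.hU]
    have := h8reeC_invol_act hK hB a ha h1 h2 0 t 0
    rw [neg_zero, mul_inv_eq_iff_eq_mul] at this
    exact this
  have hWc : ψ h8slW ∈ Subgroup.centralizer {a} := by
    rw [Subgroup.mem_centralizer_iff]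
    intro y hy
    rw [Set.mem_singleton_iff.mp hy, P.hW]
    exact h8reeC_invol_n0 hK hB a ha h1 h2
  have := h8sl_gen ((Subgroup.centralizer {a}).comap ψ)
    (fun t => by rw [Subgroup.mem_comap]; exact hUc t)
    (fun t => by
      rw [Subgroup.mem_comap, h8slL_eq, map_mul, map_mul, map_inv]
      exact Subgroup.mul_mem _ (Subgroup.mul_mem _ (Subgroup.inv_mem _ hWc) (hUc _)) hWc) g
  rw [Subgroup.mem_comap, Subgroup.mem_centralizer_iff] at this
  exact this a rfl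

/-- the value of the character of the long root `3a+b` on the involution -/
theorem h8reeC_invol_chi10 (hK : Fintype.card K = 3 ^ (2 * m + 1)) (hB : H8Base.{u} chevG2)
    (a : GL chevG2.Idx K) (ha : a ∈ chevG2.diagonalSubgroup K ⊓ twistedG2 K (3 ^ m))
    (h1 : a ≠ 1) (h2 : a * a = 1) : h8chi chevG2 hB a 10 = 1 := by
  have e1 := h8reeC_invol_act hK hB a ha h1 h2 0 1 0
  rw [h8reeW_conj' hK hB a ha, neg_zero] at e1
  obtain ⟨_, e2, _⟩ := h8reeW_inj hK hB _ _ _ _ _ _ e1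
  rw [mul_one] at e2
  exact e2

/-- the involution is not in the image of the diagonal homomorphism -/
theorem H8ReePsi.invol_not_mem (P : H8ReePsi hB m ψ) (hK : Fintype.card K = 3 ^ (2 * m + 1))
    (a : GL chevG2.Idx K) (ha : a ∈ chevG2.diagonalSubgroup K ⊓ twistedG2 K (3 ^ m))
    (h1 : a ≠ 1) (h2 : a * a = 1) (g : SpecialLinearGroup (Fin 2) K) : ψ g ≠ a := by
  intro h
  by_cases hc : g 1 0 = 0
  · obtain ⟨_, hs, h3, _⟩ := P.tri hK g hc a ha.1 h
    have h4 := P.D_chi (g 0 0) hs 10 (by decide)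
    rw [h3, h8reeC_invol_chi10 hK hB a ha h1 h2, h8reeC_K.2.2.2.2.1, h8reeC_K.2.2.2.2.2,
      zpow_zero, mul_one] at h4
    have h5 : (g 0 0) ^ 2 = 1 := by
      rw [← zpow_natCast]
      exact h4.symm
    apply h1
    rw [← h3]
    rcases h8sq_eq_one _ h5 with h6 | h6
    · rw [h6, h8slD_one, map_one]
    · rw [h6, h8slD_neg_one, P.neg_one hK]
  · apply P.not_B hK g hc
    rw [h]
    exact Subgroup.mem_sup_right ha.1

end Cfsg.Agent.Lib.helper8
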