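import Mathlib
import Cfsg.Prelude.Def_ChevStructure
import Cfsg.Prelude.Def_ChevG2
import Cfsg.Prelude.Def_LieTwisted
import Cfsg.Agent.Lib.helper8.ChevReeC6

set_option autoImplicit false

namespace Cfsg.Agent.Lib.helper8

open Cfsg.Lie Cfsg.Lie.ChevalleyDatum Matrix

universe u

/-- in the field with `3^(2m+1)` elements every unit is `± s / s^(3^m)` -/
theorem h8reeC_field {K : Type*} [Field K] [Fintype K] {m : ℕ}
    (hK : Fintype.card K = 3 ^ (2 * m + 1)) (hch : CharP K 3) (c : K) (hc : c ≠ 0) :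
    ∃ s : K, s ≠ 0 ∧ (c = s * (s ^ 3 ^ m)⁻¹ ∨ c = -(s * (s ^ 3 ^ m)⁻¹)) := by
  classical
  have hodd : Odd (3 ^ m : ℕ) := Odd.pow (by decide)
  have hne1 : (-1 : K) ≠ 1 := by
    intro h
    have h2 : ((2 : ℕ) : K) = 0 := by
      push_cast
      linear_combination (-1 : K) * h
    rw [CharP.cast_eq_zero_iff K 3] at h2
    omega
  -- fixed points of the twist
  have hfix : ∀ s : K, s ^ 3 ^ m = s ∨ s ^ 3 ^ m = -s → s = 0 ∨ s = 1 ∨ s = -1 := by
    intro s hs
    have h2 : (s ^ 3 ^ m) ^ 3 ^ m = s := by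
      rcases hs with hs | hs
      · rw [hs, hs]
      · rw [hs, hodd.neg_pow, hs, neg_neg]
    have h3 : s ^ 3 = s := by
      have := FiniteField.pow_card s
      rw [hK] at this
      have e : 3 ^ (2 * m + 1) = 3 ^ m * 3 ^ m * 3 := by ring
      rw [e, pow_mul, pow_mul, h2] at this
      exact this
    have h4 : s * ((s - 1) * (s + 1)) = 0 := by linear_combination h3
    rcases mul_eq_zero.mp h4 with h5 | h5
    · exact Or.inl h5
    · rcases mul_eq_zero.mp h5 with h6 | h6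
      · exact Or.inr (Or.inl (by linear_combination h6))
      · exact Or.inr (Or.inr (by linear_combination h6))
  let f : Kˣ →* Kˣ := MonoidHom.id Kˣ / powMonoidHom (3 ^ m)
  have hf : ∀ s : Kˣ, ((f s : Kˣ) : K) = (s : K) * ((s : K) ^ 3 ^ m)⁻¹ := by
    intro s
    show ((s / s ^ 3 ^ m : Kˣ) : K) = _
    rw [Units.val_div_eq_div_val, Units.val_pow_eq_pow_val, div_eq_mul_inv]
  -- the kernel
  have hker : ∀ s : Kˣ, s ∈ f.ker ↔ s = 1 ∨ s = -1 := by
    intro s
    rw [MonoidHom.mem_ker]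
    constructor
    · intro h
      have h1 := hf s
      rw [h, Units.val_one] at h1
      have h2 : (s : K) ^ 3 ^ m = s := by
        have hs0 : ((s : K) ^ 3 ^ m) ≠ 0 := pow_ne_zero _ s.ne_zero
        field_simp at h1
        exact h1
      rcases hfix _ (Or.inl h2) with h3 | h3 | h3
      · exact absurd h3 s.ne_zero
      · exact Or.inl (Units.ext h3)
      · exact Or.inr (Units.ext (by rw [h3]; simp))
    · rintro (rfl | rfl)
      · exact map_one f
      · apply Units.ext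
        rw [hf]
        simp [hodd.neg_one_pow]
  have hcard_ker : Nat.card f.ker = 2 := by
    rw [Nat.card_eq_two_iff]
    refine ⟨⟨1, (hker 1).mpr (Or.inl rfl)⟩, ⟨-1, (hker (-1)).mpr (Or.inr rfl)⟩, ?_, ?_⟩
    · intro h
      have := congrArg (fun x : f.ker => ((x : Kˣ) : K)) h
      simp only [Units.val_one, Units.val_neg] at this
      exact hne1 this.symm
    · ext x
      simp only [Set.mem_insert_iff, Set.mem_singleton_iff, Set.mem_univ, iff_true]
      rcases (hker x.1).mp x.2 with h | h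
      · exact Or.inl (Subtype.ext h)
      · exact Or.inr (Subtype.ext h)
  have hidx : f.range.index = 2 := by
    have h1 := Subgroup.card_mul_index f.ker
    have h2 := Subgroup.card_mul_index f.range
    rw [Subgroup.index_ker] at h1
    have hpos : 0 < Nat.card f.range := Nat.card_pos
    have : Nat.card f.range * f.range.index = Nat.card f.range * Nat.card f.ker := by
      rw [h2, ← h1, mul_comm]
    rw [← hcard_ker]
    exact Nat.eq_of_mul_eq_mul_left hpos this
  -- -1 is not in the range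
  have hneg : (-1 : Kˣ) ∉ f.range := by
    rintro ⟨s, hs⟩
    have h1 := hf s
    rw [hs] at h1
    simp only [Units.val_neg, Units.val_one] at h1
    have h2 : (s : K) ^ 3 ^ m = -s := by
      have hs0 : ((s : K) ^ 3 ^ m) ≠ 0 := pow_ne_zero _ s.ne_zero
      field_simp at h1
      linear_combination -h1
    rcases hfix _ (Or.inr h2) with h3 | h3 | h3
    · exact absurd h3 s.ne_zero
    · rw [h3, one_pow] at h2
      exact hne1 h2.symm
    · rw [h3, hodd.neg_one_pow, neg_neg] at h2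
      exact hne1 h2
  obtain ⟨a₀, ha₀⟩ := Subgroup.index_eq_two_iff.mp hidx
  let cu : Kˣ := Units.mk0 c hc
  by_cases hcr : cu ∈ f.range
  · obtain ⟨s, hs⟩ := hcr
    refine ⟨s, s.ne_zero, Or.inl ?_⟩
    rw [← hf, hs]
    rfl
  · have h1 : cu * a₀ ∈ f.range := by
      rcases ha₀ cu with ⟨h, _⟩ | ⟨h, _⟩
      · exact h
      · exact absurd h hcr
    have h2 : (-1 : Kˣ) * a₀ ∈ f.range := by
      rcases ha₀ (-1) with ⟨h, _⟩ | ⟨h, _⟩
      · exact h
      · exact absurd h hneg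
    have h3 : cu * (-1 : Kˣ)⁻¹ ∈ f.range := by
      have : cu * (-1 : Kˣ)⁻¹ = (cu * a₀) * ((-1 : Kˣ) * a₀)⁻¹ := by group
      rw [this]
      exact Subgroup.mul_mem _ h1 (Subgroup.inv_mem _ h2)
    obtain ⟨s, hs⟩ := h3
    refine ⟨s, s.ne_zero, Or.inr ?_⟩
    rw [← hf, hs]
    simp [cu]


variable {K : Type u} [Field K] [Fintype K] {m : ℕ} {hB : H8Base.{u} chevG2}
  {ψ : SpecialLinearGroup (Fin 2) K →* GL chevG2.Idx K}

/-- every element of `H ∩ ²G₂(q)` is the image of a diagonal matrix, up to the involution -/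
theorem H8ReePsi.H1_decomp (P : H8ReePsi hB m ψ) (hK : Fintype.card K = 3 ^ (2 * m + 1))
    (a : GL chevG2.Idx K) (ha : a ∈ chevG2.diagonalSubgroup K ⊓ twistedG2 K (3 ^ m))
    (h1 : a ≠ 1) (h2 : a * a = 1) (k : GL chevG2.Idx K)
    (hk : k ∈ chevG2.diagonalSubgroup K ⊓ twistedG2 K (3 ^ m)) :
    ∃ s : K, s ≠ 0 ∧ (k = ψ (h8slD s) ∨ k = a * ψ (h8slD s)) := by
  have hD : chevG2 ∈ [chevG2, chevB2, chevD4, chevF4, chevE6, chevE7, chevE8] := by simp
  have hA := h8reflAll chevG2 hD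
  have hW := h8bn2_all chevG2 hD
  have hch := h8ree_char3 hK
  have hinj := h8reeChiHom_injective hK hB hA hW
  have hc0 : h8chi chevG2 hB k 7 ≠ 0 := (h8chi_spec chevG2 hB k hk.1 7 (by decide)).1
  obtain ⟨s, hs, hcs⟩ := h8reeC_field hK hch (h8chi chevG2 hB k 7) hc0
  have hmemD : ψ (h8slD s) ∈ chevG2.diagonalSubgroup K ⊓ twistedG2 K (3 ^ m) :=
    Subgroup.mem_inf.mpr ⟨P.D_mem_H s hs, P.mem _⟩
  have hchiD : h8chi chevG2 hB (ψ (h8slD s)) 7 = s * (s ^ 3 ^ m)⁻¹ := by
    rw [P.D_chi s hs 7 (by decide), h8reeC_K.1, h8reeC_K.2.1, zpow_one, _root_.zpow_neg_one]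
  refine ⟨s, hs, ?_⟩
  rcases hcs with hcs | hcs
  · left
    have e : h8reeChiHom (K := K) hB hA hW (3 ^ m) ⟨k, hk⟩ =
        h8reeChiHom (K := K) hB hA hW (3 ^ m) ⟨ψ (h8slD s), hmemD⟩ := by
      apply Units.ext
      show h8chi chevG2 hB k 7 = h8chi chevG2 hB (ψ (h8slD s)) 7
      rw [hchiD, hcs]
    exact congrArg Subtype.val (hinj e)
  · right
    have e : h8reeChiHom (K := K) hB hA hW (3 ^ m) ⟨k, hk⟩ =
        h8reeChiHom (K := K) hB hA hW (3 ^ m) (⟨a, ha⟩ * ⟨ψ (h8slD s), hmemD⟩) := by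
      rw [map_mul, h8reeC_invol_chi hK hB hA hW a ha h1 h2]
      apply Units.ext
      rw [Units.val_mul, Units.val_neg, Units.val_one]
      show h8chi chevG2 hB k 7 = -1 * h8chi chevG2 hB (ψ (h8slD s)) 7
      rw [hchiD, hcs]
      ring
    exact congrArg Subtype.val (hinj e)

/-- the elements of `U ∩ ²G₂(q)` fixed by the involution -/
theorem H8ReePsi.fixU (P : H8ReePsi hB m ψ) (hK : Fintype.card K = 3 ^ (2 * m + 1))
    (a : GL chevG2.Idx K) (ha : a ∈ chevG2.diagonalSubgroup K ⊓ twistedG2 K (3 ^ m))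
    (h1 : a ≠ 1) (h2 : a * a = 1) (x : GL chevG2.Idx K)
    (hx : x ∈ chevG2.posUnipotent K ⊓ twistedG2 K (3 ^ m)) (hc : a * x * a⁻¹ = x) :
    ∃ p : K, x = ψ (h8slU p) := by
  have hch := h8ree_char3 hK
  have h3 : (3 : K) = 0 := by
    have := CharP.cast_eq_zero K 3
    exact_mod_cast this
  obtain ⟨t, p, v, rfl⟩ := (h8reeW_mem_iff hK hB x).mp hx
  rw [h8reeC_invol_act hK hB a ha h1 h2] at hc
  obtain ⟨e1, _, e3⟩ := h8reeW_inj hK hB _ _ _ _ _ _ hc
  have ht : t = 0 := by linear_combination t * h3 + e1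
  have hv : v = 0 := by linear_combination v * h3 + e3
  refine ⟨p, ?_⟩
  rw [P.hU, ht, hv]

end Cfsg.Agent.Lib.helper8
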