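import Mathlib
import Cfsg.Prelude.Def_ChevStructure
import Cfsg.Prelude.Def_ChevG2
import Cfsg.Prelude.Def_LieTwisted
import Cfsg.Agent.Lib.helper8.ChevReeC7

set_option autoImplicit false

namespace Cfsg.Agent.Lib.helper8

open Cfsg.Lie Cfsg.Lie.ChevalleyDatum Matrix

universe u

variable {K : Type u} [Field K] [Fintype K] {m : ℕ} {hB : H8Base.{u} chevG2}
  {ψ : SpecialLinearGroup (Fin 2) K →* GL chevG2.Idx K}

/-- the centralizer of the involution of `H ∩ ²G₂(q)` is generated by the involution and the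
image of the diagonal homomorphism -/
theorem H8ReePsi.cent (P : H8ReePsi hB m ψ) (hK : Fintype.card K = 3 ^ (2 * m + 1))
    (a : GL chevG2.Idx K) (ha : a ∈ chevG2.diagonalSubgroup K ⊓ twistedG2 K (3 ^ m))
    (h1 : a ≠ 1) (h2 : a * a = 1) (c : GL chevG2.Idx K) (hc : c ∈ twistedG2 K (3 ^ m))
    (hac : a * c = c * a) :
    ∃ g : SpecialLinearGroup (Fin 2) K, c = ψ g ∨ c = a * ψ g := by
  have hainv : a⁻¹ = a := inv_eq_of_mul_eq_one_right h2
  have hconj : a * c * a⁻¹ = c := by rw [hac, mul_inv_cancel_right]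
  -- conjugation by `a` fixes `H`
  have hHfix : ∀ k ∈ chevG2.diagonalSubgroup K ⊓ twistedG2 K (3 ^ m), a * k * a⁻¹ = k := by
    intro k hk
    rw [h8_H_comm chevG2 hB a k ha.1 hk.1, mul_inv_cancel_right]
  have hn0fix : a * h8reeN0 hB (3 ^ m) * a⁻¹ = h8reeN0 hB (3 ^ m) := by
    rw [h8reeC_invol_n0 hK hB a ha h1 h2, mul_inv_cancel_right]
  have hUconj : ∀ x ∈ chevG2.posUnipotent K ⊓ twistedG2 K (3 ^ m),
      a * x * a⁻¹ ∈ chevG2.posUnipotent K ⊓ twistedG2 K (3 ^ m) := by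
    intro x hx
    obtain ⟨t, p, v, rfl⟩ := (h8reeW_mem_iff hK hB x).mp hx
    rw [h8reeC_invol_act hK hB a ha h1 h2]
    exact (h8reeW_mem_iff hK hB _).mpr ⟨_, _, _, rfl⟩
  -- the torus part
  have hHpart : ∀ k ∈ chevG2.diagonalSubgroup K ⊓ twistedG2 K (3 ^ m),
      ∀ g₁ g₂ : SpecialLinearGroup (Fin 2) K, ∃ g : SpecialLinearGroup (Fin 2) K,
        ψ g₁ * k * ψ g₂ = ψ g ∨ ψ g₁ * k * ψ g₂ = a * ψ g := by
    intro k hk g₁ g₂
    obtain ⟨s, hs, e | e⟩ := P.H1_decomp hK a ha h1 h2 k hk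
    · exact ⟨g₁ * h8slD s * g₂, Or.inl (by rw [e, map_mul, map_mul])⟩
    · refine ⟨g₁ * h8slD s * g₂, Or.inr ?_⟩
      rw [e, map_mul, map_mul, ← mul_assoc (ψ g₁), ← P.invol_comm hK a ha h1 h2 g₁]
      simp only [mul_assoc]
  rcases h8ree_G1_normal hK hB c hc with ⟨x, hx, k, hk, rfl⟩ | ⟨x, hx, k, hk, y, hy, rfl⟩
  · -- the Borel case
    have e1 : a * (x * k) * a⁻¹ = (a * x * a⁻¹) * k := by
      have : a * (x * k) * a⁻¹ = (a * x * a⁻¹) * (a * k * a⁻¹) := by group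
      rw [this, hHfix k hk]
    rw [e1] at hconj
    have e2 : a * x * a⁻¹ = x := mul_right_cancel hconj
    obtain ⟨p, rfl⟩ := P.fixU hK a ha h1 h2 x hx e2
    obtain ⟨g, hg⟩ := hHpart k hk (h8slU p) 1
    rw [map_one, mul_one] at hg
    exact ⟨g, hg⟩
  · -- the big cell
    have e1 : a * (x * (k * h8reeN0 hB (3 ^ m)) * y) * a⁻¹ =
        (a * x * a⁻¹) * (k * h8reeN0 hB (3 ^ m)) * (a * y * a⁻¹) := by
      have : a * (x * (k * h8reeN0 hB (3 ^ m)) * y) * a⁻¹ =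
          (a * x * a⁻¹) * ((a * k * a⁻¹) * (a * h8reeN0 hB (3 ^ m) * a⁻¹)) * (a * y * a⁻¹) := by
        group
      rw [this, hHfix k hk, hn0fix]
    rw [e1] at hconj
    set x' := a * x * a⁻¹ with hx'
    set y' := a * y * a⁻¹ with hy'
    have hx'U := hUconj x hx
    have hy'U := hUconj y hy
    -- uniqueness of the Bruhat decomposition
    have hkU : k⁻¹ * (x⁻¹ * x') * k ∈ chevG2.posUnipotent K := by
      have hn := h8_H_le_normalizer_U (F := K) chevG2 hB (Subgroup.inv_mem _ hk.1)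
      have := (Subgroup.mem_normalizer_iff.mp hn (x⁻¹ * x')).mp
        (Subgroup.mul_mem _ (Subgroup.inv_mem _ hx.1) hx'U.1)
      rw [inv_inv] at this
      exact this
    have e3 : (h8reeN0 hB (3 ^ m))⁻¹ * (k⁻¹ * (x⁻¹ * x') * k) * h8reeN0 hB (3 ^ m) =
        y * y'⁻¹ := by
      have : x⁻¹ * x' * (k * h8reeN0 hB (3 ^ m)) = (k * h8reeN0 hB (3 ^ m)) * (y * y'⁻¹) := by
        have h := congrArg (fun z => x⁻¹ * z * y'⁻¹) hconj
        calc x⁻¹ * x' * (k * h8reeN0 hB (3 ^ m))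
            = x⁻¹ * (x' * (k * h8reeN0 hB (3 ^ m)) * y') * y'⁻¹ := by group
          _ = x⁻¹ * (x * (k * h8reeN0 hB (3 ^ m)) * y) * y'⁻¹ := h
          _ = (k * h8reeN0 hB (3 ^ m)) * (y * y'⁻¹) := by group
      calc (h8reeN0 hB (3 ^ m))⁻¹ * (k⁻¹ * (x⁻¹ * x') * k) * h8reeN0 hB (3 ^ m)
          = (k * h8reeN0 hB (3 ^ m))⁻¹ * (x⁻¹ * x' * (k * h8reeN0 hB (3 ^ m))) := by group
        _ = (k * h8reeN0 hB (3 ^ m))⁻¹ * ((k * h8reeN0 hB (3 ^ m)) * (y * y'⁻¹)) := by rw [this]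
        _ = y * y'⁻¹ := by group
    have e4 : k⁻¹ * (x⁻¹ * x') * k = 1 := by
      apply h8ree_uniq hK hB _ hkU
      rw [e3]
      exact Subgroup.mem_sup_left (Subgroup.mul_mem _ hy.1 (Subgroup.inv_mem _ hy'U.1))
    have e5 : x' = x := by
      have : x⁻¹ * x' = 1 := by
        have : x⁻¹ * x' = k * (k⁻¹ * (x⁻¹ * x') * k) * k⁻¹ := by group
        rw [this, e4]
        group
      exact (inv_mul_eq_one.mp this).symm
    have e6 : y' = y := by
      rw [e4] at e3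
      have : y * y'⁻¹ = 1 := by
        rw [← e3]
        group
      exact (mul_inv_eq_one.mp this).symm
    obtain ⟨p, rfl⟩ := P.fixU hK a ha h1 h2 x hx e5
    obtain ⟨p', rfl⟩ := P.fixU hK a ha h1 h2 y hy e6
    obtain ⟨g, hg⟩ := hHpart k hk (h8slU p) (h8slW * h8slU p')
    refine ⟨g, ?_⟩
    have : ψ (h8slU p) * (k * h8reeN0 hB (3 ^ m)) * ψ (h8slU p') =
        ψ (h8slU p) * k * ψ (h8slW * h8slU p') := by
      rw [map_mul, P.hW]
      group
    rw [this]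
    exact hg

end Cfsg.Agent.Lib.helper8
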