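import Mathlib
import Cfsg.Prelude.Def_ChevStructure
import Cfsg.Prelude.Def_ChevG2
import Cfsg.Prelude.Def_LieTwisted
import Cfsg.Agent.Lib.helper8.ChevReeC8

set_option autoImplicit false

namespace Cfsg.Agent.Lib.helper8

open Cfsg.Lie Cfsg.Lie.ChevalleyDatum Matrix

universe u

/-- the homomorphism from the group of order two determined by an involution -/
def h8z2hom {G : Type*} [Group G] (x : G) (hx : x * x = 1) : Multiplicative (ZMod 2) →* G :=
  MonoidHom.mk' (fun z => if Multiplicative.toAdd z = 0 then 1 else x) (by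
    intro z w
    have key : ∀ p q : ZMod 2, (if p + q = 0 then (1 : G) else x) =
        (if p = 0 then 1 else x) * (if q = 0 then 1 else x) := by
      have h2 : ∀ p : ZMod 2, p = 0 ∨ p = 1 := by decide
      intro p q
      rcases h2 p with rfl | rfl <;> rcases h2 q with rfl | rfl
      · rw [if_pos (by decide), if_pos rfl, one_mul]
      · rw [if_neg (by decide), if_pos rfl, if_neg (by decide), one_mul]
      · rw [if_neg (by decide), if_neg (by decide), if_pos rfl, mul_one]
      · rw [if_pos (by decide), if_neg (by decide), hx]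
    exact key (Multiplicative.toAdd z) (Multiplicative.toAdd w))

theorem h8z2hom_cases {G : Type*} [Group G] (x : G) (hx : x * x = 1)
    (z : Multiplicative (ZMod 2)) :
    (z = 1 ∧ h8z2hom x hx z = 1) ∨ (z = Multiplicative.ofAdd 1 ∧ h8z2hom x hx z = x) := by
  have key : ∀ p : ZMod 2, p = 0 ∨ p = 1 := by decide
  rcases key (Multiplicative.toAdd z) with h | h
  · left
    refine ⟨Multiplicative.toAdd.injective h, ?_⟩
    show (if Multiplicative.toAdd z = 0 then 1 else x) = 1
    rw [if_pos h]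
  · right
    refine ⟨Multiplicative.toAdd.injective h, ?_⟩
    show (if Multiplicative.toAdd z = 0 then 1 else x) = x
    rw [if_neg]
    rw [h]
    decide

theorem h8z2hom_one {G : Type*} [Group G] (x : G) (hx : x * x = 1) :
    h8z2hom x hx (Multiplicative.ofAdd 1) = x := by
  show (if (1 : ZMod 2) = 0 then 1 else x) = x
  rw [if_neg (by decide)]


variable {K : Type u} [Field K] [Fintype K] {m : ℕ} {hB : H8Base.{u} chevG2}
  {ψ : SpecialLinearGroup (Fin 2) K →* GL chevG2.Idx K}

omit [Fintype K] in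
theorem h8diag_neg_one : (diagonal fun _ : Fin 2 => (-1 : K)) = -1 := by
  ext i j
  fin_cases i <;> fin_cases j <;> simp

omit [Fintype K] in
theorem h8sl_center (g : SpecialLinearGroup (Fin 2) K)
    (hg : g ∈ Subgroup.center (SpecialLinearGroup (Fin 2) K)) : g = 1 ∨ g = -1 := by
  obtain ⟨r, hr, e⟩ := Matrix.SpecialLinearGroup.mem_center_iff.mp hg
  rw [Fintype.card_fin] at hr
  rcases h8sq_eq_one r hr with h | h
  · left
    apply Subtype.ext
    rw [← e, h]
    simp
  · right
    apply Subtype.ext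
    rw [← e, h]
    simp [h8diag_neg_one]

omit [Fintype K] in
theorem h8sl_neg_one_center :
    (-1 : SpecialLinearGroup (Fin 2) K) ∈ Subgroup.center (SpecialLinearGroup (Fin 2) K) := by
  rw [Matrix.SpecialLinearGroup.mem_center_iff]
  refine ⟨-1, by rw [Fintype.card_fin]; ring, ?_⟩
  simp [h8diag_neg_one]

/-- the centralizer of the involution is `Z₂ × PSL₂(q)` -/
theorem H8ReePsi.iso (P : H8ReePsi hB m ψ) (hK : Fintype.card K = 3 ^ (2 * m + 1))
    (a : ↥(twistedG2 K (3 ^ m)))
    (haH : (a : GL chevG2.Idx K) ∈ chevG2.diagonalSubgroup K) (ha1 : a ≠ 1) (ha2 : a * a = 1) :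
    Nonempty (↥(Subgroup.centralizer {a}) ≃*
      Multiplicative (ZMod 2) × Matrix.ProjectiveSpecialLinearGroup (Fin 2) K) := by
  have hav : (a : GL chevG2.Idx K) ∈ chevG2.diagonalSubgroup K ⊓ twistedG2 K (3 ^ m) :=
    Subgroup.mem_inf.mpr ⟨haH, a.2⟩
  have hav1 : (a : GL chevG2.Idx K) ≠ 1 := fun h => ha1 (Subtype.ext h)
  have hav2 : (a : GL chevG2.Idx K) * a = 1 := congrArg Subtype.val ha2
  let ψ1 : SpecialLinearGroup (Fin 2) K →* ↥(twistedG2 K (3 ^ m)) :=
    ψ.codRestrict (twistedG2 K (3 ^ m)) P.mem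
  have hcomm : ∀ g, ψ1 g ∈ Subgroup.centralizer {a} := by
    intro g
    rw [Subgroup.mem_centralizer_iff]
    intro y hy
    rw [Set.mem_singleton_iff.mp hy]
    apply Subtype.ext
    exact P.invol_comm hK _ hav hav1 hav2 g
  let ψ2 : SpecialLinearGroup (Fin 2) K →* ↥(Subgroup.centralizer {a}) :=
    ψ1.codRestrict _ hcomm
  have hψ2 : ∀ g, ((ψ2 g : ↥(twistedG2 K (3 ^ m))) : GL chevG2.Idx K) = ψ g := fun g => rfl
  have hker : Subgroup.center (SpecialLinearGroup (Fin 2) K) ≤ ψ2.ker := by
    intro g hg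
    rw [MonoidHom.mem_ker]
    apply Subtype.ext
    apply Subtype.ext
    rw [hψ2]
    rcases h8sl_center g hg with rfl | rfl
    · rw [map_one]; rfl
    · rw [P.neg_one hK]; rfl
  let ψ3 : Matrix.ProjectiveSpecialLinearGroup (Fin 2) K →* ↥(Subgroup.centralizer {a}) :=
    QuotientGroup.lift _ ψ2 hker
  have hψ3 : ∀ g : SpecialLinearGroup (Fin 2) K, ψ3 (QuotientGroup.mk g) = ψ2 g := fun g => rfl
  let a' : ↥(Subgroup.centralizer {a}) := ⟨a, by
    rw [Subgroup.mem_centralizer_iff]
    intro y hy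
    rw [Set.mem_singleton_iff.mp hy]⟩
  have ha'2 : a' * a' = 1 := Subtype.ext ha2
  have hcm : ∀ (z : Multiplicative (ZMod 2)) (p : Matrix.ProjectiveSpecialLinearGroup (Fin 2) K),
      Commute (h8z2hom a' ha'2 z) (ψ3 p) := by
    intro z p
    rcases h8z2hom_cases a' ha'2 z with ⟨_, h⟩ | ⟨_, h⟩
    · rw [h]
      exact Commute.one_left _
    · rw [h]
      have := (ψ3 p).2
      rw [Subgroup.mem_centralizer_iff] at this
      have h3 := this a rfl
      show a' * ψ3 p = ψ3 p * a'
      exact Subtype.ext h3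
  let Ψ : Multiplicative (ZMod 2) × Matrix.ProjectiveSpecialLinearGroup (Fin 2) K →*
      ↥(Subgroup.centralizer {a}) := (h8z2hom a' ha'2).noncommCoprod ψ3 hcm
  have hΨ : ∀ z p, Ψ (z, p) = h8z2hom a' ha'2 z * ψ3 p := fun z p => rfl
  have hinj : Function.Injective Ψ := by
    rw [injective_iff_map_eq_one]
    rintro ⟨z, p⟩ h
    obtain ⟨g, rfl⟩ := QuotientGroup.mk_surjective p
    rw [hΨ, hψ3] at h
    rcases h8z2hom_cases a' ha'2 z with ⟨hz, h'⟩ | ⟨hz, h'⟩
    · rw [h', one_mul] at h
      have h4 : ψ g = 1 := by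
        rw [← hψ2, h]; rfl
      have h5 : (QuotientGroup.mk g : Matrix.ProjectiveSpecialLinearGroup (Fin 2) K) = 1 := by
        rw [QuotientGroup.eq_one_iff]
        rcases P.ker hK g h4 with rfl | rfl
        · exact Subgroup.one_mem _
        · exact h8sl_neg_one_center
      rw [hz, h5]
      rfl
    · exfalso
      rw [h'] at h
      have h4 : (a : GL chevG2.Idx K) * ψ g = 1 := by
        have := congrArg (fun x : ↥(Subgroup.centralizer {a}) =>
          ((x : ↥(twistedG2 K (3 ^ m))) : GL chevG2.Idx K)) h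
        exact this
      apply P.invol_not_mem hK _ hav hav1 hav2 g
      calc ψ g = (a : GL chevG2.Idx K) * ((a : GL chevG2.Idx K) * ψ g) := by
            rw [← mul_assoc, hav2, one_mul]
        _ = a := by rw [h4, mul_one]
  have hsurj : Function.Surjective Ψ := by
    intro c
    have hc := c.2
    rw [Subgroup.mem_centralizer_iff] at hc
    have hac : (a : GL chevG2.Idx K) * (c : ↥(twistedG2 K (3 ^ m))) =
        (c : ↥(twistedG2 K (3 ^ m))) * a := congrArg Subtype.val (hc a rfl)
    obtain ⟨g, hg | hg⟩ := P.cent hK _ hav hav1 hav2 _ (c : ↥(twistedG2 K (3 ^ m))).2 hac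
    · refine ⟨(1, QuotientGroup.mk g), ?_⟩
      rw [hΨ, map_one, one_mul, hψ3]
      apply Subtype.ext
      apply Subtype.ext
      rw [hψ2, hg]
    · refine ⟨(Multiplicative.ofAdd 1, QuotientGroup.mk g), ?_⟩
      rw [hΨ, h8z2hom_one, hψ3]
      apply Subtype.ext
      apply Subtype.ext
      rw [hg]
      rfl
  exact ⟨(MulEquiv.ofBijective Ψ ⟨hinj, hsurj⟩).symm⟩

end Cfsg.Agent.Lib.helper8
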