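import Mathlib
import Cfsg.Prelude.Def_ChevStructure
import Cfsg.Prelude.Def_ChevG2
import Cfsg.Prelude.Def_LieTwisted
import Cfsg.Agent.Lib.helper8.ChevReeC9
import Cfsg.Agent.Lib.helper8.SylowConj

set_option autoImplicit false

namespace Cfsg.Agent.Lib.helper8

open Cfsg.Lie Cfsg.Lie.ChevalleyDatum Matrix

universe u

/-- if a finite group of order `2^k * odd` has a subgroup of order `2^k` and exponent 2 then all
its Sylow 2-subgroups have that order and exponent 2 -/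
theorem h8_sylow2_exp {G : Type*} [Group G] [Finite G] (k r : ℕ) (hG : Nat.card G = 2 ^ k * r)
    (hr : ¬ 2 ∣ r) (E : Subgroup G) (hE : Nat.card E = 2 ^ k) (hexp : ∀ x ∈ E, x * x = 1)
    (S : Sylow 2 G) : Nat.card S = 2 ^ k ∧ ∀ x ∈ S, x * x = 1 := by
  have : Fact (Nat.Prime 2) := ⟨Nat.prime_two⟩
  have hS := h8_sylow_card 2 k r hG hr S
  refine ⟨hS, ?_⟩
  have hEp : IsPGroup 2 E := IsPGroup.of_card hE
  obtain ⟨Q, hQ⟩ := hEp.exists_le_sylow
  have hQc := h8_sylow_card 2 k r hG hr Q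
  have hEQ : E = Q := Subgroup.eq_of_le_of_card_ge hQ (by rw [hE, hQc])
  obtain ⟨g, rfl⟩ := MulAction.exists_smul_eq G Q S
  intro x hx
  have hx' : g⁻¹ * x * g ∈ (Q : Subgroup G) := (h8_mem_smul_sylow 2 g x Q).mp hx
  rw [← hEQ] at hx'
  have h1 := hexp _ hx'
  have : x * x = g * ((g⁻¹ * x * g) * (g⁻¹ * x * g)) * g⁻¹ := by group
  rw [this, h1]
  group

theorem h8ree_card_two (m : ℕ) : ∃ r : ℕ, ¬ 2 ∣ r ∧
    (3 ^ (2 * m + 1)) ^ 3 * (3 ^ (2 * m + 1) - 1) * ((3 ^ (2 * m + 1)) ^ 3 + 1) = 2 ^ 3 * r := by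
  have h9 : 9 ^ m % 8 = 1 := by
    rw [Nat.pow_mod]
    norm_num
  have e : 3 ^ (2 * m + 1) = 3 * 9 ^ m := by
    rw [pow_succ, pow_mul]
    norm_num
    ring
  obtain ⟨j, hj⟩ : ∃ j, 3 ^ (2 * m + 1) = 8 * j + 3 := ⟨3 ^ (2 * m + 1) / 8, by omega⟩
  rw [hj]
  refine ⟨(8 * j + 3) ^ 3 * (4 * j + 1) * ((2 * j + 1) * ((8 * j + 3) * (8 * j + 2) + 1)), ?_, ?_⟩
  · rw [Nat.two_dvd_ne_zero, ← Nat.odd_iff]
    have h1 : Odd (8 * j + 3) := ⟨4 * j + 1, by ring⟩
    have h2 : Odd (4 * j + 1) := ⟨2 * j, by ring⟩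
    have h3 : Odd (2 * j + 1) := ⟨j, by ring⟩
    have h4 : Odd ((8 * j + 3) * (8 * j + 2) + 1) := ⟨(8 * j + 3) * (4 * j + 1), by ring⟩
    exact ((h1.pow).mul h2).mul (h3.mul h4)
  · have : 8 * j + 3 - 1 = 8 * j + 2 := by omega
    rw [this]
    ring


theorem h8z2hom_commute {G : Type*} [Group G] (x : G) (hx : x * x = 1) (y : G)
    (h : Commute x y) (z : Multiplicative (ZMod 2)) : Commute (h8z2hom x hx z) y := by
  rcases h8z2hom_cases x hx z with ⟨_, h'⟩ | ⟨_, h'⟩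
  · rw [h']
    exact Commute.one_left _
  · rw [h']
    exact h

section
variable {F : Type*} [Field F]

/-- the matrix `[[1,1],[1,-1]]`, of determinant `-2 = 1` in characteristic 3 -/
def h8slE (h3 : (3 : F) = 0) : SpecialLinearGroup (Fin 2) F :=
  ⟨!![1, 1; 1, -1], by rw [Matrix.det_fin_two_of]; linear_combination (-1 : F) * h3⟩

theorem h8slE_val (h3 : (3 : F) = 0) :
    (h8slE h3 : Matrix (Fin 2) (Fin 2) F) = !![1, 1; 1, -1] := rfl

theorem h8slW_sq : (h8slW : SpecialLinearGroup (Fin 2) F) * h8slW = -1 := by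
  apply h8sl_ext <;> simp [h8slW_val, Matrix.mul_apply]

theorem h8slE_sq (h3 : (3 : F) = 0) : h8slE h3 * h8slE h3 = -1 := by
  apply h8sl_ext <;> simp [h8slE_val, Matrix.mul_apply] <;> linear_combination h3

theorem h8slEW (h3 : (3 : F) = 0) : h8slE h3 * h8slW = -1 * (h8slW * h8slE h3) := by
  apply h8sl_ext <;> simp [h8slE_val, h8slW_val, Matrix.mul_apply]

end

variable {K : Type u} [Field K] [Fintype K] {m : ℕ} {hB : H8Base.{u} chevG2}
  {ψ : SpecialLinearGroup (Fin 2) K →* GL chevG2.Idx K}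

/-- the Sylow 2-subgroups of `²G₂(q)` are elementary abelian of order 8 -/
theorem H8ReePsi.sylow (P : H8ReePsi hB m ψ) (hK : Fintype.card K = 3 ^ (2 * m + 1))
    (a : ↥(twistedG2 K (3 ^ m)))
    (haH : (a : GL chevG2.Idx K) ∈ chevG2.diagonalSubgroup K) (ha1 : a ≠ 1) (ha2 : a * a = 1)
    (S : Sylow 2 ↥(twistedG2 K (3 ^ m))) : Nat.card S = 8 ∧ ∀ x ∈ S, x * x = 1 := by
  have hch := h8ree_char3 hK
  have h3 : (3 : K) = 0 := by
    have := CharP.cast_eq_zero K 3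
    exact_mod_cast this
  have hav : (a : GL chevG2.Idx K) ∈ chevG2.diagonalSubgroup K ⊓ twistedG2 K (3 ^ m) :=
    Subgroup.mem_inf.mpr ⟨haH, a.2⟩
  have hav1 : (a : GL chevG2.Idx K) ≠ 1 := fun h => ha1 (Subtype.ext h)
  have hav2 : (a : GL chevG2.Idx K) * a = 1 := congrArg Subtype.val ha2
  let ψ1 : SpecialLinearGroup (Fin 2) K →* ↥(twistedG2 K (3 ^ m)) :=
    ψ.codRestrict (twistedG2 K (3 ^ m)) P.mem
  have hψ1 : ∀ g, ((ψ1 g : ↥(twistedG2 K (3 ^ m))) : GL chevG2.Idx K) = ψ g := fun g => rfl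
  have hneg : ψ1 (-1) = 1 := Subtype.ext (P.neg_one hK)
  have hacomm : ∀ g, Commute a (ψ1 g) := fun g =>
    Subtype.ext (P.invol_comm hK _ hav hav1 hav2 g)
  set w := ψ1 h8slW with hw
  set e := ψ1 (h8slE h3) with he
  have hw2 : w * w = 1 := by rw [hw, ← map_mul, h8slW_sq, hneg]
  have he2 : e * e = 1 := by rw [he, ← map_mul, h8slE_sq, hneg]
  have hwe : Commute w e := by
    have : e * w = w * e := by
      rw [hw, he, ← map_mul, h8slEW, map_mul, hneg, one_mul, map_mul]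
    exact this.symm
  have c1 : ∀ z z' : Multiplicative (ZMod 2), Commute (h8z2hom w hw2 z) (h8z2hom e he2 z') :=
    fun z z' => h8z2hom_commute w hw2 _ (h8z2hom_commute e he2 w hwe.symm z').symm z
  let F23 : Multiplicative (ZMod 2) × Multiplicative (ZMod 2) →* ↥(twistedG2 K (3 ^ m)) :=
    (h8z2hom w hw2).noncommCoprod (h8z2hom e he2) c1
  have hF23 : ∀ z z', F23 (z, z') = h8z2hom w hw2 z * h8z2hom e he2 z' := fun z z' => rfl
  have hkey : ∀ z z', ∃ g : SpecialLinearGroup (Fin 2) K, F23 (z, z') = ψ1 g ∧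
      ((z = 1 ∧ z' = 1) ∨ g 0 1 ≠ 0) := by
    intro z z'
    rw [hF23]
    rcases h8z2hom_cases w hw2 z with ⟨hz, h⟩ | ⟨hz, h⟩ <;>
      rcases h8z2hom_cases e he2 z' with ⟨hz', h'⟩ | ⟨hz', h'⟩
    · exact ⟨1, by rw [h, h', map_one, one_mul], Or.inl ⟨hz, hz'⟩⟩
    · exact ⟨h8slE h3, by rw [h, h', one_mul], Or.inr (by simp [h8slE_val])⟩
    · exact ⟨h8slW, by rw [h, h', mul_one], Or.inr (by simp [h8slW_val])⟩
    · exact ⟨h8slW * h8slE h3, by rw [h, h', map_mul],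
        Or.inr (by simp [h8slW_val, h8slE_val, Matrix.mul_apply])⟩
  have c2 : ∀ (z : Multiplicative (ZMod 2)) (p : Multiplicative (ZMod 2) × Multiplicative (ZMod 2)),
      Commute (h8z2hom a ha2 z) (F23 p) := by
    rintro z ⟨z2, z3⟩
    obtain ⟨g, hg, _⟩ := hkey z2 z3
    rw [hg]
    exact h8z2hom_commute a ha2 _ (hacomm g) z
  let F : Multiplicative (ZMod 2) × (Multiplicative (ZMod 2) × Multiplicative (ZMod 2)) →*
      ↥(twistedG2 K (3 ^ m)) := (h8z2hom a ha2).noncommCoprod F23 c2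
  have hF : ∀ z p, F (z, p) = h8z2hom a ha2 z * F23 p := fun z p => rfl
  have hinj : Function.Injective F := by
    rw [injective_iff_map_eq_one]
    rintro ⟨z1, z2, z3⟩ h
    rw [hF] at h
    obtain ⟨g, hg, hg'⟩ := hkey z2 z3
    rw [hg] at h
    rcases h8z2hom_cases a ha2 z1 with ⟨hz, h'⟩ | ⟨hz, h'⟩
    · rw [h', one_mul] at h
      have h4 : ψ g = 1 := by
        rw [← hψ1, h]; rfl
      rcases hg' with ⟨h5, h6⟩ | h5
      · rw [hz, h5, h6]
        rfl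
      · exfalso
        apply h5
        rcases P.ker hK g h4 with rfl | rfl <;> simp
    · exfalso
      rw [h'] at h
      have h4 : (a : GL chevG2.Idx K) * ψ g = 1 := congrArg Subtype.val h
      apply P.invol_not_mem hK _ hav hav1 hav2 g
      calc ψ g = (a : GL chevG2.Idx K) * ((a : GL chevG2.Idx K) * ψ g) := by
            rw [← mul_assoc, hav2, one_mul]
        _ = a := by rw [h4, mul_one]
  obtain ⟨r, hr, hcard⟩ := h8ree_card_two m
  have hG : Nat.card ↥(twistedG2 K (3 ^ m)) = 2 ^ 3 * r := by rw [h8ree_card hK, hcard]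
  have hE : Nat.card F.range = 2 ^ 3 := by
    rw [← Nat.card_congr (MonoidHom.ofInjective hinj).toEquiv, Nat.card_eq_fintype_card]
    rfl
  have hexp : ∀ x ∈ F.range, x * x = 1 := by
    rintro x ⟨z, rfl⟩
    rw [← map_mul]
    have : z * z = 1 := by revert z; decide
    rw [this, map_one]
  have h := h8_sylow2_exp 3 r hG hr F.range hE hexp S
  rw [show (2 : ℕ) ^ 3 = 8 by norm_num] at h
  exact h

end Cfsg.Agent.Lib.helper8
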