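import Mathlib
import Cfsg.Agent.Lib.helper8.ChevReeC10

set_option autoImplicit false
set_option linter.unusedSectionVars false
set_option linter.unusedVariables false

namespace Cfsg.Agent.Lib.helper8

open Matrix

variable {F : Type*} [Field F]

theorem h8sl_entries_mul (g h : SpecialLinearGroup (Fin 2) F) :
    (g * h) 0 0 = g 0 0 * h 0 0 + g 0 1 * h 1 0 ∧ (g * h) 0 1 = g 0 0 * h 0 1 + g 0 1 * h 1 1 ∧
    (g * h) 1 0 = g 1 0 * h 0 0 + g 1 1 * h 1 0 ∧ (g * h) 1 1 = g 1 0 * h 0 1 + g 1 1 * h 1 1 := by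
  refine ⟨?_, ?_, ?_, ?_⟩ <;>
    simp [Matrix.SpecialLinearGroup.coe_mul, Matrix.mul_apply, Fin.sum_univ_two]

theorem h8sl_entries_neg (k : SpecialLinearGroup (Fin 2) F) (i j : Fin 2) :
    (-k) i j = -(k i j) := by
  simp [Matrix.SpecialLinearGroup.coe_neg]

theorem h8q8_aux (h3 : (3 : F) = 0) (x y z t : F) (hdet : x * t - y * z = 1)
    (rW : (y = -z ∧ x = t) ∨ (y = z ∧ t = -x))
    (rE : (y = z ∧ t = x + y) ∨ (t = -x ∧ x + y = -x - z)) :
    (x = 1 ∧ y = 0 ∧ z = 0 ∧ t = 1) ∨ (x = -1 ∧ y = 0 ∧ z = 0 ∧ t = -1) ∨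
    (x = 0 ∧ y = 1 ∧ z = -1 ∧ t = 0) ∨ (x = 0 ∧ y = -1 ∧ z = 1 ∧ t = 0) ∨
    (x = 1 ∧ y = 1 ∧ z = 1 ∧ t = -1) ∨ (x = -1 ∧ y = -1 ∧ z = -1 ∧ t = 1) ∨
    (x = 1 ∧ y = -1 ∧ z = -1 ∧ t = -1) ∨ (x = -1 ∧ y = 1 ∧ z = 1 ∧ t = 1) := by
  have h2ne : (2 : F) ≠ 0 := by
    intro h
    have : (1 : F) = 0 := by linear_combination h3 - h
    exact one_ne_zero this
  have half : ∀ s : F, 2 * s = 0 → s = 0 := by
    intro s hs
    rcases mul_eq_zero.mp hs with h | h
    · exact absurd h h2ne
    · exact h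
  rcases rW with ⟨r1, r2⟩ | ⟨r1, r2⟩ <;> rcases rE with ⟨r3, r4⟩ | ⟨r3, r4⟩
  · -- g = ±1
    have hy0 : y = 0 := half y (by linear_combination r1 + r3)
    have hz0 : z = 0 := by rw [← r3, hy0]
    have htx : t = x := r2.symm
    have hx2 : x ^ 2 = 1 := by
      rw [htx, hy0, hz0] at hdet
      linear_combination hdet
    rcases h8sq_eq_one x hx2 with h | h
    · left
      exact ⟨h, hy0, hz0, by rw [htx, h]⟩
    · right; left
      exact ⟨h, hy0, hz0, by rw [htx, h]⟩
  · -- g = ±W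
    have hx0 : x = 0 := half x (by linear_combination r2 + r3)
    have ht0 : t = 0 := by rw [r3, hx0, neg_zero]
    have hz' : z = -y := by linear_combination r1
    have hy2 : y ^ 2 = 1 := by
      rw [hz', hx0, ht0] at hdet
      linear_combination hdet
    rcases h8sq_eq_one y hy2 with h | h
    · right; right; left
      exact ⟨hx0, h, by rw [hz', h], ht0⟩
    · right; right; right; left
      exact ⟨hx0, h, by rw [hz', h, neg_neg], ht0⟩
  · -- g = ±E
    have hyx : y = x := by linear_combination r2 - r4 - x * h3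
    have hzx : z = x := by rw [← r1, hyx]
    have htx : t = -x := r2
    have hx2 : x ^ 2 = 1 := by
      rw [htx, hyx, hzx] at hdet
      linear_combination hdet + x ^ 2 * h3
    rcases h8sq_eq_one x hx2 with h | h
    · right; right; right; right; left
      exact ⟨h, by rw [hyx, h], by rw [hzx, h], by rw [htx, h]⟩
    · right; right; right; right; right; left
      exact ⟨h, by rw [hyx, h], by rw [hzx, h], by rw [htx, h, neg_neg]⟩
  · -- g = ±WE
    have hyx : y = -x := by
      have : x + y = 0 := half (x + y) (by linear_combination r4 + r1)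
      linear_combination this
    have hzx : z = -x := by rw [← r1, hyx]
    have htx : t = -x := r2
    have hx2 : x ^ 2 = 1 := by
      rw [htx, hyx, hzx] at hdet
      linear_combination hdet + x ^ 2 * h3
    rcases h8sq_eq_one x hx2 with h | h
    · right; right; right; right; right; right; left
      exact ⟨h, by rw [hyx, h], by rw [hzx, h], by rw [htx, h]⟩
    · right; right; right; right; right; right; right
      exact ⟨h, by rw [hyx, h, neg_neg], by rw [hzx, h, neg_neg], by rw [htx, h, neg_neg]⟩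

/-- an element of `SL₂` commuting up to sign with the two generators of the quaternion group
lies in the quaternion group -/
theorem h8q8_of_comm (h3 : (3 : F) = 0) (g : SpecialLinearGroup (Fin 2) F)
    (hW : g * h8slW = h8slW * g ∨ g * h8slW = -(h8slW * g))
    (hE : g * h8slE h3 = h8slE h3 * g ∨ g * h8slE h3 = -(h8slE h3 * g)) :
    g = 1 ∨ g = -1 ∨ g = h8slW ∨ g = -h8slW ∨ g = h8slE h3 ∨ g = -h8slE h3 ∨
      g = h8slW * h8slE h3 ∨ g = -(h8slW * h8slE h3) := by
  have hdet := h8sl_det g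
  obtain ⟨x, hx⟩ : ∃ x, g 0 0 = x := ⟨_, rfl⟩
  obtain ⟨y, hy⟩ : ∃ y, g 0 1 = y := ⟨_, rfl⟩
  obtain ⟨z, hz⟩ : ∃ z, g 1 0 = z := ⟨_, rfl⟩
  obtain ⟨t, ht⟩ : ∃ t, g 1 1 = t := ⟨_, rfl⟩
  rw [hx, hy, hz, ht] at hdet
  -- the entries of the four products
  have eW := h8sl_entries_mul g h8slW
  have eW' := h8sl_entries_mul h8slW g
  have eE := h8sl_entries_mul g (h8slE h3)
  have eE' := h8sl_entries_mul (h8slE h3) g
  have w00 : (h8slW : SpecialLinearGroup (Fin 2) F) 0 0 = 0 := by simp [h8slW_val]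
  have w01 : (h8slW : SpecialLinearGroup (Fin 2) F) 0 1 = 1 := by simp [h8slW_val]
  have w10 : (h8slW : SpecialLinearGroup (Fin 2) F) 1 0 = -1 := by simp [h8slW_val]
  have w11 : (h8slW : SpecialLinearGroup (Fin 2) F) 1 1 = 0 := by simp [h8slW_val]
  have e00 : (h8slE h3) 0 0 = (1 : F) := by simp [h8slE_val]
  have e01 : (h8slE h3) 0 1 = (1 : F) := by simp [h8slE_val]
  have e10 : (h8slE h3) 1 0 = (1 : F) := by simp [h8slE_val]
  have e11 : (h8slE h3) 1 1 = (-1 : F) := by simp [h8slE_val]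
  rw [w00, w01, w10, w11, hx, hy, hz, ht] at eW eW'
  rw [e00, e01, e10, e11, hx, hy, hz, ht] at eE eE'
  -- relations from the hypotheses
  have rW : (y = -z ∧ x = t) ∨ (y = z ∧ t = -x) := by
    rcases hW with h | h
    · left
      have h00 : ((g * h8slW : SpecialLinearGroup (Fin 2) F)) 0 0 = ((h8slW * g : SpecialLinearGroup (Fin 2) F)) 0 0 := by rw [h]
      have h01 : ((g * h8slW : SpecialLinearGroup (Fin 2) F)) 0 1 = ((h8slW * g : SpecialLinearGroup (Fin 2) F)) 0 1 := by rw [h]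
      rw [eW.1, eW'.1] at h00
      rw [eW.2.1, eW'.2.1] at h01
      constructor
      · linear_combination (-1 : F) * h00
      · linear_combination h01
    · right
      have h00 : ((g * h8slW : SpecialLinearGroup (Fin 2) F)) 0 0 = ((-(h8slW * g) : SpecialLinearGroup (Fin 2) F)) 0 0 := by rw [h]
      have h01 : ((g * h8slW : SpecialLinearGroup (Fin 2) F)) 0 1 = ((-(h8slW * g) : SpecialLinearGroup (Fin 2) F)) 0 1 := by rw [h]
      rw [h8sl_entries_neg, eW.1, eW'.1] at h00
      rw [h8sl_entries_neg, eW.2.1, eW'.2.1] at h01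
      constructor
      · linear_combination (-1 : F) * h00
      · linear_combination h01
  have rE : (y = z ∧ t = x + y) ∨ (t = -x ∧ x + y = -x - z) := by
    rcases hE with h | h
    · left
      have h00 : ((g * h8slE h3 : SpecialLinearGroup (Fin 2) F)) 0 0 = ((h8slE h3 * g : SpecialLinearGroup (Fin 2) F)) 0 0 := by rw [h]
      have h01 : ((g * h8slE h3 : SpecialLinearGroup (Fin 2) F)) 0 1 = ((h8slE h3 * g : SpecialLinearGroup (Fin 2) F)) 0 1 := by rw [h]
      rw [eE.1, eE'.1] at h00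
      rw [eE.2.1, eE'.2.1] at h01
      have hyz : y = z := by linear_combination h00
      refine ⟨hyz, ?_⟩
      linear_combination (-1 : F) * h01 - y * h3
    · right
      have h00 : ((g * h8slE h3 : SpecialLinearGroup (Fin 2) F)) 0 0 = ((-(h8slE h3 * g) : SpecialLinearGroup (Fin 2) F)) 0 0 := by rw [h]
      have h01 : ((g * h8slE h3 : SpecialLinearGroup (Fin 2) F)) 0 1 = ((-(h8slE h3 * g) : SpecialLinearGroup (Fin 2) F)) 0 1 := by rw [h]
      rw [h8sl_entries_neg, eE.1, eE'.1] at h00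
      rw [h8sl_entries_neg, eE.2.1, eE'.2.1] at h01
      constructor
      · linear_combination h01
      · linear_combination h00
  have WE := h8sl_entries_mul (h8slW : SpecialLinearGroup (Fin 2) F) (h8slE h3)
  rw [w00, w01, w10, w11, e00, e01, e10, e11] at WE
  rcases h8q8_aux h3 x y z t hdet rW rE with ⟨a1, a2, a3, a4⟩ | ⟨a1, a2, a3, a4⟩ |
    ⟨a1, a2, a3, a4⟩ | ⟨a1, a2, a3, a4⟩ | ⟨a1, a2, a3, a4⟩ | ⟨a1, a2, a3, a4⟩ |
    ⟨a1, a2, a3, a4⟩ | ⟨a1, a2, a3, a4⟩
  · left
    apply h8sl_ext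
    · rw [hx, a1]; simp
    · rw [hy, a2]; simp
    · rw [hz, a3]; simp
    · rw [ht, a4]; simp
  · right; left
    apply h8sl_ext
    · rw [hx, a1, h8sl_entries_neg]; simp
    · rw [hy, a2, h8sl_entries_neg]; simp
    · rw [hz, a3, h8sl_entries_neg]; simp
    · rw [ht, a4, h8sl_entries_neg]; simp
  · right; right; left
    apply h8sl_ext
    · rw [hx, a1, w00]
    · rw [hy, a2, w01]
    · rw [hz, a3, w10]
    · rw [ht, a4, w11]
  · right; right; right; left
    apply h8sl_ext
    · rw [hx, a1, h8sl_entries_neg, w00, neg_zero]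
    · rw [hy, a2, h8sl_entries_neg, w01]
    · rw [hz, a3, h8sl_entries_neg, w10, neg_neg]
    · rw [ht, a4, h8sl_entries_neg, w11, neg_zero]
  · right; right; right; right; left
    apply h8sl_ext
    · rw [hx, a1, e00]
    · rw [hy, a2, e01]
    · rw [hz, a3, e10]
    · rw [ht, a4, e11]
  · right; right; right; right; right; left
    apply h8sl_ext
    · rw [hx, a1, h8sl_entries_neg, e00]
    · rw [hy, a2, h8sl_entries_neg, e01]
    · rw [hz, a3, h8sl_entries_neg, e10]
    · rw [ht, a4, h8sl_entries_neg, e11, neg_neg]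
  · right; right; right; right; right; right; left
    apply h8sl_ext
    · rw [hx, a1, WE.1]; ring
    · rw [hy, a2, WE.2.1]; ring
    · rw [hz, a3, WE.2.2.1]; ring
    · rw [ht, a4, WE.2.2.2]; ring
  · right; right; right; right; right; right; right
    apply h8sl_ext
    · rw [hx, a1, h8sl_entries_neg, WE.1]; ring
    · rw [hy, a2, h8sl_entries_neg, WE.2.1]; ring
    · rw [hz, a3, h8sl_entries_neg, WE.2.2.1]; ring
    · rw [ht, a4, h8sl_entries_neg, WE.2.2.2]; ring

end Cfsg.Agent.Lib.helper8
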