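import Mathlib
import Cfsg.Prelude.Def_GeometricClasses
import Cfsg.Agent.Lib.Helper27.ASC.Defs
import Cfsg.Agent.Lib.helper23.ASCO.Defs
import Cfsg.Agent.Lib.Helper19.ASG.Defs
import Cfsg.Agent.Lib.Helper25.ASO.Defs
import Cfsg.Agent.Lib.helper23.ASE.Defs
import Cfsg.Agent.Lib.Helper26.E12P.Defs
import Cfsg.Agent.Lib.Helper11.ASESIMIL

set_option autoImplicit false
set_option linter.unusedVariables false
set_option linter.unusedSectionVars false

/-!
# Project E12P (leader: helper26), piece BLK3, core (helper8)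

* `e12pblk3_pair` : two orthogonal, disjoint, isometric non-degenerate subspaces of even dimension span a subspace of plus type
  (`T = {w + σ (g w)}`, `g` a similitude with multiplier `-1`);
* `e12pblk3_core` : BLK3 (`three_blocks_plus`) with WITTC (`plus_cancel`) as a hypothesis.
-/

namespace Cfsg.Agent.Lib.Helper26.E12P

open Cfsg Cfsg.Geo Cfsg.Agent.Lib.Helper27.ASC Cfsg.Agent.Lib.helper23.ASCO Cfsg.Agent.Lib.Helper19.ASG
  Cfsg.Agent.Lib.Helper25.ASO Cfsg.Agent.Lib.helper23.ASE
open scoped MatrixGroups Matrix Kronecker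

variable {n : ℕ} {F : Type*} [Field F] [Fintype F]

/-- two orthogonal, disjoint, isometric non-degenerate subspaces of even dimension span a subspace of plus type -/
theorem e12pblk3_pair (Q : QuadraticForm F (Fin n → F)) (W W' : Submodule F (Fin n → F))
    (hWnd : IsNondegenerateOn (QuadraticMap.polar (⇑Q)) W) (hev : Even (Module.finrank F W))
    (horth : AreOrthogonalFor (QuadraticMap.polar (⇑Q)) W W') (hiso : AreIsometricFor (⇑Q) W W')
    (hdisj : Disjoint W W') : IsPlusTypeOn (⇑Q) (W ⊔ W') := by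
  classical
  obtain ⟨σ, hσ⟩ := hiso
  obtain ⟨g, hg⟩ := exists_similitude Q W hWnd hev (-1) (neg_ne_zero.2 one_ne_zero)
  let φ : W →ₗ[F] (Fin n → F) := W.subtype + W'.subtype ∘ₗ σ.toLinearMap ∘ₗ g.toLinearMap
  have hφ : ∀ w : W, φ w = (w : Fin n → F) + ((σ (g w) : W') : Fin n → F) := fun w => rfl
  have hinj : Function.Injective φ := by
    rw [← LinearMap.ker_eq_bot, LinearMap.ker_eq_bot']
    intro w hw
    rw [hφ] at hw
    have h1 : (w : Fin n → F) = -((σ (g w) : W') : Fin n → F) := eq_neg_of_add_eq_zero_left hw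
    have h2 : (w : Fin n → F) ∈ W' := by
      rw [h1]
      exact W'.neg_mem (σ (g w)).2
    have h3 : (w : Fin n → F) = 0 := by
      have := Submodule.disjoint_def.1 hdisj _ w.2 h2
      exact this
    exact Subtype.ext h3
  refine ⟨LinearMap.range φ, ?_, ?_, ?_⟩
  · rintro _ ⟨w, rfl⟩
    rw [hφ]
    exact Submodule.add_mem _ (Submodule.mem_sup_left w.2) (Submodule.mem_sup_right (σ (g w)).2)
  · rintro _ ⟨w, rfl⟩
    rw [hφ, QuadraticMap.map_add Q, hσ, hg, horth _ w.2 _ (σ (g w)).2]
    ring
  · rw [LinearMap.finrank_range_of_inj hinj]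
    have h1 := Submodule.finrank_sup_add_finrank_inf_eq W W'
    rw [hdisj.eq_bot, finrank_bot, add_zero] at h1
    rw [h1, ← LinearEquiv.finrank_eq σ]
    ring

/-- BLK3 with WITTC as a hypothesis -/
theorem e12pblk3_core (Q : QuadraticForm F (Fin n → F))
    (hcancel : ∀ Y Z : Submodule F (Fin n → F), AreOrthogonalFor (QuadraticMap.polar (⇑Q)) Y Z → Y ⊔ Z = ⊤ →
      IsPlusTypeOn (⇑Q) Y → IsPlusTypeOn (⇑Q) Z)
    {k : ℕ} (hk : Even k) (D : Fin 3 → Submodule F (Fin n → F))
    (hD : IsOrthogonalMDecomposition (⇑Q) k D) : ∀ i, IsPlusTypeOn (⇑Q) (D i) := by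
  classical
  have key : ∀ i j l : Fin 3, i ≠ j → i ≠ l → j ≠ l → (∀ x : Fin 3, x = i ∨ x = j ∨ x = l) →
      IsPlusTypeOn (⇑Q) (D i) := by
    intro i j l hij hil hjl hall
    have hdisj : Disjoint (D j) (D l) := by
      have := hD.decomp.decomp.indep j
      exact this.mono_right (le_iSup₂_of_le l (fun h => hjl h.symm) le_rfl)
    have hY : IsPlusTypeOn (⇑Q) (D j ⊔ D l) :=
      e12pblk3_pair Q (D j) (D l) (hD.decomp.nondegenerate j)
        (by rw [hD.decomp.decomp.finrank_eq]; exact hk) (hD.decomp.orthogonal j l hjl) (hD.isometric j l) hdisj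
    refine hcancel (D j ⊔ D l) (D i) ?_ ?_ hY
    · intro y hy z hz
      obtain ⟨a, ha, b, hb, rfl⟩ := Submodule.mem_sup.1 hy
      rw [QuadraticMap.polar_add_left, hD.decomp.orthogonal j i (fun h => hij h.symm) a ha z hz,
        hD.decomp.orthogonal l i (fun h => hil h.symm) b hb z hz, add_zero]
    · rw [eq_top_iff, ← hD.decomp.decomp.iSup_eq_top]
      refine iSup_le fun x => ?_
      rcases hall x with rfl | rfl | rfl
      · exact le_sup_right
      · exact le_sup_of_le_left le_sup_left
      · exact le_sup_of_le_left le_sup_right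
  intro i
  fin_cases i
  · exact key 0 1 2 (by decide) (by decide) (by decide) (by decide)
  · exact key 1 0 2 (by decide) (by decide) (by decide) (by decide)
  · exact key 2 0 1 (by decide) (by decide) (by decide) (by decide)

end Cfsg.Agent.Lib.Helper26.E12P
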