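import Mathlib
import Cfsg.Prelude.Def_GeometricClasses
import Cfsg.Agent.Lib.Helper27.ASC.Defs
import Cfsg.Agent.Lib.helper23.ASCO.Defs
import Cfsg.Agent.Lib.Helper19.ASG.Defs
import Cfsg.Agent.Lib.Helper25.ASO.Defs
import Cfsg.Agent.Lib.helper23.ASE.Defs
import Cfsg.Agent.Lib.Helper26.E12P.Defs
import Cfsg.Agent.Lib.Helper28.OTens
import Cfsg.Agent.Lib.Helper22.ASPCFG
import Cfsg.Agent.Lib.Helper11.ASESIMIL
import Cfsg.Agent.Lib.Helper24.ElT

set_option autoImplicit false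
set_option linter.unusedVariables false
set_option linter.unusedSectionVars false

/-!
# Project E12P (leader: helper26), piece T3TYPE, core (helper8)

`e12pt3type_core` : `tens3_factor_plus` with BLK3 (`three_blocks_plus`) as a hypothesis, for a first factor of ANY dimension `k ≥ 2`
(the statement `hblk` is: the first block of every orthogonal decomposition into `k` isometric `d`-spaces is of plus type).
`e12pt3type_dec` : the orthogonal decomposition `D i = u_i ⊗ F^d` attached to an `A`-orthogonal basis `u`.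
-/

namespace Cfsg.Agent.Lib.Helper26.E12P

open Cfsg Cfsg.Geo Cfsg.Agent.Lib.Helper27.ASC Cfsg.Agent.Lib.helper23.ASCO Cfsg.Agent.Lib.Helper19.ASG
  Cfsg.Agent.Lib.Helper25.ASO Cfsg.Agent.Lib.helper23.ASE
open Cfsg.Agent.Lib.Helper18.ASP
open Cfsg.Agent.Lib.Helper28.OTens
open scoped MatrixGroups Matrix Kronecker

variable {n : ℕ} {F : Type*} [Field F] [Fintype F]

omit [Fintype F] in
/-- an orthogonal basis for a symmetric invertible matrix (`2 ≠ 0`) -/
theorem e12pt3type_orth_basis (h2 : (2 : F) ≠ 0) {k : ℕ} (A : Matrix (Fin k) (Fin k) F) (hA : A.det ≠ 0)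
    (hAs : Aᵀ = A) :
    ∃ u : Fin k → (Fin k → F), (∀ i j, i ≠ j → u i ⬝ᵥ (A *ᵥ u j) = 0) ∧ (∀ i, u i ⬝ᵥ (A *ᵥ u i) ≠ 0) := by
  classical
  have : Invertible (2 : F) := invertibleOfNonzero h2
  have hsymm : LinearMap.IsSymm (Matrix.toBilin' A) := by
    refine ⟨fun x y => ?_⟩
    simp only [Matrix.toBilin'_apply', RingHom.id_apply]
    rw [Matrix.dotProduct_mulVec, ← Matrix.mulVec_transpose, hAs, dotProduct_comm]
  obtain ⟨v, hv⟩ := LinearMap.BilinForm.exists_orthogonal_basis hsymm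
  have hnd : (Matrix.toBilin' A).Nondegenerate :=
    Matrix.nondegenerate_toBilin'_iff.2 (Matrix.nondegenerate_of_det_ne_zero hA)
  have hself := LinearMap.IsOrthoᵢ.not_isOrtho_basis_self_of_separatingLeft hv hnd.1
  have hfr : Module.finrank F (Fin k → F) = k := Module.finrank_fin_fun F
  refine ⟨fun i => v (Fin.cast hfr.symm i), fun i j hij => ?_, fun i => ?_⟩
  · have h1 : Fin.cast hfr.symm i ≠ Fin.cast hfr.symm j := by
      intro h
      apply hij
      have := congrArg (Fin.cast hfr) h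
      simpa using this
    have := hv h1
    simpa [Function.onFun, Matrix.toBilin'_apply'] using this
  · have := hself (Fin.cast hfr.symm i)
    simpa [Matrix.toBilin'_apply'] using this

omit [Fintype F] in
/-- pairwise orthogonal subspaces on which the polar form is non-degenerate are independent -/
theorem e12pt3type_indep (Q : QuadraticForm F (Fin n → F)) {t : ℕ} (D : Fin t → Submodule F (Fin n → F))
    (hnd : ∀ i, ∀ w ∈ D i, w ≠ 0 → ∃ x ∈ D i, QuadraticMap.polar (⇑Q) x w ≠ 0)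
    (horth : ∀ i j, i ≠ j → ∀ x ∈ D i, ∀ y ∈ D j, QuadraticMap.polar (⇑Q) x y = 0) : iSupIndep D := by
  intro i
  rw [Submodule.disjoint_def]
  intro x hxi hx
  by_contra hx0
  obtain ⟨y, hy, hyx⟩ := hnd i x hxi hx0
  let Pp : Submodule F (Fin n → F) :=
    { carrier := {z | QuadraticMap.polar (⇑Q) y z = 0}
      add_mem' := by
        intro a b ha hb
        show QuadraticMap.polar (⇑Q) y (a + b) = 0
        rw [QuadraticMap.polar_add_right, ha, hb, add_zero]
      zero_mem' := by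
        show QuadraticMap.polar (⇑Q) y 0 = 0
        simp
      smul_mem' := by
        intro c a ha
        show QuadraticMap.polar (⇑Q) y (c • a) = 0
        rw [QuadraticMap.polar_smul_right, ha, smul_zero] }
  have hle : (⨆ j, ⨆ (_ : j ≠ i), D j) ≤ Pp := by
    refine iSup_le fun j => iSup_le fun hj => ?_
    intro z hz
    exact horth i j (fun h => hj h.symm) y hy z hz
  exact hyx (hle hx)

/-- the orthogonal decomposition into the blocks `u_i ⊗ F^d` attached to an `A`-orthogonal basis `u` (`d` even, `2 ≠ 0`) -/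
theorem e12pt3type_dec (h2 : (2 : F) ≠ 0) (Q : QuadraticForm F (Fin n → F)) {k d : ℕ} (hk : 2 ≤ k) (hd : Even d)
    (hd0 : 0 < d) (e : Fin n ≃ Fin k × Fin d) (P : GL (Fin n) F)
    (A : Matrix (Fin k) (Fin k) F) (B : Matrix (Fin d) (Fin d) F) (hB : B.det ≠ 0)
    (hBs : Bᵀ = B) (hAB : KronGram (QuadraticMap.polar (⇑Q)) e P A B)
    (u : Fin k → (Fin k → F)) (huo : ∀ i j, i ≠ j → u i ⬝ᵥ (A *ᵥ u j) = 0) (hua : ∀ i, u i ⬝ᵥ (A *ᵥ u i) ≠ 0) :
    IsOrthogonalMDecomposition (⇑Q) d (fun i => blk e P (u i)) ∧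
      ∀ i (v : Fin d → F), Q (tau e P (u i) v) = 2⁻¹ * ((u i ⬝ᵥ (A *ᵥ u i)) * (v ⬝ᵥ (B *ᵥ v))) := by
  classical
  have hcard : n = k * d := by
    have := Fintype.card_congr e
    simpa using this
  have tf : ∀ α α' v v', QuadraticMap.polar (⇑Q) (tau e P α v) (tau e P α' v') =
      (α ⬝ᵥ (A *ᵥ α')) * (v ⬝ᵥ (B *ᵥ v')) := by
    intro α α' v v'
    have h1 := hAB (pt α v) (pt α' v')
    rw [pt_form] at h1
    unfold tau
    rw [h1]
    simp only [dotProduct, Matrix.mulVec, Finset.mul_sum, mul_assoc]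
  have hX0 : ∀ i, u i ≠ 0 := by
    intro i h
    apply hua i
    rw [h, zero_dotProduct]
  obtain ⟨D, hD⟩ : ∃ D : Fin k → Submodule F (Fin n → F), D = fun i => blk e P (u i) := ⟨_, rfl⟩
  have hDmem : ∀ i w, w ∈ D i ↔ ∃ v, tau e P (u i) v = w := by
    intro i w
    rw [hD]
    exact mem_blk e P _ _
  have hfr : ∀ i, Module.finrank F (D i) = d := by
    intro i
    rw [hD]
    exact blk_finrank e P (hX0 i)
  have htau0 : ∀ α : Fin k → F, tau e P α (0 : Fin d → F) = 0 := by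
    intro α
    have := tau_smul_right e P 0 α 0
    rw [zero_smul, zero_smul] at this
    exact this
  have horth : ∀ i j, i ≠ j → ∀ x ∈ D i, ∀ y ∈ D j, QuadraticMap.polar (⇑Q) x y = 0 := by
    intro i j hij x hx y hy
    obtain ⟨v, rfl⟩ := (hDmem i x).1 hx
    obtain ⟨v', rfl⟩ := (hDmem j y).1 hy
    rw [tf, huo i j hij, zero_mul]
  have hBnd : ∀ v : Fin d → F, v ≠ 0 → ∃ x : Fin d → F, x ⬝ᵥ (B *ᵥ v) ≠ 0 := by
    intro v hv
    by_contra hcon
    push Not at hcon
    have h1 : B *ᵥ v = 0 := by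
      funext i
      have := hcon (Pi.single i 1)
      simpa using this
    have h3 : B⁻¹ *ᵥ (B *ᵥ v) = v := by
      rw [Matrix.mulVec_mulVec, Matrix.nonsing_inv_mul _ (isUnit_iff_ne_zero.2 hB), Matrix.one_mulVec]
    rw [h1, Matrix.mulVec_zero] at h3
    exact hv h3.symm
  have hnd : ∀ i, ∀ w ∈ D i, w ≠ 0 → ∃ x ∈ D i, QuadraticMap.polar (⇑Q) x w ≠ 0 := by
    intro i w hw hw0
    obtain ⟨v, rfl⟩ := (hDmem i w).1 hw
    have hv0 : v ≠ 0 := by
      rintro rfl
      exact hw0 (htau0 (u i))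
    obtain ⟨x, hx⟩ := hBnd v hv0
    refine ⟨tau e P (u i) x, (hDmem i _).2 ⟨_, rfl⟩, ?_⟩
    rw [tf]
    exact mul_ne_zero (hua i) hx
  have hindep : iSupIndep D := e12pt3type_indep Q D hnd horth
  have hsup : iSup D = ⊤ := by
    apply Submodule.eq_top_of_finrank_eq
    rw [Module.finrank_fin_fun, Cfsg.Agent.Lib.Helper24.el_finrank_iSup D hindep]
    simp only [hfr, Finset.sum_const, Finset.card_univ, Fintype.card_fin, smul_eq_mul]
    exact hcard.symm
  have hpsymm : ∀ x y : Fin n → F, QuadraticMap.polar (⇑Q) x y = QuadraticMap.polar (⇑Q) y x :=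
    fun x y => QuadraticMap.polar_comm _ _ _
  have hQtau : ∀ i v, Q (tau e P (u i) v) = 2⁻¹ * ((u i ⬝ᵥ (A *ᵥ u i)) * (v ⬝ᵥ (B *ᵥ v))) := by
    intro i v
    have h1 := tf (u i) (u i) v v
    rw [QuadraticMap.polar_self, two_smul, ← two_mul] at h1
    rw [← h1]
    field_simp
  have hinj : ∀ i, Function.Injective (tauLin e P (u i)) := by
    intro i v v' h
    exact tau_inj e P (hX0 i) h
  have hDnd : ∀ i, IsNondegenerateOn (QuadraticMap.polar (⇑Q)) (D i) := by
    intro i w hw hw0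
    obtain ⟨x, hx, hxw⟩ := hnd i w hw hw0
    refine ⟨⟨x, hx, hxw⟩, ⟨x, hx, ?_⟩⟩
    rw [hpsymm]
    exact hxw
  refine ⟨?_, hQtau⟩
  rw [← hD]
  refine ⟨⟨⟨hk, hd0, hfr, hindep, hsup⟩, hDnd, ?_⟩, ?_⟩
  · intro i j hij
    exact horth i j hij
  · intro i j
    have hDi : D i = LinearMap.range (tauLin e P (u i)) := by rw [hD]; rfl
    have hDj : D j = LinearMap.range (tauLin e P (u j)) := by rw [hD]; rfl
    -- a similitude of `D i` with multiplier `a_i / a_j`
    have hci : (u i ⬝ᵥ (A *ᵥ u i)) / (u j ⬝ᵥ (A *ᵥ u j)) ≠ 0 := div_ne_zero (hua i) (hua j)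
    obtain ⟨g, hg⟩ := exists_similitude Q (D i) (hDnd i) (by rw [hfr]; exact hd) _ hci
    -- the transport `u_i ⊗ w ↦ u_j ⊗ w`
    obtain ⟨ι, hι⟩ : ∃ ι : D i ≃ₗ[F] D j, ∀ v : Fin d → F, ∀ (hm : tau e P (u i) v ∈ D i),
        ((ι ⟨tau e P (u i) v, hm⟩ : D j) : Fin n → F) = tau e P (u j) v := by
      obtain ⟨e1, he1⟩ : ∃ e1 : D i ≃ₗ[F] LinearMap.range (tauLin e P (u i)),
          ∀ x, ((e1 x : LinearMap.range (tauLin e P (u i))) : Fin n → F) = (x : Fin n → F) :=
        ⟨LinearEquiv.ofEq _ _ hDi, fun x => rfl⟩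
      obtain ⟨e2, he2⟩ : ∃ e2 : LinearMap.range (tauLin e P (u j)) ≃ₗ[F] D j,
          ∀ x, ((e2 x : D j) : Fin n → F) = (x : Fin n → F) :=
        ⟨LinearEquiv.ofEq _ _ hDj.symm, fun x => rfl⟩
      refine ⟨(e1.trans ((LinearEquiv.ofInjective (tauLin e P (u i)) (hinj i)).symm.trans
        (LinearEquiv.ofInjective (tauLin e P (u j)) (hinj j)))).trans e2, ?_⟩
      intro v hm
      have h1 : (LinearEquiv.ofInjective (tauLin e P (u i)) (hinj i)).symm
          ⟨tauLin e P (u i) v, v, rfl⟩ = v := by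
        apply hinj i
        have := (LinearEquiv.ofInjective (tauLin e P (u i)) (hinj i)).apply_symm_apply
          ⟨tauLin e P (u i) v, v, rfl⟩
        exact congrArg Subtype.val this
      have h2 : e1 ⟨tau e P (u i) v, hm⟩ = ⟨tauLin e P (u i) v, v, rfl⟩ := by
        apply Subtype.ext
        rw [he1]
        rfl
      simp only [LinearEquiv.trans_apply]
      rw [h2, h1, he2]
      rfl
    refine ⟨g.trans ι, ?_⟩
    intro w
    obtain ⟨v, hv⟩ := (hDmem i _).1 (g w).2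
    have h3 : g w = ⟨tau e P (u i) v, (hDmem i _).2 ⟨v, rfl⟩⟩ := Subtype.ext hv.symm
    rw [LinearEquiv.trans_apply, h3, hι, hQtau]
    have h4 := hg w
    rw [h3] at h4
    simp only at h4
    rw [hQtau] at h4
    have haj := hua j
    have hai := hua i
    have h5 : (2 : F)⁻¹ * ((u j ⬝ᵥ (A *ᵥ u j)) * (v ⬝ᵥ (B *ᵥ v))) =
        ((u j ⬝ᵥ (A *ᵥ u j)) / (u i ⬝ᵥ (A *ᵥ u i))) *
          (2⁻¹ * ((u i ⬝ᵥ (A *ᵥ u i)) * (v ⬝ᵥ (B *ᵥ v)))) := by
      field_simp
    rw [h5, h4]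
    field_simp

/-- T3TYPE with BLK3 as a hypothesis (first factor of any dimension `k ≥ 2`) -/
theorem e12pt3type_core (h2 : (2 : F) ≠ 0) (Q : QuadraticForm F (Fin n → F)) {k d : ℕ} (hk : 2 ≤ k) (hd : Even d)
    (hd0 : 0 < d) (e : Fin n ≃ Fin k × Fin d) (P : GL (Fin n) F)
    (A : Matrix (Fin k) (Fin k) F) (B : Matrix (Fin d) (Fin d) F) (hA : A.det ≠ 0) (hB : B.det ≠ 0)
    (hAs : Aᵀ = A) (hBs : Bᵀ = B) (hAB : KronGram (QuadraticMap.polar (⇑Q)) e P A B)
    (hblk : ∀ D : Fin k → Submodule F (Fin n → F), IsOrthogonalMDecomposition (⇑Q) d D →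
      IsPlusTypeOn (⇑Q) (D ⟨0, by omega⟩)) :
    IsPlusTypeOn (fun v : Fin d → F => formOfGram id B v v) ⊤ := by
  classical
  obtain ⟨u, huo, hua⟩ := e12pt3type_orth_basis h2 A hA hAs
  obtain ⟨hD, hQtau⟩ := e12pt3type_dec h2 Q hk hd hd0 e P A B hB hBs hAB u huo hua
  obtain ⟨U, hUle, hUts, hUdim⟩ := hblk _ hD
  set i₀ : Fin k := ⟨0, by omega⟩ with hi₀
  have hX0 : u i₀ ≠ 0 := by
    intro h
    apply hua i₀
    rw [h, zero_dotProduct]
  have hinj : Function.Injective (tauLin e P (u i₀)) := by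
    intro v v' h
    exact tau_inj e P hX0 h
  have hfr : Module.finrank F (blk e P (u i₀)) = d := blk_finrank e P hX0
  refine ⟨U.comap (tauLin e P (u i₀)), le_top, ?_, ?_⟩
  · intro v hv
    have h1 : Q (tau e P (u i₀) v) = 0 := hUts _ hv
    rw [hQtau] at h1
    show formOfGram id B v v = 0
    rw [spc_formOfGram_eq_dot]
    rcases mul_eq_zero.1 h1 with h | h
    · exact absurd h (inv_ne_zero h2)
    · rcases mul_eq_zero.1 h with h' | h'
      · exact absurd h' (hua i₀)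
      · exact h'
  · have h1 : (U.comap (tauLin e P (u i₀))).map (tauLin e P (u i₀)) = U := by
      rw [Submodule.map_comap_eq]
      exact inf_eq_right.2 hUle
    have h2' : Module.finrank F ((U.comap (tauLin e P (u i₀))).map (tauLin e P (u i₀))) =
        Module.finrank F (U.comap (tauLin e P (u i₀))) :=
      (LinearEquiv.finrank_eq (Submodule.equivMapOfInjective _ hinj _)).symm
    rw [h1] at h2'
    rw [← h2', hUdim, finrank_top, Module.finrank_fin_fun]
    exact hfr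

end Cfsg.Agent.Lib.Helper26.E12P
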