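import Mathlib
import Cfsg.Prelude.Def_GeometricClasses
import Cfsg.Agent.Lib.Helper27.ASC.Defs
import Cfsg.Agent.Lib.helper23.ASCO.Defs
import Cfsg.Agent.Lib.Helper19.ASG.Defs
import Cfsg.Agent.Lib.Helper25.ASO.Defs
import Cfsg.Agent.Lib.helper23.ASE.Defs
import Cfsg.Agent.Lib.Helper26.E12P.Defs
import Cfsg.Agent.Lib.helper8.E12PT3TYPEcore
import Cfsg.Agent.Lib.helper8.E12PBLK3core
import Cfsg.Agent.Lib.Helper11.E12PWITTC

set_option autoImplicit false
set_option linter.unusedVariables false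
set_option linter.unusedSectionVars false

/-!
# Project E12P (leader: helper26), piece T3TYPE : `tens3_factor_plus` (helper8)

`e12pt3type_core` (helper8.E12PT3TYPEcore) + `e12pblk3_core` (helper8.E12PBLK3core = BLK3 modulo WITTC) + WITTC `plus_cancel`
(Helper11.E12PWITTC).  `e12pt3type_blk3` is the statement of BLK3 (`three_blocks_plus`) under an own-prefixed name.
-/

namespace Cfsg.Agent.Lib.Helper26.E12P

open Cfsg Cfsg.Geo Cfsg.Agent.Lib.Helper27.ASC Cfsg.Agent.Lib.helper23.ASCO Cfsg.Agent.Lib.Helper19.ASG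
  Cfsg.Agent.Lib.Helper25.ASO Cfsg.Agent.Lib.helper23.ASE
open scoped MatrixGroups Matrix Kronecker

variable {n : ℕ} {F : Type*} [Field F] [Fintype F]

/-- the statement of BLK3 (`three_blocks_plus`) -/
theorem e12pt3type_blk3 (Q : QuadraticForm F (Fin n → F)) (hQ : (QuadraticMap.polarBilin Q).Nondegenerate)
    (hplus : IsPlusTypeOn (⇑Q) ⊤) {k : ℕ} (hk : Even k) (D : Fin 3 → Submodule F (Fin n → F))
    (hD : IsOrthogonalMDecomposition (⇑Q) k D) : ∀ i, IsPlusTypeOn (⇑Q) (D i) :=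
  e12pblk3_core Q (fun Y Z h1 h2 h3 => plus_cancel Q hQ hplus Y Z h1 h2 h3) hk D hD

/-- T3TYPE -/
theorem tens3_factor_plus (h2 : (2 : F) ≠ 0) (Q : QuadraticForm F (Fin n → F))
    (hQ : (QuadraticMap.polarBilin Q).Nondegenerate) (hplus : IsPlusTypeOn (⇑Q) ⊤) {d : ℕ} (hd : Even d)
    (e : Fin n ≃ Fin 3 × Fin d) (P : GL (Fin n) F)
    (A : Matrix (Fin 3) (Fin 3) F) (B : Matrix (Fin d) (Fin d) F) (hA : A.det ≠ 0) (hB : B.det ≠ 0)
    (hAs : Aᵀ = A) (hBs : Bᵀ = B) (hAB : KronGram (QuadraticMap.polar (⇑Q)) e P A B) :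
    IsPlusTypeOn (fun v : Fin d → F => formOfGram id B v v) ⊤ := by
  rcases Nat.eq_zero_or_pos d with hd0 | hd0
  · subst hd0
    refine ⟨⊥, le_top, fun w hw => ?_, ?_⟩
    · show formOfGram id B w w = 0
      unfold formOfGram
      simp
    · rw [finrank_bot, finrank_top, Module.finrank_fin_fun]
  · exact e12pt3type_core h2 Q (by norm_num) hd hd0 e P A B hA hB hAs hBs hAB
      (fun D hD => e12pt3type_blk3 Q hQ hplus hd D hD _)

end Cfsg.Agent.Lib.Helper26.E12P
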