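import Mathlib
import Cfsg.Prelude.Def_GeometricClasses
import Cfsg.Agent.Lib.Helper27.ASC.Defs
import Cfsg.Agent.Lib.helper23.ASCO.Defs
import Cfsg.Agent.Lib.Helper19.ASG.Defs
import Cfsg.Agent.Lib.Helper1.ASGCLIF3
import Cfsg.Agent.Lib.Helper25.ASO.Defs
import Cfsg.Agent.Lib.helper23.ASE.Defs
import Cfsg.Agent.Lib.helper7.EM12.Defs
import Cfsg.Agent.Lib.helper6.ASETENS2

set_option autoImplicit false
set_option linter.unusedVariables false
set_option linter.unusedSectionVars false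

/-!
# Project EM12 (leader: helper7), piece TENS3SYM : `tens3_sym` (helper8)

A tensor decomposition with a factor of dimension 3 forces odd characteristic and symmetric Gram factors: an alternating `3 × 3`
matrix is singular.
-/

namespace Cfsg.Agent.Lib.helper7.EM12

open Cfsg Cfsg.Geo Cfsg.Agent.Lib.Helper27.ASC Cfsg.Agent.Lib.helper23.ASCO Cfsg.Agent.Lib.Helper19.ASG
  Cfsg.Agent.Lib.Helper25.ASO Cfsg.Agent.Lib.helper23.ASE
open scoped MatrixGroups Matrix Kronecker

variable {n : ℕ} {F : Type*} [Field F] [Fintype F]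

omit [Fintype F] in
/-- a skew-symmetric `3 × 3` matrix with zero diagonal is singular -/
theorem em12tens3sym_alt3 (A : Matrix (Fin 3) (Fin 3) F) (hA : Aᵀ = -A) (hd : ∀ i, A i i = 0) : A.det = 0 := by
  have h := fun i j => congrFun (congrFun hA i) j
  simp only [Matrix.transpose_apply, Matrix.neg_apply] at h
  rw [Matrix.det_fin_three, hd 0, hd 1, hd 2, h 0 1, h 0 2, h 1 2]
  ring

/-- TENS3SYM -/
theorem tens3_sym (Q : QuadraticForm F (Fin n → F)) (hQ : (QuadraticMap.polarBilin Q).Nondegenerate)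
    {G : Subgroup (GL (Fin n) F)} (hG : Irr G) (hGO : G ≤ isometryGroup F (⇑Q)) {d : ℕ} (hd : 2 ≤ d)
    (e : Fin n ≃ Fin 3 × Fin d) (P : GL (Fin n) F) (hGT : G ≤ tensorProductSubgroup 3 d e P)
    (A : Matrix (Fin 3) (Fin 3) F) (B : Matrix (Fin d) (Fin d) F) (hA : IsUnit A.det) (hB : IsUnit B.det)
    (hsign : (Aᵀ = A ∧ Bᵀ = B) ∨ (Aᵀ = -A ∧ Bᵀ = -B)) (hAB : KronGram (QuadraticMap.polar (⇑Q)) e P A B) :
    (2 : F) ≠ 0 ∧ Aᵀ = A ∧ Bᵀ = B := by
  have hAdet : A.det ≠ 0 := hA.ne_zero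
  have h2 : (2 : F) ≠ 0 := by
    intro h2
    have hneg : ∀ {k : ℕ} (M : Matrix (Fin k) (Fin k) F), -M = M := by
      intro k M
      ext i j
      have h3 : (2 : F) * M i j = 0 := by rw [h2, zero_mul]
      simp only [Matrix.neg_apply]
      linear_combination -h3
    have hsym : Aᵀ = A ∧ Bᵀ = B := by
      rcases hsign with h | ⟨h1, h3⟩
      · exact h
      · exact ⟨by rw [h1, hneg], by rw [h3, hneg]⟩
    have hdiag := (etensor_alt_char2 h2 Q hQ hG hGO (by norm_num) hd e P hGT A B hA hB hsym.1 hsym.2 hAB).1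
    exact hAdet (em12tens3sym_alt3 A (by rw [hsym.1, hneg]) hdiag)
  refine ⟨h2, ?_⟩
  rcases hsign with h | ⟨hAk, -⟩
  · exact h
  · exfalso
    refine hAdet (em12tens3sym_alt3 A hAk (fun i => ?_))
    have h := congrFun (congrFun hAk i) i
    simp only [Matrix.transpose_apply, Matrix.neg_apply] at h
    have h3 : (2 : F) * A i i = 0 := by linear_combination h
    rcases mul_eq_zero.mp h3 with h4 | h4
    · exact absurd h4 h2
    · exact h4

end Cfsg.Agent.Lib.helper7.EM12
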