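import Mathlib

set_option autoImplicit false

namespace Cfsg.Agent.Lib.helper8

open Polynomial in
/-- every element of a finite field of odd order is a sum of two squares -/
theorem h8ba_sq_add_sq {K : Type*} [Field K] [Fintype K] (hodd : Fintype.card K % 2 = 1) (x : K) :
    ∃ a b : K, a ^ 2 + b ^ 2 = x := by
  classical
  let f : K[X] := X ^ 2
  let g : K[X] := X ^ 2 - C x
  obtain ⟨a, b, hab⟩ : ∃ a b, f.eval a + g.eval b = 0 :=
    FiniteField.exists_root_sum_quadratic (f := f) (g := g) (degree_X_pow 2)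
      (degree_X_pow_sub_C (by decide) _) hodd
  refine ⟨a, b, ?_⟩
  rw [← sub_eq_zero]
  simpa only [f, g, eval_C, eval_X, eval_pow, eval_sub, ← add_sub_assoc] using hab

section
variable {K : Type*} [Field K] (σ : K →+* K) (hσ : ∀ x, σ (σ x) = x ^ 3)

include hσ

/-- squares are of the form `c σ(c)` -/
theorem h8ba_sq_form (a : K) (ha : a ≠ 0) :
    ∃ c : K, c ≠ 0 ∧ c * σ c = a ^ 2 := by
  have hσa : σ a ≠ 0 := (map_ne_zero σ).mpr ha
  refine ⟨σ a * a⁻¹, mul_ne_zero hσa (inv_ne_zero ha), ?_⟩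
  rw [map_mul, map_inv₀, hσ]
  field_simp

/-- every non-zero element is of the form `c² σ(c)` -/
theorem h8ba_all_form (a : K) (ha : a ≠ 0) :
    ∃ c : K, c ≠ 0 ∧ c ^ 2 * σ c = a := by
  have hσa : σ a ≠ 0 := (map_ne_zero σ).mpr ha
  refine ⟨(σ a)⁻¹ * a ^ 2, mul_ne_zero (inv_ne_zero hσa) (pow_ne_zero _ ha), ?_⟩
  rw [map_mul, map_inv₀, hσ, map_pow]
  field_simp

/-- an element with `σ(s) ≠ s` is not in the prime field -/
theorem h8ba_add_ne_zero [CharP K 3] (s : K) (hs : σ s ≠ s) : s + σ s ≠ 0 := by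
  intro h
  have h1 : σ s = -s := by linear_combination h
  have h2 : s ^ 3 = s := by
    rw [← hσ, h1, map_neg, h1, neg_neg]
  have h3 : s * (s - 1) * (s + 1) = 0 := by linear_combination h2
  rcases mul_eq_zero.mp h3 with h4 | h4
  · rcases mul_eq_zero.mp h4 with h5 | h5
    · apply hs
      rw [h5, map_zero]
    · apply hs
      have : s = 1 := by linear_combination h5
      rw [this, map_one]
  · apply hs
    have : s = -1 := by linear_combination h4
    rw [this, map_neg, map_one]

end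

/-- an additive map commuting with multiplication by squares is linear -/
theorem h8ba_linear_of_sq {K : Type*} [Field K] [Fintype K] (hodd : Fintype.card K % 2 = 1)
    (α : K → K) (hadd : ∀ x y, α (x + y) = α x + α y)
    (hsq : ∀ a x, α (a ^ 2 * x) = a ^ 2 * α x) (x : K) : α x = x * α 1 := by
  obtain ⟨a, b, hab⟩ := h8ba_sq_add_sq hodd x
  have : x = a ^ 2 * 1 + b ^ 2 * 1 := by rw [mul_one, mul_one, hab]
  conv_lhs => rw [this]
  rw [hadd, hsq, hsq, ← hab]
  ring

end Cfsg.Agent.Lib.helper8
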