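import Mathlib
import Cfsg.Agent.Lib.helper8.ChevBA4

set_option autoImplicit false

namespace Cfsg.Agent.Lib.helper8

/-- coordinates on a group of the shape of a Sylow 3-subgroup of a Ree group -/
structure H8BaCoord {K : Type*} [Field K] {Γ : Type*} [Group Γ] (σ : K →+* K)
    (W : K → K → K → Γ) : Prop where
  inj : ∀ t u v t' u' v', W t u v = W t' u' v' → t = t' ∧ u = u' ∧ v = v'
  mul : ∀ t u v t' u' v', W t u v * W t' u' v' =
    W (t + t') (u + u' - t * σ t') (v + v' - t' * u - t ^ 2 * σ t' + t * t' * σ t')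
  cube : ∀ t u v, W t u v ^ 3 = 1 → t = 0

section
variable {K : Type*} [Field K] {Γ : Type*} [Group Γ] {σ : K →+* K} {W : K → K → K → Γ}

theorem H8BaCoord.mul' (C : H8BaCoord σ W) {t u v t' u' v' a b c : K} (ha : a = t + t')
    (hb : b = u + u' - t * σ t')
    (hc : c = v + v' - t' * u - t ^ 2 * σ t' + t * t' * σ t') :
    W t u v * W t' u' v' = W a b c := by
  rw [ha, hb, hc]
  exact C.mul t u v t' u' v'

theorem H8BaCoord.one (C : H8BaCoord σ W) : W 0 0 0 = 1 := by
  have h : W 0 0 0 * W 0 0 0 = W 0 0 0 :=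
    C.mul' (by ring) (by rw [map_zero]; ring) (by rw [map_zero]; ring)
  exact mul_eq_left.mp h

theorem H8BaCoord.mul0 (C : H8BaCoord σ W) (u v u' v' : K) :
    W 0 u v * W 0 u' v' = W 0 (u + u') (v + v') :=
  C.mul' (by ring) (by ring) (by ring)

theorem H8BaCoord.split (C : H8BaCoord σ W) (t u v : K) :
    W t u v = W t 0 0 * W 0 u v :=
  (C.mul' (by ring) (by rw [map_zero]; ring) (by rw [map_zero]; ring)).symm

theorem H8BaCoord.cube0 (C : H8BaCoord σ W) [CharP K 3] (u v : K) : W 0 u v ^ 3 = 1 := by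
  have h3 : (3 : K) = 0 := by
    have := CharP.cast_eq_zero K 3
    exact_mod_cast this
  rw [pow_succ, pow_two, C.mul0, C.mul0, ← C.one]
  congr 1
  · linear_combination u * h3
  · linear_combination v * h3

/-- an injective endomorphism compatible with the coordinates and the torus action is
semilinear on the first coordinate -/
theorem h8ba_semilinear [Finite K] [CharP K 3] (C : H8BaCoord σ W) (θ : Γ →* Γ)
    (hinj : Function.Injective θ)
    (hθU : ∀ t u v, ∃ t' u' v', θ (W t u v) = W t' u' v')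
    (hθH : ∀ c : K, c ≠ 0 → ∃ c' : K, c' ≠ 0 ∧ ∀ t t' u' v', θ (W t 0 0) = W t' u' v' →
      ∃ u'' v'', θ (W (c * t) 0 0) = W (c' * t') u'' v'') :
    ∃ a : K, a ≠ 0 ∧ ∃ φ : K ≃+* K, ∀ t u v, ∃ u' v', θ (W t u v) = W (a * φ t) u' v' := by
  choose T Uf Vf hT using hθU
  have hT0 : ∀ u v, T 0 u v = 0 := by
    intro u v
    apply C.cube _ (Uf 0 u v) (Vf 0 u v)
    rw [← hT, ← map_pow, C.cube0, map_one]
  have hTs : ∀ t u v, T t u v = T t 0 0 := by
    intro t u v
    have h := congrArg θ (C.split t u v)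
    rw [map_mul, hT, hT, hT, C.mul] at h
    have := (C.inj _ _ _ _ _ _ h).1
    rw [this, hT0, add_zero]
  have hadd : ∀ t t', T (t + t') 0 0 = T t 0 0 + T t' 0 0 := by
    intro t t'
    have h := congrArg θ (C.mul t 0 0 t' 0 0)
    rw [map_mul, hT, hT, hT, C.mul] at h
    have := (C.inj _ _ _ _ _ _ h).1
    rw [hTs (t + t')] at this
    exact this.symm
  have hker : ∀ t, T t 0 0 = 0 → t = 0 := by
    intro t ht
    apply C.cube t 0 0
    apply hinj
    rw [map_pow, hT, ht, C.cube0, map_one]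
  have hτ0 : T 0 0 0 = 0 := hT0 0 0
  set a := T 1 0 0 with hadef
  have ha : a ≠ 0 := fun h => one_ne_zero (hker 1 h)
  have hmul : ∀ c t, T (c * t) 0 0 * a = T c 0 0 * T t 0 0 := by
    intro c t
    by_cases hc : c = 0
    · rw [hc, zero_mul, hτ0, zero_mul, zero_mul]
    · obtain ⟨c', hc', h⟩ := hθH c hc
      obtain ⟨u1, v1, h1⟩ := h t _ _ _ (hT t 0 0)
      obtain ⟨u2, v2, h2⟩ := h 1 _ _ _ (hT 1 0 0)
      rw [hT] at h1 h2
      have e1 := (C.inj _ _ _ _ _ _ h1).1
      have e2 := (C.inj _ _ _ _ _ _ h2).1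
      rw [mul_one] at e2
      rw [e1, e2, hadef]
      ring
  let φ₀ : K →+* K :=
    { toFun := fun t => T t 0 0 / a
      map_one' := div_self ha
      map_mul' := by
        intro x y
        show T (x * y) 0 0 / a = T x 0 0 / a * (T y 0 0 / a)
        field_simp
        exact hmul x y
      map_zero' := by
        show T 0 0 0 / a = 0
        rw [hτ0, zero_div]
      map_add' := by
        intro x y
        show T (x + y) 0 0 / a = T x 0 0 / a + T y 0 0 / a
        rw [hadd, add_div] }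
  have hbij : Function.Bijective φ₀ :=
    ⟨φ₀.injective, Finite.injective_iff_surjective.mp φ₀.injective⟩
  refine ⟨a, ha, RingEquiv.ofBijective φ₀ hbij, ?_⟩
  intro t u v
  refine ⟨Uf t u v, Vf t u v, ?_⟩
  rw [hT, hTs]
  congr 1
  show T t 0 0 = a * (T t 0 0 / a)
  field_simp

end

end Cfsg.Agent.Lib.helper8
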