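import Mathlib
import Cfsg.Prelude.Def_ChevStructure
import Cfsg.Prelude.Def_ChevG2
import Cfsg.Prelude.Def_LieTwisted
import Cfsg.Agent.Lib.helper8.ChevRee28

set_option autoImplicit false

namespace Cfsg.Agent.Lib.helper8

open Cfsg.Lie Cfsg.Lie.ChevalleyDatum

universe u

/-- the number of elements of odd order of a cyclic group of order `2 k` with `k` odd -/
theorem h8odd_count {G : Type*} [Group G] [Finite G] [IsCyclic G] (k : ℕ) (hk : Odd k)
    (hc : Nat.card G = 2 * k) : Nat.card {x : G // Odd (orderOf x)} = k := by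
  letI : CommGroup G := IsCyclic.commGroup
  have h1 := IsCyclic.card_powMonoidHom_ker G k
  rw [hc] at h1
  have hg : Nat.gcd (2 * k) k = k := Nat.gcd_eq_right (Dvd.intro_left 2 rfl)
  rw [hg] at h1
  rw [← h1]
  apply Nat.card_congr
  apply Equiv.subtypeEquivRight
  intro x
  rw [MonoidHom.mem_ker, powMonoidHom_apply]
  constructor
  · intro hodd
    have hd : orderOf x ∣ 2 * k := by
      rw [← hc]
      exact orderOf_dvd_natCard x
    have hcop : Nat.Coprime (orderOf x) 2 := Nat.Coprime.symm (Nat.coprime_two_left.mpr hodd)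
    exact orderOf_dvd_iff_pow_eq_one.mp (hcop.dvd_of_dvd_mul_left hd)
  · intro hx
    have hd := orderOf_dvd_of_pow_eq_one hx
    exact Odd.of_dvd_nat hk hd

variable {K : Type u} [Field K]

/-- a non-trivial element of odd order of `H ∩ ²G₂(q)` centralizes no non-trivial element of
`U ∩ ²G₂(q)` -/
theorem h8ree_odd_free [Fintype K] {m : ℕ} (hK : Fintype.card K = 3 ^ (2 * m + 1))
    (h : GL chevG2.Idx K) (hh : h ∈ chevG2.diagonalSubgroup K ⊓ twistedG2 K (3 ^ m))
    (hh1 : h ≠ 1) (hodd : Odd (orderOf h)) :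
    (chevG2.posUnipotent K ⊓ twistedG2 K (3 ^ m)) ⊓ Subgroup.centralizer {h} = ⊥ := by
  have hD : chevG2 ∈ [chevG2, chevB2, chevD4, chevF4, chevE6, chevE7, chevE8] := by simp
  have hB := h8base_all.{u} chevG2 hD
  have hA := h8reflAll chevG2 hD
  have hC := h8commAll.{u} chevG2 hD
  have hBN := h8bn_all chevG2 hD
  have hW := h8bn2_all chevG2 hD
  obtain ⟨hO, hO2⟩ := h8ord_all chevG2 hD
  haveI := h8ree_char3 hK
  obtain ⟨R, hfe⟩ := h8ree_setup hK hB
  have hfix := (h8ree_G1_fix R hC (3 ^ m) hfe h hh.2).2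
  obtain ⟨m8, m9, m10, m11⟩ := h8ree_chi_mult hB hC hO2 h hh.1
  -- the characters of the simple roots
  have h76 : h8chi chevG2 hB h 7 = R.f (h8chi chevG2 hB h 6) := by
    have := h8ree_chi_sig R hA hW h hh.1 hfix 6 (by decide)
    rw [h8reeE_long R 6 (by decide)] at this
    exact this
  have hne : ¬ (h8chi chevG2 hB h 7 = 1 ∧ h8chi chevG2 hB h 6 = 1) := by
    rintro ⟨a, b⟩
    exact hh1 (h8ree_H_inj h8ree_exists_ne hA hBN hW h hh.1 a b)
  -- the character of the short simple root has odd order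
  have hμodd : h8chi chevG2 hB h 7 ^ orderOf h = 1 := by
    have h1 : (h8reeChiHom (K := K) hB hA hW (3 ^ m) ⟨h, hh⟩) ^ orderOf h = 1 := by
      rw [← map_pow]
      have : (⟨h, hh⟩ : ↥(chevG2.diagonalSubgroup K ⊓ twistedG2 K (3 ^ m))) ^ orderOf h = 1 := by
        apply Subtype.ext
        rw [Subgroup.coe_pow]
        exact pow_orderOf_eq_one h
      rw [this, map_one]
    have := congrArg Units.val h1
    rw [Units.val_pow_eq_pow_val] at this
    exact this
  rw [eq_bot_iff]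
  intro w hw
  rw [Subgroup.mem_bot]
  obtain ⟨hwU, hwc0⟩ := hw
  have hwc : w ∈ Subgroup.centralizer {h} := hwc0
  rw [Subgroup.mem_centralizer_iff] at hwc
  have hcomm : h * w * h⁻¹ = w := by
    rw [hwc h rfl]
    group
  obtain ⟨t, u, v, rfl⟩ := (h8ree_U_iff hK hB w).mp hwU
  rw [h8reeWordU_std R hC (3 ^ m) hfe, h8reeStd_conj hB h hh.1] at hcomm
  obtain ⟨e6, _, e8, e9, e10, e11⟩ := h8reeStd_inj hO2 _ _ _ _ _ _ _ _ _ _ _ _ hcomm
  have hcancel : ∀ c x : K, x ≠ 0 → c * x = x → c = 1 := by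
    intro c x hx hcx
    have : (c - 1) * x = 0 := by rw [sub_mul, hcx, one_mul, sub_self]
    rcases mul_eq_zero.mp this with h0 | h0
    · exact sub_eq_zero.mp h0
    · exact absurd h0 hx
  have ht : t = 0 := by
    by_contra ht
    have h6 := hcancel _ _ ht e6
    exact hne ⟨by rw [h76, h6, map_one], h6⟩
  subst ht
  rw [zero_mul, add_zero] at e10
  rw [zero_pow (by norm_num), zero_mul, add_zero] at e11
  have hu : u = 0 := by
    by_contra hu
    have hfu : R.f u ≠ 0 := (map_ne_zero R.f).2 hu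
    have c8 := hcancel _ _ hfu e8
    have c10 := hcancel _ _ hu e10
    rw [m8] at c8
    rw [m10] at c10
    -- `μ ν = 1` and `ν μ³ = 1` give `μ² = 1`
    have hμ2 : h8chi chevG2 hB h 7 ^ 2 = 1 := by
      have : h8chi chevG2 hB h 6 * h8chi chevG2 hB h 7 ^ 3 =
          (h8chi chevG2 hB h 7 * h8chi chevG2 hB h 6) * h8chi chevG2 hB h 7 ^ 2 := by ring
      rw [this, c8, one_mul] at c10
      exact c10
    have hμ1 : h8chi chevG2 hB h 7 = 1 := by
      obtain ⟨j, hj⟩ := hodd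
      rw [hj, pow_succ, pow_mul, hμ2, one_pow, one_mul] at hμodd
      exact hμodd
    rw [hμ1, one_mul] at c8
    exact hne ⟨hμ1, c8⟩
  subst hu
  have hv : v = 0 := by
    by_contra hv
    have hfv : R.f v ≠ 0 := (map_ne_zero R.f).2 hv
    have c9 := hcancel _ _ hfv e9
    have c11 := hcancel _ _ hv e11
    rw [m9] at c9
    rw [m11] at c11
    -- `μ² ν = 1` and `ν² μ³ = 1` give `μ ν = 1`
    have hμν : h8chi chevG2 hB h 7 * h8chi chevG2 hB h 6 = 1 := by
      have : h8chi chevG2 hB h 6 ^ 2 * h8chi chevG2 hB h 7 ^ 3 =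
          (h8chi chevG2 hB h 7 ^ 2 * h8chi chevG2 hB h 6) *
            (h8chi chevG2 hB h 7 * h8chi chevG2 hB h 6) := by ring
      rw [this, c9, one_mul] at c11
      exact c11
    have hμ1 : h8chi chevG2 hB h 7 = 1 := by
      have : h8chi chevG2 hB h 7 ^ 2 * h8chi chevG2 hB h 6 =
          h8chi chevG2 hB h 7 * (h8chi chevG2 hB h 7 * h8chi chevG2 hB h 6) := by ring
      rw [this, hμν, mul_one] at c9
      exact c9
    rw [hμ1, one_mul] at hμν
    exact hne ⟨hμ1, hμν⟩
  subst hv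
  rw [h8reeWordU_zero R hC (3 ^ m) hfe, map_zero]
  exact h8reeQ4_zero

/-- `H ∩ ²G₂(q)` has exactly `(q - 1) / 2` elements of odd order -/
theorem h8ree_odd_diag [Fintype K] {m : ℕ} (hK : Fintype.card K = 3 ^ (2 * m + 1)) :
    2 * Nat.card {h : ↥(chevG2.diagonalSubgroup K ⊓ twistedG2 K (3 ^ m)) //
      Odd (orderOf h)} = 3 ^ (2 * m + 1) - 1 := by
  haveI := h8ree_H1_cyclic hK
  have hc := h8ree_H1_card hK
  have h4 := h8ree_card_mod4 m
  obtain ⟨k, hk⟩ : ∃ k, 3 ^ (2 * m + 1) - 1 = 2 * k := ⟨(3 ^ (2 * m + 1) - 1) / 2, by omega⟩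
  have hkodd : Odd k := by
    rw [Nat.odd_iff]
    omega
  rw [h8odd_count k hkodd (hc.trans hk), hk]

end Cfsg.Agent.Lib.helper8
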