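import Mathlib
import Cfsg.Prelude.Def_ChevStructure
import Cfsg.Prelude.Def_ChevG2
import Cfsg.Prelude.Def_LieTwisted
import Cfsg.Agent.Lib.helper8.ChevReeC10

set_option autoImplicit false
set_option linter.unusedSectionVars false
set_option linter.unusedVariables false

namespace Cfsg.Agent.Lib.helper8

open Cfsg.Lie Cfsg.Lie.ChevalleyDatum Matrix

universe u

variable {K : Type u} [Field K] [Fintype K] {m : ℕ} {hB : H8Base.{u} chevG2}
  {ψ : SpecialLinearGroup (Fin 2) K →* GL chevG2.Idx K}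

theorem h8slWDW (s : K) (hs : s ≠ 0) :
    (h8slW : SpecialLinearGroup (Fin 2) K) * h8slD s * h8slW⁻¹ = (h8slD s)⁻¹ := by
  rw [mul_inv_eq_iff_eq_mul]
  apply h8sl_ext <;>
    simp [h8slW_val, h8slD_val s hs, Matrix.mul_apply, Fin.sum_univ_two,
      Matrix.SpecialLinearGroup.coe_inv, Matrix.adjugate_fin_two]

/-- the Weyl element is an involution -/
theorem H8ReePsi.n0_sq (P : H8ReePsi hB m ψ) (hK : Fintype.card K = 3 ^ (2 * m + 1)) :
    h8reeN0 hB (3 ^ m) * h8reeN0 hB (3 ^ m) = (1 : GL chevG2.Idx K) := by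
  rw [← P.hW, ← map_mul, h8slW_sq, P.neg_one hK]

theorem H8ReePsi.n0_inv (P : H8ReePsi hB m ψ) (hK : Fintype.card K = 3 ^ (2 * m + 1)) :
    (h8reeN0 hB (3 ^ m))⁻¹ = (h8reeN0 hB (3 ^ m) : GL chevG2.Idx K) :=
  inv_eq_of_mul_eq_one_right (P.n0_sq hK)

/-- the Weyl element inverts the torus -/
theorem H8ReePsi.n0_conj_H (P : H8ReePsi hB m ψ) (hK : Fintype.card K = 3 ^ (2 * m + 1))
    (a : GL chevG2.Idx K) (ha : a ∈ chevG2.diagonalSubgroup K ⊓ twistedG2 K (3 ^ m))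
    (h1 : a ≠ 1) (h2 : a * a = 1) (k : GL chevG2.Idx K)
    (hk : k ∈ chevG2.diagonalSubgroup K ⊓ twistedG2 K (3 ^ m)) :
    h8reeN0 hB (3 ^ m) * k * (h8reeN0 hB (3 ^ m))⁻¹ = k⁻¹ := by
  have hainv : a⁻¹ = a := inv_eq_of_mul_eq_one_right h2
  have hn0a := h8reeC_invol_n0 hK hB a ha h1 h2
  obtain ⟨s, hs, e | e⟩ := P.H1_decomp hK a ha h1 h2 k hk
  · rw [e, ← P.hW, ← map_inv, ← map_mul, ← map_mul, h8slWDW s hs, map_inv]
  · have e1 : h8reeN0 hB (3 ^ m) * (a * ψ (h8slD s)) * (h8reeN0 hB (3 ^ m))⁻¹ =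
        a * (h8reeN0 hB (3 ^ m) * ψ (h8slD s) * (h8reeN0 hB (3 ^ m))⁻¹) := by
      rw [← mul_assoc, ← hn0a]
      group
    rw [e, e1, ← P.hW, ← map_inv, ← map_mul, ← map_mul, h8slWDW s hs, map_inv, _root_.mul_inv_rev, hainv,
      ← map_inv]
    exact P.invol_comm hK a ha h1 h2 _

/-- the involutions of the big cell -/
theorem H8ReePsi.invol_big (P : H8ReePsi hB m ψ) (hK : Fintype.card K = 3 ^ (2 * m + 1))
    (a : GL chevG2.Idx K) (ha : a ∈ chevG2.diagonalSubgroup K ⊓ twistedG2 K (3 ^ m))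
    (h1 : a ≠ 1) (h2 : a * a = 1)
    (u1 : GL chevG2.Idx K) (hu1 : u1 ∈ chevG2.posUnipotent K ⊓ twistedG2 K (3 ^ m))
    (k : GL chevG2.Idx K) (hk : k ∈ chevG2.diagonalSubgroup K ⊓ twistedG2 K (3 ^ m))
    (u : GL chevG2.Idx K) (hu : u ∈ chevG2.posUnipotent K ⊓ twistedG2 K (3 ^ m))
    (hsq : (u1 * (k * h8reeN0 hB (3 ^ m)) * u) * (u1 * (k * h8reeN0 hB (3 ^ m)) * u) = 1) :
    u = u1⁻¹ := by
  set n0 : GL chevG2.Idx K := h8reeN0 hB (3 ^ m) with hn0
  have hn0inv : n0⁻¹ = n0 := P.n0_inv hK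
  have hn0sq : n0 * n0 = 1 := P.n0_sq hK
  have hkconj := P.n0_conj_H hK a ha h1 h2 k hk
  rw [← hn0] at hkconj
  set y := u * u1 with hy
  have hyU : y ∈ chevG2.posUnipotent K := Subgroup.mul_mem _ hu.1 hu1.1
  -- `(k n0 y)^2 = 1`
  have e1 : (k * n0 * y) * (k * n0 * y) = 1 := by
    have : (k * n0 * y) * (k * n0 * y) =
        u1⁻¹ * ((u1 * (k * n0) * u) * (u1 * (k * n0) * u)) * u1 := by
      rw [hy]; group
    rw [this, hsq]
    group
  -- hence `n0 y n0⁻¹ ∈ B`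
  have e2 : n0⁻¹ * y * n0 = k⁻¹ * y⁻¹ * k := by
    have h3 : n0 * y * n0⁻¹ = k⁻¹ * y⁻¹ * k := by
      have h4 : n0 * y * k * n0 = k⁻¹ * y⁻¹ := by
        have : n0 * y * k * n0 = k⁻¹ * ((k * n0 * y) * (k * n0 * y)) * y⁻¹ := by group
        rw [this, e1]
        group
      have h5 : n0 * k * n0⁻¹ = k⁻¹ := hkconj
      have h6 : n0 * y * n0⁻¹ = (n0 * y * k * n0) * (n0⁻¹ * k⁻¹ * n0⁻¹) := by group
      have h7 : n0⁻¹ * k⁻¹ * n0⁻¹ = k := by
        calc n0⁻¹ * k⁻¹ * n0⁻¹ = n0⁻¹ * (n0 * k * n0⁻¹) * n0⁻¹ := by rw [h5]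
          _ = k * (n0 * n0)⁻¹ := by group
          _ = k := by rw [hn0sq, inv_one, mul_one]
      rw [h6, h4, h7]
    rw [hn0inv] at h3 ⊢
    exact h3
  have hB' : n0⁻¹ * y * n0 ∈ chevG2.borelSubgroup K := by
    rw [e2]
    have hkB : k ∈ chevG2.borelSubgroup K := (le_sup_right : _ ≤ chevG2.borelSubgroup K) hk.1
    have hyB : y ∈ chevG2.borelSubgroup K := (le_sup_left : _ ≤ chevG2.borelSubgroup K) hyU
    exact Subgroup.mul_mem _ (Subgroup.mul_mem _ (Subgroup.inv_mem _ hkB) (Subgroup.inv_mem _ hyB))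
      hkB
  have hy1 : y = 1 := h8ree_uniq hK hB y hyU hB'
  rw [hy] at hy1
  exact eq_inv_of_mul_eq_one_left hy1

/-- the involutions of the Borel subgroup -/
theorem H8ReePsi.invol_borel (P : H8ReePsi hB m ψ) (hK : Fintype.card K = 3 ^ (2 * m + 1))
    (a : GL chevG2.Idx K) (ha : a ∈ chevG2.diagonalSubgroup K ⊓ twistedG2 K (3 ^ m))
    (h1 : a ≠ 1) (h2 : a * a = 1)
    (u : GL chevG2.Idx K) (hu : u ∈ chevG2.posUnipotent K ⊓ twistedG2 K (3 ^ m))
    (k : GL chevG2.Idx K) (hk : k ∈ chevG2.diagonalSubgroup K ⊓ twistedG2 K (3 ^ m))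
    (hsq : (u * k) * (u * k) = 1) (hne : u * k ≠ 1) :
    ∃ t v : K, u * k = h8reeW hB m t (t * (t ^ 3 ^ m) ^ 3) v * a := by
  have hch3 := h8ree_char3 hK
  have h3 : (3 : K) = 0 := by
    have := CharP.cast_eq_zero K 3
    exact_mod_cast this
  have h2ne : (2 : K) ≠ 0 := by
    intro h
    have : (1 : K) = 0 := by linear_combination h3 - h
    exact one_ne_zero this
  obtain ⟨t, p, v, rfl⟩ := (h8reeW_mem_iff hK hB u).mp hu
  -- `k * k = 1`
  have hconj := h8reeW_conj' hK hB k hk t p v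
  have e1 : (h8reeW hB m t p v * (k * h8reeW hB m t p v * k⁻¹)) * (k * k) = 1 := by
    rw [← hsq]; group
  have hkk : k * k ∈ chevG2.posUnipotent K ⊓ chevG2.diagonalSubgroup K := by
    refine ⟨?_, Subgroup.mul_mem _ hk.1 hk.1⟩
    have : k * k = (h8reeW hB m t p v * (k * h8reeW hB m t p v * k⁻¹))⁻¹ :=
      eq_inv_of_mul_eq_one_right e1
    rw [this, hconj]
    exact Subgroup.inv_mem _ (Subgroup.mul_mem _ ((h8reeW_mem_iff hK hB _).mpr ⟨_, _, _, rfl⟩).1
      ((h8reeW_mem_iff hK hB _).mpr ⟨_, _, _, rfl⟩).1)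
  rw [h8_U_inf_H chevG2 hB, Subgroup.mem_bot] at hkk
  by_cases hk1 : k = 1
  · exfalso
    rw [hk1, mul_one] at hsq hne
    rw [h8reeW_mul' hK hB, ← h8reeW_zero hK hB] at hsq
    obtain ⟨c1, c2, c3⟩ := h8reeW_inj hK hB _ _ _ _ _ _ hsq
    have ht : t = 0 := by
      have : (2 : K) * t = 0 := by linear_combination c1
      rcases mul_eq_zero.mp this with h | h
      · exact absurd h h2ne
      · exact h
    rw [ht] at c2 c3
    have hp : p = 0 := by
      have : (2 : K) * p = 0 := by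
        have hz : ((0 : K) ^ 3 ^ m) ^ 3 = 0 := by
          rw [zero_pow (pow_ne_zero _ (by norm_num)), zero_pow (by norm_num)]
        rw [hz] at c2
        linear_combination c2
      rcases mul_eq_zero.mp this with h | h
      · exact absurd h h2ne
      · exact h
    have hv : v = 0 := by
      have : (2 : K) * v = 0 := by
        have hz : ((0 : K) ^ 3 ^ m) ^ 3 = 0 := by
          rw [zero_pow (pow_ne_zero _ (by norm_num)), zero_pow (by norm_num)]
        rw [hz, hp] at c3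
        linear_combination c3
      rcases mul_eq_zero.mp this with h | h
      · exact absurd h h2ne
      · exact h
    apply hne
    rw [ht, hp, hv, h8reeW_zero hK hB]
  · have hka : k = a := (h8reeC_invol_unique hK hB a k ha hk h1 hk1 h2 hkk).symm
    refine ⟨t, v, ?_⟩
    rw [hka] at hsq ⊢
    have hainv : a⁻¹ = a := inv_eq_of_mul_eq_one_right h2
    have e2 : h8reeW hB m t p v * (a * h8reeW hB m t p v * a⁻¹) = 1 := by
      have : h8reeW hB m t p v * (a * h8reeW hB m t p v * a⁻¹) =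
          (h8reeW hB m t p v * a) * (h8reeW hB m t p v * a) * (a * a)⁻¹ := by
        group
      rw [this, hsq, h2]
      group
    rw [h8reeC_invol_act hK hB a ha h1 h2, h8reeW_mul' hK hB, ← h8reeW_zero hK hB] at e2
    obtain ⟨_, c2, _⟩ := h8reeW_inj hK hB _ _ _ _ _ _ e2
    have hodd : ((-t) ^ 3 ^ m) ^ 3 = -((t ^ 3 ^ m) ^ 3) := by
      rw [← pow_mul, ← pow_mul, Odd.neg_pow]
      exact Odd.mul (Odd.pow (by decide)) (by decide)
    rw [hodd] at c2
    have hp : p = t * (t ^ 3 ^ m) ^ 3 := by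
      linear_combination (-1 : K) * c2 + p * h3
    rw [hp]

end Cfsg.Agent.Lib.helper8
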