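import Mathlib
import Cfsg.Prelude.Def_ChevStructure
import Cfsg.Prelude.Def_ChevG2
import Cfsg.Prelude.Def_LieTwisted
import Cfsg.Agent.Lib.helper8.ChevReeD1
import Cfsg.Agent.Lib.helper8.ChevReeD2

set_option autoImplicit false
set_option linter.unusedSectionVars false
set_option linter.unusedVariables false

namespace Cfsg.Agent.Lib.helper8

open Cfsg.Lie Cfsg.Lie.ChevalleyDatum Matrix

universe u

variable {K : Type u} [Field K] [Fintype K] {m : ℕ} {hB : H8Base.{u} chevG2}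
  {ψ : SpecialLinearGroup (Fin 2) K →* GL chevG2.Idx K}

/-- the centre of `SL₂` over a field of characteristic not two has two elements -/
theorem h8sl_center_card (h2 : (2 : K) ≠ 0) :
    Nat.card ↥(Subgroup.center (SpecialLinearGroup (Fin 2) K)) = 2 := by
  have hneg : (-1 : SpecialLinearGroup (Fin 2) K) ∈
      Subgroup.center (SpecialLinearGroup (Fin 2) K) := h8sl_neg_one_center
  rw [Nat.card_eq_two_iff]
  refine ⟨1, ⟨-1, hneg⟩, ?_, ?_⟩
  · intro h
    have h' : (1 : SpecialLinearGroup (Fin 2) K) = -1 := congrArg Subtype.val h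
    have h00 := congrArg (fun g : SpecialLinearGroup (Fin 2) K => g 0 0) h'
    simp at h00
    apply h2
    linear_combination h00
  · ext x
    simp only [Set.mem_insert_iff, Set.mem_singleton_iff, Set.mem_univ, iff_true]
    rcases h8sl_center x.1 x.2 with h | h
    · left; exact Subtype.ext h
    · right; exact Subtype.ext h

/-- the order of `PSL₂(q)` times two -/
theorem h8card_psl2 (h2 : (2 : K) ≠ 0) :
    Nat.card (Matrix.ProjectiveSpecialLinearGroup (Fin 2) K) * 2 =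
      Fintype.card K * (Fintype.card K ^ 2 - 1) := by
  have := Subgroup.card_eq_card_quotient_mul_card_subgroup
    (Subgroup.center (SpecialLinearGroup (Fin 2) K))
  rw [h8sl_center_card h2, h8card_sl2 (F := K)] at this
  exact this.symm

theorem h8ree_arith (q : ℕ) (hq : 2 ≤ q) :
    (q ^ 2 + q ^ 3 * (q - 1)) * (q * (q ^ 2 - 1)) = q ^ 3 * (q - 1) * (q ^ 3 + 1) := by
  obtain ⟨r, rfl⟩ : ∃ r, q = r + 1 := ⟨q - 1, by omega⟩
  have e1 : r + 1 - 1 = r := by omega
  have e2 : (r + 1) ^ 2 - 1 = r ^ 2 + 2 * r := by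
    have : (r + 1) ^ 2 = r ^ 2 + 2 * r + 1 := by ring
    omega
  rw [e1, e2]
  ring

/-- all involutions of the small Ree group are conjugate -/
theorem H8ReePsi.one_class (P : H8ReePsi hB m ψ) (hK : Fintype.card K = 3 ^ (2 * m + 1))
    (a : ↥(twistedG2 K (3 ^ m)))
    (haH : (a : GL chevG2.Idx K) ∈ chevG2.diagonalSubgroup K) (ha1 : a ≠ 1) (ha2 : a * a = 1)
    (t : ↥(twistedG2 K (3 ^ m))) (ht1 : t ≠ 1) (ht2 : t * t = 1) :
    ∃ g : ↥(twistedG2 K (3 ^ m)), g * a * g⁻¹ = t := by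
  classical
  have hch3 := h8ree_char3 hK
  have h3 : (3 : K) = 0 := by
    have := CharP.cast_eq_zero K 3
    exact_mod_cast this
  have h2ne : (2 : K) ≠ 0 := by
    intro h
    have : (1 : K) = 0 := by linear_combination h3 - h
    exact one_ne_zero this
  have hav : (a : GL chevG2.Idx K) ∈ chevG2.diagonalSubgroup K ⊓ twistedG2 K (3 ^ m) :=
    Subgroup.mem_inf.mpr ⟨haH, a.2⟩
  have hav1 : (a : GL chevG2.Idx K) ≠ 1 := fun h => ha1 (Subtype.ext h)
  have hav2 : (a : GL chevG2.Idx K) * a = 1 := congrArg Subtype.val ha2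
  set q := 3 ^ (2 * m + 1) with hq
  have hq2 : 2 ≤ q := by
    have : 3 ^ 1 ≤ 3 ^ (2 * m + 1) := Nat.pow_le_pow_right (by norm_num) (by omega)
    omega
  -- the two parametrisations
  let f₁ : K × K → ↥(twistedG2 K (3 ^ m)) := fun p =>
    ⟨h8reeW hB m p.1 (p.1 * (p.1 ^ 3 ^ m) ^ 3) p.2 * a,
      Subgroup.mul_mem _ ((h8reeW_mem_iff hK hB _).mpr ⟨_, _, _, rfl⟩).2 a.2⟩
  let f₂ : ↥(chevG2.posUnipotent K ⊓ twistedG2 K (3 ^ m)) ×
      ↥(chevG2.diagonalSubgroup K ⊓ twistedG2 K (3 ^ m)) → ↥(twistedG2 K (3 ^ m)) := fun p =>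
    ⟨(p.1 : GL chevG2.Idx K) * ((p.2 : GL chevG2.Idx K) * h8reeN0 hB (3 ^ m)) *
        (p.1 : GL chevG2.Idx K)⁻¹,
      Subgroup.mul_mem _ (Subgroup.mul_mem _ p.1.2.2
        (Subgroup.mul_mem _ p.2.2.2 (h8reeN0_mem (3 ^ m)))) (Subgroup.inv_mem _ p.1.2.2)⟩
  set Inv : Set ↥(twistedG2 K (3 ^ m)) := {t | t * t = 1 ∧ t ≠ 1} with hInv
  have hsub : Inv ⊆ Set.range f₁ ∪ Set.range f₂ := by
    rintro x ⟨hx2, hx1⟩
    have hxv2 : (x : GL chevG2.Idx K) * x = 1 := congrArg Subtype.val hx2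
    have hxv1 : (x : GL chevG2.Idx K) ≠ 1 := fun h => hx1 (Subtype.ext h)
    rcases h8ree_G1_normal hK hB (x : GL chevG2.Idx K) x.2 with
      ⟨u, hu, k, hk, e⟩ | ⟨u1, hu1, k, hk, u, hu, e⟩
    · left
      rw [e] at hxv2 hxv1
      obtain ⟨t, v, e'⟩ := P.invol_borel hK _ hav hav1 hav2 u hu k hk hxv2 hxv1
      exact ⟨(t, v), Subtype.ext (by rw [e, e'])⟩
    · right
      rw [e] at hxv2
      have hu' := P.invol_big hK _ hav hav1 hav2 u1 hu1 k hk u hu hxv2
      exact ⟨(⟨u1, hu1⟩, ⟨k, hk⟩), Subtype.ext (by rw [e, hu'])⟩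
  have hcardInv : Inv.ncard ≤ q ^ 2 + q ^ 3 * (q - 1) := by
    have h1 : Inv.ncard ≤ (Set.range f₁ ∪ Set.range f₂).ncard :=
      Set.ncard_le_ncard hsub (Set.toFinite _)
    have h2 := Set.ncard_union_le (Set.range f₁) (Set.range f₂)
    have h3 : (Set.range f₁).ncard ≤ q ^ 2 := by
      rw [← Nat.card_coe_set_eq]
      have := Finite.card_range_le f₁
      have hKc : Nat.card K = q := by rw [Nat.card_eq_fintype_card, hK]
      rw [Nat.card_prod, hKc] at this
      rw [sq]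
      exact this
    have h4 : (Set.range f₂).ncard ≤ q ^ 3 * (q - 1) := by
      rw [← Nat.card_coe_set_eq]
      have := Finite.card_range_le f₂
      rw [Nat.card_prod, h8ree_U_card hK, h8ree_H1_card hK] at this
      exact this
    omega
  -- the class of `a`
  set cl : Set ↥(twistedG2 K (3 ^ m)) := (ConjClasses.mk a).carrier with hcl
  have hclsub : cl ⊆ Inv := by
    intro x hx
    rw [hcl, ConjClasses.mem_carrier_iff_mk_eq, ConjClasses.mk_eq_mk_iff_isConj, isConj_comm,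
      isConj_iff] at hx
    obtain ⟨c, rfl⟩ := hx
    refine ⟨?_, ?_⟩
    · calc c * a * c⁻¹ * (c * a * c⁻¹) = c * (a * a) * c⁻¹ := by group
        _ = 1 := by rw [ha2]; group
    · intro h
      apply ha1
      calc a = c⁻¹ * (c * a * c⁻¹) * c := by group
        _ = 1 := by rw [h]; group
  have hclcard : cl.ncard = q ^ 2 + q ^ 3 * (q - 1) := by
    rw [← Nat.card_coe_set_eq, hcl, h8card_carrier_eq_index]
    have hidx := Subgroup.index_mul_card (Subgroup.centralizer ({a} : Set ↥(twistedG2 K (3 ^ m))))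
    obtain ⟨e⟩ := P.iso hK a haH ha1 ha2
    have hc : Nat.card ↥(Subgroup.centralizer ({a} : Set ↥(twistedG2 K (3 ^ m)))) =
        q * (q ^ 2 - 1) := by
      rw [Nat.card_congr e.toEquiv, Nat.card_prod, Nat.card_eq_fintype_card (α := Multiplicative (ZMod 2))]
      have h5 : Fintype.card (Multiplicative (ZMod 2)) = 2 := rfl
      rw [h5, mul_comm, h8card_psl2 h2ne, hK]
    rw [hc, h8ree_card hK, ← hq, ← h8ree_arith q hq2] at hidx
    have hpos : 0 < q * (q ^ 2 - 1) := by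
      apply Nat.mul_pos (by omega)
      have : 2 ^ 2 ≤ q ^ 2 := Nat.pow_le_pow_left hq2 2
      omega
    exact Nat.eq_of_mul_eq_mul_right hpos hidx
  have heq : cl = Inv := by
    apply Set.eq_of_subset_of_ncard_le hclsub _ (Set.toFinite _)
    rw [hclcard]
    exact hcardInv
  have ht : t ∈ cl := by rw [heq]; exact ⟨ht2, ht1⟩
  rw [hcl, ConjClasses.mem_carrier_iff_mk_eq, ConjClasses.mk_eq_mk_iff_isConj, isConj_comm,
    isConj_iff] at ht
  exact ht

end Cfsg.Agent.Lib.helper8
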