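import Mathlib
import Cfsg.Agent.Lib.helper8.SylowBasic
import Cfsg.Agent.Lib.helper8.SylowConj

set_option autoImplicit false
set_option linter.unusedSectionVars false
set_option linter.unusedVariables false

namespace Cfsg.Agent.Lib.helper8

open Subgroup

/-- orbit-stabilizer for the conjugation action of a subgroup -/
theorem h8_orbit_stab {G : Type*} [Group G] [Finite G] (H : Subgroup G) (x : G) (O : Set G)
    (h1 : ∀ h ∈ H, h * x * h⁻¹ ∈ O) (h2 : ∀ y ∈ O, ∃ h ∈ H, h * x * h⁻¹ = y) :
    Nat.card H = O.ncard * Nat.card (H ⊓ Subgroup.centralizer {x} : Subgroup G) := by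
  let _ : MulAction H G := MulAction.compHom G ((MulAut.conj (G := G)).comp H.subtype)
  have hsmul : ∀ (h : H) (y : G), h • y = (h : G) * y * (h : G)⁻¹ := fun h y => rfl
  have horb : MulAction.orbit H x = O := by
    ext y
    constructor
    · rintro ⟨h, rfl⟩
      exact h1 h h.2
    · intro hy
      obtain ⟨h, hh, e⟩ := h2 y hy
      exact ⟨⟨h, hh⟩, e⟩
  have hstab : MulAction.stabilizer H x = (Subgroup.centralizer {x}).subgroupOf H := by
    ext h
    rw [MulAction.mem_stabilizer_iff, Subgroup.mem_subgroupOf, Subgroup.mem_centralizer_iff, hsmul]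
    constructor
    · intro hh y hy
      rw [Set.mem_singleton_iff.mp hy]
      rw [mul_inv_eq_iff_eq_mul] at hh
      exact hh.symm
    · intro hh
      have := hh x rfl
      rw [mul_inv_eq_iff_eq_mul]
      exact this.symm
  have hcard : Nat.card (MulAction.stabilizer H x) =
      Nat.card (H ⊓ Subgroup.centralizer {x} : Subgroup G) := by
    rw [hstab, ← Subgroup.inf_subgroupOf_left]
    exact Nat.card_congr (Subgroup.subgroupOfEquivOfLe inf_le_left).toEquiv
  have := (MulAction.stabilizer H x).card_mul_index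
  rw [MulAction.index_stabilizer, horb, hcard] at this
  rw [← this, mul_comm]

theorem h8_mem_normalizer_of_conj_mem {G : Type*} [Group G] (H : Subgroup G) [Finite H] (g : G)
    (h : ∀ x ∈ H, g * x * g⁻¹ ∈ H) : g ∈ Subgroup.normalizer (H : Set G) := by
  rw [Subgroup.mem_normalizer_iff_map_conj_eq]
  apply Subgroup.eq_of_le_of_card_ge
  · rintro _ ⟨x, hx, rfl⟩
    exact h x hx
  · rw [Subgroup.card_map_of_injective (MulAut.conj g).injective]

/-- a 2-element normalizing a Sylow 2-subgroup lies in it -/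
theorem h8_two_elt_mem_sylow {G : Type*} [Group G] [Finite G] (Q : Sylow 2 G) (c : G)
    (hcN : c ∈ Subgroup.normalizer ((Q : Subgroup G) : Set G)) (k : ℕ) (hc : c ^ (2 ^ k) = 1) :
    c ∈ (Q : Subgroup G) := by
  have hp : IsPGroup 2 (Subgroup.zpowers c) := by
    rintro ⟨g, hg⟩
    obtain ⟨n, rfl⟩ := Subgroup.mem_zpowers_iff.mp hg
    refine ⟨k, Subtype.ext ?_⟩
    simp only [Subgroup.coe_pow, Subgroup.coe_one]
    rw [← zpow_natCast, ← zpow_mul, mul_comm, zpow_mul, zpow_natCast, hc, one_zpow]
  have hle : Subgroup.zpowers c ≤ Subgroup.normalizer ((Q : Subgroup G) : Set G) := by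
    rw [Subgroup.zpowers_le]
    exact hcN
  have hsup := hp.to_sup_of_normal_right' Q.isPGroup' hle
  have := Q.is_maximal' hsup le_sup_right
  rw [← this]
  exact (le_sup_left : Subgroup.zpowers c ≤ _) (Subgroup.mem_zpowers c)

/-- the abstract core of the computation of the normalizer of a Sylow 2-subgroup of a Ree group -/
theorem h8_norm168_core {G : Type*} [Group G] [Finite G] (r : ℕ) (hG : Nat.card G = 2 ^ 3 * r)
    (hr : ¬ 2 ∣ r) (Q : Sylow 2 G) (hexp : ∀ x ∈ (Q : Subgroup G), x * x = 1)
    (a w e z : G) (hgen : (Q : Subgroup G) = Subgroup.closure {a, w, e})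
    (ha1 : a ≠ 1) (hw1 : w ≠ 1) (he1 : e ≠ 1) (hwe : w ≠ e)
    (hclass : ∀ t : G, t ≠ 1 → t * t = 1 → ∃ g, g * a * g⁻¹ = t)
    (hza : z * a = a * z) (hzw : z * w * z⁻¹ = e) (hze : z * e * z⁻¹ = w * e)
    (h5 : ∀ c, c * a = a * c → c * w * c⁻¹ ∈ (Q : Subgroup G) →
      c * w * c⁻¹ = w ∨ c * w * c⁻¹ = e ∨ c * w * c⁻¹ = w * e)
    (h6 : ∀ c, c * a = a * c → c * w = w * c → c * e = e * c → c ∈ (Q : Subgroup G)) :
    Subgroup.centralizer ((Q : Subgroup G) : Set G) = Q ∧
      Nat.card (Subgroup.normalizer ((Q : Subgroup G) : Set G)) = 168 := by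
  have : Fact (Nat.Prime 2) := ⟨Nat.prime_two⟩
  have hQc : Nat.card (Q : Subgroup G) = 8 := by
    rw [h8_sylow_card 2 3 r hG hr Q]
    norm_num
  have haS : a ∈ (Q : Subgroup G) := by
    rw [hgen]
    exact Subgroup.subset_closure (by simp)
  have hwS : w ∈ (Q : Subgroup G) := by
    rw [hgen]
    exact Subgroup.subset_closure (by simp)
  have heS : e ∈ (Q : Subgroup G) := by
    rw [hgen]
    exact Subgroup.subset_closure (by simp)
  have hweS : w * e ∈ (Q : Subgroup G) := Subgroup.mul_mem _ hwS heS
  have hinv : ∀ x ∈ (Q : Subgroup G), x⁻¹ = x := fun x hx =>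
    inv_eq_of_mul_eq_one_right (hexp x hx)
  have hcomm : ∀ x ∈ (Q : Subgroup G), ∀ y ∈ (Q : Subgroup G), x * y = y * x := by
    intro x hx y hy
    calc x * y = (x * y)⁻¹ := (hinv _ (Subgroup.mul_mem _ hx hy)).symm
      _ = y⁻¹ * x⁻¹ := mul_inv_rev x y
      _ = y * x := by rw [hinv x hx, hinv y hy]
  have hw2 : w * w = 1 := hexp w hwS
  -- the centralizer
  have hC : Subgroup.centralizer ((Q : Subgroup G) : Set G) = Q := by
    apply le_antisymm
    · intro c hc
      rw [Subgroup.mem_centralizer_iff] at hc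
      exact h6 c (hc a haS).symm (hc w hwS).symm (hc e heS).symm
    · intro c hc
      rw [Subgroup.mem_centralizer_iff]
      intro y hy
      exact hcomm y hy c hc
  refine ⟨hC, ?_⟩
  -- `z` normalizes `Q`
  have hzQ : ∀ x ∈ (Q : Subgroup G), z * x * z⁻¹ ∈ (Q : Subgroup G) := by
    have hle : (Q : Subgroup G) ≤ (Q : Subgroup G).comap (MulAut.conj z).toMonoidHom := by
      conv_lhs => rw [hgen]
      rw [Subgroup.closure_le]
      intro y hy
      simp only [Set.mem_insert_iff, Set.mem_singleton_iff] at hy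
      rw [SetLike.mem_coe, Subgroup.mem_comap]
      change z * y * z⁻¹ ∈ (Q : Subgroup G)
      rcases hy with rfl | rfl | rfl
      · rw [hza, mul_inv_cancel_right]
        exact haS
      · rw [hzw]
        exact heS
      · rw [hze]
        exact hweS
    intro x hx
    exact hle hx
  have hzN : z ∈ Subgroup.normalizer ((Q : Subgroup G) : Set G) :=
    h8_mem_normalizer_of_conj_mem _ z hzQ
  have hzC : z ∈ Subgroup.centralizer ({a} : Set G) := by
    rw [Subgroup.mem_centralizer_iff]
    intro y hy
    rw [Set.mem_singleton_iff.mp hy]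
    exact hza.symm
  have hmemC : ∀ (c x : G), c ∈ Subgroup.centralizer ({x} : Set G) ↔ c * x = x * c := by
    intro c x
    rw [Subgroup.mem_centralizer_iff]
    constructor
    · intro h
      exact (h x rfl).symm
    · intro h y hy
      rw [Set.mem_singleton_iff.mp hy]
      exact h.symm
  have hconj_comm : ∀ c x : G, c * x * c⁻¹ = x ↔ c * x = x * c := fun c x =>
    mul_inv_eq_iff_eq_mul
  -- first step: the orbit of `a` under the normalizer
  have hD1 : Nat.card (Subgroup.normalizer ((Q : Subgroup G) : Set G)) =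
      7 * Nat.card (Subgroup.normalizer ((Q : Subgroup G) : Set G) ⊓
        Subgroup.centralizer {a} : Subgroup G) := by
    have h := h8_orbit_stab (Subgroup.normalizer ((Q : Subgroup G) : Set G)) a
      (((Q : Subgroup G) : Set G) \ {1}) ?_ ?_
    · rw [h]
      congr 1
      rw [Set.ncard_sdiff_singleton_of_mem (Subgroup.one_mem _)]
      have : (((Q : Subgroup G) : Set G)).ncard = 8 := by
        rw [← hQc]
        rfl
      rw [this]
    · intro n hn
      refine ⟨(Subgroup.mem_normalizer_iff.mp hn a).mp haS, ?_⟩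
      rw [Set.mem_singleton_iff, conj_eq_one_iff]
      exact ha1
    · intro y hy
      have hy1 : y ≠ 1 := fun h => hy.2 (Set.mem_singleton_iff.mpr h)
      obtain ⟨g, hg⟩ := hclass y hy1 (hexp y hy.1)
      have hcentle : (Q : Subgroup G) ≤ Subgroup.centralizer ((Q : Subgroup G) : Set G) := by
        rw [hC]
      obtain ⟨n, hn, e1⟩ := Q.conj_eq_normalizer_conj_of_mem_centralizer a g⁻¹ (hcentle haS)
        (by rw [inv_inv, hg]; exact hcentle hy.1)
      refine ⟨n⁻¹, Subgroup.inv_mem _ hn, ?_⟩
      rw [inv_inv, ← e1, inv_inv, hg]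
  -- second step: the orbit of `w`
  have hD2 : Nat.card (Subgroup.normalizer ((Q : Subgroup G) : Set G) ⊓
        Subgroup.centralizer {a} : Subgroup G) =
      3 * Nat.card ((Subgroup.normalizer ((Q : Subgroup G) : Set G) ⊓
        Subgroup.centralizer {a}) ⊓ Subgroup.centralizer {w} : Subgroup G) := by
    have h := h8_orbit_stab (Subgroup.normalizer ((Q : Subgroup G) : Set G) ⊓
        Subgroup.centralizer {a}) w ({w, e, w * e} : Set G) ?_ ?_
    · rw [h]
      congr 1
      rw [Set.ncard_eq_three]
      refine ⟨w, e, w * e, hwe, ?_, ?_, rfl⟩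
      · intro h
        exact he1 (left_eq_mul.mp h)
      · intro h
        exact hw1 (right_eq_mul.mp h)
    · intro c hc
      rw [Subgroup.mem_inf, hmemC] at hc
      have h1 := (Subgroup.mem_normalizer_iff.mp hc.1 w).mp hwS
      rcases h5 c hc.2 h1 with h | h | h
      · rw [h]; simp
      · rw [h]; simp
      · rw [h]; simp
    · intro y hy
      simp only [Set.mem_insert_iff, Set.mem_singleton_iff] at hy
      rcases hy with rfl | rfl | rfl
      · exact ⟨1, Subgroup.one_mem _, by group⟩
      · exact ⟨z, Subgroup.mem_inf.mpr ⟨hzN, hzC⟩, hzw⟩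
      · refine ⟨z * z, Subgroup.mul_mem _ (Subgroup.mem_inf.mpr ⟨hzN, hzC⟩)
          (Subgroup.mem_inf.mpr ⟨hzN, hzC⟩), ?_⟩
        calc z * z * w * (z * z)⁻¹ = z * (z * w * z⁻¹) * z⁻¹ := by group
          _ = w * e := by rw [hzw, hze]
  -- third step: the stabilizer is `Q`
  have hD3 : ((Subgroup.normalizer ((Q : Subgroup G) : Set G) ⊓
        Subgroup.centralizer {a}) ⊓ Subgroup.centralizer {w} : Subgroup G) = Q := by
    apply le_antisymm
    · intro c hc
      rw [Subgroup.mem_inf, Subgroup.mem_inf, hmemC, hmemC] at hc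
      obtain ⟨⟨hcN, hca⟩, hcw⟩ := hc
      -- the conjugate of `e`
      have hcz : c * e * c⁻¹ = (c * z) * w * (c * z)⁻¹ := by
        rw [← hzw]
        group
      have hcza : (c * z) * a = a * (c * z) := by
        rw [mul_assoc, hza, ← mul_assoc, hca, mul_assoc]
      have hceS : c * e * c⁻¹ ∈ (Q : Subgroup G) := (Subgroup.mem_normalizer_iff.mp hcN e).mp heS
      have h5' := h5 (c * z) hcza (by rw [← hcz]; exact hceS)
      rw [← hcz] at h5'
      rcases h5' with h | h | h
      · exfalso
        -- `c e c⁻¹ = w = c w c⁻¹`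
        have : c * e * c⁻¹ = c * w * c⁻¹ := by
          rw [h, (hconj_comm c w).mpr hcw]
        have : e = w := by
          calc e = c⁻¹ * (c * e * c⁻¹) * c := by group
            _ = c⁻¹ * (c * w * c⁻¹) * c := by rw [this]
            _ = w := by group
        exact hwe this.symm
      · exact h6 c hca hcw ((hconj_comm c e).mp h)
      · exfalso
        -- `c²` centralizes `Q`
        have hc2e : (c * c) * e = e * (c * c) := by
          rw [← hconj_comm]
          calc c * c * e * (c * c)⁻¹ = c * (c * e * c⁻¹) * c⁻¹ := by group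
            _ = c * (w * e) * c⁻¹ := by rw [h]
            _ = (c * w * c⁻¹) * (c * e * c⁻¹) := by group
            _ = w * (w * e) := by rw [(hconj_comm c w).mpr hcw, h]
            _ = e := by rw [← mul_assoc, hw2, one_mul]
        have hc2a : (c * c) * a = a * (c * c) := by
          rw [mul_assoc, hca, ← mul_assoc, hca, mul_assoc]
        have hc2w : (c * c) * w = w * (c * c) := by
          rw [mul_assoc, hcw, ← mul_assoc, hcw, mul_assoc]
        have hc2 : c * c ∈ (Q : Subgroup G) := h6 _ hc2a hc2w hc2e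
        have hc4 : c ^ (2 ^ 2) = 1 := by
          have := hexp _ hc2
          rw [show c ^ (2 ^ 2) = c * c * (c * c) by
            rw [show (2 : ℕ) ^ 2 = 4 by norm_num, pow_succ, pow_succ, pow_succ, pow_one, mul_assoc]]
          exact this
        have hcQ : c ∈ (Q : Subgroup G) := h8_two_elt_mem_sylow Q c hcN 2 hc4
        have := hcomm c hcQ e heS
        rw [← hconj_comm, h] at this
        exact hw1 (mul_eq_right.mp this)
    · intro c hc
      rw [Subgroup.mem_inf, Subgroup.mem_inf, hmemC, hmemC]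
      exact ⟨⟨Subgroup.le_normalizer hc, hcomm c hc a haS⟩, hcomm c hc w hwS⟩
  rw [hD1, hD2, hD3, hQc]

/-- centralizer and normalizer of conjugate Sylow subgroups -/
theorem h8_sylow_cent_norm_transfer {G : Type*} [Group G] [Finite G] (p : ℕ) [Fact p.Prime]
    (Q S : Sylow p G) (n : ℕ)
    (h : Subgroup.centralizer ((Q : Subgroup G) : Set G) = Q ∧
      Nat.card (Subgroup.normalizer ((Q : Subgroup G) : Set G)) = n) :
    Subgroup.centralizer ((S : Subgroup G) : Set G) = S ∧
      Nat.card (Subgroup.normalizer ((S : Subgroup G) : Set G)) = n := by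
  obtain ⟨g, rfl⟩ := MulAction.exists_smul_eq G Q S
  have hmap : ((g • Q : Sylow p G) : Subgroup G) =
      (Q : Subgroup G).map (MulAut.conj g).toMonoidHom := by
    ext x
    rw [h8_mem_smul_sylow, Subgroup.mem_map_equiv]
    simp [MulAut.conj_symm_apply]
  constructor
  · ext x
    rw [h8_mem_smul_sylow, ← h.1, Subgroup.mem_centralizer_iff, Subgroup.mem_centralizer_iff]
    constructor
    · intro hx y hy
      have hy' : g * y * g⁻¹ ∈ ((g • Q : Sylow p G) : Subgroup G) := by
        rw [h8_mem_smul_sylow]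
        have : g⁻¹ * (g * y * g⁻¹) * g = y := by group
        rw [this]
        exact hy
      have := hx _ hy'
      calc y * (g⁻¹ * x * g) = g⁻¹ * ((g * y * g⁻¹) * x) * g := by group
        _ = g⁻¹ * (x * (g * y * g⁻¹)) * g := by rw [this]
        _ = g⁻¹ * x * g * y := by group
    · intro hx y hy
      have hy' : g⁻¹ * y * g ∈ (Q : Subgroup G) := (h8_mem_smul_sylow p g y Q).mp hy
      have := hx _ hy'
      calc y * x = g * ((g⁻¹ * y * g) * (g⁻¹ * x * g)) * g⁻¹ := by group
        _ = g * ((g⁻¹ * x * g) * (g⁻¹ * y * g)) * g⁻¹ := by rw [this]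
        _ = x * y := by group
  · rw [hmap, ← Subgroup.map_equiv_normalizer_eq,
      Subgroup.card_map_of_injective (MulAut.conj g).injective]
    exact h.2

end Cfsg.Agent.Lib.helper8
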