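import Mathlib
import Cfsg.Prelude.Def_ChevStructure
import Cfsg.Prelude.Def_ChevG2
import Cfsg.Prelude.Def_LieTwisted
import Cfsg.Agent.Lib.helper8.ChevReeD3
import Cfsg.Agent.Lib.helper8.ChevReeD4
import Cfsg.Agent.Lib.helper8.ChevReeD5

set_option autoImplicit false
set_option linter.unusedSectionVars false
set_option linter.unusedVariables false

namespace Cfsg.Agent.Lib.helper8

open Cfsg.Lie Cfsg.Lie.ChevalleyDatum Matrix

universe u

section
variable {F : Type*} [Field F]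

theorem h8slU1W (h3 : (3 : F) = 0) :
    h8slU (1 : F) * h8slW = -h8slE h3 * h8slU 1 := by
  apply h8sl_ext
  · rw [(h8sl_entries_mul _ _).1, (h8sl_entries_mul _ _).1, h8sl_entries_neg, h8sl_entries_neg]
    simp [h8slU_val, h8slW_val, h8slE_val]
  · rw [(h8sl_entries_mul _ _).2.1, (h8sl_entries_mul _ _).2.1, h8sl_entries_neg,
      h8sl_entries_neg]
    simp [h8slU_val, h8slW_val, h8slE_val]
    linear_combination h3
  · rw [(h8sl_entries_mul _ _).2.2.1, (h8sl_entries_mul _ _).2.2.1, h8sl_entries_neg,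
      h8sl_entries_neg]
    simp [h8slU_val, h8slW_val, h8slE_val]
  · rw [(h8sl_entries_mul _ _).2.2.2, (h8sl_entries_mul _ _).2.2.2, h8sl_entries_neg,
      h8sl_entries_neg]
    simp [h8slU_val, h8slW_val, h8slE_val]

theorem h8slU1E (h3 : (3 : F) = 0) :
    h8slU (1 : F) * h8slE h3 = -(h8slW * h8slE h3) * h8slU 1 := by
  have WE := h8sl_entries_mul (h8slW : SpecialLinearGroup (Fin 2) F) (h8slE h3)
  apply h8sl_ext
  · rw [(h8sl_entries_mul _ _).1, (h8sl_entries_mul _ _).1, h8sl_entries_neg, h8sl_entries_neg,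
      WE.1, WE.2.1]
    simp [h8slU_val, h8slW_val, h8slE_val]
    linear_combination h3
  · rw [(h8sl_entries_mul _ _).2.1, (h8sl_entries_mul _ _).2.1, h8sl_entries_neg,
      h8sl_entries_neg, WE.1, WE.2.1]
    simp [h8slU_val, h8slW_val, h8slE_val]
  · rw [(h8sl_entries_mul _ _).2.2.1, (h8sl_entries_mul _ _).2.2.1, h8sl_entries_neg,
      h8sl_entries_neg, WE.2.2.1, WE.2.2.2]
    simp [h8slU_val, h8slW_val, h8slE_val]
  · rw [(h8sl_entries_mul _ _).2.2.2, (h8sl_entries_mul _ _).2.2.2, h8sl_entries_neg,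
      h8sl_entries_neg, WE.2.2.1, WE.2.2.2]
    simp [h8slU_val, h8slW_val, h8slE_val]
    linear_combination (-1 : F) * h3

end

variable {K : Type u} [Field K] [Fintype K] {m : ℕ} {hB : H8Base.{u} chevG2}
  {ψ : SpecialLinearGroup (Fin 2) K →* GL chevG2.Idx K}

/-- centralizer and normalizer of a Sylow 2-subgroup of `²G₂(q)` -/
theorem H8ReePsi.norm168 (P : H8ReePsi hB m ψ) (hK : Fintype.card K = 3 ^ (2 * m + 1))
    (a : ↥(twistedG2 K (3 ^ m)))
    (haH : (a : GL chevG2.Idx K) ∈ chevG2.diagonalSubgroup K) (ha1 : a ≠ 1) (ha2 : a * a = 1)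
    (S : Sylow 2 ↥(twistedG2 K (3 ^ m))) :
    Subgroup.centralizer ((S : Subgroup ↥(twistedG2 K (3 ^ m))) : Set ↥(twistedG2 K (3 ^ m))) = S ∧
      Nat.card (Subgroup.normalizer
        ((S : Subgroup ↥(twistedG2 K (3 ^ m))) : Set ↥(twistedG2 K (3 ^ m)))) = 168 := by
  have hch := h8ree_char3 hK
  have h3 : (3 : K) = 0 := by
    have := CharP.cast_eq_zero K 3
    exact_mod_cast this
  have hav : (a : GL chevG2.Idx K) ∈ chevG2.diagonalSubgroup K ⊓ twistedG2 K (3 ^ m) :=
    Subgroup.mem_inf.mpr ⟨haH, a.2⟩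
  have hav1 : (a : GL chevG2.Idx K) ≠ 1 := fun h => ha1 (Subtype.ext h)
  have hav2 : (a : GL chevG2.Idx K) * a = 1 := congrArg Subtype.val ha2
  let ψ1 : SpecialLinearGroup (Fin 2) K →* ↥(twistedG2 K (3 ^ m)) :=
    ψ.codRestrict (twistedG2 K (3 ^ m)) P.mem
  have hψ1 : ∀ g, ((ψ1 g : ↥(twistedG2 K (3 ^ m))) : GL chevG2.Idx K) = ψ g := fun g => rfl
  have hneg : ψ1 (-1) = 1 := Subtype.ext (P.neg_one hK)
  have hnegx : ∀ x, ψ1 (-x) = ψ1 x := by
    intro x
    rw [← neg_one_mul, map_mul, hneg, one_mul]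
  have hacomm : ∀ g, a * ψ1 g = ψ1 g * a := fun g =>
    Subtype.ext (P.invol_comm hK _ hav hav1 hav2 g)
  have hker : ∀ g, ψ1 g = 1 → g = 1 ∨ g = -1 := fun g h =>
    P.ker hK g (by rw [← hψ1, h]; rfl)
  have hnot : ∀ g, ψ1 g ≠ a := fun g h =>
    P.invol_not_mem hK _ hav hav1 hav2 g (by rw [← hψ1, h])
  have hne01 : ∀ g : SpecialLinearGroup (Fin 2) K, g 0 1 ≠ 0 → ψ1 g ≠ 1 := by
    intro g h5 h
    apply h5
    rcases hker g h with rfl | rfl <;> simp
  set w := ψ1 h8slW with hw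
  set e := ψ1 (h8slE h3) with he
  have hw2 : w * w = 1 := by rw [hw, ← map_mul, h8slW_sq, hneg]
  have he2 : e * e = 1 := by rw [he, ← map_mul, h8slE_sq, hneg]
  have hwe : Commute w e := by
    have : e * w = w * e := by
      rw [hw, he, ← map_mul, h8slEW, map_mul, hneg, one_mul, map_mul]
    exact this.symm
  have hw1 : w ≠ 1 := hne01 _ (by simp [h8slW_val])
  have he1 : e ≠ 1 := hne01 _ (by simp [h8slE_val])
  have hwe1 : w * e ≠ 1 := by
    rw [hw, he, ← map_mul]
    exact hne01 _ (by simp [h8slW_val, h8slE_val, Matrix.mul_apply])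
  have hwne : w ≠ e := by
    intro h
    apply hwe1
    rw [h, he2]
  have c1 : ∀ z z' : Multiplicative (ZMod 2), Commute (h8z2hom w hw2 z) (h8z2hom e he2 z') :=
    fun z z' => h8z2hom_commute w hw2 _ (h8z2hom_commute e he2 w hwe.symm z').symm z
  let F23 : Multiplicative (ZMod 2) × Multiplicative (ZMod 2) →* ↥(twistedG2 K (3 ^ m)) :=
    (h8z2hom w hw2).noncommCoprod (h8z2hom e he2) c1
  have hF23 : ∀ z z', F23 (z, z') = h8z2hom w hw2 z * h8z2hom e he2 z' := fun z z' => rfl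
  have hkey : ∀ z z', ∃ g : SpecialLinearGroup (Fin 2) K, F23 (z, z') = ψ1 g ∧
      ((z = 1 ∧ z' = 1) ∨ g 0 1 ≠ 0) ∧
      (g = 1 ∨ g = h8slW ∨ g = h8slE h3 ∨ g = h8slW * h8slE h3) := by
    intro z z'
    rw [hF23]
    rcases h8z2hom_cases w hw2 z with ⟨hz, h⟩ | ⟨hz, h⟩ <;>
      rcases h8z2hom_cases e he2 z' with ⟨hz', h'⟩ | ⟨hz', h'⟩
    · exact ⟨1, by rw [h, h', map_one, one_mul], Or.inl ⟨hz, hz'⟩, Or.inl rfl⟩
    · exact ⟨h8slE h3, by rw [h, h', one_mul], Or.inr (by simp [h8slE_val]),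
        Or.inr (Or.inr (Or.inl rfl))⟩
    · exact ⟨h8slW, by rw [h, h', mul_one], Or.inr (by simp [h8slW_val]), Or.inr (Or.inl rfl)⟩
    · exact ⟨h8slW * h8slE h3, by rw [h, h', map_mul],
        Or.inr (by simp [h8slW_val, h8slE_val, Matrix.mul_apply]),
        Or.inr (Or.inr (Or.inr rfl))⟩
  have c2 : ∀ (z : Multiplicative (ZMod 2)) (p : Multiplicative (ZMod 2) × Multiplicative (ZMod 2)),
      Commute (h8z2hom a ha2 z) (F23 p) := by
    rintro z ⟨z2, z3⟩
    obtain ⟨g, hg, _⟩ := hkey z2 z3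
    rw [hg]
    exact h8z2hom_commute a ha2 _ (hacomm g) z
  let F : Multiplicative (ZMod 2) × (Multiplicative (ZMod 2) × Multiplicative (ZMod 2)) →*
      ↥(twistedG2 K (3 ^ m)) := (h8z2hom a ha2).noncommCoprod F23 c2
  have hF : ∀ z p, F (z, p) = h8z2hom a ha2 z * F23 p := fun z p => rfl
  have hinj : Function.Injective F := by
    rw [injective_iff_map_eq_one]
    rintro ⟨z1, z2, z3⟩ h
    rw [hF] at h
    obtain ⟨g, hg, hg', _⟩ := hkey z2 z3
    rw [hg] at h
    rcases h8z2hom_cases a ha2 z1 with ⟨hz, h'⟩ | ⟨hz, h'⟩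
    · rw [h', one_mul] at h
      rcases hg' with ⟨h5, h6⟩ | h5
      · rw [hz, h5, h6]
        rfl
      · exact absurd h (hne01 g h5)
    · exfalso
      rw [h'] at h
      apply hnot g
      calc ψ1 g = a * (a * ψ1 g) := by rw [← mul_assoc, ha2, one_mul]
        _ = a := by rw [h, mul_one]
  obtain ⟨r, hr, hcard⟩ := h8ree_card_two m
  have hG : Nat.card ↥(twistedG2 K (3 ^ m)) = 2 ^ 3 * r := by rw [h8ree_card hK, hcard]
  have hE : Nat.card F.range = 2 ^ 3 := by
    rw [← Nat.card_congr (MonoidHom.ofInjective hinj).toEquiv, Nat.card_eq_fintype_card]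
    rfl
  -- the range is generated by the three involutions
  have hrange : F.range = Subgroup.closure {a, w, e} := by
    apply le_antisymm
    · rintro x ⟨⟨z1, z2, z3⟩, rfl⟩
      rw [hF, hF23]
      have hA : a ∈ Subgroup.closure ({a, w, e} : Set ↥(twistedG2 K (3 ^ m))) :=
        Subgroup.subset_closure (by simp)
      have hWm : w ∈ Subgroup.closure ({a, w, e} : Set ↥(twistedG2 K (3 ^ m))) :=
        Subgroup.subset_closure (by simp)
      have hEm : e ∈ Subgroup.closure ({a, w, e} : Set ↥(twistedG2 K (3 ^ m))) :=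
        Subgroup.subset_closure (by simp)
      refine Subgroup.mul_mem _ ?_ (Subgroup.mul_mem _ ?_ ?_)
      · rcases h8z2hom_cases a ha2 z1 with ⟨_, h'⟩ | ⟨_, h'⟩
        · rw [h']; exact Subgroup.one_mem _
        · rw [h']; exact hA
      · rcases h8z2hom_cases w hw2 z2 with ⟨_, h'⟩ | ⟨_, h'⟩
        · rw [h']; exact Subgroup.one_mem _
        · rw [h']; exact hWm
      · rcases h8z2hom_cases e he2 z3 with ⟨_, h'⟩ | ⟨_, h'⟩
        · rw [h']; exact Subgroup.one_mem _
        · rw [h']; exact hEm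
    · rw [Subgroup.closure_le]
      intro y hy
      simp only [Set.mem_insert_iff, Set.mem_singleton_iff] at hy
      rcases hy with rfl | rfl | rfl
      · refine ⟨(Multiplicative.ofAdd 1, 1, 1), ?_⟩
        rw [hF, hF23, h8z2hom_one, map_one, map_one, mul_one, mul_one]
      · refine ⟨(1, Multiplicative.ofAdd 1, 1), ?_⟩
        rw [hF, hF23, h8z2hom_one, map_one, map_one, mul_one, one_mul]
      · refine ⟨(1, 1, Multiplicative.ofAdd 1), ?_⟩
        rw [hF, hF23, h8z2hom_one, map_one, map_one, one_mul, one_mul]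
  -- the Sylow subgroup
  have : Fact (Nat.Prime 2) := ⟨Nat.prime_two⟩
  have hEp : IsPGroup 2 F.range := IsPGroup.of_card hE
  obtain ⟨Q, hQ⟩ := hEp.exists_le_sylow
  have hQc := h8_sylow_card 2 3 r hG hr Q
  have hEQ : F.range = Q := Subgroup.eq_of_le_of_card_ge hQ (by rw [hE, hQc])
  have hgen : (Q : Subgroup ↥(twistedG2 K (3 ^ m))) = Subgroup.closure {a, w, e} := by
    rw [← hEQ, hrange]
  have hexp : ∀ x ∈ (Q : Subgroup ↥(twistedG2 K (3 ^ m))), x * x = 1 :=
    (P.sylow hK a haH ha1 ha2 Q).2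
  have haQ : a ∈ (Q : Subgroup ↥(twistedG2 K (3 ^ m))) := by
    rw [hgen]; exact Subgroup.subset_closure (by simp)
  have hwQ : w ∈ (Q : Subgroup ↥(twistedG2 K (3 ^ m))) := by
    rw [hgen]; exact Subgroup.subset_closure (by simp)
  have heQ : e ∈ (Q : Subgroup ↥(twistedG2 K (3 ^ m))) := by
    rw [hgen]; exact Subgroup.subset_closure (by simp)
  have hmemQ : ∀ x ∈ (Q : Subgroup ↥(twistedG2 K (3 ^ m))),
      ∃ g : SpecialLinearGroup (Fin 2) K, (x = ψ1 g ∨ x = a * ψ1 g) ∧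
        (g = 1 ∨ g = h8slW ∨ g = h8slE h3 ∨ g = h8slW * h8slE h3) := by
    intro x hx
    rw [← hEQ] at hx
    obtain ⟨⟨z1, z2, z3⟩, rfl⟩ := hx
    obtain ⟨g, hg, _, hg'⟩ := hkey z2 z3
    refine ⟨g, ?_, hg'⟩
    rw [hF, hg]
    rcases h8z2hom_cases a ha2 z1 with ⟨_, h'⟩ | ⟨_, h'⟩
    · left; rw [h', one_mul]
    · right; rw [h']
  -- the element of order three
  set z := ψ1 (h8slU 1) with hz
  have hza : z * a = a * z := (hacomm _).symm
  have hzw : z * w * z⁻¹ = e := by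
    rw [mul_inv_eq_iff_eq_mul, hz, hw, he, ← map_mul, ← map_mul, h8slU1W h3, neg_mul, hnegx]
  have hze : z * e * z⁻¹ = w * e := by
    rw [mul_inv_eq_iff_eq_mul, hz, hw, he, ← map_mul, ← map_mul, ← map_mul, h8slU1E h3, neg_mul,
      hnegx]
  -- elements of the centralizer of `a`
  have hcent : ∀ c : ↥(twistedG2 K (3 ^ m)), c * a = a * c →
      ∃ g : SpecialLinearGroup (Fin 2) K, c = ψ1 g ∨ c = a * ψ1 g := by
    intro c hca
    obtain ⟨g, hg⟩ := P.cent hK a.val hav hav1 hav2 c.val c.2 (congrArg Subtype.val hca.symm)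
    refine ⟨g, ?_⟩
    rcases hg with hg | hg
    · left; exact Subtype.ext hg
    · right; exact Subtype.ext hg
  have h5 : ∀ c : ↥(twistedG2 K (3 ^ m)), c * a = a * c →
      c * w * c⁻¹ ∈ (Q : Subgroup ↥(twistedG2 K (3 ^ m))) →
      c * w * c⁻¹ = w ∨ c * w * c⁻¹ = e ∨ c * w * c⁻¹ = w * e := by
    intro c hca hmem
    obtain ⟨g, hg⟩ := hcent c hca
    have hcw : c * w * c⁻¹ = ψ1 (g * h8slW * g⁻¹) := by
      rcases hg with rfl | rfl
      · rw [map_mul, map_mul, map_inv]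
      · have e1 : ψ1 (g * h8slW * g⁻¹) = ψ1 g * w * (ψ1 g)⁻¹ := by
          rw [map_mul, map_mul, map_inv]
        rw [e1]
        calc a * ψ1 g * w * (a * ψ1 g)⁻¹ = a * (ψ1 g * w * (ψ1 g)⁻¹) * a⁻¹ := by group
          _ = ψ1 g * w * (ψ1 g)⁻¹ := by rw [← e1, hacomm, mul_inv_cancel_right]
    have hne1 : c * w * c⁻¹ ≠ 1 := by
      rw [Ne, conj_eq_one_iff]
      exact hw1
    rw [hcw] at hmem hne1 ⊢
    obtain ⟨h, hh, hcases⟩ := hmemQ _ hmem
    rcases hh with hh | hh
    · rcases hcases with rfl | rfl | rfl | rfl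
      · rw [map_one] at hh
        exact absurd hh hne1
      · left; exact hh
      · right; left; exact hh
      · right; right; rw [hh, map_mul]
    · exfalso
      apply hnot (g * h8slW * g⁻¹ * h⁻¹)
      rw [map_mul, hh, map_inv, mul_inv_cancel_right]
  have h6 : ∀ c : ↥(twistedG2 K (3 ^ m)), c * a = a * c → c * w = w * c → c * e = e * c →
      c ∈ (Q : Subgroup ↥(twistedG2 K (3 ^ m))) := by
    intro c hca hcw hce
    obtain ⟨g, hg⟩ := hcent c hca
    have hgw : ψ1 g * w = w * ψ1 g := by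
      rcases hg with rfl | rfl
      · exact hcw
      · have h1 : a * (ψ1 g * w) = a * (w * ψ1 g) := by
          calc a * (ψ1 g * w) = a * ψ1 g * w := by rw [mul_assoc]
            _ = w * (a * ψ1 g) := hcw
            _ = (w * a) * ψ1 g := by rw [mul_assoc]
            _ = (a * w) * ψ1 g := by rw [hw, hacomm]
            _ = a * (w * ψ1 g) := by rw [mul_assoc]
        exact mul_left_cancel h1
    have hge : ψ1 g * e = e * ψ1 g := by
      rcases hg with rfl | rfl
      · exact hce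
      · have h1 : a * (ψ1 g * e) = a * (e * ψ1 g) := by
          calc a * (ψ1 g * e) = a * ψ1 g * e := by rw [mul_assoc]
            _ = e * (a * ψ1 g) := hce
            _ = (e * a) * ψ1 g := by rw [mul_assoc]
            _ = (a * e) * ψ1 g := by rw [he, hacomm]
            _ = a * (e * ψ1 g) := by rw [mul_assoc]
        exact mul_left_cancel h1
    have hsign : ∀ x : SpecialLinearGroup (Fin 2) K, ψ1 g * ψ1 x = ψ1 x * ψ1 g →
        g * x = x * g ∨ g * x = -(x * g) := by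
      intro x hx
      have h1 : ψ1 (g * x * (x * g)⁻¹) = 1 := by
        rw [map_mul, map_inv, map_mul, map_mul, hx, mul_inv_cancel]
      rcases hker _ h1 with h | h
      · left
        exact mul_inv_eq_one.mp h
      · right
        rw [mul_inv_eq_iff_eq_mul, neg_one_mul] at h
        exact h
    have hW := hsign h8slW hgw
    have hE' := hsign (h8slE h3) hge
    have hwe' : w * e ∈ (Q : Subgroup ↥(twistedG2 K (3 ^ m))) := Subgroup.mul_mem _ hwQ heQ
    have hgQ : ψ1 g ∈ (Q : Subgroup ↥(twistedG2 K (3 ^ m))) := by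
      rcases h8q8_of_comm h3 g hW hE' with rfl | rfl | rfl | rfl | rfl | rfl | rfl | rfl
      · rw [map_one]; exact Subgroup.one_mem _
      · rw [hneg]; exact Subgroup.one_mem _
      · exact hwQ
      · rw [hnegx]; exact hwQ
      · exact heQ
      · rw [hnegx]; exact heQ
      · rw [map_mul]; exact hwe'
      · rw [hnegx, map_mul]; exact hwe'
    rcases hg with rfl | rfl
    · exact hgQ
    · exact Subgroup.mul_mem _ haQ hgQ
  have hcore := h8_norm168_core r hG hr Q hexp a w e z hgen ha1 hw1 he1 hwne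
    (fun t ht1 ht2 => P.one_class hK a haH ha1 ha2 t ht1 ht2) hza hzw hze h5 h6
  exact h8_sylow_cent_norm_transfer 2 Q S 168 hcore

end Cfsg.Agent.Lib.helper8
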