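import Mathlib
import Cfsg.Prelude.Def_ChevStructure
import Cfsg.Prelude.Def_ChevG2
import Cfsg.Prelude.Def_LieTwisted
import Cfsg.Agent.Lib.helper8.ChevReeD6

set_option autoImplicit false
set_option linter.unusedSectionVars false
set_option linter.unusedVariables false

namespace Cfsg.Agent.Lib.helper8

open Cfsg.Lie Cfsg.Lie.ChevalleyDatum Matrix

universe u

/-- the torus of the small Ree group contains an involution -/
theorem h8ree_exists_invol {K : Type u} [Field K] [Fintype K] {m : ℕ}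
    (hK : Fintype.card K = 3 ^ (2 * m + 1)) :
    ∃ a : ↥(twistedG2 K (3 ^ m)), (a : GL chevG2.Idx K) ∈ chevG2.diagonalSubgroup K ∧
      a ≠ 1 ∧ a * a = 1 := by
  have : Fact (Nat.Prime 2) := ⟨Nat.prime_two⟩
  have hcard := h8ree_H1_card hK
  have h2 : 2 ∣ Nat.card ↥(chevG2.diagonalSubgroup K ⊓ twistedG2 K (3 ^ m)) := by
    rw [hcard]
    have hodd : Odd (3 ^ (2 * m + 1)) := Odd.pow (by decide)
    obtain ⟨k, hk⟩ := hodd
    rw [hk]
    exact ⟨k, by omega⟩
  obtain ⟨x, hx⟩ := exists_prime_orderOf_dvd_card' 2 h2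
  have hx2 : x * x = 1 := by
    have := pow_orderOf_eq_one x
    rw [hx, pow_two] at this
    exact this
  have hx1 : x ≠ 1 := by
    intro h
    rw [h, orderOf_one] at hx
    omega
  refine ⟨⟨x.val, (Subgroup.mem_inf.mp x.2).2⟩, (Subgroup.mem_inf.mp x.2).1, ?_, ?_⟩
  · intro h
    apply hx1
    apply Subtype.ext
    have h' : (x.val : GL chevG2.Idx K) = 1 :=
      congrArg (fun y : ↥(twistedG2 K (3 ^ m)) => (y : GL chevG2.Idx K)) h
    exact h'
  · apply Subtype.ext
    have h' : (x.val : GL chevG2.Idx K) * x.val = 1 :=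
      congrArg (fun y : ↥(chevG2.diagonalSubgroup K ⊓ twistedG2 K (3 ^ m)) =>
        (y : GL chevG2.Idx K)) hx2
    exact h'

/-- **Sylow 2-subgroups of the small Ree groups** are self-centralizing with normalizer of
order 168 -/
theorem h8ree_sylow2_norm {K : Type u} [Field K] [Fintype K] {m : ℕ}
    (hK : Fintype.card K = 3 ^ (2 * m + 1)) (S : Sylow 2 ↥(twistedG2 K (3 ^ m))) :
    Subgroup.centralizer ((S : Subgroup ↥(twistedG2 K (3 ^ m))) : Set ↥(twistedG2 K (3 ^ m))) = S ∧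
      Nat.card (Subgroup.normalizer
        ((S : Subgroup ↥(twistedG2 K (3 ^ m))) : Set ↥(twistedG2 K (3 ^ m)))) = 168 := by
  have hD : chevG2 ∈ [chevG2, chevB2, chevD4, chevF4, chevE6, chevE7, chevE8] := by simp
  have hB := h8base_all.{u} chevG2 hD
  obtain ⟨ψ, h1, h2, h3, h4⟩ := h8reeC_psi hK hB
  have P : H8ReePsi hB m ψ := ⟨h1, h2, h3, h4⟩
  obtain ⟨a, haH, ha1, ha2⟩ := h8ree_exists_invol hK
  exact P.norm168 hK a haH ha1 ha2 S

end Cfsg.Agent.Lib.helper8
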