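import Mathlib
import Cfsg.Prelude.Def_ChevStructure
import Cfsg.Prelude.Def_ChevG2
import Cfsg.Prelude.Def_LieTwisted
import Cfsg.Prelude.Def_LieExceptional
import Cfsg.Agent.Lib.helper8.ChevRee25
import Cfsg.Agent.Lib.helper8.ChevRee30
import Cfsg.Agent.Lib.helper8.ChevSolv
import Cfsg.Agent.Lib.helper8.H3BNSimple

set_option autoImplicit false

namespace Cfsg.Agent.Lib.helper8

open Cfsg.Lie Cfsg.Lie.ChevalleyDatum

universe u

variable {K : Type u} [Field K]

/-- `²G₂(q)` is simple for `q ≥ 27` -/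
theorem h8ree_simple [Fintype K] {m : ℕ} (hm : 1 ≤ m) (hK : Fintype.card K = 3 ^ (2 * m + 1)) :
    IsSimpleGroup ↥(twistedG2 K (3 ^ m)) ∧ ¬ IsMulCommutative ↥(twistedG2 K (3 ^ m)) := by
  have hD : chevG2 ∈ [chevG2, chevB2, chevD4, chevF4, chevE6, chevE7, chevE8] := by simp
  have hB := h8base_all.{u} chevG2 hD
  obtain ⟨P, hPB, hPN, hPS⟩ := h8ree_bnpair hK hB
  have hperf := h8ree_perfect hm hK
  have hcore := h8ree_core hK
  have hBmem : ∀ x : ↥(twistedG2 K (3 ^ m)), x ∈ P.B ↔ x.val ∈ chevG2.borelSubgroup K := by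
    intro x
    rw [hPB, Subgroup.mem_subgroupOf, Subgroup.mem_inf]
    exact ⟨fun h => h.1, fun h => ⟨h, x.2⟩⟩
  have hcoreP : P.B.normalCore = ⊥ := by
    rw [hPB]
    exact hcore
  have hsolv : Group.IsSolvable P.B := by
    haveI := h8_B_solvable (F := K) chevG2 hB
    let φ : ↥P.B →* ↥(chevG2.borelSubgroup K) :=
      ((twistedG2 K (3 ^ m)).subtype.comp P.B.subtype).codRestrict (chevG2.borelSubgroup K)
        (fun x => (hBmem x.val).mp x.2)
    apply Group.isSolvable_of_isSolvable_injective (f := φ)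
    intro a b hab
    have h1 : (φ a).val = (φ b).val := congrArg Subtype.val hab
    exact Subtype.ext (Subtype.ext h1)
  have hirr : P.Irreducible := by
    intro J hJS hJne hJc
    exfalso
    obtain ⟨s, hs⟩ := hJne
    obtain ⟨s', hs'⟩ := hJc
    have h1 := hJS hs
    have h2 := hs'.1
    rw [hPS, Set.mem_singleton_iff] at h1 h2
    apply hs'.2
    rw [h2, ← h1]
    exact hs
  haveI : Nontrivial ↥(twistedG2 K (3 ^ m)) := by
    obtain ⟨x, hx, hx1⟩ := h8ree_U1_ne hK hB
    exact ⟨⟨⟨x, hx.2⟩, 1, fun h => hx1 (congrArg Subtype.val h)⟩⟩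
  refine ⟨H3.isSimpleGroup_of_irreducible hirr hsolv hperf hcoreP, ?_⟩
  intro hc
  have hbot : commutator ↥(twistedG2 K (3 ^ m)) = ⊥ := by
    rw [commutator_def, Subgroup.commutator_eq_bot_iff_le_centralizer]
    intro x _
    rw [Subgroup.mem_centralizer_iff]
    intro y _
    exact (isMulCommutative_iff.mp hc) y x
  rw [hperf] at hbot
  exact top_ne_bot hbot

end Cfsg.Agent.Lib.helper8
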