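import Mathlib
import Cfsg.Agent.Lib.helper8.ChevAU11

set_option autoImplicit false

namespace Cfsg.Agent.Lib.helper8

universe u v

/-- an abstract rank one datum inside a group with a "Borel" subgroup `B` and an "opposite
unipotent" subgroup `V` -/
structure H8Rk {Γ : Type u} [Group Γ] (B V : Subgroup Γ) {k : Type v} [Field k]
    (xp xm hh : k → Γ) (nn : Γ) : Prop where
  xp_add : ∀ a b, xp (a + b) = xp a * xp b
  xm_add : ∀ a b, xm (a + b) = xm a * xm b
  xp_inj : Function.Injective xp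
  xm_inj : Function.Injective xm
  xp_B : ∀ a, xp a ∈ B
  hh_B : ∀ a, a ≠ 0 → hh a ∈ B
  xm_V : ∀ a, xm a ∈ V
  BV : ∀ g, g ∈ B → g ∈ V → g = 1
  W : ∀ s, s ≠ 0 → xp s * xm (-s⁻¹) * xp s = hh s * nn
  n_xp : ∀ s, nn * xp s * nn⁻¹ = xm (-s)
  hh_mul : ∀ a b, a ≠ 0 → b ≠ 0 → hh (a * b) = hh a * hh b
  hh_xp : ∀ s t, s ≠ 0 → hh s * xp t * (hh s)⁻¹ = xp (s ^ 2 * t)
  hh_xm : ∀ s t, s ≠ 0 → hh s * xm t * (hh s)⁻¹ = xm ((s ^ 2)⁻¹ * t)

namespace H8Rk

variable {Γ : Type u} [Group Γ] {B V : Subgroup Γ} {k : Type v} [Field k]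
  {xp xm hh : k → Γ} {nn : Γ} (R : H8Rk B V xp xm hh nn)

include R

theorem xp_zero : xp 0 = 1 := by
  have := R.xp_add 0 0
  rw [add_zero] at this
  exact left_eq_mul.mp this

theorem xm_zero : xm 0 = 1 := by
  have := R.xm_add 0 0
  rw [add_zero] at this
  exact left_eq_mul.mp this

theorem xp_neg (a : k) : xp (-a) = (xp a)⁻¹ := by
  apply eq_inv_of_mul_eq_one_left
  rw [← R.xp_add, neg_add_cancel, R.xp_zero]

theorem xm_neg (a : k) : xm (-a) = (xm a)⁻¹ := by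
  apply eq_inv_of_mul_eq_one_left
  rw [← R.xm_add, neg_add_cancel, R.xm_zero]

theorem xp_comm (a b : k) : xp a * xp b = xp b * xp a := by
  rw [← R.xp_add, ← R.xp_add, add_comm]

theorem xm_eq (d : k) (hd : d ≠ 0) : xm d = xp d⁻¹ * hh (-d⁻¹) * nn * xp d⁻¹ := by
  have h := R.W (-d⁻¹) (neg_ne_zero.mpr (inv_ne_zero hd))
  have e : -(-d⁻¹)⁻¹ = d := by rw [inv_neg, inv_inv, neg_neg]
  rw [e, R.xp_neg] at h
  have : xm d = xp d⁻¹ * ((xp d⁻¹)⁻¹ * xm d * (xp d⁻¹)⁻¹) * xp d⁻¹ := by group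
  rw [this, h]
  group

theorem xm_ne_one (c : k) (hc : c ≠ 0) : xm c ≠ 1 := by
  intro h
  apply hc
  apply R.xm_inj
  rw [h, R.xm_zero]

/-- `x₋(d)` normalises `X₊` only if `d = 0` -/
theorem key0 (d c e : k) (hc : c ≠ 0) (h : xm d * xp c * (xm d)⁻¹ = xp e) : d = 0 := by
  by_contra hd
  have hx := R.xm_eq d hd
  set u := xp d⁻¹ with hu
  set h0 := hh (-d⁻¹) with hh0
  have huc : u * xp c * u⁻¹ = xp c := by
    rw [hu, R.xp_comm]
    group
  have e1 : nn * xp c * nn⁻¹ = h0⁻¹ * u⁻¹ * xp e * u * h0 := by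
    rw [← h, hx]
    have : u * h0 * nn * u * xp c * (u * h0 * nn * u)⁻¹ =
        u * h0 * nn * (u * xp c * u⁻¹) * nn⁻¹ * h0⁻¹ * u⁻¹ := by group
    rw [this, huc]
    group
  have hmem : nn * xp c * nn⁻¹ ∈ B := by
    rw [e1]
    have huB : u ∈ B := R.xp_B _
    have hhB : h0 ∈ B := R.hh_B _ (neg_ne_zero.mpr (inv_ne_zero hd))
    exact B.mul_mem (B.mul_mem (B.mul_mem (B.mul_mem (B.inv_mem hhB) (B.inv_mem huB))
      (R.xp_B _)) huB) hhB
  rw [R.n_xp] at hmem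
  exact R.xm_ne_one (-c) (neg_ne_zero.mpr hc) (R.BV _ hmem (R.xm_V _))

/-- the `SL₂` lemma -/
theorem sl2 (a b c e : k) (ha : a ≠ 0) (hc : c ≠ 0)
    (h : (xp a * xm b * xp a) * xp c * (xp a * xm b * xp a)⁻¹ = xm e) : b = -a⁻¹ := by
  set na := xp a * xm (-a⁻¹) * xp a with hna
  have hna2 : na = hh a * nn := R.W a ha
  have hninv : na⁻¹ = xp (-a) * xm a⁻¹ * xp (-a) := by
    rw [hna, R.xp_neg]
    have : xm a⁻¹ = (xm (-a⁻¹))⁻¹ := by rw [← R.xm_neg, neg_neg]
    rw [this]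
    group
  have hprod : na⁻¹ * (xp a * xm b * xp a) = xp (-a) * xm (a⁻¹ + b) * xp a := by
    rw [hninv, R.xm_add, R.xp_neg]
    group
  set d := a⁻¹ + b with hd
  have hconj : na⁻¹ * xm e * na = xp (-(a ^ 2 * e)) := by
    rw [hna2]
    have h1 : (hh a)⁻¹ * xm e * hh a = xm (a ^ 2 * e) := by
      have := R.hh_xm a (a ^ 2 * e) ha
      rw [← mul_assoc, inv_mul_cancel₀ (pow_ne_zero 2 ha), one_mul] at this
      rw [← this]
      group
    have h2 : nn⁻¹ * xm (a ^ 2 * e) * nn = xp (-(a ^ 2 * e)) := by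
      have := R.n_xp (-(a ^ 2 * e))
      rw [neg_neg] at this
      rw [← this]
      group
    have : (hh a * nn)⁻¹ * xm e * (hh a * nn) = nn⁻¹ * ((hh a)⁻¹ * xm e * hh a) * nn := by group
    rw [this, h1, h2]
  have h2 : (na⁻¹ * (xp a * xm b * xp a)) * xp c * (na⁻¹ * (xp a * xm b * xp a))⁻¹ =
      xp (-(a ^ 2 * e)) := by
    have : (na⁻¹ * (xp a * xm b * xp a)) * xp c * (na⁻¹ * (xp a * xm b * xp a))⁻¹ =
        na⁻¹ * ((xp a * xm b * xp a) * xp c * (xp a * xm b * xp a)⁻¹) * na := by group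
    rw [this, h, hconj]
  rw [hprod] at h2
  have h3 : xm d * xp c * (xm d)⁻¹ = xp (-(a ^ 2 * e)) := by
    have e1 : xm d * xp c * (xm d)⁻¹ =
        (xp (-a))⁻¹ * (xp (-a) * xm d * xp a * ((xp a)⁻¹ * xp c * xp a) *
          (xp (-a) * xm d * xp a)⁻¹) * xp (-a) := by group
    have e2 : (xp a)⁻¹ * xp c * xp a = xp c := by
      rw [mul_assoc, R.xp_comm c a]
      group
    rw [e1, e2, h2, ← R.xp_neg, neg_neg, ← R.xp_add, ← R.xp_add]
    congr 1
    ring
  have hd0 := R.key0 d c _ hc h3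
  rw [hd] at hd0
  linear_combination hd0

theorem hh_one : hh 1 = 1 := by
  have := R.hh_mul 1 1 one_ne_zero one_ne_zero
  rw [mul_one] at this
  exact left_eq_mul.mp this

section aut

variable (θ : Γ ≃* Γ) (f g : k → k) (hp : ∀ t, θ (xp t) = xp (f t))
  (hm : ∀ t, θ (xm t) = xm (g t))

include hp in
theorem f_add (a b : k) : f (a + b) = f a + f b := by
  apply R.xp_inj
  rw [← hp, R.xp_add, map_mul, hp, hp, R.xp_add]

include hm in
theorem g_add (a b : k) : g (a + b) = g a + g b := by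
  apply R.xm_inj
  rw [← hm, R.xm_add, map_mul, hm, hm, R.xm_add]

include hp in
theorem f_inj : Function.Injective f := by
  intro a b h
  apply R.xp_inj
  apply θ.injective
  rw [hp, hp, h]

include hm in
theorem g_inj : Function.Injective g := by
  intro a b h
  apply R.xm_inj
  apply θ.injective
  rw [hm, hm, h]

include hp in
theorem f_zero : f 0 = 0 := by
  have := R.f_add θ f hp 0 0
  rw [add_zero] at this
  exact left_eq_add.mp this

include hm in
theorem g_zero : g 0 = 0 := by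
  have := R.g_add θ g hm 0 0
  rw [add_zero] at this
  exact left_eq_add.mp this

include hp in
theorem f_ne_zero (t : k) (ht : t ≠ 0) : f t ≠ 0 := by
  intro h
  apply ht
  apply R.f_inj θ f hp
  rw [h, R.f_zero θ f hp]

include hp in
theorem f_neg (t : k) : f (-t) = - f t := by
  have := R.f_add θ f hp t (-t)
  rw [add_neg_cancel, R.f_zero θ f hp] at this
  exact eq_neg_of_add_eq_zero_right this.symm

include hp hm in
/-- the `SL₂` relation between `f` and `g` -/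
theorem fg (t : k) (ht : t ≠ 0) : g (-t⁻¹) = -(f t)⁻¹ := by
  have h1 : (xp t * xm (-t⁻¹) * xp t) * xp 1 * (xp t * xm (-t⁻¹) * xp t)⁻¹ =
      xm ((t ^ 2)⁻¹ * (-1)) := by
    rw [R.W t ht]
    have : hh t * nn * xp 1 * (hh t * nn)⁻¹ = hh t * (nn * xp 1 * nn⁻¹) * (hh t)⁻¹ := by group
    rw [this, R.n_xp, R.hh_xm _ _ ht]
  have h2 := congrArg θ h1
  rw [map_mul, map_mul, map_inv, map_mul, map_mul, hp, hm, hp, hm] at h2
  exact R.sl2 (f t) (g (-t⁻¹)) (f 1) _ (R.f_ne_zero θ f hp t ht)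
    (R.f_ne_zero θ f hp 1 one_ne_zero) h2

include hp hm in
theorem theta_hn (t : k) (ht : t ≠ 0) : θ (hh t * nn) = hh (f t) * nn := by
  rw [← R.W t ht, map_mul, map_mul, hp, hm, R.fg θ f g hp hm t ht,
    R.W _ (R.f_ne_zero θ f hp t ht)]

include hp hm in
theorem theta_h (t : k) (ht : t ≠ 0) : θ (hh t) = hh (f t / f 1) := by
  have hf1 := R.f_ne_zero θ f hp 1 one_ne_zero
  have hft := R.f_ne_zero θ f hp t ht
  have e1 : hh t = (hh t * nn) * (hh 1 * nn)⁻¹ := by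
    rw [R.hh_one]
    group
  rw [e1, map_mul, map_inv, R.theta_hn θ f g hp hm t ht,
    R.theta_hn θ f g hp hm 1 one_ne_zero]
  have e2 : hh (f t) = hh (f t / f 1) * hh (f 1) := by
    rw [← R.hh_mul _ _ (div_ne_zero hft hf1) hf1, div_mul_cancel₀ _ hf1]
  rw [e2]
  group

include hp hm in
/-- the torus relation -/
theorem torus (t v : k) (ht : t ≠ 0) : f (t ^ 2 * v) = (f t / f 1) ^ 2 * f v := by
  have hf1 := R.f_ne_zero θ f hp 1 one_ne_zero
  have hft := R.f_ne_zero θ f hp t ht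
  have h1 := R.hh_xp t v ht
  have h2 := congrArg θ h1
  rw [map_mul, map_mul, map_inv, R.theta_h θ f g hp hm t ht, hp, hp,
    R.hh_xp _ _ (div_ne_zero hft hf1)] at h2
  exact (R.xp_inj h2).symm

include hp hm in
/-- the automorphism acts on the rank one datum through a field automorphism and a scalar -/
theorem ringAut [Finite k] : f 1 ≠ 0 ∧ ∃ φ : k ≃+* k, (∀ t, f t = f 1 * φ t) ∧
    (∀ t, g t = (f 1)⁻¹ * φ t) ∧ (∀ t, t ≠ 0 → θ (hh t) = hh (φ t)) := by
  have hf1 := R.f_ne_zero θ f hp 1 one_ne_zero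
  refine ⟨hf1, ?_⟩
  obtain ⟨φ, hφ⟩ := h8au_ringAut (fun t => f t / f 1)
    (by
      intro a b
      show f (a + b) / f 1 = f a / f 1 + f b / f 1
      rw [R.f_add θ f hp, add_div])
    (div_self hf1)
    (by
      intro a b hab
      have h1 : f a / f 1 = f b / f 1 := hab
      rw [div_left_inj' hf1] at h1
      exact R.f_inj θ f hp h1)
    (by
      intro t v ht
      show f (t ^ 2 * v) / f 1 = (f t / f 1) ^ 2 * (f v / f 1)
      rw [R.torus θ f g hp hm t v ht]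
      ring)
  have hfφ : ∀ t, f t = f 1 * φ t := by
    intro t
    rw [hφ t]
    field_simp
  refine ⟨φ, hfφ, ?_, ?_⟩
  · intro s
    by_cases hs : s = 0
    · subst hs
      rw [R.g_zero θ g hm, map_zero, mul_zero]
    · have ht : -s⁻¹ ≠ 0 := neg_ne_zero.mpr (inv_ne_zero hs)
      have h1 := R.fg θ f g hp hm (-s⁻¹) ht
      have e : -(-s⁻¹)⁻¹ = s := by rw [inv_neg, inv_inv, neg_neg]
      rw [e] at h1
      rw [h1, hfφ, map_neg, map_inv₀]
      have hσs0 : φ s ≠ 0 := (map_ne_zero φ).mpr hs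
      field_simp
  · intro t ht
    rw [R.theta_h θ f g hp hm t ht, hφ t]

end aut

end H8Rk

/-- compatibility of the field automorphisms attached to two rank one data linked by a torus
relation -/
theorem h8rk_link {Γ : Type u} [Group Γ] {k k' : Type v} [Field k] [Field k']
    (hh : k → Γ) (xp' : k' → Γ) (hinj : Function.Injective xp') (χ : k → k')
    (hrel : ∀ s t, s ≠ 0 → hh s * xp' t * (hh s)⁻¹ = xp' (χ s * t))
    (θ : Γ ≃* Γ) (φ : k ≃+* k) (φ' : k' ≃+* k') (c' : k') (hc' : c' ≠ 0)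
    (hθh : ∀ t, t ≠ 0 → θ (hh t) = hh (φ t))
    (hθx : ∀ t, θ (xp' t) = xp' (c' * φ' t)) (s : k) (hs : s ≠ 0) :
    φ' (χ s) = χ (φ s) := by
  have h1 := hrel s 1 hs
  have h2 := congrArg θ h1
  rw [map_mul, map_mul, map_inv, hθh s hs, hθx, hθx, hrel _ _ ((map_ne_zero φ).mpr hs)] at h2
  have h3 := hinj h2
  rw [map_one, mul_one, mul_one] at h3
  have := mul_left_cancel₀ hc' ((mul_comm _ _).trans h3)
  exact this.symm

end Cfsg.Agent.Lib.helper8
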