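import Mathlib
import Cfsg.Prelude.Def_KGroupFacts
import Cfsg.Agent.Lib.helper8.ChevAV3

set_option autoImplicit false

namespace Cfsg.Agent.Lib.helper8

universe u

/-- the automorphisms stabilizing two subgroups -/
def h8ayA0 {Γ : Type u} [Group Γ] (U V : Subgroup Γ) : Subgroup (MulAut Γ) where
  carrier := {θ | U.map θ.toMonoidHom = U ∧ V.map θ.toMonoidHom = V}
  mul_mem' := by
    rintro a b ⟨ha1, ha2⟩ ⟨hb1, hb2⟩
    constructor
    · show U.map (b.trans a).toMonoidHom = _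
      rw [h8au_map_trans', hb1, ha1]
    · show V.map (b.trans a).toMonoidHom = _
      rw [h8au_map_trans', hb2, ha2]
  one_mem' := by
    constructor
    · exact Subgroup.map_id _
    · exact Subgroup.map_id _
  inv_mem' := by
    rintro a ⟨ha1, ha2⟩
    exact ⟨h8au_map_symm _ a ha1, h8au_map_symm _ a ha2⟩

theorem h8ayA0_mem {Γ : Type u} [Group Γ] (U V : Subgroup Γ) (θ : MulAut Γ) :
    θ ∈ h8ayA0 U V ↔ U.map θ.toMonoidHom = U ∧ V.map θ.toMonoidHom = V := Iff.rfl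

/-- the inner automorphisms stabilizing `U` and `V` correspond to `Hs` -/
theorem h8ay_inn_card {Γ : Type u} [Group Γ] (U V Hs : Subgroup Γ)
    (hc : Subgroup.center Γ = ⊥)
    (h2 : ∀ x : Γ, MulAut.conj x ∈ h8ayA0 U V ↔ x ∈ Hs) :
    Nat.card ↥((Cfsg.Inn Γ).subgroupOf (h8ayA0 U V)) = Nat.card ↥Hs := by
  symm
  let f : ↥Hs → ↥((Cfsg.Inn Γ).subgroupOf (h8ayA0 U V)) :=
    fun h => ⟨⟨MulAut.conj h.val, (h2 h.val).mpr h.2⟩, ⟨h.val, rfl⟩⟩
  apply Nat.card_eq_of_bijective f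
  constructor
  · intro a b hab
    have h1 : MulAut.conj a.val = MulAut.conj b.val :=
      congrArg (fun z => (z.val.val : MulAut Γ)) hab
    exact Subtype.ext (h8av_conj_inj hc _ _ h1)
  · rintro ⟨⟨θ, hθ⟩, hInn⟩
    obtain ⟨x, hx⟩ := hInn
    have hx' : MulAut.conj x = θ := hx
    have hxH : x ∈ Hs := (h2 x).mp (by rw [hx']; exact hθ)
    refine ⟨⟨x, hxH⟩, ?_⟩
    apply Subtype.ext
    apply Subtype.ext
    exact hx'

theorem h8ay_inn_sup {Γ : Type u} [Group Γ] (U V : Subgroup Γ)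
    (h1 : ∀ θ : Γ ≃* Γ, ∃ x : Γ, U.map (θ.trans (MulAut.conj x)).toMonoidHom = U ∧
      V.map (θ.trans (MulAut.conj x)).toMonoidHom = V) :
    h8ayA0 U V ⊔ Cfsg.Inn Γ = ⊤ := by
  rw [eq_top_iff]
  intro θ _
  obtain ⟨x, hU, hV⟩ := h1 θ
  have h1 : MulAut.conj x * θ ∈ h8ayA0 U V := ⟨hU, hV⟩
  have h2 : (MulAut.conj x)⁻¹ ∈ Cfsg.Inn Γ := Subgroup.inv_mem _ ⟨x, rfl⟩
  have e : θ = (MulAut.conj x)⁻¹ * (MulAut.conj x * θ) := by group
  rw [e]
  have hInn : (Cfsg.Inn Γ).Normal := Cfsg.innNormal _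
  rw [sup_comm]
  exact Subgroup.mul_mem_sup h2 h1

/-- the order of the outer automorphism group through the stabilizer of `U` and `V` -/
theorem h8ay_out_card {Γ : Type u} [Group Γ] [Finite Γ] (U V Hs : Subgroup Γ)
    (hc : Subgroup.center Γ = ⊥)
    (h1 : ∀ θ : Γ ≃* Γ, ∃ x : Γ, U.map (θ.trans (MulAut.conj x)).toMonoidHom = U ∧
      V.map (θ.trans (MulAut.conj x)).toMonoidHom = V)
    (h2 : ∀ x : Γ, MulAut.conj x ∈ h8ayA0 U V ↔ x ∈ Hs) :
    Nat.card ↥Hs * Nat.card (Cfsg.Out Γ) = Nat.card ↥(h8ayA0 U V) := by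
  have hInn : (Cfsg.Inn Γ).Normal := Cfsg.innNormal _
  have e1 : Nat.card (Cfsg.Out Γ) = (Cfsg.Inn Γ).index :=
    (Subgroup.index_eq_card _).symm
  rw [e1, ← Subgroup.relIndex_top_right, ← h8ay_inn_sup U V h1, Subgroup.relIndex_sup_right,
    ← h8ay_inn_card U V Hs hc h2]
  exact Subgroup.card_mul_index _

end Cfsg.Agent.Lib.helper8
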