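import Mathlib
import Cfsg.Prelude.Def_ChevStructure
import Cfsg.Agent.Lib.helper8.ChevTwC2
import Cfsg.Agent.Lib.helper8.ChevAU3
import Cfsg.Agent.Lib.helper8.ChevAY1

set_option autoImplicit false

namespace Cfsg.Agent.Lib.helper8

open Cfsg.Lie Cfsg.Lie.ChevalleyDatum

universe u

variable {K : Type u} [Field K]

section
variable (D : ChevalleyDatum) (hB : H8Base.{u} D) (hB0 : H8Base.{0} D)
  (hA : H8ReflAll D) (hC : H8CommAll.{u} D) (hBN : H8BN D) (hW : H8BN2 D) (hO : H8Ord D)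
  (hO2 : H8Ord2 D)
  (σ τ π ϖ : ℕ → ℕ) (η : ℕ → ℤ) (hAut : H8Aut D σ τ π ϖ η) (f : K ≃+* K)
  (ρ : Equiv.Perm (Fin D.nroots)) (hρ : ∀ r, (ρ r).val = σ r.val)
  (πF : Fin D.rank → Fin D.rank) (orbs : List (List (Fin D.rank)))
  (T : H8Tw D hA hBN ρ πF orbs)
  (hσpos : ∀ r, D.IsPosRoot r → D.IsPosRoot (σ r))
  (G1 : Subgroup (GL D.Idx K)) (hG1 : G1 ≤ D.group K)
  (hfix : ∀ g ∈ G1, h8Sig D σ τ π ϖ η hAut f g = g)
  (hUfix : ∀ g ∈ D.posUnipotent K, h8Sig D σ τ π ϖ η hAut f g = g → g ∈ G1)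
  (hnJ : ∀ J ∈ orbs, (h8nWU D hB (J.map Fin.val) : GL D.Idx K) ∈ G1)
  (hxJ : ∀ J ∈ orbs, ∃ x ∈ G1, x ≠ 1 ∧ x ∈ Subgroup.closure {g : GL D.Idx K |
      ∃ j ∈ J, ∃ t : K, g = h8xU D hB (D.simple j.val) t})
  (w0 : List ℕ) (hw0 : h8w0Chk D w0 = true) (hn0 : (h8nWU D hB w0 : GL D.Idx K) ∈ G1)

include T in
/-- a Weyl group element commuting with the twist sends the simple roots of an orbit to roots
of the same sign -/
theorem h8ay_orbit_sign (w : Equiv.Perm (Fin D.nroots)) (hw : ρ * w * ρ⁻¹ = w)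
    (J : List (Fin D.rank)) (hJ : J ∈ orbs) (j j' : Fin D.rank) (hj : j ∈ J) (hj' : j' ∈ J) :
    D.IsPosRoot (w (h8simF D hBN j)).val ↔ D.IsPosRoot (w (h8simF D hBN j')).val := by
  obtain ⟨i, hi⟩ := T.orb_trans J hJ j hj j' hj'
  rw [← hi, h8tw_rho_iter D hA hBN ρ πF orbs T w hw j i, h8tw_rho_pow_pos D hA hBN ρ πF orbs T]

/-- conjugating the simple root subgroups of a list of nodes by an element of `N` -/
theorem h8ay_conj_closure (m : GL D.Idx K) (hm : m ∈ D.monomialSubgroup K)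
    (J : List (Fin D.rank)) (S : Subgroup (GL D.Idx K))
    (hS : ∀ j ∈ J, ∀ t : K,
      h8xU D hB ((h8Pi D hB hA hBN hW hO2 ⟨m, hm⟩) (h8simF D hBN j)).val t ∈ S)
    (x : GL D.Idx K) (hx : x ∈ Subgroup.closure {g : GL D.Idx K |
      ∃ j ∈ J, ∃ t : K, g = h8xU D hB (D.simple j.val) t}) : m * x * m⁻¹ ∈ S := by
  induction hx using Subgroup.closure_induction with
  | mem y hy =>
    obtain ⟨j, hj, t, rfl⟩ := hy
    obtain ⟨c, _, hc⟩ := h8Pi_act D hB hA hBN hW hO2 ⟨m, hm⟩ (h8simF D hBN j)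
    have := hc t
    rw [show (h8simF D hBN j).val = D.simple j.val from rfl] at this
    rw [this]
    exact hS j hj _
  | one =>
    have : m * (1 : GL D.Idx K) * m⁻¹ = 1 := by group
    rw [this]
    exact Subgroup.one_mem _
  | mul a b _ _ ha hb =>
    have : m * (a * b) * m⁻¹ = (m * a * m⁻¹) * (m * b * m⁻¹) := by group
    rw [this]
    exact Subgroup.mul_mem _ ha hb
  | inv a _ ha =>
    have : m * a⁻¹ * m⁻¹ = (m * a * m⁻¹)⁻¹ := by group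
    rw [this]
    exact Subgroup.inv_mem _ ha

include hBN in
theorem h8ay_closure_le_U (J : List (Fin D.rank)) :
    Subgroup.closure {g : GL D.Idx K | ∃ j ∈ J, ∃ t : K, g = h8xU D hB (D.simple j.val) t} ≤
      D.posUnipotent K := by
  rw [Subgroup.closure_le]
  rintro g ⟨j, _, t, rfl⟩
  exact h8xU_mem_U D hB _ (h8simple_pos D hBN j.val j.2) t

include hB0 hA hBN hW hO2 hρ T hfix hxJ in
/-- an element of `N ∩ G¹` mapping `U ∩ G¹` into `U` lies in `H` -/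
theorem h8ay_N_fix (m : GL D.Idx K) (hm : m ∈ D.monomialSubgroup K) (hm1 : m ∈ G1)
    (h : ∀ x ∈ D.posUnipotent K ⊓ G1, m * x * m⁻¹ ∈ D.posUnipotent K) :
    m ∈ D.diagonalSubgroup K := by
  have hcomm := h8tw_Pi_comm D hB hA hBN hW hO2 σ τ π ϖ η hAut f ρ hρ m hm (hfix m hm1)
  set w := h8Pi D hB hA hBN hW hO2 ⟨m, hm⟩ with hwdef
  have hpos : ∀ i : Fin D.rank, D.IsPosRoot (w (h8simF D hBN i)).val := by
    intro i
    by_contra hnp
    obtain ⟨J, hJ, hiJ⟩ := T.orb_cover i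
    obtain ⟨x, hx1, hxne, hxc⟩ := hxJ J hJ
    have hneg : ∀ j ∈ J, D.IsNegRoot (w (h8simF D hBN j)).val := by
      intro j hj
      rcases hB.posneg _ (w (h8simF D hBN j)).2 with hp | hn
      · exact absurd ((h8ay_orbit_sign D hA hBN ρ πF orbs T w hcomm J hJ j i hj hiJ).mp hp) hnp
      · exact hn
    have h1 : m * x * m⁻¹ ∈ D.negUnipotent K :=
      h8ay_conj_closure D hB hA hBN hW hO2 m hm J _
        (fun j hj t => h8xU_mem_V D hB _ (hneg j hj) t) x hxc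
    have h2 : m * x * m⁻¹ ∈ D.posUnipotent K :=
      h x ⟨h8ay_closure_le_U D hB hBN J hxc, hx1⟩
    have h3 : m * x * m⁻¹ ∈ D.borelSubgroup K ⊓ D.negUnipotent K := ⟨h8U_le_B D h2, h1⟩
    rw [h8_B_inf_V D hB hBN.negOK, Subgroup.mem_bot] at h3
    apply hxne
    have : x = m⁻¹ * (m * x * m⁻¹) * m := by group
    rw [this, h3]
    group
  have hw1 : w = 1 :=
    h8W_simple_pos D hB0 hA hBN hW hO2 w (h8Pi_mem_W D hB hA hBN hW hO2 ⟨m, hm⟩) hpos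
  exact h8Pi_ker D hB hA hBN hW hO2 ⟨m, hm⟩ hw1

include hB0 hA hBN hW hO2 hρ T hfix hxJ hw0 in
/-- an element of `N ∩ G¹` whose conjugate of `U ∩ G¹` meets `U` trivially maps `U` to `V` -/
theorem h8ay_N_opp (m : GL D.Idx K) (hm : m ∈ D.monomialSubgroup K) (hm1 : m ∈ G1)
    (h : ∀ x ∈ D.posUnipotent K ⊓ G1, m * x * m⁻¹ ∈ D.posUnipotent K → x = 1) :
    (D.posUnipotent K).map (MulAut.conj m).toMonoidHom = D.negUnipotent K := by
  obtain ⟨hw0r, _, hw0n, _⟩ := h8w0Chk_spec D hA w0 hw0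
  have hcomm := h8tw_Pi_comm D hB hA hBN hW hO2 σ τ π ϖ η hAut f ρ hρ m hm (hfix m hm1)
  set w := h8Pi D hB hA hBN hW hO2 ⟨m, hm⟩ with hwdef
  have hneg : ∀ i : Fin D.rank, D.IsNegRoot (w (h8simF D hBN i)).val := by
    intro i
    rcases hB.posneg _ (w (h8simF D hBN i)).2 with hp | hn
    · exfalso
      obtain ⟨J, hJ, hiJ⟩ := T.orb_cover i
      obtain ⟨x, hx1, hxne, hxc⟩ := hxJ J hJ
      have hpos : ∀ j ∈ J, D.IsPosRoot (w (h8simF D hBN j)).val := fun j hj =>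
        (h8ay_orbit_sign D hA hBN ρ πF orbs T w hcomm J hJ i j hiJ hj).mp hp
      have h1 : m * x * m⁻¹ ∈ D.posUnipotent K :=
        h8ay_conj_closure D hB hA hBN hW hO2 m hm J _
          (fun j hj t => h8xU_mem_U D hB _ (hpos j hj) t) x hxc
      exact hxne (h x ⟨h8ay_closure_le_U D hB hBN J hxc, hx1⟩ h1)
    · exact hn
  have hwr : ∀ i ∈ w0.reverse, i < D.rank := fun i hi => hw0r i (List.mem_reverse.mp hi)
  have hv : (h8wPerm D hA w0)⁻¹ * w = 1 := by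
    apply h8W_simple_pos D hB0 hA hBN hW hO2
    · apply Subgroup.mul_mem _ (Subgroup.inv_mem _ _) (h8Pi_mem_W D hB hA hBN hW hO2 ⟨m, hm⟩)
      rw [h8W_mem_iff]
      exact ⟨w0, hw0r, rfl⟩
    · intro i
      rw [Equiv.Perm.mul_apply, h8wPerm_inv, h8wPerm_val D hA _ hwr]
      exact hw0n _ (hneg i)
  have hw : w = h8wPerm D hA w0 := by
    have : w = h8wPerm D hA w0 * ((h8wPerm D hA w0)⁻¹ * w) := by group
    rw [this, hv, mul_one]
  have hn0N : (h8nWU D hB w0 : GL D.Idx K) ∈ D.monomialSubgroup K := h8nWU_mem_N D hB hA w0 hw0r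
  have ht : (h8nWU D hB w0 : GL D.Idx K)⁻¹ * m ∈ D.diagonalSubgroup K := by
    have hmem : (h8nWU D hB w0 : GL D.Idx K)⁻¹ * m ∈ D.monomialSubgroup K :=
      Subgroup.mul_mem _ (Subgroup.inv_mem _ hn0N) hm
    have e : (⟨(h8nWU D hB w0 : GL D.Idx K)⁻¹ * m, hmem⟩ : ↥(D.monomialSubgroup K)) =
        (⟨h8nWU D hB w0, hn0N⟩ : ↥(D.monomialSubgroup K))⁻¹ * ⟨m, hm⟩ := rfl
    apply h8Pi_ker D hB hA hBN hW hO2 ⟨_, hmem⟩
    rw [e, map_mul, map_inv, h8Pi_nWU D hB hA hBN hW hO2 w0 hw0r, ← hwdef, hw]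
    group
  have e : m = h8nWU D hB w0 * ((h8nWU D hB w0 : GL D.Idx K)⁻¹ * m) := by group
  rw [e, ← h8au_map_conj_conj,
    h8map_conj_normalizer _ _ (h8_H_le_normalizer_U D hB ht), h8_conj_U_eq_V D hB hA w0 hw0]

include hB0 hA hC hBN hW hO hO2 hρ T hσpos hG1 hfix hUfix hxJ hw0 in
/-- a conjugate of `U ∩ G¹` in `G¹` meeting `U ∩ G¹` trivially is a `U ∩ G¹`-conjugate of
`V ∩ G¹` -/
theorem h8ay_d (z : GL D.Idx K) (hz : z ∈ G1)
    (h : (D.posUnipotent K ⊓ G1).map (MulAut.conj z).toMonoidHom ⊓ (D.posUnipotent K ⊓ G1) = ⊥) :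
    ∃ u ∈ D.posUnipotent K ⊓ G1, (D.posUnipotent K ⊓ G1).map (MulAut.conj z).toMonoidHom =
      (D.negUnipotent K ⊓ G1).map (MulAut.conj u).toMonoidHom := by
  obtain ⟨u1, hu1, m, hm, u2, hu2, hu21, rfl⟩ := h8tw_normal_G1 D hB hA hC hBN hW hO hO2
    σ τ π ϖ η hAut f hσpos G1 hG1 hfix hUfix z hz
  have hu2' : u2 ∈ D.posUnipotent K ⊓ G1 := ⟨h8Um_le_U D m hu2, hu21⟩
  have e1 : (D.posUnipotent K ⊓ G1).map (MulAut.conj (u1 * m * u2)).toMonoidHom =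
      ((D.posUnipotent K ⊓ G1).map (MulAut.conj m).toMonoidHom).map
        (MulAut.conj u1).toMonoidHom := by
    have : u1 * m * u2 = u1 * (m * u2) := by group
    rw [this, ← h8au_map_conj_conj, ← h8au_map_conj_conj,
      h8au_map_conj_mem (D.posUnipotent K ⊓ G1) u2 hu2']
  rw [e1] at h ⊢
  have hopp : (D.posUnipotent K).map (MulAut.conj m).toMonoidHom = D.negUnipotent K := by
    apply h8ay_N_opp D hB hB0 hA hBN hW hO2 σ τ π ϖ η hAut f ρ hρ πF orbs T G1 hfix hxJ w0 hw0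
      m hm.1 hm.2
    intro x hx hmx
    have hmem : u1 * (m * x * m⁻¹) * u1⁻¹ ∈
        ((D.posUnipotent K ⊓ G1).map (MulAut.conj m).toMonoidHom).map
          (MulAut.conj u1).toMonoidHom ⊓ (D.posUnipotent K ⊓ G1) := by
      refine ⟨⟨m * x * m⁻¹, ⟨x, hx, rfl⟩, rfl⟩, ?_, ?_⟩
      · exact Subgroup.mul_mem _ (Subgroup.mul_mem _ hu1.1 hmx) (Subgroup.inv_mem _ hu1.1)
      · exact Subgroup.mul_mem _ (Subgroup.mul_mem _ hu1.2 (Subgroup.mul_mem _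
          (Subgroup.mul_mem _ hm.2 hx.2) (Subgroup.inv_mem _ hm.2))) (Subgroup.inv_mem _ hu1.2)
    rw [h, Subgroup.mem_bot] at hmem
    have : x = m⁻¹ * (u1⁻¹ * (u1 * (m * x * m⁻¹) * u1⁻¹) * u1) * m := by group
    rw [this, hmem]
    group
  refine ⟨u1, hu1, ?_⟩
  congr 1
  ext y
  constructor
  · rintro ⟨x, hx, rfl⟩
    refine ⟨?_, Subgroup.mul_mem _ (Subgroup.mul_mem _ hm.2 hx.2) (Subgroup.inv_mem _ hm.2)⟩
    rw [← hopp]
    exact ⟨x, hx.1, rfl⟩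
  · rintro ⟨hy1, hy2⟩
    rw [← hopp] at hy1
    obtain ⟨x, hx, rfl⟩ := hy1
    refine ⟨x, ⟨hx, ?_⟩, rfl⟩
    have : x = m⁻¹ * ((MulAut.conj m).toMonoidHom x) * m := by
      show x = m⁻¹ * (m * x * m⁻¹) * m
      group
    rw [this]
    exact Subgroup.mul_mem _ (Subgroup.mul_mem _ (Subgroup.inv_mem _ hm.2) hy2) hm.2

include hB0 hA hC hBN hW hO hO2 hρ T hσpos hG1 hfix hUfix hxJ hw0 hn0 in
/-- an element of `G¹` normalizing `U ∩ G¹` and `V ∩ G¹` lies in `H` -/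
theorem h8ay_inner (x : GL D.Idx K) (hx : x ∈ G1)
    (hU : (D.posUnipotent K ⊓ G1).map (MulAut.conj x).toMonoidHom = D.posUnipotent K ⊓ G1)
    (hV : (D.negUnipotent K ⊓ G1).map (MulAut.conj x).toMonoidHom = D.negUnipotent K ⊓ G1) :
    x ∈ D.diagonalSubgroup K := by
  obtain ⟨hw0r, _, _, _⟩ := h8w0Chk_spec D hA w0 hw0
  -- first part: normalizing `U ∩ G¹` forces membership in `B`
  have key : ∀ y ∈ G1, (D.posUnipotent K ⊓ G1).map (MulAut.conj y).toMonoidHom =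
      D.posUnipotent K ⊓ G1 → y ∈ D.borelSubgroup K := by
    intro y hy hyU
    obtain ⟨u1, hu1, m, hm, u2, hu2, hu21, rfl⟩ := h8tw_normal_G1 D hB hA hC hBN hW hO hO2
      σ τ π ϖ η hAut f hσpos G1 hG1 hfix hUfix y hy
    have hu2' : u2 ∈ D.posUnipotent K ⊓ G1 := ⟨h8Um_le_U D m hu2, hu21⟩
    have hmH : m ∈ D.diagonalSubgroup K := by
      apply h8ay_N_fix D hB hB0 hA hBN hW hO2 σ τ π ϖ η hAut f ρ hρ πF orbs T G1 hfix hxJ
        m hm.1 hm.2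
      intro z hz
      have h1 : u1 * m * u2 * (u2⁻¹ * z * u2) * (u1 * m * u2)⁻¹ ∈ D.posUnipotent K ⊓ G1 := by
        rw [← hyU]
        exact ⟨u2⁻¹ * z * u2, Subgroup.mul_mem _ (Subgroup.mul_mem _
          (Subgroup.inv_mem _ hu2') hz) hu2', rfl⟩
      have e : m * z * m⁻¹ =
          u1⁻¹ * (u1 * m * u2 * (u2⁻¹ * z * u2) * (u1 * m * u2)⁻¹) * u1 := by group
      rw [e]
      exact Subgroup.mul_mem _ (Subgroup.mul_mem _ (Subgroup.inv_mem _ hu1.1) h1.1) hu1.1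
    exact Subgroup.mul_mem _ (Subgroup.mul_mem _ (h8U_le_B D hu1.1) (h8H_le_B D hmH))
      (h8U_le_B D hu2'.1)
  have hxB := key x hx hU
  set n0 : GL D.Idx K := h8nWU D hB w0 with hn0def
  have hconj := h8_conj_U_eq_V (F := K) D hB hA w0 hw0
  -- the conjugate by `n0`
  have hUV1 : (D.posUnipotent K ⊓ G1).map (MulAut.conj n0).toMonoidHom =
      D.negUnipotent K ⊓ G1 := by
    ext y
    constructor
    · rintro ⟨z, hz, rfl⟩
      refine ⟨?_, Subgroup.mul_mem _ (Subgroup.mul_mem _ hn0 hz.2) (Subgroup.inv_mem _ hn0)⟩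
      rw [← hconj]
      exact ⟨z, hz.1, rfl⟩
    · rintro ⟨hy1, hy2⟩
      rw [← hconj] at hy1
      obtain ⟨z, hz, rfl⟩ := hy1
      refine ⟨z, ⟨hz, ?_⟩, rfl⟩
      have : z = n0⁻¹ * ((MulAut.conj n0).toMonoidHom z) * n0 := by
        show z = n0⁻¹ * (n0 * z * n0⁻¹) * n0
        group
      rw [this]
      exact Subgroup.mul_mem _ (Subgroup.mul_mem _ (Subgroup.inv_mem _ hn0) hy2) hn0
  have hx' : n0⁻¹ * x * n0 ∈ D.borelSubgroup K := by
    apply key _ (Subgroup.mul_mem _ (Subgroup.mul_mem _ (Subgroup.inv_mem _ hn0) hx) hn0)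
    have e : n0⁻¹ * x * n0 = n0⁻¹ * (x * n0) := by group
    rw [e, ← h8au_map_conj_conj, ← h8au_map_conj_conj, hUV1, hV, ← hUV1, h8au_map_conj_conj,
      inv_mul_cancel, h8au_map_conj_one]
  have h3 : x ∈ (D.borelSubgroup K).map (MulAut.conj n0).toMonoidHom := by
    refine ⟨n0⁻¹ * x * n0, hx', ?_⟩
    show n0 * (n0⁻¹ * x * n0) * n0⁻¹ = x
    group
  have h4 : (D.borelSubgroup K).map (MulAut.conj n0).toMonoidHom =
      D.negUnipotent K ⊔ D.diagonalSubgroup K := by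
    unfold ChevalleyDatum.borelSubgroup
    rw [Subgroup.map_sup, hconj,
      h8map_conj_normalizer _ _ (h8nWU_mem_normalizer_H D hB hA w0 hw0r)]
  rw [h4] at h3
  have h5 : x ∈ D.borelSubgroup K ⊓ (D.negUnipotent K ⊔ D.diagonalSubgroup K) := ⟨hxB, h3⟩
  rwa [h8_B_inf_VH D hB hBN.negOK] at h5

end

end Cfsg.Agent.Lib.helper8
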