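import Mathlib
import Cfsg.Prelude.Def_ChevStructure
import Cfsg.Agent.Lib.helper8.ChevTwC2
import Cfsg.Agent.Lib.helper8.ChevSLP2
import Cfsg.Agent.Lib.helper8.ChevAY2

set_option autoImplicit false

namespace Cfsg.Agent.Lib.helper8

open Cfsg.Lie Cfsg.Lie.ChevalleyDatum

universe u

variable {K : Type u} [Field K]

/-- elements of the closures of two elementwise commuting sets commute -/
theorem h8ay_closure_commute {G : Type*} [Group G] (S T : Set G)
    (h : ∀ a ∈ S, ∀ b ∈ T, Commute a b) :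
    ∀ a ∈ Subgroup.closure S, ∀ b ∈ Subgroup.closure T, Commute a b := by
  have h1 : ∀ a ∈ S, ∀ b ∈ Subgroup.closure T, Commute a b := by
    intro a ha b hb
    induction hb using Subgroup.closure_induction with
    | mem y hy => exact h a ha y hy
    | one => exact Commute.one_right a
    | mul y z _ _ hy hz => exact hy.mul_right hz
    | inv y _ hy => exact hy.inv_right
  intro a ha b hb
  induction ha using Subgroup.closure_induction with
  | mem y hy => exact h1 y hy b hb
  | one => exact Commute.one_left b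
  | mul y z _ _ hy hz => exact hy.mul_left hz
  | inv y _ hy => exact hy.inv_left

/-- the simple roots of the nodes of a list are mutually orthogonal with commuting root
subgroups (all sign combinations) -/
def H8AyOrth (D : ChevalleyDatum) (L : List ℕ) : Prop :=
  L.Pairwise fun j k => ∀ r ∈ [D.simple j, D.negIdx.getD (D.simple j) 0],
    ∀ s ∈ [D.simple k, D.negIdx.getD (D.simple k) 0],
      D.commTerms r s = [] ∧ s ≠ r ∧ s ≠ D.negIdx.getD r 0

instance (D : ChevalleyDatum) (L : List ℕ) : Decidable (H8AyOrth D L) := by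
  unfold H8AyOrth
  infer_instance

section
variable (D : ChevalleyDatum) (hB : H8Base.{u} D) (f : K ≃+* K)

/-- the product of the positive simple root elements along a list of nodes, with parameters
`s, f s, f (f s), …` -/
def h8ayXp : List ℕ → K → GL D.Idx K
  | [], _ => 1
  | j :: L, s => h8xU D hB (D.simple j) s * h8ayXp L (f s)

/-- the product of the negative simple root elements along a list of nodes -/
def h8ayXm : List ℕ → K → GL D.Idx K
  | [], _ => 1
  | j :: L, s => h8xU D hB (D.negIdx.getD (D.simple j) 0) s * h8ayXm L (f s)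

/-- the product of the torus elements along a list of nodes -/
def h8ayHH : List ℕ → K → GL D.Idx K
  | [], _ => 1
  | j :: L, s => h8hU D hB (D.simple j) s * h8ayHH L (f s)

/-- the subgroup generated by the root subgroups `X_{±p_j}`, `j ∈ L` -/
def h8ayLL (L : List ℕ) : Subgroup (GL D.Idx K) :=
  Subgroup.closure {g | ∃ j ∈ L, ∃ t : K, g = h8xU D hB (D.simple j) t ∨
    g = h8xU D hB (D.negIdx.getD (D.simple j) 0) t}

theorem h8ayLL_mono (L L' : List ℕ) (h : ∀ j ∈ L, j ∈ L') : h8ayLL (K := K) D hB L ≤ h8ayLL D hB L' := by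
  apply Subgroup.closure_mono
  rintro g ⟨j, hj, t, hg⟩
  exact ⟨j, h j hj, t, hg⟩

theorem h8ayLL_xp (L : List ℕ) (j : ℕ) (hj : j ∈ L) (t : K) :
    h8xU D hB (D.simple j) t ∈ h8ayLL D hB L :=
  Subgroup.subset_closure ⟨j, hj, t, Or.inl rfl⟩

theorem h8ayLL_xm (L : List ℕ) (j : ℕ) (hj : j ∈ L) (t : K) :
    h8xU D hB (D.negIdx.getD (D.simple j) 0) t ∈ h8ayLL D hB L :=
  Subgroup.subset_closure ⟨j, hj, t, Or.inr rfl⟩

theorem h8ayLL_n (L : List ℕ) (j : ℕ) (hj : j ∈ L) (t : K) :
    h8nU D hB (D.simple j) t ∈ h8ayLL D hB L := by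
  rw [h8nU_eq]
  exact Subgroup.mul_mem _ (Subgroup.mul_mem _ (h8ayLL_xp D hB L j hj _)
    (h8ayLL_xm D hB L j hj _)) (h8ayLL_xp D hB L j hj _)

theorem h8ayLL_h (L : List ℕ) (j : ℕ) (hj : j ∈ L) (t : K) :
    h8hU D hB (D.simple j) t ∈ h8ayLL D hB L := by
  rw [h8hU_eq_nn]
  exact Subgroup.mul_mem _ (h8ayLL_n D hB L j hj _) (Subgroup.inv_mem _ (h8ayLL_n D hB L j hj _))

theorem h8ayXp_mem_LL (L : List ℕ) : ∀ s : K, h8ayXp D hB f L s ∈ h8ayLL D hB L := by
  induction L with
  | nil => intro s; exact Subgroup.one_mem _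
  | cons j L ih =>
    intro s
    exact Subgroup.mul_mem _ (h8ayLL_xp D hB _ j List.mem_cons_self s)
      (h8ayLL_mono D hB L _ (fun k hk => List.mem_cons_of_mem _ hk) (ih (f s)))

theorem h8ayXm_mem_LL (L : List ℕ) : ∀ s : K, h8ayXm D hB f L s ∈ h8ayLL D hB L := by
  induction L with
  | nil => intro s; exact Subgroup.one_mem _
  | cons j L ih =>
    intro s
    exact Subgroup.mul_mem _ (h8ayLL_xm D hB _ j List.mem_cons_self s)
      (h8ayLL_mono D hB L _ (fun k hk => List.mem_cons_of_mem _ hk) (ih (f s)))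

theorem h8ayHH_mem_LL (L : List ℕ) : ∀ s : K, h8ayHH D hB f L s ∈ h8ayLL D hB L := by
  induction L with
  | nil => intro s; exact Subgroup.one_mem _
  | cons j L ih =>
    intro s
    exact Subgroup.mul_mem _ (h8ayLL_h D hB _ j List.mem_cons_self s)
      (h8ayLL_mono D hB L _ (fun k hk => List.mem_cons_of_mem _ hk) (ih (f s)))

theorem h8ay_nWU_mem_LL (L : List ℕ) : (h8nWU D hB L : GL D.Idx K) ∈ h8ayLL D hB L := by
  induction L with
  | nil => exact Subgroup.one_mem _
  | cons j L ih =>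
    rw [h8nWU_cons]
    exact Subgroup.mul_mem _ (h8ayLL_n D hB _ j List.mem_cons_self 1)
      (h8ayLL_mono D hB L _ (fun k hk => List.mem_cons_of_mem _ hk) ih)

variable (hC : H8CommAll.{u} D) (hBN : H8BN D) (hW : H8BN2 D)

include hC hBN hW in
/-- the component of the head of an orthogonal list commutes with the components of the tail -/
theorem h8ayLL_comm (j : ℕ) (L : List ℕ) (hL : ∀ k ∈ j :: L, k < D.rank)
    (horth : H8AyOrth D (j :: L)) :
    ∀ a ∈ h8ayLL (K := K) D hB [j], ∀ b ∈ h8ayLL (K := K) D hB L, Commute a b := by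
  unfold H8AyOrth at horth
  rw [List.pairwise_cons] at horth
  apply h8ay_closure_commute
  rintro a ⟨j', hj', t, ha⟩ b ⟨k, hk, u, hb⟩
  rw [List.mem_singleton] at hj'
  subst hj'
  have hpj := h8simple_pos D hBN j' (hL j' List.mem_cons_self)
  have hpk := h8simple_pos D hBN k (hL k (List.mem_cons_of_mem _ hk))
  have key : ∀ r ∈ [D.simple j', D.negIdx.getD (D.simple j') 0],
      ∀ s ∈ [D.simple k, D.negIdx.getD (D.simple k) 0], ∀ t u : K,
        Commute (h8xU D hB r t) (h8xU D hB s u) := by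
    intro r hr s hs t u
    obtain ⟨h1, h2, h3⟩ := horth.1 k hk r hr s hs
    have hr' : r < D.nroots := by
      simp only [List.mem_cons, List.not_mem_nil, or_false] at hr
      rcases hr with rfl | rfl
      · exact hpj.1
      · exact hW.neglt _ hpj.1
    have hs' : s < D.nroots := by
      simp only [List.mem_cons, List.not_mem_nil, or_false] at hs
      rcases hs with rfl | rfl
      · exact hpk.1
      · exact hW.neglt _ hpk.1
    exact h8xU_commute D hB hC r s hr' hs' h2 h3 h1 t u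
  rcases ha with rfl | rfl <;> rcases hb with rfl | rfl
  · exact key _ (by simp) _ (by simp) t u
  · exact key _ (by simp) _ (by simp) t u
  · exact key _ (by simp) _ (by simp) t u
  · exact key _ (by simp) _ (by simp) t u

theorem h8ayOrth_tail (j : ℕ) (L : List ℕ) (h : H8AyOrth D (j :: L)) : H8AyOrth D L := by
  unfold H8AyOrth at h ⊢
  exact (List.pairwise_cons.mp h).2

include hC hBN hW in
theorem h8ayXp_add (L : List ℕ) (hL : ∀ k ∈ L, k < D.rank) (horth : H8AyOrth D L) :
    ∀ s s' : K, h8ayXp D hB f L s * h8ayXp D hB f L s' = h8ayXp D hB f L (s + s') := by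
  induction L with
  | nil => intro s s'; exact one_mul 1
  | cons j L ih =>
    intro s s'
    have hL' : ∀ k ∈ L, k < D.rank := fun k hk => hL k (List.mem_cons_of_mem _ hk)
    have hpj := h8simple_pos D hBN j (hL j List.mem_cons_self)
    have hc := h8ayLL_comm D hB hC hBN hW j L hL horth _
      (h8ayLL_xp D hB [j] j List.mem_cons_self s') _ (h8ayXp_mem_LL D hB f L (f s))
    show h8xU D hB (D.simple j) s * h8ayXp D hB f L (f s) *
      (h8xU D hB (D.simple j) s' * h8ayXp D hB f L (f s')) =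
      h8xU D hB (D.simple j) (s + s') * h8ayXp D hB f L (f (s + s'))
    rw [map_add, ← ih hL' (h8ayOrth_tail D j L horth), ← h8xU_add D hB _ hpj.1]
    calc h8xU D hB (D.simple j) s * h8ayXp D hB f L (f s) *
          (h8xU D hB (D.simple j) s' * h8ayXp D hB f L (f s'))
        = h8xU D hB (D.simple j) s * (h8ayXp D hB f L (f s) * h8xU D hB (D.simple j) s') *
          h8ayXp D hB f L (f s') := by group
      _ = h8xU D hB (D.simple j) s * (h8xU D hB (D.simple j) s' * h8ayXp D hB f L (f s)) *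
          h8ayXp D hB f L (f s') := by rw [hc.eq]
      _ = _ := by group

include hC hBN hW in
theorem h8ayXm_add (L : List ℕ) (hL : ∀ k ∈ L, k < D.rank) (horth : H8AyOrth D L) :
    ∀ s s' : K, h8ayXm D hB f L s * h8ayXm D hB f L s' = h8ayXm D hB f L (s + s') := by
  induction L with
  | nil => intro s s'; exact one_mul 1
  | cons j L ih =>
    intro s s'
    have hL' : ∀ k ∈ L, k < D.rank := fun k hk => hL k (List.mem_cons_of_mem _ hk)
    have hpj := h8simple_pos D hBN j (hL j List.mem_cons_self)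
    have hc := h8ayLL_comm D hB hC hBN hW j L hL horth _
      (h8ayLL_xm D hB [j] j List.mem_cons_self s') _ (h8ayXm_mem_LL D hB f L (f s))
    show h8xU D hB (D.negIdx.getD (D.simple j) 0) s * h8ayXm D hB f L (f s) *
      (h8xU D hB (D.negIdx.getD (D.simple j) 0) s' * h8ayXm D hB f L (f s')) =
      h8xU D hB (D.negIdx.getD (D.simple j) 0) (s + s') * h8ayXm D hB f L (f (s + s'))
    rw [map_add, ← ih hL' (h8ayOrth_tail D j L horth), ← h8xU_add D hB _ (hW.neglt _ hpj.1)]
    calc h8xU D hB (D.negIdx.getD (D.simple j) 0) s * h8ayXm D hB f L (f s) *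
          (h8xU D hB (D.negIdx.getD (D.simple j) 0) s' * h8ayXm D hB f L (f s'))
        = h8xU D hB (D.negIdx.getD (D.simple j) 0) s *
          (h8ayXm D hB f L (f s) * h8xU D hB (D.negIdx.getD (D.simple j) 0) s') *
          h8ayXm D hB f L (f s') := by group
      _ = h8xU D hB (D.negIdx.getD (D.simple j) 0) s *
          (h8xU D hB (D.negIdx.getD (D.simple j) 0) s' * h8ayXm D hB f L (f s)) *
          h8ayXm D hB f L (f s') := by rw [hc.eq]
      _ = _ := by group

theorem h8ayXp_zero (L : List ℕ) : h8ayXp D hB f L (0 : K) = 1 := by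
  induction L with
  | nil => rfl
  | cons j L ih =>
    show h8xU D hB (D.simple j) 0 * h8ayXp D hB f L (f 0) = 1
    rw [map_zero, ih, h8xU_zero, one_mul]

theorem h8ayXm_zero (L : List ℕ) : h8ayXm D hB f L (0 : K) = 1 := by
  induction L with
  | nil => rfl
  | cons j L ih =>
    show h8xU D hB (D.negIdx.getD (D.simple j) 0) 0 * h8ayXm D hB f L (f 0) = 1
    rw [map_zero, ih, h8xU_zero, one_mul]

include hC hBN hW in
theorem h8ayXp_neg (L : List ℕ) (hL : ∀ k ∈ L, k < D.rank) (horth : H8AyOrth D L) (s : K) :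
    h8ayXp D hB f L (-s) = (h8ayXp D hB f L s)⁻¹ := by
  apply eq_inv_of_mul_eq_one_left
  rw [h8ayXp_add D hB f hC hBN hW L hL horth, neg_add_cancel, h8ayXp_zero]

include hC hBN hW in
theorem h8ayXm_neg (L : List ℕ) (hL : ∀ k ∈ L, k < D.rank) (horth : H8AyOrth D L) (s : K) :
    h8ayXm D hB f L (-s) = (h8ayXm D hB f L s)⁻¹ := by
  apply eq_inv_of_mul_eq_one_left
  rw [h8ayXm_add D hB f hC hBN hW L hL horth, neg_add_cancel, h8ayXm_zero]

include hC hBN hW in
/-- the `SL₂`-relation for the orbit products -/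
theorem h8ay_W (L : List ℕ) (hL : ∀ k ∈ L, k < D.rank) (horth : H8AyOrth D L) :
    ∀ s : K, h8ayXp D hB f L s * h8ayXm D hB f L (-s⁻¹) * h8ayXp D hB f L s =
      h8ayHH D hB f L s * h8nWU D hB L := by
  induction L with
  | nil => intro s; show (1 : GL D.Idx K) * 1 * 1 = 1 * 1; group
  | cons j L ih =>
    intro s
    have hL' : ∀ k ∈ L, k < D.rank := fun k hk => hL k (List.mem_cons_of_mem _ hk)
    have hcomm := h8ayLL_comm (K := K) D hB hC hBN hW j L hL horth
    have hjm := h8ayLL_xm (K := K) D hB [j] j List.mem_cons_self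
    have hjp := h8ayLL_xp (K := K) D hB [j] j List.mem_cons_self
    have hjn := h8ayLL_n (K := K) D hB [j] j List.mem_cons_self
    have c1 := hcomm _ (hjm (-s⁻¹)) _ (h8ayXp_mem_LL D hB f L (f s))
    have c2 := hcomm _ (hjp s) _ (h8ayXp_mem_LL D hB f L (f s))
    have c3 := hcomm _ (hjp s) _ (h8ayXm_mem_LL D hB f L (f (-s⁻¹)))
    have c4 := hcomm _ (hjn 1) _ (h8ayHH_mem_LL D hB f L (f s))
    have e := ih hL' (h8ayOrth_tail D j L horth) (f s)
    have e' : f (-s⁻¹) = -(f s)⁻¹ := by rw [map_neg, map_inv₀]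
    show h8xU D hB (D.simple j) s * h8ayXp D hB f L (f s) *
        (h8xU D hB (D.negIdx.getD (D.simple j) 0) (-s⁻¹) * h8ayXm D hB f L (f (-s⁻¹))) *
        (h8xU D hB (D.simple j) s * h8ayXp D hB f L (f s)) =
      h8hU D hB (D.simple j) s * h8ayHH D hB f L (f s) * h8nWU D hB (j :: L)
    rw [h8nWU_cons]
    calc h8xU D hB (D.simple j) s * h8ayXp D hB f L (f s) *
          (h8xU D hB (D.negIdx.getD (D.simple j) 0) (-s⁻¹) * h8ayXm D hB f L (f (-s⁻¹))) *
          (h8xU D hB (D.simple j) s * h8ayXp D hB f L (f s))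
        = h8xU D hB (D.simple j) s *
          (h8ayXp D hB f L (f s) * h8xU D hB (D.negIdx.getD (D.simple j) 0) (-s⁻¹)) *
          (h8ayXm D hB f L (f (-s⁻¹)) * h8xU D hB (D.simple j) s) *
          h8ayXp D hB f L (f s) := by group
      _ = h8xU D hB (D.simple j) s *
          (h8xU D hB (D.negIdx.getD (D.simple j) 0) (-s⁻¹) * h8ayXp D hB f L (f s)) *
          (h8xU D hB (D.simple j) s * h8ayXm D hB f L (f (-s⁻¹))) *
          h8ayXp D hB f L (f s) := by rw [c1.eq, c3.eq]
      _ = h8xU D hB (D.simple j) s * h8xU D hB (D.negIdx.getD (D.simple j) 0) (-s⁻¹) *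
          (h8ayXp D hB f L (f s) * h8xU D hB (D.simple j) s) *
          h8ayXm D hB f L (f (-s⁻¹)) * h8ayXp D hB f L (f s) := by group
      _ = h8xU D hB (D.simple j) s * h8xU D hB (D.negIdx.getD (D.simple j) 0) (-s⁻¹) *
          (h8xU D hB (D.simple j) s * h8ayXp D hB f L (f s)) *
          h8ayXm D hB f L (f (-s⁻¹)) * h8ayXp D hB f L (f s) := by rw [c2.eq]
      _ = (h8xU D hB (D.simple j) s * h8xU D hB (D.negIdx.getD (D.simple j) 0) (-s⁻¹) *
          h8xU D hB (D.simple j) s) * (h8ayXp D hB f L (f s) *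
          h8ayXm D hB f L (-(f s)⁻¹) * h8ayXp D hB f L (f s)) := by rw [e']; group
      _ = h8hU D hB (D.simple j) s * h8nU D hB (D.simple j) 1 *
          (h8ayHH D hB f L (f s) * h8nWU D hB L) := by rw [e, h8slp_W]
      _ = h8hU D hB (D.simple j) s * (h8nU D hB (D.simple j) 1 * h8ayHH D hB f L (f s)) *
          h8nWU D hB L := by group
      _ = h8hU D hB (D.simple j) s * (h8ayHH D hB f L (f s) * h8nU D hB (D.simple j) 1) *
          h8nWU D hB L := by rw [c4.eq]
      _ = _ := by group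

variable (hA : H8ReflAll D) (hsc : h8scChk D = true)

include hC hBN hW hA hsc in
/-- conjugation by the orbit representative of the Weyl group swaps the orbit products -/
theorem h8ay_nXp (L : List ℕ) (hL : ∀ k ∈ L, k < D.rank) (horth : H8AyOrth D L) :
    ∀ s : K, h8nWU D hB L * h8ayXp D hB f L s * (h8nWU D hB L)⁻¹ = h8ayXm D hB f L (-s) := by
  induction L with
  | nil => intro s; show (1 : GL D.Idx K) * 1 * 1⁻¹ = 1; group
  | cons j L ih =>
    intro s
    have hL' : ∀ k ∈ L, k < D.rank := fun k hk => hL k (List.mem_cons_of_mem _ hk)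
    have hcomm := h8ayLL_comm (K := K) D hB hC hBN hW j L hL horth
    have c1 := hcomm _ (h8ayLL_xp (K := K) D hB [j] j List.mem_cons_self s) _
      (h8ay_nWU_mem_LL D hB L)
    have c2 := hcomm _ (h8ayLL_n (K := K) D hB [j] j List.mem_cons_self 1) _
      (h8ayXp_mem_LL D hB f L (f s))
    have c3 := hcomm _ (h8ayLL_n (K := K) D hB [j] j List.mem_cons_self 1) _
      (h8ay_nWU_mem_LL D hB L)
    have e := ih hL' (h8ayOrth_tail D j L horth) (f s)
    have ew := h8slp_wX (F := K) D hB hA hsc j (hL j List.mem_cons_self) s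
    show h8nWU D hB (j :: L) * (h8xU D hB (D.simple j) s * h8ayXp D hB f L (f s)) *
      (h8nWU D hB (j :: L))⁻¹ =
      h8xU D hB (D.negIdx.getD (D.simple j) 0) (-s) * h8ayXm D hB f L (f (-s))
    rw [h8nWU_cons, map_neg, ← e, ← ew]
    have e1 : h8nU D hB (D.simple j) 1 * h8nWU D hB L *
        (h8xU D hB (D.simple j) s * h8ayXp D hB f L (f s)) *
        (h8nU D hB (D.simple j) 1 * h8nWU D hB L)⁻¹ =
        h8nU D hB (D.simple j) 1 * (h8nWU D hB L * h8xU D hB (D.simple j) s) *
        h8ayXp D hB f L (f s) * (h8nWU D hB L)⁻¹ * (h8nU D hB (D.simple j) 1)⁻¹ := by group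
    rw [e1, ← c1.eq]
    have c2' : h8ayXp D hB f L (f s) * (h8nU D hB (D.simple j) 1)⁻¹ =
        (h8nU D hB (D.simple j) 1)⁻¹ * h8ayXp D hB f L (f s) := (c2.inv_left).eq.symm
    have c3' : (h8nWU D hB L : GL D.Idx K)⁻¹ * (h8nU D hB (D.simple j) 1)⁻¹ =
        (h8nU D hB (D.simple j) 1)⁻¹ * (h8nWU D hB L)⁻¹ := (c3.inv_left.inv_right).eq.symm
    have c3'' : h8nWU D hB L * (h8nU D hB (D.simple j) (1 : K))⁻¹ =
        (h8nU D hB (D.simple j) 1)⁻¹ * h8nWU D hB L := (c3.inv_left).eq.symm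
    calc h8nU D hB (D.simple j) 1 * (h8xU D hB (D.simple j) s * h8nWU D hB L) *
          h8ayXp D hB f L (f s) * (h8nWU D hB L)⁻¹ * (h8nU D hB (D.simple j) 1)⁻¹
        = h8nU D hB (D.simple j) 1 * h8xU D hB (D.simple j) s * h8nWU D hB L *
          h8ayXp D hB f L (f s) * ((h8nWU D hB L)⁻¹ * (h8nU D hB (D.simple j) 1)⁻¹) := by group
      _ = h8nU D hB (D.simple j) 1 * h8xU D hB (D.simple j) s * h8nWU D hB L *
          (h8ayXp D hB f L (f s) * (h8nU D hB (D.simple j) 1)⁻¹) * (h8nWU D hB L)⁻¹ := by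
        rw [c3']; group
      _ = h8nU D hB (D.simple j) 1 * h8xU D hB (D.simple j) s *
          (h8nWU D hB L * (h8nU D hB (D.simple j) 1)⁻¹) * h8ayXp D hB f L (f s) *
          (h8nWU D hB L)⁻¹ := by rw [c2']; group
      _ = _ := by rw [c3'']; group

include hC hBN hW hA hsc in
theorem h8ay_nXm (L : List ℕ) (hL : ∀ k ∈ L, k < D.rank) (horth : H8AyOrth D L) :
    ∀ s : K, h8nWU D hB L * h8ayXm D hB f L s * (h8nWU D hB L)⁻¹ = h8ayXp D hB f L (-s) := by
  induction L with
  | nil => intro s; show (1 : GL D.Idx K) * 1 * 1⁻¹ = 1; group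
  | cons j L ih =>
    intro s
    have hL' : ∀ k ∈ L, k < D.rank := fun k hk => hL k (List.mem_cons_of_mem _ hk)
    have hcomm := h8ayLL_comm (K := K) D hB hC hBN hW j L hL horth
    have c1 := hcomm _ (h8ayLL_xm (K := K) D hB [j] j List.mem_cons_self s) _
      (h8ay_nWU_mem_LL D hB L)
    have c2 := hcomm _ (h8ayLL_n (K := K) D hB [j] j List.mem_cons_self 1) _
      (h8ayXm_mem_LL D hB f L (f s))
    have c3 := hcomm _ (h8ayLL_n (K := K) D hB [j] j List.mem_cons_self 1) _
      (h8ay_nWU_mem_LL D hB L)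
    have e := ih hL' (h8ayOrth_tail D j L horth) (f s)
    have ew := h8slp_wY (F := K) D hB hA hsc j (hL j List.mem_cons_self) s
    show h8nWU D hB (j :: L) * (h8xU D hB (D.negIdx.getD (D.simple j) 0) s *
      h8ayXm D hB f L (f s)) * (h8nWU D hB (j :: L))⁻¹ =
      h8xU D hB (D.simple j) (-s) * h8ayXp D hB f L (f (-s))
    rw [h8nWU_cons, map_neg, ← e, ← ew]
    have e1 : h8nU D hB (D.simple j) 1 * h8nWU D hB L *
        (h8xU D hB (D.negIdx.getD (D.simple j) 0) s * h8ayXm D hB f L (f s)) *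
        (h8nU D hB (D.simple j) 1 * h8nWU D hB L)⁻¹ =
        h8nU D hB (D.simple j) 1 * (h8nWU D hB L * h8xU D hB (D.negIdx.getD (D.simple j) 0) s) *
        h8ayXm D hB f L (f s) * (h8nWU D hB L)⁻¹ * (h8nU D hB (D.simple j) 1)⁻¹ := by group
    rw [e1, ← c1.eq]
    have c2' : h8ayXm D hB f L (f s) * (h8nU D hB (D.simple j) 1)⁻¹ =
        (h8nU D hB (D.simple j) 1)⁻¹ * h8ayXm D hB f L (f s) := (c2.inv_left).eq.symm
    have c3' : (h8nWU D hB L : GL D.Idx K)⁻¹ * (h8nU D hB (D.simple j) 1)⁻¹ =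
        (h8nU D hB (D.simple j) 1)⁻¹ * (h8nWU D hB L)⁻¹ := (c3.inv_left.inv_right).eq.symm
    have c3'' : h8nWU D hB L * (h8nU D hB (D.simple j) (1 : K))⁻¹ =
        (h8nU D hB (D.simple j) 1)⁻¹ * h8nWU D hB L := (c3.inv_left).eq.symm
    calc h8nU D hB (D.simple j) 1 * (h8xU D hB (D.negIdx.getD (D.simple j) 0) s *
          h8nWU D hB L) * h8ayXm D hB f L (f s) * (h8nWU D hB L)⁻¹ *
          (h8nU D hB (D.simple j) 1)⁻¹
        = h8nU D hB (D.simple j) 1 * h8xU D hB (D.negIdx.getD (D.simple j) 0) s *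
          h8nWU D hB L * h8ayXm D hB f L (f s) *
          ((h8nWU D hB L)⁻¹ * (h8nU D hB (D.simple j) 1)⁻¹) := by group
      _ = h8nU D hB (D.simple j) 1 * h8xU D hB (D.negIdx.getD (D.simple j) 0) s *
          h8nWU D hB L * (h8ayXm D hB f L (f s) * (h8nU D hB (D.simple j) 1)⁻¹) *
          (h8nWU D hB L)⁻¹ := by
        rw [c3']; group
      _ = h8nU D hB (D.simple j) 1 * h8xU D hB (D.negIdx.getD (D.simple j) 0) s *
          (h8nWU D hB L * (h8nU D hB (D.simple j) 1)⁻¹) * h8ayXm D hB f L (f s) *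
          (h8nWU D hB L)⁻¹ := by rw [c2']; group
      _ = _ := by rw [c3'']; group

include hBN in
theorem h8ayHH_mem (L : List ℕ) (hL : ∀ k ∈ L, k < D.rank) :
    ∀ s : K, s ≠ 0 → h8ayHH D hB f L s ∈ D.diagonalSubgroup K := by
  induction L with
  | nil => intro s _; exact Subgroup.one_mem _
  | cons j L ih =>
    intro s hs
    have hpj := h8simple_pos D hBN j (hL j List.mem_cons_self)
    exact Subgroup.mul_mem _ (h8hU_mem_H D hB _ hpj.1 s hs)
      (ih (fun k hk => hL k (List.mem_cons_of_mem _ hk)) (f s)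
        (by rwa [Ne, map_eq_zero]))

include hBN in
theorem h8ayXp_mem_U (L : List ℕ) (hL : ∀ k ∈ L, k < D.rank) :
    ∀ s : K, h8ayXp D hB f L s ∈ D.posUnipotent K := by
  induction L with
  | nil => intro s; exact Subgroup.one_mem _
  | cons j L ih =>
    intro s
    have hpj := h8simple_pos D hBN j (hL j List.mem_cons_self)
    exact Subgroup.mul_mem _ (h8xU_mem_U D hB _ hpj s)
      (ih (fun k hk => hL k (List.mem_cons_of_mem _ hk)) (f s))

end

end Cfsg.Agent.Lib.helper8
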