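import Mathlib
import Cfsg.Prelude.Def_ChevStructure
import Cfsg.Agent.Lib.helper8.ChevAY3
import Cfsg.Agent.Lib.helper8.ChevAU9

set_option autoImplicit false

namespace Cfsg.Agent.Lib.helper8

open Cfsg.Lie Cfsg.Lie.ChevalleyDatum

universe u

variable {K : Type u} [Field K]

section
variable (D : ChevalleyDatum) (hB : H8Base.{u} D) (f : K ≃+* K)
  (hC : H8CommAll.{u} D) (hBN : H8BN D) (hW : H8BN2 D) (hO2 : H8Ord2 D)
  (hA : H8ReflAll D) (hsc : h8scChk D = true)
  (hc2 : ∀ i < D.rank, D.cartan i (D.simple i) = 2)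

include hBN hO2 in
theorem h8ayXm_mem_V (L : List ℕ) (hL : ∀ k ∈ L, k < D.rank) :
    ∀ s : K, h8ayXm D hB f L s ∈ D.negUnipotent K := by
  induction L with
  | nil => intro s; exact Subgroup.one_mem _
  | cons j L ih =>
    intro s
    have hpj := h8simple_pos D hBN j (hL j List.mem_cons_self)
    exact Subgroup.mul_mem _ (h8xU_mem_V D hB _ (h8neg_of_pos D hB hO2 _ hpj) s)
      (ih (fun k hk => hL k (List.mem_cons_of_mem _ hk)) (f s))

include hC hBN hW hO2 hA in
/-- the orbit products are injective in the parameter -/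
theorem h8ayXp_inj (L : List ℕ) (hL : ∀ k ∈ L, k < D.rank) (horth : H8AyOrth D L)
    (hne : L ≠ []) (a b : K) (h : h8ayXp D hB f L a = h8ayXp D hB f L b) : a = b := by
  have h1 : h8ayXp D hB f L (a - b) = 1 := by
    rw [sub_eq_add_neg, ← h8ayXp_add D hB f hC hBN hW L hL horth,
      h8ayXp_neg D hB f hC hBN hW L hL horth, h]
    group
  cases L with
  | nil => exact absurd rfl hne
  | cons j L =>
    have hj := hL j List.mem_cons_self
    have hL' : ∀ k ∈ L, k < D.rank := fun k hk => hL k (List.mem_cons_of_mem _ hk)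
    have hpj := h8simple_pos D hBN j hj
    set c := a - b with hc
    have h2 : h8xU D hB (D.simple j) c = (h8ayXp D hB f L (f c))⁻¹ := by
      apply eq_inv_of_mul_eq_one_left
      exact h1
    have hcomm := h8ayLL_comm (K := K) D hB hC hBN hW j L hL horth
    have c1 := hcomm _ (h8ayLL_n (K := K) D hB [j] j List.mem_cons_self 1) _
      (h8ayXp_mem_LL D hB f L (f c))
    obtain ⟨e, he, hact⟩ := h8act_nU (F := K) D hB hA j hj (D.simple j) hpj.1
    rw [h8reflectRoot_simple] at hact
    have h3 : h8xU D hB (D.negIdx.getD (D.simple j) 0) (e * c) ∈ D.posUnipotent K := by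
      rw [← hact c, h2]
      have : h8nU D hB (D.simple j) 1 * (h8ayXp D hB f L (f c))⁻¹ *
          (h8nU D hB (D.simple j) (1 : K))⁻¹ = (h8ayXp D hB f L (f c))⁻¹ := by
        rw [(c1.inv_right).eq]
        group
      rw [this]
      exact Subgroup.inv_mem _ (h8ayXp_mem_U D hB f hBN L hL' (f c))
    have h4 : h8xU D hB (D.negIdx.getD (D.simple j) 0) (e * c) ∈ D.negUnipotent K :=
      h8xU_mem_V D hB _ (h8neg_of_pos D hB hO2 _ hpj) _
    have h5 : h8xU D hB (D.negIdx.getD (D.simple j) 0) (e * c) = 1 := by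
      have : h8xU D hB (D.negIdx.getD (D.simple j) 0) (e * c) ∈
          D.borelSubgroup K ⊓ D.negUnipotent K := ⟨h8U_le_B D h3, h4⟩
      rwa [h8_B_inf_V D hB hBN.negOK, Subgroup.mem_bot] at this
    by_contra hab
    have hc0 : c ≠ 0 := sub_ne_zero.mpr hab
    exact h8au_xU_ne_one D hB hA hW _ (hW.neglt _ hpj.1) (e * c) (mul_ne_zero he hc0) h5

include hC hBN hW hO2 hA hsc in
theorem h8ayXm_inj (L : List ℕ) (hL : ∀ k ∈ L, k < D.rank) (horth : H8AyOrth D L)
    (hne : L ≠ []) (a b : K) (h : h8ayXm D hB f L a = h8ayXm D hB f L b) : a = b := by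
  have h1 := h8ay_nXm D hB f hC hBN hW hA hsc L hL horth a
  have h2 := h8ay_nXm D hB f hC hBN hW hA hsc L hL horth b
  rw [h] at h1
  have h3 := h8ayXp_inj D hB f hC hBN hW hO2 hA L hL horth hne _ _ (h1.symm.trans h2)
  exact neg_injective h3

include hC hBN hW in
/-- the torus elements of an orbit are multiplicative in the parameter -/
theorem h8ayHH_mul (L : List ℕ) (hL : ∀ k ∈ L, k < D.rank) (horth : H8AyOrth D L) :
    ∀ a b : K, a ≠ 0 → b ≠ 0 →
      h8ayHH D hB f L (a * b) = h8ayHH D hB f L a * h8ayHH D hB f L b := by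
  induction L with
  | nil => intro a b _ _; show (1 : GL D.Idx K) = 1 * 1; group
  | cons j L ih =>
    intro a b ha hb
    have hL' : ∀ k ∈ L, k < D.rank := fun k hk => hL k (List.mem_cons_of_mem _ hk)
    have hpj := h8simple_pos D hBN j (hL j List.mem_cons_self)
    have hcomm := h8ayLL_comm (K := K) D hB hC hBN hW j L hL horth
    have c1 := hcomm _ (h8ayLL_h (K := K) D hB [j] j List.mem_cons_self b) _
      (h8ayHH_mem_LL D hB f L (f a))
    show h8hU D hB (D.simple j) (a * b) * h8ayHH D hB f L (f (a * b)) =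
      h8hU D hB (D.simple j) a * h8ayHH D hB f L (f a) *
        (h8hU D hB (D.simple j) b * h8ayHH D hB f L (f b))
    rw [map_mul, ih hL' (h8ayOrth_tail D j L horth) (f a) (f b)
      (by rwa [Ne, map_eq_zero]) (by rwa [Ne, map_eq_zero]),
      h8slp_Hmul D hB _ hpj.1 a b ha hb]
    calc h8hU D hB (D.simple j) a * h8hU D hB (D.simple j) b *
          (h8ayHH D hB f L (f a) * h8ayHH D hB f L (f b))
        = h8hU D hB (D.simple j) a * (h8hU D hB (D.simple j) b * h8ayHH D hB f L (f a)) *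
          h8ayHH D hB f L (f b) := by group
      _ = h8hU D hB (D.simple j) a * (h8ayHH D hB f L (f a) * h8hU D hB (D.simple j) b) *
          h8ayHH D hB f L (f b) := by rw [c1.eq]
      _ = _ := by group

/-- the character by which the torus elements of an orbit act on a root subgroup -/
def h8ayChi : List ℕ → K → ℕ → K
  | [], _, _ => 1
  | j :: L, s, r => s ^ (D.cartan j r) * h8ayChi L (f s) r

include hsc in
theorem h8ayHH_conj_x (L : List ℕ) (hL : ∀ k ∈ L, k < D.rank) (r : ℕ) (hr : r < D.nroots) :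
    ∀ s : K, s ≠ 0 → ∀ t : K, h8ayHH D hB f L s * h8xU D hB r t * (h8ayHH D hB f L s)⁻¹ =
      h8xU D hB r (h8ayChi D f L s r * t) := by
  induction L with
  | nil =>
    intro s _ t
    show (1 : GL D.Idx K) * h8xU D hB r t * 1⁻¹ = h8xU D hB r (1 * t)
    rw [one_mul]
    group
  | cons j L ih =>
    intro s hs t
    have hL' : ∀ k ∈ L, k < D.rank := fun k hk => hL k (List.mem_cons_of_mem _ hk)
    have hfs : f s ≠ 0 := by rwa [Ne, map_eq_zero]
    show h8hU D hB (D.simple j) s * h8ayHH D hB f L (f s) * h8xU D hB r t *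
      (h8hU D hB (D.simple j) s * h8ayHH D hB f L (f s))⁻¹ =
      h8xU D hB r (s ^ (D.cartan j r) * h8ayChi D f L (f s) r * t)
    have e1 : h8hU D hB (D.simple j) s * h8ayHH D hB f L (f s) * h8xU D hB r t *
        (h8hU D hB (D.simple j) s * h8ayHH D hB f L (f s))⁻¹ =
        h8hU D hB (D.simple j) s * (h8ayHH D hB f L (f s) * h8xU D hB r t *
          (h8ayHH D hB f L (f s))⁻¹) * (h8hU D hB (D.simple j) s)⁻¹ := by group
    rw [e1, ih hL' (f s) hfs t, h8au_hx D hB hsc j (hL j List.mem_cons_self) r hr s hs, mul_assoc]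

include hBN hsc in
/-- the action of the torus elements of one orbit on the orbit products of another orbit -/
theorem h8ayHH_conj_Xp (L : List ℕ) (hL : ∀ k ∈ L, k < D.rank) (s : K) (hs : s ≠ 0)
    (L' : List ℕ) (hL' : ∀ k ∈ L', k < D.rank) :
    ∀ (χ t : K), (∀ i (hi : i < L'.length), h8ayChi D f L s (D.simple L'[i]) = f^[i] χ) →
      h8ayHH D hB f L s * h8ayXp D hB f L' t * (h8ayHH D hB f L s)⁻¹ =
        h8ayXp D hB f L' (χ * t) := by
  induction L' with
  | nil =>
    intro χ t _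
    show h8ayHH D hB f L s * 1 * (h8ayHH D hB f L s)⁻¹ = 1
    group
  | cons j L' ih =>
    intro χ t hχ
    have hL'' : ∀ k ∈ L', k < D.rank := fun k hk => hL' k (List.mem_cons_of_mem _ hk)
    have hpj := h8simple_pos D hBN j (hL' j List.mem_cons_self)
    show h8ayHH D hB f L s * (h8xU D hB (D.simple j) t * h8ayXp D hB f L' (f t)) *
      (h8ayHH D hB f L s)⁻¹ =
      h8xU D hB (D.simple j) (χ * t) * h8ayXp D hB f L' (f (χ * t))
    have e1 : h8ayHH D hB f L s * (h8xU D hB (D.simple j) t * h8ayXp D hB f L' (f t)) *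
        (h8ayHH D hB f L s)⁻¹ =
        (h8ayHH D hB f L s * h8xU D hB (D.simple j) t * (h8ayHH D hB f L s)⁻¹) *
        (h8ayHH D hB f L s * h8ayXp D hB f L' (f t) * (h8ayHH D hB f L s)⁻¹) := by group
    have h0 := hχ 0 (by simp)
    simp only [List.getElem_cons_zero, Function.iterate_zero, id_eq] at h0
    rw [e1, h8ayHH_conj_x D hB f hsc L hL _ hpj.1 s hs, h0, map_mul]
    congr 1
    apply ih hL'' (f χ) (f t)
    intro i hi
    have := hχ (i + 1) (by simp; omega)
    simp only [List.getElem_cons_succ, Function.iterate_succ, Function.comp_apply] at this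
    exact this

include hBN hW hsc in
theorem h8ayHH_conj_Xm (L : List ℕ) (hL : ∀ k ∈ L, k < D.rank) (s : K) (hs : s ≠ 0)
    (L' : List ℕ) (hL' : ∀ k ∈ L', k < D.rank) :
    ∀ (χ t : K), (∀ i (hi : i < L'.length),
        h8ayChi D f L s (D.negIdx.getD (D.simple L'[i]) 0) = f^[i] χ) →
      h8ayHH D hB f L s * h8ayXm D hB f L' t * (h8ayHH D hB f L s)⁻¹ =
        h8ayXm D hB f L' (χ * t) := by
  induction L' with
  | nil =>
    intro χ t _
    show h8ayHH D hB f L s * 1 * (h8ayHH D hB f L s)⁻¹ = 1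
    group
  | cons j L' ih =>
    intro χ t hχ
    have hL'' : ∀ k ∈ L', k < D.rank := fun k hk => hL' k (List.mem_cons_of_mem _ hk)
    have hpj := h8simple_pos D hBN j (hL' j List.mem_cons_self)
    show h8ayHH D hB f L s * (h8xU D hB (D.negIdx.getD (D.simple j) 0) t *
        h8ayXm D hB f L' (f t)) * (h8ayHH D hB f L s)⁻¹ =
      h8xU D hB (D.negIdx.getD (D.simple j) 0) (χ * t) * h8ayXm D hB f L' (f (χ * t))
    have e1 : h8ayHH D hB f L s * (h8xU D hB (D.negIdx.getD (D.simple j) 0) t *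
        h8ayXm D hB f L' (f t)) * (h8ayHH D hB f L s)⁻¹ =
        (h8ayHH D hB f L s * h8xU D hB (D.negIdx.getD (D.simple j) 0) t *
          (h8ayHH D hB f L s)⁻¹) *
        (h8ayHH D hB f L s * h8ayXm D hB f L' (f t) * (h8ayHH D hB f L s)⁻¹) := by group
    have h0 := hχ 0 (by simp)
    simp only [List.getElem_cons_zero, Function.iterate_zero, id_eq] at h0
    rw [e1, h8ayHH_conj_x D hB f hsc L hL _ (hW.neglt _ hpj.1) s hs, h0, map_mul]
    congr 1
    apply ih hL'' (f χ) (f t)
    intro i hi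
    have := hχ (i + 1) (by simp; omega)
    simp only [List.getElem_cons_succ, Function.iterate_succ, Function.comp_apply] at this
    exact this

include hC hBN hW hsc hc2 in
/-- the torus elements of an orbit act on its positive orbit products by the square -/
theorem h8ayHH_Xp (L : List ℕ) (hL : ∀ k ∈ L, k < D.rank) (horth : H8AyOrth D L) :
    ∀ s t : K, s ≠ 0 → h8ayHH D hB f L s * h8ayXp D hB f L t * (h8ayHH D hB f L s)⁻¹ =
      h8ayXp D hB f L (s ^ 2 * t) := by
  induction L with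
  | nil => intro s t _; show (1 : GL D.Idx K) * 1 * 1⁻¹ = 1; group
  | cons j L ih =>
    intro s t hs
    have hL' : ∀ k ∈ L, k < D.rank := fun k hk => hL k (List.mem_cons_of_mem _ hk)
    have hfs : f s ≠ 0 := by rwa [Ne, map_eq_zero]
    have hcomm := h8ayLL_comm (K := K) D hB hC hBN hW j L hL horth
    have c1 := hcomm _ (h8ayLL_xp (K := K) D hB [j] j List.mem_cons_self t) _
      (h8ayHH_mem_LL D hB f L (f s))
    have c2 := hcomm _ (h8ayLL_h (K := K) D hB [j] j List.mem_cons_self s) _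
      (h8ayXp_mem_LL D hB f L (f t))
    have c3 := hcomm _ (h8ayLL_h (K := K) D hB [j] j List.mem_cons_self s) _
      (h8ayHH_mem_LL D hB f L (f s))
    have e := ih hL' (h8ayOrth_tail D j L horth) (f s) (f t) hfs
    have ex := h8slp_HX (F := K) D hB hsc hc2 j (hL j List.mem_cons_self) s t hs
    show h8hU D hB (D.simple j) s * h8ayHH D hB f L (f s) *
      (h8xU D hB (D.simple j) t * h8ayXp D hB f L (f t)) *
      (h8hU D hB (D.simple j) s * h8ayHH D hB f L (f s))⁻¹ =
      h8xU D hB (D.simple j) (s ^ 2 * t) * h8ayXp D hB f L (f (s ^ 2 * t))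
    rw [map_mul, map_pow, ← e, ← ex]
    have c1' : h8ayHH D hB f L (f s) * h8xU D hB (D.simple j) t =
        h8xU D hB (D.simple j) t * h8ayHH D hB f L (f s) := c1.eq.symm
    have c2' : h8ayXp D hB f L (f t) * (h8hU D hB (D.simple j) s)⁻¹ =
        (h8hU D hB (D.simple j) s)⁻¹ * h8ayXp D hB f L (f t) := (c2.inv_left).eq.symm
    have c3' : (h8ayHH D hB f L (f s))⁻¹ * (h8hU D hB (D.simple j) s)⁻¹ =
        (h8hU D hB (D.simple j) s)⁻¹ * (h8ayHH D hB f L (f s))⁻¹ :=
      (c3.inv_left.inv_right).eq.symm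
    have c3'' : h8ayHH D hB f L (f s) * (h8hU D hB (D.simple j) s)⁻¹ =
        (h8hU D hB (D.simple j) s)⁻¹ * h8ayHH D hB f L (f s) := (c3.inv_left).eq.symm
    calc h8hU D hB (D.simple j) s * h8ayHH D hB f L (f s) *
          (h8xU D hB (D.simple j) t * h8ayXp D hB f L (f t)) *
          (h8hU D hB (D.simple j) s * h8ayHH D hB f L (f s))⁻¹
        = h8hU D hB (D.simple j) s * (h8ayHH D hB f L (f s) * h8xU D hB (D.simple j) t) *
          h8ayXp D hB f L (f t) *
          ((h8ayHH D hB f L (f s))⁻¹ * (h8hU D hB (D.simple j) s)⁻¹) := by group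
      _ = h8hU D hB (D.simple j) s * (h8xU D hB (D.simple j) t * h8ayHH D hB f L (f s)) *
          h8ayXp D hB f L (f t) *
          ((h8hU D hB (D.simple j) s)⁻¹ * (h8ayHH D hB f L (f s))⁻¹) := by rw [c1', c3']
      _ = h8hU D hB (D.simple j) s * h8xU D hB (D.simple j) t * h8ayHH D hB f L (f s) *
          (h8ayXp D hB f L (f t) * (h8hU D hB (D.simple j) s)⁻¹) *
          (h8ayHH D hB f L (f s))⁻¹ := by group
      _ = h8hU D hB (D.simple j) s * h8xU D hB (D.simple j) t *
          (h8ayHH D hB f L (f s) * (h8hU D hB (D.simple j) s)⁻¹) *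
          h8ayXp D hB f L (f t) * (h8ayHH D hB f L (f s))⁻¹ := by rw [c2']; group
      _ = _ := by rw [c3'']; group

include hC hBN hW hsc hc2 in
/-- the torus elements of an orbit act on its negative orbit products by the inverse square -/
theorem h8ayHH_Xm (L : List ℕ) (hL : ∀ k ∈ L, k < D.rank) (horth : H8AyOrth D L) :
    ∀ s t : K, s ≠ 0 → h8ayHH D hB f L s * h8ayXm D hB f L t * (h8ayHH D hB f L s)⁻¹ =
      h8ayXm D hB f L ((s ^ 2)⁻¹ * t) := by
  induction L with
  | nil => intro s t _; show (1 : GL D.Idx K) * 1 * 1⁻¹ = 1; group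
  | cons j L ih =>
    intro s t hs
    have hL' : ∀ k ∈ L, k < D.rank := fun k hk => hL k (List.mem_cons_of_mem _ hk)
    have hfs : f s ≠ 0 := by rwa [Ne, map_eq_zero]
    have hcomm := h8ayLL_comm (K := K) D hB hC hBN hW j L hL horth
    have c1 := hcomm _ (h8ayLL_xm (K := K) D hB [j] j List.mem_cons_self t) _
      (h8ayHH_mem_LL D hB f L (f s))
    have c2 := hcomm _ (h8ayLL_h (K := K) D hB [j] j List.mem_cons_self s) _
      (h8ayXm_mem_LL D hB f L (f t))
    have c3 := hcomm _ (h8ayLL_h (K := K) D hB [j] j List.mem_cons_self s) _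
      (h8ayHH_mem_LL D hB f L (f s))
    have e := ih hL' (h8ayOrth_tail D j L horth) (f s) (f t) hfs
    have ex := h8slp_HY (F := K) D hB hsc hc2 j (hL j List.mem_cons_self) s t hs
    show h8hU D hB (D.simple j) s * h8ayHH D hB f L (f s) *
      (h8xU D hB (D.negIdx.getD (D.simple j) 0) t * h8ayXm D hB f L (f t)) *
      (h8hU D hB (D.simple j) s * h8ayHH D hB f L (f s))⁻¹ =
      h8xU D hB (D.negIdx.getD (D.simple j) 0) ((s ^ 2)⁻¹ * t) *
        h8ayXm D hB f L (f ((s ^ 2)⁻¹ * t))
    rw [map_mul, map_inv₀, map_pow, ← e, ← ex]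
    have c1' : h8ayHH D hB f L (f s) * h8xU D hB (D.negIdx.getD (D.simple j) 0) t =
        h8xU D hB (D.negIdx.getD (D.simple j) 0) t * h8ayHH D hB f L (f s) := c1.eq.symm
    have c2' : h8ayXm D hB f L (f t) * (h8hU D hB (D.simple j) s)⁻¹ =
        (h8hU D hB (D.simple j) s)⁻¹ * h8ayXm D hB f L (f t) := (c2.inv_left).eq.symm
    have c3' : (h8ayHH D hB f L (f s))⁻¹ * (h8hU D hB (D.simple j) s)⁻¹ =
        (h8hU D hB (D.simple j) s)⁻¹ * (h8ayHH D hB f L (f s))⁻¹ :=
      (c3.inv_left.inv_right).eq.symm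
    have c3'' : h8ayHH D hB f L (f s) * (h8hU D hB (D.simple j) s)⁻¹ =
        (h8hU D hB (D.simple j) s)⁻¹ * h8ayHH D hB f L (f s) := (c3.inv_left).eq.symm
    calc h8hU D hB (D.simple j) s * h8ayHH D hB f L (f s) *
          (h8xU D hB (D.negIdx.getD (D.simple j) 0) t * h8ayXm D hB f L (f t)) *
          (h8hU D hB (D.simple j) s * h8ayHH D hB f L (f s))⁻¹
        = h8hU D hB (D.simple j) s *
          (h8ayHH D hB f L (f s) * h8xU D hB (D.negIdx.getD (D.simple j) 0) t) *
          h8ayXm D hB f L (f t) *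
          ((h8ayHH D hB f L (f s))⁻¹ * (h8hU D hB (D.simple j) s)⁻¹) := by group
      _ = h8hU D hB (D.simple j) s *
          (h8xU D hB (D.negIdx.getD (D.simple j) 0) t * h8ayHH D hB f L (f s)) *
          h8ayXm D hB f L (f t) *
          ((h8hU D hB (D.simple j) s)⁻¹ * (h8ayHH D hB f L (f s))⁻¹) := by rw [c1', c3']
      _ = h8hU D hB (D.simple j) s * h8xU D hB (D.negIdx.getD (D.simple j) 0) t *
          h8ayHH D hB f L (f s) *
          (h8ayXm D hB f L (f t) * (h8hU D hB (D.simple j) s)⁻¹) *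
          (h8ayHH D hB f L (f s))⁻¹ := by group
      _ = h8hU D hB (D.simple j) s * h8xU D hB (D.negIdx.getD (D.simple j) 0) t *
          (h8ayHH D hB f L (f s) * (h8hU D hB (D.simple j) s)⁻¹) *
          h8ayXm D hB f L (f t) * (h8ayHH D hB f L (f s))⁻¹ := by rw [c2']; group
      _ = _ := by rw [c3'']; group

end

end Cfsg.Agent.Lib.helper8
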