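import Mathlib
import Cfsg.Prelude.Def_ChevStructure
import Cfsg.Agent.Lib.helper8.ChevAY5
import Cfsg.Agent.Lib.helper8.ChevTwU5

set_option autoImplicit false

namespace Cfsg.Agent.Lib.helper8

open Cfsg.Lie Cfsg.Lie.ChevalleyDatum

universe u

variable {K : Type u} [Field K]

/-- the data of an orbit of mutually orthogonal nodes, listed in the cyclic order of the node
permutation `p`, whose simple roots form the block `i` -/
structure H8AyOrb (D : ChevalleyDatum) (posi : ℕ → ℕ) (σ : ℕ → ℕ) (η : ℕ → ℤ) (p : ℕ → ℕ)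
    (L : List ℕ) (i : ℕ) : Prop where
  lt : ∀ k ∈ L, k < D.rank
  ne : L ≠ []
  orth : H8AyOrth D L
  nodup : (L.map D.simple).Nodup
  blk : (L.map D.simple).Perm (h8Lb D posi i)
  sim : ∀ k ∈ L, σ (D.simple k) = D.simple (p k) ∧ η (D.simple k) = 1
  rot : L.map p = L.rotate 1

section
variable (D : ChevalleyDatum) (hB : H8Base.{u} D) (f : K ≃+* K)

theorem h8ayXp_append (L1 L2 : List ℕ) : ∀ s : K,
    h8ayXp D hB f (L1 ++ L2) s = h8ayXp D hB f L1 s * h8ayXp D hB f L2 (f^[L1.length] s) := by
  induction L1 with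
  | nil =>
    intro s
    show h8ayXp D hB f L2 s = 1 * h8ayXp D hB f L2 s
    rw [one_mul]
  | cons j L1 ih =>
    intro s
    show h8xU D hB (D.simple j) s * h8ayXp D hB f (L1 ++ L2) (f s) =
      h8xU D hB (D.simple j) s * h8ayXp D hB f L1 (f s) * h8ayXp D hB f L2 (f^[L1.length + 1] s)
    rw [ih (f s), mul_assoc, Function.iterate_succ_apply]

/-- the block product along the simple roots of a list of nodes, with parameters in geometric
progression, is the orbit product -/
theorem h8ayXp_eq_Pb (L : List ℕ) : ∀ (a : K) (t : ℕ → K),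
    (∀ k (hk : k < L.length), t (D.simple L[k]) = f^[k] a) →
    h8Pb D hB (L.map D.simple) t = h8ayXp D hB f L a := by
  induction L with
  | nil => intro a t _; rfl
  | cons j L ih =>
    intro a t ht
    rw [List.map_cons, h8Pb_cons]
    show h8xU D hB (D.simple j) (t (D.simple j)) * h8Pb D hB (L.map D.simple) t =
      h8xU D hB (D.simple j) a * h8ayXp D hB f L (f a)
    have h0 := ht 0 (by simp)
    simp only [List.getElem_cons_zero, Function.iterate_zero, id_eq] at h0
    rw [h0, ih (f a) t]
    intro k hk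
    have := ht (k + 1) (by simp; omega)
    simp only [List.getElem_cons_succ, Function.iterate_succ, Function.comp_apply] at this
    exact this

variable (σ τ π ϖ : ℕ → ℕ) (η : ℕ → ℤ) (hAut : H8Aut D σ τ π ϖ η) (p : ℕ → ℕ)
  (hBN : H8BN D)

include hBN in
/-- the twisting endomorphism shifts the orbit products -/
theorem h8Sig_ayXp (L : List ℕ) (hL : ∀ k ∈ L, k < D.rank)
    (hsim : ∀ k ∈ L, σ (D.simple k) = D.simple (p k) ∧ η (D.simple k) = 1) : ∀ a : K,
    h8Sig D σ τ π ϖ η hAut f (h8ayXp D hB f L a) = h8ayXp D hB f (L.map p) (f a) := by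
  induction L with
  | nil => intro a; show h8Sig D σ τ π ϖ η hAut f 1 = 1; rw [map_one]
  | cons j L ih =>
    intro a
    have hpj := h8simple_pos D hBN j (hL j List.mem_cons_self)
    obtain ⟨h1, h2⟩ := hsim j List.mem_cons_self
    show h8Sig D σ τ π ϖ η hAut f (h8xU D hB (D.simple j) a * h8ayXp D hB f L (f a)) =
      h8xU D hB (D.simple (p j)) (f a) * h8ayXp D hB f (L.map p) (f (f a))
    rw [map_mul, h8Sig_xU D σ τ π ϖ η hAut f hB _ hpj.1, h1, h2,
      ih (fun k hk => hL k (List.mem_cons_of_mem _ hk))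
        (fun k hk => hsim k (List.mem_cons_of_mem _ hk))]
    simp

variable (hC : H8CommAll.{u} D) (hW : H8BN2 D)

include hC hBN hW in
/-- rotating an orthogonal list of nodes does not change the orbit product of a parameter
fixed by the corresponding power of the field automorphism -/
theorem h8ayXp_rot (L : List ℕ) (hL : ∀ k ∈ L, k < D.rank) (horth : H8AyOrth D L) (a : K)
    (ha : f^[L.length] a = a) : h8ayXp D hB f (L.rotate 1) (f a) = h8ayXp D hB f L a := by
  cases L with
  | nil => rfl
  | cons j L =>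
    have e : (j :: L).rotate 1 = L ++ [j] := by
      rw [List.rotate_cons_succ, List.rotate_zero]
    rw [e, h8ayXp_append]
    have h1 : f^[L.length] (f a) = a := by
      rw [← Function.iterate_succ_apply]
      exact ha
    rw [h1]
    have hcomm := h8ayLL_comm (K := K) D hB hC hBN hW j L hL horth
    have c1 := hcomm _ (h8ayLL_xp (K := K) D hB [j] j List.mem_cons_self a) _
      (h8ayXp_mem_LL D hB f L (f a))
    show h8ayXp D hB f L (f a) * (h8xU D hB (D.simple j) a * 1) =
      h8xU D hB (D.simple j) a * h8ayXp D hB f L (f a)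
    rw [mul_one, c1.eq]

include hC hBN hW in
/-- the orbit product of a parameter fixed by the power of the field automorphism is fixed by
the twisting endomorphism -/
theorem h8ayXp_fix (L : List ℕ) (hL : ∀ k ∈ L, k < D.rank) (horth : H8AyOrth D L)
    (hsim : ∀ k ∈ L, σ (D.simple k) = D.simple (p k) ∧ η (D.simple k) = 1)
    (hrot : L.map p = L.rotate 1) (a : K) (ha : f^[L.length] a = a) :
    h8Sig D σ τ π ϖ η hAut f (h8ayXp D hB f L a) = h8ayXp D hB f L a := by
  rw [h8Sig_ayXp D hB f σ τ π ϖ η hAut p hBN L hL hsim, hrot,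
    h8ayXp_rot D hB f hBN hC hW L hL horth a ha]

variable (hO2 : H8Ord2 D) (posi : ℕ → ℕ) (hK : H8Blk D posi) (hR : H8BlkRead D posi)
  (hσp : ∀ r, D.IsPosRoot r → D.IsPosRoot (σ r) ∧ posi (σ r) = posi r)

include hAut hBN hC hO2 hK hR hσp in
/-- the fixed points of the twisting endomorphism in the subgroup generated by the simple root
subgroups of an orbit are the orbit products -/
theorem h8ay_surj (L : List ℕ) (i : ℕ) (O : H8AyOrb D posi σ η p L i) (u : GL D.Idx K)
    (hu : u ∈ Subgroup.closure {g : GL D.Idx K | ∃ j ∈ L, ∃ t : K,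
      g = h8xU D hB (D.simple j) t})
    (hfixu : h8Sig D σ τ π ϖ η hAut f u = u) :
    ∃ a : K, f^[L.length] a = a ∧ u = h8ayXp D hB f L a := by
  have h1 : u ∈ Subgroup.closure (h8XbSet D K posi i) := by
    refine Subgroup.closure_mono ?_ hu
    rintro g ⟨j, hj, t, rfl⟩
    refine ⟨D.simple j, t, ?_, h8xU_val D hB _ t⟩
    exact O.blk.subset (List.mem_map.mpr ⟨j, hj, rfl⟩)
  obtain ⟨t, rfl⟩ := h8Xb_eq D hB hC hBN hO2 posi hK i u h1
  have hc := (h8Sig_fix_Pb_iff D hB hC hBN hO2 posi hK hR σ τ π ϖ η hAut f hσp i t).mp hfixu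
  have hm : 0 < L.length := List.length_pos_of_ne_nil O.ne
  -- the node permutation maps the list to itself
  have hpmem : ∀ j ∈ L, p j ∈ L := by
    intro j hj
    have : p j ∈ L.map p := List.mem_map.mpr ⟨j, hj, rfl⟩
    rw [O.rot] at this
    exact List.mem_rotate.mp this
  have key : ∀ j ∈ L, t (D.simple (p j)) = f (t (D.simple j)) := by
    intro j hj
    obtain ⟨hs1, hs2⟩ := O.sim j hj
    have hpj := h8simple_pos D hBN j (O.lt j hj)
    have hmem : D.simple (p j) ∈ h8Lb D posi i :=
      O.blk.subset (List.mem_map.mpr ⟨p j, hpmem j hj, rfl⟩)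
    have := hc _ hmem
    unfold h8tS at this
    rw [← hs1, hAut.ts _ hpj.1, hs2] at this
    rw [← hs1, ← this]
    simp
  have hidx : ∀ k (hk : k < L.length), p L[k] = L[(k + 1) % L.length]'(Nat.mod_lt _ hm) := by
    intro k hk
    have h2 : (L.map p)[k]'(by rw [List.length_map]; exact hk) = p L[k] := List.getElem_map _
    have h3 : (L.rotate 1)[k]'(by rw [List.length_rotate]; exact hk) =
        L[(k + 1) % L.length]'(Nat.mod_lt _ hm) := List.getElem_rotate _ _ _ _
    rw [← h2, ← h3]
    congr 1
    exact O.rot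
  set a := t (D.simple (L[0]'hm)) with ha
  have hind : ∀ k (hk : k < L.length), t (D.simple L[k]) = f^[k] a := by
    intro k
    induction k with
    | zero => intro hk; rfl
    | succ k ih =>
      intro hk
      have hk' : k < L.length := by omega
      have h4 := hidx k hk'
      have h5 : (k + 1) % L.length = k + 1 := Nat.mod_eq_of_lt hk
      have h6 : L[k + 1] = p L[k] := by
        rw [h4]
        congr 1
        exact h5.symm
      rw [h6, key _ (List.getElem_mem hk'), ih hk', Function.iterate_succ_apply']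
  refine ⟨a, ?_, ?_⟩
  · have hk' : L.length - 1 < L.length := by omega
    have h4 := hidx (L.length - 1) hk'
    have h5 : (L.length - 1 + 1) % L.length = 0 := by
      rw [Nat.sub_add_cancel hm, Nat.mod_self]
    have h6 : L[0]'hm = p L[L.length - 1] := by
      rw [h4]
      congr 1
      exact h5.symm
    have h7 := key _ (List.getElem_mem hk')
    rw [← h6, hind _ hk', ← Function.iterate_succ_apply' f] at h7
    have h8 : (L.length - 1).succ = L.length := by omega
    rw [h8] at h7
    exact h7.symm
  · rw [← h8ayXp_eq_Pb D hB f L a t hind]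
    apply h8Pb_perm D hB hC hBN hO2 posi hK i _ _ O.blk.symm
    intro r hr
    exact (h8Lb_mem D posi i r).mp hr

end

end Cfsg.Agent.Lib.helper8
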