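import Mathlib
import Cfsg.Prelude.Def_ChevStructure
import Cfsg.Agent.Lib.helper8.ChevAY2
import Cfsg.Agent.Lib.helper8.ChevAY6
import Cfsg.Agent.Lib.helper8.ChevAU4

set_option autoImplicit false

namespace Cfsg.Agent.Lib.helper8

open Cfsg.Lie Cfsg.Lie.ChevalleyDatum

universe u

variable {K : Type u} [Field K]

theorem h8ay_iter_inv (f : K ≃+* K) : ∀ (n : ℕ) (a : K), f^[n] a⁻¹ = (f^[n] a)⁻¹ := by
  intro n
  induction n with
  | zero => intro a; rfl
  | succ n ih =>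
    intro a
    rw [Function.iterate_succ_apply, Function.iterate_succ_apply, map_inv₀, ih]

theorem h8ay_iter_zero (f : K ≃+* K) : ∀ (n : ℕ), f^[n] (0 : K) = 0 := by
  intro n
  induction n with
  | zero => rfl
  | succ n ih => rw [Function.iterate_succ_apply, map_zero, ih]

theorem h8ay_iter_neg (f : K ≃+* K) : ∀ (n : ℕ) (a : K), f^[n] (-a) = -(f^[n] a) := by
  intro n
  induction n with
  | zero => intro a; rfl
  | succ n ih =>
    intro a
    rw [Function.iterate_succ_apply, Function.iterate_succ_apply, map_neg, ih]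

section
variable (D : ChevalleyDatum) (hB : H8Base.{u} D) (hB0 : H8Base.{0} D)
  (hA : H8ReflAll D) (hC : H8CommAll.{u} D) (hBN : H8BN D) (hW : H8BN2 D) (hO : H8Ord D)
  (hO2 : H8Ord2 D) (posi : ℕ → ℕ) (hK : H8Blk D posi) (hR : H8BlkRead D posi)
  (σ τ π ϖ : ℕ → ℕ) (η : ℕ → ℤ) (hAut : H8Aut D σ τ π ϖ η) (f : K ≃+* K)
  (ρ : Equiv.Perm (Fin D.nroots)) (hρ : ∀ r, (ρ r).val = σ r.val)
  (πF : Fin D.rank → Fin D.rank) (orbs : List (List (Fin D.rank)))
  (T : H8Tw D hA hBN ρ πF orbs)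
  (hσp : ∀ r, D.IsPosRoot r → D.IsPosRoot (σ r) ∧ posi (σ r) = posi r)
  (G1 : Subgroup (GL D.Idx K)) (hG1 : G1 ≤ D.group K)
  (hfix : ∀ g ∈ G1, h8Sig D σ τ π ϖ η hAut f g = g)
  (hUfix : ∀ g ∈ D.posUnipotent K, h8Sig D σ τ π ϖ η hAut f g = g → g ∈ G1)
  (hnJ : ∀ J ∈ orbs, (h8nWU D hB (J.map Fin.val) : GL D.Idx K) ∈ G1)
  (hsc : h8scChk D = true)
  (hOrb : ∀ J ∈ orbs, ∃ i, H8AyOrb D posi σ η π (J.map Fin.val) i)

include hC hBN hW hUfix hOrb in
/-- the positive orbit products with a fixed parameter lie in the twisted group -/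
theorem h8ayXp_mem_G1 (J : List (Fin D.rank)) (hJ : J ∈ orbs) (a : K)
    (ha : f^[J.length] a = a) : h8ayXp D hB f (J.map Fin.val) a ∈ G1 := by
  obtain ⟨i, O⟩ := hOrb J hJ
  apply hUfix _ (h8ayXp_mem_U D hB f hBN _ O.lt a)
  apply h8ayXp_fix D hB f σ τ π ϖ η hAut π hBN hC hW _ O.lt O.orth O.sim O.rot a
  rwa [List.length_map]

include hA hC hBN hW hUfix hnJ hsc hOrb in
/-- the negative orbit products with a fixed parameter lie in the twisted group -/
theorem h8ayXm_mem_G1 (J : List (Fin D.rank)) (hJ : J ∈ orbs) (a : K)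
    (ha : f^[J.length] a = a) : h8ayXm D hB f (J.map Fin.val) a ∈ G1 := by
  obtain ⟨i, O⟩ := hOrb J hJ
  have h1 := h8ay_nXp D hB f hC hBN hW hA hsc _ O.lt O.orth (-a)
  rw [neg_neg] at h1
  rw [← h1]
  have h2 : h8ayXp D hB f (J.map Fin.val) (-a) ∈ G1 := by
    apply h8ayXp_mem_G1 D hB hC hBN hW posi σ τ π ϖ η hAut f orbs G1 hUfix hOrb J hJ
    rw [h8ay_iter_neg, ha]
  exact G1.mul_mem (G1.mul_mem (hnJ J hJ) h2) (G1.inv_mem (hnJ J hJ))

include hC hBN hO2 hK hR hσp hfix hOrb in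
/-- the elements of the twisted group in the subgroup generated by the simple root subgroups of
an orbit are the orbit products -/
theorem h8ay_surj_G1 (J : List (Fin D.rank)) (hJ : J ∈ orbs) (u : GL D.Idx K)
    (hu : u ∈ Subgroup.closure {g : GL D.Idx K | ∃ j ∈ J.map Fin.val, ∃ t : K,
      g = h8xU D hB (D.simple j) t}) (hu1 : u ∈ G1) :
    ∃ a : K, f^[J.length] a = a ∧ u = h8ayXp D hB f (J.map Fin.val) a := by
  obtain ⟨i, O⟩ := hOrb J hJ
  obtain ⟨a, ha, e⟩ := h8ay_surj D hB f σ τ π ϖ η hAut π hBN hC hO2 posi hK hR hσp _ i O u hu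
    (hfix u hu1)
  rw [List.length_map] at ha
  exact ⟨a, ha, e⟩

include hB0 hA hBN hW hO2 T in
/-- `U_{n_J}^-` is generated by the simple root subgroups of the orbit -/
theorem h8ay_Um_orbit (J : List (Fin D.rank)) (hJ : J ∈ orbs) :
    Subgroup.closure (h8UmSet D K (h8nWU D hB (J.map Fin.val))) ≤
      Subgroup.closure {g : GL D.Idx K | ∃ j ∈ J.map Fin.val, ∃ t : K,
        g = h8xU D hB (D.simple j) t} := by
  apply Subgroup.closure_mono
  rintro g ⟨r, t, hr, hle, hg⟩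
  by_cases hex : ∃ j ∈ J, r = D.simple j.val
  · obtain ⟨j, hj, rfl⟩ := hex
    exact ⟨j.val, List.mem_map.mpr ⟨j, hj, rfl⟩, t, h8au_gen_eq D hB g _ t hg⟩
  · exfalso
    push Not at hex
    have hβ : ∀ x ∈ J, (⟨r, hr.1⟩ : Fin D.nroots) ≠ h8simF D hBN x := by
      intro x hx h
      exact hex x hx (congrArg Fin.val h)
    have hp := h8tw_wJ_pos D hB0 hA hBN hW hO2 ρ πF orbs T J hJ J (fun x hx => hx)
      (T.orb_nodup J hJ) ⟨r, hr.1⟩ hr hβ
    have e1 : (h8wF D hA J ⟨r, hr.1⟩).val = h8sW D (J.map Fin.val) r :=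
      h8wPerm_val D hA (J.map Fin.val) (h8J_lt D J) ⟨r, hr.1⟩
    rw [e1] at hp
    have hact := h8nWU_act (F := K) D hB hA (J.map Fin.val) (h8J_lt D J) r hr.1
    rw [h8act_map_root D hB _ r _ hr.1 hp.1 hact] at hle
    have h1 : h8xU D hB (h8sW D (J.map Fin.val) r) (1 : K) ∈
        D.borelSubgroup K ⊓ D.negUnipotent K :=
      ⟨h8U_le_B D (h8xU_mem_U D hB _ hp 1), hle (h8xU_mem_rootSubgroup D hB _ 1)⟩
    rw [h8_B_inf_V D hB hBN.negOK, Subgroup.mem_bot] at h1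
    exact h8au_xU_ne_one D hB hA hW _ hp.1 1 one_ne_zero h1

include hB0 hA hC hBN hW hO hO2 hK hR T hσp hG1 hfix hUfix hOrb in
/-- `V ∩ G¹ ∩ P_J` consists of the negative orbit products -/
theorem h8ay_V_inf_PJ (J : List (Fin D.rank)) (hJ : J ∈ orbs)
    (hnB : (h8nWU D hB (J.map Fin.val) : GL D.Idx K) ∉ D.borelSubgroup K)
    (g : GL D.Idx K) (hgV : g ∈ D.negUnipotent K) (hg1 : g ∈ G1)
    (hgP : g ∈ D.borelSubgroup K ∨ ∃ b1 ∈ D.borelSubgroup K, ∃ b2 ∈ D.borelSubgroup K,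
      g = b1 * h8nWU D hB (J.map Fin.val) * b2) :
    ∃ a : K, f^[J.length] a = a ∧ g = h8ayXm D hB f (J.map Fin.val) a := by
  obtain ⟨i, O⟩ := hOrb J hJ
  have hσpos : ∀ r, D.IsPosRoot r → D.IsPosRoot (σ r) := fun r hr => (hσp r hr).1
  have hVB : ∀ y : GL D.Idx K, y ∈ D.borelSubgroup K → y ∈ D.negUnipotent K → y = 1 := by
    intro y h1 h2
    have : y ∈ D.borelSubgroup K ⊓ D.negUnipotent K := ⟨h1, h2⟩
    rwa [h8_B_inf_V D hB hBN.negOK, Subgroup.mem_bot] at this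
  set nJ := (h8nWU D hB (J.map Fin.val) : GL D.Idx K) with hnJdef
  have hnJN : nJ ∈ D.monomialSubgroup K := h8nWU_mem_N D hB hA _ (h8J_lt D J)
  rcases hgP with hgB | ⟨b1, hb1, b2, hb2, hg⟩
  · refine ⟨0, h8ay_iter_zero f _, ?_⟩
    rw [h8ayXm_zero]
    exact hVB g hgB hgV
  · obtain ⟨u1, hu1, m, hm, u, hu, huG, e⟩ := h8tw_normal_G1 D hB hA hC hBN hW hO hO2
      σ τ π ϖ η hAut f hσpos G1 hG1 hfix hUfix g hg1
    have huU : u ∈ D.posUnipotent K := h8Um_le_U D m hu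
    have hcell : ∃ c1 ∈ D.borelSubgroup K, ∃ c2 ∈ D.borelSubgroup K,
        m⁻¹ = c1 * nJ⁻¹ * c2 := by
      refine ⟨u * b2⁻¹, Subgroup.mul_mem _ (h8U_le_B D huU) (Subgroup.inv_mem _ hb2),
        b1⁻¹ * u1, Subgroup.mul_mem _ (Subgroup.inv_mem _ hb1) (h8U_le_B D hu1.1), ?_⟩
      have : m = u1⁻¹ * g * u⁻¹ := by rw [e]; group
      rw [this, hg]
      group
    have ht := h8cell_disjoint D hB hA hC hBN m⁻¹ nJ⁻¹
      (Subgroup.inv_mem _ hm.1) (Subgroup.inv_mem _ hnJN) hcell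
    rw [inv_inv] at ht
    set t := m * nJ⁻¹ with htdef
    have hmt : m = t * nJ := by rw [htdef]; group
    have hsub : h8UmSet D K m ⊆ h8UmSet D K nJ := by
      have := h8UmSet_mono_H D hB m t⁻¹ 1 (Subgroup.inv_mem _ ht) (Subgroup.one_mem _)
      have e' : t⁻¹ * m * 1 = nJ := by rw [hmt]; group
      rwa [e'] at this
    have hu2 := h8ay_Um_orbit D hB hB0 hA hBN hW hO2 ρ πF orbs T J hJ
      (Subgroup.closure_mono hsub hu)
    obtain ⟨a, ha, rfl⟩ := h8ay_surj_G1 D hB hC hBN hO2 posi hK hR σ τ π ϖ η hAut f orbs hσp G1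
      hfix hOrb J hJ u hu2 huG
    by_cases ha0 : a = 0
    · exfalso
      subst ha0
      rw [h8ayXp_zero, mul_one] at e
      have hmH : m ∈ D.diagonalSubgroup K := by
        apply h8au_N_inf_BV D hB hA hC hBN hW m u1⁻¹ g hm.1
          (Subgroup.inv_mem _ (h8U_le_B D hu1.1)) hgV
        rw [e]; group
      apply hnB
      have : nJ = t⁻¹ * m := by rw [hmt]; group
      rw [this]
      exact h8H_le_B D (Subgroup.mul_mem _ (Subgroup.inv_mem _ ht) hmH)
    · refine ⟨a⁻¹, by rw [h8ay_iter_inv, ha], ?_⟩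
      have hWrel := h8ay_W D hB f hC hBN hW _ O.lt O.orth (-a)
      have e3 : -(-a)⁻¹ = a⁻¹ := by rw [inv_neg, neg_neg]
      rw [e3, h8ayXp_neg D hB f hC hBN hW _ O.lt O.orth] at hWrel
      have hx : h8ayXm D hB f (J.map Fin.val) a⁻¹ =
          h8ayXp D hB f (J.map Fin.val) a * h8ayHH D hB f (J.map Fin.val) (-a) * nJ *
            h8ayXp D hB f (J.map Fin.val) a := by
        have : h8ayXm D hB f (J.map Fin.val) a⁻¹ =
            h8ayXp D hB f (J.map Fin.val) a * ((h8ayXp D hB f (J.map Fin.val) a)⁻¹ *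
              h8ayXm D hB f (J.map Fin.val) a⁻¹ * (h8ayXp D hB f (J.map Fin.val) a)⁻¹) *
              h8ayXp D hB f (J.map Fin.val) a := by group
        rw [this, hWrel, ← hnJdef]
        group
      have hyV : h8ayXm D hB f (J.map Fin.val) a⁻¹ ∈ D.negUnipotent K :=
        h8ayXm_mem_V D hB f hBN hO2 _ O.lt _
      have hq : g * (h8ayXm D hB f (J.map Fin.val) a⁻¹)⁻¹ = 1 := by
        apply hVB
        · rw [hx, e, hmt]
          have : u1 * (t * nJ) * h8ayXp D hB f (J.map Fin.val) a *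
              (h8ayXp D hB f (J.map Fin.val) a * h8ayHH D hB f (J.map Fin.val) (-a) * nJ *
                h8ayXp D hB f (J.map Fin.val) a)⁻¹ =
              u1 * t * (h8ayXp D hB f (J.map Fin.val) a *
                h8ayHH D hB f (J.map Fin.val) (-a))⁻¹ := by group
          rw [this]
          refine Subgroup.mul_mem _ (Subgroup.mul_mem _ (h8U_le_B D hu1.1) (h8H_le_B D ht))
            (Subgroup.inv_mem _ ?_)
          exact Subgroup.mul_mem _ (h8U_le_B D (h8ayXp_mem_U D hB f hBN _ O.lt a))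
            (h8H_le_B D (h8ayHH_mem D hB f hBN _ O.lt (-a) (neg_ne_zero.mpr ha0)))
        · exact Subgroup.mul_mem _ hgV (Subgroup.inv_mem _ hyV)
      exact mul_inv_eq_one.mp hq

end

end Cfsg.Agent.Lib.helper8
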