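import Mathlib
import Cfsg.Prelude.Def_ChevStructure
import Cfsg.Agent.Lib.helper8.ChevAY7
import Cfsg.Agent.Lib.helper8.ChevAU5

set_option autoImplicit false

namespace Cfsg.Agent.Lib.helper8

open Cfsg.Lie Cfsg.Lie.ChevalleyDatum

universe u

variable {K : Type u} [Field K]

section
variable (D : ChevalleyDatum) (hB : H8Base.{u} D) (hB0 : H8Base.{0} D)
  (hA : H8ReflAll D) (hC : H8CommAll.{u} D) (hBN : H8BN D) (hW : H8BN2 D) (hO : H8Ord D)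
  (hO2 : H8Ord2 D) (posi : ℕ → ℕ) (hK : H8Blk D posi) (hR : H8BlkRead D posi)
  (σ τ π ϖ : ℕ → ℕ) (η : ℕ → ℤ) (hAut : H8Aut D σ τ π ϖ η) (f : K ≃+* K)
  (ρ : Equiv.Perm (Fin D.nroots)) (hρ : ∀ r, (ρ r).val = σ r.val)
  (πF : Fin D.rank → Fin D.rank) (orbs : List (List (Fin D.rank)))
  (T : H8Tw D hA hBN ρ πF orbs)
  (hσp : ∀ r, D.IsPosRoot r → D.IsPosRoot (σ r) ∧ posi (σ r) = posi r)
  (G1 : Subgroup (GL D.Idx K)) (hG1 : G1 ≤ D.group K)
  (hfix : ∀ g ∈ G1, h8Sig D σ τ π ϖ η hAut f g = g)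
  (hUfix : ∀ g ∈ D.posUnipotent K, h8Sig D σ τ π ϖ η hAut f g = g → g ∈ G1)
  (hnJ : ∀ J ∈ orbs, (h8nWU D hB (J.map Fin.val) : GL D.Idx K) ∈ G1)
  (hsc : h8scChk D = true)
  (hOrb : ∀ J ∈ orbs, ∃ i, H8AyOrb D posi σ η π (J.map Fin.val) i)
  (hdisj : ∀ J ∈ orbs, ∀ J' ∈ orbs, ∀ j, j ∈ J → j ∈ J' → J = J')
  (hxJ : ∀ J ∈ orbs, ∃ x ∈ G1, x ≠ 1 ∧ x ∈ Subgroup.closure {g : GL D.Idx K |
      ∃ j ∈ J, ∃ t : K, g = h8xU D hB (D.simple j.val) t})

include hB0 hA hC hBN hW hO hO2 hρ T hσp hG1 hfix hUfix hxJ in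
/-- the normalizer of `U ∩ G¹` in the twisted group is `B ∩ G¹` -/
theorem h8ay_normalizer_U1 :
    Subgroup.normalizer ((((D.posUnipotent K ⊓ G1).subgroupOf G1 : Subgroup ↥G1)) : Set ↥G1) =
      (D.borelSubgroup K ⊓ G1).subgroupOf G1 := by
  have hσpos : ∀ r, D.IsPosRoot r → D.IsPosRoot (σ r) := fun r hr => (hσp r hr).1
  rw [h8au_normalizer_subgroupOf _ _ (inf_le_right : D.posUnipotent K ⊓ G1 ≤ G1)]
  have hBP : D.borelSubgroup K ≤ Subgroup.normalizer (D.posUnipotent K : Set (GL D.Idx K)) := by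
    unfold ChevalleyDatum.borelSubgroup
    exact sup_le Subgroup.le_normalizer (h8_H_le_normalizer_U D hB)
  ext x
  rw [Subgroup.mem_subgroupOf, Subgroup.mem_subgroupOf, Subgroup.mem_inf]
  constructor
  · intro hx
    refine ⟨?_, x.2⟩
    obtain ⟨u1, hu1, m, hm, u, hu, huG, e⟩ := h8tw_normal_G1 D hB hA hC hBN hW hO hO2
      σ τ π ϖ η hAut f hσpos G1 hG1 hfix hUfix x.val x.2
    have huU : u ∈ D.posUnipotent K := h8Um_le_U D m hu
    have hu' : u ∈ D.posUnipotent K ⊓ G1 := ⟨huU, huG⟩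
    have hmn : m ∈ Subgroup.normalizer ((D.posUnipotent K ⊓ G1 : Subgroup (GL D.Idx K)) :
        Set (GL D.Idx K)) := by
      have : m = u1⁻¹ * x.val * u⁻¹ := by rw [e]; group
      rw [this]
      exact Subgroup.mul_mem _ (Subgroup.mul_mem _
        (Subgroup.inv_mem _ (Subgroup.le_normalizer hu1)) hx)
        (Subgroup.inv_mem _ (Subgroup.le_normalizer hu'))
    have hmH : m ∈ D.diagonalSubgroup K := by
      apply h8ay_N_fix D hB hB0 hA hBN hW hO2 σ τ π ϖ η hAut f ρ hρ πF orbs T G1 hfix hxJ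
        m hm.1 hm.2
      intro y hy
      exact ((Subgroup.mem_normalizer_iff.mp hmn y).mp hy).1
    rw [e]
    exact Subgroup.mul_mem _ (Subgroup.mul_mem _ (h8U_le_B D hu1.1) (h8H_le_B D hmH))
      (h8U_le_B D huU)
  · rintro ⟨hxB, -⟩
    rw [Subgroup.mem_normalizer_iff]
    intro y
    have h1 := Subgroup.mem_normalizer_iff.mp (hBP hxB) y
    constructor
    · rintro ⟨hyU, hyG⟩
      exact ⟨h1.mp hyU, G1.mul_mem (G1.mul_mem x.2 hyG) (G1.inv_mem x.2)⟩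
    · rintro ⟨hyU, hyG⟩
      refine ⟨h1.mpr hyU, ?_⟩
      have : y = (x.val)⁻¹ * (x.val * y * (x.val)⁻¹) * x.val := by group
      rw [this]
      exact G1.mul_mem (G1.mul_mem (G1.inv_mem x.2) hyG) x.2

include hB0 hA hC hBN hW hO hO2 hρ T hσp hG1 hfix hUfix hxJ in
/-- an automorphism of the twisted group fixing `U ∩ G¹` fixes `B ∩ G¹` -/
theorem h8ay_B_fixed (θ : ↥G1 ≃* ↥G1)
    (hU : ((D.posUnipotent K ⊓ G1).subgroupOf G1).map θ.toMonoidHom =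
      (D.posUnipotent K ⊓ G1).subgroupOf G1) :
    ((D.borelSubgroup K ⊓ G1).subgroupOf G1).map θ.toMonoidHom =
      (D.borelSubgroup K ⊓ G1).subgroupOf G1 := by
  rw [← h8ay_normalizer_U1 D hB hB0 hA hC hBN hW hO hO2 posi σ τ π ϖ η hAut f ρ hρ πF orbs T hσp
    G1 hG1 hfix hUfix hxJ, Subgroup.map_equiv_normalizer_eq, hU]

include hB0 hA hC hBN hW hO hO2 hK hR hρ T hσp hG1 hfix hUfix hnJ hsc hOrb hdisj hxJ in
/-- an automorphism of the twisted group fixing `U ∩ G¹` and `V ∩ G¹` permutes the groups of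
negative orbit products -/
theorem h8ay_neg_side (θ : ↥G1 ≃* ↥G1)
    (hU : ((D.posUnipotent K ⊓ G1).subgroupOf G1).map θ.toMonoidHom =
      (D.posUnipotent K ⊓ G1).subgroupOf G1)
    (hV : ((D.negUnipotent K ⊓ G1).subgroupOf G1).map θ.toMonoidHom =
      (D.negUnipotent K ⊓ G1).subgroupOf G1)
    (J : List (Fin D.rank)) (hJ : J ∈ orbs) :
    ∃ J' ∈ orbs, ∀ (a : K), f^[J.length] a = a → ∀ y : ↥G1,
      y.val = h8ayXm D hB f (J.map Fin.val) a →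
      ∃ c : K, f^[J'.length] c = c ∧ (θ y).val = h8ayXm D hB f (J'.map Fin.val) c := by
  have hσpos : ∀ r, D.IsPosRoot r → D.IsPosRoot (σ r) := fun r hr => (hσp r hr).1
  obtain ⟨P, hPB, hPN, hPS⟩ := h8tw_bnpair D hB hB0 hA hC hBN hW hO hO2 σ τ π ϖ η hAut f ρ hρ
    πF orbs T hσpos G1 hG1 hfix hUfix hnJ hdisj hxJ
  have hBfix : P.B.map θ.toMonoidHom = P.B := by
    rw [hPB]
    exact h8ay_B_fixed D hB hB0 hA hC hBN hW hO hO2 posi σ τ π ϖ η hAut f ρ hρ πF orbs T hσp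
      G1 hG1 hfix hUfix hxJ θ hU
  set s : ↥G1 := ⟨h8nWU D hB (J.map Fin.val), hnJ J hJ⟩ with hsdef
  have hsS : s ∈ P.S := by
    rw [hPS]
    exact ⟨J, hJ, rfl⟩
  obtain ⟨s', hs'S, hpar⟩ := H3.aut_parabolic_singleton P θ hBfix hsS
  have hs'S2 := hs'S
  rw [hPS] at hs'S2
  obtain ⟨J', hJ', hs'J⟩ := hs'S2
  refine ⟨J', hJ', ?_⟩
  intro a ha y hy
  obtain ⟨i, O⟩ := hOrb J hJ
  have hnB : (h8nWU D hB (J'.map Fin.val) : GL D.Idx K) ∉ D.borelSubgroup K := by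
    intro h
    apply H3.S_not_mem_B (P := P) hs'S
    rw [hPB, Subgroup.mem_subgroupOf, hs'J]
    exact ⟨h, hnJ J' hJ'⟩
  have hyV : y ∈ (D.negUnipotent K ⊓ G1).subgroupOf G1 := by
    rw [Subgroup.mem_subgroupOf, hy]
    exact ⟨h8ayXm_mem_V D hB f hBN hO2 _ O.lt a, by rw [← hy]; exact y.2⟩
  have hxp : h8ayXp D hB f (J.map Fin.val) (-a) ∈ G1 := by
    apply h8ayXp_mem_G1 D hB hC hBN hW posi σ τ π ϖ η hAut f orbs G1 hUfix hOrb J hJ
    rw [h8ay_iter_neg, ha]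
  have hyP : y ∈ P.parabolic {s} := by
    have e : y = s * ⟨h8ayXp D hB f (J.map Fin.val) (-a), hxp⟩ * s⁻¹ := by
      apply Subtype.ext
      show y.val = h8nWU D hB (J.map Fin.val) * h8ayXp D hB f (J.map Fin.val) (-a) *
        (h8nWU D hB (J.map Fin.val))⁻¹
      rw [h8ay_nXp D hB f hC hBN hW hA hsc _ O.lt O.orth, neg_neg, hy]
    rw [e]
    have hsP : s ∈ P.parabolic {s} :=
      (le_sup_right : Subgroup.closure {s} ≤ P.parabolic {s}) (Subgroup.subset_closure rfl)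
    have hxP : (⟨h8ayXp D hB f (J.map Fin.val) (-a), hxp⟩ : ↥G1) ∈ P.parabolic {s} := by
      apply (le_sup_left : P.B ≤ P.parabolic {s})
      rw [hPB, Subgroup.mem_subgroupOf]
      exact ⟨h8U_le_B D (h8ayXp_mem_U D hB f hBN _ O.lt _), hxp⟩
    exact Subgroup.mul_mem _ (Subgroup.mul_mem _ hsP hxP) (Subgroup.inv_mem _ hsP)
  have h1 : θ y ∈ (D.negUnipotent K ⊓ G1).subgroupOf G1 := by
    rw [← hV]
    exact ⟨y, hyV, rfl⟩
  have h2 : θ y ∈ P.parabolic {s'} := by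
    rw [← hpar]
    exact ⟨y, hyP, rfl⟩
  have h3 := h8au_mem_parabolic_singleton P hs'S h2
  have h4 : (θ y).val ∈ D.borelSubgroup K ∨
      ∃ b1 ∈ D.borelSubgroup K, ∃ b2 ∈ D.borelSubgroup K,
        (θ y).val = b1 * h8nWU D hB (J'.map Fin.val) * b2 := by
    rcases h3 with h | ⟨b, hb, b', hb', e⟩
    · left
      rw [hPB] at h
      exact (Subgroup.mem_subgroupOf.mp h).1
    · right
      rw [hPB] at hb hb'
      refine ⟨b.val, (Subgroup.mem_subgroupOf.mp hb).1, b'.val,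
        (Subgroup.mem_subgroupOf.mp hb').1, ?_⟩
      rw [e, ← hs'J]
      rfl
  exact h8ay_V_inf_PJ D hB hB0 hA hC hBN hW hO hO2 posi hK hR σ τ π ϖ η hAut f ρ πF orbs T hσp
    G1 hG1 hfix hUfix hOrb J' hJ' hnB _ (Subgroup.mem_subgroupOf.mp h1).1 (θ y).2 h4

end

end Cfsg.Agent.Lib.helper8
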