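import Mathlib
import Cfsg.Prelude.Def_ChevStructure
import Cfsg.Agent.Lib.helper8.ChevAY8
import Cfsg.Agent.Lib.helper8.ChevAY4

set_option autoImplicit false

namespace Cfsg.Agent.Lib.helper8

open Cfsg.Lie Cfsg.Lie.ChevalleyDatum

universe u

variable {K : Type u} [Field K]

section
variable (D : ChevalleyDatum) (hB : H8Base.{u} D) (f : K ≃+* K)

/-- conjugation by an element acting on root subgroups maps generated subgroups accordingly -/
theorem h8ay_conj_gen (g : GL D.Idx K) (R R' : ℕ → Prop)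
    (h : ∀ r, R r → ∃ r', R' r' ∧ H8Act D hB g r r') (x : GL D.Idx K)
    (hx : x ∈ Subgroup.closure {y : GL D.Idx K | ∃ r, R r ∧ ∃ t : K, y = h8xU D hB r t}) :
    g * x * g⁻¹ ∈ Subgroup.closure {y : GL D.Idx K | ∃ r, R' r ∧ ∃ t : K, y = h8xU D hB r t} := by
  induction hx using Subgroup.closure_induction with
  | mem y hy =>
    obtain ⟨r, hr, t, rfl⟩ := hy
    obtain ⟨r', hr', c, _, hc⟩ := h r hr
    rw [hc]
    exact Subgroup.subset_closure ⟨r', hr', _, rfl⟩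
  | one =>
    have : g * (1 : GL D.Idx K) * g⁻¹ = 1 := by group
    rw [this]
    exact Subgroup.one_mem _
  | mul a b _ _ ha hb =>
    have : g * (a * b) * g⁻¹ = (g * a * g⁻¹) * (g * b * g⁻¹) := by group
    rw [this]
    exact Subgroup.mul_mem _ ha hb
  | inv a _ ha =>
    have : g * a⁻¹ * g⁻¹ = (g * a * g⁻¹)⁻¹ := by group
    rw [this]
    exact Subgroup.inv_mem _ ha

theorem h8ayXp_mem_Lp (L : List ℕ) : ∀ s : K, h8ayXp D hB f L s ∈
    Subgroup.closure {y : GL D.Idx K | ∃ r, (∃ j ∈ L, r = D.simple j) ∧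
      ∃ t : K, y = h8xU D hB r t} := by
  induction L with
  | nil => intro s; exact Subgroup.one_mem _
  | cons j L ih =>
    intro s
    refine Subgroup.mul_mem _ (Subgroup.subset_closure
      ⟨_, ⟨j, List.mem_cons_self, rfl⟩, s, rfl⟩) ?_
    refine Subgroup.closure_mono ?_ (ih (f s))
    rintro y ⟨r, ⟨k, hk, rfl⟩, t, rfl⟩
    exact ⟨_, ⟨k, List.mem_cons_of_mem _ hk, rfl⟩, t, rfl⟩

theorem h8ayXm_mem_Lm (L : List ℕ) : ∀ s : K, h8ayXm D hB f L s ∈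
    Subgroup.closure {y : GL D.Idx K | ∃ r, (∃ j ∈ L, r = D.negIdx.getD (D.simple j) 0) ∧
      ∃ t : K, y = h8xU D hB r t} := by
  induction L with
  | nil => intro s; exact Subgroup.one_mem _
  | cons j L ih =>
    intro s
    refine Subgroup.mul_mem _ (Subgroup.subset_closure
      ⟨_, ⟨j, List.mem_cons_self, rfl⟩, s, rfl⟩) ?_
    refine Subgroup.closure_mono ?_ (ih (f s))
    rintro y ⟨r, ⟨k, hk, rfl⟩, t, rfl⟩
    exact ⟨_, ⟨k, List.mem_cons_of_mem _ hk, rfl⟩, t, rfl⟩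

theorem h8ay_Lp_eq (L : List ℕ) :
    Subgroup.closure {y : GL D.Idx K | ∃ r, (∃ j ∈ L, r = D.simple j) ∧
      ∃ t : K, y = h8xU D hB r t} =
    Subgroup.closure {g : GL D.Idx K | ∃ j ∈ L, ∃ t : K, g = h8xU D hB (D.simple j) t} := by
  congr 1
  ext y
  constructor
  · rintro ⟨r, ⟨j, hj, rfl⟩, t, rfl⟩
    exact ⟨j, hj, t, rfl⟩
  · rintro ⟨j, hj, t, rfl⟩
    exact ⟨_, ⟨j, hj, rfl⟩, t, rfl⟩

variable (hC : H8CommAll.{u} D) (hBN : H8BN D) (hW : H8BN2 D) (hO2 : H8Ord2 D)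
  (hA : H8ReflAll D) (hsc : h8scChk D = true)
  (hc2 : ∀ i < D.rank, D.cartan i (D.simple i) = 2)

include hC hBN hW hO2 hA hsc hc2 in
/-- the rank one datum of an orbit in the ambient group -/
theorem h8ay_rk_ambient (L : List ℕ) (hL : ∀ k ∈ L, k < D.rank) (horth : H8AyOrth D L)
    (hne : L ≠ []) :
    H8Rk (D.borelSubgroup K) (D.negUnipotent K) (h8ayXp D hB f L) (h8ayXm D hB f L)
      (h8ayHH D hB f L) (h8nWU D hB L) where
  xp_add := fun a b => (h8ayXp_add D hB f hC hBN hW L hL horth a b).symm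
  xm_add := fun a b => (h8ayXm_add D hB f hC hBN hW L hL horth a b).symm
  xp_inj := fun a b h => h8ayXp_inj D hB f hC hBN hW hO2 hA L hL horth hne a b h
  xm_inj := fun a b h => h8ayXm_inj D hB f hC hBN hW hO2 hA hsc L hL horth hne a b h
  xp_B := fun a => h8U_le_B D (h8ayXp_mem_U D hB f hBN L hL a)
  hh_B := fun a ha => h8H_le_B D (h8ayHH_mem D hB f hBN L hL a ha)
  xm_V := fun a => h8ayXm_mem_V D hB f hBN hO2 L hL a
  BV := by
    intro g h1 h2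
    have : g ∈ D.borelSubgroup K ⊓ D.negUnipotent K := ⟨h1, h2⟩
    rwa [h8_B_inf_V D hB hBN.negOK, Subgroup.mem_bot] at this
  W := fun s _ => h8ay_W D hB f hC hBN hW L hL horth s
  n_xp := fun s => h8ay_nXp D hB f hC hBN hW hA hsc L hL horth s
  hh_mul := fun a b ha hb => h8ayHH_mul D hB f hC hBN hW L hL horth a b ha hb
  hh_xp := fun s t hs => h8ayHH_Xp D hB f hC hBN hW hsc hc2 L hL horth s t hs
  hh_xm := fun s t hs => h8ayHH_Xm D hB f hC hBN hW hsc hc2 L hL horth s t hs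

end

section
variable (D : ChevalleyDatum) (hB : H8Base.{u} D) (hB0 : H8Base.{0} D)
  (hA : H8ReflAll D) (hC : H8CommAll.{u} D) (hBN : H8BN D) (hW : H8BN2 D) (hO : H8Ord D)
  (hO2 : H8Ord2 D) (posi : ℕ → ℕ) (hK : H8Blk D posi) (hR : H8BlkRead D posi)
  (σ τ π ϖ : ℕ → ℕ) (η : ℕ → ℤ) (hAut : H8Aut D σ τ π ϖ η) (f : K ≃+* K)
  (ρ : Equiv.Perm (Fin D.nroots)) (hρ : ∀ r, (ρ r).val = σ r.val)
  (πF : Fin D.rank → Fin D.rank) (orbs : List (List (Fin D.rank)))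
  (T : H8Tw D hA hBN ρ πF orbs)
  (hσp : ∀ r, D.IsPosRoot r → D.IsPosRoot (σ r) ∧ posi (σ r) = posi r)
  (G1 : Subgroup (GL D.Idx K)) (hG1 : G1 ≤ D.group K)
  (hfix : ∀ g ∈ G1, h8Sig D σ τ π ϖ η hAut f g = g)
  (hUfix : ∀ g ∈ D.posUnipotent K, h8Sig D σ τ π ϖ η hAut f g = g → g ∈ G1)
  (hnJ : ∀ J ∈ orbs, (h8nWU D hB (J.map Fin.val) : GL D.Idx K) ∈ G1)
  (hsc : h8scChk D = true)
  (hOrb : ∀ J ∈ orbs, ∃ i, H8AyOrb D posi σ η π (J.map Fin.val) i)

include hB0 hA hC hBN hW hO2 hK hR T hσp hfix hnJ hsc hOrb in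
/-- the elements of the twisted group in the subgroup generated by the negative simple root
subgroups of an orbit are the negative orbit products -/
theorem h8ay_surj_neg_G1 (J : List (Fin D.rank)) (hJ : J ∈ orbs) (u : GL D.Idx K)
    (hu : u ∈ Subgroup.closure {y : GL D.Idx K | ∃ r,
      (∃ j ∈ J.map Fin.val, r = D.negIdx.getD (D.simple j) 0) ∧ ∃ t : K, y = h8xU D hB r t})
    (hu1 : u ∈ G1) :
    ∃ a : K, f^[J.length] a = a ∧ u = h8ayXm D hB f (J.map Fin.val) a := by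
  obtain ⟨i, O⟩ := hOrb J hJ
  set nJ := (h8nWU D hB (J.map Fin.val) : GL D.Idx K) with hnJdef
  have h1 : nJ * u * nJ⁻¹ ∈ Subgroup.closure {y : GL D.Idx K | ∃ r,
      (∃ j ∈ J.map Fin.val, r = D.simple j) ∧ ∃ t : K, y = h8xU D hB r t} := by
    apply h8ay_conj_gen D hB nJ _ _ _ u hu
    rintro r ⟨j, hj, rfl⟩
    refine ⟨D.simple j, ⟨j, hj, rfl⟩, ?_⟩
    obtain ⟨j', hj', rfl⟩ := List.mem_map.mp hj
    have hpj := h8simple_pos D hBN j'.val j'.2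
    have hact := h8nWU_act (F := K) D hB hA (J.map Fin.val) (h8J_lt D J) _ (hW.neglt _ hpj.1)
    have e1 : h8sW D (J.map Fin.val) (D.simple j'.val) =
        (h8wF D hA J (h8simF D hBN j')).val :=
      (h8wPerm_val D hA (J.map Fin.val) (h8J_lt D J) (h8simF D hBN j')).symm
    have e2 := h8tw_wJ_simple D hB0 hA hBN hW hO2 ρ πF orbs T J hJ j' hj'
    have e3 : h8sW D (J.map Fin.val) (D.negIdx.getD (D.simple j'.val) 0) = D.simple j'.val := by
      rw [h8sW_neg D hA _ (h8J_lt D J) _ hpj.1, e1, e2]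
      exact (hO2.negneg _ hpj.1).2
    rw [e3] at hact
    exact hact
  rw [h8ay_Lp_eq] at h1
  obtain ⟨a, ha, e⟩ := h8ay_surj_G1 D hB hC hBN hO2 posi hK hR σ τ π ϖ η hAut f orbs hσp G1
    hfix hOrb J hJ _ h1 (G1.mul_mem (G1.mul_mem (hnJ J hJ) hu1) (G1.inv_mem (hnJ J hJ)))
  refine ⟨-a, by rw [h8ay_iter_neg, ha], ?_⟩
  have h2 := h8ay_nXm D hB f hC hBN hW hA hsc _ O.lt O.orth (-a)
  rw [neg_neg, ← e, ← hnJdef] at h2
  have : u = nJ⁻¹ * (nJ * u * nJ⁻¹) * nJ := by group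
  rw [this, ← h2]
  group

variable (w0 : List ℕ) (hw0 : h8w0Chk D w0 = true)
  (hn0 : (h8nWU D hB w0 : GL D.Idx K) ∈ G1)
  (hopp1 : ∀ J ∈ orbs, ∀ j ∈ J, ∃ l ∈ J,
    h8sW D w0 (D.negIdx.getD (D.simple j.val) 0) = D.simple l.val)
  (hopp2 : ∀ J ∈ orbs, ∀ l ∈ J, ∃ j ∈ J,
    h8sW D w0 (D.negIdx.getD (D.simple j.val) 0) = D.simple l.val)

include hA hC hBN hW hO2 hK hR hσp hfix hUfix hnJ hsc hOrb hw0 hn0 hopp1 in
/-- the longest element conjugates the negative orbit products to positive ones -/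
theorem h8ay_n0_Xm (J : List (Fin D.rank)) (hJ : J ∈ orbs) (a : K) (ha : f^[J.length] a = a) :
    ∃ d : K, f^[J.length] d = d ∧
      h8nWU D hB w0 * h8ayXm D hB f (J.map Fin.val) a * (h8nWU D hB w0)⁻¹ =
        h8ayXp D hB f (J.map Fin.val) d := by
  have hwr := (h8w0Chk_spec D hA w0 hw0).1
  have h1 := h8ayXm_mem_Lm D hB f (J.map Fin.val) a
  have h2 : h8nWU D hB w0 * h8ayXm D hB f (J.map Fin.val) a * (h8nWU D hB w0)⁻¹ ∈
      Subgroup.closure {y : GL D.Idx K | ∃ r, (∃ j ∈ J.map Fin.val, r = D.simple j) ∧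
        ∃ t : K, y = h8xU D hB r t} := by
    apply h8ay_conj_gen D hB _ _ _ _ _ h1
    rintro r ⟨j, hj, rfl⟩
    obtain ⟨j', hj', rfl⟩ := List.mem_map.mp hj
    obtain ⟨l, hl, e⟩ := hopp1 J hJ j' hj'
    have hpj := h8simple_pos D hBN j'.val j'.2
    refine ⟨D.simple l.val, ⟨l.val, List.mem_map.mpr ⟨l, hl, rfl⟩, rfl⟩, ?_⟩
    have hact := h8nWU_act (F := K) D hB hA w0 hwr _ (hW.neglt _ hpj.1)
    rwa [e] at hact
  rw [h8ay_Lp_eq] at h2
  have hm := h8ayXm_mem_G1 D hB hA hC hBN hW posi σ τ π ϖ η hAut f orbs G1 hUfix hnJ hsc hOrb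
    J hJ a ha
  exact h8ay_surj_G1 D hB hC hBN hO2 posi hK hR σ τ π ϖ η hAut f orbs hσp G1
    hfix hOrb J hJ _ h2 (G1.mul_mem (G1.mul_mem hn0 hm) (G1.inv_mem hn0))

include hB0 hA hC hBN hW hO2 hK hR T hσp hfix hUfix hnJ hsc hOrb hw0 hn0 hopp2 in
/-- the inverse of the longest element conjugates the positive orbit products to negative
ones -/
theorem h8ay_n0inv_Xp (J : List (Fin D.rank)) (hJ : J ∈ orbs) (a : K)
    (ha : f^[J.length] a = a) :
    ∃ b : K, f^[J.length] b = b ∧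
      (h8nWU D hB w0)⁻¹ * h8ayXp D hB f (J.map Fin.val) a * h8nWU D hB w0 =
        h8ayXm D hB f (J.map Fin.val) b := by
  have hwr := (h8w0Chk_spec D hA w0 hw0).1
  have h1 := h8ayXp_mem_Lp D hB f (J.map Fin.val) a
  have h2 : (h8nWU D hB w0)⁻¹ * h8ayXp D hB f (J.map Fin.val) a * ((h8nWU D hB w0)⁻¹)⁻¹ ∈
      Subgroup.closure {y : GL D.Idx K | ∃ r,
        (∃ j ∈ J.map Fin.val, r = D.negIdx.getD (D.simple j) 0) ∧
        ∃ t : K, y = h8xU D hB r t} := by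
    apply h8ay_conj_gen D hB _ _ _ _ _ h1
    rintro r ⟨l, hl, rfl⟩
    obtain ⟨l', hl', rfl⟩ := List.mem_map.mp hl
    obtain ⟨j, hj, e⟩ := hopp2 J hJ l' hl'
    have hpj := h8simple_pos D hBN j.val j.2
    refine ⟨D.negIdx.getD (D.simple j.val) 0,
      ⟨j.val, List.mem_map.mpr ⟨j, hj, rfl⟩, rfl⟩, ?_⟩
    have hact := h8nWU_act (F := K) D hB hA w0 hwr _ (hW.neglt _ hpj.1)
    rw [e] at hact
    exact h8act_inv D hB _ _ _ hact
  rw [inv_inv] at h2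
  have hm := h8ayXp_mem_G1 D hB hC hBN hW posi σ τ π ϖ η hAut f orbs G1 hUfix hOrb J hJ a ha
  exact h8ay_surj_neg_G1 D hB hB0 hA hC hBN hW hO2 posi hK hR σ τ π ϖ η hAut f ρ πF orbs T hσp
    G1 hfix hnJ hsc hOrb J hJ _ h2 (G1.mul_mem (G1.mul_mem (G1.inv_mem hn0) hm) hn0)

end

end Cfsg.Agent.Lib.helper8
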