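import Mathlib
import Cfsg.Prelude.Def_ChevStructure
import Cfsg.Agent.Lib.helper8.ChevAY9
import Cfsg.Agent.Lib.helper8.ChevAU6

set_option autoImplicit false

namespace Cfsg.Agent.Lib.helper8

open Cfsg.Lie Cfsg.Lie.ChevalleyDatum

universe u

variable {K : Type u} [Field K]

theorem h8ay_map_inf_conj {Γ : Type*} [Group Γ] (A G : Subgroup Γ) (n : Γ) (hn : n ∈ G) :
    (A ⊓ G).map (MulAut.conj n).toMonoidHom = A.map (MulAut.conj n).toMonoidHom ⊓ G := by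
  rw [Subgroup.map_inf _ _ _ (MulAut.conj n).injective, h8au_map_conj_mem G n hn]

section
variable (D : ChevalleyDatum) (hB : H8Base.{u} D) (hB0 : H8Base.{0} D)
  (hA : H8ReflAll D) (hC : H8CommAll.{u} D) (hBN : H8BN D) (hW : H8BN2 D) (hO : H8Ord D)
  (hO2 : H8Ord2 D) (posi : ℕ → ℕ) (hK : H8Blk D posi) (hR : H8BlkRead D posi)
  (σ τ π ϖ : ℕ → ℕ) (η : ℕ → ℤ) (hAut : H8Aut D σ τ π ϖ η) (f : K ≃+* K)
  (ρ : Equiv.Perm (Fin D.nroots)) (hρ : ∀ r, (ρ r).val = σ r.val)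
  (πF : Fin D.rank → Fin D.rank) (orbs : List (List (Fin D.rank)))
  (T : H8Tw D hA hBN ρ πF orbs)
  (hσp : ∀ r, D.IsPosRoot r → D.IsPosRoot (σ r) ∧ posi (σ r) = posi r)
  (G1 : Subgroup (GL D.Idx K)) (hG1 : G1 ≤ D.group K)
  (hfix : ∀ g ∈ G1, h8Sig D σ τ π ϖ η hAut f g = g)
  (hUfix : ∀ g ∈ D.posUnipotent K, h8Sig D σ τ π ϖ η hAut f g = g → g ∈ G1)
  (hnJ : ∀ J ∈ orbs, (h8nWU D hB (J.map Fin.val) : GL D.Idx K) ∈ G1)
  (hsc : h8scChk D = true)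
  (hOrb : ∀ J ∈ orbs, ∃ i, H8AyOrb D posi σ η π (J.map Fin.val) i)
  (hdisj : ∀ J ∈ orbs, ∀ J' ∈ orbs, ∀ j, j ∈ J → j ∈ J' → J = J')
  (hxJ : ∀ J ∈ orbs, ∃ x ∈ G1, x ≠ 1 ∧ x ∈ Subgroup.closure {g : GL D.Idx K |
      ∃ j ∈ J, ∃ t : K, g = h8xU D hB (D.simple j.val) t})
  (w0 : List ℕ) (hw0 : h8w0Chk D w0 = true)
  (hn0 : (h8nWU D hB w0 : GL D.Idx K) ∈ G1)
  (hopp1 : ∀ J ∈ orbs, ∀ j ∈ J, ∃ l ∈ J,
    h8sW D w0 (D.negIdx.getD (D.simple j.val) 0) = D.simple l.val)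
  (hopp2 : ∀ J ∈ orbs, ∀ l ∈ J, ∃ j ∈ J,
    h8sW D w0 (D.negIdx.getD (D.simple j.val) 0) = D.simple l.val)

include hB0 hA hC hBN hW hO hO2 hK hR hρ T hσp hG1 hfix hUfix hnJ hsc hOrb hdisj hxJ hw0 hn0
  hopp1 hopp2 in
/-- an automorphism of the twisted group fixing `U ∩ G¹` and `V ∩ G¹` permutes the groups of
positive orbit products -/
theorem h8ay_pos_side [Finite K] (θ : ↥G1 ≃* ↥G1)
    (hU : ((D.posUnipotent K ⊓ G1).subgroupOf G1).map θ.toMonoidHom =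
      (D.posUnipotent K ⊓ G1).subgroupOf G1)
    (hV : ((D.negUnipotent K ⊓ G1).subgroupOf G1).map θ.toMonoidHom =
      (D.negUnipotent K ⊓ G1).subgroupOf G1)
    (J : List (Fin D.rank)) (hJ : J ∈ orbs) :
    ∃ J' ∈ orbs, ∀ (a : K), f^[J.length] a = a → ∀ y : ↥G1,
      y.val = h8ayXp D hB f (J.map Fin.val) a →
      ∃ c : K, f^[J'.length] c = c ∧ (θ y).val = h8ayXp D hB f (J'.map Fin.val) c := by
  set n₀ : ↥G1 := ⟨h8nWU D hB w0, hn0⟩ with hn₀def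
  have hUV : ((D.posUnipotent K ⊓ G1).subgroupOf G1).map (MulAut.conj n₀).toMonoidHom =
      (D.negUnipotent K ⊓ G1).subgroupOf G1 := by
    rw [h8au_subgroupOf_map_conj]
    show ((D.posUnipotent K ⊓ G1).map
      (MulAut.conj (h8nWU D hB w0 : GL D.Idx K)).toMonoidHom).subgroupOf G1 = _
    rw [h8ay_map_inf_conj _ _ _ hn0, h8_conj_U_eq_V D hB hA w0 hw0]
  have hVU : ((D.negUnipotent K ⊓ G1).subgroupOf G1).map (MulAut.conj n₀).toMonoidHom =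
      (D.posUnipotent K ⊓ G1).subgroupOf G1 := by
    rw [h8au_subgroupOf_map_conj]
    show ((D.negUnipotent K ⊓ G1).map
      (MulAut.conj (h8nWU D hB w0 : GL D.Idx K)).toMonoidHom).subgroupOf G1 = _
    rw [h8ay_map_inf_conj _ _ _ hn0, h8au_conj_V_eq_U D hB hA hBN hW hO2 w0 hw0]
  have hUV' : ((D.negUnipotent K ⊓ G1).subgroupOf G1).map (MulAut.conj n₀⁻¹).toMonoidHom =
      (D.posUnipotent K ⊓ G1).subgroupOf G1 := by
    rw [← hUV, h8au_map_conj_conj, inv_mul_cancel, h8au_map_conj_one]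
  have hVU' : ((D.posUnipotent K ⊓ G1).subgroupOf G1).map (MulAut.conj n₀⁻¹).toMonoidHom =
      (D.negUnipotent K ⊓ G1).subgroupOf G1 := by
    rw [← hVU, h8au_map_conj_conj, inv_mul_cancel, h8au_map_conj_one]
  set τ' : ↥G1 ≃* ↥G1 := ((MulAut.conj n₀).trans θ).trans (MulAut.conj n₀⁻¹) with hτdef
  have hτU : ((D.posUnipotent K ⊓ G1).subgroupOf G1).map τ'.toMonoidHom =
      (D.posUnipotent K ⊓ G1).subgroupOf G1 := by
    rw [hτdef, h8au_map_trans', h8au_map_trans', hUV, hV, hUV']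
  have hτV : ((D.negUnipotent K ⊓ G1).subgroupOf G1).map τ'.toMonoidHom =
      (D.negUnipotent K ⊓ G1).subgroupOf G1 := by
    rw [hτdef, h8au_map_trans', h8au_map_trans', hVU, hU, hVU']
  obtain ⟨J', hJ', hneg⟩ := h8ay_neg_side D hB hB0 hA hC hBN hW hO hO2 posi hK hR σ τ π ϖ η hAut
    f ρ hρ πF orbs T hσp G1 hG1 hfix hUfix hnJ hsc hOrb hdisj hxJ τ' hτU hτV J hJ
  refine ⟨J', hJ', ?_⟩
  intro a ha y hy
  obtain ⟨b, hb, e1⟩ := h8ay_n0inv_Xp D hB hB0 hA hC hBN hW hO2 posi hK hR σ τ π ϖ η hAut f ρ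
    πF orbs T hσp G1 hfix hUfix hnJ hsc hOrb w0 hw0 hn0 hopp2 J hJ a ha
  have hzm := h8ayXm_mem_G1 D hB hA hC hBN hW posi σ τ π ϖ η hAut f orbs G1 hUfix hnJ hsc hOrb
    J hJ b hb
  set z : ↥G1 := ⟨h8ayXm D hB f (J.map Fin.val) b, hzm⟩ with hzdef
  obtain ⟨c, hc, e2⟩ := hneg b hb z rfl
  obtain ⟨d, hd, e3⟩ := h8ay_n0_Xm D hB hA hC hBN hW hO2 posi hK hR σ τ π ϖ η hAut f orbs hσp
    G1 hfix hUfix hnJ hsc hOrb w0 hw0 hn0 hopp1 J' hJ' c hc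
  refine ⟨d, hd, ?_⟩
  have ey : y = n₀ * z * n₀⁻¹ := by
    apply Subtype.ext
    show y.val = h8nWU D hB w0 * h8ayXm D hB f (J.map Fin.val) b * (h8nWU D hB w0)⁻¹
    rw [← e1, hy]
    group
  have eθ : ∀ x, θ (n₀ * x * n₀⁻¹) = n₀ * τ' x * n₀⁻¹ := by
    intro x
    rw [hτdef]
    simp [MulEquiv.trans_apply, mul_assoc]
  rw [ey, eθ]
  show h8nWU D hB w0 * (τ' z).val * (h8nWU D hB w0)⁻¹ = _
  rw [e2, e3]

include hB0 hA hC hBN hW hO hO2 hK hR hρ T hσp hG1 hfix hUfix hnJ hsc hOrb hdisj hxJ hw0 hn0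
  hopp1 hopp2 in
/-- the two permutations of the orbits agree -/
theorem h8ay_match [Finite K] (hS : h8scommChk D = true)
    (hc2 : ∀ i < D.rank, D.cartan i (D.simple i) = 2) (θ : ↥G1 ≃* ↥G1)
    (hU : ((D.posUnipotent K ⊓ G1).subgroupOf G1).map θ.toMonoidHom =
      (D.posUnipotent K ⊓ G1).subgroupOf G1)
    (hV : ((D.negUnipotent K ⊓ G1).subgroupOf G1).map θ.toMonoidHom =
      (D.negUnipotent K ⊓ G1).subgroupOf G1)
    (J : List (Fin D.rank)) (hJ : J ∈ orbs) :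
    ∃ J' ∈ orbs, (∀ (a : K), f^[J.length] a = a → ∀ y : ↥G1,
      y.val = h8ayXp D hB f (J.map Fin.val) a →
      ∃ c : K, f^[J'.length] c = c ∧ (θ y).val = h8ayXp D hB f (J'.map Fin.val) c) ∧
      (∀ (a : K), f^[J.length] a = a → ∀ y : ↥G1,
      y.val = h8ayXm D hB f (J.map Fin.val) a →
      ∃ c : K, f^[J'.length] c = c ∧ (θ y).val = h8ayXm D hB f (J'.map Fin.val) c) := by
  obtain ⟨Jm, hJm, hneg⟩ := h8ay_neg_side D hB hB0 hA hC hBN hW hO hO2 posi hK hR σ τ π ϖ η hAut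
    f ρ hρ πF orbs T hσp G1 hG1 hfix hUfix hnJ hsc hOrb hdisj hxJ θ hU hV J hJ
  obtain ⟨Jp, hJp, hpos⟩ := h8ay_pos_side D hB hB0 hA hC hBN hW hO hO2 posi hK hR σ τ π ϖ η hAut
    f ρ hρ πF orbs T hσp G1 hG1 hfix hUfix hnJ hsc hOrb hdisj hxJ w0 hw0 hn0 hopp1 hopp2
    θ hU hV J hJ
  have hjj : Jp = Jm := by
    by_contra hne
    obtain ⟨i, O⟩ := hOrb J hJ
    have hiter1 : ∀ n : ℕ, f^[n] (1 : K) = 1 := by
      intro n
      induction n with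
      | zero => rfl
      | succ n ih => rw [Function.iterate_succ_apply, map_one, ih]
    have h1m := h8ayXp_mem_G1 D hB hC hBN hW posi σ τ π ϖ η hAut f orbs G1 hUfix hOrb J hJ 1
      (hiter1 _)
    have hm1 : f^[J.length] (-1 : K) = -1 := by rw [h8ay_iter_neg, hiter1]
    have h2m := h8ayXm_mem_G1 D hB hA hC hBN hW posi σ τ π ϖ η hAut f orbs G1 hUfix hnJ hsc hOrb
      J hJ (-1) hm1
    obtain ⟨c, _, hc⟩ := hpos 1 (hiter1 _) ⟨_, h1m⟩ rfl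
    obtain ⟨d, _, hd⟩ := hneg (-1) hm1 ⟨_, h2m⟩ rfl
    -- the images commute
    have hcomm : Commute (h8ayXp D hB f (Jp.map Fin.val) c) (h8ayXm D hB f (Jm.map Fin.val) d) := by
      have h3 := h8ayXp_mem_Lp D hB f (Jp.map Fin.val) c
      have h4 := h8ayXm_mem_Lm D hB f (Jm.map Fin.val) d
      refine h8ay_closure_commute _ _ ?_ _ h3 _ h4
      rintro x ⟨r, ⟨j, hj, rfl⟩, t, rfl⟩ y ⟨r', ⟨k, hk, rfl⟩, t', rfl⟩
      obtain ⟨j', hj', rfl⟩ := List.mem_map.mp hj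
      obtain ⟨k', hk', rfl⟩ := List.mem_map.mp hk
      have hjk : j'.val ≠ k'.val := by
        intro e
        have : j' = k' := Fin.ext e
        subst this
        exact hne (hdisj Jp hJp Jm hJm j' hj' hk')
      exact (h8au_simple_comm D hB hC hBN hW hS j'.val k'.val j'.2 k'.2 hjk t t').symm
    have h5 : θ (⟨_, h1m⟩ * ⟨_, h2m⟩) = θ (⟨_, h2m⟩ * ⟨_, h1m⟩) := by
      rw [map_mul, map_mul]
      apply Subtype.ext
      show (θ ⟨_, h1m⟩).val * (θ ⟨_, h2m⟩).val = (θ ⟨_, h2m⟩).val * (θ ⟨_, h1m⟩).val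
      rw [hc, hd]
      exact hcomm.eq
    have h6 := congrArg Subtype.val (θ.injective h5)
    have h7 : h8ayXp D hB f (J.map Fin.val) 1 * h8ayXm D hB f (J.map Fin.val) (-1) =
        h8ayXm D hB f (J.map Fin.val) (-1) * h8ayXp D hB f (J.map Fin.val) 1 := h6
    have R := h8ay_rk_ambient D hB f hC hBN hW hO2 hA hsc hc2 _ O.lt O.orth O.ne
    have h8 : h8ayXm D hB f (J.map Fin.val) (-1) * h8ayXp D hB f (J.map Fin.val) 1 *
        (h8ayXm D hB f (J.map Fin.val) (-1))⁻¹ = h8ayXp D hB f (J.map Fin.val) 1 := by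
      rw [← h7]
      group
    have := R.key0 (-1) 1 1 one_ne_zero h8
    exact one_ne_zero (neg_eq_zero.mp this)
  subst hjj
  exact ⟨Jp, hJp, hpos, hneg⟩

end

end Cfsg.Agent.Lib.helper8
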