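import Mathlib
import Cfsg.Prelude.Def_ChevStructure
import Cfsg.Agent.Lib.helper8.ChevAY10

set_option autoImplicit false

namespace Cfsg.Agent.Lib.helper8

open Cfsg.Lie Cfsg.Lie.ChevalleyDatum

universe u

variable {K : Type u} [Field K]

theorem h8ay_iter_one (f : K ≃+* K) : ∀ (n : ℕ), f^[n] (1 : K) = 1 := by
  intro n
  induction n with
  | zero => rfl
  | succ n ih => rw [Function.iterate_succ_apply, map_one, ih]

theorem h8ay_iter_mul (f : K ≃+* K) : ∀ (n : ℕ) (a b : K), f^[n] (a * b) = f^[n] a * f^[n] b := by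
  intro n
  induction n with
  | zero => intro a b; rfl
  | succ n ih =>
    intro a b
    rw [Function.iterate_succ_apply, Function.iterate_succ_apply, Function.iterate_succ_apply,
      map_mul, ih]

theorem h8ay_iter_add (f : K ≃+* K) : ∀ (n : ℕ) (a b : K), f^[n] (a + b) = f^[n] a + f^[n] b := by
  intro n
  induction n with
  | zero => intro a b; rfl
  | succ n ih =>
    intro a b
    rw [Function.iterate_succ_apply, Function.iterate_succ_apply, Function.iterate_succ_apply,
      map_add, ih]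

/-- the fixed field of a power of a field automorphism -/
def h8ayFix (f : K ≃+* K) (m : ℕ) : Subfield K where
  carrier := {a | f^[m] a = a}
  mul_mem' := by
    intro a b ha hb
    show f^[m] (a * b) = a * b
    rw [h8ay_iter_mul, ha, hb]
  one_mem' := h8ay_iter_one f m
  add_mem' := by
    intro a b ha hb
    show f^[m] (a + b) = a + b
    rw [h8ay_iter_add, ha, hb]
  zero_mem' := h8ay_iter_zero f m
  neg_mem' := by
    intro a ha
    show f^[m] (-a) = -a
    rw [h8ay_iter_neg, ha]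
  inv_mem' := by
    intro a ha
    show f^[m] a⁻¹ = a⁻¹
    rw [h8ay_iter_inv, ha]

theorem h8ayFix_mem (f : K ≃+* K) (m : ℕ) (a : K) : a ∈ h8ayFix f m ↔ f^[m] a = a := Iff.rfl

section
variable (D : ChevalleyDatum) (hB : H8Base.{u} D) (hB0 : H8Base.{0} D)
  (hA : H8ReflAll D) (hC : H8CommAll.{u} D) (hBN : H8BN D) (hW : H8BN2 D) (hO : H8Ord D)
  (hO2 : H8Ord2 D) (posi : ℕ → ℕ) (hK : H8Blk D posi) (hR : H8BlkRead D posi)
  (σ τ π ϖ : ℕ → ℕ) (η : ℕ → ℤ) (hAut : H8Aut D σ τ π ϖ η) (f : K ≃+* K)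
  (orbs : List (List (Fin D.rank)))
  (G1 : Subgroup (GL D.Idx K))
  (hUfix : ∀ g ∈ D.posUnipotent K, h8Sig D σ τ π ϖ η hAut f g = g → g ∈ G1)
  (hnJ : ∀ J ∈ orbs, (h8nWU D hB (J.map Fin.val) : GL D.Idx K) ∈ G1)
  (hsc : h8scChk D = true)
  (hc2 : ∀ i < D.rank, D.cartan i (D.simple i) = 2)
  (hOrb : ∀ J ∈ orbs, ∃ i, H8AyOrb D posi σ η π (J.map Fin.val) i)

include hA hC hBN hW hUfix hnJ hsc hOrb in
/-- the torus elements of an orbit with a fixed parameter lie in the twisted group -/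
theorem h8ayHH_mem_G1 (J : List (Fin D.rank)) (hJ : J ∈ orbs) (a : K)
    (ha : f^[J.length] a = a) : h8ayHH D hB f (J.map Fin.val) a ∈ G1 := by
  obtain ⟨i, O⟩ := hOrb J hJ
  have h1 := h8ay_W D hB f hC hBN hW _ O.lt O.orth a
  have h2 : h8ayHH D hB f (J.map Fin.val) a =
      h8ayXp D hB f (J.map Fin.val) a * h8ayXm D hB f (J.map Fin.val) (-a⁻¹) *
        h8ayXp D hB f (J.map Fin.val) a * (h8nWU D hB (J.map Fin.val))⁻¹ := by
    rw [h1]
    group
  rw [h2]
  have hp := h8ayXp_mem_G1 D hB hC hBN hW posi σ τ π ϖ η hAut f orbs G1 hUfix hOrb J hJ a ha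
  have hm := h8ayXm_mem_G1 D hB hA hC hBN hW posi σ τ π ϖ η hAut f orbs G1 hUfix hnJ hsc hOrb
    J hJ (-a⁻¹) (by rw [h8ay_iter_neg, h8ay_iter_inv, ha])
  exact G1.mul_mem (G1.mul_mem (G1.mul_mem hp hm) hp) (G1.inv_mem (hnJ J hJ))

include hA hC hBN hW hO2 hUfix hnJ hsc hc2 hOrb in
/-- an automorphism of the twisted group preserving the positive and the negative orbit
products of an orbit acts on them through a scalar and a field automorphism -/
theorem h8ay_structure [Finite K] (θ : ↥G1 ≃* ↥G1) (J : List (Fin D.rank)) (hJ : J ∈ orbs)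
    (hpos : ∀ (a : K), f^[J.length] a = a → ∀ y : ↥G1,
      y.val = h8ayXp D hB f (J.map Fin.val) a →
      ∃ c : K, f^[J.length] c = c ∧ (θ y).val = h8ayXp D hB f (J.map Fin.val) c)
    (hneg : ∀ (a : K), f^[J.length] a = a → ∀ y : ↥G1,
      y.val = h8ayXm D hB f (J.map Fin.val) a →
      ∃ c : K, f^[J.length] c = c ∧ (θ y).val = h8ayXm D hB f (J.map Fin.val) c) :
    ∃ (c : K) (φ : ↥(h8ayFix f J.length) ≃+* ↥(h8ayFix f J.length)), c ≠ 0 ∧
      f^[J.length] c = c ∧
      (∀ (a : ↥(h8ayFix f J.length)) (y : ↥G1),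
        y.val = h8ayXp D hB f (J.map Fin.val) a.val →
        (θ y).val = h8ayXp D hB f (J.map Fin.val) (c * (φ a).val)) ∧
      (∀ (a : ↥(h8ayFix f J.length)) (y : ↥G1),
        y.val = h8ayXm D hB f (J.map Fin.val) a.val →
        (θ y).val = h8ayXm D hB f (J.map Fin.val) (c⁻¹ * (φ a).val)) ∧
      (∀ (t : ↥(h8ayFix f J.length)), t ≠ 0 → ∀ y : ↥G1,
        y.val = h8ayHH D hB f (J.map Fin.val) t.val →
        (θ y).val = h8ayHH D hB f (J.map Fin.val) (φ t).val) := by
  obtain ⟨i, O⟩ := hOrb J hJ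
  have R := h8ay_rk_ambient D hB f hC hBN hW hO2 hA hsc hc2 _ O.lt O.orth O.ne
  have hpm := fun (a : ↥(h8ayFix f J.length)) =>
    h8ayXp_mem_G1 D hB hC hBN hW posi σ τ π ϖ η hAut f orbs G1 hUfix hOrb J hJ a.val a.2
  have hmm := fun (a : ↥(h8ayFix f J.length)) =>
    h8ayXm_mem_G1 D hB hA hC hBN hW posi σ τ π ϖ η hAut f orbs G1 hUfix hnJ hsc hOrb J hJ a.val a.2
  let xp : ↥(h8ayFix f J.length) → ↥G1 := fun a => ⟨h8ayXp D hB f (J.map Fin.val) a.val, hpm a⟩
  let xm : ↥(h8ayFix f J.length) → ↥G1 := fun a => ⟨h8ayXm D hB f (J.map Fin.val) a.val, hmm a⟩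
  let nn : ↥G1 := ⟨h8nWU D hB (J.map Fin.val), hnJ J hJ⟩
  obtain ⟨hh, hhdef⟩ : ∃ hh : ↥(h8ayFix f J.length) → ↥G1,
      ∀ a, hh a = xp a * xm (-a⁻¹) * xp a * nn⁻¹ := ⟨_, fun _ => rfl⟩
  have hhval : ∀ a : ↥(h8ayFix f J.length), a ≠ 0 →
      (hh a).val = h8ayHH D hB f (J.map Fin.val) a.val := by
    intro a ha
    have ha' : a.val ≠ 0 := fun h => ha (Subtype.ext h)
    rw [hhdef]
    show h8ayXp D hB f (J.map Fin.val) a.val *
      h8ayXm D hB f (J.map Fin.val) ((-a⁻¹ : ↥(h8ayFix f J.length)) : K) *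
      h8ayXp D hB f (J.map Fin.val) a.val * (h8nWU D hB (J.map Fin.val))⁻¹ = _
    have e : ((-a⁻¹ : ↥(h8ayFix f J.length)) : K) = -(a.val)⁻¹ := by simp
    rw [e, R.W a.val ha']
    group
  have RG : H8Rk ((D.borelSubgroup K).subgroupOf G1) ((D.negUnipotent K).subgroupOf G1)
      xp xm hh nn :=
    { xp_add := by
        intro a b
        apply Subtype.ext
        show h8ayXp D hB f (J.map Fin.val) ((a + b : ↥(h8ayFix f J.length)) : K) = _
        rw [Subfield.coe_add, R.xp_add]
        rfl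
      xm_add := by
        intro a b
        apply Subtype.ext
        show h8ayXm D hB f (J.map Fin.val) ((a + b : ↥(h8ayFix f J.length)) : K) = _
        rw [Subfield.coe_add, R.xm_add]
        rfl
      xp_inj := by
        intro a b h
        exact Subtype.ext (R.xp_inj (congrArg Subtype.val h))
      xm_inj := by
        intro a b h
        exact Subtype.ext (R.xm_inj (congrArg Subtype.val h))
      xp_B := fun a => Subgroup.mem_subgroupOf.mpr (R.xp_B a.val)
      hh_B := by
        intro a ha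
        rw [Subgroup.mem_subgroupOf, hhval a ha]
        exact R.hh_B a.val (fun h => ha (Subtype.ext h))
      xm_V := fun a => Subgroup.mem_subgroupOf.mpr (R.xm_V a.val)
      BV := by
        intro g h1 h2
        exact Subtype.ext (R.BV g.val (Subgroup.mem_subgroupOf.mp h1)
          (Subgroup.mem_subgroupOf.mp h2))
      W := by
        intro s _
        rw [hhdef]
        group
      n_xp := by
        intro s
        apply Subtype.ext
        show h8nWU D hB (J.map Fin.val) * h8ayXp D hB f (J.map Fin.val) s.val *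
          (h8nWU D hB (J.map Fin.val))⁻¹ =
          h8ayXm D hB f (J.map Fin.val) ((-s : ↥(h8ayFix f J.length)) : K)
        rw [Subfield.coe_neg, R.n_xp]
      hh_mul := by
        intro a b ha hb
        apply Subtype.ext
        show (hh (a * b)).val = (hh a).val * (hh b).val
        rw [hhval a ha, hhval b hb, hhval (a * b) (mul_ne_zero ha hb), Subfield.coe_mul]
        exact R.hh_mul a.val b.val (fun h => ha (Subtype.ext h)) (fun h => hb (Subtype.ext h))
      hh_xp := by
        intro s t hs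
        apply Subtype.ext
        show (hh s).val * h8ayXp D hB f (J.map Fin.val) t.val * ((hh s).val)⁻¹ =
          h8ayXp D hB f (J.map Fin.val) ((s ^ 2 * t : ↥(h8ayFix f J.length)) : K)
        have e : ((s ^ 2 * t : ↥(h8ayFix f J.length)) : K) = s.val ^ 2 * t.val := by simp
        rw [hhval s hs, e]
        exact R.hh_xp s.val t.val (fun h => hs (Subtype.ext h))
      hh_xm := by
        intro s t hs
        apply Subtype.ext
        show (hh s).val * h8ayXm D hB f (J.map Fin.val) t.val * ((hh s).val)⁻¹ =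
          h8ayXm D hB f (J.map Fin.val) (((s ^ 2)⁻¹ * t : ↥(h8ayFix f J.length)) : K)
        have e : (((s ^ 2)⁻¹ * t : ↥(h8ayFix f J.length)) : K) = (s.val ^ 2)⁻¹ * t.val := by
          simp
        rw [hhval s hs, e]
        exact R.hh_xm s.val t.val (fun h => hs (Subtype.ext h)) }
  -- the parameter maps
  have hexp : ∀ a : ↥(h8ayFix f J.length), ∃ c : ↥(h8ayFix f J.length), θ (xp a) = xp c := by
    intro a
    obtain ⟨c, hc, e⟩ := hpos a.val a.2 (xp a) rfl
    exact ⟨⟨c, hc⟩, Subtype.ext e⟩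
  have hexm : ∀ a : ↥(h8ayFix f J.length), ∃ c : ↥(h8ayFix f J.length), θ (xm a) = xm c := by
    intro a
    obtain ⟨c, hc, e⟩ := hneg a.val a.2 (xm a) rfl
    exact ⟨⟨c, hc⟩, Subtype.ext e⟩
  choose fp hfp using hexp
  choose gm hgm using hexm
  have : Finite ↥(h8ayFix f J.length) := Subtype.finite
  obtain ⟨hf1, φ, h1, h2, h3⟩ := RG.ringAut θ fp gm hfp hgm
  refine ⟨(fp 1).val, φ, fun h => hf1 (Subtype.ext h), (fp 1).2, ?_, ?_, ?_⟩
  · intro a y hy
    have : y = xp a := Subtype.ext hy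
    rw [this, hfp, h1]
    rfl
  · intro a y hy
    have : y = xm a := Subtype.ext hy
    rw [this, hgm, h2]
    show h8ayXm D hB f (J.map Fin.val) (((fp 1)⁻¹ * φ a : ↥(h8ayFix f J.length)) : K) = _
    rw [Subfield.coe_mul, Subfield.coe_inv]
  · intro t ht y hy
    have : y = hh t := Subtype.ext (hy.trans (hhval t ht).symm)
    rw [this, h3 t ht, hhval _ ((map_ne_zero φ).mpr ht)]

end

end Cfsg.Agent.Lib.helper8
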