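import Mathlib
import Cfsg.Agent.Lib.helper8.ChevAY1

set_option autoImplicit false

namespace Cfsg.Agent.Lib.helper8

universe u

/-- an automorphism of the ambient group mapping the generators of a subgroup, and their
preimages, into the subgroup stabilizes it -/
theorem h8ay_restrict_map {Γ : Type u} [Group Γ] (G1 : Subgroup Γ) (Θ : Γ ≃* Γ) (S : Set Γ)
    (hG : G1 = Subgroup.closure S) (h1 : ∀ g ∈ S, Θ g ∈ G1) (h2 : ∀ g ∈ S, Θ.symm g ∈ G1) :
    G1.map Θ.toMonoidHom = G1 := by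
  apply le_antisymm
  · rw [Subgroup.map_le_iff_le_comap]
    conv_lhs => rw [hG]
    rw [Subgroup.closure_le]
    intro g hg
    exact h1 g hg
  · have h3 : G1 ≤ G1.comap Θ.symm.toMonoidHom := by
      conv_lhs => rw [hG]
      rw [Subgroup.closure_le]
      intro g hg
      exact h2 g hg
    intro g hg
    refine ⟨Θ.symm g, h3 hg, ?_⟩
    simp

/-- the restriction of an automorphism of the ambient group to a stable subgroup -/
def h8ayRes {Γ : Type u} [Group Γ] (G1 : Subgroup Γ) (Θ : Γ ≃* Γ)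
    (hmap : G1.map Θ.toMonoidHom = G1) : ↥G1 ≃* ↥G1 :=
  (Θ.subgroupMap G1).trans (MulEquiv.subgroupCongr hmap)

theorem h8ayRes_val {Γ : Type u} [Group Γ] (G1 : Subgroup Γ) (Θ : Γ ≃* Γ)
    (hmap : G1.map Θ.toMonoidHom = G1) (g : ↥G1) :
    ((h8ayRes G1 Θ hmap g : ↥G1) : Γ) = Θ (g : Γ) := rfl

theorem h8ayRes_symm_val {Γ : Type u} [Group Γ] (G1 : Subgroup Γ) (Θ : Γ ≃* Γ)
    (hmap : G1.map Θ.toMonoidHom = G1) (g : ↥G1) :
    (((h8ayRes G1 Θ hmap).symm g : ↥G1) : Γ) = Θ.symm (g : Γ) := by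
  have h1 : h8ayRes G1 Θ hmap ((h8ayRes G1 Θ hmap).symm g) = g := MulEquiv.apply_symm_apply _ _
  have h2 := congrArg Subtype.val h1
  rw [h8ayRes_val] at h2
  rw [← h2]
  simp

/-- the restriction stabilizes the intersection with a subgroup stabilized by the automorphism
and its inverse -/
theorem h8ayRes_map {Γ : Type u} [Group Γ] (G1 : Subgroup Γ) (Θ : Γ ≃* Γ)
    (hmap : G1.map Θ.toMonoidHom = G1) (A : Subgroup Γ) (h1 : ∀ g ∈ A, Θ g ∈ A)
    (h2 : ∀ g ∈ A, Θ.symm g ∈ A) :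
    ((A ⊓ G1).subgroupOf G1).map (h8ayRes G1 Θ hmap).toMonoidHom = (A ⊓ G1).subgroupOf G1 := by
  ext y
  constructor
  · rintro ⟨x, hx, rfl⟩
    rw [SetLike.mem_coe, Subgroup.mem_subgroupOf] at hx
    rw [Subgroup.mem_subgroupOf]
    exact ⟨h1 _ hx.1, (h8ayRes G1 Θ hmap x).2⟩
  · intro hy
    rw [Subgroup.mem_subgroupOf] at hy
    refine ⟨(h8ayRes G1 Θ hmap).symm y, ?_, ?_⟩
    · rw [SetLike.mem_coe, Subgroup.mem_subgroupOf, h8ayRes_symm_val]
      exact ⟨h2 _ hy.1, by rw [← h8ayRes_symm_val G1 Θ hmap]; exact ((h8ayRes G1 Θ hmap).symm y).2⟩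
    · exact MulEquiv.apply_symm_apply _ _

/-- automorphisms of a generated subgroup agreeing on the generators are equal -/
theorem h8ay_aut_ext {Γ : Type u} [Group Γ] (G1 : Subgroup Γ) (S : Set Γ)
    (hG : G1 = Subgroup.closure S) (θ θ' : ↥G1 ≃* ↥G1)
    (h : ∀ y : ↥G1, (y : Γ) ∈ S → θ y = θ' y) : θ = θ' := by
  apply MulEquiv.ext
  intro y
  have key : ∀ (x : Γ) (hx : x ∈ Subgroup.closure S) (hx1 : x ∈ G1),
      θ ⟨x, hx1⟩ = θ' ⟨x, hx1⟩ := by
    intro x hx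
    induction hx using Subgroup.closure_induction with
    | mem x hx => intro hx1; exact h ⟨x, hx1⟩ hx
    | one =>
      intro hx1
      have : (⟨1, hx1⟩ : ↥G1) = 1 := rfl
      rw [this, map_one, map_one]
    | mul a b ha hb iha ihb =>
      intro hx1
      have ha1 : a ∈ G1 := by rw [hG]; exact ha
      have hb1 : b ∈ G1 := by rw [hG]; exact hb
      have : (⟨a * b, hx1⟩ : ↥G1) = ⟨a, ha1⟩ * ⟨b, hb1⟩ := rfl
      rw [this, map_mul, map_mul, iha ha1, ihb hb1]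
    | inv a ha iha =>
      intro hx1
      have ha1 : a ∈ G1 := by rw [hG]; exact ha
      have : (⟨a⁻¹, hx1⟩ : ↥G1) = (⟨a, ha1⟩ : ↥G1)⁻¹ := rfl
      rw [this, map_inv, map_inv, iha ha1]
  have hy : (y : Γ) ∈ Subgroup.closure S := by rw [← hG]; exact y.2
  exact key y.val hy y.2

/-- a relation which is the graph of a bijection gives equal cardinalities -/
theorem h8ay_card_of_rel {A X : Type*} (R : A → X → Prop) (h1 : ∀ a, ∃ x, R a x)
    (h2 : ∀ x, ∃ a, R a x) (h3 : ∀ a x x', R a x → R a x' → x = x')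
    (h4 : ∀ a a' x, R a x → R a' x → a = a') : Nat.card A = Nat.card X := by
  choose F hF using h1
  apply Nat.card_congr
  refine Equiv.ofBijective F ⟨?_, ?_⟩
  · intro a a' e
    exact h4 a a' (F a) (hF a) (e ▸ hF a')
  · intro x
    obtain ⟨a, ha⟩ := h2 x
    exact ⟨a, h3 a _ _ (hF a) ha⟩

end Cfsg.Agent.Lib.helper8
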