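import Mathlib
import Cfsg.Prelude.Def_ChevStructure
import Cfsg.Agent.Lib.helper8.ChevAY11
import Cfsg.Agent.Lib.helper8.ChevAY12
import Cfsg.Agent.Lib.helper8.ChevAU15

set_option autoImplicit false

namespace Cfsg.Agent.Lib.helper8

open Cfsg.Lie Cfsg.Lie.ChevalleyDatum

universe u

variable {K : Type u} [Field K]

/-- indices in a list rotated by a map -/
theorem h8ay_rot_idx (L : List ℕ) (p : ℕ → ℕ) (hrot : L.map p = L.rotate 1) (hm : 0 < L.length) :
    ∀ k (hk : k < L.length), p L[k] = L[(k + 1) % L.length]'(Nat.mod_lt _ hm) := by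
  intro k hk
  have h2 : (L.map p)[k]'(by rw [List.length_map]; exact hk) = p L[k] := List.getElem_map _
  have h3 : (L.rotate 1)[k]'(by rw [List.length_rotate]; exact hk) =
      L[(k + 1) % L.length]'(Nat.mod_lt _ hm) := List.getElem_rotate _ _ _ _
  rw [← h2, ← h3]
  congr 1

/-- a function on the nodes which is equivariant along a cyclically ordered list is a
geometric progression along the list -/
theorem h8ay_geom (f : K ≃+* K) (L : List ℕ) (p : ℕ → ℕ) (hrot : L.map p = L.rotate 1)
    (hm : 0 < L.length) (t : ℕ → K) (key : ∀ j ∈ L, t (p j) = f (t j)) :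
    (∀ k (hk : k < L.length), t L[k] = f^[k] (t (L[0]'hm))) ∧
      f^[L.length] (t (L[0]'hm)) = t (L[0]'hm) := by
  have hidx := h8ay_rot_idx L p hrot hm
  have hind : ∀ k (hk : k < L.length), t L[k] = f^[k] (t (L[0]'hm)) := by
    intro k
    induction k with
    | zero => intro hk; rfl
    | succ k ih =>
      intro hk
      have hk' : k < L.length := by omega
      have h4 := hidx k hk'
      have h5 : (k + 1) % L.length = k + 1 := Nat.mod_eq_of_lt hk
      have h6 : L[k + 1] = p L[k] := by
        rw [h4]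
        congr 1
        exact h5.symm
      rw [h6, key _ (List.getElem_mem hk'), ih hk', Function.iterate_succ_apply']
  refine ⟨hind, ?_⟩
  have hk' : L.length - 1 < L.length := by omega
  have h4 := hidx (L.length - 1) hk'
  have h5 : (L.length - 1 + 1) % L.length = 0 := by
    rw [Nat.sub_add_cancel hm, Nat.mod_self]
  have h6 : L[0]'hm = p L[L.length - 1] := by
    rw [h4]
    congr 1
    exact h5.symm
  have h7 := key _ (List.getElem_mem hk')
  rw [← h6, hind _ hk', ← Function.iterate_succ_apply' f] at h7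
  have h8 : (L.length - 1).succ = L.length := by omega
  rw [h8] at h7
  exact h7.symm

theorem h8ay_iter_comm (f φ : K ≃+* K) (hφ : ∀ t, φ (f t) = f (φ t)) :
    ∀ (n : ℕ) (t : K), φ (f^[n] t) = f^[n] (φ t) := by
  intro n
  induction n with
  | zero => intro t; rfl
  | succ n ih =>
    intro t
    rw [Function.iterate_succ_apply, Function.iterate_succ_apply, ih, hφ]

section
variable (D : ChevalleyDatum) (hB : H8Base.{u} D) (f : K ≃+* K) (hBN : H8BN D) (hW : H8BN2 D)

include hBN in
/-- an element acting on the root subgroups through a character acts on the positive orbit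
products through the value at the head, if the values form a geometric progression -/
theorem h8ay_char_conj_Xp (g : GL D.Idx K) (ψ : ℕ → K)
    (hg : ∀ r < D.nroots, ∀ t : K, g * h8xU D hB r t * g⁻¹ = h8xU D hB r (ψ r * t))
    (L : List ℕ) (hL : ∀ k ∈ L, k < D.rank) :
    ∀ (χ t : K), (∀ i (hi : i < L.length), ψ (D.simple L[i]) = f^[i] χ) →
      g * h8ayXp D hB f L t * g⁻¹ = h8ayXp D hB f L (χ * t) := by
  induction L with
  | nil =>
    intro χ t _
    show g * 1 * g⁻¹ = 1
    group
  | cons j L ih =>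
    intro χ t hχ
    have hL' : ∀ k ∈ L, k < D.rank := fun k hk => hL k (List.mem_cons_of_mem _ hk)
    have hpj := h8simple_pos D hBN j (hL j List.mem_cons_self)
    show g * (h8xU D hB (D.simple j) t * h8ayXp D hB f L (f t)) * g⁻¹ =
      h8xU D hB (D.simple j) (χ * t) * h8ayXp D hB f L (f (χ * t))
    have e1 : g * (h8xU D hB (D.simple j) t * h8ayXp D hB f L (f t)) * g⁻¹ =
        (g * h8xU D hB (D.simple j) t * g⁻¹) * (g * h8ayXp D hB f L (f t) * g⁻¹) := by group
    have h0 := hχ 0 (by simp)
    simp only [List.getElem_cons_zero, Function.iterate_zero, id_eq] at h0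
    rw [e1, hg _ hpj.1, h0, map_mul]
    congr 1
    apply ih hL' (f χ) (f t)
    intro i hi
    have := hχ (i + 1) (by simp; omega)
    simp only [List.getElem_cons_succ, Function.iterate_succ, Function.comp_apply] at this
    exact this

include hBN hW in
theorem h8ay_char_conj_Xm (g : GL D.Idx K) (ψ : ℕ → K)
    (hg : ∀ r < D.nroots, ∀ t : K, g * h8xU D hB r t * g⁻¹ = h8xU D hB r (ψ r * t))
    (L : List ℕ) (hL : ∀ k ∈ L, k < D.rank) :
    ∀ (χ t : K), (∀ i (hi : i < L.length), ψ (D.negIdx.getD (D.simple L[i]) 0) = f^[i] χ) →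
      g * h8ayXm D hB f L t * g⁻¹ = h8ayXm D hB f L (χ * t) := by
  induction L with
  | nil =>
    intro χ t _
    show g * 1 * g⁻¹ = 1
    group
  | cons j L ih =>
    intro χ t hχ
    have hL' : ∀ k ∈ L, k < D.rank := fun k hk => hL k (List.mem_cons_of_mem _ hk)
    have hpj := h8simple_pos D hBN j (hL j List.mem_cons_self)
    show g * (h8xU D hB (D.negIdx.getD (D.simple j) 0) t * h8ayXm D hB f L (f t)) * g⁻¹ =
      h8xU D hB (D.negIdx.getD (D.simple j) 0) (χ * t) * h8ayXm D hB f L (f (χ * t))
    have e1 : g * (h8xU D hB (D.negIdx.getD (D.simple j) 0) t * h8ayXm D hB f L (f t)) * g⁻¹ =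
        (g * h8xU D hB (D.negIdx.getD (D.simple j) 0) t * g⁻¹) *
          (g * h8ayXm D hB f L (f t) * g⁻¹) := by group
    have h0 := hχ 0 (by simp)
    simp only [List.getElem_cons_zero, Function.iterate_zero, id_eq] at h0
    rw [e1, hg _ (hW.neglt _ hpj.1), h0, map_mul]
    congr 1
    apply ih hL' (f χ) (f t)
    intro i hi
    have := hχ (i + 1) (by simp; omega)
    simp only [List.getElem_cons_succ, Function.iterate_succ, Function.comp_apply] at this
    exact this

/-- the entrywise field automorphism of the general linear group -/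
noncomputable def h8ayPsiEquiv (φ : K ≃+* K) : GL D.Idx K ≃* GL D.Idx K :=
  MonoidHom.toMulEquiv (h8Psi D (φ : K →+* K)) (h8Psi D (φ.symm : K →+* K))
    (by
      apply MonoidHom.ext
      intro g
      apply Units.ext
      show ((g : Matrix D.Idx D.Idx K).map (φ : K →+* K)).map (φ.symm : K →+* K) = _
      ext i j
      simp)
    (by
      apply MonoidHom.ext
      intro g
      apply Units.ext
      show ((g : Matrix D.Idx D.Idx K).map (φ.symm : K →+* K)).map (φ : K →+* K) = _
      ext i j
      simp)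

theorem h8ayPsiEquiv_apply (φ : K ≃+* K) (g : GL D.Idx K) :
    h8ayPsiEquiv D φ g = h8Psi D (φ : K →+* K) g := rfl

theorem h8ayPsiEquiv_symm_apply (φ : K ≃+* K) (g : GL D.Idx K) :
    (h8ayPsiEquiv D φ).symm g = h8Psi D (φ.symm : K →+* K) g := rfl

theorem h8ayPsi_Xp (φ : K ≃+* K) (hφ : ∀ t, φ (f t) = f (φ t)) (L : List ℕ) :
    ∀ a : K, h8Psi D (φ : K →+* K) (h8ayXp D hB f L a) = h8ayXp D hB f L (φ a) := by
  induction L with
  | nil => intro a; exact map_one _
  | cons j L ih =>
    intro a
    show h8Psi D (φ : K →+* K) (h8xU D hB (D.simple j) a * h8ayXp D hB f L (f a)) =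
      h8xU D hB (D.simple j) (φ a) * h8ayXp D hB f L (f (φ a))
    rw [map_mul, h8Psi_xU D hB hB, ih, ← hφ]
    rfl

theorem h8ayPsi_Xm (φ : K ≃+* K) (hφ : ∀ t, φ (f t) = f (φ t)) (L : List ℕ) :
    ∀ a : K, h8Psi D (φ : K →+* K) (h8ayXm D hB f L a) = h8ayXm D hB f L (φ a) := by
  induction L with
  | nil => intro a; exact map_one _
  | cons j L ih =>
    intro a
    show h8Psi D (φ : K →+* K) (h8xU D hB (D.negIdx.getD (D.simple j) 0) a *
        h8ayXm D hB f L (f a)) =
      h8xU D hB (D.negIdx.getD (D.simple j) 0) (φ a) * h8ayXm D hB f L (f (φ a))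
    rw [map_mul, h8Psi_xU D hB hB, ih, ← hφ]
    rfl

/-- a homomorphism mapping root elements to root elements of the same root maps `U` to `U` -/
theorem h8ay_map_U (Θ : GL D.Idx K →* GL D.Idx K)
    (h : ∀ r < D.nroots, ∀ t : K, ∃ t' : K, Θ (h8xU D hB r t) = h8xU D hB r t')
    (g : GL D.Idx K) (hg : g ∈ D.posUnipotent K) : Θ g ∈ D.posUnipotent K := by
  have h1 : D.posUnipotent K ≤ (D.posUnipotent K).comap Θ := by
    conv_lhs => unfold ChevalleyDatum.posUnipotent
    rw [Subgroup.closure_le]
    rintro x ⟨r, t, hr, hx⟩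
    have hx' : x = h8xU D hB r t := Units.ext (hx.trans (h8xU_val D hB r t).symm)
    obtain ⟨t', ht'⟩ := h r hr.1 t
    show Θ x ∈ D.posUnipotent K
    rw [hx', ht']
    exact h8xU_mem_U D hB r hr t'
  exact h1 hg

theorem h8ay_map_V (Θ : GL D.Idx K →* GL D.Idx K)
    (h : ∀ r < D.nroots, ∀ t : K, ∃ t' : K, Θ (h8xU D hB r t) = h8xU D hB r t')
    (g : GL D.Idx K) (hg : g ∈ D.negUnipotent K) : Θ g ∈ D.negUnipotent K := by
  have h1 : D.negUnipotent K ≤ (D.negUnipotent K).comap Θ := by
    conv_lhs => unfold ChevalleyDatum.negUnipotent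
    rw [Subgroup.closure_le]
    rintro x ⟨r, t, hr, hx⟩
    have hx' : x = h8xU D hB r t := Units.ext (hx.trans (h8xU_val D hB r t).symm)
    obtain ⟨t', ht'⟩ := h r hr.1 t
    show Θ x ∈ D.negUnipotent K
    rw [hx', ht']
    exact h8xU_mem_V D hB r hr t'
  exact h1 hg

end

end Cfsg.Agent.Lib.helper8
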