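import Mathlib
import Cfsg.Prelude.Def_ChevStructure
import Cfsg.Agent.Lib.helper8.ChevAY13

set_option autoImplicit false

namespace Cfsg.Agent.Lib.helper8

open Cfsg.Lie Cfsg.Lie.ChevalleyDatum

universe u

variable {K : Type u} [Field K]

/-- the generators of a twisted group: the orbit products with fixed parameters -/
def h8ayGen (D : ChevalleyDatum) (hB : H8Base.{u} D) (f : K ≃+* K)
    (orbs : List (List (Fin D.rank))) : Set (GL D.Idx K) :=
  {g | ∃ J ∈ orbs, ∃ a : K, f^[J.length] a = a ∧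
    (g = h8ayXp D hB f (J.map Fin.val) a ∨ g = h8ayXm D hB f (J.map Fin.val) a)}

theorem h8ay_headD (L : List ℕ) (hm : 0 < L.length) : L.headD 0 = L[0]'hm := by
  cases L with
  | nil => exact absurd hm (by simp)
  | cons j L => rfl

section
variable (D : ChevalleyDatum) (hB : H8Base.{u} D)
  (hA : H8ReflAll D) (hC : H8CommAll.{u} D) (hBN : H8BN D) (hW : H8BN2 D)
  (posi : ℕ → ℕ)
  (σ τ π ϖ : ℕ → ℕ) (η : ℕ → ℤ) (hAut : H8Aut D σ τ π ϖ η) (f : K ≃+* K)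
  (orbs : List (List (Fin D.rank)))
  (G1 : Subgroup (GL D.Idx K))
  (hUfix : ∀ g ∈ D.posUnipotent K, h8Sig D σ τ π ϖ η hAut f g = g → g ∈ G1)
  (hnJ : ∀ J ∈ orbs, (h8nWU D hB (J.map Fin.val) : GL D.Idx K) ∈ G1)
  (hsc : h8scChk D = true)
  (hOrb : ∀ J ∈ orbs, ∃ i, H8AyOrb D posi σ η π (J.map Fin.val) i)
  (hgen : G1 = Subgroup.closure (h8ayGen D hB f orbs))
  (m : List (List ℤ)) (hm : h8rcChk D m = true) (hcons : h8consChk D = true)

include hA hC hBN hW hUfix hnJ hsc hOrb hgen hm hcons in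
/-- the product of a diagonal and a field automorphism of the twisted group with prescribed
parameters -/
theorem h8ay_exists (c : ℕ → K) (hc0 : ∀ j < D.rank, c j ≠ 0)
    (hceq : ∀ j < D.rank, c (π j) = f (c j))
    (φ : K ≃+* K) (hφ : ∀ t, φ (f t) = f (φ t)) :
    ∃ θ : ↥G1 ≃* ↥G1,
      ((D.posUnipotent K ⊓ G1).subgroupOf G1).map θ.toMonoidHom =
        (D.posUnipotent K ⊓ G1).subgroupOf G1 ∧
      ((D.negUnipotent K ⊓ G1).subgroupOf G1).map θ.toMonoidHom =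
        (D.negUnipotent K ⊓ G1).subgroupOf G1 ∧
      ∀ J ∈ orbs, ∀ a : K, f^[J.length] a = a → ∀ y : ↥G1,
        (y.val = h8ayXp D hB f (J.map Fin.val) a →
          (θ y).val = h8ayXp D hB f (J.map Fin.val) (c ((J.map Fin.val).headD 0) * φ a)) ∧
        (y.val = h8ayXm D hB f (J.map Fin.val) a →
          (θ y).val = h8ayXm D hB f (J.map Fin.val) ((c ((J.map Fin.val).headD 0))⁻¹ * φ a)) := by
  set cU : Fin D.rank → Kˣ := fun j => Units.mk0 (c j.val) (hc0 j.val j.2) with hcU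
  set χ := h8rchi D m cU with hχdef
  have hχ : D.IsRootCharacter χ := h8rchi_root D hB hA m hm cU
  set g₀ := h8chiU D χ with hg₀def
  have hg₀ : ∀ r < D.nroots, ∀ t : K, g₀ * h8xU D hB r t * g₀⁻¹ =
      h8xU D hB r ((χ r : K) * t) := fun r hr t => h8chiU_conj_x D hB hA hcons χ hχ r hr t
  have hg₀' : ∀ r < D.nroots, ∀ t : K, g₀⁻¹ * h8xU D hB r t * g₀⁻¹⁻¹ =
      h8xU D hB r ((((χ r)⁻¹ : Kˣ) : K) * t) := by
    intro r hr t
    rw [inv_inv]
    exact h8chiU_inv_conj_x D hB hA hcons χ hχ r hr t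
  have hχs : ∀ j (hj : j < D.rank), ((χ (D.simple j) : Kˣ) : K) = c j := by
    intro j hj
    have := h8rchi_simple D m hm cU ⟨j, hj⟩
    rw [hχdef, this]
    rfl
  have hχn : ∀ j (hj : j < D.rank), ((χ (D.negIdx.getD (D.simple j) 0) : Kˣ) : K) = (c j)⁻¹ := by
    intro j hj
    have hpj := h8simple_pos D hBN j hj
    have h1 := hχ.1 _ hpj.1
    unfold ChevalleyDatum.neg at h1
    rw [h1, Units.val_inv_eq_inv_val, hχs j hj]
  have hφs : ∀ t, φ.symm (f t) = f (φ.symm t) := by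
    intro t
    apply φ.injective
    rw [hφ, φ.apply_symm_apply, φ.apply_symm_apply]
  -- the data of the orbits
  have horb : ∀ J ∈ orbs, (∀ k ∈ J.map Fin.val, k < D.rank) ∧
      f^[J.length] (c ((J.map Fin.val).headD 0)) = c ((J.map Fin.val).headD 0) ∧
      c ((J.map Fin.val).headD 0) ≠ 0 ∧
      ∀ i (hi : i < (J.map Fin.val).length),
        c ((J.map Fin.val)[i]) = f^[i] (c ((J.map Fin.val).headD 0)) := by
    intro J hJ
    obtain ⟨i, O⟩ := hOrb J hJ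
    have hlen : 0 < (J.map Fin.val).length := List.length_pos_of_ne_nil O.ne
    obtain ⟨h1, h2⟩ := h8ay_geom f _ π O.rot hlen c (fun j hj => hceq j (O.lt j hj))
    rw [← h8ay_headD _ hlen] at h1 h2
    rw [List.length_map] at h2
    refine ⟨O.lt, h2, ?_, h1⟩
    rw [h8ay_headD _ hlen]
    exact hc0 _ (O.lt _ (List.getElem_mem hlen))
  set Θ : GL D.Idx K ≃* GL D.Idx K := (h8ayPsiEquiv D φ).trans (MulAut.conj g₀) with hΘdef
  have hΘ : ∀ x, Θ x = g₀ * h8Psi D (φ : K →+* K) x * g₀⁻¹ := fun x => rfl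
  have hΘs : ∀ x, Θ.symm x = h8Psi D (φ.symm : K →+* K) (g₀⁻¹ * x * g₀⁻¹⁻¹) := by
    intro x
    rw [inv_inv]
    rfl
  -- the action on the orbit products
  have hΘp : ∀ J ∈ orbs, ∀ a : K, Θ (h8ayXp D hB f (J.map Fin.val) a) =
      h8ayXp D hB f (J.map Fin.val) (c ((J.map Fin.val).headD 0) * φ a) := by
    intro J hJ a
    obtain ⟨hlt, _, _, hgeo⟩ := horb J hJ
    rw [hΘ, h8ayPsi_Xp D hB f φ hφ]
    apply h8ay_char_conj_Xp D hB f hBN g₀ (fun r => ((χ r : Kˣ) : K)) hg₀ _ hlt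
    intro i hi
    show ((χ (D.simple (J.map Fin.val)[i]) : Kˣ) : K) = _
    rw [hχs _ (hlt _ (List.getElem_mem hi)), hgeo i hi]
  have hΘm : ∀ J ∈ orbs, ∀ a : K, Θ (h8ayXm D hB f (J.map Fin.val) a) =
      h8ayXm D hB f (J.map Fin.val) ((c ((J.map Fin.val).headD 0))⁻¹ * φ a) := by
    intro J hJ a
    obtain ⟨hlt, _, _, hgeo⟩ := horb J hJ
    rw [hΘ, h8ayPsi_Xm D hB f φ hφ]
    apply h8ay_char_conj_Xm D hB f hBN hW g₀ (fun r => ((χ r : Kˣ) : K)) hg₀ _ hlt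
    intro i hi
    show ((χ (D.negIdx.getD (D.simple (J.map Fin.val)[i]) 0) : Kˣ) : K) = _
    rw [hχn _ (hlt _ (List.getElem_mem hi)), hgeo i hi, h8ay_iter_inv]
  have hΘsp : ∀ J ∈ orbs, ∀ a : K, Θ.symm (h8ayXp D hB f (J.map Fin.val) a) =
      h8ayXp D hB f (J.map Fin.val) (φ.symm ((c ((J.map Fin.val).headD 0))⁻¹ * a)) := by
    intro J hJ a
    obtain ⟨hlt, _, _, hgeo⟩ := horb J hJ
    rw [hΘs]
    have : g₀⁻¹ * h8ayXp D hB f (J.map Fin.val) a * g₀⁻¹⁻¹ =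
        h8ayXp D hB f (J.map Fin.val) ((c ((J.map Fin.val).headD 0))⁻¹ * a) := by
      apply h8ay_char_conj_Xp D hB f hBN g₀⁻¹ (fun r => (((χ r)⁻¹ : Kˣ) : K)) hg₀' _ hlt
      intro i hi
      show (((χ (D.simple (J.map Fin.val)[i]))⁻¹ : Kˣ) : K) = _
      rw [Units.val_inv_eq_inv_val, hχs _ (hlt _ (List.getElem_mem hi)), hgeo i hi,
        h8ay_iter_inv]
    rw [this, h8ayPsi_Xp D hB f φ.symm hφs]
  have hΘsm : ∀ J ∈ orbs, ∀ a : K, Θ.symm (h8ayXm D hB f (J.map Fin.val) a) =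
      h8ayXm D hB f (J.map Fin.val) (φ.symm (c ((J.map Fin.val).headD 0) * a)) := by
    intro J hJ a
    obtain ⟨hlt, _, _, hgeo⟩ := horb J hJ
    rw [hΘs]
    have : g₀⁻¹ * h8ayXm D hB f (J.map Fin.val) a * g₀⁻¹⁻¹ =
        h8ayXm D hB f (J.map Fin.val) (c ((J.map Fin.val).headD 0) * a) := by
      apply h8ay_char_conj_Xm D hB f hBN hW g₀⁻¹ (fun r => (((χ r)⁻¹ : Kˣ) : K)) hg₀' _ hlt
      intro i hi
      show (((χ (D.negIdx.getD (D.simple (J.map Fin.val)[i]) 0))⁻¹ : Kˣ) : K) = _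
      rw [Units.val_inv_eq_inv_val, hχn _ (hlt _ (List.getElem_mem hi)), inv_inv, hgeo i hi]
    rw [this, h8ayPsi_Xm D hB f φ.symm hφs]
  have hpm := h8ayXp_mem_G1 D hB hC hBN hW posi σ τ π ϖ η hAut f orbs G1 hUfix hOrb
  have hmm := h8ayXm_mem_G1 D hB hA hC hBN hW posi σ τ π ϖ η hAut f orbs G1 hUfix hnJ hsc hOrb
  have hmap : G1.map Θ.toMonoidHom = G1 := by
    apply h8ay_restrict_map G1 Θ _ hgen
    · rintro g ⟨J, hJ, a, ha, rfl | rfl⟩
      · rw [hΘp J hJ]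
        apply hpm J hJ
        rw [h8ay_iter_mul, (horb J hJ).2.1, ← h8ay_iter_comm f φ hφ, ha]
      · rw [hΘm J hJ]
        apply hmm J hJ
        rw [h8ay_iter_mul, h8ay_iter_inv, (horb J hJ).2.1, ← h8ay_iter_comm f φ hφ, ha]
    · rintro g ⟨J, hJ, a, ha, rfl | rfl⟩
      · rw [hΘsp J hJ]
        apply hpm J hJ
        rw [← h8ay_iter_comm f φ.symm hφs, h8ay_iter_mul, h8ay_iter_inv, (horb J hJ).2.1, ha]
      · rw [hΘsm J hJ]
        apply hmm J hJ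
        rw [← h8ay_iter_comm f φ.symm hφs, h8ay_iter_mul, (horb J hJ).2.1, ha]
  have hroot : ∀ r < D.nroots, ∀ t : K, ∃ t' : K,
      Θ.toMonoidHom (h8xU D hB r t) = h8xU D hB r t' := by
    intro r hr t
    refine ⟨(χ r : K) * φ t, ?_⟩
    show Θ (h8xU D hB r t) = _
    rw [hΘ, h8Psi_xU D hB hB, hg₀ r hr]
    rfl
  have hroots : ∀ r < D.nroots, ∀ t : K, ∃ t' : K,
      Θ.symm.toMonoidHom (h8xU D hB r t) = h8xU D hB r t' := by
    intro r hr t
    refine ⟨φ.symm ((((χ r)⁻¹ : Kˣ) : K) * t), ?_⟩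
    show Θ.symm (h8xU D hB r t) = _
    rw [hΘs, hg₀' r hr, h8Psi_xU D hB hB]
    rfl
  refine ⟨h8ayRes G1 Θ hmap, ?_, ?_, ?_⟩
  · exact h8ayRes_map G1 Θ hmap _ (fun g hg => h8ay_map_U D hB Θ.toMonoidHom hroot g hg)
      (fun g hg => h8ay_map_U D hB Θ.symm.toMonoidHom hroots g hg)
  · exact h8ayRes_map G1 Θ hmap _ (fun g hg => h8ay_map_V D hB Θ.toMonoidHom hroot g hg)
      (fun g hg => h8ay_map_V D hB Θ.symm.toMonoidHom hroots g hg)
  · intro J hJ a _ y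
    constructor
    · intro hy
      rw [h8ayRes_val, hy, hΘp J hJ]
    · intro hy
      rw [h8ayRes_val, hy, hΘm J hJ]

end

end Cfsg.Agent.Lib.helper8
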