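import Mathlib
import Cfsg.Prelude.Def_ChevStructure
import Cfsg.Agent.Lib.helper8.ChevAY14

set_option autoImplicit false

namespace Cfsg.Agent.Lib.helper8

open Cfsg.Lie Cfsg.Lie.ChevalleyDatum

universe u

variable {K : Type u} [Field K]

section
variable (D : ChevalleyDatum) (hB : H8Base.{u} D)
  (hA : H8ReflAll D) (hC : H8CommAll.{u} D) (hBN : H8BN D) (hW : H8BN2 D) (hO2 : H8Ord2 D)
  (posi : ℕ → ℕ)
  (σ τ π ϖ : ℕ → ℕ) (η : ℕ → ℤ) (hAut : H8Aut D σ τ π ϖ η) (f : K ≃+* K)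
  (orbs : List (List (Fin D.rank)))
  (G1 : Subgroup (GL D.Idx K))
  (hUfix : ∀ g ∈ D.posUnipotent K, h8Sig D σ τ π ϖ η hAut f g = g → g ∈ G1)
  (hnJ : ∀ J ∈ orbs, (h8nWU D hB (J.map Fin.val) : GL D.Idx K) ∈ G1)
  (hsc : h8scChk D = true)
  (hOrb : ∀ J ∈ orbs, ∃ i, H8AyOrb D posi σ η π (J.map Fin.val) i)

include hA hC hBN hW hO2 hUfix hnJ hsc hOrb in
/-- the field automorphisms attached to two orbits linked by a torus relation agree -/
theorem h8ay_link (θ : ↥G1 ≃* ↥G1) (J J' : List (Fin D.rank)) (hJ : J ∈ orbs) (hJ' : J' ∈ orbs)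
    (hsub : ∀ s : K, f^[J.length] s = s → f^[J'.length] s = s)
    (hChi : ∀ s : K, s ≠ 0 → f^[J.length] s = s → ∀ i (hi : i < (J'.map Fin.val).length),
      h8ayChi D f (J.map Fin.val) s (D.simple (J'.map Fin.val)[i]) = f^[i] s⁻¹)
    (φ : ↥(h8ayFix f J.length) ≃+* ↥(h8ayFix f J.length))
    (hφ : ∀ (t : ↥(h8ayFix f J.length)), t ≠ 0 → ∀ y : ↥G1,
        y.val = h8ayHH D hB f (J.map Fin.val) t.val →
        (θ y).val = h8ayHH D hB f (J.map Fin.val) (φ t).val)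
    (c' : K) (hc' : c' ≠ 0)
    (φ' : ↥(h8ayFix f J'.length) ≃+* ↥(h8ayFix f J'.length))
    (hφ' : ∀ (a : ↥(h8ayFix f J'.length)) (y : ↥G1),
        y.val = h8ayXp D hB f (J'.map Fin.val) a.val →
        (θ y).val = h8ayXp D hB f (J'.map Fin.val) (c' * (φ' a).val))
    (s : ↥(h8ayFix f J.length)) :
    (φ' ⟨s.val, hsub s.val s.2⟩).val = (φ s).val := by
  by_cases hs : s = 0
  · subst hs
    have e1 : (⟨((0 : ↥(h8ayFix f J.length)) : K), hsub _ (0 : ↥(h8ayFix f J.length)).2⟩ :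
        ↥(h8ayFix f J'.length)) = 0 := rfl
    rw [e1, map_zero, map_zero]
    rfl
  · obtain ⟨i, O⟩ := hOrb J hJ
    obtain ⟨i', O'⟩ := hOrb J' hJ'
    have hs' : s.val ≠ 0 := fun h => hs (Subtype.ext h)
    have hφs : (φ s).val ≠ 0 := fun h => (map_ne_zero φ).mpr hs (Subtype.ext h)
    have hym := h8ayHH_mem_G1 D hB hA hC hBN hW posi σ τ π ϖ η hAut f orbs G1 hUfix hnJ hsc hOrb
      J hJ s.val s.2
    have hxm := h8ayXp_mem_G1 D hB hC hBN hW posi σ τ π ϖ η hAut f orbs G1 hUfix hOrb J' hJ' 1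
      (h8ay_iter_one f _)
    set y : ↥G1 := ⟨_, hym⟩ with hy
    set x : ↥G1 := ⟨_, hxm⟩ with hx
    -- the conjugate
    have h1 : (y * x * y⁻¹).val = h8ayXp D hB f (J'.map Fin.val) (s.val⁻¹ * 1) :=
      h8ayHH_conj_Xp D hB f hBN hsc _ O.lt s.val hs' _ O'.lt _ _ (hChi s.val hs' s.2)
    rw [mul_one] at h1
    have hsinv : f^[J'.length] (s.val)⁻¹ = (s.val)⁻¹ := by
      rw [h8ay_iter_inv, hsub s.val s.2]
    have h2 := hφ' ⟨(s.val)⁻¹, hsinv⟩ (y * x * y⁻¹) h1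
    have h3 : (θ (y * x * y⁻¹)).val = (θ y).val * (θ x).val * ((θ y).val)⁻¹ := by
      rw [map_mul, map_mul, map_inv]
      rfl
    have h4 := hφ s hs y rfl
    have h5 := hφ' 1 x rfl
    rw [h3, h4, h5, map_one] at h2
    have h6 := h8ayHH_conj_Xp D hB f hBN hsc _ O.lt (φ s).val hφs _ O'.lt ((φ s).val)⁻¹
      (c' * ((1 : ↥(h8ayFix f J'.length)) : K)) (hChi (φ s).val hφs (φ s).2)
    rw [h6] at h2
    have R' := h8ayXp_inj D hB f hC hBN hW hO2 hA _ O'.lt O'.orth O'.ne _ _ h2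
    have e2 : ((1 : ↥(h8ayFix f J'.length)) : K) = 1 := rfl
    rw [e2, mul_one] at R'
    have h7 : ((φ' ⟨(s.val)⁻¹, hsinv⟩ : ↥(h8ayFix f J'.length)) : K) = ((φ s).val)⁻¹ := by
      have := mul_left_cancel₀ hc' ((mul_comm _ _).trans R').symm
      exact this
    have e3 : (⟨(s.val)⁻¹, hsinv⟩ : ↥(h8ayFix f J'.length)) =
        (⟨s.val, hsub s.val s.2⟩ : ↥(h8ayFix f J'.length))⁻¹ := by
      apply Subtype.ext
      rw [Subfield.coe_inv]
    rw [e3, map_inv₀, Subfield.coe_inv] at h7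
    exact inv_injective h7

end

end Cfsg.Agent.Lib.helper8
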