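import Mathlib
import Cfsg.Prelude.Def_ChevStructure
import Cfsg.Agent.Lib.helper8.ChevAY15

set_option autoImplicit false

namespace Cfsg.Agent.Lib.helper8

open Cfsg.Lie Cfsg.Lie.ChevalleyDatum

universe u

variable {K : Type u} [Field K]

section
variable (D : ChevalleyDatum) (hB : H8Base.{u} D) (f : K ≃+* K)
  (hC : H8CommAll.{u} D) (hBN : H8BN D) (hW : H8BN2 D) (hO2 : H8Ord2 D) (hA : H8ReflAll D)
  (hsc : h8scChk D = true) (hc2 : ∀ i < D.rank, D.cartan i (D.simple i) = 2)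
  (hS : h8scommChk D = true)

include hC hBN hW hS in
/-- the negative orbit products of a list of nodes commute with the positive orbit products of
a disjoint list -/
theorem h8ay_Xm_Xp_comm (L L' : List ℕ) (hL : ∀ k ∈ L, k < D.rank) (hL' : ∀ k ∈ L', k < D.rank)
    (hdis : ∀ k ∈ L, k ∉ L') (d c : K) :
    h8ayXm D hB f L d * h8ayXp D hB f L' c = h8ayXp D hB f L' c * h8ayXm D hB f L d := by
  have h1 := h8ayXm_mem_Lm D hB f L d
  have h2 := h8ayXp_mem_Lp D hB f L' c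
  refine h8ay_closure_commute _ _ ?_ _ h1 _ h2
  rintro a ⟨r, ⟨j, hj, rfl⟩, t, rfl⟩ b ⟨r', ⟨j', hj', rfl⟩, t', rfl⟩
  have hne : j' ≠ j := fun h => hdis j hj (h ▸ hj')
  exact h8au_simple_comm D hB hC hBN hW hS j' j (hL' j' hj') (hL j hj) hne t' t

include hC hBN hW hO2 hA hsc hc2 hS in
/-- the positive orbit products of disjoint lists of nodes meet trivially -/
theorem h8ay_Xp_disj (L L' : List ℕ) (hL : ∀ k ∈ L, k < D.rank) (hL' : ∀ k ∈ L', k < D.rank)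
    (horth : H8AyOrth D L) (hne : L ≠ []) (hdis : ∀ k ∈ L, k ∉ L') (a c : K)
    (h : h8ayXp D hB f L a = h8ayXp D hB f L' c) : a = 0 := by
  by_contra ha
  have R := h8ay_rk_ambient D hB f hC hBN hW hO2 hA hsc hc2 L hL horth hne
  have hcomm := h8ay_Xm_Xp_comm D hB f hC hBN hW hS L L' hL hL' hdis 1 c
  have h10 : (1 : K) = 0 := by
    refine R.key0 1 a a ha ?_
    rw [h, hcomm, mul_inv_cancel_right]
  exact one_ne_zero h10

end

section
variable (D : ChevalleyDatum) (hB : H8Base.{u} D) (hB0 : H8Base.{0} D)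
  (hA : H8ReflAll D) (hC : H8CommAll.{u} D) (hBN : H8BN D) (hW : H8BN2 D) (hO : H8Ord D)
  (hO2 : H8Ord2 D) (posi : ℕ → ℕ) (hK : H8Blk D posi) (hR : H8BlkRead D posi)
  (σ τ π ϖ : ℕ → ℕ) (η : ℕ → ℤ) (hAut : H8Aut D σ τ π ϖ η) (f : K ≃+* K)
  (orbs : List (List (Fin D.rank)))
  (G1 : Subgroup (GL D.Idx K))
  (hUfix : ∀ g ∈ D.posUnipotent K, h8Sig D σ τ π ϖ η hAut f g = g → g ∈ G1)
  (hnJ : ∀ J ∈ orbs, (h8nWU D hB (J.map Fin.val) : GL D.Idx K) ∈ G1)
  (hsc : h8scChk D = true)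
  (hc2 : ∀ i < D.rank, D.cartan i (D.simple i) = 2)
  (hOrb : ∀ J ∈ orbs, ∃ i, H8AyOrb D posi σ η π (J.map Fin.val) i)
  (hdisj : ∀ J ∈ orbs, ∀ J' ∈ orbs, ∀ j, j ∈ J → j ∈ J' → J = J')
  (hS : h8scommChk D = true)

include hA hC hBN hW hO2 hUfix hOrb in
/-- an injective correspondence of positive orbit products bounds the fixed fields -/
theorem h8ay_match_le [Finite K] (θ : ↥G1 ≃* ↥G1) (J J' : List (Fin D.rank)) (hJ : J ∈ orbs)
    (hpos : ∀ (a : K), f^[J.length] a = a → ∀ y : ↥G1,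
      y.val = h8ayXp D hB f (J.map Fin.val) a →
      ∃ c : K, f^[J'.length] c = c ∧ (θ y).val = h8ayXp D hB f (J'.map Fin.val) c) :
    Nat.card {a : K // f^[J.length] a = a} ≤ Nat.card {c : K // f^[J'.length] c = c} := by
  obtain ⟨i, O⟩ := hOrb J hJ
  have hpm := fun (a : {a : K // f^[J.length] a = a}) =>
    h8ayXp_mem_G1 D hB hC hBN hW posi σ τ π ϖ η hAut f orbs G1 hUfix hOrb J hJ a.val a.2
  have hex : ∀ a : {a : K // f^[J.length] a = a}, ∃ c : {c : K // f^[J'.length] c = c},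
      (θ ⟨h8ayXp D hB f (J.map Fin.val) a.val, hpm a⟩).val =
        h8ayXp D hB f (J'.map Fin.val) c.val := by
    intro a
    obtain ⟨c, hc, e⟩ := hpos a.val a.2 ⟨_, hpm a⟩ rfl
    exact ⟨⟨c, hc⟩, e⟩
  choose g hg using hex
  apply Nat.card_le_card_of_injective g
  intro a b hab
  have h1 : θ ⟨h8ayXp D hB f (J.map Fin.val) a.val, hpm a⟩ =
      θ ⟨h8ayXp D hB f (J.map Fin.val) b.val, hpm b⟩ := by
    apply Subtype.ext
    rw [hg a, hg b, hab]
  have h2 := congrArg Subtype.val (θ.injective h1)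
  exact Subtype.ext (h8ayXp_inj D hB f hC hBN hW hO2 hA _ O.lt O.orth O.ne _ _ h2)

include hA hC hBN hW hO2 hUfix hsc hc2 hOrb hdisj hS in
/-- the correspondence of the inverse automorphism is the inverse correspondence -/
theorem h8ay_match_back (θ : ↥G1 ≃* ↥G1) (J J' J'' : List (Fin D.rank)) (hJ : J ∈ orbs)
    (hJ'' : J'' ∈ orbs)
    (h1 : ∀ (a : K), f^[J.length] a = a → ∀ y : ↥G1,
      y.val = h8ayXp D hB f (J.map Fin.val) a →
      ∃ c : K, f^[J'.length] c = c ∧ (θ y).val = h8ayXp D hB f (J'.map Fin.val) c)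
    (h2 : ∀ (a : K), f^[J'.length] a = a → ∀ y : ↥G1,
      y.val = h8ayXp D hB f (J'.map Fin.val) a →
      ∃ c : K, f^[J''.length] c = c ∧ (θ.symm y).val = h8ayXp D hB f (J''.map Fin.val) c) :
    J = J'' := by
  obtain ⟨i, O⟩ := hOrb J hJ
  obtain ⟨i'', O''⟩ := hOrb J'' hJ''
  have hm := h8ayXp_mem_G1 D hB hC hBN hW posi σ τ π ϖ η hAut f orbs G1 hUfix hOrb J hJ 1
    (h8ay_iter_one f _)
  obtain ⟨c, hc, e⟩ := h1 1 (h8ay_iter_one f _) ⟨_, hm⟩ rfl
  obtain ⟨c'', _, e''⟩ := h2 c hc _ e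
  rw [MulEquiv.symm_apply_apply] at e''
  by_contra hne
  have hdis : ∀ k ∈ J.map Fin.val, k ∉ J''.map Fin.val := by
    intro k hk hk''
    obtain ⟨j, hj, rfl⟩ := List.mem_map.mp hk
    obtain ⟨j'', hj'', hjj⟩ := List.mem_map.mp hk''
    have : j'' = j := Fin.ext hjj
    subst this
    exact hne (hdisj J hJ J'' hJ'' j'' hj hj'')
  exact one_ne_zero (h8ay_Xp_disj D hB f hC hBN hW hO2 hA hsc hc2 hS _ _ O.lt O''.lt O.orth O.ne
    hdis 1 c'' e'')

end

end Cfsg.Agent.Lib.helper8
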