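import Mathlib
import Cfsg.Prelude.Def_ChevStructure
import Cfsg.Agent.Lib.helper8.ChevAY16

set_option autoImplicit false

namespace Cfsg.Agent.Lib.helper8

open Cfsg.Lie Cfsg.Lie.ChevalleyDatum

universe u

variable {K : Type u} [Field K]

/-- the hypotheses on a twisted group used to determine its automorphisms -/
structure H8AyCtx (D : ChevalleyDatum) (hB : H8Base.{u} D) (posi : ℕ → ℕ)
    (σ τ π ϖ : ℕ → ℕ) (η : ℕ → ℤ) (hAut : H8Aut D σ τ π ϖ η) (f : K ≃+* K)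
    (orbs : List (List (Fin D.rank))) (G1 : Subgroup (GL D.Idx K)) : Prop where
  hB0 : H8Base.{0} D
  hA : H8ReflAll D
  hC : H8CommAll.{u} D
  hBN : H8BN D
  hW : H8BN2 D
  hO : H8Ord D
  hO2 : H8Ord2 D
  hK : H8Blk D posi
  hR : H8BlkRead D posi
  tw : ∃ (ρ : Equiv.Perm (Fin D.nroots)) (πF : Fin D.rank → Fin D.rank),
    (∀ r, (ρ r).val = σ r.val) ∧ H8Tw D hA hBN ρ πF orbs
  hσp : ∀ r, D.IsPosRoot r → D.IsPosRoot (σ r) ∧ posi (σ r) = posi r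
  hG1 : G1 ≤ D.group K
  hfix : ∀ g ∈ G1, h8Sig D σ τ π ϖ η hAut f g = g
  hUfix : ∀ g ∈ D.posUnipotent K, h8Sig D σ τ π ϖ η hAut f g = g → g ∈ G1
  hnJ : ∀ J ∈ orbs, (h8nWU D hB (J.map Fin.val) : GL D.Idx K) ∈ G1
  hsc : h8scChk D = true
  hOrb : ∀ J ∈ orbs, ∃ i, H8AyOrb D posi σ η π (J.map Fin.val) i
  hdisj : ∀ J ∈ orbs, ∀ J' ∈ orbs, ∀ j, j ∈ J → j ∈ J' → J = J'
  hxJ : ∀ J ∈ orbs, ∃ x ∈ G1, x ≠ 1 ∧ x ∈ Subgroup.closure {g : GL D.Idx K |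
      ∃ j ∈ J, ∃ t : K, g = h8xU D hB (D.simple j.val) t}
  w0 : ∃ w0 : List ℕ, h8w0Chk D w0 = true ∧ (h8nWU D hB w0 : GL D.Idx K) ∈ G1 ∧
    (∀ J ∈ orbs, ∀ j ∈ J, ∃ l ∈ J,
      h8sW D w0 (D.negIdx.getD (D.simple j.val) 0) = D.simple l.val) ∧
    (∀ J ∈ orbs, ∀ l ∈ J, ∃ j ∈ J,
      h8sW D w0 (D.negIdx.getD (D.simple j.val) 0) = D.simple l.val)
  hS : h8scommChk D = true
  hc2 : ∀ i < D.rank, D.cartan i (D.simple i) = 2
  hgen : G1 = Subgroup.closure (h8ayGen D hB f orbs)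
  rc : ∃ m : List (List ℤ), h8rcChk D m = true
  hcons : h8consChk D = true

section
variable {D : ChevalleyDatum} {hB : H8Base.{u} D} {posi : ℕ → ℕ}
  {σ τ π ϖ : ℕ → ℕ} {η : ℕ → ℤ} {hAut : H8Aut D σ τ π ϖ η} {f : K ≃+* K}
  {orbs : List (List (Fin D.rank))} {G1 : Subgroup (GL D.Idx K)}
  (X : H8AyCtx D hB posi σ τ π ϖ η hAut f orbs G1)

include X

theorem h8ayc_match [Finite K] (θ : ↥G1 ≃* ↥G1)
    (hU : ((D.posUnipotent K ⊓ G1).subgroupOf G1).map θ.toMonoidHom =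
      (D.posUnipotent K ⊓ G1).subgroupOf G1)
    (hV : ((D.negUnipotent K ⊓ G1).subgroupOf G1).map θ.toMonoidHom =
      (D.negUnipotent K ⊓ G1).subgroupOf G1)
    (J : List (Fin D.rank)) (hJ : J ∈ orbs) :
    ∃ J' ∈ orbs, (∀ (a : K), f^[J.length] a = a → ∀ y : ↥G1,
      y.val = h8ayXp D hB f (J.map Fin.val) a →
      ∃ c : K, f^[J'.length] c = c ∧ (θ y).val = h8ayXp D hB f (J'.map Fin.val) c) ∧
      (∀ (a : K), f^[J.length] a = a → ∀ y : ↥G1,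
      y.val = h8ayXm D hB f (J.map Fin.val) a →
      ∃ c : K, f^[J'.length] c = c ∧ (θ y).val = h8ayXm D hB f (J'.map Fin.val) c) := by
  obtain ⟨ρ, πF, hρ, T⟩ := X.tw
  obtain ⟨w0, hw0, hn0, hopp1, hopp2⟩ := X.w0
  exact h8ay_match D hB X.hB0 X.hA X.hC X.hBN X.hW X.hO X.hO2 posi X.hK X.hR σ τ π ϖ η hAut f ρ hρ
    πF orbs T X.hσp G1 X.hG1 X.hfix X.hUfix X.hnJ X.hsc X.hOrb X.hdisj X.hxJ w0 hw0 hn0 hopp1 hopp2
    X.hS X.hc2 θ hU hV J hJ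

theorem h8ayc_structure [Finite K] (θ : ↥G1 ≃* ↥G1) (J : List (Fin D.rank)) (hJ : J ∈ orbs)
    (hpos : ∀ (a : K), f^[J.length] a = a → ∀ y : ↥G1,
      y.val = h8ayXp D hB f (J.map Fin.val) a →
      ∃ c : K, f^[J.length] c = c ∧ (θ y).val = h8ayXp D hB f (J.map Fin.val) c)
    (hneg : ∀ (a : K), f^[J.length] a = a → ∀ y : ↥G1,
      y.val = h8ayXm D hB f (J.map Fin.val) a →
      ∃ c : K, f^[J.length] c = c ∧ (θ y).val = h8ayXm D hB f (J.map Fin.val) c) :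
    ∃ (c : K) (φ : ↥(h8ayFix f J.length) ≃+* ↥(h8ayFix f J.length)), c ≠ 0 ∧
      f^[J.length] c = c ∧
      (∀ (a : ↥(h8ayFix f J.length)) (y : ↥G1),
        y.val = h8ayXp D hB f (J.map Fin.val) a.val →
        (θ y).val = h8ayXp D hB f (J.map Fin.val) (c * (φ a).val)) ∧
      (∀ (a : ↥(h8ayFix f J.length)) (y : ↥G1),
        y.val = h8ayXm D hB f (J.map Fin.val) a.val →
        (θ y).val = h8ayXm D hB f (J.map Fin.val) (c⁻¹ * (φ a).val)) ∧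
      (∀ (t : ↥(h8ayFix f J.length)), t ≠ 0 → ∀ y : ↥G1,
        y.val = h8ayHH D hB f (J.map Fin.val) t.val →
        (θ y).val = h8ayHH D hB f (J.map Fin.val) (φ t).val) :=
  h8ay_structure D hB X.hA X.hC X.hBN X.hW X.hO2 posi σ τ π ϖ η hAut f orbs G1 X.hUfix X.hnJ
    X.hsc X.hc2 X.hOrb θ J hJ hpos hneg

theorem h8ayc_link (θ : ↥G1 ≃* ↥G1) (J J' : List (Fin D.rank)) (hJ : J ∈ orbs)
    (hJ' : J' ∈ orbs)
    (hsub : ∀ s : K, f^[J.length] s = s → f^[J'.length] s = s)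
    (hChi : ∀ s : K, s ≠ 0 → f^[J.length] s = s → ∀ i (hi : i < (J'.map Fin.val).length),
      h8ayChi D f (J.map Fin.val) s (D.simple (J'.map Fin.val)[i]) = f^[i] s⁻¹)
    (φ : ↥(h8ayFix f J.length) ≃+* ↥(h8ayFix f J.length))
    (hφ : ∀ (t : ↥(h8ayFix f J.length)), t ≠ 0 → ∀ y : ↥G1,
        y.val = h8ayHH D hB f (J.map Fin.val) t.val →
        (θ y).val = h8ayHH D hB f (J.map Fin.val) (φ t).val)
    (c' : K) (hc' : c' ≠ 0)
    (φ' : ↥(h8ayFix f J'.length) ≃+* ↥(h8ayFix f J'.length))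
    (hφ' : ∀ (a : ↥(h8ayFix f J'.length)) (y : ↥G1),
        y.val = h8ayXp D hB f (J'.map Fin.val) a.val →
        (θ y).val = h8ayXp D hB f (J'.map Fin.val) (c' * (φ' a).val))
    (s : ↥(h8ayFix f J.length)) :
    (φ' ⟨s.val, hsub s.val s.2⟩).val = (φ s).val :=
  h8ay_link D hB X.hA X.hC X.hBN X.hW X.hO2 posi σ τ π ϖ η hAut f orbs G1 X.hUfix X.hnJ
    X.hsc X.hOrb θ J J' hJ hJ' hsub hChi φ hφ c' hc' φ' hφ' s

theorem h8ayc_exists (c : ℕ → K) (hc0 : ∀ j < D.rank, c j ≠ 0)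
    (hceq : ∀ j < D.rank, c (π j) = f (c j))
    (φ : K ≃+* K) (hφ : ∀ t, φ (f t) = f (φ t)) :
    ∃ θ : ↥G1 ≃* ↥G1,
      ((D.posUnipotent K ⊓ G1).subgroupOf G1).map θ.toMonoidHom =
        (D.posUnipotent K ⊓ G1).subgroupOf G1 ∧
      ((D.negUnipotent K ⊓ G1).subgroupOf G1).map θ.toMonoidHom =
        (D.negUnipotent K ⊓ G1).subgroupOf G1 ∧
      ∀ J ∈ orbs, ∀ a : K, f^[J.length] a = a → ∀ y : ↥G1,
        (y.val = h8ayXp D hB f (J.map Fin.val) a →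
          (θ y).val = h8ayXp D hB f (J.map Fin.val) (c ((J.map Fin.val).headD 0) * φ a)) ∧
        (y.val = h8ayXm D hB f (J.map Fin.val) a →
          (θ y).val = h8ayXm D hB f (J.map Fin.val) ((c ((J.map Fin.val).headD 0))⁻¹ * φ a)) := by
  obtain ⟨m, hm⟩ := X.rc
  exact h8ay_exists D hB X.hA X.hC X.hBN X.hW posi σ τ π ϖ η hAut f orbs G1 X.hUfix X.hnJ X.hsc
    X.hOrb X.hgen m hm X.hcons c hc0 hceq φ hφ

theorem h8ayc_match_le [Finite K] (θ : ↥G1 ≃* ↥G1) (J J' : List (Fin D.rank)) (hJ : J ∈ orbs)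
    (hpos : ∀ (a : K), f^[J.length] a = a → ∀ y : ↥G1,
      y.val = h8ayXp D hB f (J.map Fin.val) a →
      ∃ c : K, f^[J'.length] c = c ∧ (θ y).val = h8ayXp D hB f (J'.map Fin.val) c) :
    Nat.card {a : K // f^[J.length] a = a} ≤ Nat.card {c : K // f^[J'.length] c = c} :=
  h8ay_match_le D hB X.hA X.hC X.hBN X.hW X.hO2 posi σ τ π ϖ η hAut f orbs G1 X.hUfix X.hOrb
    θ J J' hJ hpos

theorem h8ayc_match_back (θ : ↥G1 ≃* ↥G1) (J J' J'' : List (Fin D.rank)) (hJ : J ∈ orbs)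
    (hJ'' : J'' ∈ orbs)
    (h1 : ∀ (a : K), f^[J.length] a = a → ∀ y : ↥G1,
      y.val = h8ayXp D hB f (J.map Fin.val) a →
      ∃ c : K, f^[J'.length] c = c ∧ (θ y).val = h8ayXp D hB f (J'.map Fin.val) c)
    (h2 : ∀ (a : K), f^[J'.length] a = a → ∀ y : ↥G1,
      y.val = h8ayXp D hB f (J'.map Fin.val) a →
      ∃ c : K, f^[J''.length] c = c ∧ (θ.symm y).val = h8ayXp D hB f (J''.map Fin.val) c) :
    J = J'' :=
  h8ay_match_back D hB X.hA X.hC X.hBN X.hW X.hO2 posi σ τ π ϖ η hAut f orbs G1 X.hUfix X.hsc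
    X.hc2 X.hOrb X.hdisj X.hS θ J J' J'' hJ hJ'' h1 h2

theorem h8ayc_Xp_mem (J : List (Fin D.rank)) (hJ : J ∈ orbs) (a : K)
    (ha : f^[J.length] a = a) : h8ayXp D hB f (J.map Fin.val) a ∈ G1 :=
  h8ayXp_mem_G1 D hB X.hC X.hBN X.hW posi σ τ π ϖ η hAut f orbs G1 X.hUfix X.hOrb J hJ a ha

theorem h8ayc_Xm_mem (J : List (Fin D.rank)) (hJ : J ∈ orbs) (a : K)
    (ha : f^[J.length] a = a) : h8ayXm D hB f (J.map Fin.val) a ∈ G1 :=
  h8ayXm_mem_G1 D hB X.hA X.hC X.hBN X.hW posi σ τ π ϖ η hAut f orbs G1 X.hUfix X.hnJ X.hsc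
    X.hOrb J hJ a ha

theorem h8ayc_HH_mem (J : List (Fin D.rank)) (hJ : J ∈ orbs) (a : K)
    (ha : f^[J.length] a = a) : h8ayHH D hB f (J.map Fin.val) a ∈ G1 :=
  h8ayHH_mem_G1 D hB X.hA X.hC X.hBN X.hW posi σ τ π ϖ η hAut f orbs G1 X.hUfix X.hnJ X.hsc
    X.hOrb J hJ a ha

theorem h8ayc_Xp_inj (J : List (Fin D.rank)) (hJ : J ∈ orbs) (a b : K)
    (h : h8ayXp D hB f (J.map Fin.val) a = h8ayXp D hB f (J.map Fin.val) b) : a = b := by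
  obtain ⟨i, O⟩ := X.hOrb J hJ
  exact h8ayXp_inj D hB f X.hC X.hBN X.hW X.hO2 X.hA _ O.lt O.orth O.ne a b h

theorem h8ayc_Xm_inj (J : List (Fin D.rank)) (hJ : J ∈ orbs) (a b : K)
    (h : h8ayXm D hB f (J.map Fin.val) a = h8ayXm D hB f (J.map Fin.val) b) : a = b := by
  obtain ⟨i, O⟩ := X.hOrb J hJ
  exact h8ayXm_inj D hB f X.hC X.hBN X.hW X.hO2 X.hA X.hsc _ O.lt O.orth O.ne a b h

/-- an automorphism of the twisted group is determined by its values on the orbit products -/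
theorem h8ayc_ext (θ θ' : ↥G1 ≃* ↥G1)
    (h : ∀ J ∈ orbs, ∀ a : K, f^[J.length] a = a → ∀ y : ↥G1,
      (y.val = h8ayXp D hB f (J.map Fin.val) a → θ y = θ' y) ∧
      (y.val = h8ayXm D hB f (J.map Fin.val) a → θ y = θ' y)) : θ = θ' := by
  apply h8ay_aut_ext G1 _ X.hgen
  rintro y ⟨J, hJ, a, ha, hy | hy⟩
  · exact (h J hJ a ha y).1 hy
  · exact (h J hJ a ha y).2 hy

end

end Cfsg.Agent.Lib.helper8
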