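import Mathlib
import Cfsg.Prelude.Def_ChevStructure
import Cfsg.Agent.Lib.helper8.ChevAY17
import Cfsg.Agent.Lib.helper8.ChevAV3

set_option autoImplicit false

namespace Cfsg.Agent.Lib.helper8

open Cfsg.Lie Cfsg.Lie.ChevalleyDatum

universe u

variable {K : Type u} [Field K]

section
variable {D : ChevalleyDatum} {hB : H8Base.{u} D} {posi : ℕ → ℕ}
  {σ τ π ϖ : ℕ → ℕ} {η : ℕ → ℤ} {hAut : H8Aut D σ τ π ϖ η} {f : K ≃+* K}
  {orbs : List (List (Fin D.rank))} {G1 : Subgroup (GL D.Idx K)}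
  (X : H8AyCtx D hB posi σ τ π ϖ η hAut f orbs G1)

include X

/-- after an inner automorphism, an automorphism of the twisted group stabilizes `U ∩ G¹`
and `V ∩ G¹` -/
theorem h8ayc_normalize [Finite K] (p : ℕ) [Fact p.Prime]
    (hUcard : Nat.card ↥(D.posUnipotent K ⊓ G1) = p ^ (Nat.card ↥G1).factorization p)
    (θ : ↥G1 ≃* ↥G1) :
    ∃ x : ↥G1,
      ((D.posUnipotent K ⊓ G1).subgroupOf G1).map (θ.trans (MulAut.conj x)).toMonoidHom =
        (D.posUnipotent K ⊓ G1).subgroupOf G1 ∧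
      ((D.negUnipotent K ⊓ G1).subgroupOf G1).map (θ.trans (MulAut.conj x)).toMonoidHom =
        (D.negUnipotent K ⊓ G1).subgroupOf G1 := by
  obtain ⟨ρ, πF, hρ, T⟩ := X.tw
  obtain ⟨w0, hw0, hn0, hopp1, hopp2⟩ := X.w0
  have : Finite ↥G1 := Subtype.finite
  set n₀ : ↥G1 := ⟨h8nWU D hB w0, hn0⟩ with hn₀def
  have hUV : ((D.posUnipotent K ⊓ G1).subgroupOf G1).map (MulAut.conj n₀).toMonoidHom =
      (D.negUnipotent K ⊓ G1).subgroupOf G1 := by
    rw [h8au_subgroupOf_map_conj]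
    show ((D.posUnipotent K ⊓ G1).map
      (MulAut.conj (h8nWU D hB w0 : GL D.Idx K)).toMonoidHom).subgroupOf G1 = _
    rw [h8ay_map_inf_conj _ _ _ hn0, h8_conj_U_eq_V D hB X.hA w0 hw0]
  apply h8au_normalize p
  · rw [h8_card_subgroupOf inf_le_right]
    exact hUcard
  · rw [← hUV]
    exact Nat.card_congr
      (Subgroup.equivMapOfInjective _ _ (MulAut.conj n₀).injective).toEquiv.symm
  · rw [h8au_subgroupOf_inf]
    apply h8au_subgroupOf_eq_bot
    rw [eq_bot_iff, ← h8_B_inf_V (F := K) D hB X.hBN.negOK]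
    exact inf_le_inf (le_trans inf_le_left (h8U_le_B D)) inf_le_left
  · intro z hz
    rw [h8au_subgroupOf_map_conj, h8au_subgroupOf_inf] at hz
    have hz' := h8au_eq_bot_of_subgroupOf _ _ (le_trans inf_le_right inf_le_right) hz
    obtain ⟨u, hu, hueq⟩ := h8ay_d D hB X.hB0 X.hA X.hC X.hBN X.hW X.hO X.hO2 σ τ π ϖ η hAut f ρ
      hρ πF orbs T (fun r hr => (X.hσp r hr).1) G1 X.hG1 X.hfix X.hUfix X.hxJ w0 hw0 z.val z.2 hz'
    refine ⟨⟨u, hu.2⟩, Subgroup.mem_subgroupOf.mpr hu, ?_⟩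
    rw [h8au_subgroupOf_map_conj, h8au_subgroupOf_map_conj, hueq]

/-- the inner automorphisms stabilizing `U ∩ G¹` and `V ∩ G¹` are those of `H ∩ G¹` -/
theorem h8ayc_inner (x : ↥G1) :
    MulAut.conj x ∈ h8ayA0 ((D.posUnipotent K ⊓ G1).subgroupOf G1)
      ((D.negUnipotent K ⊓ G1).subgroupOf G1) ↔
    x ∈ (D.diagonalSubgroup K ⊓ G1).subgroupOf G1 := by
  obtain ⟨ρ, πF, hρ, T⟩ := X.tw
  obtain ⟨w0, hw0, hn0, hopp1, hopp2⟩ := X.w0
  have hmapG : ∀ (A : Subgroup (GL D.Idx K)), A ≤ G1 →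
      A.map (MulAut.conj (x : GL D.Idx K)).toMonoidHom ≤ G1 := by
    rintro A hA _ ⟨k, hk, rfl⟩
    exact Subgroup.mul_mem _ (Subgroup.mul_mem _ x.2 (hA hk)) (Subgroup.inv_mem _ x.2)
  rw [h8ayA0_mem]
  constructor
  · rintro ⟨hU, hV⟩
    have hUx : (D.posUnipotent K ⊓ G1).map (MulAut.conj (x : GL D.Idx K)).toMonoidHom =
        D.posUnipotent K ⊓ G1 := by
      apply h8au_subgroupOf_inj _ _ _ (hmapG _ inf_le_right) inf_le_right
      rw [← h8au_subgroupOf_map_conj]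
      exact hU
    have hVx : (D.negUnipotent K ⊓ G1).map (MulAut.conj (x : GL D.Idx K)).toMonoidHom =
        D.negUnipotent K ⊓ G1 := by
      apply h8au_subgroupOf_inj _ _ _ (hmapG _ inf_le_right) inf_le_right
      rw [← h8au_subgroupOf_map_conj]
      exact hV
    rw [Subgroup.mem_subgroupOf]
    exact ⟨h8ay_inner D hB X.hB0 X.hA X.hC X.hBN X.hW X.hO X.hO2 σ τ π ϖ η hAut f ρ
      hρ πF orbs T (fun r hr => (X.hσp r hr).1) G1 X.hG1 X.hfix X.hUfix X.hxJ w0 hw0 hn0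
      x.val x.2 hUx hVx, x.2⟩
  · intro hx
    rw [Subgroup.mem_subgroupOf] at hx
    constructor
    · rw [h8au_subgroupOf_map_conj, h8ay_map_inf_conj _ _ _ x.2,
        h8av_map_of_mem_normalizer _ _ (h8_H_le_normalizer_U D hB hx.1)]
    · rw [h8au_subgroupOf_map_conj, h8ay_map_inf_conj _ _ _ x.2,
        h8av_map_of_mem_normalizer _ _ (h8_H_le_normalizer_V D hB hx.1)]

/-- the order of the outer automorphism group of a twisted group in terms of the automorphisms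
stabilizing `U ∩ G¹` and `V ∩ G¹` -/
theorem h8ayc_out [Finite K] (p : ℕ) [Fact p.Prime]
    (hUcard : Nat.card ↥(D.posUnipotent K ⊓ G1) = p ^ (Nat.card ↥G1).factorization p)
    (hcenter : Subgroup.center ↥G1 = ⊥) :
    Nat.card ↥(D.diagonalSubgroup K ⊓ G1) * Nat.card (Cfsg.Out ↥G1) =
      Nat.card ↥(h8ayA0 ((D.posUnipotent K ⊓ G1).subgroupOf G1)
        ((D.negUnipotent K ⊓ G1).subgroupOf G1)) := by
  have : Finite ↥G1 := Subtype.finite
  rw [← h8ay_out_card _ _ ((D.diagonalSubgroup K ⊓ G1).subgroupOf G1) hcenter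
    (h8ayc_normalize X p hUcard) (h8ayc_inner X), h8_card_subgroupOf inf_le_right]

end

end Cfsg.Agent.Lib.helper8
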