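import Mathlib
import Cfsg.Prelude.Def_ChevStructure
import Cfsg.Agent.Lib.helper8.ChevAY18

set_option autoImplicit false

namespace Cfsg.Agent.Lib.helper8

open Cfsg.Lie Cfsg.Lie.ChevalleyDatum

universe u

variable {K : Type u} [Field K]

/-- when a power of `f` is the identity, the automorphisms of its fixed field are automorphisms
of the field -/
theorem h8ay_fix_top (f : K ≃+* K) (m : ℕ) (h : ∀ a, f^[m] a = a)
    (φ : ↥(h8ayFix f m) ≃+* ↥(h8ayFix f m)) :
    ∃ ψ : K ≃+* K, ∀ a : ↥(h8ayFix f m), ψ a.val = (φ a).val := by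
  let e : ↥(h8ayFix f m) ≃+* K :=
    { toFun := Subtype.val
      invFun := fun a => ⟨a, h a⟩
      left_inv := fun _ => rfl
      right_inv := fun _ => rfl
      map_mul' := fun _ _ => rfl
      map_add' := fun _ _ => rfl }
  refine ⟨e.symm.trans (φ.trans e), ?_⟩
  intro a
  rfl

/-- iterates of `f` fix the fixed points of `f` -/
theorem h8ay_iter_fixed (f : K ≃+* K) (s : K) (hs : f s = s) : ∀ n : ℕ, f^[n] s = s := by
  intro n
  exact Function.iterate_fixed hs n

/-- the cardinality of the unit group of the fixed field -/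
theorem h8ayFix_units_card (f : K ≃+* K) (m : ℕ) :
    Nat.card (↥(h8ayFix f m))ˣ = Nat.card {a : K // f^[m] a = a} - 1 := by
  rw [Nat.card_units]
  rfl

end Cfsg.Agent.Lib.helper8
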