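import Mathlib
import Cfsg.Prelude.Def_ChevStructure
import Cfsg.Prelude.Def_LieTwisted
import Cfsg.Agent.Lib.helper8.ChevTwD4C
import Cfsg.Agent.Lib.helper8.ChevAY15

set_option autoImplicit false

namespace Cfsg.Agent.Lib.helper8

open Cfsg.Lie Cfsg.Lie.ChevalleyDatum

universe u

variable {K : Type u} [Field K]

/-- the block of the simple roots of an orbit of `D₄` -/
def h8azBlkD4 (J : List (Fin chevD4.rank)) : ℕ := if J.length = 1 then 1 else 0

set_option maxRecDepth 4000 in
theorem h8azOrbD4 : ∀ J ∈ h8orbsD4,
    H8AyOrb chevD4 h8posiD4 h8sD4 h8eD4 h8pD4 (J.map Fin.val) (h8azBlkD4 J) := by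
  intro J hJ
  simp only [h8orbsD4, List.mem_cons, List.not_mem_nil, or_false] at hJ
  rcases hJ with rfl | rfl
  · exact
      { lt := by decide
        ne := by decide
        orth := by decide +kernel
        nodup := by decide +kernel
        blk := by decide +kernel
        sim := by decide +kernel
        rot := by decide }
  · exact
      { lt := by decide
        ne := by decide
        orth := by decide +kernel
        nodup := by decide +kernel
        blk := by decide +kernel
        sim := by decide +kernel
        rot := by decide }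

theorem h8azOppD4 : ∀ J ∈ h8orbsD4, (∀ j ∈ J, ∃ l ∈ J,
    h8sW chevD4 ((h8w0ksD4.map fun J => J.map Fin.val).flatten)
      (chevD4.negIdx.getD (chevD4.simple j.val) 0) = chevD4.simple l.val) ∧
    (∀ l ∈ J, ∃ j ∈ J,
    h8sW chevD4 ((h8w0ksD4.map fun J => J.map Fin.val).flatten)
      (chevD4.negIdx.getD (chevD4.simple j.val) 0) = chevD4.simple l.val) := by
  decide +kernel

theorem h8azCartanD4 : chevD4.cartan 1 (chevD4.simple 0) = -1 ∧
    chevD4.cartan 1 (chevD4.simple 2) = -1 ∧ chevD4.cartan 1 (chevD4.simple 3) = -1 := by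
  decide +kernel

end Cfsg.Agent.Lib.helper8
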