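import Mathlib
import Cfsg.Prelude.Def_ChevStructure
import Cfsg.Prelude.Def_LieTwisted
import Cfsg.Agent.Lib.helper8.ChevTwD4C
import Cfsg.Agent.Lib.helper8.ChevAY15

set_option autoImplicit false

namespace Cfsg.Agent.Lib.helper8

open Cfsg.Lie Cfsg.Lie.ChevalleyDatum

universe u

variable {K : Type u} [Field K]

/-- `³D₄(q)` is generated by the orbit products -/
theorem h8azGenD4 (hB : H8Base.{u} chevD4) (q : ℕ) (f : K ≃+* K) (hf : ∀ t, f t = t ^ q)
    (hfff : ∀ t, f (f (f t)) = t) :
    twistedD4 K q = Subgroup.closure (h8ayGen chevD4 hB f h8orbsD4) := by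
  obtain ⟨s0, s1, s2, s3, n0, n1, n2, n3⟩ := h8twD4_simdata
  have hn0 : chevD4.negIdx.getD 18 0 = 5 := by decide +kernel
  have hn1 : chevD4.negIdx.getD 14 0 = 9 := by decide +kernel
  have hn2 : chevD4.negIdx.getD 13 0 = 10 := by decide +kernel
  have hn3 : chevD4.negIdx.getD 12 0 = 11 := by decide +kernel
  have hJ1 : ([⟨1, by decide⟩] : List (Fin chevD4.rank)) ∈ h8orbsD4 := by
    simp [h8orbsD4]
  have hJ3 : ([⟨0, by decide⟩, ⟨2, by decide⟩, ⟨3, by decide⟩] : List (Fin chevD4.rank)) ∈
      h8orbsD4 := by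
    simp [h8orbsD4]
  have hff : ∀ t : K, f (f t) = t ^ (q ^ 2) := by
    intro t
    rw [hf, hf, sq, pow_mul]
  apply le_antisymm
  · unfold twistedD4 ChevalleyDatum.genSubgroup
    rw [Subgroup.closure_le]
    rintro g ⟨w, hw, hg⟩
    have hgw : g = h8wordU chevD4 hB w := Units.ext (hg.trans (h8wordU_val chevD4 hB w).symm)
    apply Subgroup.subset_closure
    rcases hw with ⟨t, ht, r, hr, rfl⟩ | ⟨t, rs, hrs, rfl⟩
    · rw [h8wordU_one] at hgw
      simp only [d4p2, d4m2, List.mem_cons, List.not_mem_nil, or_false] at hr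
      refine ⟨_, hJ1, t, ?_, ?_⟩
      · show f t = t
        rw [hf, ht]
      · rcases hr with rfl | rfl
        · left
          show g = h8xU chevD4 hB (chevD4.simple 1) t * 1
          rw [mul_one, s1, hgw]
        · right
          show g = h8xU chevD4 hB (chevD4.negIdx.getD (chevD4.simple 1) 0) t * 1
          rw [mul_one, s1, hn1, hgw]
    · rw [h8wordU_three] at hgw
      simp only [d4p1, d4p3, d4p4, d4m1, d4m3, d4m4, List.mem_cons, List.not_mem_nil,
        or_false] at hrs
      refine ⟨_, hJ3, t, ?_, ?_⟩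
      · show f (f (f t)) = t
        exact hfff t
      · rcases hrs with rfl | rfl
        · left
          show g = h8xU chevD4 hB (chevD4.simple 0) t * (h8xU chevD4 hB (chevD4.simple 2) (f t) *
            (h8xU chevD4 hB (chevD4.simple 3) (f (f t)) * 1))
          rw [mul_one, s0, s2, s3, hgw, hff, hf, mul_assoc]
        · right
          show g = h8xU chevD4 hB (chevD4.negIdx.getD (chevD4.simple 0) 0) t *
            (h8xU chevD4 hB (chevD4.negIdx.getD (chevD4.simple 2) 0) (f t) *
            (h8xU chevD4 hB (chevD4.negIdx.getD (chevD4.simple 3) 0) (f (f t)) * 1))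
          rw [mul_one, s0, s2, s3, hn0, hn2, hn3, hgw, hff, hf, mul_assoc]
  · rw [Subgroup.closure_le]
    rintro g ⟨J, hJ, a, ha, hg⟩
    simp only [h8orbsD4, List.mem_cons, List.not_mem_nil, or_false] at hJ
    rcases hJ with rfl | rfl
    · have ha' : a ^ q = a := by
        rw [← hf]
        exact ha
      rcases hg with rfl | rfl
      · show h8xU chevD4 hB (chevD4.simple 1) a * 1 ∈ _
        rw [mul_one, s1]
        exact h8twD4_x1 hB q 14 (by simp) a ha'
      · show h8xU chevD4 hB (chevD4.negIdx.getD (chevD4.simple 1) 0) a * 1 ∈ _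
        rw [mul_one, s1, hn1]
        exact h8twD4_x1 hB q 9 (by simp) a ha'
    · rcases hg with rfl | rfl
      · show h8xU chevD4 hB (chevD4.simple 0) a * (h8xU chevD4 hB (chevD4.simple 2) (f a) *
            (h8xU chevD4 hB (chevD4.simple 3) (f (f a)) * 1)) ∈ _
        rw [mul_one, s0, s2, s3, hff, hf, ← mul_assoc]
        exact h8twD4_x3 hB q 18 13 12 (by simp) a
      · show h8xU chevD4 hB (chevD4.negIdx.getD (chevD4.simple 0) 0) a *
            (h8xU chevD4 hB (chevD4.negIdx.getD (chevD4.simple 2) 0) (f a) *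
            (h8xU chevD4 hB (chevD4.negIdx.getD (chevD4.simple 3) 0) (f (f a)) * 1)) ∈ _
        rw [mul_one, s0, s2, s3, hn0, hn2, hn3, hff, hf, ← mul_assoc]
        exact h8twD4_x3 hB q 5 10 11 (by simp) a

end Cfsg.Agent.Lib.helper8
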