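import Mathlib
import Cfsg.Prelude.Def_ChevStructure
import Cfsg.Prelude.Def_LieTwisted
import Cfsg.Agent.Lib.helper8.ChevAZ1
import Cfsg.Agent.Lib.helper8.ChevAZ2
import Cfsg.Agent.Lib.helper8.ChevAY18
import Cfsg.Agent.Lib.helper8.ChevSLP2
import Cfsg.Agent.Lib.helper8.ChevChar3

set_option autoImplicit false

namespace Cfsg.Agent.Lib.helper8

open Cfsg.Lie Cfsg.Lie.ChevalleyDatum

universe u

variable {K : Type u} [Field K]

/-- the context of `³D₄(q)` -/
theorem h8azCtxD4 (hB : H8Base.{u} chevD4) (hA : H8ReflAll chevD4) (q : ℕ) (f : K ≃+* K)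
    (hf : ∀ t, f t = t ^ q) (hfff : ∀ t, f (f (f t)) = t) (hneg : (-1 : K) ^ q = -1) :
    H8AyCtx chevD4 hB h8posiD4 h8sD4 h8tD4 h8pD4 h8qD4 h8eD4 (h8autD4 hA) f h8orbsD4
      (twistedD4 K q) := by
  have hD : chevD4 ∈ [chevG2, chevB2, chevD4, chevF4, chevE6, chevE7, chevE8] := by simp
  have hB0 := h8base_all.{0} chevD4 hD
  have hC := h8commAll.{u} chevD4 hD
  have hBN := h8bn_all chevD4 hD
  have hW := h8bn2_all chevD4 hD
  obtain ⟨hO, hO2⟩ := h8ord_all chevD4 hD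
  have hσp : ∀ r, chevD4.IsPosRoot r →
      chevD4.IsPosRoot (h8sD4 r) ∧ h8posiD4 (h8sD4 r) = h8posiD4 r :=
    fun r hr => ⟨(h8uD4_sig1 r hr.1 hr).1, (h8uD4_sig1 r hr.1 hr).2.1⟩
  have hUfix := h8twD4_U_fix hB hC hA hBN hO2 q f hf hfff hneg
  have hnJ := h8twD4_nJ (K := K) hB hC q hneg
  exact
    { hB0 := hB0
      hA := hA
      hC := hC
      hBN := hBN
      hW := hW
      hO := hO
      hO2 := hO2
      hK := h8uD4_blk
      hR := h8uD4_read
      tw := ⟨h8mkRho chevD4 h8sD4 h8tD4 h8pD4 h8qD4 h8eD4 (h8autD4 hA), h8piD4, fun r => rfl,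
        h8twD4 hA hBN⟩
      hσp := hσp
      hG1 := h8gen_le_group chevD4 hB _
      hfix := h8twD4_fix hB hC hA q f hf hfff
      hUfix := hUfix
      hnJ := hnJ
      hsc := h8scChk_all chevD4 hD
      hOrb := fun J hJ => ⟨_, h8azOrbD4 J hJ⟩
      hdisj := h8twD4_disj
      hxJ := by
        intro J hJ
        have hk : ∃ k < 2, J = h8orbsD4.getD k [] := by
          simp only [h8orbsD4, List.mem_cons, List.not_mem_nil, or_false] at hJ
          rcases hJ with rfl | rfl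
          · exact ⟨0, by norm_num, rfl⟩
          · exact ⟨1, by norm_num, rfl⟩
        obtain ⟨k, hk2, rfl⟩ := hk
        obtain ⟨hne, hdata⟩ := h8twD4_xdata k hk2
        exact h8tw_xJ chevD4 hB hC hBN hO2 h8posiD4 h8uD4_blk h8uD4_read h8sD4 h8tD4 h8pD4 h8qD4
          h8eD4 (h8autD4 hA) f hσp (twistedD4 K q) hUfix _ (h8blkOfD4 k) hne hdata
      w0 := ⟨_, h8w0ksD4_chk,
        h8tw_nWU_flat chevD4 hB h8orbsD4 (twistedD4 K q) h8w0ksD4 h8w0ksD4_mem hnJ,
        fun J hJ => (h8azOppD4 J hJ).1, fun J hJ => (h8azOppD4 J hJ).2⟩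
      hS := h8scommChk_all chevD4 hD
      hc2 := h8cartan_simple chevD4 hD
      hgen := h8azGenD4 hB q f hf hfff
      rc := h8rc_all chevD4 hD
      hcons := h8consChk_all chevD4 hD }

end Cfsg.Agent.Lib.helper8
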