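import Mathlib
import Cfsg.Prelude.Def_ChevStructure
import Cfsg.Prelude.Def_LieTwisted
import Cfsg.Agent.Lib.helper8.ChevAZ3
import Cfsg.Agent.Lib.helper8.ChevTwU6

set_option autoImplicit false

namespace Cfsg.Agent.Lib.helper8

open Cfsg.Lie Cfsg.Lie.ChevalleyDatum

universe u

variable {K : Type u} [Field K]

/-- the orbit of the central node of `D₄` -/
def h8azJ1 : List (Fin chevD4.rank) := [⟨1, by decide⟩]

/-- the orbit of the outer nodes of `D₄` -/
def h8azJ3 : List (Fin chevD4.rank) := [⟨0, by decide⟩, ⟨2, by decide⟩, ⟨3, by decide⟩]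

theorem h8azJ1_mem : h8azJ1 ∈ h8orbsD4 := by simp [h8orbsD4, h8azJ1]

theorem h8azJ3_mem : h8azJ3 ∈ h8orbsD4 := by simp [h8orbsD4, h8azJ3]

theorem h8azJ_cases (J : List (Fin chevD4.rank)) (hJ : J ∈ h8orbsD4) : J = h8azJ1 ∨ J = h8azJ3 := by
  simpa [h8orbsD4, h8azJ1, h8azJ3] using hJ

section
variable [Fintype K] {q : ℕ} (hq : 1 < q) (hKc : Fintype.card K = q ^ 3)
  (hB : H8Base.{u} chevD4) (hA : H8ReflAll chevD4) (f : K ≃+* K)
  (hf : ∀ t, f t = t ^ q) (hfff : ∀ t, f (f (f t)) = t) (hneg : (-1 : K) ^ q = -1)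

include hq hKc hA hf hfff hneg in
/-- an automorphism stabilizing `U¹` and `V¹` preserves the orbit products of the outer nodes -/
theorem h8azD4_match3 (θ : ↥(twistedD4 K q) ≃* ↥(twistedD4 K q))
    (hU : ((chevD4.posUnipotent K ⊓ twistedD4 K q).subgroupOf (twistedD4 K q)).map
      θ.toMonoidHom = (chevD4.posUnipotent K ⊓ twistedD4 K q).subgroupOf (twistedD4 K q))
    (hV : ((chevD4.negUnipotent K ⊓ twistedD4 K q).subgroupOf (twistedD4 K q)).map
      θ.toMonoidHom = (chevD4.negUnipotent K ⊓ twistedD4 K q).subgroupOf (twistedD4 K q)) :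
    (∀ (a : K), f^[h8azJ3.length] a = a → ∀ y : ↥(twistedD4 K q),
      y.val = h8ayXp chevD4 hB f (h8azJ3.map Fin.val) a →
      ∃ c : K, f^[h8azJ3.length] c = c ∧
        (θ y).val = h8ayXp chevD4 hB f (h8azJ3.map Fin.val) c) ∧
    (∀ (a : K), f^[h8azJ3.length] a = a → ∀ y : ↥(twistedD4 K q),
      y.val = h8ayXm chevD4 hB f (h8azJ3.map Fin.val) a →
      ∃ c : K, f^[h8azJ3.length] c = c ∧
        (θ y).val = h8ayXm chevD4 hB f (h8azJ3.map Fin.val) c) := by
  have X := h8azCtxD4 hB hA q f hf hfff hneg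
  obtain ⟨J', hJ', hp, hn⟩ := h8ayc_match X θ hU hV h8azJ3 h8azJ3_mem
  rcases h8azJ_cases J' hJ' with rfl | rfl
  · exfalso
    have hle := h8ayc_match_le X θ h8azJ3 h8azJ1 h8azJ3_mem hp
    have h3 : Nat.card {a : K // f^[h8azJ3.length] a = a} = q ^ 3 := by
      rw [← hKc, ← Nat.card_eq_fintype_card]
      exact Nat.card_congr (Equiv.subtypeUnivEquiv (fun a => hfff a))
    have h1 : Nat.card {c : K // f^[h8azJ1.length] c = c} = q :=
      h8frob_fix_card hq (by norm_num : 0 < 3) hKc f hf (fun t => hfff t)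
    rw [h3, h1] at hle
    have h4 : q ^ 1 < q ^ 3 := Nat.pow_lt_pow_right hq (by norm_num)
    rw [pow_one] at h4
    omega
  · exact ⟨hp, hn⟩

include hq hKc hA hf hfff hneg in
/-- an automorphism stabilizing `U¹` and `V¹` preserves the orbit products of each orbit -/
theorem h8azD4_match_id (θ : ↥(twistedD4 K q) ≃* ↥(twistedD4 K q))
    (hU : ((chevD4.posUnipotent K ⊓ twistedD4 K q).subgroupOf (twistedD4 K q)).map
      θ.toMonoidHom = (chevD4.posUnipotent K ⊓ twistedD4 K q).subgroupOf (twistedD4 K q))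
    (hV : ((chevD4.negUnipotent K ⊓ twistedD4 K q).subgroupOf (twistedD4 K q)).map
      θ.toMonoidHom = (chevD4.negUnipotent K ⊓ twistedD4 K q).subgroupOf (twistedD4 K q))
    (J : List (Fin chevD4.rank)) (hJ : J ∈ h8orbsD4) :
    (∀ (a : K), f^[J.length] a = a → ∀ y : ↥(twistedD4 K q),
      y.val = h8ayXp chevD4 hB f (J.map Fin.val) a →
      ∃ c : K, f^[J.length] c = c ∧ (θ y).val = h8ayXp chevD4 hB f (J.map Fin.val) c) ∧
    (∀ (a : K), f^[J.length] a = a → ∀ y : ↥(twistedD4 K q),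
      y.val = h8ayXm chevD4 hB f (J.map Fin.val) a →
      ∃ c : K, f^[J.length] c = c ∧ (θ y).val = h8ayXm chevD4 hB f (J.map Fin.val) c) := by
  have X := h8azCtxD4 hB hA q f hf hfff hneg
  rcases h8azJ_cases J hJ with rfl | rfl
  · obtain ⟨J', hJ', hp, hn⟩ := h8ayc_match X θ hU hV h8azJ1 h8azJ1_mem
    rcases h8azJ_cases J' hJ' with rfl | rfl
    · exact ⟨hp, hn⟩
    · exfalso
      have h3 := h8azD4_match3 hq hKc hB hA f hf hfff hneg θ.symm (h8au_map_symm _ θ hU)
        (h8au_map_symm _ θ hV)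
      have := h8ayc_match_back X θ h8azJ1 h8azJ3 h8azJ3 h8azJ1_mem h8azJ3_mem hp h3.1
      exact absurd (congrArg List.length this) (by decide)
  · exact h8azD4_match3 hq hKc hB hA f hf hfff hneg θ hU hV

end

end Cfsg.Agent.Lib.helper8
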