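import Mathlib
import Cfsg.Prelude.Def_ChevStructure
import Cfsg.Prelude.Def_LieTwisted
import Cfsg.Agent.Lib.helper8.ChevAZ4
import Cfsg.Agent.Lib.helper8.ChevAY19

set_option autoImplicit false

namespace Cfsg.Agent.Lib.helper8

open Cfsg.Lie Cfsg.Lie.ChevalleyDatum

universe u

variable {K : Type u} [Field K]

/-- the parameters of the nodes of `D₄` -/
def h8azC4 (f : K ≃+* K) (s b : K) : ℕ → K := fun j =>
  if j = 1 then s else if j = 0 then b else if j = 2 then f b else f (f b)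

/-- the relation between an automorphism of `³D₄(q)` and its parameters -/
def h8azRelD4 (hB : H8Base.{u} chevD4) (q : ℕ) (f : K ≃+* K)
    (θ : ↥(twistedD4 K q) ≃* ↥(twistedD4 K q)) (s b : K) (φ : K ≃+* K) : Prop :=
  ∀ J ∈ h8orbsD4, ∀ a : K, f^[J.length] a = a → ∀ y : ↥(twistedD4 K q),
    (y.val = h8ayXp chevD4 hB f (J.map Fin.val) a →
      (θ y).val = h8ayXp chevD4 hB f (J.map Fin.val)
        (h8azC4 f s b ((J.map Fin.val).headD 0) * φ a)) ∧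
    (y.val = h8ayXm chevD4 hB f (J.map Fin.val) a →
      (θ y).val = h8ayXm chevD4 hB f (J.map Fin.val)
        ((h8azC4 f s b ((J.map Fin.val).headD 0))⁻¹ * φ a))

section
variable [Fintype K] {q : ℕ} (hq : 1 < q) (hKc : Fintype.card K = q ^ 3)
  (hB : H8Base.{u} chevD4) (hA : H8ReflAll chevD4) (f : K ≃+* K)
  (hf : ∀ t, f t = t ^ q) (hfff : ∀ t, f (f (f t)) = t) (hneg : (-1 : K) ^ q = -1)

include hq hKc hA hf hfff hneg in
/-- the parameters of an automorphism stabilizing `U¹` and `V¹` -/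
theorem h8azD4_data (θ : ↥(twistedD4 K q) ≃* ↥(twistedD4 K q))
    (hU : ((chevD4.posUnipotent K ⊓ twistedD4 K q).subgroupOf (twistedD4 K q)).map
      θ.toMonoidHom = (chevD4.posUnipotent K ⊓ twistedD4 K q).subgroupOf (twistedD4 K q))
    (hV : ((chevD4.negUnipotent K ⊓ twistedD4 K q).subgroupOf (twistedD4 K q)).map
      θ.toMonoidHom = (chevD4.negUnipotent K ⊓ twistedD4 K q).subgroupOf (twistedD4 K q)) :
    ∃ (s b : K) (φ : K ≃+* K), s ≠ 0 ∧ f s = s ∧ b ≠ 0 ∧ h8azRelD4 hB q f θ s b φ := by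
  have X := h8azCtxD4 hB hA q f hf hfff hneg
  obtain ⟨hp1, hn1⟩ := h8azD4_match_id hq hKc hB hA f hf hfff hneg θ hU hV h8azJ1 h8azJ1_mem
  obtain ⟨hp3, hn3⟩ := h8azD4_match_id hq hKc hB hA f hf hfff hneg θ hU hV h8azJ3 h8azJ3_mem
  obtain ⟨c1, φ1, hc1, hc1f, hx1, hm1, hh1⟩ := h8ayc_structure X θ h8azJ1 h8azJ1_mem hp1 hn1
  obtain ⟨c3, φ3, hc3, hc3f, hx3, hm3, hh3⟩ := h8ayc_structure X θ h8azJ3 h8azJ3_mem hp3 hn3
  have hsub : ∀ s : K, f^[h8azJ1.length] s = s → f^[h8azJ3.length] s = s :=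
    fun s _ => hfff s
  have hChi : ∀ s : K, s ≠ 0 → f^[h8azJ1.length] s = s →
      ∀ i (hi : i < (h8azJ3.map Fin.val).length),
      h8ayChi chevD4 f (h8azJ1.map Fin.val) s (chevD4.simple (h8azJ3.map Fin.val)[i]) =
        f^[i] s⁻¹ := by
    intro s _ hs i hi
    have hs' : f s = s := hs
    obtain ⟨k0, k2, k3⟩ := h8azCartanD4
    rw [h8ay_iter_inv, h8ay_iter_fixed f s hs']
    have hi3 : i < 3 := hi
    interval_cases i
    · show s ^ (chevD4.cartan 1 (chevD4.simple 0)) * 1 = s⁻¹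
      rw [k0, mul_one, zpow_neg_one]
    · show s ^ (chevD4.cartan 1 (chevD4.simple 2)) * 1 = s⁻¹
      rw [k2, mul_one, zpow_neg_one]
    · show s ^ (chevD4.cartan 1 (chevD4.simple 3)) * 1 = s⁻¹
      rw [k3, mul_one, zpow_neg_one]
  have hlink := h8ayc_link X θ h8azJ1 h8azJ3 h8azJ1_mem h8azJ3_mem hsub hChi φ1 hh1 c3 hc3 φ3 hx3
  obtain ⟨ψ, hψ⟩ := h8ay_fix_top f h8azJ3.length (fun a => hfff a) φ3
  refine ⟨c1, c3, ψ, hc1, hc1f, hc3, ?_⟩
  intro J hJ a ha y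
  rcases h8azJ_cases J hJ with rfl | rfl
  · have e1 : h8azC4 f c1 c3 ((h8azJ1.map Fin.val).headD 0) = c1 := rfl
    have e2 : ψ a = (φ1 ⟨a, ha⟩).val := by
      rw [← hlink ⟨a, ha⟩]
      exact hψ ⟨a, hsub a ha⟩
    rw [e1, e2]
    exact ⟨fun hy => hx1 ⟨a, ha⟩ y hy, fun hy => hm1 ⟨a, ha⟩ y hy⟩
  · have e1 : h8azC4 f c1 c3 ((h8azJ3.map Fin.val).headD 0) = c3 := rfl
    have e2 : ψ a = (φ3 ⟨a, ha⟩).val := hψ ⟨a, ha⟩
    rw [e1, e2]
    exact ⟨fun hy => hx3 ⟨a, ha⟩ y hy, fun hy => hm3 ⟨a, ha⟩ y hy⟩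

end

end Cfsg.Agent.Lib.helper8
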