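import Mathlib
import Cfsg.Prelude.Def_ChevStructure
import Cfsg.Prelude.Def_LieTwisted
import Cfsg.Agent.Lib.helper8.ChevAZ5

set_option autoImplicit false

namespace Cfsg.Agent.Lib.helper8

open Cfsg.Lie Cfsg.Lie.ChevalleyDatum

universe u

variable {K : Type u} [Field K]

theorem h8azPD4 : h8pD4 0 = 2 ∧ h8pD4 1 = 1 ∧ h8pD4 2 = 3 ∧ h8pD4 3 = 0 := by decide

section
variable [Fintype K] {q : ℕ} (hq : 1 < q) (hKc : Fintype.card K = q ^ 3)
  (hB : H8Base.{u} chevD4) (hA : H8ReflAll chevD4) (f : K ≃+* K)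
  (hf : ∀ t, f t = t ^ q) (hfff : ∀ t, f (f (f t)) = t) (hneg : (-1 : K) ^ q = -1)

omit [Fintype K] in
include hA hf hfff hneg in
/-- the automorphism of `³D₄(q)` with given parameters -/
theorem h8azD4_exists (s b : K) (hs : s ≠ 0) (hsf : f s = s) (hb : b ≠ 0) (φ : K ≃+* K) :
    ∃ θ : ↥(twistedD4 K q) ≃* ↥(twistedD4 K q),
      ((chevD4.posUnipotent K ⊓ twistedD4 K q).subgroupOf (twistedD4 K q)).map
        θ.toMonoidHom = (chevD4.posUnipotent K ⊓ twistedD4 K q).subgroupOf (twistedD4 K q) ∧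
      ((chevD4.negUnipotent K ⊓ twistedD4 K q).subgroupOf (twistedD4 K q)).map
        θ.toMonoidHom = (chevD4.negUnipotent K ⊓ twistedD4 K q).subgroupOf (twistedD4 K q) ∧
      h8azRelD4 hB q f θ s b φ := by
  have X := h8azCtxD4 hB hA q f hf hfff hneg
  obtain ⟨p0, p1, p2, p3⟩ := h8azPD4
  have hc0 : ∀ j < chevD4.rank, h8azC4 f s b j ≠ 0 := by
    intro j _
    unfold h8azC4
    split_ifs
    · exact hs
    · exact hb
    · exact (map_ne_zero f).mpr hb
    · exact (map_ne_zero f).mpr ((map_ne_zero f).mpr hb)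
  have hceq : ∀ j < chevD4.rank, h8azC4 f s b (h8pD4 j) = f (h8azC4 f s b j) := by
    intro j hj
    have hj4 : j < 4 := hj
    interval_cases j
    · rw [p0]
      rfl
    · rw [p1]
      exact hsf.symm
    · rw [p2]
      rfl
    · rw [p3]
      exact (hfff b).symm
  have hφ : ∀ t, φ (f t) = f (φ t) := by
    intro t
    rw [hf, hf, map_pow]
  exact h8ayc_exists X (h8azC4 f s b) hc0 hceq φ hφ

include hq hKc hB hA hf hfff hneg in
/-- the number of automorphisms of `³D₄(q)` stabilizing `U¹` and `V¹` -/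
theorem h8azD4_A0_card :
    Nat.card ↥(h8ayA0 ((chevD4.posUnipotent K ⊓ twistedD4 K q).subgroupOf (twistedD4 K q))
      ((chevD4.negUnipotent K ⊓ twistedD4 K q).subgroupOf (twistedD4 K q))) =
    (q - 1) * ((q ^ 3 - 1) * Nat.card (K ≃+* K)) := by
  have X := h8azCtxD4 hB hA q f hf hfff hneg
  have hcard : Nat.card ((↥(h8ayFix f 1))ˣ × Kˣ × (K ≃+* K)) =
      (q - 1) * ((q ^ 3 - 1) * Nat.card (K ≃+* K)) := by
    rw [Nat.card_prod, Nat.card_prod, h8ayFix_units_card, Nat.card_units,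
      Nat.card_eq_fintype_card (α := K), hKc]
    congr 2
    exact h8frob_fix_card hq (by norm_num : 0 < 3) hKc f hf (fun t => hfff t)
  rw [← hcard]
  apply h8ay_card_of_rel (fun (θ : ↥(h8ayA0
      ((chevD4.posUnipotent K ⊓ twistedD4 K q).subgroupOf (twistedD4 K q))
      ((chevD4.negUnipotent K ⊓ twistedD4 K q).subgroupOf (twistedD4 K q))))
      (x : (↥(h8ayFix f 1))ˣ × Kˣ × (K ≃+* K)) =>
      h8azRelD4 hB q f θ.val x.1.val.val x.2.1.val x.2.2)
  · rintro ⟨θ, hU, hV⟩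
    obtain ⟨s, b, φ, hs, hsf, hb, hR⟩ := h8azD4_data hq hKc hB hA f hf hfff hneg θ hU hV
    have hs' : (⟨s, hsf⟩ : ↥(h8ayFix f 1)) ≠ 0 := fun h => hs (congrArg Subtype.val h)
    exact ⟨(Units.mk0 ⟨s, hsf⟩ hs', Units.mk0 b hb, φ), hR⟩
  · rintro ⟨s, b, φ⟩
    have hs : s.val.val ≠ 0 := fun h => s.ne_zero (Subtype.ext h)
    obtain ⟨θ, hU, hV, hR⟩ := h8azD4_exists hB hA f hf hfff hneg s.val.val b.val hs s.val.2
      b.ne_zero φ
    exact ⟨⟨θ, hU, hV⟩, hR⟩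
  · rintro ⟨θ, hU, hV⟩ ⟨s, b, φ⟩ ⟨s', b', φ'⟩ h h'
    have m1 := h8ayc_Xp_mem X h8azJ1 h8azJ1_mem 1 (h8ay_iter_one f _)
    have e1 := ((h h8azJ1 h8azJ1_mem 1 (h8ay_iter_one f _) ⟨_, m1⟩).1 rfl).symm.trans
      ((h' h8azJ1 h8azJ1_mem 1 (h8ay_iter_one f _) ⟨_, m1⟩).1 rfl)
    have e1' := h8ayc_Xp_inj X h8azJ1 h8azJ1_mem _ _ e1
    have hss : s.val.val = s'.val.val := by
      have : s.val.val * φ 1 = s'.val.val * φ' 1 := e1'
      rwa [map_one, map_one, mul_one, mul_one] at this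
    have hbb : ∀ a : K, b.val * φ a = b'.val * φ' a := by
      intro a
      have m3 := h8ayc_Xp_mem X h8azJ3 h8azJ3_mem a (hfff a)
      have e3 := ((h h8azJ3 h8azJ3_mem a (hfff a) ⟨_, m3⟩).1 rfl).symm.trans
        ((h' h8azJ3 h8azJ3_mem a (hfff a) ⟨_, m3⟩).1 rfl)
      exact h8ayc_Xp_inj X h8azJ3 h8azJ3_mem _ _ e3
    have hb1 : b.val = b'.val := by
      have := hbb 1
      rwa [map_one, map_one, mul_one, mul_one] at this
    have hφ : φ = φ' := by
      apply RingEquiv.ext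
      intro a
      have := hbb a
      rw [← hb1] at this
      exact mul_left_cancel₀ b.ne_zero this
    have hs2 : s = s' := Units.ext (Subtype.ext hss)
    have hb2 : b = b' := Units.ext hb1
    rw [hs2, hb2, hφ]
  · rintro ⟨θ, hU, hV⟩ ⟨θ', hU', hV'⟩ ⟨s, b, φ⟩ h h'
    apply Subtype.ext
    apply h8ayc_ext X θ θ'
    intro J hJ a ha y
    exact ⟨fun hy => Subtype.ext (((h J hJ a ha y).1 hy).trans ((h' J hJ a ha y).1 hy).symm),
      fun hy => Subtype.ext (((h J hJ a ha y).2 hy).trans ((h' J hJ a ha y).2 hy).symm)⟩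

end

end Cfsg.Agent.Lib.helper8
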