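import Mathlib
import Cfsg.Prelude.Def_ChevStructure
import Cfsg.Prelude.Def_LieTwisted
import Cfsg.Agent.Lib.helper8.ChevAZ6
import Cfsg.Agent.Lib.helper8.ChevTwD4S
import Cfsg.Agent.Lib.helper8.ChevTwD4H
import Cfsg.Agent.Lib.helper8.ChevTwD4O
import Cfsg.Agent.Lib.helper8.ChevAV7
import Cfsg.Agent.Lib.helper8.SylowBasic

set_option autoImplicit false

namespace Cfsg.Agent.Lib.helper8

open Cfsg.Lie Cfsg.Lie.ChevalleyDatum

universe u

variable {K : Type u} [Field K]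

/-- a non-commutative simple group has trivial centre -/
theorem h8az_center_bot {Γ : Type*} [Group Γ] (h : IsSimpleGroup Γ) (hnc : ¬ IsMulCommutative Γ) :
    Subgroup.center Γ = ⊥ := by
  rcases h.eq_bot_or_eq_top_of_normal (Subgroup.center Γ) inferInstance with h1 | h1
  · exact h1
  · exfalso
    apply hnc
    refine ⟨⟨fun a b => ?_⟩⟩
    have hb : b ∈ Subgroup.center Γ := by rw [h1]; exact Subgroup.mem_top b
    exact (Subgroup.mem_center_iff.mp hb a)

theorem h8az_not_dvd_sub_one (p q k : ℕ) (hp : p.Prime) (hpq : p ∣ q) (hq : 0 < q) (hk : 0 < k) :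
    ¬ p ∣ q ^ k - 1 := by
  intro h
  have h2 : p ∣ q ^ k := dvd_pow hpq (by omega)
  have h3 : 1 ≤ q ^ k := Nat.one_le_pow _ _ hq
  have h4 := Nat.dvd_sub h2 h
  rw [Nat.sub_sub_self h3] at h4
  exact hp.one_lt.ne' (Nat.dvd_one.mp h4)

/-- `|Out ³D₄(q)| = 3f` -/
theorem h8out_3D4 [Fintype K] (p e : ℕ) [Fact p.Prime] [CharP K p]
    (hK : Fintype.card K = p ^ (3 * e)) (he : 1 ≤ e) :
    Nat.card (Cfsg.Out ↥(twistedD4 K (p ^ e))) = 3 * e := by
  have hp : p.Prime := Fact.out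
  have hq : IsPrimePow (p ^ e) := ⟨p, e, hp.prime, by omega, rfl⟩
  have hq1 : 1 < p ^ e := Nat.one_lt_pow (by omega) hp.one_lt
  have hKc : Fintype.card K = (p ^ e) ^ 3 := by rw [hK, mul_comm, pow_mul]
  have hD : chevD4 ∈ [chevG2, chevB2, chevD4, chevF4, chevE6, chevE7, chevE8] := by simp
  have hB := h8base_all.{u} chevD4 hD
  have hA := h8reflAll chevD4 hD
  obtain ⟨f, hf, hfff3, hneg⟩ := h8frob_exists hq 3 (by norm_num) hKc
  have hfff : ∀ t, f (f (f t)) = t := fun t => hfff3 t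
  have X := h8azCtxD4 hB hA (p ^ e) f hf hfff hneg
  obtain ⟨hsimp, hnc⟩ := h8twD4_simple hq hKc
  have hcenter := h8az_center_bot hsimp hnc
  have hpq : p ∣ p ^ e := dvd_pow_self p (by omega)
  have hq0 : 0 < p ^ e := by omega
  have hUcard : Nat.card ↥(chevD4.posUnipotent K ⊓ twistedD4 K (p ^ e)) =
      p ^ (Nat.card ↥(twistedD4 K (p ^ e))).factorization p := by
    rw [h8twD4_U_card hq hKc]
    have hfac : (Nat.card ↥(twistedD4 K (p ^ e))).factorization p = e * 12 := by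
      apply h8_factorization_of_eq p (e * 12)
        (((p ^ e) ^ 2 - 1) * ((p ^ e) ^ 6 - 1) * ((p ^ e) ^ 8 + (p ^ e) ^ 4 + 1)) _ hp
      · rw [h8twD4_card hq hKc, pow_mul]
        ring
      · intro h
        rcases hp.dvd_mul.mp h with h | h
        · rcases hp.dvd_mul.mp h with h | h
          · exact h8az_not_dvd_sub_one p _ 2 hp hpq hq0 (by norm_num) h
          · exact h8az_not_dvd_sub_one p _ 6 hp hpq hq0 (by norm_num) h
        · have h2 : p ∣ (p ^ e) ^ 8 + (p ^ e) ^ 4 :=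
            dvd_add (dvd_pow hpq (by norm_num)) (dvd_pow hpq (by norm_num))
          have h3 := (Nat.dvd_add_right h2).mp h
          exact hp.one_lt.ne' (Nat.dvd_one.mp h3)
    rw [hfac, pow_mul]
  have hmain := h8ayc_out X p hUcard hcenter
  rw [h8azD4_A0_card hq1 hKc hB hA f hf hfff hneg, h8twD4_H_card hq hKc,
    h8av_ringAut_card p (3 * e) hK] at hmain
  obtain ⟨k, hk⟩ : ∃ k, p ^ e = k + 1 := ⟨p ^ e - 1, by omega⟩
  rw [hk] at hmain
  have e3 : (k + 1) ^ 3 - 1 = k * ((k + 1) ^ 2 + (k + 1) + 1) := by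
    apply Nat.sub_eq_of_eq_add
    ring
  rw [e3, Nat.add_sub_cancel] at hmain
  have hk0 : 0 < k := by omega
  have hpos : 0 < k ^ 2 * ((k + 1) ^ 2 + (k + 1) + 1) := by positivity
  have h5 : k ^ 2 * ((k + 1) ^ 2 + (k + 1) + 1) * Nat.card (Cfsg.Out ↥(twistedD4 K (k + 1))) =
      k ^ 2 * ((k + 1) ^ 2 + (k + 1) + 1) * (3 * e) := by
    rw [hmain]
    ring
  rw [hk]
  exact Nat.eq_of_mul_eq_mul_left hpos h5

end Cfsg.Agent.Lib.helper8
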