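import Mathlib
import Cfsg.Prelude.Def_ChevStructure
import Cfsg.Prelude.Def_ChevG2
import Cfsg.Prelude.Def_LieTwisted
import Cfsg.Agent.Lib.helper8.ChevReeC10

set_option autoImplicit false

namespace Cfsg.Agent.Lib.helper8

open Cfsg.Lie Cfsg.Lie.ChevalleyDatum Matrix

universe u

/-- the centralizer of an involution of `H ∩ ²G₂(q)` and the Sylow 2-subgroups of `²G₂(q)` -/
theorem h8ree_cent_invol {K : Type u} [Field K] [Fintype K] {m : ℕ}
    (hK : Fintype.card K = 3 ^ (2 * m + 1)) (a : ↥(twistedG2 K (3 ^ m)))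
    (haH : (a : GL chevG2.Idx K) ∈ chevG2.diagonalSubgroup K) (ha1 : a ≠ 1) (ha2 : a * a = 1) :
    Nonempty (↥(Subgroup.centralizer {a}) ≃*
      Multiplicative (ZMod 2) × Matrix.ProjectiveSpecialLinearGroup (Fin 2) K) ∧
      ∀ S : Sylow 2 ↥(twistedG2 K (3 ^ m)), Nat.card S = 8 ∧ ∀ x ∈ S, x * x = 1 := by
  have hD : chevG2 ∈ [chevG2, chevB2, chevD4, chevF4, chevE6, chevE7, chevE8] := by simp
  have hB := h8base_all.{u} chevG2 hD
  obtain ⟨ψ, h1, h2, h3, h4⟩ := h8reeC_psi hK hB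
  have P : H8ReePsi hB m ψ := ⟨h1, h2, h3, h4⟩
  exact ⟨P.iso hK a haH ha1 ha2, fun S => P.sylow hK a haH ha1 ha2 S⟩

end Cfsg.Agent.Lib.helper8
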