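import Mathlib
import Cfsg.Prelude.Def_ChevStructure
import Cfsg.Prelude.Def_ChevG2
import Cfsg.Prelude.Def_LieTwisted
import Cfsg.Agent.Lib.helper8.ChevRee49
import Cfsg.Agent.Lib.helper8.ChevReeD3
import Cfsg.Agent.Lib.helper8.ChevReeC11
import Cfsg.Agent.Lib.helper8.ChevAY18

set_option autoImplicit false

namespace Cfsg.Agent.Lib.helper8

open Cfsg.Lie Cfsg.Lie.ChevalleyDatum

universe u

variable {K : Type u} [Field K] [Fintype K] {m : ℕ}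

/-- the Weyl element of the Ree group is an involution -/
theorem h8ba_n0_sq (hK : Fintype.card K = 3 ^ (2 * m + 1)) (hB : H8Base.{u} chevG2) :
    h8reeN0 hB (3 ^ m) * h8reeN0 hB (3 ^ m) = (1 : GL chevG2.Idx K) := by
  obtain ⟨ψ, h1, h2, h3, h4⟩ := h8reeC_psi hK hB
  have P : H8ReePsi hB m ψ := ⟨h1, h2, h3, h4⟩
  exact P.n0_sq hK

theorem h8ba_n0_inv (hK : Fintype.card K = 3 ^ (2 * m + 1)) (hB : H8Base.{u} chevG2) :
    (h8reeN0 hB (3 ^ m))⁻¹ = (h8reeN0 hB (3 ^ m) : GL chevG2.Idx K) :=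
  inv_eq_of_mul_eq_one_right (h8ba_n0_sq hK hB)

/-- the Weyl element conjugates `V` into `U` -/
theorem h8ba_n0_conj_U (hK : Fintype.card K = 3 ^ (2 * m + 1)) (hB : H8Base.{u} chevG2)
    (v : GL chevG2.Idx K) (hv : v ∈ chevG2.negUnipotent K) :
    h8reeN0 hB (3 ^ m) * v * (h8reeN0 hB (3 ^ m))⁻¹ ∈ chevG2.posUnipotent K := by
  have hD : chevG2 ∈ [chevG2, chevB2, chevD4, chevF4, chevE6, chevE7, chevE8] := by simp
  have hA := h8reflAll chevG2 hD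
  have hC := h8commAll.{u} chevG2 hD
  have hBN := h8bn_all chevG2 hD
  have hW := h8bn2_all chevG2 hD
  obtain ⟨hO, hO2⟩ := h8ord_all chevG2 hD
  have := h8ree_char3 hK
  have he : (3 ^ m : ℕ) ≠ 0 := pow_ne_zero _ (by norm_num)
  have hn0N := h8reeN0_mem_N (K := K) (hB := hB) hC (3 ^ m) he
  have hπ := h8ree_Pi_N0 hK hB hA hBN hW hO2 hn0N
  exact h8ree_w0_conj_V hB hA hBN hW hO2 ⟨_, hn0N⟩ hπ v hv

theorem h8ba_conj_U_eq_V (hK : Fintype.card K = 3 ^ (2 * m + 1)) (hB : H8Base.{u} chevG2) :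
    (chevG2.posUnipotent K).map (MulAut.conj (h8reeN0 hB (3 ^ m) : GL chevG2.Idx K)).toMonoidHom =
      chevG2.negUnipotent K := by
  apply le_antisymm
  · rintro _ ⟨x, hx, rfl⟩
    exact h8reeN0_conj_V hK hB x hx
  · intro v hv
    refine ⟨h8reeN0 hB (3 ^ m) * v * (h8reeN0 hB (3 ^ m))⁻¹, h8ba_n0_conj_U hK hB v hv, ?_⟩
    show h8reeN0 hB (3 ^ m) * (h8reeN0 hB (3 ^ m) * v * (h8reeN0 hB (3 ^ m))⁻¹) *
      (h8reeN0 hB (3 ^ m))⁻¹ = v
    rw [h8ba_n0_inv hK hB]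
    have h := h8ba_n0_sq hK hB
    calc h8reeN0 hB (3 ^ m) * (h8reeN0 hB (3 ^ m) * v * h8reeN0 hB (3 ^ m)) * h8reeN0 hB (3 ^ m)
        = (h8reeN0 hB (3 ^ m) * h8reeN0 hB (3 ^ m)) * v *
          (h8reeN0 hB (3 ^ m) * h8reeN0 hB (3 ^ m)) := by group
      _ = v := by rw [h, one_mul, mul_one]

theorem h8ba_conj_V_eq_U (hK : Fintype.card K = 3 ^ (2 * m + 1)) (hB : H8Base.{u} chevG2) :
    (chevG2.negUnipotent K).map (MulAut.conj (h8reeN0 hB (3 ^ m) : GL chevG2.Idx K)).toMonoidHom =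
      chevG2.posUnipotent K := by
  rw [← h8ba_conj_U_eq_V hK hB, h8au_map_conj_conj, h8ba_n0_sq hK hB, h8au_map_conj_one]

end Cfsg.Agent.Lib.helper8
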