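import Mathlib
import Cfsg.Prelude.Def_ChevStructure
import Cfsg.Prelude.Def_ChevG2
import Cfsg.Prelude.Def_LieTwisted
import Cfsg.Agent.Lib.helper8.ChevRee24
import Cfsg.Agent.Lib.helper8.SylowConj
import Cfsg.Agent.Lib.helper8.SylowBasic

set_option autoImplicit false

namespace Cfsg.Agent.Lib.helper8

open Cfsg.Lie Cfsg.Lie.ChevalleyDatum

universe u

variable {K : Type u} [Field K] [Fintype K] {m : ℕ}

/-- an element of the Ree group conjugating a non-trivial element of `U` into `U` lies in `B` -/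
theorem h8ree_TI_core (hK : Fintype.card K = 3 ^ (2 * m + 1)) (hB : H8Base.{u} chevG2)
    (a y : GL chevG2.Idx K) (ha : a ∈ twistedG2 K (3 ^ m))
    (hy : y ∈ chevG2.posUnipotent K) (hy1 : y ≠ 1)
    (hc : a * y * a⁻¹ ∈ chevG2.posUnipotent K) : a ∈ chevG2.borelSubgroup K := by
  have hD : chevG2 ∈ [chevG2, chevB2, chevD4, chevF4, chevE6, chevE7, chevE8] := by simp
  have hBN := h8bn_all chevG2 hD
  rcases h8ree_G1_normal hK hB a ha with ⟨u, hu, k, hk, rfl⟩ | ⟨u1, hu1, k, hk, u, hu, rfl⟩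
  · exact Subgroup.mul_mem _ (h8U_le_B chevG2 hu.1) (h8H_le_B chevG2 hk.1)
  · exfalso
    apply hy1
    have huy : u * y * u⁻¹ ∈ chevG2.posUnipotent K :=
      Subgroup.mul_mem _ (Subgroup.mul_mem _ hu.1 hy) (Subgroup.inv_mem _ hu.1)
    have hV1 := h8reeN0_conj_V hK hB _ huy
    have hV : k * (h8reeN0 hB (3 ^ m) * (u * y * u⁻¹) * (h8reeN0 hB (3 ^ m))⁻¹) * k⁻¹ ∈
        chevG2.negUnipotent K :=
      ((Subgroup.mem_normalizer_iff (H := chevG2.negUnipotent K)).mp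
        (h8_H_le_normalizer_V chevG2 hB hk.1) _).mp hV1
    have hU : k * (h8reeN0 hB (3 ^ m) * (u * y * u⁻¹) * (h8reeN0 hB (3 ^ m))⁻¹) * k⁻¹ ∈
        chevG2.posUnipotent K := by
      have e : k * (h8reeN0 hB (3 ^ m) * (u * y * u⁻¹) * (h8reeN0 hB (3 ^ m))⁻¹) * k⁻¹ =
          u1⁻¹ * (u1 * (k * h8reeN0 hB (3 ^ m)) * u * y * (u1 * (k * h8reeN0 hB (3 ^ m)) * u)⁻¹) *
            u1 := by group
      rw [e]
      exact Subgroup.mul_mem _ (Subgroup.mul_mem _ (Subgroup.inv_mem _ hu1.1) hc) hu1.1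
    have hbot : k * (h8reeN0 hB (3 ^ m) * (u * y * u⁻¹) * (h8reeN0 hB (3 ^ m))⁻¹) * k⁻¹ ∈
        chevG2.borelSubgroup K ⊓ chevG2.negUnipotent K := ⟨h8U_le_B chevG2 hU, hV⟩
    rw [h8_B_inf_V chevG2 hB hBN.negOK, Subgroup.mem_bot] at hbot
    have e2 : y = u⁻¹ * ((h8reeN0 hB (3 ^ m))⁻¹ * (k⁻¹ *
        (k * (h8reeN0 hB (3 ^ m) * (u * y * u⁻¹) * (h8reeN0 hB (3 ^ m))⁻¹) * k⁻¹) * k) *
        h8reeN0 hB (3 ^ m)) * u := by group
    rw [e2, hbot]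
    group

theorem h8ree_not_dvd (m : ℕ) :
    ¬ 3 ∣ (3 ^ (2 * m + 1) - 1) * ((3 ^ (2 * m + 1)) ^ 3 + 1) := by
  have h1 : 3 ∣ 3 ^ (2 * m + 1) := dvd_pow_self 3 (by omega)
  obtain ⟨c, hc⟩ := h1
  have hc0 : 0 < c := by
    rcases Nat.eq_zero_or_pos c with h | h
    · rw [h, mul_zero] at hc
      exact absurd hc (pow_ne_zero _ (by norm_num))
    · exact h
  rw [hc]
  intro h
  rcases (Nat.Prime.dvd_mul Nat.prime_three).mp h with h' | h'
  · omega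
  · have : (3 * c) ^ 3 + 1 = 3 * (9 * c ^ 3) + 1 := by ring
    rw [this] at h'
    omega

/-- distinct Sylow 3-subgroups of the Ree group intersect trivially -/
theorem h8ree_sylow3_TI (hK : Fintype.card K = 3 ^ (2 * m + 1))
    (P Q : Sylow 3 ↥(twistedG2 K (3 ^ m))) (hPQ : P ≠ Q) :
    (P : Subgroup ↥(twistedG2 K (3 ^ m))) ⊓ (Q : Subgroup ↥(twistedG2 K (3 ^ m))) = ⊥ := by
  classical
  have hD : chevG2 ∈ [chevG2, chevB2, chevD4, chevF4, chevE6, chevE7, chevE8] := by simp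
  have hB := h8base_all.{u} chevG2 hD
  haveI : Fact (Nat.Prime 3) := ⟨Nat.prime_three⟩
  have hcardG : Nat.card ↥(twistedG2 K (3 ^ m)) = 3 ^ (3 * (2 * m + 1)) *
      ((3 ^ (2 * m + 1) - 1) * ((3 ^ (2 * m + 1)) ^ 3 + 1)) := by
    rw [h8ree_card hK]
    ring
  have hfac : (Nat.card ↥(twistedG2 K (3 ^ m))).factorization 3 = 3 * (2 * m + 1) :=
    h8_factorization_of_eq 3 _ _ _ Nat.prime_three hcardG (h8ree_not_dvd m)
  have hle : chevG2.posUnipotent K ⊓ twistedG2 K (3 ^ m) ≤ twistedG2 K (3 ^ m) := inf_le_right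
  have hcardU : Nat.card ↥((chevG2.posUnipotent K ⊓ twistedG2 K (3 ^ m)).subgroupOf
      (twistedG2 K (3 ^ m))) = 3 ^ (Nat.card ↥(twistedG2 K (3 ^ m))).factorization 3 := by
    rw [hfac, Nat.card_congr (Subgroup.subgroupOfEquivOfLe hle).toEquiv, h8ree_U_card hK]
    ring
  set S₀ : Sylow 3 ↥(twistedG2 K (3 ^ m)) := Sylow.ofCard _ hcardU with hS₀
  have hS₀mem : ∀ x : ↥(twistedG2 K (3 ^ m)), x ∈ (S₀ : Subgroup ↥(twistedG2 K (3 ^ m))) ↔
      x.val ∈ chevG2.posUnipotent K := by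
    intro x
    rw [hS₀, Sylow.coe_ofCard, Subgroup.mem_subgroupOf, Subgroup.mem_inf]
    exact ⟨fun h => h.1, fun h => ⟨h, x.2⟩⟩
  obtain ⟨g, hg⟩ := MulAction.exists_smul_eq ↥(twistedG2 K (3 ^ m)) S₀ P
  obtain ⟨h, hh⟩ := MulAction.exists_smul_eq ↥(twistedG2 K (3 ^ m)) S₀ Q
  rw [eq_bot_iff]
  intro x hx
  rw [Subgroup.mem_bot]
  by_contra hx1
  apply hPQ
  have hxP : g⁻¹ * x * g ∈ (S₀ : Subgroup ↥(twistedG2 K (3 ^ m))) := by
    rw [← h8_mem_smul_sylow, hg]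
    exact hx.1
  have hxQ : h⁻¹ * x * h ∈ (S₀ : Subgroup ↥(twistedG2 K (3 ^ m))) := by
    rw [← h8_mem_smul_sylow, hh]
    exact hx.2
  rw [hS₀mem] at hxP hxQ
  -- the element `h⁻¹ g` lies in `B`
  have hy1 : (g⁻¹ * x * g).val ≠ 1 := by
    intro h1
    apply hx1
    have : g⁻¹ * x * g = 1 := Subtype.ext h1
    have e : x = g * (g⁻¹ * x * g) * g⁻¹ := by group
    rw [e, this]
    group
  have hconj : (h⁻¹ * g).val * (g⁻¹ * x * g).val * (h⁻¹ * g).val⁻¹ ∈ chevG2.posUnipotent K := by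
    have e : (h⁻¹ * g).val * (g⁻¹ * x * g).val * (h⁻¹ * g).val⁻¹ = (h⁻¹ * x * h).val := by
      have : (h⁻¹ * g) * (g⁻¹ * x * g) * (h⁻¹ * g)⁻¹ = h⁻¹ * x * h := by group
      rw [← this]
      rfl
    rw [e]
    exact hxQ
  have haB := h8ree_TI_core hK hB _ _ (h⁻¹ * g).2 hxP hy1 hconj
  -- hence it normalizes `S₀`
  have hnorm : (h⁻¹ * g) • S₀ = S₀ := by
    rw [Sylow.smul_eq_iff_mem_normalizer]
    show h⁻¹ * g ∈ Subgroup.normalizer
      (((S₀ : Subgroup ↥(twistedG2 K (3 ^ m))) : Set ↥(twistedG2 K (3 ^ m))))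
    rw [Subgroup.mem_normalizer_iff]
    intro z
    rw [hS₀mem, hS₀mem]
    have hBN : chevG2.borelSubgroup K ≤
        Subgroup.normalizer (chevG2.posUnipotent K : Set (GL chevG2.Idx K)) :=
      sup_le Subgroup.le_normalizer (h8_H_le_normalizer_U chevG2 hB)
    exact (Subgroup.mem_normalizer_iff (H := chevG2.posUnipotent K)).mp (hBN haB) z.val
  rw [← hg, ← hh]
  have : g • S₀ = h • ((h⁻¹ * g) • S₀) := by
    rw [← mul_smul, mul_inv_cancel_left]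
  rw [this, hnorm]

end Cfsg.Agent.Lib.helper8
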