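import Mathlib
import Cfsg.Prelude.Def_ChevStructure
import Cfsg.Prelude.Def_ChevG2
import Cfsg.Prelude.Def_LieTwisted
import Cfsg.Agent.Lib.helper8.ChevBA1
import Cfsg.Agent.Lib.helper8.ChevRee32
import Cfsg.Agent.Lib.helper8.ChevRee41

set_option autoImplicit false

namespace Cfsg.Agent.Lib.helper8

open Cfsg.Lie Cfsg.Lie.ChevalleyDatum

universe u

variable {K : Type u} [Field K] [Fintype K] {m : ℕ}

/-- the Weyl element conjugates `U ∩ ²G₂(q)` onto `V ∩ ²G₂(q)` -/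
theorem h8ba_conj_U1_eq_V1 (hK : Fintype.card K = 3 ^ (2 * m + 1)) (hB : H8Base.{u} chevG2) :
    (chevG2.posUnipotent K ⊓ twistedG2 K (3 ^ m)).map
      (MulAut.conj (h8reeN0 hB (3 ^ m) : GL chevG2.Idx K)).toMonoidHom =
      chevG2.negUnipotent K ⊓ twistedG2 K (3 ^ m) := by
  rw [h8ay_map_inf_conj _ _ _ (h8reeN0_mem _), h8ba_conj_U_eq_V hK hB]

theorem h8ba_conj_V1_eq_U1 (hK : Fintype.card K = 3 ^ (2 * m + 1)) (hB : H8Base.{u} chevG2) :
    (chevG2.negUnipotent K ⊓ twistedG2 K (3 ^ m)).map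
      (MulAut.conj (h8reeN0 hB (3 ^ m) : GL chevG2.Idx K)).toMonoidHom =
      chevG2.posUnipotent K ⊓ twistedG2 K (3 ^ m) := by
  rw [h8ay_map_inf_conj _ _ _ (h8reeN0_mem _), h8ba_conj_V_eq_U hK hB]

/-- a conjugate of `U ∩ ²G₂(q)` meeting `U ∩ ²G₂(q)` trivially is a conjugate of
`V ∩ ²G₂(q)` under `U ∩ ²G₂(q)` -/
theorem h8ba_d (hK : Fintype.card K = 3 ^ (2 * m + 1)) (hB : H8Base.{u} chevG2)
    (z : GL chevG2.Idx K) (hz : z ∈ twistedG2 K (3 ^ m))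
    (h : (chevG2.posUnipotent K ⊓ twistedG2 K (3 ^ m)).map (MulAut.conj z).toMonoidHom ⊓
      (chevG2.posUnipotent K ⊓ twistedG2 K (3 ^ m)) = ⊥) :
    ∃ u ∈ chevG2.posUnipotent K ⊓ twistedG2 K (3 ^ m),
      (chevG2.posUnipotent K ⊓ twistedG2 K (3 ^ m)).map (MulAut.conj z).toMonoidHom =
        (chevG2.negUnipotent K ⊓ twistedG2 K (3 ^ m)).map (MulAut.conj u).toMonoidHom := by
  rcases h8ree_G1_normal hK hB z hz with ⟨u, hu, k, hk, rfl⟩ | ⟨u1, hu1, k, hk, u, hu, rfl⟩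
  · exfalso
    have hkn : (chevG2.posUnipotent K ⊓ twistedG2 K (3 ^ m)).map (MulAut.conj k).toMonoidHom =
        chevG2.posUnipotent K ⊓ twistedG2 K (3 ^ m) := by
      rw [h8ay_map_inf_conj _ _ _ hk.2,
        h8map_conj_normalizer _ _ (h8_H_le_normalizer_U chevG2 hB hk.1)]
    rw [← h8au_map_conj_conj, hkn, h8au_map_conj_mem _ u hu, inf_idem] at h
    obtain ⟨x, hx, hx1⟩ := h8ree_U1_ne hK hB
    rw [h, Subgroup.mem_bot] at hx
    exact hx1 hx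
  · refine ⟨u1, hu1, ?_⟩
    have e : u1 * (k * h8reeN0 hB (3 ^ m)) * u = u1 * (k * (h8reeN0 hB (3 ^ m) * u)) := by group
    have hkn : (chevG2.negUnipotent K ⊓ twistedG2 K (3 ^ m)).map (MulAut.conj k).toMonoidHom =
        chevG2.negUnipotent K ⊓ twistedG2 K (3 ^ m) := by
      rw [h8ay_map_inf_conj _ _ _ hk.2,
        h8map_conj_normalizer _ _ (h8_H_le_normalizer_V chevG2 hB hk.1)]
    rw [e, ← h8au_map_conj_conj, ← h8au_map_conj_conj, ← h8au_map_conj_conj,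
      h8au_map_conj_mem _ u hu, h8ba_conj_U1_eq_V1 hK hB, hkn]

/-- an element of `²G₂(q)` normalizing `U ∩ ²G₂(q)` and `V ∩ ²G₂(q)` lies in `H` -/
theorem h8ba_inner' (hK : Fintype.card K = 3 ^ (2 * m + 1)) (hB : H8Base.{u} chevG2)
    (x : GL chevG2.Idx K) (hx : x ∈ twistedG2 K (3 ^ m))
    (hU : (chevG2.posUnipotent K ⊓ twistedG2 K (3 ^ m)).map (MulAut.conj x).toMonoidHom =
      chevG2.posUnipotent K ⊓ twistedG2 K (3 ^ m))
    (hV : (chevG2.negUnipotent K ⊓ twistedG2 K (3 ^ m)).map (MulAut.conj x).toMonoidHom =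
      chevG2.negUnipotent K ⊓ twistedG2 K (3 ^ m)) :
    x ∈ chevG2.diagonalSubgroup K := by
  have hn0G : h8reeN0 (K := K) hB (3 ^ m) ∈ twistedG2 K (3 ^ m) := h8reeN0_mem _
  have key : ∀ y ∈ twistedG2 K (3 ^ m),
      (chevG2.posUnipotent K ⊓ twistedG2 K (3 ^ m)).map (MulAut.conj y).toMonoidHom =
        chevG2.posUnipotent K ⊓ twistedG2 K (3 ^ m) → y ∈ chevG2.borelSubgroup K := by
    intro y hy hyU
    obtain ⟨w, hw, hw1⟩ := h8ree_U1_ne hK hB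
    have h1 : y * w * y⁻¹ ∈ chevG2.posUnipotent K ⊓ twistedG2 K (3 ^ m) := by
      rw [← hyU]
      exact ⟨w, hw, rfl⟩
    exact h8ree_TI_core hK hB y w hy hw.1 hw1 h1.1
  have hxB := key x hx hU
  set n0 : GL chevG2.Idx K := h8reeN0 hB (3 ^ m) with hn0def
  have hx' : n0⁻¹ * x * n0 ∈ chevG2.borelSubgroup K := by
    apply key _ (Subgroup.mul_mem _ (Subgroup.mul_mem _ (Subgroup.inv_mem _ hn0G) hx) hn0G)
    have e : n0⁻¹ * x * n0 = n0⁻¹ * (x * n0) := by group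
    rw [e, ← h8au_map_conj_conj, ← h8au_map_conj_conj, h8ba_conj_U1_eq_V1 hK hB, hV,
      ← h8ba_conj_U1_eq_V1 hK hB, h8au_map_conj_conj, inv_mul_cancel, h8au_map_conj_one]
  obtain ⟨u, hu, k, hk, rfl⟩ := h8ree_B1_decomp hK hB x hxB hx
  have h2 : n0⁻¹ * u * n0 ∈ chevG2.borelSubgroup K := by
    have e : n0⁻¹ * u * n0 = (n0⁻¹ * (u * k) * n0) * (n0⁻¹ * k * n0)⁻¹ := by group
    rw [e]
    exact Subgroup.mul_mem _ hx' (Subgroup.inv_mem _ (h8H_le_B chevG2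
      (h8reeN0_conj_H hK hB k hk.1)))
  rw [h8ree_uniq hK hB u hu.1 h2, one_mul]
  exact hk.1

end Cfsg.Agent.Lib.helper8
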