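import Mathlib
import Cfsg.Prelude.Def_ChevStructure
import Cfsg.Prelude.Def_ChevG2
import Cfsg.Prelude.Def_LieTwisted
import Cfsg.Agent.Lib.helper8.ChevBA2
import Cfsg.Agent.Lib.helper8.ChevRee31
import Cfsg.Agent.Lib.helper8.ChevAZ7

set_option autoImplicit false

namespace Cfsg.Agent.Lib.helper8

open Cfsg.Lie Cfsg.Lie.ChevalleyDatum

universe u

variable {K : Type u} [Field K] [Fintype K] {m : ℕ}

/-- after an inner automorphism, an automorphism of the Ree group stabilizes `U ∩ ²G₂(q)` and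
`V ∩ ²G₂(q)` -/
theorem h8ba_normalize (hK : Fintype.card K = 3 ^ (2 * m + 1))
    (θ : ↥(twistedG2 K (3 ^ m)) ≃* ↥(twistedG2 K (3 ^ m))) :
    ∃ x : ↥(twistedG2 K (3 ^ m)),
      ((chevG2.posUnipotent K ⊓ twistedG2 K (3 ^ m)).subgroupOf (twistedG2 K (3 ^ m))).map
          (θ.trans (MulAut.conj x)).toMonoidHom =
        (chevG2.posUnipotent K ⊓ twistedG2 K (3 ^ m)).subgroupOf (twistedG2 K (3 ^ m)) ∧
      ((chevG2.negUnipotent K ⊓ twistedG2 K (3 ^ m)).subgroupOf (twistedG2 K (3 ^ m))).map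
          (θ.trans (MulAut.conj x)).toMonoidHom =
        (chevG2.negUnipotent K ⊓ twistedG2 K (3 ^ m)).subgroupOf (twistedG2 K (3 ^ m)) := by
  have hD : chevG2 ∈ [chevG2, chevB2, chevD4, chevF4, chevE6, chevE7, chevE8] := by simp
  have hB := h8base_all.{u} chevG2 hD
  have hBN := h8bn_all chevG2 hD
  have : Finite ↥(twistedG2 K (3 ^ m)) := Subtype.finite
  have : Fact (Nat.Prime 3) := ⟨Nat.prime_three⟩
  set n₀ : ↥(twistedG2 K (3 ^ m)) := ⟨h8reeN0 hB (3 ^ m), h8reeN0_mem _⟩ with hn₀def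
  have hUV : ((chevG2.posUnipotent K ⊓ twistedG2 K (3 ^ m)).subgroupOf
      (twistedG2 K (3 ^ m))).map (MulAut.conj n₀).toMonoidHom =
      (chevG2.negUnipotent K ⊓ twistedG2 K (3 ^ m)).subgroupOf (twistedG2 K (3 ^ m)) := by
    rw [h8au_subgroupOf_map_conj]
    show ((chevG2.posUnipotent K ⊓ twistedG2 K (3 ^ m)).map
      (MulAut.conj (h8reeN0 hB (3 ^ m) : GL chevG2.Idx K)).toMonoidHom).subgroupOf _ = _
    rw [h8ba_conj_U1_eq_V1 hK hB]
  apply h8au_normalize 3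
  · rw [h8_card_subgroupOf inf_le_right, h8ree_U_card hK]
    have hfac : (Nat.card ↥(twistedG2 K (3 ^ m))).factorization 3 = 3 * (2 * m + 1) := by
      apply h8_factorization_of_eq 3 (3 * (2 * m + 1))
        ((3 ^ (2 * m + 1) - 1) * ((3 ^ (2 * m + 1)) ^ 3 + 1)) _ Nat.prime_three
      · rw [h8ree_card hK, mul_assoc, mul_comm 3 (2 * m + 1), pow_mul]
      · exact h8ree_not_dvd m
    rw [hfac, mul_comm 3 (2 * m + 1), pow_mul]
  · rw [← hUV]
    exact Nat.card_congr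
      (Subgroup.equivMapOfInjective _ _ (MulAut.conj n₀).injective).toEquiv.symm
  · rw [h8au_subgroupOf_inf]
    apply h8au_subgroupOf_eq_bot
    rw [eq_bot_iff, ← h8_B_inf_V (F := K) chevG2 hB hBN.negOK]
    exact inf_le_inf (le_trans inf_le_left (h8U_le_B chevG2)) inf_le_left
  · intro z hz
    rw [h8au_subgroupOf_map_conj, h8au_subgroupOf_inf] at hz
    have hz' := h8au_eq_bot_of_subgroupOf _ _ (le_trans inf_le_right inf_le_right) hz
    obtain ⟨u, hu, hueq⟩ := h8ba_d hK hB z.val z.2 hz'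
    refine ⟨⟨u, hu.2⟩, Subgroup.mem_subgroupOf.mpr hu, ?_⟩
    rw [h8au_subgroupOf_map_conj, h8au_subgroupOf_map_conj, hueq]

/-- the inner automorphisms stabilizing `U ∩ ²G₂(q)` and `V ∩ ²G₂(q)` are those of
`H ∩ ²G₂(q)` -/
theorem h8ba_inner (hK : Fintype.card K = 3 ^ (2 * m + 1)) (x : ↥(twistedG2 K (3 ^ m))) :
    MulAut.conj x ∈ h8ayA0
      ((chevG2.posUnipotent K ⊓ twistedG2 K (3 ^ m)).subgroupOf (twistedG2 K (3 ^ m)))
      ((chevG2.negUnipotent K ⊓ twistedG2 K (3 ^ m)).subgroupOf (twistedG2 K (3 ^ m))) ↔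
    x ∈ (chevG2.diagonalSubgroup K ⊓ twistedG2 K (3 ^ m)).subgroupOf (twistedG2 K (3 ^ m)) := by
  have hD : chevG2 ∈ [chevG2, chevB2, chevD4, chevF4, chevE6, chevE7, chevE8] := by simp
  have hB := h8base_all.{u} chevG2 hD
  have hmapG : ∀ (A : Subgroup (GL chevG2.Idx K)), A ≤ twistedG2 K (3 ^ m) →
      A.map (MulAut.conj (x : GL chevG2.Idx K)).toMonoidHom ≤ twistedG2 K (3 ^ m) := by
    rintro A hA _ ⟨k, hk, rfl⟩
    exact Subgroup.mul_mem _ (Subgroup.mul_mem _ x.2 (hA hk)) (Subgroup.inv_mem _ x.2)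
  rw [h8ayA0_mem]
  constructor
  · rintro ⟨hU, hV⟩
    have hUx : (chevG2.posUnipotent K ⊓ twistedG2 K (3 ^ m)).map
        (MulAut.conj (x : GL chevG2.Idx K)).toMonoidHom =
        chevG2.posUnipotent K ⊓ twistedG2 K (3 ^ m) := by
      apply h8au_subgroupOf_inj _ _ _ (hmapG _ inf_le_right) inf_le_right
      rw [← h8au_subgroupOf_map_conj]
      exact hU
    have hVx : (chevG2.negUnipotent K ⊓ twistedG2 K (3 ^ m)).map
        (MulAut.conj (x : GL chevG2.Idx K)).toMonoidHom =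
        chevG2.negUnipotent K ⊓ twistedG2 K (3 ^ m) := by
      apply h8au_subgroupOf_inj _ _ _ (hmapG _ inf_le_right) inf_le_right
      rw [← h8au_subgroupOf_map_conj]
      exact hV
    rw [Subgroup.mem_subgroupOf]
    exact ⟨h8ba_inner' hK hB x.val x.2 hUx hVx, x.2⟩
  · intro hx
    rw [Subgroup.mem_subgroupOf] at hx
    constructor
    · rw [h8au_subgroupOf_map_conj, h8ay_map_inf_conj _ _ _ x.2,
        h8av_map_of_mem_normalizer _ _ (h8_H_le_normalizer_U chevG2 hB hx.1)]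
    · rw [h8au_subgroupOf_map_conj, h8ay_map_inf_conj _ _ _ x.2,
        h8av_map_of_mem_normalizer _ _ (h8_H_le_normalizer_V chevG2 hB hx.1)]

/-- the order of the outer automorphism group of the Ree group in terms of the automorphisms
stabilizing `U ∩ ²G₂(q)` and `V ∩ ²G₂(q)` -/
theorem h8ba_out (hm : 1 ≤ m) (hK : Fintype.card K = 3 ^ (2 * m + 1)) :
    (3 ^ (2 * m + 1) - 1) * Nat.card (Cfsg.Out ↥(twistedG2 K (3 ^ m))) =
      Nat.card ↥(h8ayA0
        ((chevG2.posUnipotent K ⊓ twistedG2 K (3 ^ m)).subgroupOf (twistedG2 K (3 ^ m)))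
        ((chevG2.negUnipotent K ⊓ twistedG2 K (3 ^ m)).subgroupOf (twistedG2 K (3 ^ m)))) := by
  have : Finite ↥(twistedG2 K (3 ^ m)) := Subtype.finite
  obtain ⟨hsimp, hnc⟩ := h8ree_simple hm hK
  have hcenter := h8az_center_bot hsimp hnc
  rw [← h8ay_out_card _ _
    ((chevG2.diagonalSubgroup K ⊓ twistedG2 K (3 ^ m)).subgroupOf (twistedG2 K (3 ^ m)))
    hcenter (h8ba_normalize hK) (h8ba_inner hK), h8_card_subgroupOf inf_le_right,
    h8ree_H1_card hK]

end Cfsg.Agent.Lib.helper8
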