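import Mathlib
import Cfsg.Agent.Lib.helper8.ChevBA5

set_option autoImplicit false

namespace Cfsg.Agent.Lib.helper8

section
variable {K : Type*} [Field K] {Γ : Type*} [Group Γ] {σ : K →+* K} {W : K → K → K → Γ}

/-- an endomorphism compatible with the coordinates and the torus action which is the identity
on the first coordinate is the identity -/
theorem h8ba_rigid [Fintype K] [CharP K 3] (C : H8BaCoord σ W) (hσ : ∀ x, σ (σ x) = x ^ 3)
    (hne : ∃ s, σ s ≠ s) (hodd : Fintype.card K % 2 = 1) (θ : Γ →* Γ)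
    (hθ : ∀ t u v, ∃ u' v', θ (W t u v) = W t u' v')
    (heq : ∀ c : K, c ≠ 0 → ∀ t u v t' u' v', θ (W t u v) = W t' u' v' →
      θ (W (c * t) (c * σ c * u) (c ^ 2 * σ c * v)) =
        W (c * t') (c * σ c * u') (c ^ 2 * σ c * v')) :
    ∀ t u v, θ (W t u v) = W t u v := by
  choose A B hAB using hθ
  obtain ⟨s, hs⟩ := hne
  have h3 : (3 : K) = 0 := by
    have := CharP.cast_eq_zero K 3
    exact_mod_cast this
  have h2 : (2 : K) ≠ 0 := by
    intro h
    have : (1 : K) = 0 := by linear_combination h3 - h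
    exact one_ne_zero this
  have half : ∀ x : K, x + x = 0 → x = 0 := by
    intro x hx
    have : 2 * x = 0 := by linear_combination hx
    rcases mul_eq_zero.mp this with h | h
    · exact absurd h h2
    · exact h
  -- additivity on the part with vanishing first coordinate
  have hadd0 : ∀ u v u' v', A 0 (u + u') (v + v') = A 0 u v + A 0 u' v' ∧
      B 0 (u + u') (v + v') = B 0 u v + B 0 u' v' := by
    intro u v u' v'
    have h := congrArg θ (C.mul0 u v u' v')
    rw [map_mul, hAB, hAB, hAB, C.mul0] at h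
    obtain ⟨_, h1, h2⟩ := C.inj _ _ _ _ _ _ h
    exact ⟨h1.symm, h2.symm⟩
  have hA000 : A 0 0 0 = 0 := by
    have := (hadd0 0 0 0 0).1
    rw [add_zero] at this
    linear_combination -this
  have hB000 : B 0 0 0 = 0 := by
    have := (hadd0 0 0 0 0).2
    rw [add_zero] at this
    linear_combination -this
  -- the action of the involution
  have hneg : ∀ t u v, A (-t) u (-v) = A t u v ∧ B (-t) u (-v) = - B t u v := by
    intro t u v
    have h := heq (-1) (by norm_num) t u v t (A t u v) (B t u v) (hAB t u v)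
    rw [map_neg, map_one] at h
    have e1 : W (-1 * t) (-1 * -1 * u) ((-1) ^ 2 * -1 * v) = W (-t) u (-v) := by
      congr 1 <;> ring
    rw [e1, hAB] at h
    obtain ⟨_, h1, h2⟩ := C.inj _ _ _ _ _ _ h
    exact ⟨by linear_combination h1, by linear_combination h2⟩
  have hA0v : ∀ v, A 0 0 v = 0 := by
    intro v
    have h1 := (hneg 0 0 v).1
    rw [neg_zero] at h1
    have h2 := (hadd0 0 v 0 (-v)).1
    rw [add_zero, add_neg_cancel, hA000, h1] at h2
    exact half _ h2.symm
  have hB0u : ∀ u, B 0 u 0 = 0 := by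
    intro u
    have h1 := (hneg 0 u 0).2
    rw [neg_zero] at h1
    apply half
    linear_combination h1
  have hAα : ∀ u v, A 0 u v = A 0 u 0 := by
    intro u v
    have := (hadd0 u 0 0 v).1
    rw [add_zero, zero_add, hA0v, add_zero] at this
    exact this
  have hBβ : ∀ u v, B 0 u v = B 0 0 v := by
    intro u v
    have := (hadd0 u 0 0 v).2
    rw [add_zero, zero_add, hB0u, zero_add] at this
    exact this
  -- equivariance on the part with vanishing first coordinate
  have heq0 : ∀ c : K, c ≠ 0 → ∀ u v, A 0 (c * σ c * u) 0 = c * σ c * A 0 u 0 ∧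
      B 0 0 (c ^ 2 * σ c * v) = c ^ 2 * σ c * B 0 0 v := by
    intro c hc u v
    have h := heq c hc 0 u v 0 (A 0 u v) (B 0 u v) (hAB 0 u v)
    rw [mul_zero, hAB] at h
    obtain ⟨_, h1, h2⟩ := C.inj _ _ _ _ _ _ h
    rw [hAα] at h1
    rw [hBβ] at h2
    rw [hAα u v] at h1
    rw [hBβ u v] at h2
    exact ⟨h1, h2⟩
  have hαadd : ∀ u u', A 0 (u + u') 0 = A 0 u 0 + A 0 u' 0 := by
    intro u u'
    have := (hadd0 u 0 u' 0).1
    rw [add_zero] at this
    exact this
  have hβadd : ∀ v v', B 0 0 (v + v') = B 0 0 v + B 0 0 v' := by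
    intro v v'
    have := (hadd0 0 v 0 v').2
    rw [add_zero] at this
    exact this
  have hαlin : ∀ u, A 0 u 0 = u * A 0 1 0 := by
    apply h8ba_linear_of_sq hodd (fun u => A 0 u 0) hαadd
    intro a x
    by_cases ha : a = 0
    · show A 0 (a ^ 2 * x) 0 = a ^ 2 * A 0 x 0
      rw [ha]
      simp [hA000]
    · obtain ⟨c, hc, hca⟩ := h8ba_sq_form σ hσ a ha
      show A 0 (a ^ 2 * x) 0 = a ^ 2 * A 0 x 0
      rw [← hca]
      exact (heq0 c hc x 0).1
  have hβlin : ∀ v, B 0 0 v = v * B 0 0 1 := by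
    intro v
    by_cases hv : v = 0
    · rw [hv, hB000, zero_mul]
    · obtain ⟨c, hc, hcv⟩ := h8ba_all_form σ hσ v hv
      have := (heq0 c hc 0 1).2
      rw [hcv, mul_one] at this
      exact this
  set a₁ := A 0 1 0 with ha₁
  set b₁ := B 0 0 1 with hb₁
  -- the general shape
  have hshape : ∀ t u v, A t u v = A t 0 0 + u * a₁ ∧ B t u v = B t 0 0 + v * b₁ := by
    intro t u v
    have h := congrArg θ (C.split t u v)
    rw [map_mul, hAB, hAB, hAB, hAα, hBβ, hαlin, hβlin] at h
    have e : W t (A t 0 0) (B t 0 0) * W 0 (u * a₁) (v * b₁) =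
        W t (A t 0 0 + u * a₁) (B t 0 0 + v * b₁) :=
      C.mul' (by ring) (by rw [map_zero]; ring) (by rw [map_zero]; ring)
    rw [e] at h
    obtain ⟨_, h1, h2⟩ := C.inj _ _ _ _ _ _ h
    exact ⟨h1, h2⟩
  -- the product of two elements
  have hprod : ∀ t t', A t 0 0 + A t' 0 0 - t * σ t' = A (t + t') 0 0 - t * σ t' * a₁ ∧
      B t 0 0 + B t' 0 0 - t' * A t 0 0 - t ^ 2 * σ t' + t * t' * σ t' =
        B (t + t') 0 0 + (- t ^ 2 * σ t' + t * t' * σ t') * b₁ := by
    intro t t'
    have h := congrArg θ (C.mul t 0 0 t' 0 0)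
    rw [map_mul, hAB, hAB, hAB, C.mul] at h
    obtain ⟨_, h1, h2⟩ := C.inj _ _ _ _ _ _ h
    rw [(hshape (t + t') _ _).1] at h1
    rw [(hshape (t + t') _ _).2] at h2
    constructor
    · linear_combination h1
    · linear_combination h2
  have hs1 : s - 1 ≠ 0 := by
    intro h
    apply hs
    have : s = 1 := by linear_combination h
    rw [this, map_one]
  have hs2 : s - σ s ≠ 0 := fun h => hs (by linear_combination -h)
  have hs3 := h8ba_add_ne_zero σ hσ s hs
  have ha1 : a₁ = 1 := by
    have h1 := (hprod s 1).1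
    have h2 := (hprod 1 s).1
    rw [add_comm 1 s] at h2
    rw [map_one] at h1
    have : (a₁ - 1) * (s - σ s) = 0 := by linear_combination h1 - h2
    rcases mul_eq_zero.mp this with h | h
    · linear_combination h
    · exact absurd h hs2
  have hA1add : ∀ t t', A (t + t') 0 0 = A t 0 0 + A t' 0 0 := by
    intro t t'
    have := (hprod t t').1
    rw [ha1] at this
    linear_combination -this
  have hA1 : ∀ t, A t 0 0 = 0 := by
    intro t
    have h1 := (hneg t 0 0).1
    rw [neg_zero] at h1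
    have h2 := hA1add t (-t)
    rw [add_neg_cancel, hA000, h1] at h2
    exact half _ h2.symm
  have hb1 : b₁ = 1 := by
    have h1 := (hprod s 1).2
    have h2 := (hprod 1 s).2
    rw [add_comm 1 s] at h2
    rw [map_one, hA1] at h1
    rw [hA1] at h2
    have : (b₁ - 1) * ((s - 1) * (s + σ s)) = 0 := by linear_combination h1 - h2
    rcases mul_eq_zero.mp this with h | h
    · linear_combination h
    · exact absurd h (mul_ne_zero hs1 hs3)
  have hB1add : ∀ t t', B (t + t') 0 0 = B t 0 0 + B t' 0 0 := by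
    intro t t'
    have := (hprod t t').2
    rw [hb1, hA1] at this
    linear_combination -this
  have hB1eq : ∀ c : K, c ≠ 0 → B c 0 0 = c ^ 2 * σ c * B 1 0 0 := by
    intro c hc
    have h := heq c hc 1 0 0 1 (A 1 0 0) (B 1 0 0) (hAB 1 0 0)
    rw [mul_one, mul_zero, mul_zero, hAB] at h
    exact (C.inj _ _ _ _ _ _ h).2.2
  have hs0 : s ≠ 0 := by
    intro h
    apply hs
    rw [h, map_zero]
  have hs4 : s + 1 ≠ 0 := by
    intro h
    apply hs
    have : s = -1 := by linear_combination h
    rw [this, map_neg, map_one]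
  have hb : B 1 0 0 = 0 := by
    have h1 := hB1add s 1
    rw [hB1eq s hs0, hB1eq (s + 1) hs4, map_add, map_one] at h1
    have : ((s - 1) * (s - σ s)) * B 1 0 0 = 0 := by
      linear_combination h1 - (s * σ s + s) * B 1 0 0 * h3
    rcases mul_eq_zero.mp this with h | h
    · exact absurd h (mul_ne_zero hs1 hs2)
    · exact h
  have hB1 : ∀ t, B t 0 0 = 0 := by
    intro t
    by_cases ht : t = 0
    · rw [ht, hB000]
    · rw [hB1eq t ht, hb, mul_zero]
  intro t u v
  rw [hAB, (hshape t u v).1, (hshape t u v).2, hA1, hB1, ha1, hb1]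
  congr 1 <;> ring

end

end Cfsg.Agent.Lib.helper8
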