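import Mathlib
import Cfsg.Prelude.Def_ChevStructure
import Cfsg.Prelude.Def_ChevG2
import Cfsg.Prelude.Def_LieTwisted
import Cfsg.Agent.Lib.helper8.ChevBA3
import Cfsg.Agent.Lib.helper8.ChevBA6
import Cfsg.Agent.Lib.helper8.ChevRee35

set_option autoImplicit false

namespace Cfsg.Agent.Lib.helper8

open Cfsg.Lie Cfsg.Lie.ChevalleyDatum

universe u

variable {K : Type u} [Field K]

/-- the field endomorphism `x ↦ x ^ (3 ^ (m + 1))` -/
noncomputable def h8baSig (hch : CharP K 3) (m : ℕ) : K →+* K :=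
  letI : ExpChar K 3 := ExpChar.prime Nat.prime_three
  iterateFrobenius K 3 (m + 1)

theorem h8baSig_apply (hch : CharP K 3) (m : ℕ) (x : K) :
    h8baSig hch m x = (x ^ 3 ^ m) ^ 3 := by
  let _ : ExpChar K 3 := ExpChar.prime Nat.prime_three
  show iterateFrobenius K 3 (m + 1) x = _
  rw [iterateFrobenius_def, ← pow_mul, ← pow_succ]

variable [Fintype K] {m : ℕ}

theorem h8baSig_sq (hK : Fintype.card K = 3 ^ (2 * m + 1)) (hch : CharP K 3) (x : K) :
    h8baSig hch m (h8baSig hch m x) = x ^ 3 := by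
  rw [h8baSig_apply, h8baSig_apply, ← pow_mul, ← pow_mul, ← pow_mul]
  have e : 3 ^ m * (3 * (3 ^ m * 3)) = 3 ^ (2 * m + 1) * 3 := by
    rw [pow_succ, two_mul, pow_add]
    ring
  rw [e, pow_mul, ← hK, FiniteField.pow_card]

theorem h8baSig_ne (hm : 1 ≤ m) (hK : Fintype.card K = 3 ^ (2 * m + 1)) (hch : CharP K 3) :
    ∃ s : K, h8baSig hch m s ≠ s := by
  have hD : chevG2 ∈ [chevG2, chevB2, chevD4, chevF4, chevE6, chevE7, chevE8] := by simp
  have hB := h8base_all.{u} chevG2 hD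
  obtain ⟨k, _, _, _, _, _, s, hs⟩ := h8ree_gen_k hm hK hB
  refine ⟨s, ?_⟩
  rw [h8baSig_apply]
  intro h
  apply hs
  rw [h, sub_self]

omit [Field K] in
theorem h8ba_card_odd (hK : Fintype.card K = 3 ^ (2 * m + 1)) : Fintype.card K % 2 = 1 := by
  rw [hK]
  exact Nat.odd_iff.mp (Odd.pow (by decide))

/-- the element of `U ∩ ²G₂(q)` with parameters `(t, u, v)`, as an element of `²G₂(q)` -/
noncomputable def h8baW (hB : H8Base.{u} chevG2) (m : ℕ) (t u v : K) :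
    ↥(twistedG2 K (3 ^ m)) :=
  ⟨h8reeW hB m t u v, h8reeWordU_mem hB (3 ^ m) t u v⟩

omit [Fintype K] in
theorem h8baW_val (hB : H8Base.{u} chevG2) (m : ℕ) (t u v : K) :
    ((h8baW hB m t u v : ↥(twistedG2 K (3 ^ m))) : GL chevG2.Idx K) = h8reeW hB m t u v := rfl

/-- the coordinates of `U ∩ ²G₂(q)` -/
theorem h8ba_coord (hK : Fintype.card K = 3 ^ (2 * m + 1)) (hch : CharP K 3)
    (hB : H8Base.{u} chevG2) : H8BaCoord (h8baSig hch m) (h8baW hB m) := by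
  have hD : chevG2 ∈ [chevG2, chevB2, chevD4, chevF4, chevE6, chevE7, chevE8] := by simp
  have hC := h8commAll.{u} chevG2 hD
  obtain ⟨hO, hO2⟩ := h8ord_all chevG2 hD
  obtain ⟨R, hfe⟩ := h8ree_setup hK hB
  refine ⟨?_, ?_, ?_⟩
  · intro t u v t' u' v' h
    exact h8reeW_inj hK hB _ _ _ _ _ _ (congrArg Subtype.val h)
  · intro t u v t' u' v'
    apply Subtype.ext
    show h8reeW hB m t u v * h8reeW hB m t' u' v' = _
    rw [h8reeW_mul' hK hB, h8baSig_apply]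
    rfl
  · intro t u v h
    have h' : h8reeW hB m t u v ^ 3 = 1 := congrArg Subtype.val h
    exact (h8reeWordU_cube_iff R hC hO2 (3 ^ m) hfe t u v).mp h'

/-- membership in `U ∩ ²G₂(q)` in terms of the coordinates -/
theorem h8baW_mem_iff (hK : Fintype.card K = 3 ^ (2 * m + 1)) (hB : H8Base.{u} chevG2)
    (g : ↥(twistedG2 K (3 ^ m))) :
    g ∈ (chevG2.posUnipotent K ⊓ twistedG2 K (3 ^ m)).subgroupOf (twistedG2 K (3 ^ m)) ↔
      ∃ t u v : K, g = h8baW hB m t u v := by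
  rw [Subgroup.mem_subgroupOf, h8reeW_mem_iff hK hB]
  constructor
  · rintro ⟨t, u, v, h⟩
    exact ⟨t, u, v, Subtype.ext h⟩
  · rintro ⟨t, u, v, h⟩
    exact ⟨t, u, v, congrArg Subtype.val h⟩

/-- the characters of `H ∩ ²G₂(q)` on the coordinates -/
theorem h8ba_chi (hK : Fintype.card K = 3 ^ (2 * m + 1)) (hch : CharP K 3)
    (hB : H8Base.{u} chevG2) (k : GL chevG2.Idx K)
    (hk : k ∈ chevG2.diagonalSubgroup K ⊓ twistedG2 K (3 ^ m)) :
    h8chi chevG2 hB k 6 ≠ 0 ∧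
    h8chi chevG2 hB k 7 = h8chi chevG2 hB k 6 ^ 3 ^ m ∧
    h8chi chevG2 hB k 10 = h8chi chevG2 hB k 6 * h8baSig hch m (h8chi chevG2 hB k 6) ∧
    h8chi chevG2 hB k 11 = h8chi chevG2 hB k 6 ^ 2 * h8baSig hch m (h8chi chevG2 hB k 6) := by
  have hD : chevG2 ∈ [chevG2, chevB2, chevD4, chevF4, chevE6, chevE7, chevE8] := by simp
  have hA := h8reflAll chevG2 hD
  have hC := h8commAll.{u} chevG2 hD
  have hW := h8bn2_all chevG2 hD
  obtain ⟨hO, hO2⟩ := h8ord_all chevG2 hD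
  obtain ⟨R, hfe⟩ := h8ree_setup hK hB
  have hfix := (h8ree_G1_fix R hC (3 ^ m) hfe k hk.2).2
  have h7 := h8ree_chi_sig R hA hW k hk.1 hfix 6 (by decide)
  rw [h8reeE_long R 6 (by simp), hfe] at h7
  have h7' : h8chi chevG2 hB k 7 = h8chi chevG2 hB k 6 ^ 3 ^ m := h7
  obtain ⟨_, _, h10, h11⟩ := h8ree_chi_mult hB hC hO2 k hk.1
  refine ⟨(h8chi_spec chevG2 hB k hk.1 6 (by decide)).1, h7', ?_, ?_⟩
  · rw [h10, h7', h8baSig_apply]
  · rw [h11, h7', h8baSig_apply]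

/-- the action of `H ∩ ²G₂(q)` on the coordinates -/
theorem h8baW_conj (hK : Fintype.card K = 3 ^ (2 * m + 1)) (hch : CharP K 3)
    (hB : H8Base.{u} chevG2) (k : ↥(twistedG2 K (3 ^ m)))
    (hk : k ∈ (chevG2.diagonalSubgroup K ⊓ twistedG2 K (3 ^ m)).subgroupOf
      (twistedG2 K (3 ^ m))) (t u v : K) :
    k * h8baW hB m t u v * k⁻¹ = h8baW hB m (h8chi chevG2 hB k.val 6 * t)
      (h8chi chevG2 hB k.val 6 * h8baSig hch m (h8chi chevG2 hB k.val 6) * u)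
      (h8chi chevG2 hB k.val 6 ^ 2 * h8baSig hch m (h8chi chevG2 hB k.val 6) * v) := by
  rw [Subgroup.mem_subgroupOf] at hk
  obtain ⟨_, _, h10, h11⟩ := h8ba_chi hK hch hB k.val hk
  apply Subtype.ext
  show k.val * h8reeW hB m t u v * k.val⁻¹ = h8reeW hB m _ _ _
  rw [h8reeW_conj' hK hB k.val hk, h10, h11]

/-- every non-zero scalar is the value of the character of the long simple root on
`H ∩ ²G₂(q)` -/
theorem h8ba_chi_surj (hK : Fintype.card K = 3 ^ (2 * m + 1)) (hB : H8Base.{u} chevG2)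
    (c : K) (hc : c ≠ 0) :
    ∃ k : ↥(twistedG2 K (3 ^ m)),
      k ∈ (chevG2.diagonalSubgroup K ⊓ twistedG2 K (3 ^ m)).subgroupOf (twistedG2 K (3 ^ m)) ∧
      h8chi chevG2 hB k.val 6 = c := by
  have hD : chevG2 ∈ [chevG2, chevB2, chevD4, chevF4, chevE6, chevE7, chevE8] := by simp
  have hA := h8reflAll chevG2 hD
  have hC := h8commAll.{u} chevG2 hD
  have hW := h8bn2_all chevG2 hD
  have hch := h8ree_char3 hK
  obtain ⟨R, hfe⟩ := h8ree_setup hK hB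
  have hinj := h8reeChiHom_injective hK hB hA hW
  have hcard : Nat.card ↥(chevG2.diagonalSubgroup K ⊓ twistedG2 K (3 ^ m)) = Nat.card Kˣ := by
    rw [h8ree_H1_card hK, Nat.card_units, Nat.card_eq_fintype_card, hK]
  have : Finite ↥(chevG2.diagonalSubgroup K ⊓ twistedG2 K (3 ^ m)) := Subtype.finite
  have hbij : Function.Bijective (h8reeChiHom (K := K) hB hA hW (3 ^ m)) :=
    (Nat.bijective_iff_injective_and_card _).mpr ⟨hinj, hcard⟩
  obtain ⟨k, hk⟩ := hbij.2 (Units.mk0 (c ^ 3 ^ m) (pow_ne_zero _ hc))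
  have h7 : h8chi chevG2 hB k.val 7 = c ^ 3 ^ m := congrArg Units.val hk
  refine ⟨⟨k.val, k.2.2⟩, Subgroup.mem_subgroupOf.mpr k.2, ?_⟩
  show h8chi chevG2 hB k.val 6 = c
  have hfix := (h8ree_G1_fix R hC (3 ^ m) hfe k.val k.2.2).2
  have h6 := h8ree_chi_sig R hA hW k.val k.2.1 hfix 7 (by decide)
  rw [h8reeE_short R 7 (by simp), hfe, h7] at h6
  have h6' : h8chi chevG2 hB k.val 6 = ((c ^ 3 ^ m) ^ 3 ^ m) ^ 3 := h6
  rw [h6', ← pow_mul, ← pow_mul]
  have e : 3 ^ m * (3 ^ m * 3) = 3 ^ (2 * m + 1) := by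
    rw [pow_succ, two_mul, pow_add]
    ring
  rw [e, ← hK, FiniteField.pow_card]

end Cfsg.Agent.Lib.helper8
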