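import Mathlib
import Cfsg.Agent.Lib.helper17.SL3.Defs
import Cfsg.Agent.Lib.helper17.SL3.Defs2
import Cfsg.Agent.Lib.helper17.SL3K4v
import Cfsg.Agent.Lib.helper2.SL3T4
import Cfsg.Agent.Lib.Helper18.SL3K5

/-!
# Project SL3, row K6 (`T_card`): the torus `TT d c = ⟨d, d₂⟩` has at most `(q - 1)²` elements and contains `d₃`.
-/

set_option autoImplicit false

namespace Cfsg.Agent.Lib.helper17.SL3

open Cfsg.Agent.Lib.helper17.SLP
open Polynomial

universe u v

section K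

variable {F : Type u} [Field F] {G : Type v} [Group G]

/-- pure group theory behind K6 -/
theorem sl3k6_core (d c : G) (m : ℕ) (hm : 0 < m) (hd : d ^ m = 1) (hab : Commute d (d2 d c))
    (h3 : d * d2 d c * d3 d c = 1) :
    Finite (TT d c) ∧ Nat.card (TT d c) ≤ m ^ 2 ∧ d3 d c ∈ TT d c := by
  have hb : (d2 d c) ^ m = 1 := by
    unfold d2
    rw [conj_pow, hd, mul_one, mul_inv_cancel]
  obtain ⟨h1, h2⟩ := card_pair d (d2 d c) m hm hab hd hb
  refine ⟨h1, h2, ?_⟩
  have e : d3 d c = (d * d2 d c)⁻¹ := by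
    rw [eq_inv_iff_mul_eq_one]
    exact mul_eq_one_comm.mp h3
  rw [e]
  unfold TT
  exact inv_mem (mul_mem (Subgroup.subset_closure (by simp)) (Subgroup.subset_closure (by simp)))

/-- K6 [S]  deps T4 K4 K5. -/
theorem T_card [Fintype F] (ζ : Fˣ) (hζ : ∀ y : Fˣ, y ∈ Subgroup.zpowers ζ) (x : F → G) (d w c : G)
    (H : Hyp ζ x d w c) :
    Finite (TT d c) ∧ Nat.card (TT d c) ≤ (Fintype.card F - 1) ^ 2 ∧ d3 d c ∈ TT d c := by
  have hm : 0 < Fintype.card F - 1 := by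
    have := Fintype.one_lt_card (α := F)
    omega
  obtain ⟨-, -, hab, -, -, h3⟩ := tor_rel ζ x d w c H
  exact sl3k6_core d c _ hm (d_order ζ hζ x d w c H) hab h3

end K

end Cfsg.Agent.Lib.helper17.SL3
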