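import Mathlib
import Cfsg.Agent.Lib.Helper19.ORE.Defs

/-! Project ORE (S2444), row C3 `line_sol`. -/

set_option autoImplicit false

namespace Cfsg.Agent.Lib.Helper19.ORE

open Polynomial Module

universe u v

variable {F : Type u} [Field F]

/-- on a line a linear automorphism of determinant 1 is the identity -/
theorem orec3_eq_one {V : Type v} [AddCommGroup V] [Module F V] (g : V ≃ₗ[F] V)
    (h1 : finrank F V = 1) (hdet : LinearEquiv.det g = 1) : g = 1 := by
  have hfd : FiniteDimensional F V := FiniteDimensional.of_finrank_pos (by omega)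
  obtain ⟨v, hv0, hv⟩ := finrank_eq_one_iff'.mp h1
  obtain ⟨c, hc⟩ := hv (g v)
  have hg : (g : V →ₗ[F] V) = c • LinearMap.id := by
    apply LinearMap.ext
    intro w
    obtain ⟨d, rfl⟩ := hv w
    rw [LinearMap.smul_apply, LinearMap.id_apply, LinearEquiv.coe_coe, map_smul, ← hc, smul_comm]
  have hd : LinearMap.det (g : V →ₗ[F] V) = c := by
    rw [hg, LinearMap.det_smul, h1, pow_one, LinearMap.det_id, mul_one]
  have hd1 : LinearMap.det (g : V →ₗ[F] V) = 1 := by
    have := congrArg Units.val hdet
    rw [LinearEquiv.coe_det] at this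
    exact this
  rw [hd] at hd1
  apply LinearEquiv.ext
  intro w
  have := LinearMap.congr_fun hg w
  rw [LinearEquiv.coe_coe, LinearMap.smul_apply, LinearMap.id_apply, hd1, one_smul] at this
  exact this

/-- **C3**.  On a line every `g` of determinant 1 is solved by scalars:
`A = a • 1`, `y = e • 1` (`g = 1` since `dim = 1` and `det g = 1`). -/
theorem line_sol {V : Type v} [AddCommGroup V] [Module F V] (g : V ≃ₗ[F] V)
    (h1 : finrank F V = 1) (hdet : LinearEquiv.det g = 1) (a e : Fˣ) :
    SolP g a e (X - C (a : F)) := by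
  have hg := orec3_eq_one g h1 hdet
  subst hg
  have hdetS : ∀ c : Fˣ, LinearEquiv.det (LinearEquiv.smulOfUnit c : V ≃ₗ[F] V) = c := by
    intro c
    apply Units.ext
    rw [LinearEquiv.coe_det]
    have : ((LinearEquiv.smulOfUnit c : V ≃ₗ[F] V) : V →ₗ[F] V) = (c : F) • LinearMap.id := by
      apply LinearMap.ext
      intro w
      rfl
    rw [this, LinearMap.det_smul, h1, pow_one, LinearMap.det_id, mul_one]
  refine ⟨LinearEquiv.smulOfUnit a, LinearEquiv.smulOfUnit e, ?_, hdetS a, hdetS e, ?_⟩
  · rw [mul_one]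
    apply LinearEquiv.ext
    intro w
    have hy : ∀ z : V, (LinearEquiv.smulOfUnit e : V ≃ₗ[F] V) z = (e : F) • z := fun z => rfl
    have ha : ∀ z : V, (LinearEquiv.smulOfUnit a : V ≃ₗ[F] V) z = (a : F) • z := fun z => rfl
    rw [LinearEquiv.mul_apply, LinearEquiv.mul_apply, hy, ha, ha, ← map_smul, ← hy,
      ← LinearEquiv.mul_apply, mul_inv_cancel, LinearEquiv.coe_one, id]
  · have : ((LinearEquiv.smulOfUnit a : V ≃ₗ[F] V) : V →ₗ[F] V) = (a : F) • LinearMap.id := by
      apply LinearMap.ext
      intro w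
      rfl
    rw [map_sub, aeval_X, aeval_C, this]
    apply LinearMap.ext
    intro w
    simp [Algebra.algebraMap_eq_smul_one]

end Cfsg.Agent.Lib.Helper19.ORE
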