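import Mathlib
import Cfsg.Agent.Lib.Helper19.SPD.Defs

set_option autoImplicit false

/-!
# SPD row CYCSPAN: the cyclic subspace of a vector killed by a monic polynomial in `y`.
-/

namespace Cfsg.Agent.Lib.Helper19.SPD

open Polynomial

/-- generic form of the row (any module) -/
theorem spdcycspan_core {F : Type*} [Field F] {V : Type*} [AddCommGroup V] [Module F V]
    (y : V →ₗ[F] V) (g : F[X]) (hg : g.Monic) (v : V) (hv : aeval y g v = 0) :
    ∃ U : Submodule F V, v ∈ U ∧ (∀ u ∈ U, y u ∈ U) ∧ Module.finrank F U ≤ g.natDegree ∧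
      (∀ W : Submodule F V, (∀ u ∈ W, y u ∈ W) → v ∈ W → U ≤ W) := by
  classical
  let n := g.natDegree
  let b : Fin n → V := fun k => (y ^ (k : ℕ)) v
  let U : Submodule F V := Submodule.span F (Set.range b)
  have hbU : ∀ k : ℕ, k < n → (y ^ k) v ∈ U := fun k hk => Submodule.subset_span ⟨⟨k, hk⟩, rfl⟩
  have hsum : ∑ m ∈ Finset.range n, g.coeff m • (y ^ m) v + (y ^ n) v = 0 := by
    have h := hv
    rw [Polynomial.aeval_eq_sum_range, LinearMap.sum_apply, Finset.sum_range_succ] at h
    simp only [LinearMap.smul_apply] at h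
    rw [show g.coeff g.natDegree = 1 from hg.coeff_natDegree, one_smul] at h
    exact h
  have hn : (y ^ n) v ∈ U := by
    have : (y ^ n) v = -∑ m ∈ Finset.range n, g.coeff m • (y ^ m) v :=
      eq_neg_of_add_eq_zero_right hsum
    rw [this]
    apply U.neg_mem
    apply U.sum_mem
    intro m hm
    exact U.smul_mem _ (hbU m (Finset.mem_range.mp hm))
  refine ⟨U, ?_, ?_, ?_, ?_⟩
  · rcases Nat.eq_zero_or_pos n with h0 | h0
    · have : (y ^ n) v = v := by rw [h0, pow_zero, Module.End.one_apply]
      rw [← this]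
      exact hn
    · have := hbU 0 h0
      rwa [pow_zero, Module.End.one_apply] at this
  · have hmap : U.map y ≤ U := by
      rw [Submodule.map_span_le]
      rintro _ ⟨k, rfl⟩
      show y ((y ^ (k : ℕ)) v) ∈ U
      rw [← Module.End.mul_apply, ← pow_succ']
      by_cases hk : (k : ℕ) + 1 < n
      · exact hbU _ hk
      · have : (k : ℕ) + 1 = n := by have := k.2; omega
        rw [this]
        exact hn
    intro u hu
    exact hmap (Submodule.mem_map_of_mem hu)
  · have := finrank_range_le_card (R := F) b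
    rw [Fintype.card_fin] at this
    exact this
  · intro W hW hvW
    rw [Submodule.span_le]
    rintro _ ⟨k, rfl⟩
    show (y ^ (k : ℕ)) v ∈ W
    generalize (k : ℕ) = m
    induction m with
    | zero => rwa [pow_zero, Module.End.one_apply]
    | succ m ih =>
      rw [pow_succ', Module.End.mul_apply]
      exact hW _ ih

variable {F : Type*} [Field F] {d : ℕ}

/-- CYCSPAN [M]: the cyclic subspace of a vector killed by a monic polynomial `g` in `y`. -/
theorem cyc_span (y : (Fin d ⊕ Fin d → F) →ₗ[F] (Fin d ⊕ Fin d → F)) (g : F[X]) (hg : g.Monic)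
    (v : Fin d ⊕ Fin d → F) (hv : aeval y g v = 0) :
    ∃ U : Submodule F (Fin d ⊕ Fin d → F), v ∈ U ∧ Inv y U ∧ Module.finrank F U ≤ g.natDegree ∧
      (∀ W : Submodule F (Fin d ⊕ Fin d → F), Inv y W → v ∈ W → U ≤ W) :=
  spdcycspan_core y g hg v hv

end Cfsg.Agent.Lib.Helper19.SPD
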