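import Mathlib
import Cfsg.Agent.Lib.helper8.ChevUC11

set_option autoImplicit false

namespace Cfsg.Agent.Lib.helper8

open Cfsg.Lie Cfsg.Lie.ChevalleyDatum

theorem h8ord3Chk_E6 : h8ord3Chk chevE6 = true := by decide +kernel
theorem h8ucMChk_E6 : h8ucMChk chevE6 = true := by decide +kernel
theorem h8ucPMChk_E6 : h8ucPMChk chevE6 = true := by decide +kernel

end Cfsg.Agent.Lib.helper8
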