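import Mathlib
import Cfsg.Agent.Lib.helper8.ChevUC11
import Cfsg.Agent.Lib.helper8.ChevReflChk

set_option autoImplicit false

namespace Cfsg.Agent.Lib.helper8

open Cfsg.Lie Cfsg.Lie.ChevalleyDatum

/-- one row of `h8ucPMChk` -/
def h8ucPMRow (D : ChevalleyDatum) (γ : ℕ) : Bool :=
  (List.range D.nroots).all fun δ =>
    if D.nroots / 2 ≤ γ ∧ γ < δ then
      decide (h8prL D (h8ucPM D γ δ) δ = 0) &&
        (decide (h8prL D (h8ucPM D γ δ) γ = 1) || decide (h8prL D (h8ucPM D γ δ) γ = 2) ||
          decide (h8prL D (h8ucPM D γ δ) γ = 3))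
    else true

theorem h8ucPMChk_of_rows (D : ChevalleyDatum) (h : ∀ γ < D.nroots, h8ucPMRow D γ = true) :
    h8ucPMChk D = true := by
  unfold h8ucPMChk
  rw [List.all_eq_true]
  intro γ hγ
  exact h γ (List.mem_range.mp hγ)

/-- one row of `h8ord3Chk` -/
def h8ord3Row (D : ChevalleyDatum) (r : ℕ) : Bool :=
  (List.range D.nroots).all fun s =>
    if D.nroots / 2 ≤ r ∧ D.nroots / 2 ≤ s ∧ r ≠ s then
      (D.commTerms r s).all fun c =>
        decide (D.nroots / 2 ≤ c.1 ∧ c.1 < D.nroots ∧ r < c.1 ∧ s < c.1)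
    else true

theorem h8ord3Chk_of_rows (D : ChevalleyDatum) (h : ∀ r < D.nroots, h8ord3Row D r = true) :
    h8ord3Chk D = true := by
  unfold h8ord3Chk
  rw [List.all_eq_true]
  intro r hr
  exact h r (List.mem_range.mp hr)

theorem h8ucMChk_E8 : h8ucMChk chevE8 = true := by decide +kernel

theorem h8ucPMRow_E8_0 : (List.range' 0 20).all (h8ucPMRow chevE8) = true := by
  decide +kernel

theorem h8ucPMRow_E8_1 : (List.range' 20 20).all (h8ucPMRow chevE8) = true := by
  decide +kernel

theorem h8ucPMRow_E8_2 : (List.range' 40 20).all (h8ucPMRow chevE8) = true := by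
  decide +kernel

theorem h8ucPMRow_E8_3 : (List.range' 60 20).all (h8ucPMRow chevE8) = true := by
  decide +kernel

theorem h8ucPMRow_E8_4 : (List.range' 80 20).all (h8ucPMRow chevE8) = true := by
  decide +kernel

theorem h8ucPMRow_E8_5 : (List.range' 100 20).all (h8ucPMRow chevE8) = true := by
  decide +kernel

theorem h8ucPMRow_E8_6 : (List.range' 120 20).all (h8ucPMRow chevE8) = true := by
  decide +kernel

theorem h8ucPMRow_E8_7 : (List.range' 140 20).all (h8ucPMRow chevE8) = true := by
  decide +kernel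

theorem h8ucPMRow_E8_8 : (List.range' 160 20).all (h8ucPMRow chevE8) = true := by
  decide +kernel

theorem h8ucPMRow_E8_9 : (List.range' 180 20).all (h8ucPMRow chevE8) = true := by
  decide +kernel

theorem h8ucPMRow_E8_10 : (List.range' 200 20).all (h8ucPMRow chevE8) = true := by
  decide +kernel

theorem h8ucPMRow_E8_11 : (List.range' 220 20).all (h8ucPMRow chevE8) = true := by
  decide +kernel

theorem h8ord3Row_E8_0 : (List.range' 0 20).all (h8ord3Row chevE8) = true := by
  decide +kernel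

theorem h8ord3Row_E8_1 : (List.range' 20 20).all (h8ord3Row chevE8) = true := by
  decide +kernel

theorem h8ord3Row_E8_2 : (List.range' 40 20).all (h8ord3Row chevE8) = true := by
  decide +kernel

theorem h8ord3Row_E8_3 : (List.range' 60 20).all (h8ord3Row chevE8) = true := by
  decide +kernel

theorem h8ord3Row_E8_4 : (List.range' 80 20).all (h8ord3Row chevE8) = true := by
  decide +kernel

theorem h8ord3Row_E8_5 : (List.range' 100 20).all (h8ord3Row chevE8) = true := by
  decide +kernel

theorem h8ord3Row_E8_6 : (List.range' 120 20).all (h8ord3Row chevE8) = true := by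
  decide +kernel

theorem h8ord3Row_E8_7 : (List.range' 140 20).all (h8ord3Row chevE8) = true := by
  decide +kernel

theorem h8ord3Row_E8_8 : (List.range' 160 20).all (h8ord3Row chevE8) = true := by
  decide +kernel

theorem h8ord3Row_E8_9 : (List.range' 180 20).all (h8ord3Row chevE8) = true := by
  decide +kernel

theorem h8ord3Row_E8_10 : (List.range' 200 20).all (h8ord3Row chevE8) = true := by
  decide +kernel

theorem h8ord3Row_E8_11 : (List.range' 220 20).all (h8ord3Row chevE8) = true := by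
  decide +kernel

theorem h8ucPMRows_E8 : ∀ r < chevE8.nroots, h8ucPMRow chevE8 r = true := by
  intro r hr
  have hn : chevE8.nroots = 240 := rfl
  rw [hn] at hr
  by_cases h0 : r < 20
  · exact h8rows_of_chunk _ _ _ h8ucPMRow_E8_0 r (by omega) (by omega)
  by_cases h1 : r < 40
  · exact h8rows_of_chunk _ _ _ h8ucPMRow_E8_1 r (by omega) (by omega)
  by_cases h2 : r < 60
  · exact h8rows_of_chunk _ _ _ h8ucPMRow_E8_2 r (by omega) (by omega)
  by_cases h3 : r < 80
  · exact h8rows_of_chunk _ _ _ h8ucPMRow_E8_3 r (by omega) (by omega)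
  by_cases h4 : r < 100
  · exact h8rows_of_chunk _ _ _ h8ucPMRow_E8_4 r (by omega) (by omega)
  by_cases h5 : r < 120
  · exact h8rows_of_chunk _ _ _ h8ucPMRow_E8_5 r (by omega) (by omega)
  by_cases h6 : r < 140
  · exact h8rows_of_chunk _ _ _ h8ucPMRow_E8_6 r (by omega) (by omega)
  by_cases h7 : r < 160
  · exact h8rows_of_chunk _ _ _ h8ucPMRow_E8_7 r (by omega) (by omega)
  by_cases h8 : r < 180
  · exact h8rows_of_chunk _ _ _ h8ucPMRow_E8_8 r (by omega) (by omega)
  by_cases h9 : r < 200
  · exact h8rows_of_chunk _ _ _ h8ucPMRow_E8_9 r (by omega) (by omega)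
  by_cases h10 : r < 220
  · exact h8rows_of_chunk _ _ _ h8ucPMRow_E8_10 r (by omega) (by omega)
  exact h8rows_of_chunk _ _ _ h8ucPMRow_E8_11 r (by omega) (by omega)

theorem h8ord3Rows_E8 : ∀ r < chevE8.nroots, h8ord3Row chevE8 r = true := by
  intro r hr
  have hn : chevE8.nroots = 240 := rfl
  rw [hn] at hr
  by_cases h0 : r < 20
  · exact h8rows_of_chunk _ _ _ h8ord3Row_E8_0 r (by omega) (by omega)
  by_cases h1 : r < 40
  · exact h8rows_of_chunk _ _ _ h8ord3Row_E8_1 r (by omega) (by omega)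
  by_cases h2 : r < 60
  · exact h8rows_of_chunk _ _ _ h8ord3Row_E8_2 r (by omega) (by omega)
  by_cases h3 : r < 80
  · exact h8rows_of_chunk _ _ _ h8ord3Row_E8_3 r (by omega) (by omega)
  by_cases h4 : r < 100
  · exact h8rows_of_chunk _ _ _ h8ord3Row_E8_4 r (by omega) (by omega)
  by_cases h5 : r < 120
  · exact h8rows_of_chunk _ _ _ h8ord3Row_E8_5 r (by omega) (by omega)
  by_cases h6 : r < 140
  · exact h8rows_of_chunk _ _ _ h8ord3Row_E8_6 r (by omega) (by omega)
  by_cases h7 : r < 160
  · exact h8rows_of_chunk _ _ _ h8ord3Row_E8_7 r (by omega) (by omega)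
  by_cases h8 : r < 180
  · exact h8rows_of_chunk _ _ _ h8ord3Row_E8_8 r (by omega) (by omega)
  by_cases h9 : r < 200
  · exact h8rows_of_chunk _ _ _ h8ord3Row_E8_9 r (by omega) (by omega)
  by_cases h10 : r < 220
  · exact h8rows_of_chunk _ _ _ h8ord3Row_E8_10 r (by omega) (by omega)
  exact h8rows_of_chunk _ _ _ h8ord3Row_E8_11 r (by omega) (by omega)

theorem h8ucPMChk_E8 : h8ucPMChk chevE8 = true := h8ucPMChk_of_rows chevE8 h8ucPMRows_E8

theorem h8ord3Chk_E8 : h8ord3Chk chevE8 = true := h8ord3Chk_of_rows chevE8 h8ord3Rows_E8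

end Cfsg.Agent.Lib.helper8
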