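import Mathlib
import Cfsg.Prelude.Def_ChevStructure
import Cfsg.Agent.Lib.helper8.ChevUC10

set_option autoImplicit false
set_option linter.unusedSectionVars false

namespace Cfsg.Agent.Lib.helper8

open Cfsg.Lie Cfsg.Lie.ChevalleyDatum

universe u v w

variable {K : Type u} [Field K] {Γ : Type v} [Group Γ] {E : Type w} [Group E] {ρ : E →* Γ}
variable {D : ChevalleyDatum} {X : ℕ → K → Γ}

/-- an additive function to a group invariant under a scalar other than one is trivial -/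
theorem h8add_inv_trivial {C : Type*} [Group C] (f : K → C)
    (hadd : ∀ a a', f (a + a') = f a * f a') (κ : K) (hκ : κ ≠ 1)
    (hinv : ∀ a, f (κ * a) = f a) (a : K) : f a = 1 := by
  have h0 : f 0 = 1 := by
    have := hadd 0 0
    rw [add_zero] at this
    exact mul_eq_left.mp this.symm
  have hneg : ∀ a, f (-a) = (f a)⁻¹ := by
    intro a
    have := hadd a (-a)
    rw [add_neg_cancel, h0] at this
    exact (inv_eq_of_mul_eq_one_right this.symm).symm
  have hkill : ∀ a, f ((κ - 1) * a) = 1 := by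
    intro a
    have e : (κ - 1) * a = κ * a + -a := by ring
    rw [e, hadd, hneg, hinv, mul_inv_cancel]
  have hκ1 : κ - 1 ≠ 0 := sub_ne_zero.mpr hκ
  have := hkill ((κ - 1)⁻¹ * a)
  rw [← mul_assoc, mul_inv_cancel₀ hκ1, one_mul] at this
  exact this

/-- lifts of elements of two commuting root subgroups commute, if some element acts on the
first with a scalar other than one and centralizes the second -/
theorem h8uc_comm_pair (h : H8CE ρ) (hS : H8Sys D X) (γ δ : ℕ) (hγ : γ < D.nroots)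
    (hcomm : ∀ t u : K, X γ t * X δ u = X δ u * X γ t)
    (k : Γ) (κ : K) (hκ : κ ≠ 1) (hkγ : ∀ t, k * X γ t * k⁻¹ = X γ (κ * t))
    (hkδ : ∀ u, k * X δ u * k⁻¹ = X δ u)
    (a b : K) (x y : E) (hx : ρ x = X γ a) (hy : ρ y = X δ b) : x * y = y * x := by
  let L : K → E := fun a => h.lift (X γ a)
  let M : E := h.lift (X δ b)
  have hL : ∀ a, ρ (L a) = X γ a := fun a => h.lift_spec _
  have hM : ρ M = X δ b := h.lift_spec _
  let f : K → E := fun a => L a * M * (L a)⁻¹ * M⁻¹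
  have hf1 : ∀ a, ρ (f a) = 1 := by
    intro a
    show ρ (L a * M * (L a)⁻¹ * M⁻¹) = 1
    rw [map_mul, map_mul, map_mul, map_inv, map_inv, hL, hM, hcomm a b]
    group
  have hfc : ∀ a (g : E), f a * g = g * f a := fun a g => h.central _ (hf1 a) g
  have hl : ∀ a a', f (a + a') = f a * f a' := by
    intro a a'
    have e1 : f (a + a') = (L a * L a') * M * (L a * L a')⁻¹ * M⁻¹ := by
      apply h.comm_eq
      · rw [hL, map_mul, hL, hL, hS.add γ hγ]
      · rfl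
    have e2 : (L a * L a') * M * (L a * L a')⁻¹ * M⁻¹ =
        L a * f a' * M * (L a)⁻¹ * M⁻¹ := by
      show _ = L a * (L a' * M * (L a')⁻¹ * M⁻¹) * M * (L a)⁻¹ * M⁻¹
      group
    rw [e1, e2, ← hfc a' (L a), ← hfc a' (f a)]
    show f a' * L a * M * (L a)⁻¹ * M⁻¹ = f a' * (L a * M * (L a)⁻¹ * M⁻¹)
    simp only [mul_assoc]
  have hinv : ∀ a, f (κ * a) = f a := by
    intro a
    have e1 : f (κ * a) =
        (h.lift k * L a * (h.lift k)⁻¹) * (h.lift k * M * (h.lift k)⁻¹) *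
          (h.lift k * L a * (h.lift k)⁻¹)⁻¹ * (h.lift k * M * (h.lift k)⁻¹)⁻¹ := by
      apply h.comm_eq
      · rw [hL, map_mul, map_mul, map_inv, h.lift_spec, hL, hkγ]
      · rw [hM, map_mul, map_mul, map_inv, h.lift_spec, hM, hkδ]
    have e2 : (h.lift k * L a * (h.lift k)⁻¹) * (h.lift k * M * (h.lift k)⁻¹) *
          (h.lift k * L a * (h.lift k)⁻¹)⁻¹ * (h.lift k * M * (h.lift k)⁻¹)⁻¹ =
        h.lift k * f a * (h.lift k)⁻¹ := by
      show _ = h.lift k * (L a * M * (L a)⁻¹ * M⁻¹) * (h.lift k)⁻¹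
      group
    rw [e1, e2, ← hfc a (h.lift k), mul_inv_cancel_right]
  have key := h8add_inv_trivial f hl κ hκ hinv a
  have e : x * y * x⁻¹ * y⁻¹ = f a := by
    apply h.comm_eq
    · rw [hx, hL]
    · rw [hy, hM]
  rw [key] at e
  have : x * y = (x * y * x⁻¹ * y⁻¹) * (y * x) := by group
  rw [this, e, one_mul]

/-- lifts of two elements of the root subgroup `α` commute, if `X α` occurs in a commutator
relation `[X γ, X β] = X q * X α` and lifts of `X α` commute with lifts of `X β`, `X γ`, `X q` -/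
theorem h8uc_self_comm_cfg (h : H8CE ρ) (α β γ q : ℕ)
    (c₁ c₂ : K → K → K)
    (hrel : ∀ t u : K, X γ u * X β t = X β t * X γ u * (X q (c₁ t u) * X α (c₂ t u)))
    (hsurj : ∀ v : K, ∃ t u : K, c₂ t u = v)
    (hβ : ∀ (a b : K) (x y : E), ρ x = X α a → ρ y = X β b → x * y = y * x)
    (hγ : ∀ (a b : K) (x y : E), ρ x = X α a → ρ y = X γ b → x * y = y * x)
    (hq : ∀ (a b : K) (x y : E), ρ x = X α a → ρ y = X q b → x * y = y * x)
    (a b : K) (x y : E) (hx : ρ x = X α a) (hy : ρ y = X α b) : x * y = y * x := by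
  obtain ⟨t, u, htu⟩ := hsurj b
  set B := h.lift (X β t) with hB
  set C := h.lift (X γ u) with hC
  set Q := h.lift (X q (c₁ t u)) with hQ
  have hxB : x * B = B * x := hβ a t x B hx (h.lift_spec _)
  have hxC : x * C = C * x := hγ a u x C hx (h.lift_spec _)
  have hxQ : x * Q = Q * x := hq a (c₁ t u) x Q hx (h.lift_spec _)
  set y' := Q⁻¹ * (B * C)⁻¹ * (C * B) with hy'
  have hρy' : ρ y' = X α b := by
    rw [hy', map_mul, map_mul, map_inv, map_inv, map_mul, map_mul, hB, hC, hQ, h.lift_spec,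
      h.lift_spec, h.lift_spec, hrel t u, htu]
    group
  have hxy' : x * y' = y' * x := by
    have hxBi : x * B⁻¹ = B⁻¹ * x := by
      rw [eq_inv_mul_iff_mul_eq, ← mul_assoc, ← hxB, mul_inv_cancel_right]
    have hxCi : x * C⁻¹ = C⁻¹ * x := by
      rw [eq_inv_mul_iff_mul_eq, ← mul_assoc, ← hxC, mul_inv_cancel_right]
    have hxQi : x * Q⁻¹ = Q⁻¹ * x := by
      rw [eq_inv_mul_iff_mul_eq, ← mul_assoc, ← hxQ, mul_inv_cancel_right]
    have e : y' = Q⁻¹ * C⁻¹ * B⁻¹ * C * B := by rw [hy']; group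
    rw [e]
    calc x * (Q⁻¹ * C⁻¹ * B⁻¹ * C * B) = (x * Q⁻¹) * C⁻¹ * B⁻¹ * C * B := by group
      _ = Q⁻¹ * (x * C⁻¹) * B⁻¹ * C * B := by rw [hxQi]; group
      _ = Q⁻¹ * C⁻¹ * (x * B⁻¹) * C * B := by rw [hxCi]; group
      _ = Q⁻¹ * C⁻¹ * B⁻¹ * (x * C) * B := by rw [hxBi]; group
      _ = Q⁻¹ * C⁻¹ * B⁻¹ * C * (x * B) := by rw [hxC]; group
      _ = Q⁻¹ * C⁻¹ * B⁻¹ * C * B * x := by rw [hxB]; group
  have hz : ρ (y'⁻¹ * y) = 1 := by rw [map_mul, map_inv, hρy', hy, inv_mul_cancel]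
  have hzc := h.central _ hz x
  set z := y'⁻¹ * y with hzdef
  have ey : y = y' * z := by rw [hzdef]; group
  calc x * y = (x * y') * z := by rw [ey]; group
    _ = y' * (x * z) := by rw [hxy']; group
    _ = y' * (z * x) := by rw [hzc]
    _ = y * x := by rw [ey]; group

/-- Steinberg's theorem, the main step, with the commutation of the lifts of the elements of
one root subgroup as a hypothesis -/
theorem h8uc_sys_main2 {hB : H8Base.{u} D} {π : Γ →* GL D.Idx K} (hP : H8Pair D hB X π 1)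
    (hL : H8All D) (hWS : H8W0S D) (hN2 : H8N2 D)
    (hgen : Subgroup.closure (h8AllS D X) = ⊤) (hperf : commutator Γ = ⊤)
    (hsc : h8scChk D = true) (hO3 : H8Ord3 D) (hX0 : ∀ r, D.nroots ≤ r → ∀ t : K, X r t = 1)
    (h : H8CE ρ)
    (mf : ℕ → List ℤ)
    (hmf : ∀ r < D.nroots, h8pr D (mf r) r = 1 ∨ h8pr D (mf r) r = 2 ∨ h8pr D (mf r) r = 3)
    (hPM : ∀ γ δ, D.IsPosRoot γ → D.IsPosRoot δ → γ < δ → ∃ m : List ℤ, h8pr D m δ = 0 ∧
      (h8pr D m γ = 1 ∨ h8pr D m γ = 2 ∨ h8pr D m γ = 3))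
    (hself : ∀ r < D.nroots, ∀ (a b : K) (x y : E), ρ x = X r a → ρ y = X r b → x * y = y * x)
    (hK2 : ∀ e : ℕ, 1 ≤ e → e ≤ 3 → ∃ c : K, c ≠ 0 ∧ c ^ e ≠ 1) :
    ∃ Y : ℕ → K → E, H8Sys D Y ∧ (∀ r t, ρ (Y r t) = X r t) ∧
      ∀ q, D.nroots ≤ q → ∀ v, Y q v = 1 := by
  have hzp : ∀ (m : List ℤ) (r : ℕ),
      (h8pr D m r = 1 ∨ h8pr D m r = 2 ∨ h8pr D m r = 3) →
      ∃ c : K, c ≠ 0 ∧ c ^ (h8pr D m r) ≠ 1 := by
    intro m r he
    rcases he with he | he | he
    · obtain ⟨c, hc, hc'⟩ := hK2 1 le_rfl (by norm_num)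
      exact ⟨c, hc, by rw [he]; simpa using hc'⟩
    · obtain ⟨c, hc, hc'⟩ := hK2 2 (by norm_num) (by norm_num)
      refine ⟨c, hc, ?_⟩
      rw [he]
      exact_mod_cast hc'
    · obtain ⟨c, hc, hc'⟩ := hK2 3 (by norm_num) le_rfl
      refine ⟨c, hc, ?_⟩
      rw [he]
      exact_mod_cast hc'
  have hcex : ∀ r, ∃ c : K, c ≠ 0 ∧ (r < D.nroots → c ^ (h8pr D (mf r) r) ≠ 1) := by
    intro r
    by_cases hr : r < D.nroots
    · obtain ⟨c, hc, hc'⟩ := hzp (mf r) r (hmf r hr)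
      exact ⟨c, hc, fun _ => hc'⟩
    · exact ⟨1, one_ne_zero, fun hr' => absurd hr' hr⟩
  choose cf hcf0 hcf1 using hcex
  let τ : ℕ → Γ := fun r => h8ucK D X (mf r) (cf r)
  let d : ℕ → K := fun r => (cf r) ^ (h8pr D (mf r) r) - 1
  have hTau : H8UCTau D X τ d := by
    refine ⟨hP.sys, fun r hr => sub_ne_zero.mpr (hcf1 r hr), ?_⟩
    intro r hr t
    show h8ucK D X (mf r) (cf r) * X r t * (h8ucK D X (mf r) (cf r))⁻¹ =
      X r (((cf r) ^ (h8pr D (mf r) r) - 1 + 1) * t)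
    rw [h8ucK_act hP hL hWS hN2 hsc (mf r) (cf r) (hcf0 r) r hr, sub_add_cancel]
  obtain ⟨Y, hYdef⟩ : ∃ Y : ℕ → K → E, Y = h8ucY h X τ d := ⟨_, rfl⟩
  have hρ : ∀ r t, ρ (Y r t) = X r t := by
    intro r t
    rw [hYdef]
    by_cases hr : r < D.nroots
    · exact h8ucY_im h hTau r hr t
    · unfold h8ucY
      rw [map_mul, map_mul, map_mul, map_inv, map_inv, h.lift_spec, h.lift_spec,
        hX0 r (by omega), hX0 r (by omega)]
      group
  have hY1 : ∀ q, D.nroots ≤ q → ∀ v, Y q v = 1 := by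
    intro q hq v
    rw [hYdef]
    unfold h8ucY
    have hz : ρ (h.lift (X q (v / d q))) = 1 := by rw [h.lift_spec, hX0 q hq]
    rw [mul_assoc (h.lift (τ q)), h.central _ hz, ← mul_assoc, mul_inv_cancel, one_mul,
      mul_inv_cancel]
  have hadd : ∀ r < D.nroots, ∀ t u : K, Y r t * Y r u = Y r (t + u) := by
    intro r hr t u
    rw [hYdef]
    apply h8ucY_add h hTau r hr
    intro a b x y hx hy
    exact hself r hr a b x y hx hy
  have hτT : ∀ r, τ r ∈ Subgroup.closure (h8HS D X) := fun r => h8ucK_mem _ _ (hcf0 r)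
  -- equivariance under the torus
  have htorus : ∀ (m : List ℤ) (c : K), c ≠ 0 → ∀ r < D.nroots, ∀ t : K,
      h.lift (h8ucK D X m c) * Y r t * (h.lift (h8ucK D X m c))⁻¹ =
        Y r (c ^ (h8pr D m r) * t) := by
    intro m c hc r hr t
    rw [hYdef]
    apply h8ucY_conj h hperf _ r r _ rfl
    · intro t
      rw [h.lift_spec]
      exact h8ucK_act hP hL hWS hN2 hsc m c hc r hr t
    · rw [h.lift_spec]
      intro y
      have := h8pair_T_comm_central hP hL hWS hN2 hgen (τ r)⁻¹ (h8ucK D X m c)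
        (Subgroup.inv_mem _ (hτT r)) (h8ucK_mem _ _ hc) y
      rw [inv_inv] at this
      have e : (τ r)⁻¹ * (h8ucK D X m c * τ r * (h8ucK D X m c)⁻¹) =
          (τ r)⁻¹ * h8ucK D X m c * τ r * (h8ucK D X m c)⁻¹ := by group
      rw [e]
      exact this
  -- the torus hypothesis for the pairs of positive roots
  have htor : ∀ γ δ, D.IsPosRoot γ → D.IsPosRoot δ → γ < δ → H8UCTor D Y γ δ := by
    intro γ δ hγ hδ hγδ
    obtain ⟨m, h0, he⟩ := hPM γ δ hγ hδ hγδ
    have hex : ∃ c : K, c ≠ 0 ∧ c ^ (h8pr D m γ) ≠ 1 := by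
      rcases he with he | he | he
      · obtain ⟨c, hc, hc'⟩ := hK2 1 le_rfl (by norm_num)
        exact ⟨c, hc, by rw [he]; simpa using hc'⟩
      · obtain ⟨c, hc, hc'⟩ := hK2 2 (by norm_num) (by norm_num)
        refine ⟨c, hc, ?_⟩
        rw [he]
        exact_mod_cast hc'
      · obtain ⟨c, hc, hc'⟩ := hK2 3 (by norm_num) le_rfl
        refine ⟨c, hc, ?_⟩
        rw [he]
        exact_mod_cast hc'
    obtain ⟨c, hc, hce⟩ := hex
    refine ⟨h.lift (h8ucK D X m c), c ^ (h8pr D m γ), hce, ?_, ?_, ?_⟩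
    · exact htorus m c hc γ hγ.1
    · intro u
      have := htorus m c hc δ hδ.1 u
      rw [h0, zpow_zero, one_mul] at this
      exact this
    · intro r hr t
      exact ⟨_, htorus m c hc r hr.1 t⟩
  have huniq : ∀ (k : ℕ) (t : ℕ → K), h8wX X (h8ordW D k t) = 1 → ∀ r ∈ h8Lk D k, t r = 0 :=
    fun k t h1 => h8pair_ord_unique hP hL k t h1
  have hneg : ∀ r s, D.IsPosRoot r → D.IsPosRoot s → s ≠ D.negIdx.getD r 0 := by
    intro r s hr hs he
    have h1 := h8stNegOfPos hB hL r hr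
    rw [← he] at h1
    have h2 := (h8isPos_iff hB hL s hs.1).mp hs
    have h3 := (h8isNeg_iff hB hL s hs.1).mp h1
    omega
  have hSP := h8uc_pos_sys h hP.sys hO3 hadd hρ huniq hneg htor
  have hinj : ∀ y ∈ Subgroup.closure (h8VkS D Y 0), ρ y = 1 → y = 1 := fun y hy h1 =>
    h8sysP_inj hSP hO3 ρ hρ huniq 0 le_rfl y hy h1
  refine ⟨Y, ?_, hρ, hY1⟩
  apply h8uc_all_sys hP.sys hadd hρ hinj
  intro r s hr hs h1 h2
  obtain ⟨w, hw, hpr, hps, hpc⟩ := h8uc_move hB hL hWS hO3 r s hr hs h1 h2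
  have hn := h8nWS_mem_NS (D := D) (X := X) w hw
  have hnorm := h8pair_NS_le_normalizer hP hL hWS hN2 hn
  -- equivariance under the lift of the word
  have hmove : ∀ q < D.nroots, D.IsPosRoot (h8sW D w q) → ∀ v : K,
      h.lift (h8nWS D X w) * Y q v * (h.lift (h8nWS D X w))⁻¹ ∈
        Subgroup.closure (h8VkS D Y 0) := by
    intro q hq hpos v
    obtain ⟨κ, hκ, e, _⟩ := h8pair_nWS_act hP hL hWS hN2 w hw q hq
    have hq' := hpos.1
    have key : h.lift (h8nWS D X w) * Y q v * (h.lift (h8nWS D X w))⁻¹ =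
        Y (h8sW D w q) (κ * v) := by
      rw [hYdef]
      apply h8ucY_conj_gen h hperf hTau (by rw [← hYdef]; exact hadd) _ q _ hq hq' κ hκ
      · intro t
        rw [h.lift_spec]
        exact e t
      · rw [h.lift_spec]
        intro y
        have hmem : h8nWS D X w * τ q * (h8nWS D X w)⁻¹ ∈ Subgroup.closure (h8HS D X) :=
          (Subgroup.mem_normalizer_iff.mp hnorm (τ q)).mp (hτT q)
        have := h8pair_T_comm_central hP hL hWS hN2 hgen (τ (h8sW D w q))⁻¹ _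
          (Subgroup.inv_mem _ (hτT _)) hmem y
        rw [inv_inv] at this
        have e' : (τ (h8sW D w q))⁻¹ * (h8nWS D X w * τ q * (h8nWS D X w)⁻¹ * τ (h8sW D w q) *
            (h8nWS D X w * τ q * (h8nWS D X w)⁻¹)⁻¹) =
            (τ (h8sW D w q))⁻¹ * (h8nWS D X w * τ q * (h8nWS D X w)⁻¹) * τ (h8sW D w q) *
            (h8nWS D X w * τ q * (h8nWS D X w)⁻¹)⁻¹ := by group
        rw [e']
        exact this
    rw [key]
    exact Subgroup.subset_closure ⟨_, _, hpos, Nat.zero_le _, rfl⟩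
  refine ⟨h.lift (h8nWS D X w), hmove r hr hpr, hmove s hs hps, ?_⟩
  intro c hc v
  by_cases hlt : c.1 < D.nroots
  · exact hmove c.1 hlt (hpc c hc) v
  · rw [hY1 c.1 (by omega), mul_one, mul_inv_cancel]
    exact Subgroup.one_mem _

end Cfsg.Agent.Lib.helper8
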