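import Mathlib
import Cfsg.Prelude.Def_ChevStructure
import Cfsg.Prelude.Def_ChevB2
import Cfsg.Agent.Lib.helper8.ChevUC17
import Cfsg.Agent.Lib.helper8.ChevUC11
import Cfsg.Agent.Lib.helper8.ChevUC12

set_option autoImplicit false
set_option linter.unusedSectionVars false

namespace Cfsg.Agent.Lib.helper8

open Cfsg.Lie Cfsg.Lie.ChevalleyDatum

universe u v w

variable {K : Type u} [Field K] {Γ : Type v} [Group Γ] {E : Type w} [Group E] {ρ : E →* Γ}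
variable {D : ChevalleyDatum} {X : ℕ → K → Γ}

/-- a cocharacter pairing to `1` or `2` with the root `r` -/
def h8ucM2 (D : ChevalleyDatum) (r : ℕ) : List ℤ :=
  match (h8ucCands D).find? fun m => decide (h8prL D m r = 1) with
  | some m => m
  | none => ((h8ucCands D).find? fun m => decide (h8prL D m r = 2)).getD []

def h8ucM2Chk (D : ChevalleyDatum) : Bool :=
  (List.range D.nroots).all fun r =>
    decide (h8prL D (h8ucM2 D r) r = 1) || decide (h8prL D (h8ucM2 D r) r = 2)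

theorem h8ucM2_spec (D : ChevalleyDatum) (h : h8ucM2Chk D = true) (r : ℕ) (hr : r < D.nroots) :
    h8pr D (h8ucM2 D r) r = 1 ∨ h8pr D (h8ucM2 D r) r = 2 ∨ h8pr D (h8ucM2 D r) r = 3 := by
  unfold h8ucM2Chk at h
  rw [List.all_eq_true] at h
  have := h r (List.mem_range.mpr hr)
  rw [Bool.or_eq_true, decide_eq_true_eq, decide_eq_true_eq] at this
  rw [h8pr_eq]
  rcases this with h1 | h1
  · exact Or.inl h1
  · exact Or.inr (Or.inl h1)

theorem h8ucM2Chk_B2 : h8ucM2Chk chevB2 = true := by decide +kernel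

section

variable {hB : H8Base.{u} D} {π : Γ →* GL D.Idx K} (hP : H8Pair D hB X π 1)
  (hL : H8All D) (hWS : H8W0S D) (hN2 : H8N2 D) (hsc : h8scChk D = true)
include hP hL hWS hN2 hsc

/-- lifts of the elements of a root subgroup commute, if some cocharacter pairs to one with the
root -/
theorem h8uc_self_of_M (h : H8CE ρ) (r : ℕ) (hr : r < D.nroots) (m : List ℤ)
    (hm : h8pr D m r = 1)
    (hK1 : ∃ χ χ' : K, χ ≠ 0 ∧ χ' ≠ 0 ∧ χ + χ' = 1 ∧ χ * χ' ≠ 1)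
    (a b : K) (x y : E) (hx : ρ x = X r a) (hy : ρ y = X r b) : x * y = y * x := by
  obtain ⟨χ, χ', hχ, hχ', hsum, hprod⟩ := hK1
  have hact1 : ∀ (c : K), c ≠ 0 → ∀ t : K,
      h8ucK D X m c * X r t * (h8ucK D X m c)⁻¹ = X r (c * t) := by
    intro c hc t
    rw [h8ucK_act hP hL hWS hN2 hsc m c hc r hr, hm, zpow_one]
  exact h8uc_self_comm h hP.sys r hr χ χ' hχ hχ' hsum hprod (h8ucK D X m χ)
    (h8ucK D X m χ') (hact1 χ hχ) (hact1 χ' hχ') a b x y hx hy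

/-- lifts of the elements of two commuting root subgroups commute, if some cocharacter vanishes
on the second root and not on the first -/
theorem h8uc_comm_pair_tor (h : H8CE ρ) (α δ : ℕ) (hα : α < D.nroots) (hδ : δ < D.nroots)
    (h1 : δ ≠ α) (h2 : δ ≠ D.negIdx.getD α 0) (hct : D.commTerms α δ = [])
    (m : List ℤ) (hm0 : h8pr D m δ = 0)
    (hme : h8pr D m α = 1 ∨ h8pr D m α = 2 ∨ h8pr D m α = 3)
    (hK2 : ∀ e : ℕ, 1 ≤ e → e ≤ 3 → ∃ c : K, c ≠ 0 ∧ c ^ e ≠ 1)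
    (a b : K) (x y : E) (hx : ρ x = X α a) (hy : ρ y = X δ b) : x * y = y * x := by
  have hex : ∃ c : K, c ≠ 0 ∧ c ^ (h8pr D m α) ≠ 1 := by
    rcases hme with he | he | he
    · obtain ⟨c, hc, hc'⟩ := hK2 1 le_rfl (by norm_num)
      exact ⟨c, hc, by rw [he]; simpa using hc'⟩
    · obtain ⟨c, hc, hc'⟩ := hK2 2 (by norm_num) (by norm_num)
      refine ⟨c, hc, ?_⟩
      rw [he]
      exact_mod_cast hc'
    · obtain ⟨c, hc, hc'⟩ := hK2 3 (by norm_num) le_rfl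
      refine ⟨c, hc, ?_⟩
      rw [he]
      exact_mod_cast hc'
  obtain ⟨c, hc, hce⟩ := hex
  have hcomm : ∀ t u : K, X α t * X δ u = X δ u * X α t := by
    intro t u
    have := hP.sys.comm α hα δ hδ h1 h2 t u
    unfold ChevalleyDatum.commWord at this
    rw [hct, List.map_nil, h8wX_nil, mul_one] at this
    exact this.symm
  refine h8uc_comm_pair h hP.sys α δ hα hcomm (h8ucK D X m c) (c ^ (h8pr D m α)) hce ?_ ?_
    a b x y hx hy
  · intro t
    exact h8ucK_act hP hL hWS hN2 hsc m c hc α hα t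
  · intro t
    have := h8ucK_act hP hL hWS hN2 hsc m c hc δ hδ t
    rw [hm0, zpow_zero, one_mul] at this
    exact this

/-- the configuration argument: `X α` occurs as the second term of the commutator formula of
`β`, `γ` and commutes with `β`, `γ` and the first term `q` -/
theorem h8uc_self_of_cfg (h : H8CE ρ) (α β γ q : ℕ) (ε₁ ε₂ : ℤ) (i₁ j₁ i₂ j₂ : ℕ)
    (hα : α < D.nroots) (hβ : β < D.nroots) (hγ : γ < D.nroots) (hq : q < D.nroots)
    (hγβ : γ ≠ β) (hγβ' : γ ≠ D.negIdx.getD β 0)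
    (hct : D.commTerms β γ = [(q, ε₁, i₁, j₁), (α, ε₂, i₂, j₂)])
    (hsurj : ∀ v : K, ∃ t u : K, (ε₂ : K) * (-t) ^ i₂ * u ^ j₂ = v)
    (hne : β ≠ α ∧ β ≠ D.negIdx.getD α 0 ∧ γ ≠ α ∧ γ ≠ D.negIdx.getD α 0 ∧ q ≠ α ∧
      q ≠ D.negIdx.getD α 0)
    (hcts : D.commTerms α β = [] ∧ D.commTerms α γ = [] ∧ D.commTerms α q = [])
    (hpm : ∀ δ, δ = β ∨ δ = γ ∨ δ = q → h8prL D (h8ucPM D α δ) δ = 0 ∧
      (h8prL D (h8ucPM D α δ) α = 1 ∨ h8prL D (h8ucPM D α δ) α = 2 ∨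
        h8prL D (h8ucPM D α δ) α = 3))
    (hK2 : ∀ e : ℕ, 1 ≤ e → e ≤ 3 → ∃ c : K, c ≠ 0 ∧ c ^ e ≠ 1)
    (a b : K) (x y : E) (hx : ρ x = X α a) (hy : ρ y = X α b) : x * y = y * x := by
  have hpair : ∀ δ, δ < D.nroots → δ ≠ α → δ ≠ D.negIdx.getD α 0 → D.commTerms α δ = [] →
      (δ = β ∨ δ = γ ∨ δ = q) →
      ∀ (a b : K) (x y : E), ρ x = X α a → ρ y = X δ b → x * y = y * x := by
    intro δ hδ h1 h2 hc hδ' a b x y hx hy
    obtain ⟨e0, e1⟩ := hpm δ hδ'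
    rw [← h8pr_eq] at e0 e1
    exact h8uc_comm_pair_tor hP hL hWS hN2 hsc h α δ hα hδ h1 h2 hc (h8ucPM D α δ) e0 e1 hK2
      a b x y hx hy
  refine h8uc_self_comm_cfg h α β γ q (fun t u => (ε₁ : K) * (-t) ^ i₁ * u ^ j₁)
    (fun t u => (ε₂ : K) * (-t) ^ i₂ * u ^ j₂) ?_ hsurj
    (hpair β hβ hne.1 hne.2.1 hcts.1 (Or.inl rfl))
    (hpair γ hγ hne.2.2.1 hne.2.2.2.1 hcts.2.1 (Or.inr (Or.inl rfl)))
    (hpair q hq hne.2.2.2.2.1 hne.2.2.2.2.2 hcts.2.2 (Or.inr (Or.inr rfl))) a b x y hx hy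
  intro t u
  have := hP.sys.comm β hβ γ hγ hγβ hγβ' t u
  unfold ChevalleyDatum.commWord at this
  rw [hct] at this
  rw [this]
  simp only [List.map_cons, List.map_nil, h8wX_cons, h8wX_nil, mul_one]

end

theorem h8b2_ct : chevB2.commTerms 5 4 = [(6, -1, 1, 1), (7, -1, 2, 1)] ∧
    chevB2.commTerms 2 7 = [(6, 1, 1, 1), (4, -1, 2, 1)] ∧
    chevB2.commTerms 0 5 = [(1, 1, 1, 1), (3, -1, 1, 2)] ∧
    chevB2.commTerms 1 4 = [(2, 1, 1, 1), (0, 1, 2, 1)] := by decide +kernel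

theorem h8b2_ct0 : (chevB2.commTerms 7 5 = [] ∧ chevB2.commTerms 7 4 = [] ∧
      chevB2.commTerms 7 6 = []) ∧
    (chevB2.commTerms 4 2 = [] ∧ chevB2.commTerms 4 7 = [] ∧ chevB2.commTerms 4 6 = []) ∧
    (chevB2.commTerms 3 0 = [] ∧ chevB2.commTerms 3 5 = [] ∧ chevB2.commTerms 3 1 = []) ∧
    (chevB2.commTerms 0 1 = [] ∧ chevB2.commTerms 0 4 = [] ∧ chevB2.commTerms 0 2 = []) := by
  decide +kernel

/-- the pairing facts for the configuration `(α; β, γ, q)` -/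
def h8b2PmChk (α β γ q : ℕ) : Bool :=
  [β, γ, q].all fun δ => decide (h8prL chevB2 (h8ucPM chevB2 α δ) δ = 0) &&
    decide (h8prL chevB2 (h8ucPM chevB2 α δ) α = 2)

theorem h8b2PmChk_spec (α β γ q : ℕ) (h : h8b2PmChk α β γ q = true) :
    ∀ δ, δ = β ∨ δ = γ ∨ δ = q → h8prL chevB2 (h8ucPM chevB2 α δ) δ = 0 ∧
      (h8prL chevB2 (h8ucPM chevB2 α δ) α = 1 ∨ h8prL chevB2 (h8ucPM chevB2 α δ) α = 2 ∨
        h8prL chevB2 (h8ucPM chevB2 α δ) α = 3) := by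
  intro δ hδ
  unfold h8b2PmChk at h
  rw [List.all_eq_true] at h
  have := h δ (by rcases hδ with rfl | rfl | rfl <;> simp)
  rw [Bool.and_eq_true, decide_eq_true_eq, decide_eq_true_eq] at this
  exact ⟨this.1, Or.inr (Or.inl this.2)⟩

theorem h8b2PmChk_all : h8b2PmChk 7 5 4 6 = true ∧ h8b2PmChk 4 2 7 6 = true ∧
    h8b2PmChk 3 0 5 1 = true ∧ h8b2PmChk 0 1 4 2 = true := by decide +kernel

theorem h8b2_neg : chevB2.negIdx = #[7, 6, 5, 4, 3, 2, 1, 0] := by decide +kernel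

theorem h8b2_short : h8prL chevB2 (h8ucM chevB2 1) 1 = 1 ∧ h8prL chevB2 (h8ucM chevB2 2) 2 = 1 ∧
    h8prL chevB2 (h8ucM chevB2 5) 5 = 1 ∧ h8prL chevB2 (h8ucM chevB2 6) 6 = 1 := by
  decide +kernel

/-- lifts of elements of one root subgroup commute: type `B₂` -/
theorem h8b2_self {hB : H8Base.{u} chevB2} {π : Γ →* GL chevB2.Idx K} {X : ℕ → K → Γ}
    (hP : H8Pair chevB2 hB X π 1)
    (hL : H8All chevB2) (hWS : H8W0S chevB2) (hN2 : H8N2 chevB2) (hsc : h8scChk chevB2 = true)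
    (h : H8CE ρ)
    (hK1 : ∃ χ χ' : K, χ ≠ 0 ∧ χ' ≠ 0 ∧ χ + χ' = 1 ∧ χ * χ' ≠ 1)
    (hK2 : ∀ e : ℕ, 1 ≤ e → e ≤ 3 → ∃ c : K, c ≠ 0 ∧ c ^ e ≠ 1)
    (r : ℕ) (hr : r < chevB2.nroots) (a b : K) (x y : E) (hx : ρ x = X r a) (hy : ρ y = X r b) :
    x * y = y * x := by
  have hn : chevB2.nroots = 8 := rfl
  rw [hn] at hr
  obtain ⟨c1, c2, c3, c4⟩ := h8b2_ct
  obtain ⟨z1, z2, z3, z4⟩ := h8b2_ct0
  obtain ⟨p1, p2, p3, p4⟩ := h8b2PmChk_all
  obtain ⟨s1, s2, s5, s6⟩ := h8b2_short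
  have hng : ∀ i, chevB2.negIdx.getD i 0 = (#[7, 6, 5, 4, 3, 2, 1, 0] : Array ℕ).getD i 0 := by
    intro i; rw [h8b2_neg]
  interval_cases r
  · -- long root 0: configuration (0; 1, 4; 2)
    refine h8uc_self_of_cfg hP hL hWS hN2 hsc h 0 1 4 2 1 1 1 1 2 1 (by decide) (by decide)
      (by decide) (by decide) (by decide) (by rw [hng]; decide) c4 ?_ ?_ z4
      (h8b2PmChk_spec _ _ _ _ p4) hK2 a b x y hx hy
    · intro v
      refine ⟨1, v, ?_⟩
      push_cast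
      ring
    · simp only [hng]
      decide
  · exact h8uc_self_of_M hP hL hWS hN2 hsc h 1 (by decide) _ (by rw [h8pr_eq]; exact s1) hK1
      a b x y hx hy
  · exact h8uc_self_of_M hP hL hWS hN2 hsc h 2 (by decide) _ (by rw [h8pr_eq]; exact s2) hK1
      a b x y hx hy
  · -- long root 3: configuration (3; 0, 5; 1)
    refine h8uc_self_of_cfg hP hL hWS hN2 hsc h 3 0 5 1 1 (-1) 1 1 1 2 (by decide) (by decide)
      (by decide) (by decide) (by decide) (by rw [hng]; decide) c3 ?_ ?_ z3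
      (h8b2PmChk_spec _ _ _ _ p3) hK2 a b x y hx hy
    · intro v
      refine ⟨v, 1, ?_⟩
      push_cast
      ring
    · simp only [hng]
      decide
  · -- long root 4: configuration (4; 2, 7; 6)
    refine h8uc_self_of_cfg hP hL hWS hN2 hsc h 4 2 7 6 1 (-1) 1 1 2 1 (by decide) (by decide)
      (by decide) (by decide) (by decide) (by rw [hng]; decide) c2 ?_ ?_ z2
      (h8b2PmChk_spec _ _ _ _ p2) hK2 a b x y hx hy
    · intro v
      refine ⟨1, -v, ?_⟩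
      push_cast
      ring
    · simp only [hng]
      decide
  · exact h8uc_self_of_M hP hL hWS hN2 hsc h 5 (by decide) _ (by rw [h8pr_eq]; exact s5) hK1
      a b x y hx hy
  · exact h8uc_self_of_M hP hL hWS hN2 hsc h 6 (by decide) _ (by rw [h8pr_eq]; exact s6) hK1
      a b x y hx hy
  · -- long root 7: configuration (7; 5, 4; 6)
    refine h8uc_self_of_cfg hP hL hWS hN2 hsc h 7 5 4 6 (-1) (-1) 1 1 2 1 (by decide) (by decide)
      (by decide) (by decide) (by decide) (by rw [hng]; decide) c1 ?_ ?_ z1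
      (h8b2PmChk_spec _ _ _ _ p1) hK2 a b x y hx hy
    · intro v
      refine ⟨1, -v, ?_⟩
      push_cast
      ring
    · simp only [hng]
      decide

/-- Steinberg's theorem for type `B₂` -/
theorem h8uc_split_B2 (hK5 : ∃ s : Finset K, 4 < s.card)
    {ρ : E →* chevB2.SteinbergCover K} (h : H8CE ρ) :
    ∃ τ : chevB2.SteinbergCover K →* E, ρ.comp τ = MonoidHom.id _ := by
  have hD : chevB2 ∈ [chevG2, chevB2, chevD4, chevF4, chevE6, chevE7, chevE8] := by simp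
  have hB := h8base_all.{u} chevB2 hD
  have hC := h8commAll.{u} chevB2 hD
  have hL := h8all_all chevB2 hD
  have hperf : commutator (chevB2.SteinbergCover K) = ⊤ := by
    apply h8sc_perfect_all chevB2 hD
    intro _
    obtain ⟨c, hc0, hc1⟩ := h8field_K2 hK5 1 le_rfl (by norm_num)
    exact ⟨c, hc0, by simpa using hc1⟩
  have hK2 : ∀ e : ℕ, 1 ≤ e → e ≤ 3 → ∃ c : K, c ≠ 0 ∧ c ^ e ≠ 1 :=
    fun e he1 he3 => h8field_K2 hK5 e he1 he3
  have hP := h8sc_pair (K := K) chevB2 hB hC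
  obtain ⟨Y, hS, hρ, hY0⟩ := h8uc_sys_main2 hP hL (h8w0s_all chevB2 hD)
    (h8n2_all chevB2 hD) (h8sc_gen chevB2) hperf (h8scChk_all chevB2 hD)
    (h8ord3_of_chk chevB2 hB hL h8ord3Chk_B2)
    (fun r hr t => h8scGen_oob chevB2 r hr t) h (h8ucM2 chevB2)
    (fun r hr => h8ucM2_spec chevB2 h8ucM2Chk_B2 r hr)
    (fun γ δ hγ hδ hγδ => h8ucPM_spec chevB2 hB hL h8ucPMChk_B2 γ δ hγ hδ hγδ)
    (fun r hr a b x y hx hy => h8b2_self hP hL (h8w0s_all chevB2 hD) (h8n2_all chevB2 hD)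
      (h8scChk_all chevB2 hD) h (h8field_K1 hK5) hK2 r hr a b x y hx hy)
    hK2
  refine ⟨h8ucSigma chevB2 Y hS hY0, ?_⟩
  apply PresentedGroup.ext
  intro p
  rw [MonoidHom.comp_apply, MonoidHom.id_apply]
  have e1 : (PresentedGroup.of p : chevB2.SteinbergCover K) = chevB2.scGen K p.1.val p.2 := by
    unfold ChevalleyDatum.scGen ChevalleyDatum.stX
    rw [dif_pos p.1.2]
    rfl
  rw [e1, h8ucSigma_gen, hρ]

end Cfsg.Agent.Lib.helper8
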