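import Mathlib
import Cfsg.Prelude.Def_SteinbergCover
import Cfsg.Agent.Lib.helper8.ChevUC12
import Cfsg.Agent.Lib.helper8.ChevUC14
import Cfsg.Agent.Lib.helper8.ChevUC15
import Cfsg.Agent.Lib.helper8.ChevUC16
import Cfsg.Agent.Lib.helper8.ChevUC18

set_option autoImplicit false
set_option linter.unusedSectionVars false

namespace Cfsg.Agent.Lib.helper8

open Cfsg.Lie Cfsg.Lie.ChevalleyDatum

universe u v w

variable {K : Type u} [Field K]

/-- Steinberg's theorem: over a field with more than four elements every central extension of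
the group presented by (R1), (R2) splits -/
theorem h8uc_split_all {E : Type w} [Group E] (D : ChevalleyDatum)
    (hD : D ∈ [chevG2, chevB2, chevD4, chevF4, chevE6, chevE7, chevE8])
    (hK5 : ∃ s : Finset K, 4 < s.card)
    {ρ : E →* D.SteinbergCover K} (h : H8CE ρ) :
    ∃ τ : D.SteinbergCover K →* E, ρ.comp τ = MonoidHom.id _ := by
  have hD' := hD
  simp only [List.mem_cons, List.not_mem_nil, or_false] at hD
  rcases hD with rfl | rfl | rfl | rfl | rfl | rfl | rfl
  · exact h8uc_split chevG2 hD' hK5 h8ord3Chk_G2 h8ucMChk_G2 h8ucPMChk_G2 h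
  · exact h8uc_split_B2 hK5 h
  · exact h8uc_split chevD4 hD' hK5 h8ord3Chk_D4 h8ucMChk_D4 h8ucPMChk_D4 h
  · exact h8uc_split chevF4 hD' hK5 h8ord3Chk_F4 h8ucMChk_F4 h8ucPMChk_F4 h
  · exact h8uc_split chevE6 hD' hK5 h8ord3Chk_E6 h8ucMChk_E6 h8ucPMChk_E6 h
  · exact h8uc_split chevE7 hD' hK5 h8ord3Chk_E7 h8ucMChk_E7 h8ucPMChk_E7 h
  · exact h8uc_split chevE8 hD' hK5 h8ord3Chk_E8 h8ucMChk_E8 h8ucPMChk_E8 h

/-- a perfect group all of whose central extensions split is universal -/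
theorem h8universal_of_split {Δ : Type u} {G₁ : Type v} {E : Type w} [Group Δ] [Group G₁]
    [Group E] (hperf : commutator Δ = ⊤)
    (hsplit : ∀ (P : Type (max u w)) [Group P] (ρ : P →* Δ), H8CE ρ →
      ∃ τ : Δ →* P, ρ.comp τ = MonoidHom.id _)
    (π₁ : E →* G₁) (hπ : Function.Surjective π₁) (hc : π₁.ker ≤ Subgroup.center E)
    (σ : Δ →* G₁) : ∃! τ : Δ →* E, π₁.comp τ = σ := by
  have hCE1 : H8CE π₁ := by
    refine ⟨hπ, ?_⟩
    intro z hz g
    exact ((Subgroup.mem_center_iff.mp (hc (MonoidHom.mem_ker.mpr hz))) g).symm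
  -- the pullback
  let P : Subgroup (Δ × E) :=
    MonoidHom.eqLocus (σ.comp (MonoidHom.fst _ _)) (π₁.comp (MonoidHom.snd _ _))
  have hPmem : ∀ p : Δ × E, p ∈ P ↔ σ p.1 = π₁ p.2 := fun p => Iff.rfl
  let ρ : ↥P →* Δ := (MonoidHom.fst _ _).comp P.subtype
  have hρ : H8CE ρ := by
    constructor
    · intro d
      obtain ⟨e, he⟩ := hπ (σ d)
      exact ⟨⟨(d, e), (hPmem _).mpr he.symm⟩, rfl⟩
    · rintro ⟨⟨d, e⟩, hde⟩ hz ⟨⟨d', e'⟩, hde'⟩
      have hd : d = 1 := hz
      subst hd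
      have he : π₁ e = 1 := by
        have := (hPmem _).mp hde
        rw [← this]
        exact map_one σ
      have hcomm := hCE1.central e he e'
      apply Subtype.ext
      show ((1 : Δ), e) * (d', e') = (d', e') * ((1 : Δ), e)
      rw [Prod.mk_mul_mk, Prod.mk_mul_mk, one_mul, mul_one, hcomm]
  obtain ⟨s, hs⟩ := hsplit ↥P ρ hρ
  have hs' : ∀ d, ((s d : Δ × E)).1 = d := fun d => by
    have := congrArg (fun f => f d) hs
    exact this
  set τ₀ : Δ →* E := (MonoidHom.snd _ _).comp (P.subtype.comp s) with hτ₀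
  have hτ₀' : ∀ d, π₁ (τ₀ d) = σ d := by
    intro d
    show π₁ ((s d : Δ × E)).2 = σ d
    have := (hPmem _).mp (s d).2
    rw [← this, hs']
  refine ⟨τ₀, MonoidHom.ext hτ₀', ?_⟩
  intro τ' hτ'
  have hτ'' : ∀ d, π₁ (τ' d) = σ d := fun d => by
    have := congrArg (fun f => f d) hτ'
    exact this
  have hle : commutator Δ ≤ MonoidHom.eqLocus τ' τ₀ := by
    rw [commutator_def, Subgroup.commutator_le]
    intro a _ b _
    change τ' _ = τ₀ _
    rw [commutatorElement_def, map_mul, map_mul, map_mul, map_inv, map_inv, map_mul, map_mul,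
      map_mul, map_inv, map_inv]
    apply hCE1.comm_eq
    · rw [hτ'', hτ₀']
    · rw [hτ'', hτ₀']
  rw [hperf] at hle
  exact MonoidHom.ext fun d => hle (Subgroup.mem_top d)

/-- universality of the group presented by (R1), (R2) -/
theorem h8uc_universal {G₁ : Type v} {E : Type w} [Group G₁] [Group E] (D : ChevalleyDatum)
    (hD : D ∈ [chevG2, chevB2, chevD4, chevF4, chevE6, chevE7, chevE8])
    (hK5 : ∃ s : Finset K, 4 < s.card)
    (π₁ : E →* G₁) (hπ : Function.Surjective π₁) (hc : π₁.ker ≤ Subgroup.center E)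
    (σ : D.SteinbergCover K →* G₁) : ∃! τ : D.SteinbergCover K →* E, π₁.comp τ = σ := by
  have hperf : commutator (D.SteinbergCover K) = ⊤ := by
    apply h8sc_perfect_all D hD
    intro _
    obtain ⟨c, hc0, hc1⟩ := h8field_K2 hK5 1 le_rfl (by norm_num)
    exact ⟨c, hc0, by simpa using hc1⟩
  exact h8universal_of_split hperf (fun P _ ρ hρ => h8uc_split_all D hD hK5 hρ) π₁ hπ hc σ

end Cfsg.Agent.Lib.helper8
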