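import Cfsg.Agent.Lib.Helper9.UT.Defs
import Cfsg.Agent.Lib.Helper13.UTMONO

/-!
# Project UT (S5655, leader helper9), row RC1 : without `C0` there is a reflection centre of weight `≥ 2`
-/

set_option autoImplicit false
set_option linter.unusedSectionVars false

open Cfsg

namespace Cfsg.Agent.Lib.Helper9.UT

open Matrix Cfsg.Agent.Lib.Helper29.ExtrL

variable {n q : ℕ} {F : Type*} [Field F] [Fintype F] {σ : F ≃+* F}
  {M : Subgroup (Matrix.GeneralLinearGroup (Fin n) F)}

theorem utrc1_col (G : Matrix (Fin n) (Fin n) F) (i l : Fin n) :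
    (G *ᵥ Pi.single i (1 : F)) l = G l i := by
  rw [Matrix.mulVec_single_one]
  rfl

theorem utrc1_herm_ee (S : UF n q σ) (i j : Fin n) :
    Cfsg.hermForm n F q (Pi.single i (1 : F)) (Pi.single j (1 : F)) = if i = j then 1 else 0 := by
  rw [herm_single_right S, map_one, mul_one]
  by_cases h : i = j
  · subst h
    rw [Pi.single_eq_same, if_pos rfl]
  · rw [if_neg h, Pi.single_eq_of_ne (Ne.symm h)]

/-- RC1 core : an element `g ∈ M` with `g e_a = c e_k` gives the reflection centres `g e_i`, `i ≠ a`. -/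
theorem utrc1_core (S : UTS n q σ M) {g : Matrix.GeneralLinearGroup (Fin n) F} (hgM : g ∈ M) {a k : Fin n}
    (hcol : ColAt (g : Matrix (Fin n) (Fin n) F) a k) {i : Fin n} (hia : i ≠ a) :
    RC n q σ M k ((g : Matrix (Fin n) (Fin n) F) *ᵥ Pi.single i (1 : F)) := by
  classical
  have hUF : UF n q σ := S.toUF
  have hiso := iso_of_mem S hgM
  set G : Matrix (Fin n) (Fin n) F := (g : Matrix (Fin n) (Fin n) F) with hG
  set c : F := G k a with hcdef
  have hga : G *ᵥ Pi.single a (1 : F) = Pi.single k c := by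
    funext l
    rw [utrc1_col]
    by_cases hl : l = k
    · subst hl
      rw [Pi.single_eq_same]
    · rw [Pi.single_eq_of_ne hl]
      exact hcol l hl
  have hc : c * σ c = 1 := by
    have h1 := hiso (Pi.single a (1 : F)) (Pi.single a (1 : F))
    rw [hga, utrc1_herm_ee hUF, if_pos rfl, herm_single_left hUF, Pi.single_eq_same] at h1
    exact h1
  have hc0 : c ≠ 0 := by
    intro h0
    rw [h0, zero_mul] at hc
    exact zero_ne_one hc
  have hσc0 : σ c ≠ 0 := by
    intro h0
    rw [h0, mul_zero] at hc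
    exact zero_ne_one hc
  set y : Fin n → F := G *ᵥ Pi.single i (1 : F) with hy
  refine ⟨?_, ?_, ?_⟩
  · rw [hiso, utrc1_herm_ee hUF, if_pos rfl]
  · have h1 := hiso (Pi.single i (1 : F)) (Pi.single a (1 : F))
    rw [hga, utrc1_herm_ee hUF, if_neg hia, herm_single_right hUF] at h1
    exact (mul_eq_zero.mp h1).resolve_right hσc0
  · intro x hx
    have hx0 : x ≠ 0 := by
      intro h0
      rw [h0, zero_mul] at hx
      exact zero_ne_one hx
    set u : Fˣ := Units.mk0 x hx0 with hu
    have hTS : Tij i a u ∈ SUg n F q := tij_mem hUF hia u (by simpa [hu] using hx)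
    have hTM : Tij i a u ∈ M := S.hN _ hTS (isMono_dg _)
    refine ⟨g * Tij i a u * g⁻¹, M.mul_mem (M.mul_mem hgM hTM) (M.inv_mem hgM), fun v => ?_⟩
    set w : Fin n → F := ((g⁻¹ : Matrix.GeneralLinearGroup (Fin n) F) : Matrix (Fin n) (Fin n) F) *ᵥ v with hw
    have hGw : G *ᵥ w = v := by
      rw [hw, Matrix.mulVec_mulVec, ← Units.val_mul, mul_inv_cancel, Units.val_one, Matrix.one_mulVec]
    have hwi : w i = Cfsg.hermForm n F q v y := by
      have h1 := hiso w (Pi.single i (1 : F))
      rw [hGw, herm_single_right hUF, map_one, mul_one] at h1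
      exact h1.symm
    have hwa : w a = v k * σ c := by
      have h1 := hiso w (Pi.single a (1 : F))
      rw [hGw, hga, herm_single_right hUF, herm_single_right hUF, map_one, mul_one] at h1
      exact h1.symm
    have hT : ((Tij i a u : Matrix.GeneralLinearGroup (Fin n) F) : Matrix (Fin n) (Fin n) F) *ᵥ w =
        w + ((x - 1) * w i) • Pi.single i (1 : F) + ((x⁻¹ - 1) * w a) • Pi.single a (1 : F) := by
      rw [tij_mulVec]
      funext l
      simp only [Pi.add_apply, Pi.smul_apply, smul_eq_mul]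
      by_cases hli : l = i
      · subst hli
        rw [if_pos rfl, Pi.single_eq_same, Pi.single_eq_of_ne hia, hu, Units.val_mk0]
        ring
      · by_cases hla : l = a
        · subst hla
          rw [if_neg hli, if_pos rfl, Pi.single_eq_same, Pi.single_eq_of_ne hli, hu, Units.val_inv_eq_inv_val,
            Units.val_mk0]
          ring
        · rw [if_neg hli, if_neg hla, Pi.single_eq_of_ne hli, Pi.single_eq_of_ne hla, Units.val_one]
          ring
    rw [Units.val_mul, Units.val_mul, ← Matrix.mulVec_mulVec, ← Matrix.mulVec_mulVec, ← hw, hT,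
      Matrix.mulVec_add, Matrix.mulVec_add, Matrix.mulVec_smul, Matrix.mulVec_smul, hGw, hga, ← hy, hwi, hwa]
    congr 1
    funext l
    simp only [Pi.smul_apply, smul_eq_mul]
    by_cases hl : l = k
    · subst hl
      rw [Pi.single_eq_same, Pi.single_eq_same]
      have : (x⁻¹ - 1) * (v l * σ c) * c = (x⁻¹ - 1) * v l * (c * σ c) := by ring
      rw [this, hc]
    · rw [Pi.single_eq_of_ne hl, Pi.single_eq_of_ne hl, mul_zero, mul_zero]

/-- RC1. `¬ C0` gives a reflection centre with two non-zero coordinates. -/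
theorem rc_of_notC0 (S : UTS n q σ M) (hC0 : ¬ C0 M) :
    ∃ (k : Fin n) (y : Fin n → F), RC n q σ M k y ∧ ∃ l l' : Fin n, l ≠ l' ∧ y l ≠ 0 ∧ y l' ≠ 0 := by
  classical
  unfold C0 at hC0
  push Not at hC0
  obtain ⟨g, hgM, ⟨a, k, hcol⟩, hnm⟩ := hC0
  by_contra hcon
  push Not at hcon
  apply hnm
  intro b
  by_cases hba : b = a
  · subst hba
    exact ⟨k, hcol⟩
  · have h1 := hcon k _ (utrc1_core S hgM hcol hba)
    by_cases hex : ∃ l, (g : Matrix (Fin n) (Fin n) F) l b ≠ 0
    · obtain ⟨l, hl⟩ := hex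
      refine ⟨l, fun j hj => ?_⟩
      have := h1 l j (Ne.symm hj) (by rw [utrc1_col]; exact hl)
      rwa [utrc1_col] at this
    · push Not at hex
      exact ⟨k, fun j _ => hex j⟩

end Cfsg.Agent.Lib.Helper9.UT
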