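import Mathlib
import Cfsg.Agent.Lib.helper3.S5953.Defs2
import Cfsg.Prelude.Def_LieClassical
import Cfsg.Agent.Lib.Helper27.S5953T5
import Cfsg.Agent.Lib.Helper11.S5953T9core
import Cfsg.Agent.Lib.helper8.S5953T3

set_option autoImplicit false

/-!
# Project S5953 (designer helper3), row N1 (`nec_dim`, NECDIM), helper8

The dimension of a totally isotropic invariant subspace `W` of an isometry `y` with `y ^ r = 1`, `r ≠ p`:
`W = (W ⊓ fixS y) ⊕ (W ⊓ cycS r y)` (helper24 `el_split_W`), the second summand has dimension divisible by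
`ord_r(|F|)` (helper24 `el_dvd_dim`), the first is a t.i. subspace of the non-degenerate `fixS y` (T5 `split`),
so has at most half its dimension (T9 core + T3 `perp_dim`).
-/

namespace Cfsg.Agent.Lib.helper3.S5953

open Polynomial Module

/-- N1 [M] NECDIM: the dimension of a t.i. invariant subspace (T5, T9, helper24 `el_dvd_dim`). -/
theorem nec_dim {F : Type*} [Field F] [Fintype F] {p : ℕ} [Fact p.Prime] [CharP F p] {q n : ℕ}
    (hF : Fintype.card F = q ^ 2) {r : ℕ} [Fact r.Prime] (hrp : r ≠ p)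
    {y : Module.End F (Fin n → F)} (h : HCtx q r 1 y)
    (W : Submodule F (Fin n → F)) (hW : HInv y W) (hWti : HTI q W) :
    ∃ w1 s : ℕ, finrank F W = w1 + s * orderOf ((Fintype.card F : ℕ) : ZMod r) ∧
      2 * w1 ≤ finrank F (fixS y) := by
  set i := orderOf ((Fintype.card F : ℕ) : ZMod r) with hi
  have hipos : 0 < i := Cfsg.Agent.Lib.Helper24.el_ord_pos (F := F) (p := p) r hrp
  have hQ0 : cyclotomic r F ≠ 0 := cyclotomic_ne_zero r F
  have hdeg : ∀ P : F[X], Irreducible P → P ∣ cyclotomic r F → P.natDegree = i :=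
    fun P hP hPd => Cfsg.Agent.Lib.Helper24.el_cyc_deg (F := F) (p := p) r hrp P hP hPd
  have hcop : IsCoprime (X - 1 : F[X]) (cyclotomic r F) :=
    Cfsg.Agent.Lib.Helper24.el_cyc_coprime (F := F) (p := p) r hrp
  have hpow : y ^ r = 1 := by
    have := h.pow
    rwa [one_smul] at this
  have hkill : aeval y ((X - 1) * cyclotomic r F) = 0 :=
    Cfsg.Agent.Lib.Helper24.el_cyc_kill r y hpow
  have hsplit := Cfsg.Agent.Lib.Helper24.el_split_W y (cyclotomic r F) hcop hkill W hW
  -- the cyclotomic part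
  have hW2inv : HInv y (W ⊓ LinearMap.ker (aeval y (cyclotomic r F))) :=
    Cfsg.Agent.Lib.Helper24.el_inv_inf hW (Cfsg.Agent.Lib.Helper24.el_inv_ker y _)
  have hW2kill : ∀ u ∈ W ⊓ LinearMap.ker (aeval y (cyclotomic r F)),
      aeval y (cyclotomic r F) u = 0 := fun u hu => LinearMap.mem_ker.mp hu.2
  obtain ⟨s, hs⟩ := Cfsg.Agent.Lib.Helper24.el_dvd_dim y _ hW2inv (cyclotomic r F) hQ0 hW2kill i
    hipos hdeg
  -- the fixed part
  have hW1le : W ⊓ LinearMap.ker (aeval y (X - 1 : F[X])) ≤ fixS y := inf_le_right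
  have hW1ti : HTI q (W ⊓ LinearMap.ker (aeval y (X - 1 : F[X]))) :=
    fun u hu v hv => hWti u hu.1 v hv.1
  have hfixnd : HND q (fixS y) := (split hF hrp h).2.2.1
  have h2 : 2 * finrank F ↥(W ⊓ LinearMap.ker (aeval y (X - 1 : F[X]))) ≤ finrank F (fixS y) :=
    s5953t9_core (fixS y) _ hW1le hW1ti (perp_dim hF (fixS y) _ hfixnd hW1le)
  refine ⟨finrank F ↥(W ⊓ LinearMap.ker (aeval y (X - 1 : F[X]))), s, ?_, h2⟩
  rw [hsplit, hs, mul_comm]

end Cfsg.Agent.Lib.helper3.S5953
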