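import Mathlib
import Cfsg.Prelude.Def_ChevB2
import Cfsg.Agent.Lib.helper8.ChevTabCoxB2S

set_option autoImplicit false

namespace Cfsg.Agent.Lib.helper8

open Cfsg.Lie

def h8cxT_B2_2 : ℕ := 0x301050007020604040206000701050307050603040102000706050403020100

def h8cxP_B2_2 : ℕ := 0x2010000

def h8cxG_B2_2 : ℕ := 0x1000100

def h8cxC_B2_2 : ℕ := 0x40001000000000000000000000000000600020000000000000000000000000000000400000000000000000000000000020001

def h8cxM_B2_2 : ℕ := 0xd0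

set_option maxRecDepth 100000 in
theorem h8cxRow_B2_2_0 : (List.range' 0 4).all (h8lvRow chevB2 h8cxS_B2 h8cxT_B2_2
    h8cxP_B2_2 h8cxG_B2_2 h8cxC_B2_2 h8cxM_B2_2 2 4) = true := by decide +kernel

theorem h8cxRows_B2_2 : ∀ k < 4, h8lvRow chevB2 h8cxS_B2 h8cxT_B2_2
    h8cxP_B2_2 h8cxG_B2_2 h8cxC_B2_2 h8cxM_B2_2 2 4 k = true := by
  intro k hk
  exact h8rows_of_chunk _ _ _ h8cxRow_B2_2_0 k (by omega) (by omega)

set_option maxRecDepth 100000 in
theorem h8cxMask_B2_2 : h8lvMask chevB2 h8cxS_B2 h8cxM_B2_2 2 = true := by decide +kernel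

set_option maxRecDepth 100000 in
theorem h8cxKeys_B2_2 : h8lvKeys chevB2 h8cxT_B2_2 4 = true := by decide +kernel

set_option maxRecDepth 100000 in
theorem h8cxDense_B2_2 : h8dense ((List.range 4).map (h8invT chevB2.nroots h8cxT_B2_2)) =
    [1, 1, 1, 1] := by decide +kernel

end Cfsg.Agent.Lib.helper8
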