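import Mathlib
import Cfsg.Prelude.Def_ChevB2
import Cfsg.Agent.Lib.helper8.ChevTabCoxB2S
import Cfsg.Agent.Lib.helper8.ChevTabCoxB2L2
import Cfsg.Agent.Lib.helper8.ChevTabCoxB2L1
import Cfsg.Agent.Lib.helper8.ChevBaseAll
import Cfsg.Agent.Lib.helper8.ChevReflAll
import Cfsg.Agent.Lib.helper8.ChevBNAll2
import Cfsg.Agent.Lib.helper8.ChevOrdAll

set_option autoImplicit false

namespace Cfsg.Agent.Lib.helper8

open Cfsg.Lie

def h8cxCs_B2 : List (List ℕ) := [[1, 1], [1, 1, 1, 1]]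

set_option maxRecDepth 100000 in
theorem h8cxPoly_B2 : h8pmulL h8cxCs_B2 = h8pmulL ([2, 4].map h8ones) := by decide +kernel

theorem h8poin_B2 (hA : H8ReflAll chevB2) (q : ℕ) :
    ∑ π ∈ h8Wfin chevB2 hA, q ^ h8Ninv chevB2 π =
      ([2, 4].map fun d => h8pe (h8ones d) q).prod := by
  have hD : chevB2 ∈ [chevG2, chevB2, chevD4, chevF4, chevE6, chevE7, chevE8] := by simp
  have hB := h8base_all.{0} chevB2 hD
  have hBN := h8bn_all chevB2 hD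
  have hW := h8bn2_all chevB2 hD
  have hO2 := (h8ord_all chevB2 hD).2
  rw [h8chain chevB2 hA h8cxCs_B2 rfl q, h8cxPoly_B2, h8pe_pmulL, List.map_map]
  · rfl
  · intro j0 hj0 hj1
    have hr : chevB2.rank = 2 := rfl
    rw [hr] at hj1
    interval_cases j0
    · exact h8level_pe chevB2 hB hA hBN hW hO2 h8cxS_B2 h8cxSchk_B2 (by decide)
        h8cxT_B2_1 h8cxP_B2_1 h8cxG_B2_1 h8cxC_B2_1 h8cxM_B2_1 1 2 (by decide) (by decide)
        h8cxRows_B2_1 h8cxMask_B2_1 h8cxKeys_B2_1 _ h8cxDense_B2_1 q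
    · exact h8level_pe chevB2 hB hA hBN hW hO2 h8cxS_B2 h8cxSchk_B2 (by decide)
        h8cxT_B2_2 h8cxP_B2_2 h8cxG_B2_2 h8cxC_B2_2 h8cxM_B2_2 2 4 (by decide) (by decide)
        h8cxRows_B2_2 h8cxMask_B2_2 h8cxKeys_B2_2 _ h8cxDense_B2_2 q

end Cfsg.Agent.Lib.helper8
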