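import Mathlib
import Cfsg.Prelude.Def_ChevStructure
import Cfsg.Prelude.Def_ChevB2
import Cfsg.Agent.Lib.helper8.ChevFix1
import Cfsg.Agent.Lib.helper8.ChevPerf
import Cfsg.Agent.Lib.helper8.ChevBaseAll
import Cfsg.Agent.S1060

set_option autoImplicit false

namespace Cfsg.Agent.Lib.helper8

open Cfsg.Lie Cfsg.Lie.ChevalleyDatum

universe u v

/-- isomorphic fields give isomorphic Chevalley groups -/
theorem h8group_ringEquiv {K : Type v} {F : Type u} [Field K] [Field F] (D : ChevalleyDatum)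
    (hBK : H8Base.{v} D) (hBF : H8Base.{u} D) (e : K ≃+* F) :
    Nonempty (↥(D.group K) ≃* ↥(D.group F)) := by
  let φ : ↥(D.group K) →* ↥(D.group F) :=
    ((h8Psi D (e : K →+* F)).comp (D.group K).subtype).codRestrict (D.group F)
      (fun g => h8Psi_group_le D hBK hBF (e : K →+* F) ⟨g.val, g.2, rfl⟩)
  let ψ : ↥(D.group F) →* ↥(D.group K) :=
    ((h8Psi D (e.symm : F →+* K)).comp (D.group F).subtype).codRestrict (D.group K)
      (fun g => h8Psi_group_le D hBF hBK (e.symm : F →+* K) ⟨g.val, g.2, rfl⟩)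
  refine ⟨MonoidHom.toMulEquiv φ ψ ?_ ?_⟩
  · apply MonoidHom.ext
    intro g
    apply Subtype.ext
    apply Units.ext
    show ((g.val : Matrix D.Idx D.Idx K).map (e : K →+* F)).map (e.symm : F →+* K) = _
    ext i j
    simp
  · apply MonoidHom.ext
    intro g
    apply Subtype.ext
    apply Units.ext
    show ((g.val : Matrix D.Idx D.Idx F).map (e.symm : F →+* K)).map (e : K →+* F) = _
    ext i j
    simp

/-- six row vectors permuted by `B₂(2)` -/
def h8b2T : List (List ℕ) := [[0, 1, 0, 0, 0, 1, 1, 0, 0, 0], [0, 1, 0, 0, 0, 1, 1, 0, 0, 1],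
  [0, 1, 1, 0, 0, 0, 0, 0, 0, 1], [0, 1, 1, 0, 0, 0, 1, 0, 0, 1], [0, 1, 1, 0, 0, 1, 0, 0, 0, 1],
  [0, 1, 1, 0, 0, 1, 1, 0, 0, 0]]

def h8b2L (i : Fin 6) : chevB2.Idx → ZMod 2 := fun x =>
  (((h8b2T.getD i.val []).getD (Sum.elim (fun j => j.val) (fun s => chevB2.rank + s.val) x) 0 : ℕ) :
    ZMod 2)

theorem h8b2L_inj : Function.Injective h8b2L := by decide +kernel

theorem h8b2_gen : ∀ r : Fin chevB2.nroots, ∀ t : ZMod 2, ∀ i : Fin 6, ∃ j : Fin 6,
    Matrix.vecMul (h8b2L i) (chevB2.xMat (ZMod 2) r t) = h8b2L j := by decide +kernel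

/-- the words giving the transpositions of adjacent points -/
def h8b2W (k : Fin 5) : List (ℕ × ZMod 2) :=
  ([[(0, 1)], [(3, 1), (2, 1), (7, 1), (2, 1), (3, 1)], [(3, 1)], [(3, 1), (4, 1), (3, 1)],
    [(0, 1), (1, 1), (3, 1)]] : List (List (ℕ × ZMod 2))).getD k.val []

theorem h8b2_swap : ∀ k : Fin 5, ∀ i : Fin 6,
    Matrix.vecMul (h8b2L i) (chevB2.wordMat (ZMod 2) (h8b2W k)) =
      h8b2L (Equiv.swap k.castSucc k.succ i) := by decide +kernel

end Cfsg.Agent.Lib.helper8
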