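import Mathlib
import Cfsg.Agent.Lib.Helper1.ODN.Defs
import Cfsg.Agent.Lib.Helper24.S5972SPLIT
import Cfsg.Agent.Lib.Helper20.ODNEXND
import Cfsg.Agent.Lib.Helper1.ODNEXCLS

set_option autoImplicit false

/-!
# Project ODN (designer helper1), row INVOLABS (`odn_invol_abs`), helper8

An isometry `x` with `x ^ 2 = 1` (`p ≠ 2`) fixes a member of every class of nondegenerate `m`-spaces, `1 ≤ m < d`:
`V = fixS x ⟂ cycS 2 x`, every subspace of either eigenspace is invariant; EXND + EXCLS.
-/

namespace Cfsg.Agent.Lib.Helper1.ODN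

open Polynomial Module Cfsg.Agent.Lib.Helper13.S5955 Cfsg.Agent.Lib.helper15.S5972 Cfsg.Agent.Lib.Helper18.ONE

/-- every subspace of the `-1`-eigenspace `cycS 2 x` is invariant -/
theorem odninvolabs_inv_cyc {F : Type*} [Field F] {V : Type*} [AddCommGroup V] [Module F V]
    (x : Module.End F V) (W : Submodule F V) (hW : W ≤ cycS 2 x) : SInv x W := by
  intro w hw
  have h1 := hW hw
  unfold cycS at h1
  rw [LinearMap.mem_ker, cyclotomic_two, map_add, aeval_X, map_one, LinearMap.add_apply,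
    Module.End.one_apply] at h1
  have h3 : x w = -w := eq_neg_of_add_eq_zero_left h1
  rw [h3]
  exact W.neg_mem hw

/-- the geometric step, for `N` the larger and `N'` the smaller eigenspace -/
theorem odninvolabs_step {F : Type*} [Field F] [Fintype F] (h2 : (2 : F) ≠ 0)
    {V : Type*} [AddCommGroup V] [Module F V] [FiniteDimensional F V]
    {B : LinearMap.BilinForm F V} {x : Module.End F V} (hsymm : ∀ u v, B u v = B v u)
    (N N' : Submodule F V) (hN : SND B N) (hN' : SND B N') (horth : SOrth B N N')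
    (hNinv : ∀ W : Submodule F V, W ≤ N → SInv x W) (hN'inv : ∀ W : Submodule F V, W ≤ N' → SInv x W)
    (d m : ℕ) (hsum : finrank F N + finrank F N' = 2 * d) (hge : finrank F N' ≤ finrank F N)
    (hd : 2 ≤ d) (hm : 1 ≤ m) (hmd : m < d)
    (W₀ : Submodule F V) (hW₀ : SND B W₀) (hW₀m : finrank F W₀ = m) : FixC B x m W₀ := by
  set e := min m (finrank F N - 1) with he
  have he1 : 1 ≤ e := by
    rw [he]
    exact le_min hm (by omega)
  have heN : e < finrank F N := by
    have : e ≤ finrank F N - 1 := min_le_right _ _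
    omega
  have hem : e ≤ m := min_le_left _ _
  have hk : m - e ≤ finrank F N' := by
    rcases le_total m (finrank F N - 1) with hc | hc
    · rw [he, min_eq_left hc]
      omega
    · rw [he, min_eq_right hc]
      omega
  obtain ⟨M, hMle, hMnd, hMdim⟩ := ex_nd h2 B hsymm N' hN' (m - e) hk
  have hNM : SOrth B N M := fun u hu w hw => horth u hu w (hMle hw)
  have hdim : finrank F W₀ = e + finrank F M := by
    rw [hW₀m, hMdim]
    omega
  obtain ⟨W₁, hW₁le, -, -, hsupnd, hsupdim, hsiso⟩ :=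
    ex_cls h2 B hsymm N M W₀ hN hMnd hNM hW₀ e he1 heN hdim
  refine ⟨W₁ ⊔ M, Cfsg.Agent.Lib.Helper24.el_inv_sup (hNinv W₁ hW₁le) (hN'inv M hMle), hsupnd, ?_,
    hsiso⟩
  rw [hsupdim, hMdim]
  omega

/-- INVOLABS [M-L]: an isometry with `x ^ 2 = 1` fixes a member of every class. -/
theorem odn_invol_abs {F : Type*} [Field F] [Fintype F] {p : ℕ} [Fact p.Prime] [CharP F p]
    (hp2 : p ≠ 2) {V : Type*} [AddCommGroup V] [Module F V] [FiniteDimensional F V]
    {B : LinearMap.BilinForm F V} {x : Module.End F V} (h : OCtx 2 B x)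
    (d m : ℕ) (hV : finrank F V = 2 * d) (hd : 2 ≤ d) (hm : 1 ≤ m) (hmd : m < d)
    (W₀ : Submodule F V) (hW₀ : SND B W₀) (hW₀m : finrank F W₀ = m) : FixC B x m W₀ := by
  let _ : Fact (Nat.Prime 2) := ⟨Nat.prime_two⟩
  have h2p : (2 : ℕ) ≠ p := fun hh => hp2 hh.symm
  have h2 : (2 : F) ≠ 0 := by
    have := Cfsg.Agent.Lib.Helper24.el_cast_ne_zero (F := F) (p := p) 2 h2p
    exact_mod_cast this
  obtain ⟨hOrth, hcompl, hfixnd, hcycnd⟩ := o_split h2p h
  have hsum : finrank F (fixS x) + finrank F (cycS 2 x) = 2 * d := by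
    rw [← hV]
    exact Submodule.finrank_add_eq_of_isCompl hcompl
  have hfixinv : ∀ W : Submodule F V, W ≤ fixS x → SInv x W :=
    fun W hW => Cfsg.Agent.Lib.Helper24.el_inv_of_le_fix x W hW
  have hcycinv : ∀ W : Submodule F V, W ≤ cycS 2 x → SInv x W :=
    fun W hW => odninvolabs_inv_cyc x W hW
  rcases le_total (finrank F (cycS 2 x)) (finrank F (fixS x)) with hge | hge
  · exact odninvolabs_step h2 h.symm (fixS x) (cycS 2 x) hfixnd hcycnd hOrth hfixinv hcycinv d m hsum
      hge hd hm hmd W₀ hW₀ hW₀m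
  · have hOrth' : SOrth B (cycS 2 x) (fixS x) := fun u hu w hw => by
      rw [h.symm]; exact hOrth w hw u hu
    exact odninvolabs_step h2 h.symm (cycS 2 x) (fixS x) hcycnd hfixnd hOrth' hcycinv hfixinv d m
      (by rw [add_comm]; exact hsum) hge hd hm hmd W₀ hW₀ hW₀m

end Cfsg.Agent.Lib.Helper1.ODN
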