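import Mathlib
import Cfsg.Prelude.Def_LieTypeChar
import Cfsg.Prelude.Def_ChevStructure
import Cfsg.Prelude.Def_ChevF4
import Cfsg.Prelude.Def_LieTwisted
import Cfsg.Agent.Lib.helper8.ChevTF35
import Cfsg.Agent.Lib.helper8.ChevTwU2
import Cfsg.Agent.Lib.helper14.SQD.Defs
import Cfsg.Agent.Lib.helper14.SQD.DefsTF

/-!
# Project SQD, row TF7a (`tfY_le_G`): the eight positive twisted root subgroups lie in `²F₄`.
-/

set_option autoImplicit false

namespace Cfsg.Agent.Lib.helper14.SQD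

open Cfsg Cfsg.Lie Cfsg.Lie.ChevalleyDatum Cfsg.Agent.Lib.helper8

universe u v

section TF7a

variable {K : Type u} [Field K] [CharP K 2] {hB : H8Base.{u} chevF4}

/-- the Weyl representative of a concatenation of the words `[0, 3]` and `[1, 2, 1, 2]` lies in `²F₄` -/
theorem sqdtf7a_nw (R : H8TF K hB) (e : ℕ) (hfe : ∀ t : K, R.f t = t ^ e) (ws : List (List ℕ))
    (h : ∀ w ∈ ws, w = [0, 3] ∨ w = [1, 2, 1, 2]) :
    (h8nWU chevF4 hB ws.flatten : GL chevF4.Idx K) ∈ twistedF4 K e := by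
  have hA := h8reflAll chevF4 h8tf_F4_mem
  have hC := h8commAll.{u} chevF4 h8tf_F4_mem
  have hBN := h8bn_all chevF4 h8tf_F4_mem
  obtain ⟨hO, hO2⟩ := h8ord_all chevF4 h8tf_F4_mem
  induction ws with
  | nil =>
    have : (h8nWU chevF4 hB ([] : List (List ℕ)).flatten : GL chevF4.Idx K) = 1 := by
      unfold h8nWU
      simp
    rw [this]
    exact one_mem _
  | cons w ws ih =>
    rw [List.flatten_cons, h8nWU_append]
    refine mul_mem ?_ (ih (fun w' hw' => h w' (List.mem_cons_of_mem _ hw')))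
    rcases h w List.mem_cons_self with rfl | rfl
    · exact h8tf_n1_mem R hC e hfe
    · exact h8tf_n2_mem R hA hC hBN hO2 e hfe

/-- the eight Weyl representatives lie in `²F₄` -/
theorem sqdtf7a_wd (R : H8TF K hB) (e : ℕ) (hfe : ∀ t : K, R.f t = t ^ e) (k : ℕ) (hk : k < 8) :
    (h8nWU chevF4 hB (tfWd k) : GL chevF4.Idx K) ∈ twistedF4 K e := by
  have key : ∃ ws : List (List ℕ), (∀ w ∈ ws, w = [0, 3] ∨ w = [1, 2, 1, 2]) ∧ tfWd k = ws.flatten := by
    interval_cases k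
    · exact ⟨[], by simp, rfl⟩
    · exact ⟨[[1, 2, 1, 2]], by simp, rfl⟩
    · exact ⟨[[0, 3], [1, 2, 1, 2]], by simp, rfl⟩
    · exact ⟨[[1, 2, 1, 2], [0, 3], [1, 2, 1, 2]], by simp, rfl⟩
    · exact ⟨[], by simp, rfl⟩
    · exact ⟨[[0, 3]], by simp, rfl⟩
    · exact ⟨[[1, 2, 1, 2], [0, 3]], by simp, rfl⟩
    · exact ⟨[[0, 3], [1, 2, 1, 2], [0, 3]], by simp, rfl⟩
  obtain ⟨ws, h1, h2⟩ := key
  rw [h2]
  exact sqdtf7a_nw R e hfe ws h1

/-- the two fundamental twisted root subgroups lie in `²F₄` -/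
theorem sqdtf7a_X (R : H8TF K hB) (e : ℕ) (hfe : ∀ t : K, R.f t = t ^ e) (k : ℕ) :
    tfX R k ≤ twistedF4 K e := by
  unfold tfX
  split_ifs
  · unfold tfX1
    rw [Subgroup.closure_le]
    rintro _ ⟨t, rfl⟩
    exact h8tfPair_mem R e hfe t
  · unfold tfX2
    rw [Subgroup.closure_le]
    rintro _ ⟨p, rfl⟩
    exact h8tfCls_mem R e hfe p.1 p.2

end TF7a

/-- TF7a [E-M]. -/
theorem tfY_le_G {K : Type u} [Field K] [CharP K 2] {hB : H8Base.{u} chevF4} (R : H8TF K hB) (e : ℕ)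
    (hfe : ∀ t : K, R.f t = t ^ e) : ∀ k < 8, tfY R k ≤ twistedF4 K e := by
  intro k hk
  unfold tfY
  rw [Subgroup.map_le_iff_le_comap]
  intro x hx
  rw [Subgroup.mem_comap]
  have hn := sqdtf7a_wd R e hfe k hk
  have hx' := sqdtf7a_X R e hfe k hx
  show (MulAut.conj (h8nWU chevF4 hB (tfWd k) : GL chevF4.Idx K)) x ∈ twistedF4 K e
  rw [MulAut.conj_apply]
  exact mul_mem (mul_mem hn hx') (inv_mem hn)

end Cfsg.Agent.Lib.helper14.SQD
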