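import Mathlib
import Cfsg.Prelude.Def_LieTypeChar
import Cfsg.Prelude.Def_ChevStructure
import Cfsg.Prelude.Def_ChevF4
import Cfsg.Prelude.Def_LieTwisted
import Cfsg.Agent.Lib.helper8.ChevTF35
import Cfsg.Agent.Lib.helper8.ChevTwU2
import Cfsg.Agent.Lib.helper14.SQD.Defs
import Cfsg.Agent.Lib.helper14.SQD.DefsTF

/-!
# Project SQD, row TF7b (`tfY_le_U`), core: from the normal forms `TfForm R j` (`j < 12`, rows TF6a TF6b TF6c) the eight
positive twisted root subgroups lie in `posUnipotent`.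
-/

set_option autoImplicit false

namespace Cfsg.Agent.Lib.helper14.SQD

open Cfsg Cfsg.Lie Cfsg.Lie.ChevalleyDatum Cfsg.Agent.Lib.helper8

universe u v

section TF7b

variable {K : Type u} [Field K] {hB : H8Base.{u} chevF4}

/-- every term of the chain lies in `posUnipotent` -/
theorem sqdtf7b_Ub_le (i : ℕ) : h8Ub chevF4 K posiF4 i ≤ chevF4.posUnipotent K := by
  rw [← h8Ub_zero chevF4 posiF4]
  apply Subgroup.closure_mono
  rintro g ⟨r, t, hr, _, hg⟩
  exact ⟨r, t, hr, Nat.zero_le _, hg⟩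

/-- `cls(t, v) = cls(t, 0) * cls(0, v)` -/
theorem sqdtf7b_cls_split [CharP K 2] (R : H8TF K hB) (t v : K) :
    h8tfCls R 27 25 28 30 t v = h8tfCls R 27 25 28 30 t 0 * h8tfCls R 27 25 28 30 0 v := by
  have hC := h8commAll.{u} chevF4 h8tf_F4_mem
  rw [h8tfCls_mul R hC, add_zero, zero_add, mul_zero, add_zero]

/-- TF7b, core on the statements of TF6a TF6b TF6c. -/
theorem sqdtf7b_core [CharP K 2] (R : H8TF K hB) (hF : ∀ j < 12, TfForm R j) :
    ∀ k < 8, tfY R k ≤ chevF4.posUnipotent K := by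
  intro k hk
  have hgen : ∀ j < 12, ∀ t : K, tfGen R j t ∈ chevF4.posUnipotent K := fun j hj t =>
    sqdtf7b_Ub_le _ ((hF j hj t).1)
  unfold tfY
  rw [Subgroup.map_le_iff_le_comap]
  unfold tfX
  split_ifs with h4
  · unfold tfX1
    rw [Subgroup.closure_le]
    rintro _ ⟨t, rfl⟩
    show (MulAut.conj (h8nWU chevF4 hB (tfWd k) : GL chevF4.Idx K)) (h8tfPair R 33 24 t) ∈
      chevF4.posUnipotent K
    rw [MulAut.conj_apply]
    have h := hgen k (by omega) t
    unfold tfGen at h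
    rw [if_pos h4] at h
    exact h
  · unfold tfX2
    rw [Subgroup.closure_le]
    rintro _ ⟨p, rfl⟩
    show (MulAut.conj (h8nWU chevF4 hB (tfWd k) : GL chevF4.Idx K))
      (h8tfCls R 27 25 28 30 p.1 p.2) ∈ chevF4.posUnipotent K
    rw [MulAut.conj_apply, sqdtf7b_cls_split R p.1 p.2]
    have h1 := hgen k (by omega) p.1
    have h2 := hgen (k + 4) (by omega) p.2
    unfold tfGen at h1 h2
    rw [if_neg h4, if_pos hk] at h1
    rw [if_neg (by omega), if_neg (by omega), Nat.add_sub_cancel] at h2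
    have e : (h8nWU chevF4 hB (tfWd k) : GL chevF4.Idx K) *
        (h8tfCls R 27 25 28 30 p.1 0 * h8tfCls R 27 25 28 30 0 p.2) *
        (h8nWU chevF4 hB (tfWd k) : GL chevF4.Idx K)⁻¹ =
        ((h8nWU chevF4 hB (tfWd k) : GL chevF4.Idx K) * h8tfCls R 27 25 28 30 p.1 0 *
          (h8nWU chevF4 hB (tfWd k) : GL chevF4.Idx K)⁻¹) *
        ((h8nWU chevF4 hB (tfWd k) : GL chevF4.Idx K) * h8tfCls R 27 25 28 30 0 p.2 *
          (h8nWU chevF4 hB (tfWd k) : GL chevF4.Idx K)⁻¹) := by group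
    rw [e]
    exact mul_mem h1 h2

end TF7b

end Cfsg.Agent.Lib.helper14.SQD
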