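import Mathlib
import Cfsg.Prelude.Def_ChevD4
import Cfsg.Agent.Lib.helper8.ChevCox5
import Cfsg.Agent.Lib.helper8.ChevCertPairD4

set_option autoImplicit false

namespace Cfsg.Agent.Lib.helper8

open Cfsg.Lie

def h8cxS_D4 : ℕ := h8csg_D4

theorem h8cxSchk_D4 : h8sgsChk chevD4 h8cxS_D4 = true := h8csgChk_D4

end Cfsg.Agent.Lib.helper8
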