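import Mathlib
import Cfsg.Prelude.Def_ChevD4
import Cfsg.Agent.Lib.helper8.ChevTabCoxD4S

set_option autoImplicit false

namespace Cfsg.Agent.Lib.helper8

open Cfsg.Lie

def h8cxT_D4_2 : ℕ := 0x1117100f050e160d0c0415140302130b0a01091208070006161715141213110d0c09100f08070e0b0a0604050302000117161514131211100f0e0d0c0b0a09080706050403020100

def h8cxP_D4_2 : ℕ := 0x10000

def h8cxG_D4_2 : ℕ := 0x100

def h8cxC_D4_2 : ℕ := 0x100020000000000000000000000000000000400000000000000000000000000020001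

def h8cxM_D4_2 : ℕ := 0xfbf000

set_option maxRecDepth 100000 in
theorem h8cxRow_D4_2_0 : (List.range' 0 3).all (h8lvRow chevD4 h8cxS_D4 h8cxT_D4_2
    h8cxP_D4_2 h8cxG_D4_2 h8cxC_D4_2 h8cxM_D4_2 2 3) = true := by decide +kernel

theorem h8cxRows_D4_2 : ∀ k < 3, h8lvRow chevD4 h8cxS_D4 h8cxT_D4_2
    h8cxP_D4_2 h8cxG_D4_2 h8cxC_D4_2 h8cxM_D4_2 2 3 k = true := by
  intro k hk
  exact h8rows_of_chunk _ _ _ h8cxRow_D4_2_0 k (by omega) (by omega)

set_option maxRecDepth 100000 in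
theorem h8cxMask_D4_2 : h8lvMask chevD4 h8cxS_D4 h8cxM_D4_2 2 = true := by decide +kernel

set_option maxRecDepth 100000 in
theorem h8cxKeys_D4_2 : h8lvKeys chevD4 h8cxT_D4_2 3 = true := by decide +kernel

set_option maxRecDepth 100000 in
theorem h8cxDense_D4_2 : h8dense ((List.range 3).map (h8invT chevD4.nroots h8cxT_D4_2)) =
    [1, 1, 1] := by decide +kernel

end Cfsg.Agent.Lib.helper8
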