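import Mathlib
import Cfsg.Prelude.Def_ChevD4
import Cfsg.Agent.Lib.helper8.ChevTabCoxD4S

set_option autoImplicit false

namespace Cfsg.Agent.Lib.helper8

open Cfsg.Lie

def h8cxT_D4_3 : ℕ := 0x110f0517100e0c04160d021403150a01130b0907001208061614121715130c09110d070f08100a060e0b0402000503011714131615120f0e11100a0c0b0d0706090805020104030017161514131211100f0e0d0c0b0a09080706050403020100

def h8cxP_D4_3 : ℕ := 0x2010000

def h8cxG_D4_3 : ℕ := 0x10200

def h8cxC_D4_3 : ℕ := 0x300010004000000000000000000000003000200060000000000000000000000000004000100000000000000000000000200030001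

def h8cxM_D4_3 : ℕ := 0xf3b000

set_option maxRecDepth 100000 in
theorem h8cxRow_D4_3_0 : (List.range' 0 4).all (h8lvRow chevD4 h8cxS_D4 h8cxT_D4_3
    h8cxP_D4_3 h8cxG_D4_3 h8cxC_D4_3 h8cxM_D4_3 3 4) = true := by decide +kernel

theorem h8cxRows_D4_3 : ∀ k < 4, h8lvRow chevD4 h8cxS_D4 h8cxT_D4_3
    h8cxP_D4_3 h8cxG_D4_3 h8cxC_D4_3 h8cxM_D4_3 3 4 k = true := by
  intro k hk
  exact h8rows_of_chunk _ _ _ h8cxRow_D4_3_0 k (by omega) (by omega)

set_option maxRecDepth 100000 in
theorem h8cxMask_D4_3 : h8lvMask chevD4 h8cxS_D4 h8cxM_D4_3 3 = true := by decide +kernel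

set_option maxRecDepth 100000 in
theorem h8cxKeys_D4_3 : h8lvKeys chevD4 h8cxT_D4_3 4 = true := by decide +kernel

set_option maxRecDepth 100000 in
theorem h8cxDense_D4_3 : h8dense ((List.range 4).map (h8invT chevD4.nroots h8cxT_D4_3)) =
    [1, 1, 1, 1] := by decide +kernel

end Cfsg.Agent.Lib.helper8
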