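import Mathlib
import Cfsg.Prelude.Def_ChevD4
import Cfsg.Agent.Lib.helper8.ChevTabCoxD4S

set_option autoImplicit false

namespace Cfsg.Agent.Lib.helper8

open Cfsg.Lie

def h8cxT_D4_4 : ℕ := 0xb081503100d0613010e12001705091604110a0714020f0c0c091604110d0714020f12001705081503100a0613010e0b0f0e170511100a14020c130116040b15030d0706120009081413171216150a0f070c0e0611090b10080d020105000403111017050f0e0d16040c150314020b13010a0908120007061615171214130d11090c10080f070b0e060a04030500020117151613141210110e0f0d0b0c0a0809060705030401020017161514131211100f0e0d0c0b0a09080706050403020100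

def h8cxP_D4_4 : ℕ := 0x605030202010000

def h8cxG_D4_4 : ℕ := 0x301020200010300

def h8cxC_D4_4 : ℕ := 0xc0001000300050000000000000000000e0001000a0005000000000000000000030006000c00080000000000000000000300040005000a00000000000000000003000a00010004000000000000000000030008000200060000000000000000000000050004000100000000000000000002000500030001

def h8cxM_D4_4 : ℕ := 0xd29000

set_option maxRecDepth 100000 in
theorem h8cxRow_D4_4_0 : (List.range' 0 8).all (h8lvRow chevD4 h8cxS_D4 h8cxT_D4_4
    h8cxP_D4_4 h8cxG_D4_4 h8cxC_D4_4 h8cxM_D4_4 4 8) = true := by decide +kernel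

theorem h8cxRows_D4_4 : ∀ k < 8, h8lvRow chevD4 h8cxS_D4 h8cxT_D4_4
    h8cxP_D4_4 h8cxG_D4_4 h8cxC_D4_4 h8cxM_D4_4 4 8 k = true := by
  intro k hk
  exact h8rows_of_chunk _ _ _ h8cxRow_D4_4_0 k (by omega) (by omega)

set_option maxRecDepth 100000 in
theorem h8cxMask_D4_4 : h8lvMask chevD4 h8cxS_D4 h8cxM_D4_4 4 = true := by decide +kernel

set_option maxRecDepth 100000 in
theorem h8cxKeys_D4_4 : h8lvKeys chevD4 h8cxT_D4_4 8 = true := by decide +kernel

set_option maxRecDepth 100000 in
theorem h8cxDense_D4_4 : h8dense ((List.range 8).map (h8invT chevD4.nroots h8cxT_D4_4)) =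
    [1, 1, 1, 2, 1, 1, 1] := by decide +kernel

end Cfsg.Agent.Lib.helper8
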