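import Mathlib
import Cfsg.Prelude.Def_ChevD4
import Cfsg.Agent.Lib.helper8.ChevTabCoxD4S
import Cfsg.Agent.Lib.helper8.ChevTabCoxD4L4
import Cfsg.Agent.Lib.helper8.ChevTabCoxD4L3
import Cfsg.Agent.Lib.helper8.ChevTabCoxD4L2
import Cfsg.Agent.Lib.helper8.ChevTabCoxD4L1
import Cfsg.Agent.Lib.helper8.ChevBaseAll
import Cfsg.Agent.Lib.helper8.ChevReflAll
import Cfsg.Agent.Lib.helper8.ChevBNAll2
import Cfsg.Agent.Lib.helper8.ChevOrdAll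

set_option autoImplicit false

namespace Cfsg.Agent.Lib.helper8

open Cfsg.Lie

def h8cxCs_D4 : List (List ℕ) := [[1, 1], [1, 1, 1], [1, 1, 1, 1], [1, 1, 1, 2, 1, 1, 1]]

set_option maxRecDepth 100000 in
theorem h8cxPoly_D4 : h8pmulL h8cxCs_D4 = h8pmulL ([2, 4, 4, 6].map h8ones) := by decide +kernel

theorem h8poin_D4 (hA : H8ReflAll chevD4) (q : ℕ) :
    ∑ π ∈ h8Wfin chevD4 hA, q ^ h8Ninv chevD4 π =
      ([2, 4, 4, 6].map fun d => h8pe (h8ones d) q).prod := by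
  have hD : chevD4 ∈ [chevG2, chevB2, chevD4, chevF4, chevE6, chevE7, chevE8] := by simp
  have hB := h8base_all.{0} chevD4 hD
  have hBN := h8bn_all chevD4 hD
  have hW := h8bn2_all chevD4 hD
  have hO2 := (h8ord_all chevD4 hD).2
  rw [h8chain chevD4 hA h8cxCs_D4 rfl q, h8cxPoly_D4, h8pe_pmulL, List.map_map]
  · rfl
  · intro j0 hj0 hj1
    have hr : chevD4.rank = 4 := rfl
    rw [hr] at hj1
    interval_cases j0
    · exact h8level_pe chevD4 hB hA hBN hW hO2 h8cxS_D4 h8cxSchk_D4 (by decide)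
        h8cxT_D4_1 h8cxP_D4_1 h8cxG_D4_1 h8cxC_D4_1 h8cxM_D4_1 1 2 (by decide) (by decide)
        h8cxRows_D4_1 h8cxMask_D4_1 h8cxKeys_D4_1 _ h8cxDense_D4_1 q
    · exact h8level_pe chevD4 hB hA hBN hW hO2 h8cxS_D4 h8cxSchk_D4 (by decide)
        h8cxT_D4_2 h8cxP_D4_2 h8cxG_D4_2 h8cxC_D4_2 h8cxM_D4_2 2 3 (by decide) (by decide)
        h8cxRows_D4_2 h8cxMask_D4_2 h8cxKeys_D4_2 _ h8cxDense_D4_2 q
    · exact h8level_pe chevD4 hB hA hBN hW hO2 h8cxS_D4 h8cxSchk_D4 (by decide)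
        h8cxT_D4_3 h8cxP_D4_3 h8cxG_D4_3 h8cxC_D4_3 h8cxM_D4_3 3 4 (by decide) (by decide)
        h8cxRows_D4_3 h8cxMask_D4_3 h8cxKeys_D4_3 _ h8cxDense_D4_3 q
    · exact h8level_pe chevD4 hB hA hBN hW hO2 h8cxS_D4 h8cxSchk_D4 (by decide)
        h8cxT_D4_4 h8cxP_D4_4 h8cxG_D4_4 h8cxC_D4_4 h8cxM_D4_4 4 8 (by decide) (by decide)
        h8cxRows_D4_4 h8cxMask_D4_4 h8cxKeys_D4_4 _ h8cxDense_D4_4 q

end Cfsg.Agent.Lib.helper8
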