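import Mathlib
import Cfsg.Prelude.Def_ChevStructure
import Cfsg.Prelude.Def_LieTwisted
import Cfsg.Agent.Lib.helper14.TWI.D4Defs
import Cfsg.Agent.Lib.helper8.ChevTwD4C
import Cfsg.Agent.Lib.helper8.ChevTwB7

/-!
# Project TWI (S2183), piece INST1: the normal form `u₁ m u₂` in `³D₄(q)`
-/

set_option autoImplicit false

namespace Cfsg.Agent.Lib.helper14.TWI

open Cfsg.Lie Cfsg.Lie.ChevalleyDatum Cfsg.Agent.Lib.helper8 Cfsg.Agent.Lib.helper14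
  Cfsg.Agent.Lib.helper14.INV

universe u

variable {K : Type u} [Field K]

/-- INST1 : the normal form `u₁ m u₂` in `³D₄(q)` -/
theorem d4_NF [Fintype K] (q : ℕ) (hq : IsPrimePow q) (hK : Fintype.card K = q ^ 3)
    (g : GL chevD4.Idx K) (hg : g ∈ twistedD4 K q) :
    ∃ u₁ ∈ chevD4.posUnipotent K ⊓ twistedD4 K q, ∃ m ∈ chevD4.monomialSubgroup K ⊓ twistedD4 K q,
      ∃ u₂ ∈ chevD4.posUnipotent K ⊓ twistedD4 K q, g = u₁ * m * u₂ := by
  have hD : chevD4 ∈ [chevG2, chevB2, chevD4, chevF4, chevE6, chevE7, chevE8] := by simp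
  have hB := h8base_all.{u} chevD4 hD
  have hA := h8reflAll chevD4 hD
  have hC := h8commAll.{u} chevD4 hD
  have hBN := h8bn_all chevD4 hD
  have hW := h8bn2_all chevD4 hD
  obtain ⟨hO, hO2⟩ := h8ord_all chevD4 hD
  obtain ⟨f, hf, hfff3, hneg⟩ := h8frob_exists hq 3 (by norm_num) hK
  have hfff : ∀ t, f (f (f t)) = t := fun t => hfff3 t
  have hσp : ∀ r, chevD4.IsPosRoot r → chevD4.IsPosRoot (h8sD4 r) :=
    fun r hr => (h8uD4_sig1 r hr.1 hr).1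
  have hUfix := h8twD4_U_fix hB hC hA hBN hO2 q f hf hfff hneg
  obtain ⟨u1, hu1, m, hm, u, hu, huG, e⟩ := h8tw_normal_G1 chevD4 hB hA hC hBN hW hO hO2
    h8sD4 h8tD4 h8pD4 h8qD4 h8eD4 (h8autD4 hA) f hσp (twistedD4 K q)
    (h8gen_le_group chevD4 hB _) (h8twD4_fix hB hC hA q f hf hfff) hUfix g hg
  exact ⟨u1, hu1, m, hm, u, ⟨h8Um_le_U chevD4 m hu, huG⟩, e⟩

end Cfsg.Agent.Lib.helper14.TWI
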