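import Mathlib
import Cfsg.Prelude.Def_ChevStructure
import Cfsg.Prelude.Def_LieTwisted
import Cfsg.Agent.Lib.helper14.TWI.D4Defs
import Cfsg.Agent.Lib.helper8.ChevTwD4C
import Cfsg.Agent.Lib.helper8.ChevTwB7

/-!
# Project TWI (S2183), piece INST3: the Weyl group elements of `N ∩ ³D₄(q)` commute with the graph
automorphism, hence are equivariant with respect to the orbits
-/

set_option autoImplicit false

namespace Cfsg.Agent.Lib.helper14.TWI

open Cfsg.Lie Cfsg.Lie.ChevalleyDatum Cfsg.Agent.Lib.helper8 Cfsg.Agent.Lib.helper14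
  Cfsg.Agent.Lib.helper14.INV

universe u

variable {K : Type u} [Field K]

/-- the Weyl group element of an element `h0 n_w` of `³D₄(q)` commutes with the graph automorphism -/
theorem twiinst3_comm [Fintype K] (q : ℕ) (hq : IsPrimePow q) (hK : Fintype.card K = q ^ 3)
    (hB : H8Base.{u} chevD4) (w : List ℕ) (hw : ValidW chevD4 w) (h0 : GL chevD4.Idx K)
    (hh : h0 ∈ chevD4.diagonalSubgroup K)
    (hm : h0 * (h8nWU chevD4 hB w : GL chevD4.Idx K) ∈ twistedD4 K q) :
    ∀ r < 24, h8sW chevD4 w (h8sD4 r) = h8sD4 (h8sW chevD4 w r) := by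
  have hD : chevD4 ∈ [chevG2, chevB2, chevD4, chevF4, chevE6, chevE7, chevE8] := by simp
  have hA := h8reflAll chevD4 hD
  have hC := h8commAll.{u} chevD4 hD
  have hBN := h8bn_all chevD4 hD
  have hW := h8bn2_all chevD4 hD
  obtain ⟨hO, hO2⟩ := h8ord_all chevD4 hD
  obtain ⟨f, hf, hfff3, hneg⟩ := h8frob_exists hq 3 (by norm_num) hK
  have hfff : ∀ t, f (f (f t)) = t := fun t => hfff3 t
  have hmN : h0 * (h8nWU chevD4 hB w : GL chevD4.Idx K) ∈ chevD4.monomialSubgroup K :=
    Subgroup.mul_mem _ (h8H_le_N chevD4 hh) (h8nWU_mem_N chevD4 hB hA w hw)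
  have hact : ∀ r < 24, H8Act chevD4 hB (h0 * (h8nWU chevD4 hB w : GL chevD4.Idx K)) r
      (h8sW chevD4 w r) := by
    intro r hr
    have hr' : r < chevD4.nroots := hr
    have h1 := h8nWU_act (F := K) chevD4 hB hA w hw r hr'
    have h2 := h8perm_H_id chevD4 hB h0 hh (h8sW chevD4 w r) (h8sW_lt chevD4 hA w hw r hr')
    exact h8act_mul chevD4 hB h0 _ _ _ _ h1 h2
  have hfix := h8twD4_fix hB hC hA q f hf hfff _ hm
  have hcomm := h8tw_Pi_comm chevD4 hB hA hBN hW hO2 h8sD4 h8tD4 h8pD4 h8qD4 h8eD4 (h8autD4 hA) f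
    (h8mkRho chevD4 h8sD4 h8tD4 h8pD4 h8qD4 h8eD4 (h8autD4 hA)) (fun r => rfl) _ hmN hfix
  have hPi : ∀ r : Fin chevD4.nroots,
      ((h8Pi chevD4 hB hA hBN hW hO2 ⟨_, hmN⟩) r).val = h8sW chevD4 w r.val := by
    intro r
    exact h8act_unique chevD4 hB hA hBN hW hO2 _ r.val _ _ (Fin.is_lt _)
      (h8sW_lt chevD4 hA w hw r.val r.2) (h8Pi_act chevD4 hB hA hBN hW hO2 ⟨_, hmN⟩ r)
      (hact r.val r.2)
  intro r hr
  have h1 := congrArg (fun p : Equiv.Perm (Fin chevD4.nroots) =>
    (p (h8mkRho chevD4 h8sD4 h8tD4 h8pD4 h8qD4 h8eD4 (h8autD4 hA) ⟨r, hr⟩)).val) hcomm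
  simp only [Equiv.Perm.mul_apply, Equiv.Perm.coe_inv, Equiv.symm_apply_apply] at h1
  rw [h8mkRho_val, hPi, hPi, h8mkRho_val] at h1
  exact h1.symm

theorem twiinst3_data : chevD4.simple 0 = 18 ∧ chevD4.simple 2 = 13 ∧ chevD4.simple 3 = 12 ∧
    h8sD4 18 = 13 ∧ h8sD4 13 = 12 ∧ h8sD4 12 = 18 := by decide +kernel

/-- INST3 : equivariance of the Weyl group elements of `N ∩ G₁` -/
theorem d4_equi [Fintype K] (q : ℕ) (hq : IsPrimePow q) (hK : Fintype.card K = q ^ 3)
    (hB : H8Base.{u} chevD4) (w : List ℕ) (hw : ValidW chevD4 w) (h0 : GL chevD4.Idx K)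
    (hh : h0 ∈ chevD4.diagonalSubgroup K)
    (hm : h0 * (h8nWU chevD4 hB w : GL chevD4.Idx K) ∈ twistedD4 K q) :
    EquiO chevD4 d4Orbs w := by
  have key := twiinst3_comm q hq hK hB w hw h0 hh hm
  obtain ⟨s0, s2, s3, e1, e2, e3⟩ := twiinst3_data
  have hσp : ∀ r, chevD4.IsPosRoot r → chevD4.IsPosRoot (h8sD4 r) :=
    fun r hr => (h8uD4_sig1 r hr.1 hr).1
  -- the images of the three roots of the big orbit
  have kb : h8sW chevD4 w 13 = h8sD4 (h8sW chevD4 w 18) := by
    have := key 18 (by norm_num)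
    rwa [e1] at this
  have kc : h8sW chevD4 w 12 = h8sD4 (h8sW chevD4 w 13) := by
    have := key 13 (by norm_num)
    rwa [e2] at this
  have ka : h8sW chevD4 w 18 = h8sD4 (h8sW chevD4 w 12) := by
    have := key 12 (by norm_num)
    rwa [e3] at this
  have hP : ∀ x, (x = 18 ∨ x = 13 ∨ x = 12) → (h8sD4 x = 18 ∨ h8sD4 x = 13 ∨ h8sD4 x = 12) := by
    rintro x (rfl | rfl | rfl)
    · exact Or.inr (Or.inl e1)
    · exact Or.inr (Or.inr e2)
    · exact Or.inl e3
  have hQ : ∀ x, (x = 18 ∨ x = 13 ∨ x = 12) → ∃ k ∈ ([0, 2, 3] : List ℕ), x = chevD4.simple k := by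
    rintro x (rfl | rfl | rfl)
    · exact ⟨0, by simp, s0.symm⟩
    · exact ⟨2, by simp, s2.symm⟩
    · exact ⟨3, by simp, s3.symm⟩
  intro O hOo
  simp only [d4Orbs, List.mem_cons, List.not_mem_nil, or_false] at hOo
  rcases hOo with rfl | rfl
  · constructor
    · rintro ⟨j, hj, hpos⟩ j' hj'
      rw [List.mem_singleton] at hj hj'
      subst hj hj'
      exact hpos
    · rintro ⟨j, hj, k, hk, e⟩ j' hj'
      rw [List.mem_singleton] at hj hk hj'
      subst hj hk hj'
      exact ⟨1, by simp, e⟩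
  · constructor
    · rintro ⟨j, hj, hpos⟩
      have hall : chevD4.IsPosRoot (h8sW chevD4 w 18) ∧ chevD4.IsPosRoot (h8sW chevD4 w 13) ∧
          chevD4.IsPosRoot (h8sW chevD4 w 12) := by
        simp only [List.mem_cons, List.not_mem_nil, or_false] at hj
        rcases hj with rfl | rfl | rfl
        · rw [s0] at hpos
          have hb : chevD4.IsPosRoot (h8sW chevD4 w 13) := by rw [kb]; exact hσp _ hpos
          have hc : chevD4.IsPosRoot (h8sW chevD4 w 12) := by rw [kc]; exact hσp _ hb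
          exact ⟨hpos, hb, hc⟩
        · rw [s2] at hpos
          have hc : chevD4.IsPosRoot (h8sW chevD4 w 12) := by rw [kc]; exact hσp _ hpos
          have ha : chevD4.IsPosRoot (h8sW chevD4 w 18) := by rw [ka]; exact hσp _ hc
          exact ⟨ha, hpos, hc⟩
        · rw [s3] at hpos
          have ha : chevD4.IsPosRoot (h8sW chevD4 w 18) := by rw [ka]; exact hσp _ hpos
          have hb : chevD4.IsPosRoot (h8sW chevD4 w 13) := by rw [kb]; exact hσp _ ha
          exact ⟨ha, hb, hpos⟩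
      intro j' hj'
      simp only [List.mem_cons, List.not_mem_nil, or_false] at hj'
      rcases hj' with rfl | rfl | rfl
      · rw [s0]; exact hall.1
      · rw [s2]; exact hall.2.1
      · rw [s3]; exact hall.2.2
    · rintro ⟨j, hj, k, hk, e⟩
      have hk' : chevD4.simple k = 18 ∨ chevD4.simple k = 13 ∨ chevD4.simple k = 12 := by
        simp only [List.mem_cons, List.not_mem_nil, or_false] at hk
        rcases hk with rfl | rfl | rfl
        · exact Or.inl s0
        · exact Or.inr (Or.inl s2)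
        · exact Or.inr (Or.inr s3)
      rw [← e] at hk'
      have hall : (h8sW chevD4 w 18 = 18 ∨ h8sW chevD4 w 18 = 13 ∨ h8sW chevD4 w 18 = 12) ∧
          (h8sW chevD4 w 13 = 18 ∨ h8sW chevD4 w 13 = 13 ∨ h8sW chevD4 w 13 = 12) ∧
          (h8sW chevD4 w 12 = 18 ∨ h8sW chevD4 w 12 = 13 ∨ h8sW chevD4 w 12 = 12) := by
        simp only [List.mem_cons, List.not_mem_nil, or_false] at hj
        rcases hj with rfl | rfl | rfl
        · rw [s0] at hk'
          have hb := hP _ hk'
          rw [← kb] at hb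
          have hc := hP _ hb
          rw [← kc] at hc
          exact ⟨hk', hb, hc⟩
        · rw [s2] at hk'
          have hc := hP _ hk'
          rw [← kc] at hc
          have ha := hP _ hc
          rw [← ka] at ha
          exact ⟨ha, hk', hc⟩
        · rw [s3] at hk'
          have ha := hP _ hk'
          rw [← ka] at ha
          have hb := hP _ ha
          rw [← kb] at hb
          exact ⟨ha, hb, hk'⟩
      intro j' hj'
      simp only [List.mem_cons, List.not_mem_nil, or_false] at hj'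
      rcases hj' with rfl | rfl | rfl
      · rw [s0]; exact hQ _ hall.1
      · rw [s2]; exact hQ _ hall.2.1
      · rw [s3]; exact hQ _ hall.2.2

end Cfsg.Agent.Lib.helper14.TWI
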