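import Mathlib
import Cfsg.Prelude.Def_ChevStructure
import Cfsg.Prelude.Def_LieTwisted
import Cfsg.Agent.Lib.helper14.TWI.D4Defs
import Cfsg.Agent.Lib.helper8.ChevTwD4C
import Cfsg.Agent.Lib.helper8.ChevTwB7

/-!
# Project TWI (S2183), piece INST4: the core of `B ∩ G₁` is trivial
-/

set_option autoImplicit false

namespace Cfsg.Agent.Lib.helper14.TWI

open Cfsg.Lie Cfsg.Lie.ChevalleyDatum Cfsg.Agent.Lib.helper8 Cfsg.Agent.Lib.helper14
  Cfsg.Agent.Lib.helper14.INV

universe u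

variable {K : Type u} [Field K]

/-- INST4 : the core of `B ∩ G₁` is trivial -/
theorem d4_core [Fintype K] (q : ℕ) (hq : IsPrimePow q) (hK : Fintype.card K = q ^ 3)
    (k : GL chevD4.Idx K)
    (hk : ∀ g ∈ twistedD4 K q, g * k * g⁻¹ ∈ chevD4.borelSubgroup K) : k = 1 :=
  h8twD4_core hq hK k hk

end Cfsg.Agent.Lib.helper14.TWI
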