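import Mathlib
import Cfsg.Prelude.Def_ChevStructure
import Cfsg.Agent.Lib.helper8.ChevTw1

set_option autoImplicit false

namespace Cfsg.Agent.Lib.helper8

open Cfsg.Lie Cfsg.Lie.ChevalleyDatum

/-- the number of inversions of the inverse permutation -/
theorem h8Inv_inv {n : ℕ} (pos : Fin n → Prop) [DecidablePred pos] (neg : Fin n → Fin n)
    (hneg : ∀ r, pos (neg r) ↔ ¬ pos r) (hnn : ∀ r, neg (neg r) = r)
    (π : Equiv.Perm (Fin n)) (hπ : ∀ r, π (neg r) = neg (π r)) :
    h8Inv pos π⁻¹ = h8Inv pos π := by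
  classical
  have hπi : ∀ r, π⁻¹ (neg r) = neg (π⁻¹ r) := by
    intro r
    apply π.injective
    rw [hπ]
    simp
  unfold h8Inv
  symm
  apply Finset.card_bij (fun r _ => neg (π r))
  · intro r hr
    rw [Finset.mem_filter] at hr ⊢
    refine ⟨Finset.mem_univ _, (hneg _).mpr hr.2.2, ?_⟩
    rw [hπi]
    have : π⁻¹ (π r) = r := by simp
    rw [this]
    intro h
    exact (hneg r).mp h hr.2.1
  · intro a _ b _ h
    have := congrArg neg h
    rw [hnn, hnn] at this
    exact π.injective this
  · intro b hb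
    rw [Finset.mem_filter] at hb
    refine ⟨neg (π⁻¹ b), ?_, ?_⟩
    · rw [Finset.mem_filter]
      refine ⟨Finset.mem_univ _, (hneg _).mpr hb.2.2, ?_⟩
      rw [hπ]
      have : π (π⁻¹ b) = b := by simp
      rw [this]
      intro h
      exact (hneg b).mp h hb.2.1
    · rw [hπ]
      have : π (π⁻¹ b) = b := by simp
      rw [this, hnn]

section
variable (D : ChevalleyDatum) (hB : H8Base.{0} D) (hA : H8ReflAll D) (hBN : H8BN D)
  (hW : H8BN2 D) (hO2 : H8Ord2 D)

include hO2 in
theorem h8negF_negF (r : Fin D.nroots) : h8negF D hW (h8negF D hW r) = r := by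
  apply Fin.ext
  exact (hO2.negneg r.val r.2).2

include hB hBN hW hO2 in
theorem h8Ninv_inv (π : Equiv.Perm (Fin D.nroots)) (hπ : π ∈ h8W D hA) :
    h8Ninv D π⁻¹ = h8Ninv D π := by
  rw [h8Ninv_eq, h8Ninv_eq]
  exact h8Inv_inv _ (h8negF D hW) (fun r => h8negF_pos D hB hBN hW hO2 r)
    (fun r => h8negF_negF D hW hO2 r) π (fun r => h8W_negc D hA hW π hπ r)

theorem h8sPerm_mem_W (i : ℕ) (hi : i < D.rank) : h8sPerm D hA i ∈ h8W D hA := by
  rw [h8W_mem_iff]
  refine ⟨[i], ?_, ?_⟩
  · intro j hj
    rw [List.mem_singleton] at hj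
    rw [hj]
    exact hi
  · unfold h8wPerm
    simp

include hB hBN hO2 in
/-- a simple reflection maps a negative root other than the negative of its root to a negative
root -/
theorem h8sPerm_neg_neg (j : Fin D.rank) (r : Fin D.nroots) (hr : ¬ D.IsPosRoot r.val)
    (hne : r ≠ h8negF D hW (h8simF D hBN j)) : ¬ D.IsPosRoot (h8sPerm D hA j.val r).val := by
  have h1 : D.IsPosRoot (h8negF D hW r).val := (h8negF_pos D hB hBN hW hO2 r).mpr hr
  have h2 : (h8negF D hW r).val ≠ D.simple j.val := by
    intro h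
    apply hne
    have : h8negF D hW r = h8simF D hBN j := Fin.ext h
    rw [← this, h8negF_negF D hW hO2]
  have h3 := (h8spChk_spec D j.val (hBN.sp j.val j.2) _ h1 h2).1
  rw [← h8sPerm_val D hA j.val j.2 (h8negF D hW r),
    h8W_negc D hA hW _ (h8sPerm_mem_W D hA j.val j.2) r] at h3
  exact (h8negF_pos D hB hBN hW hO2 _).mp h3

include hB hBN hO2 in
/-- conjugating an involution of `W` by a simple reflection whose root is made negative, but not
negated, lowers the length by two -/
theorem h8Ninv_conj_desc (π : Equiv.Perm (Fin D.nroots)) (hπ : π ∈ h8W D hA) (hππ : π * π = 1)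
    (j : Fin D.rank) (hneg : ¬ D.IsPosRoot (π (h8simF D hBN j)).val)
    (hne : π (h8simF D hBN j) ≠ h8negF D hW (h8simF D hBN j)) :
    h8Ninv D (h8sPerm D hA j.val * π * h8sPerm D hA j.val) + 2 = h8Ninv D π := by
  have hs := h8sPerm_mem_W D hA j.val j.2
  have h1 := h8Ninv_mul_simple D hB hA hBN hW hO2 π hπ j hneg
  have hρ : π * h8sPerm D hA j.val ∈ h8W D hA := Subgroup.mul_mem _ hπ hs
  have hπinv : π⁻¹ = π := by
    rw [inv_eq_iff_mul_eq_one]
    exact hππ
  have hρinv : (π * h8sPerm D hA j.val)⁻¹ = h8sPerm D hA j.val * π := by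
    rw [mul_inv_rev, hπinv, h8sPerm_inv]
  have hρi : h8sPerm D hA j.val * π ∈ h8W D hA := Subgroup.mul_mem _ hs hπ
  have h2 := h8Ninv_mul_simple D hB hA hBN hW hO2 (h8sPerm D hA j.val * π) hρi j (by
    rw [Equiv.Perm.mul_apply]
    exact h8sPerm_neg_neg D hB hA hBN hW hO2 j _ hneg hne)
  have h3 := h8Ninv_inv D hB hA hBN hW hO2 (π * h8sPerm D hA j.val) hρ
  rw [hρinv] at h3
  omega

theorem h8wPerm_consE (i : ℕ) (w : List ℕ) :
    h8wPerm D hA (i :: w) = h8sPerm D hA i * h8wPerm D hA w := by
  unfold h8wPerm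
  rw [List.map_cons, List.prod_cons]

/-- a product of reflections fixing a root fixes it -/
theorem h8wPerm_fix (J : List ℕ) (r : Fin D.nroots) (hfix : ∀ j ∈ J, h8sPerm D hA j r = r) :
    h8wPerm D hA J r = r := by
  induction J with
  | nil => rfl
  | cons i J ih =>
    rw [h8wPerm_consE, Equiv.Perm.mul_apply, ih (fun j hj => hfix j (List.mem_cons_of_mem _ hj)),
      hfix i List.mem_cons_self]

theorem h8wPerm_mem_W (J : List (Fin D.rank)) : h8wPerm D hA (J.map Fin.val) ∈ h8W D hA := by
  rw [h8W_mem_iff]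
  refine ⟨J.map Fin.val, ?_, rfl⟩
  intro i hi
  rw [List.mem_map] at hi
  obtain ⟨j, _, rfl⟩ := hi
  exact j.2

include hW in
/-- a product of pairwise orthogonal simple reflections negates each of their roots -/
theorem h8wPerm_orth_neg (J : List (Fin D.rank)) (hnd : J.Nodup)
    (horth : ∀ i ∈ J, ∀ j ∈ J, i ≠ j → h8sPerm D hA i.val (h8simF D hBN j) = h8simF D hBN j)
    (j : Fin D.rank) (hj : j ∈ J) :
    h8wPerm D hA (J.map Fin.val) (h8simF D hBN j) = h8negF D hW (h8simF D hBN j) := by
  induction J with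
  | nil => cases hj
  | cons i J ih =>
    rw [List.nodup_cons] at hnd
    have horth' : ∀ a ∈ J, ∀ b ∈ J, a ≠ b →
        h8sPerm D hA a.val (h8simF D hBN b) = h8simF D hBN b :=
      fun a ha b hb hab => horth a (List.mem_cons_of_mem _ ha) b (List.mem_cons_of_mem _ hb) hab
    rw [List.map_cons, h8wPerm_consE, Equiv.Perm.mul_apply]
    rcases List.mem_cons.mp hj with rfl | hj'
    · rw [h8wPerm_fix D hA (J.map Fin.val) (h8simF D hBN j) (by
        intro a ha
        rw [List.mem_map] at ha
        obtain ⟨b, hb, rfl⟩ := ha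
        exact horth b (List.mem_cons_of_mem _ hb) j List.mem_cons_self (by
          rintro rfl
          exact hnd.1 hb))]
      exact h8sPerm_simF D hA hBN hW j
    · rw [ih hnd.2 horth' hj', h8W_negc D hA hW _ (h8sPerm_mem_W D hA i.val i.2),
        horth i List.mem_cons_self j (List.mem_cons_of_mem _ hj') (by
          rintro rfl
          exact hnd.1 hj')]

/-- a product of pairwise orthogonal simple reflections keeps the other positive roots
positive -/
theorem h8wPerm_orth_pos (J : List (Fin D.rank)) (hnd : J.Nodup)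
    (horth : ∀ i ∈ J, ∀ j ∈ J, i ≠ j → h8sPerm D hA i.val (h8simF D hBN j) = h8simF D hBN j)
    (β : Fin D.nroots) (hβ : D.IsPosRoot β.val) (hne : ∀ j ∈ J, β ≠ h8simF D hBN j) :
    D.IsPosRoot (h8wPerm D hA (J.map Fin.val) β).val ∧
      ∀ j ∈ J, h8wPerm D hA (J.map Fin.val) β ≠ h8simF D hBN j := by
  induction J with
  | nil =>
    refine ⟨hβ, ?_⟩
    intro j hj
    cases hj
  | cons i J ih =>
    rw [List.nodup_cons] at hnd
    have horth' : ∀ a ∈ J, ∀ b ∈ J, a ≠ b →
        h8sPerm D hA a.val (h8simF D hBN b) = h8simF D hBN b :=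
      fun a ha b hb hab => horth a (List.mem_cons_of_mem _ ha) b (List.mem_cons_of_mem _ hb) hab
    obtain ⟨h1, h2⟩ := ih hnd.2 horth' (fun j hj => hne j (List.mem_cons_of_mem _ hj))
    rw [List.map_cons, h8wPerm_consE, Equiv.Perm.mul_apply]
    set γ := h8wPerm D hA (J.map Fin.val) β with hγ
    have hfixi : h8wPerm D hA (J.map Fin.val) (h8simF D hBN i) = h8simF D hBN i :=
      h8wPerm_fix D hA (J.map Fin.val) (h8simF D hBN i) (by
        intro a ha
        rw [List.mem_map] at ha
        obtain ⟨b, hb, rfl⟩ := ha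
        exact horth b (List.mem_cons_of_mem _ hb) i List.mem_cons_self (by
          rintro rfl
          exact hnd.1 hb))
    have hγi : γ ≠ h8simF D hBN i := by
      intro h
      apply hne i List.mem_cons_self
      apply (h8wPerm D hA (J.map Fin.val)).injective
      rw [hfixi, ← h]
    have h3 := h8spChk_spec D i.val (hBN.sp i.val i.2) γ.val h1
      (fun h => hγi (Fin.ext h))
    rw [← h8sPerm_val D hA i.val i.2 γ] at h3
    refine ⟨h3.1, ?_⟩
    intro j hj
    rcases List.mem_cons.mp hj with rfl | hj'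
    · intro h
      exact h3.2 (congrArg Fin.val h)
    · intro h
      apply h2 j hj'
      have e : h8sPerm D hA i.val (h8sPerm D hA i.val γ) = γ :=
        h8invol_apply _ (h8sPerm_inv D hA i.val) γ
      rw [← e, h, horth i List.mem_cons_self j (List.mem_cons_of_mem _ hj') (by
        rintro rfl
        exact hnd.1 hj')]

include hB hW hO2 in
/-- an element of `W` negating a set of pairwise orthogonal simple roots and keeping the other
simple roots positive is the product of the corresponding reflections -/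
theorem h8W_indep_struct (π : Equiv.Perm (Fin D.nroots)) (hπ : π ∈ h8W D hA)
    (J : List (Fin D.rank)) (hnd : J.Nodup)
    (horth : ∀ i ∈ J, ∀ j ∈ J, i ≠ j → h8sPerm D hA i.val (h8simF D hBN j) = h8simF D hBN j)
    (h1 : ∀ j ∈ J, π (h8simF D hBN j) = h8negF D hW (h8simF D hBN j))
    (h2 : ∀ t : Fin D.rank, t ∉ J → D.IsPosRoot (π (h8simF D hBN t)).val) :
    π = h8wPerm D hA (J.map Fin.val).reverse := by
  have hwJ := h8wPerm_mem_W D hA J
  have hv := h8W_simple_pos D hB hA hBN hW hO2 (h8wPerm D hA (J.map Fin.val) * π)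
    (Subgroup.mul_mem _ hwJ hπ) (by
      intro t
      rw [Equiv.Perm.mul_apply]
      by_cases ht : t ∈ J
      · rw [h1 t ht, h8W_negc D hA hW _ hwJ, h8wPerm_orth_neg D hA hBN hW J hnd horth t ht,
          h8negF_negF D hW hO2]
        exact h8simple_pos D hBN t.val t.2
      · refine (h8wPerm_orth_pos D hA hBN J hnd horth _ (h2 t ht) ?_).1
        intro j hj h
        have e1 : π (h8negF D hW (h8simF D hBN j)) = h8simF D hBN j := by
          rw [h8W_negc D hA hW π hπ, h1 j hj, h8negF_negF D hW hO2]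
        have e2 : h8negF D hW (h8simF D hBN j) = h8simF D hBN t := by
          apply π.injective
          rw [e1, h]
        have e3 := h8simple_pos D hBN t.val t.2
        have e4 : D.IsPosRoot (h8negF D hW (h8simF D hBN j)).val := by
          rw [e2]
          exact e3
        exact (h8negF_pos D hB hBN hW hO2 _).mp e4 (h8simple_pos D hBN j.val j.2))
  rw [← h8wPerm_inv]
  exact eq_inv_of_mul_eq_one_right hv

end

end Cfsg.Agent.Lib.helper8
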