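import Mathlib
import Cfsg.Agent.Lib.helper3.S5953.Defs
import Cfsg.Agent.Lib.Lead.HermCount
import Cfsg.Prelude.Def_LieClassical

set_option autoImplicit false
set_option linter.unusedVariables false
set_option linter.unusedSectionVars false

/-!
# Project S5953, row A7 (helper8): `n1_gen` verbatim.
-/

namespace Cfsg.Agent.Lib.helper3.S5953

open Polynomial Module

theorem n1_gen {F : Type*} [Field F] [Fintype F] {q : ℕ} (hF : Fintype.card F = q ^ 2) :
    ∃ g : F, orderOf g = q + 1 := by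
  classical
  have hq2 : 2 ≤ q := by
    by_contra h
    have hq : q = 0 ∨ q = 1 := by omega
    have := Fintype.one_lt_card (α := F)
    rcases hq with rfl | rfl <;> omega
  obtain ⟨ζ, hζ⟩ := IsCyclic.exists_generator (α := Fˣ)
  have hord : orderOf ζ = q ^ 2 - 1 := by
    rw [orderOf_eq_card_of_forall_mem_zpowers hζ, Nat.card_eq_fintype_card, Fintype.card_units, hF]
  have hfac : q ^ 2 - 1 = (q - 1) * (q + 1) := by
    obtain ⟨t, rfl⟩ : ∃ t, q = t + 1 := ⟨q - 1, by omega⟩
    simp only [Nat.add_sub_cancel]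
    have : (t + 1) ^ 2 = t * (t + 1 + 1) + 1 := by ring
    rw [this, Nat.add_sub_cancel]
  refine ⟨((ζ ^ (q - 1) : Fˣ) : F), ?_⟩
  rw [orderOf_units, orderOf_pow, hord, hfac]
  have hg : Nat.gcd ((q - 1) * (q + 1)) (q - 1) = q - 1 := Nat.gcd_eq_right (dvd_mul_right _ _)
  rw [hg, Nat.mul_div_cancel_left _ (by omega : 0 < q - 1)]

end Cfsg.Agent.Lib.helper3.S5953
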