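import Cfsg.Agent.Lib.helper8.TOG1core

/-!
# TO G1: all Siegel elements of `A`-type (verbatim `sgA_all`), with own copies (prefix `tog1_`) of the
three SGALG facts it needs
-/

set_option autoImplicit false

namespace Cfsg.Agent.Lib.helper7.TO

open Matrix Cfsg.Agent.Lib.helper7.TP Cfsg.Agent.Lib.Helper28.SympAbs
open scoped Kronecker

variable {a b : ℕ} {F : Type*} [Field F]

/-- conjugation of a Siegel element by an isometry (own copy of SGALG4). -/
theorem tog1_conj (C : Ctx a b F) (k t : Matrix.GeneralLinearGroup (Fin a × Fin b) F) (hk : k ∈ C.G)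
    (p v : Fin a × Fin b → F) (c : F) (ht : C.IsSgV t p v c) :
    C.IsSgV (k * t * k⁻¹) ((k : Matrix (Fin a × Fin b) (Fin a × Fin b) F) *ᵥ p)
      ((k : Matrix (Fin a × Fin b) (Fin a × Fin b) F) *ᵥ v) c := by
  intro x
  rw [Units.val_mul, Units.val_mul, ← Matrix.mulVec_mulVec, ← Matrix.mulVec_mulVec, ht]
  unfold Ctx.sgv
  rw [Matrix.mulVec_add, Ctx.mulVec_inv_mulVec, Matrix.mulVec_smul, Matrix.mulVec_sub,
    Matrix.mulVec_smul, Matrix.mulVec_smul, C.f_symm p, C.G_f_inv hk, C.f_symm _ (_ *ᵥ p),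
    C.f_symm v, C.G_f_inv hk, C.f_symm _ (_ *ᵥ v)]

/-- scaling the first vector (own copy of SGALG7). -/
theorem tog1_smul_left (C : Ctx a b F) (t : Matrix.GeneralLinearGroup (Fin a × Fin b) F)
    (p v : Fin a × Fin b → F) (c l : F) : C.IsSgV t (l • p) v c ↔ C.IsSgV t p v (l * c) := by
  have key : ∀ x, C.sgv (l • p) v c x = C.sgv p v (l * c) x := by
    intro x
    unfold Ctx.sgv
    rw [C.hf.smul_left]
    congr 1
    rw [smul_sub, smul_sub]
    simp only [smul_smul]
    congr 1 <;> congr 1 <;> ring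
  constructor
  · intro h x
    rw [h x, key]
  · intro h x
    rw [h x, key]

/-- the Siegel element of a dependent pair, or with `c = 0`, is trivial (own copy of SGALG8). -/
theorem tog1_eq_one (C : Ctx a b F) (t : Matrix.GeneralLinearGroup (Fin a × Fin b) F)
    (p v : Fin a × Fin b → F) (c : F) (ht : C.IsSgV t p v c)
    (h : c = 0 ∨ p = 0 ∨ ∃ l : F, v = l • p) : t = 1 := by
  apply Units.ext
  rw [Matrix.ext_iff_mulVec]
  intro x
  rw [ht x, Units.val_one, Matrix.one_mulVec]
  unfold Ctx.sgv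
  rcases h with h | h | ⟨l, h⟩
  · rw [h, zero_smul, add_zero]
  · rw [h, C.f_zero_left, zero_smul, smul_zero, sub_zero, smul_zero, add_zero]
  · rw [h, C.hf.smul_left, smul_smul, mul_comm, sub_self, smul_zero, add_zero]

set_option linter.unusedVariables false in
/-- G1: all Siegel elements of `A`-type (`T1` is transitive on the configurations). -/
theorem sgA_all (C : Ctx a b F) (ha : 2 ≤ a) (hb : 4 ≤ b)
    (M : Subgroup (Matrix.GeneralLinearGroup (Fin a × Fin b) F)) (hT : C.T1 ≤ M) (h : C.SgA M)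
    (u : Fin a → F) (w z : Fin b → F) (c : F) (hwz : C.f₂ w z = 0)
    (t : Matrix.GeneralLinearGroup (Fin a × Fin b) F)
    (ht : C.IsSgV t (ten u w) (ten u z) c) : t ∈ M :=
  tog1_core C (tog1_conj C) (tog1_smul_left C) (tog1_eq_one C) M hT h u w z c hwz t ht

end Cfsg.Agent.Lib.helper7.TO
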