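import Mathlib
import Cfsg.Agent.Lib.helper8.ONECM2A

set_option autoImplicit false
set_option linter.unusedVariables false
set_option linter.unusedSectionVars false

/-!
# Project ONE, row CM2 (helper8), part B: the value count in `⟨v₁⟩ ⟂ N₁`.
-/

namespace Cfsg.Agent.Lib.Helper18.ONE

open Polynomial Module Cfsg.Agent.Lib.Helper13.S5955 Cfsg.Agent.Lib.helper15.S5972
open Cfsg.Agent.Lib.Helper16.OSemi

/-- membership in the orthogonal of a line -/
theorem onecm2_mem_orth {F : Type*} [Field F] {V : Type*} [AddCommGroup V] [Module F V]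
    (B : LinearMap.BilinForm F V) (v₁ w : V) :
    w ∈ B.orthogonal (Submodule.span F {v₁}) ↔ B v₁ w = 0 := by
  rw [LinearMap.BilinForm.mem_orthogonal_iff]
  constructor
  · intro h
    exact h v₁ (Submodule.mem_span_singleton_self v₁)
  · intro h n hn
    obtain ⟨c, rfl⟩ := Submodule.mem_span_singleton.mp hn
    show B (c • v₁) w = 0
    rw [map_smul, LinearMap.smul_apply, h, smul_zero]

/-- the decomposition `N = ⟨v₁⟩ ⟂ N₁` as a bijection -/
noncomputable def onecm2_split {F : Type*} [Field F] {V : Type*} [AddCommGroup V] [Module F V]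
    (B : LinearMap.BilinForm F V) (N : Submodule F V) (v₁ : V) (hv₁ : v₁ ∈ N) (α : F) (hα : α ≠ 0)
    (hv₁α : B v₁ v₁ = α) :
    (↥(N ⊓ B.orthogonal (Submodule.span F {v₁})) × F) ≃ ↥N where
  toFun p := ⟨p.2 • v₁ + (p.1 : V), N.add_mem (N.smul_mem _ hv₁) p.1.2.1⟩
  invFun v := (⟨(v : V) - (B v₁ (v : V) / α) • v₁,
    ⟨N.sub_mem v.2 (N.smul_mem _ hv₁), by
      show _ ∈ B.orthogonal (Submodule.span F {v₁})
      rw [onecm2_mem_orth, map_sub, map_smul, hv₁α, smul_eq_mul, div_mul_cancel₀ _ hα, sub_self]⟩⟩,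
    B v₁ (v : V) / α)
  left_inv p := by
    have h0 : B v₁ (p.1 : V) = 0 := (onecm2_mem_orth B v₁ _).mp p.1.2.2
    have h1 : B v₁ (p.2 • v₁ + (p.1 : V)) / α = p.2 := by
      rw [map_add, map_smul, hv₁α, h0, add_zero, smul_eq_mul, mul_div_assoc, div_self hα, mul_one]
    apply Prod.ext
    · apply Subtype.ext
      show p.2 • v₁ + (p.1 : V) - (B v₁ (p.2 • v₁ + (p.1 : V)) / α) • v₁ = (p.1 : V)
      rw [h1]; abel
    · exact h1
  right_inv v := by
    apply Subtype.ext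
    show (B v₁ (v : V) / α) • v₁ + ((v : V) - (B v₁ (v : V) / α) • v₁) = (v : V)
    abel

theorem onecm2_split_val {F : Type*} [Field F] {V : Type*} [AddCommGroup V] [Module F V]
    (B : LinearMap.BilinForm F V) (hsymm : ∀ u v, B u v = B v u) (N : Submodule F V) (v₁ : V)
    (hv₁ : v₁ ∈ N) (α : F) (hα : α ≠ 0) (hv₁α : B v₁ v₁ = α)
    (p : ↥(N ⊓ B.orthogonal (Submodule.span F {v₁})) × F) :
    B ((onecm2_split B N v₁ hv₁ α hα hv₁α p : ↥N) : V) ((onecm2_split B N v₁ hv₁ α hα hv₁α p : ↥N) : V) =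
      B (p.1 : V) (p.1 : V) + α * p.2 ^ 2 := by
  have h0 : B v₁ (p.1 : V) = 0 := (onecm2_mem_orth B v₁ _).mp p.1.2.2
  show B (p.2 • v₁ + (p.1 : V)) (p.2 • v₁ + (p.1 : V)) = _
  simp only [map_add, map_smul, LinearMap.add_apply, LinearMap.smul_apply, smul_eq_mul]
  rw [hsymm (p.1 : V) v₁, h0, hv₁α]
  ring

/-- value count in `N = ⟨v₁⟩ ⟂ N₁`, `N₁` of dimension `2m` and type `t`: `q · #{v ∈ N : B v v = α} = q^(2m+1) + t q^(m+1)`. -/
theorem onecm2_val_odd {F : Type*} [Field F] [Fintype F] (h2 : (2 : F) ≠ 0)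
    {V : Type*} [AddCommGroup V] [Module F V] [FiniteDimensional F V]
    (B : LinearMap.BilinForm F V) (hsymm : ∀ u v, B u v = B v u)
    (N : Submodule F V) (v₁ : V) (hv₁ : v₁ ∈ N) (α : F) (hα : α ≠ 0) (hv₁α : B v₁ v₁ = α)
    (hN₁ : SND B (N ⊓ B.orthogonal (Submodule.span F {v₁})))
    (m : ℕ) (hm : 1 ≤ m) (hdim : finrank F ↥(N ⊓ B.orthogonal (Submodule.span F {v₁})) = 2 * m)
    (t : ℤ) (ht : OTy B (N ⊓ B.orthogonal (Submodule.span F {v₁})) t) :
    (Fintype.card F : ℤ) * (Nat.card {v : ↥N // B (v : V) (v : V) = α} : ℤ) =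
      (Fintype.card F : ℤ) ^ (2 * m + 1) + t * (Fintype.card F : ℤ) ^ (m + 1) := by
  classical
  set N₁ : Submodule F V := N ⊓ B.orthogonal (Submodule.span F {v₁}) with hN₁def
  have hfinV : Finite V := Module.finite_of_finite F
  have hfinN₁ : Finite ↥N₁ := inferInstance
  -- transport the count
  have h1 : Nat.card {v : ↥N // B (v : V) (v : V) = α} =
      cnt (fun p : ↥N₁ × F => B (p.1 : V) (p.1 : V) + α * p.2 ^ 2) α := by
    have := cnt_congr (onecm2_split B N v₁ hv₁ α hα hv₁α) (fun v : ↥N => B (v : V) (v : V))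
      (fun p : ↥N₁ × F => B (p.1 : V) (p.1 : V) + α * p.2 ^ 2)
      (fun p => onecm2_split_val B hsymm N v₁ hv₁ α hα hv₁α p) α
    rw [this]; rfl
  have h3 := cnt_prod (fun w : ↥N₁ => B (w : V) (w : V)) (fun x : F => α * x ^ 2) α
  have hZ := onecm2_val_zero B N₁ m hdim t ht
  have hC : ∀ c : F, c ≠ 0 → (Fintype.card F : ℤ) * (Nat.card {w : ↥N₁ // B (w : V) (w : V) = c} : ℤ) =
      (Fintype.card F : ℤ) ^ (2 * m) - t * (Fintype.card F : ℤ) ^ m :=
    fun c hc => onecm2_val_even h2 B hsymm N₁ hN₁ m hm hdim t ht c hc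
  -- the sum over `x`
  have h4 : ∀ x : F, (Fintype.card F : ℤ) * (cnt (fun w : ↥N₁ => B (w : V) (w : V)) (α - α * x ^ 2) : ℤ) =
      if x ^ 2 = 1 then (Fintype.card F : ℤ) ^ (2 * m) +
          t * ((Fintype.card F : ℤ) ^ (m + 1) - (Fintype.card F : ℤ) ^ m)
        else (Fintype.card F : ℤ) ^ (2 * m) - t * (Fintype.card F : ℤ) ^ m := by
    intro x
    by_cases hx : x ^ 2 = 1
    · rw [if_pos hx, hx, mul_one, sub_self]
      exact hZ
    · rw [if_neg hx]
      apply hC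
      intro h
      apply hx
      have : α * (1 - x ^ 2) = 0 := by rw [← h]; ring
      rcases mul_eq_zero.mp this with h' | h'
      · exact absurd h' hα
      · exact (sub_eq_zero.mp h').symm
  rw [h1, h3]
  push_cast
  rw [Finset.mul_sum, Finset.sum_congr rfl (fun x _ => h4 x), Finset.sum_ite, Finset.sum_const,
    Finset.sum_const, onecm2_card_sq_one h2]
  have h5 : (Finset.univ.filter (fun x : F => ¬ x ^ 2 = 1)).card = Fintype.card F - 2 := by
    have := Finset.card_filter_add_card_filter_not (s := (Finset.univ : Finset F))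
      (fun x : F => x ^ 2 = 1)
    rw [onecm2_card_sq_one h2, Finset.card_univ] at this
    omega
  have hq2 : 2 ≤ Fintype.card F := Fintype.one_lt_card
  rw [h5]
  simp only [nsmul_eq_mul]
  push_cast [Nat.cast_sub hq2]
  ring

end Cfsg.Agent.Lib.Helper18.ONE
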