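import Mathlib
import Cfsg.Agent.Lib.helper8.ONECM2B

set_option autoImplicit false
set_option linter.unusedVariables false
set_option linter.unusedSectionVars false

/-!
# Project ONE, row CM2 (helper8), part C: orthogonal pairs of prescribed norms in an odd-dimensional space.
-/

namespace Cfsg.Agent.Lib.Helper18.ONE

open Polynomial Module Cfsg.Agent.Lib.Helper13.S5955 Cfsg.Agent.Lib.helper15.S5972
open Cfsg.Agent.Lib.Helper16.OSemi

/-- orthogonal pairs `(v₁, v₂)` in `N` with `B v₁ v₁ = α`, `B v₂ v₂ = β` -/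
abbrev onecm2_T {F : Type*} [Field F] {V : Type*} [AddCommGroup V] [Module F V]
    (B : LinearMap.BilinForm F V) (N : Submodule F V) (α β : F) : Type _ :=
  {p : V × V // p.1 ∈ N ∧ p.2 ∈ N ∧ B p.1 p.1 = α ∧ B p.2 p.2 = β ∧ B p.1 p.2 = 0}

/-- pairs fibred over the first vector -/
noncomputable def onecm2_sigma {F : Type*} [Field F] {V : Type*} [AddCommGroup V] [Module F V]
    (B : LinearMap.BilinForm F V) (N : Submodule F V) (α β : F) :
    onecm2_T B N α β ≃ Σ v₁ : {v : ↥N // B (v : V) (v : V) = α},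
      {w : ↥(N ⊓ B.orthogonal (Submodule.span F {((v₁ : ↥N) : V)})) // B (w : V) (w : V) = β} where
  toFun t := ⟨⟨⟨t.1.1, t.2.1⟩, t.2.2.2.1⟩,
    ⟨⟨t.1.2, ⟨t.2.2.1, (onecm2_mem_orth B _ _).mpr t.2.2.2.2.2⟩⟩, t.2.2.2.2.1⟩⟩
  invFun s := ⟨(s.1.1.1, s.2.1.1), s.1.1.2, s.2.1.2.1, s.1.2, s.2.2,
    (onecm2_mem_orth B _ _).mp s.2.1.2.2⟩
  left_inv t := rfl
  right_inv s := rfl

/-- the perp of a nonsingular vector in a nondegenerate space -/
theorem onecm2_perp_facts {F : Type*} [Field F] [Fintype F] (h2 : (2 : F) ≠ 0)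
    {V : Type*} [AddCommGroup V] [Module F V] [FiniteDimensional F V]
    (B : LinearMap.BilinForm F V) (hsymm : ∀ u v, B u v = B v u)
    (N : Submodule F V) (hN : SND B N) (v₁ : V) (hv₁ : v₁ ∈ N) (hv₁0 : B v₁ v₁ ≠ 0) :
    SND B (N ⊓ B.orthogonal (Submodule.span F {v₁})) ∧
      finrank F ↥(N ⊓ B.orthogonal (Submodule.span F {v₁})) + 1 = finrank F N := by
  have hne : v₁ ≠ 0 := by
    intro h; apply hv₁0; rw [h]; simp
  have hU : SND B (Submodule.span F {v₁}) := by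
    intro u hu h
    obtain ⟨c, rfl⟩ := Submodule.mem_span_singleton.mp hu
    have := h v₁ (Submodule.mem_span_singleton_self v₁)
    rw [map_smul, LinearMap.smul_apply, smul_eq_mul] at this
    rcases mul_eq_zero.mp this with h' | h'
    · rw [h', zero_smul]
    · exact absurd h' hv₁0
  have hUN : Submodule.span F {v₁} ≤ N := by
    rw [Submodule.span_singleton_le_iff_mem]; exact hv₁
  obtain ⟨_, _, h3, _, h5⟩ := nd_perp_symm B hsymm N (Submodule.span F {v₁}) hN hUN hU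
  rw [finrank_span_singleton hne] at h5
  exact ⟨h3, h5⟩

/-- the number of orthogonal pairs of prescribed nonzero norms in a nondegenerate space of dimension `2a + 1`. -/
theorem onecm2_pairs_total {F : Type*} [Field F] [Fintype F] (h2 : (2 : F) ≠ 0)
    {V : Type*} [AddCommGroup V] [Module F V] [FiniteDimensional F V]
    (B : LinearMap.BilinForm F V) (hsymm : ∀ u v, B u v = B v u)
    (N : Submodule F V) (hN : SND B N) (a : ℕ) (ha : 1 ≤ a) (hdim : finrank F N = 2 * a + 1)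
    (α β : F) (hα : α ≠ 0) (hβ : β ≠ 0) :
    (Fintype.card F : ℤ) ^ 2 * (Nat.card (onecm2_T B N α β) : ℤ) =
      (Fintype.card F : ℤ) ^ (2 * a + 1) * ((Fintype.card F : ℤ) ^ (2 * a) - 1) := by
  classical
  have hfinV : Finite V := Module.finite_of_finite F
  have hq0 : (Fintype.card F : ℤ) ≠ 0 := by
    have : 0 < Fintype.card F := Fintype.card_pos
    exact_mod_cast this.ne'
  -- data attached to each first vector
  have hdata : ∀ v₁ : {v : ↥N // B (v : V) (v : V) = α},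
      ∃ t : ℤ, (t = 1 ∨ t = -1) ∧
        (Fintype.card F : ℤ) * (Nat.card {v : ↥N // B (v : V) (v : V) = α} : ℤ) =
          (Fintype.card F : ℤ) ^ (2 * a + 1) + t * (Fintype.card F : ℤ) ^ (a + 1) ∧
        (Fintype.card F : ℤ) * (Nat.card {w : ↥(N ⊓ B.orthogonal (Submodule.span F {((v₁ : ↥N) : V)})) //
          B (w : V) (w : V) = β} : ℤ) =
          (Fintype.card F : ℤ) ^ (2 * a) - t * (Fintype.card F : ℤ) ^ a := by
    intro v₁
    have hv0 : B ((v₁ : ↥N) : V) ((v₁ : ↥N) : V) ≠ 0 := by rw [v₁.2]; exact hα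
    obtain ⟨hnd, hfr⟩ := onecm2_perp_facts h2 B hsymm N hN _ v₁.1.2 hv0
    have hfr' : finrank F ↥(N ⊓ B.orthogonal (Submodule.span F {((v₁ : ↥N) : V)})) = 2 * a := by omega
    obtain ⟨t, ht1, ht⟩ : ∃ t : ℤ, (t = 1 ∨ t = -1) ∧
        OTy B (N ⊓ B.orthogonal (Submodule.span F {((v₁ : ↥N) : V)})) t := by
      rcases ty_class h2 B hsymm _ hnd (by rw [hfr']; exact even_two_mul a) with ⟨_, h⟩ | ⟨_, h⟩
      · exact ⟨1, Or.inl rfl, h⟩
      · exact ⟨-1, Or.inr rfl, h⟩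
    exact ⟨t, ht1, onecm2_val_odd h2 B hsymm N _ v₁.1.2 α hα v₁.2 hnd a ha hfr' t ht,
      onecm2_val_even h2 B hsymm _ hnd a ha hfr' t ht β hβ⟩
  -- a first vector exists
  obtain ⟨u, huN, huα⟩ := repr_symm h2 B hsymm N hN (by omega) α hα
  obtain ⟨t₀, ht₀, hc₀, _⟩ := hdata ⟨⟨u, huN⟩, huα⟩
  have hpow : (Fintype.card F : ℤ) ^ (a + 1) ≠ 0 := pow_ne_zero _ hq0
  have hinner : ∀ v₁ : {v : ↥N // B (v : V) (v : V) = α},
      (Fintype.card F : ℤ) * (Nat.card {w : ↥(N ⊓ B.orthogonal (Submodule.span F {((v₁ : ↥N) : V)})) //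
          B (w : V) (w : V) = β} : ℤ) =
          (Fintype.card F : ℤ) ^ (2 * a) - t₀ * (Fintype.card F : ℤ) ^ a := by
    intro v₁
    obtain ⟨t, _, hc, hi⟩ := hdata v₁
    have : t = t₀ := by
      have h : t * (Fintype.card F : ℤ) ^ (a + 1) = t₀ * (Fintype.card F : ℤ) ^ (a + 1) := by
        linarith
      exact mul_right_cancel₀ hpow h
    rw [← this]; exact hi
  -- the total
  have hfinN : Fintype {v : ↥N // B (v : V) (v : V) = α} := Fintype.ofFinite _
  have hcard : Nat.card (onecm2_T B N α β) =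
      ∑ v₁ : {v : ↥N // B (v : V) (v : V) = α},
        Nat.card {w : ↥(N ⊓ B.orthogonal (Submodule.span F {((v₁ : ↥N) : V)})) //
          B (w : V) (w : V) = β} := by
    rw [Nat.card_congr (onecm2_sigma B N α β), Nat.card_sigma]
  have hsum : (Fintype.card F : ℤ) * (Nat.card (onecm2_T B N α β) : ℤ) =
      (Nat.card {v : ↥N // B (v : V) (v : V) = α} : ℤ) *
        ((Fintype.card F : ℤ) ^ (2 * a) - t₀ * (Fintype.card F : ℤ) ^ a) := by
    rw [hcard]
    push_cast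
    rw [Finset.mul_sum, Finset.sum_congr rfl (fun v₁ _ => hinner v₁), Finset.sum_const,
      Finset.card_univ, nsmul_eq_mul, Nat.card_eq_fintype_card]
  have ht₀sq : t₀ * t₀ = 1 := by rcases ht₀ with h | h <;> rw [h] <;> norm_num
  have e1 : (Fintype.card F : ℤ) ^ (2 * a + 1) = (Fintype.card F : ℤ) * ((Fintype.card F : ℤ) ^ a) ^ 2 := by
    rw [pow_succ, mul_comm 2 a, pow_mul]; ring
  have e2 : (Fintype.card F : ℤ) ^ (a + 1) = (Fintype.card F : ℤ) * (Fintype.card F : ℤ) ^ a := by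
    rw [pow_succ]; ring
  have e3 : (Fintype.card F : ℤ) ^ (2 * a) = ((Fintype.card F : ℤ) ^ a) ^ 2 := by
    rw [mul_comm 2 a, pow_mul]
  rw [e1, e2] at hc₀
  rw [e3] at hsum
  rw [e1, e3]
  generalize (Fintype.card F : ℤ) = q at *
  generalize q ^ a = A at *
  generalize (Nat.card (onecm2_T B N α β) : ℤ) = T at *
  generalize (Nat.card {v : ↥N // B (v : V) (v : V) = α} : ℤ) = C at *
  calc q ^ 2 * T = q * (q * T) := by ring
    _ = (q * C) * (A ^ 2 - t₀ * A) := by rw [hsum]; ring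
    _ = (q * A ^ 2 + t₀ * (q * A)) * (A ^ 2 - t₀ * A) := by rw [hc₀]
    _ = q * A ^ 2 * (A ^ 2 - (t₀ * t₀)) + (t₀ * t₀ - 1) * 0 := by ring
    _ = q * A ^ 2 * (A ^ 2 - 1) := by rw [ht₀sq]; ring

end Cfsg.Agent.Lib.Helper18.ONE
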