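import Mathlib
import Cfsg.Agent.Lib.helper8.ONECM2C

set_option autoImplicit false
set_option linter.unusedVariables false
set_option linter.unusedSectionVars false

/-!
# Project ONE, row CM2 (helper8), part D: orthogonal pairs of prescribed norms in an anisotropic plane.
-/

namespace Cfsg.Agent.Lib.Helper18.ONE

open Polynomial Module Cfsg.Agent.Lib.Helper13.S5955 Cfsg.Agent.Lib.helper15.S5972
open Cfsg.Agent.Lib.Helper16.OSemi

theorem onecm2_nonsq_mul {F : Type*} [Field F] [Fintype F] (a b : F) (ha : ¬ IsSquare a)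
    (hb : ¬ IsSquare b) : IsSquare (a * b) := by
  classical
  have ha0 : a ≠ 0 := fun h => ha (by rw [h]; exact IsSquare.zero)
  have hb0 : b ≠ 0 := fun h => hb (by rw [h]; exact IsSquare.zero)
  rw [← quadraticChar_one_iff_isSquare (mul_ne_zero ha0 hb0), map_mul,
    quadraticChar_neg_one_iff_not_isSquare.mpr ha, quadraticChar_neg_one_iff_not_isSquare.mpr hb]
  norm_num

/-- in an anisotropic plane `P ∋ v₁`, `B v₁ v₁ = α`: exactly two `w ∈ P ⊓ v₁^⊥` have `B w w = β` (`-(α β)` a non-square). -/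
theorem onecm2_line_two {F : Type*} [Field F] [Fintype F] (h2 : (2 : F) ≠ 0)
    {V : Type*} [AddCommGroup V] [Module F V] [FiniteDimensional F V]
    (B : LinearMap.BilinForm F V) (hsymm : ∀ u v, B u v = B v u)
    (P : Submodule F V) (hP : SND B P) (hPdim : finrank F P = 2) (hPty : OTy B P (-1))
    (α β : F) (hα : α ≠ 0) (hβ : β ≠ 0) (hns : ¬ IsSquare (-(α * β)))
    (v₁ : V) (hv₁ : v₁ ∈ P) (hv₁α : B v₁ v₁ = α) :
    Nat.card {w : ↥(P ⊓ B.orthogonal (Submodule.span F {v₁})) // B (w : V) (w : V) = β} = 2 := by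
  classical
  have hv0 : B v₁ v₁ ≠ 0 := by rw [hv₁α]; exact hα
  obtain ⟨hnd, hfr⟩ := onecm2_perp_facts h2 B hsymm P hP v₁ hv₁ hv0
  set P₁ : Submodule F V := P ⊓ B.orthogonal (Submodule.span F {v₁}) with hP₁
  have hfr' : finrank F ↥P₁ = 1 := by omega
  obtain ⟨w₀, hw₀⟩ : ∃ w₀ : ↥P₁, w₀ ≠ 0 :=
    Module.finrank_pos_iff_exists_ne_zero.mp (by rw [hfr']; exact Nat.one_pos)
  have hall : ∀ w : ↥P₁, ∃ c : F, c • w₀ = w := (finrank_eq_one_iff_of_nonzero' w₀ hw₀).mp hfr'
  set μ : F := B (w₀ : V) (w₀ : V) with hμ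
  have hμ0 : μ ≠ 0 := by
    intro h
    apply hw₀
    apply Subtype.ext
    apply hnd _ w₀.2
    intro v hv
    obtain ⟨c, hc⟩ := hall ⟨v, hv⟩
    have : v = c • (w₀ : V) := by
      have := congrArg (fun z : ↥P₁ => (z : V)) hc
      simpa using this.symm
    rw [this, map_smul, ← hμ, h, smul_zero]
  have h12 : B v₁ (w₀ : V) = 0 := (onecm2_mem_orth B v₁ _).mp w₀.2.2
  -- the discriminant
  have hns' : ¬ IsSquare (-(α * μ)) := by
    intro hsq
    obtain ⟨_, hsp2, hsq1, _⟩ := plane_ty h2 B hsymm v₁ (w₀ : V) h12 hv0 hμ0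
    have hle : Submodule.span F ({v₁, (w₀ : V)} : Set V) ≤ P := by
      rw [Submodule.span_le]
      intro z hz
      rcases hz with rfl | hz
      · exact hv₁
      · rw [Set.mem_singleton_iff] at hz; rw [hz]; exact w₀.2.1
    have heq : Submodule.span F ({v₁, (w₀ : V)} : Set V) = P :=
      Submodule.eq_of_le_of_finrank_eq hle (by rw [hsp2, hPdim])
    have h1 := hsq1 (by rw [hv₁α]; exact hsq)
    rw [heq] at h1
    exact ty_uniq B P h1 hPty
  obtain ⟨k, hk⟩ := onecm2_nonsq_mul _ _ hns hns'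
  set l : F := k / (α * μ) with hl
  have hlμ : l ^ 2 * μ = β := by
    rw [hl]
    field_simp
    linear_combination (-1 : F) * hk
  have hl0 : l ≠ 0 := by
    intro h; rw [h] at hlμ; apply hβ; rw [← hlμ]; ring
  have hval : ∀ c : F, B ((c • w₀ : ↥P₁) : V) ((c • w₀ : ↥P₁) : V) = c ^ 2 * μ := by
    intro c
    rw [Submodule.coe_smul]
    simp only [map_smul, LinearMap.smul_apply, smul_eq_mul]
    rw [← hμ]
    ring
  rw [Nat.card_eq_two_iff]
  refine ⟨⟨l • w₀, by rw [hval, hlμ]⟩, ⟨(-l) • w₀, by rw [hval, neg_sq, hlμ]⟩, ?_, ?_⟩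
  · intro h
    have h' : l • w₀ = (-l) • w₀ := congrArg Subtype.val h
    have h3 : (l + l) • w₀ = 0 := by
      rw [add_smul]; nth_rewrite 2 [h']; rw [neg_smul, add_neg_cancel]
    rcases smul_eq_zero.mp h3 with h4 | h4
    · have : (2 : F) * l = 0 := by rw [two_mul]; exact h4
      rcases mul_eq_zero.mp this with h5 | h5
      · exact h2 h5
      · exact hl0 h5
    · exact hw₀ h4
  · ext ⟨w, hw⟩
    simp only [Set.mem_insert_iff, Set.mem_singleton_iff, Set.mem_univ, iff_true]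
    obtain ⟨c, rfl⟩ := hall w
    rw [hval, ← hlμ] at hw
    have hsq : c ^ 2 = l ^ 2 := mul_right_cancel₀ hμ0 hw
    rcases sq_eq_sq_iff_eq_or_eq_neg.mp hsq with h | h
    · left; apply Subtype.ext; show c • w₀ = l • w₀; rw [h]
    · right; apply Subtype.ext; show c • w₀ = (-l) • w₀; rw [h]

/-- orthogonal pairs of norms `α, β` in an anisotropic plane: `2 (q + 1)`. -/
theorem onecm2_pairs_plane {F : Type*} [Field F] [Fintype F] (h2 : (2 : F) ≠ 0)
    {V : Type*} [AddCommGroup V] [Module F V] [FiniteDimensional F V]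
    (B : LinearMap.BilinForm F V) (hsymm : ∀ u v, B u v = B v u)
    (P : Submodule F V) (hP : SND B P) (hPdim : finrank F P = 2) (hPty : OTy B P (-1))
    (α β : F) (hα : α ≠ 0) (hβ : β ≠ 0) (hns : ¬ IsSquare (-(α * β))) :
    Nat.card (onecm2_T B P α β) = 2 * (Fintype.card F + 1) := by
  classical
  have hfinV : Finite V := Module.finite_of_finite F
  have hfinP : Fintype {v : ↥P // B (v : V) (v : V) = α} := Fintype.ofFinite _
  rw [Nat.card_congr (onecm2_sigma B P α β), Nat.card_sigma,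
    Finset.sum_congr rfl (fun v₁ _ => onecm2_line_two h2 B hsymm P hP hPdim hPty α β hα hβ hns
      _ v₁.1.2 v₁.2), Finset.sum_const, Finset.card_univ, smul_eq_mul, mul_comm]
  congr 1
  have h1 := onecm2_val_even h2 B hsymm P hP 1 le_rfl hPdim (-1) hPty α hα
  rw [← Nat.card_eq_fintype_card]
  have hq0 : (Fintype.card F : ℤ) ≠ 0 := by
    have : 0 < Fintype.card F := Fintype.card_pos
    exact_mod_cast this.ne'
  have h3 : (Fintype.card F : ℤ) * (Nat.card {v : ↥P // B (v : V) (v : V) = α} : ℤ) =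
      (Fintype.card F : ℤ) * ((Fintype.card F : ℤ) + 1) := by
    rw [h1]; ring
  have h4 := mul_left_cancel₀ hq0 h3
  exact_mod_cast h4

end Cfsg.Agent.Lib.Helper18.ONE
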