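import Mathlib
import Cfsg.Agent.Lib.helper8.ONECM2D

set_option autoImplicit false
set_option linter.unusedVariables false
set_option linter.unusedSectionVars false

/-!
# Project ONE, row CM2 (helper8), part E: the pairs of `N` are fibred over the anisotropic planes of `N`.
-/

namespace Cfsg.Agent.Lib.Helper18.ONE

open Polynomial Module Cfsg.Agent.Lib.Helper13.S5955 Cfsg.Agent.Lib.helper15.S5972
open Cfsg.Agent.Lib.Helper16.OSemi

/-- the anisotropic planes of `N` -/
abbrev onecm2_AP {F : Type*} [Field F] [Fintype F] {V : Type*} [AddCommGroup V] [Module F V]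
    (B : LinearMap.BilinForm F V) (N : Submodule F V) : Type _ :=
  {P : Submodule F V // P ≤ N ∧ finrank F P = 2 ∧ SND B P ∧ OTy B P (-1)}

theorem onecm2_span_facts {F : Type*} [Field F] [Fintype F] (h2 : (2 : F) ≠ 0)
    {V : Type*} [AddCommGroup V] [Module F V] [FiniteDimensional F V]
    (B : LinearMap.BilinForm F V) (hsymm : ∀ u v, B u v = B v u) (N : Submodule F V)
    (α β : F) (hα : α ≠ 0) (hβ : β ≠ 0) (hns : ¬ IsSquare (-(α * β)))
    (p : V × V) (hp : p.1 ∈ N ∧ p.2 ∈ N ∧ B p.1 p.1 = α ∧ B p.2 p.2 = β ∧ B p.1 p.2 = 0) :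
    Submodule.span F ({p.1, p.2} : Set V) ≤ N ∧
      finrank F (Submodule.span F ({p.1, p.2} : Set V)) = 2 ∧
      SND B (Submodule.span F ({p.1, p.2} : Set V)) ∧
      OTy B (Submodule.span F ({p.1, p.2} : Set V)) (-1) := by
  obtain ⟨h1, h2', h3, h4, h5⟩ := hp
  obtain ⟨hnd, hfr, _, hm⟩ := plane_ty h2 B hsymm p.1 p.2 h5 (by rw [h3]; exact hα)
    (by rw [h4]; exact hβ)
  refine ⟨?_, hfr, hnd, hm (by rw [h3, h4]; exact hns)⟩
  rw [Submodule.span_le]
  intro z hz
  rcases hz with rfl | hz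
  · exact h1
  · rw [Set.mem_singleton_iff] at hz; rw [hz]; exact h2'

/-- the fibre of `t ↦ span t` over a plane `P` is the set of pairs of `P` -/
noncomputable def onecm2_fibre {F : Type*} [Field F] [Fintype F] (h2 : (2 : F) ≠ 0)
    {V : Type*} [AddCommGroup V] [Module F V] [FiniteDimensional F V]
    (B : LinearMap.BilinForm F V) (hsymm : ∀ u v, B u v = B v u) (N : Submodule F V)
    (α β : F) (hα : α ≠ 0) (hβ : β ≠ 0) (hns : ¬ IsSquare (-(α * β)))
    (P : onecm2_AP B N) :
    {t : onecm2_T B N α β // Submodule.span F ({t.1.1, t.1.2} : Set V) = P.1} ≃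
      onecm2_T B P.1 α β where
  toFun t := ⟨t.1.1,
    (le_of_eq t.2) (Submodule.subset_span (Set.mem_insert _ _)),
    (le_of_eq t.2) (Submodule.subset_span (Set.mem_insert_of_mem _ rfl)),
    t.1.2.2.2.1, t.1.2.2.2.2.1, t.1.2.2.2.2.2⟩
  invFun s := ⟨⟨s.1, P.2.1 s.2.1, P.2.1 s.2.2.1, s.2.2.2.1, s.2.2.2.2.1, s.2.2.2.2.2⟩, by
    have hf := onecm2_span_facts h2 B hsymm P.1 α β hα hβ hns s.1 s.2
    exact Submodule.eq_of_le_of_finrank_eq hf.1 (by rw [hf.2.1, P.2.2.1])⟩
  left_inv t := rfl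
  right_inv s := rfl

theorem onecm2_fibration {F : Type*} [Field F] [Fintype F] (h2 : (2 : F) ≠ 0)
    {V : Type*} [AddCommGroup V] [Module F V] [FiniteDimensional F V]
    (B : LinearMap.BilinForm F V) (hsymm : ∀ u v, B u v = B v u) (N : Submodule F V)
    (α β : F) (hα : α ≠ 0) (hβ : β ≠ 0) (hns : ¬ IsSquare (-(α * β))) :
    Nat.card (onecm2_T B N α β) = 2 * (Fintype.card F + 1) * Nat.card (onecm2_AP B N) := by
  classical
  have hfinV : Finite V := Module.finite_of_finite F
  have hfinS : Finite (Submodule F V) := Finite.of_injective (fun p => (p : Set V)) SetLike.coe_injective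
  have hfinAP : Fintype (onecm2_AP B N) := Fintype.ofFinite _
  let f : onecm2_T B N α β → onecm2_AP B N := fun t =>
    ⟨Submodule.span F ({t.1.1, t.1.2} : Set V), onecm2_span_facts h2 B hsymm N α β hα hβ hns t.1 t.2⟩
  have hfib : ∀ P : onecm2_AP B N, Nat.card {t : onecm2_T B N α β // f t = P} =
      2 * (Fintype.card F + 1) := by
    intro P
    have e : {t : onecm2_T B N α β // f t = P} ≃
        {t : onecm2_T B N α β // Submodule.span F ({t.1.1, t.1.2} : Set V) = P.1} :=
      Equiv.subtypeEquivRight (fun t => by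
        constructor
        · intro h; exact congrArg Subtype.val h
        · intro h; exact Subtype.ext h)
    rw [Nat.card_congr (e.trans (onecm2_fibre h2 B hsymm N α β hα hβ hns P))]
    exact onecm2_pairs_plane h2 B hsymm P.1 P.2.2.2.1 P.2.2.1 P.2.2.2.2 α β hα hβ hns
  rw [Nat.card_congr (Equiv.sigmaFiberEquiv f).symm, Nat.card_sigma,
    Finset.sum_congr rfl (fun P _ => hfib P), Finset.sum_const, Finset.card_univ, smul_eq_mul,
    Nat.card_eq_fintype_card, mul_comm]

end Cfsg.Agent.Lib.Helper18.ONE
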