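import Mathlib
import Cfsg.Agent.Lib.helper8.ONECM2E
import Cfsg.Agent.Lib.Lead.ONEFROZEN
import Cfsg.Agent.Lib.Lead.ONENDTSTDcore
import Cfsg.Agent.Lib.helper15.S5972STDO

set_option autoImplicit false
set_option linter.unusedVariables false
set_option linter.unusedSectionVars false

/-!
# Project ONE, row CM2 (helper8), part F: `ap_count` (verbatim).
-/

namespace Cfsg.Agent.Lib.Helper18.ONE

open Polynomial Module Cfsg.Agent.Lib.Helper13.S5955 Cfsg.Agent.Lib.helper15.S5972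
open Cfsg.Agent.Lib.Helper16.OSemi

/-- the elliptic `2h`-spaces over a hyperbolic `(2h-2)`-space `W'` correspond to the anisotropic planes of `W'^⊥` -/
theorem onecm2_ext_card {F : Type*} [Field F] [Fintype F] (h2 : (2 : F) ≠ 0)
    {V : Type*} [AddCommGroup V] [Module F V] [FiniteDimensional F V]
    (B : LinearMap.BilinForm F V) (hsymm : ∀ u v, B u v = B v u)
    (W' : Submodule F V) (hW' : SND B W') (h : ℕ) (hh1 : 1 ≤ h)
    (hW'dim : finrank F W' = 2 * h - 2) (hW'ty : OTy B W' 1) :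
    Nat.card {W : Submodule F V // W' ≤ W ∧ finrank F W = 2 * h ∧ SND B W ∧ OTy B W (-1)} =
      Nat.card (onecm2_AP B (B.orthogonal W')) := by
  have hev' : Even (finrank F W') := ⟨h - 1, by omega⟩
  have hdisj : W' ⊓ B.orthogonal W' = ⊥ := by
    rw [eq_bot_iff]
    intro u hu
    rw [Submodule.mem_bot]
    apply hW' u hu.1
    intro v hv
    have := (LinearMap.BilinForm.mem_orthogonal_iff.mp hu.2) v hv
    rw [hsymm]; exact this
  apply Nat.card_congr
  refine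
    { toFun := fun W => ⟨W.1 ⊓ B.orthogonal W', inf_le_right, ?_⟩
      invFun := fun P => ⟨W' ⊔ P.1, le_sup_left, ?_⟩
      left_inv := ?_
      right_inv := ?_ }
  · obtain ⟨hle, hdim, hnd, hty⟩ := W.2
    obtain ⟨_, hsup, hPnd, hPo, hPdim⟩ := nd_perp_symm B hsymm W.1 W' hnd hle hW'
    have hP2 : finrank F ↥(W.1 ⊓ B.orthogonal W') = 2 := by omega
    refine ⟨hP2, hPnd, ?_⟩
    rcases ty_class h2 B hsymm _ hPnd (by rw [hP2]; exact even_two) with ⟨_, h1⟩ | ⟨_, hm⟩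
    · exfalso
      have hs := ty_sum h2 B hsymm W' _ hW' hPnd hPo hev' (by rw [hP2]; exact even_two) 1 1 hW'ty h1
      rw [hsup, one_mul] at hs
      exact ty_uniq B W.1 hs hty
    · exact hm
  · obtain ⟨hle, hdim, hnd, hty⟩ := P.2
    have hPo : SOrth B W' P.1 := by
      intro u hu w hw
      exact (LinearMap.BilinForm.mem_orthogonal_iff.mp (hle hw)) u hu
    obtain ⟨hSnd, _, hSdim⟩ := nd_sup_symm B hsymm W' P.1 hW' hnd hPo
    refine ⟨by rw [hSdim, hW'dim, hdim]; omega, hSnd, ?_⟩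
    have hs := ty_sum h2 B hsymm W' P.1 hW' hnd hPo hev' (by rw [hdim]; exact even_two) 1 (-1) hW'ty hty
    rw [one_mul] at hs
    exact hs
  · intro W
    obtain ⟨hle, hdim, hnd, hty⟩ := W.2
    obtain ⟨_, hsup, _, _, _⟩ := nd_perp_symm B hsymm W.1 W' hnd hle hW'
    exact Subtype.ext hsup
  · intro P
    obtain ⟨hle, hdim, hnd, hty⟩ := P.2
    apply Subtype.ext
    show (W' ⊔ P.1) ⊓ B.orthogonal W' = P.1
    rw [sup_comm, sup_inf_assoc_of_le W' hle, hdisj, sup_bot_eq]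

theorem onecm2_two_ne_zero {F : Type*} [Field F] [Fintype F] (hodd : Odd (Fintype.card F)) :
    (2 : F) ≠ 0 := by
  intro h
  have h1 : ringChar F ∣ 2 := ringChar.dvd (by exact_mod_cast h)
  have h3 : ringChar F = 2 := by
    rcases (Nat.dvd_prime Nat.prime_two).mp h1 with h' | h'
    · exact absurd h' (CharP.ringChar_ne_one)
    · exact h'
  have := FiniteField.even_card_of_char_two h3
  rcases hodd with ⟨k, hk⟩
  omega

/-- CM2 [L]. -/
theorem ap_count {F : Type*} [Field F] [Fintype F] (hodd : Odd (Fintype.card F)) (d h : ℕ)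
    (hh1 : 1 ≤ h) (hh : h ≤ d) (W' : NDp d (2 * h - 2) F) :
    2 * (Fintype.card F + 1) * Nat.card {W : NDm d (2 * h) F // W'.1 ≤ W.1} =
      Fintype.card F ^ (2 * (d - h + 1) - 1) * (Fintype.card F ^ (2 * (d - h + 1)) - 1) := by
  classical
  have h2 : (2 : F) ≠ 0 := onecm2_two_ne_zero hodd
  obtain ⟨hsymm, hndV, _, _⟩ := stdO_facts (F := F) h2 d
  set B := stdO d F with hB
  obtain ⟨hW'dim, hW'nd0, hW'pl⟩ := W'.2
  have hW'nd : SND B W'.1 := (frozen_iff h2 d W'.1).1.mp hW'nd0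
  have hev' : Even (finrank F W'.1) := ⟨h - 1, by omega⟩
  have hcl : ∀ W : Submodule F (Unit ⊕ (Fin d ⊕ Fin d) → F), SND B W → Even (finrank F W) →
      ∀ s : ℤ, s = 1 ∨ s = -1 → (FTy d s W ↔ OTy B W s) := fun W hW hev s hs =>
    onendtstd_core h2 d W s hs (ty_class h2 B hsymm W hW hev)
  have hW'ty : OTy B W'.1 1 :=
    (hcl W'.1 hW'nd hev' 1 (Or.inl rfl)).mp (Or.inl ⟨rfl, hW'pl⟩)
  -- step 1: to the abstract set
  have e1 : Nat.card {W : NDm d (2 * h) F // W'.1 ≤ W.1} =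
      Nat.card {W : Submodule F (Unit ⊕ (Fin d ⊕ Fin d) → F) //
        W'.1 ≤ W ∧ finrank F W = 2 * h ∧ SND B W ∧ OTy B W (-1)} := by
    apply Nat.card_congr
    refine
      { toFun := fun W => ⟨W.1.1, W.2, W.1.2.1, (frozen_iff h2 d W.1.1).1.mp W.1.2.2.1, ?_⟩
        invFun := fun W => ⟨⟨W.1, W.2.2.1, (frozen_iff h2 d W.1).1.mpr W.2.2.2.1, ?_⟩, W.2.1⟩
        left_inv := fun W => rfl
        right_inv := fun W => rfl }
    · have hnd := (frozen_iff h2 d W.1.1).1.mp W.1.2.2.1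
      exact (hcl W.1.1 hnd (by rw [W.1.2.1]; exact even_two_mul h) (-1) (Or.inr rfl)).mp
        (Or.inr ⟨rfl, W.1.2.2.2⟩)
    · have hf := (hcl W.1 W.2.2.2.1 (by rw [W.2.2.1]; exact even_two_mul h) (-1) (Or.inr rfl)).mpr
        W.2.2.2.2
      rcases hf with ⟨h', _⟩ | ⟨_, h'⟩
      · exact absurd h' (by norm_num)
      · exact h'
  -- step 2: the perp
  have hNfacts := nd_perp_symm B hsymm ⊤ W'.1 (fun u _ hu => hndV u (fun v => hu v trivial)) le_top hW'nd
  obtain ⟨_, _, hNnd, _, hNdim⟩ := hNfacts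
  rw [top_inf_eq] at hNnd hNdim
  have hVdim : finrank F (⊤ : Submodule F (Unit ⊕ (Fin d ⊕ Fin d) → F)) = 2 * d + 1 := by
    rw [finrank_top, Module.finrank_fintype_fun_eq_card]
    simp [Fintype.card_sum]; ring
  set a := d - h + 1 with ha
  have hNdim' : finrank F ↥(B.orthogonal W'.1) = 2 * a + 1 := by omega
  -- step 3: the two norms
  obtain ⟨ν, hν⟩ := FiniteField.exists_nonsquare (F := F) (by
    intro h'
    have := FiniteField.even_card_of_char_two h'
    rcases hodd with ⟨k, hk⟩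
    omega)
  have hν0 : ν ≠ 0 := fun h' => hν (by rw [h']; exact IsSquare.zero)
  have hns : ¬ IsSquare (-((1 : F) * -ν)) := by
    rw [one_mul, neg_neg]; exact hν
  have hfib := onecm2_fibration h2 B hsymm (B.orthogonal W'.1) 1 (-ν) one_ne_zero
    (neg_ne_zero.mpr hν0) hns
  have htot := onecm2_pairs_total h2 B hsymm (B.orthogonal W'.1) hNnd a (by omega) hNdim' 1 (-ν)
    one_ne_zero (neg_ne_zero.mpr hν0)
  have hext := onecm2_ext_card h2 B hsymm W'.1 hW'nd h hh1 hW'dim hW'ty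
  rw [e1, hext, ← hfib]
  -- arithmetic
  have hq0 : (Fintype.card F : ℤ) ≠ 0 := by
    have : 0 < Fintype.card F := Fintype.card_pos
    exact_mod_cast this.ne'
  have hq1 : 1 ≤ Fintype.card F ^ (2 * a) := Nat.one_le_pow _ _ Fintype.card_pos
  have hpow : (Fintype.card F : ℤ) ^ (2 * a + 1) =
      (Fintype.card F : ℤ) ^ 2 * (Fintype.card F : ℤ) ^ (2 * a - 1) := by
    rw [← pow_add]; congr 1; omega
  have h5 : (Fintype.card F : ℤ) ^ 2 * (Nat.card (onecm2_T B (B.orthogonal W'.1) 1 (-ν)) : ℤ) =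
      (Fintype.card F : ℤ) ^ 2 *
        ((Fintype.card F : ℤ) ^ (2 * a - 1) * ((Fintype.card F : ℤ) ^ (2 * a) - 1)) := by
    rw [htot, hpow]; ring
  have h6 := mul_left_cancel₀ (pow_ne_zero 2 hq0) h5
  have h7 : ((Nat.card (onecm2_T B (B.orthogonal W'.1) 1 (-ν)) : ℕ) : ℤ) =
      ((Fintype.card F ^ (2 * a - 1) * (Fintype.card F ^ (2 * a) - 1) : ℕ) : ℤ) := by
    rw [h6]; push_cast [Nat.cast_sub hq1]; ring
  exact_mod_cast h7

end Cfsg.Agent.Lib.Helper18.ONE
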