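import Mathlib
import Cfsg.Agent.Lib.helper23.P4S.DefsC

set_option autoImplicit false

/-! # P4C row P5OUT (p5_outer): core with the cited rows OUT2, OUT4, OUT5 as hypotheses -/

namespace Cfsg.Agent.Lib.helper23.P4S

open Matrix
open scoped Kronecker

/-- `φ = frq E p n` is an involution when `|E| = p^(2n)` -/
theorem p4cp5out_frq_invol {E : Type} [Field E] [Fintype E] (p : ℕ) [Fact p.Prime] [CharP E p] (n : ℕ)
    (hE : Fintype.card E = p ^ (2 * n)) (x : E) : frq E p n (frq E p n x) = x := by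
  rw [frq_apply, frq_apply, ← pow_mul, ← pow_add, ← two_mul, ← hE]
  exact FiniteField.pow_card x

/-- `2 ∣ p^n - 1` and `2 ∣ p^n + 1` for `p` odd -/
theorem p4cp5out_even (p n : ℕ) (hp : Odd p) : 2 ∣ p ^ n - 1 ∧ 2 ∣ p ^ n + 1 := by
  have hq : Odd (p ^ n) := hp.pow
  obtain ⟨m, hm⟩ := hq
  constructor
  · exact ⟨m, by omega⟩
  · exact ⟨m + 1, by omega⟩

/-- arithmetic core of P5OUT -/
theorem p4cp5out_arith (p q o r : ℕ) (hp : p.Prime) (hp5 : 5 ≤ p) (hq1 : 2 ∣ q - 1) (hq2 : 2 ∣ q + 1)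
    (gne : Prop)
    (heven : Even o)
    (hss : o = Nat.lcm r 2 ∧ (r ∣ q - 1 ∨ r ∣ q + 1) ∨ (o ∣ 2 * p ∧ (o = 2 * p → ¬ gne))) :
    InT4 p q o ∧ (gne → InT4 p q (p * o)) := by
  rcases hss with ⟨ho, hr⟩ | ⟨ho, hg⟩
  · have hdv : o ∣ q - 1 ∨ o ∣ q + 1 := by
      rcases hr with hr | hr
      · left; rw [ho]; exact Nat.lcm_dvd hr hq1
      · right; rw [ho]; exact Nat.lcm_dvd hr hq2
    rcases hdv with h | h
    · exact ⟨Or.inr (Or.inr (Or.inr (Or.inl (Dvd.dvd.mul_left h p)))),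
        fun _ => Or.inr (Or.inr (Or.inr (Or.inl (Nat.mul_dvd_mul_left p h))))⟩
    · exact ⟨Or.inr (Or.inr (Or.inl (Dvd.dvd.mul_left h p))),
        fun _ => Or.inr (Or.inr (Or.inl (Nat.mul_dvd_mul_left p h)))⟩
  · -- o ∣ 2p, o even: o = 2 or o = 2p
    have hpodd : ¬ 2 ∣ p := by
      intro h2
      have := (Nat.prime_dvd_prime_iff_eq Nat.prime_two hp).mp h2
      omega
    have hcases : o = 2 ∨ o = 2 * p := by
      obtain ⟨m, hm⟩ := heven
      have hm2 : o = 2 * m := by omega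
      rw [hm2] at ho
      have hmp : m ∣ p := Nat.dvd_of_mul_dvd_mul_left (by norm_num) ho
      rcases (Nat.dvd_prime hp).mp hmp with h | h
      · left; rw [hm2, h]
      · right; rw [hm2, h]
    rcases hcases with h | h
    · rw [h]
      exact ⟨Or.inr (Or.inr (Or.inr (Or.inl (Dvd.dvd.mul_left hq1 p)))),
        fun _ => Or.inr (Or.inr (Or.inr (Or.inl (Nat.mul_dvd_mul_left p hq1))))⟩
    · refine ⟨?_, fun hne => absurd hne (hg h)⟩
      rw [h, mul_comm 2 p]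
      exact Or.inr (Or.inr (Or.inr (Or.inl (Nat.mul_dvd_mul_left p hq1))))

/-- P5OUT core: the cited statements OUT2 (`heven`), OUT4 (`hss`), OUT5 (`huni`) for this `A` as hypotheses -/
theorem p4cp5out_core {E : Type} [Field E] [Fintype E] (p : ℕ) [Fact p.Prime] [CharP E p] (hp : 5 ≤ p) (n : ℕ)
    (A : Matrix.SpecialLinearGroup (Fin 2) E)
    (heven : Even (orderOf (rho2 (frq E p n) A * Tgl)))
    (hss : (A * Matrix.SpecialLinearGroup.map (frq E p n) A).1.trace ^ 2 ≠ 4 →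
      orderOf (rho2 (frq E p n) A * Tgl) = Nat.lcm (orderOf (A * Matrix.SpecialLinearGroup.map (frq E p n) A)) 2 ∧
      (orderOf (A * Matrix.SpecialLinearGroup.map (frq E p n) A) ∣ p ^ n - 1 ∨
        orderOf (A * Matrix.SpecialLinearGroup.map (frq E p n) A) ∣ p ^ n + 1) ∧
      gsum ((rho2 (frq E p n) A * Tgl : GL (Fin 2 × Fin 2) E) : Matrix (Fin 2 × Fin 2) (Fin 2 × Fin 2) E)
        (orderOf (rho2 (frq E p n) A * Tgl)) ≠ 0)
    (huni : (A * Matrix.SpecialLinearGroup.map (frq E p n) A).1.trace ^ 2 = 4 →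
      orderOf (rho2 (frq E p n) A * Tgl) ∣ 2 * p ∧
      gsum ((rho2 (frq E p n) A * Tgl : GL (Fin 2 × Fin 2) E) : Matrix (Fin 2 × Fin 2) (Fin 2 × Fin 2) E) (2 * p) = 0) :
    InT4 p (p ^ n) (orderOf (rho2 (frq E p n) A * Tgl)) ∧
      (gsum ((rho2 (frq E p n) A * Tgl : GL (Fin 2 × Fin 2) E) : Matrix (Fin 2 × Fin 2) (Fin 2 × Fin 2) E)
          (orderOf (rho2 (frq E p n) A * Tgl)) ≠ 0 → InT4 p (p ^ n) (p * orderOf (rho2 (frq E p n) A * Tgl))) := by
  have hpp : p.Prime := Fact.out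
  have hpodd : Odd p := by
    rcases hpp.eq_two_or_odd' with h | h
    · omega
    · exact h
  obtain ⟨hq1, hq2⟩ := p4cp5out_even p n hpodd
  refine p4cp5out_arith p (p ^ n) _ (orderOf (A * Matrix.SpecialLinearGroup.map (frq E p n) A)) hpp hp hq1 hq2 _ heven ?_
  by_cases htr : (A * Matrix.SpecialLinearGroup.map (frq E p n) A).1.trace ^ 2 = 4
  · right
    obtain ⟨h1, h2⟩ := huni htr
    refine ⟨h1, fun ho hne => hne ?_⟩
    rw [ho]
    exact h2
  · left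
    obtain ⟨h1, h2, _⟩ := hss htr
    exact ⟨h1, h2⟩

end Cfsg.Agent.Lib.helper23.P4S
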