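import Mathlib
import Cfsg.Agent.Lib.helper23.P4S.DefsC
import Cfsg.Agent.Lib.helper8.P4CP5OUTcore
import Cfsg.Agent.Lib.Helper28.P4COUT2
import Cfsg.Agent.Lib.Helper21.P4COUT4
import Cfsg.Agent.Lib.Helper24.P4COUT5

set_option autoImplicit false

namespace Cfsg.Agent.Lib.helper23.P4S

open Matrix
open scoped Kronecker

theorem p5_outer {E : Type} [Field E] [Fintype E] (p : ℕ) [Fact p.Prime] [CharP E p] (hp : 5 ≤ p) (n : ℕ) (hn : 1 ≤ n)
    (hE : Fintype.card E = p ^ (2 * n)) (A : Matrix.SpecialLinearGroup (Fin 2) E) :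
    InT4 p (p ^ n) (orderOf (rho2 (frq E p n) A * Tgl)) ∧
      (gsum ((rho2 (frq E p n) A * Tgl : GL (Fin 2 × Fin 2) E) : Matrix (Fin 2 × Fin 2) (Fin 2 × Fin 2) E)
          (orderOf (rho2 (frq E p n) A * Tgl)) ≠ 0 → InT4 p (p ^ n) (p * orderOf (rho2 (frq E p n) A * Tgl))) := by
  have h2 : (2 : E) ≠ 0 := by
    intro h
    have h' : ((2 : ℕ) : E) = 0 := by exact_mod_cast h
    have hdvd := (CharP.cast_eq_zero_iff E p 2).mp h'
    have := Nat.le_of_dvd (by norm_num) hdvd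
    omega
  exact p4cp5out_core p hp n A (outer_even h2 (frq E p n) A)
    (fun htr => outer_ss p (by omega) n hn hE A htr)
    (fun htr => outer_uni p hp (frq E p n) (p4cp5out_frq_invol p n hE) A htr)

end Cfsg.Agent.Lib.helper23.P4S
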