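import Mathlib
import Cfsg.Prelude.Def_ChevStructure
import Cfsg.Prelude.Def_LieTwisted
import Cfsg.Agent.Lib.helper23.TD4V.Defs
import Cfsg.Agent.Lib.helper8.ChevTwD4O
import Cfsg.Agent.Lib.helper8.TD4VU7
import Cfsg.Agent.Lib.Helper20.TD4VU3
import Cfsg.Agent.Lib.Helper27.TD4VU5
import Cfsg.Agent.Lib.Helper27.TD4VU6

/-!
# TD4V row U8 (`cell_mem`): in a cell decomposition `g = v * l * u` of an element of `³D₄(q)` with Levi part in
`³D₄(q)`, the two unipotent parts lie in `³D₄(q)`.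
-/

set_option autoImplicit false

namespace Cfsg.Agent.Lib.helper23.TD4V

open Cfsg.Lie Cfsg.Lie.ChevalleyDatum Matrix
open Cfsg.Agent.Lib.helper8 Cfsg.Agent.Lib.helper8.TD4
open Cfsg.Agent.Lib.helper23.P4V

universe u v

section U

variable {K : Type u} [Field K]

/-- **U8** [M]. -/
theorem cell_mem [Fintype K] (q : ℕ) (hq : IsPrimePow q) (hK : Fintype.card K = q ^ 3)
    (v l u : GG K) (hv : v ∈ QmK K) (hl : l ∈ LK K) (hlG : l ∈ twistedD4 K q) (hu : u ∈ QK K)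
    (hg : v * l * u ∈ twistedD4 K q) : v ∈ Qm K q ∧ u ∈ Q K q := by
  have hD : chevD4 ∈ [chevG2, chevB2, chevD4, chevF4, chevE6, chevE7, chevE8] := by simp
  have hA := h8reflAll chevD4 hD
  have hC := h8commAll.{u} chevD4 hD
  obtain ⟨f, hf, hfff3, hneg⟩ := h8frob_exists hq 3 (by norm_num) hK
  have hfff : ∀ t, f (f (f t)) = t := fun t => hfff3 t
  have hgfix : Fr hA f (v * l * u) = v * l * u := h8twD4_fix hB hC hA q f hf hfff _ hg
  have hlfix : Fr hA f l = l := h8twD4_fix hB hC hA q f hf hfff _ hlG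
  rw [map_mul, map_mul, hlfix] at hgfix
  obtain ⟨h1, -, h3⟩ := cell_unique (Fr hA f v) v l l (Fr hA f u) u (Fr_QmK hA f v hv) hv hl hl
    (Fr_QK hA f u hu) hu hgfix
  exact ⟨Subgroup.mem_inf.mpr ⟨hv, QmK_fix_mem q hq hK hA f hf v hv h1⟩,
    Subgroup.mem_inf.mpr ⟨hu, QK_fix_mem q hq hK hA f hf u hu h3⟩⟩

end U

end Cfsg.Agent.Lib.helper23.TD4V
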