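import Mathlib
import Cfsg.Agent.Lib.helper23.OrdGen3
import Cfsg.Agent.Lib.helper8.SylowBasic
import Cfsg.Agent.Lib.helper8.SimpleEmbed
import Cfsg.Agent.Lib.helper8.SylowConj
import Cfsg.Agent.Lib.helper8.SubgroupCard

set_option autoImplicit false

/-! Project S983 (S0983), order row 3696 = 2^4 * 3 * 7 * 11: there is no simple group of order 3696.

`n_11 = 56` (`12`: an element of order 7 of `C(P11)` would fix all 12 points), `|N(P11)| = 66`, `|C(P11)| = 33`; `y ∈ C(P11)` of order 3, `Q = ⟨y⟩` a Sylow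
3-subgroup, `P11 ≤ C(Q)`, so `11 ∣ |C(Q)|`: `n_3 = 28`, `|N(Q)| = 132`, `|C(Q)| = 66`; a group of order 66 has only one subgroup of order 11, and `N(Q)` normalises
`C(Q)`: `N(Q) ≤ N(P11)`, `132 ≤ 66`. -/

namespace Cfsg.Agent.Lib.helper8.S983

open Cfsg.Agent.Lib.helper8 Cfsg.Agent.Lib.helper23

/-- the normaliser of a subgroup normalises its centraliser. -/
theorem s983_conj_mem_centralizer {G : Type*} [Group G] (Q : Subgroup G) (g x : G)
    (hg : g ∈ Subgroup.normalizer (Q : Set G)) (hx : x ∈ Subgroup.centralizer (Q : Set G)) :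
    g * x * g⁻¹ ∈ Subgroup.centralizer (Q : Set G) := by
  rw [Subgroup.mem_centralizer_iff] at hx ⊢
  intro y hy
  have hy' : g⁻¹ * y * g ∈ Q := by
    have := (Subgroup.mem_normalizer_iff.mp (Subgroup.inv_mem _ hg) y).mp hy
    simpa using this
  have h := hx (g⁻¹ * y * g) hy'
  calc y * (g * x * g⁻¹) = g * ((g⁻¹ * y * g) * x) * g⁻¹ := by group
    _ = g * (x * (g⁻¹ * y * g)) * g⁻¹ := by rw [h]
    _ = g * x * g⁻¹ * y := by group

/-- an element of prime order `q` centralising a Sylow `p`-subgroup of prime order `p` fixes all the points of `G ⧸ N(P)` if no `f ≤ n_p` other than `n_p`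
satisfies `f ≡ 1 mod p`, `f ≡ n_p mod q`: so it cannot exist. -/
theorem s983_no_central_elt {G : Type*} [Group G] [Finite G] [IsSimpleGroup G]
    (p q n : ℕ) [hp : Fact p.Prime] [hq : Fact q.Prime]
    (P : Sylow p G) (hP : Nat.card (P : Subgroup G) = p)
    (hX : Nat.card (G ⧸ Subgroup.normalizer ((P : Subgroup G) : Set G)) = n)
    (hNtop : Subgroup.normalizer ((P : Subgroup G) : Set G) ≠ ⊤)
    (harith : ∀ f : ℕ, f ≤ n → f % p = 1 % p → n % q = f % q → f = n)
    (c : G) (hc : c ∈ Subgroup.centralizer ((P : Subgroup G) : Set G)) (hcq : orderOf c = q) : False := by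
  have hfixp := og2_card_fixedBy_modEq_one p P hP c hc
  have hcp : IsPGroup q (Subgroup.zpowers c) :=
    IsPGroup.of_card (n := 1) (by rw [Nat.card_zpowers, hcq, pow_one])
  have hfixq := og2_card_fixedBy_modEq_of_commute
    (X := G ⧸ Subgroup.normalizer ((P : Subgroup G) : Set G)) (p := q) (1 : G) c
    (Commute.one_left _) hcp
  have e1 : Nat.card (MulAction.fixedBy (G ⧸ Subgroup.normalizer ((P : Subgroup G) : Set G)) (1 : G))
      = n := by
    rw [← hX]
    apply Nat.card_congr
    exact (Equiv.subtypeUnivEquiv (fun pt => by simp))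
  have e2 : Nat.card {pt : G ⧸ Subgroup.normalizer ((P : Subgroup G) : Set G) //
      (1 : G) • pt = pt ∧ c • pt = pt} =
      Nat.card (MulAction.fixedBy (G ⧸ Subgroup.normalizer ((P : Subgroup G) : Set G)) c) := by
    apply Nat.card_congr
    exact Equiv.subtypeEquivRight (fun pt => by simp [MulAction.mem_fixedBy])
  rw [e1, e2] at hfixq
  have hle : Nat.card (MulAction.fixedBy (G ⧸ Subgroup.normalizer ((P : Subgroup G) : Set G)) c)
      ≤ n := by
    rw [← hX]
    exact Finite.card_subtype_le _
  have hfix := harith _ hle hfixp hfixq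
  have hc1 : c = 1 := by
    apply og2_eq_one_of_card_fixedBy _ hNtop
    rw [hfix, hX]
  rw [hc1, orderOf_one] at hcq
  exact hq.out.one_lt.ne hcq

/-- `n_11 = 56`, `|C(P11)| = 33`. -/
theorem s3696_eleven {G : Type*} [Group G] [Finite G] [IsSimpleGroup G]
    (hG : Nat.card G = 3696) [Fact (Nat.Prime 11)] (P : Sylow 11 G) :
    Nat.card (P : Subgroup G) = 11 ∧
      Nat.card (Subgroup.normalizer ((P : Subgroup G) : Set G)) = 66 ∧
      Nat.card (Subgroup.centralizer ((P : Subgroup G) : Set G)) = 33 := by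
  have hG' : Nat.card G = 11 ^ 1 * 336 := by rw [hG]; norm_num
  have hnd : ¬ 11 ∣ 336 := by norm_num
  obtain ⟨hP, hNn, hX, r, hr10, hr1, hCr⟩ := og3_sylow_data 11 336 hG' hnd (by norm_num) P
  have hmem := h8_nsylow_mem 11 1 336 hG' hnd
  have hne1 := h8_simple_nsylow_ne_one 11 1 336 hG' hnd (by norm_num) (by norm_num)
  have hdiv : (Nat.divisors 336).filter (fun d => d % 11 = 1) = {1, 12, 56} := by decide +kernel
  rw [hdiv] at hmem
  simp only [Finset.mem_insert, Finset.mem_singleton] at hmem
  have hr : r = 2 ∨ r = 5 ∨ r = 10 := by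
    have : r ∈ Nat.divisors 10 := Nat.mem_divisors.mpr ⟨hr10, by norm_num⟩
    have hd : Nat.divisors 10 = {1, 2, 5, 10} := by decide
    rw [hd] at this
    simp only [Finset.mem_insert, Finset.mem_singleton] at this
    rcases this with h | h | h | h
    · exact absurd h hr1
    · exact Or.inl h
    · exact Or.inr (Or.inl h)
    · exact Or.inr (Or.inr h)
  rw [hG] at hNn
  have hidx := h8_nsylow_eq_index_normalizer 11 P
  have hNtop : Subgroup.normalizer ((P : Subgroup G) : Set G) ≠ ⊤ := by
    intro htop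
    rw [htop, Subgroup.index_top] at hidx
    exact hne1 hidx
  rcases hmem with h | h | h
  · exact absurd h hne1
  · -- n_11 = 12
    exfalso
    have hN : Nat.card (Subgroup.normalizer ((P : Subgroup G) : Set G)) = 308 := by
      rw [h] at hNn; omega
    rw [hN] at hCr
    have hC : Nat.card (Subgroup.centralizer ((P : Subgroup G) : Set G)) = 154 := by
      rcases hr with rfl | rfl | rfl <;> omega
    have h7 : 7 ∣ Nat.card (Subgroup.centralizer ((P : Subgroup G) : Set G)) := by rw [hC]; norm_num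
    have : Fact (Nat.Prime 7) := ⟨by norm_num⟩
    obtain ⟨c', hc'⟩ := exists_prime_orderOf_dvd_card' 7 h7
    have hc : orderOf (c' : G) = 7 := by rw [Subgroup.orderOf_coe]; exact hc'
    refine s983_no_central_elt 11 7 12 P hP (by rw [hX, h]) hNtop ?_ (c' : G) c'.2 hc
    intro f hf h1 h2
    omega
  · -- n_11 = 56
    have hN : Nat.card (Subgroup.normalizer ((P : Subgroup G) : Set G)) = 66 := by
      rw [h] at hNn; omega
    refine ⟨hP, hN, ?_⟩
    rw [hN] at hCr
    rcases hr with rfl | rfl | rfl <;> omega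

/-- a Sylow 3-subgroup whose centraliser has order divisible by 11: `|N(Q)| = 132`, `|C(Q)| = 66`. -/
theorem s3696_three {G : Type*} [Group G] [Finite G] [IsSimpleGroup G]
    (hG : Nat.card G = 3696) [Fact (Nat.Prime 3)] (Q : Sylow 3 G)
    (h11 : 11 ∣ Nat.card (Subgroup.centralizer ((Q : Subgroup G) : Set G))) :
    Nat.card (Subgroup.normalizer ((Q : Subgroup G) : Set G)) = 132 ∧
      Nat.card (Subgroup.centralizer ((Q : Subgroup G) : Set G)) = 66 := by
  have hG' : Nat.card G = 3 ^ 1 * 1232 := by rw [hG]; norm_num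
  have hnd : ¬ 3 ∣ 1232 := by norm_num
  have hnc : ¬ IsMulCommutative G := h8_not_comm_of_card (by rw [hG]; norm_num)
  obtain ⟨hP, hNn, hX, r, hr2, hr1, hCr⟩ := og3_sylow_data 3 1232 hG' hnd (by norm_num) Q
  have hmem := h8_nsylow_mem 3 1 1232 hG' hnd
  have hne1 := h8_simple_nsylow_ne_one 3 1 1232 hG' hnd (by norm_num) (by norm_num)
  have hdiv : (Nat.divisors 1232).filter (fun d => d % 3 = 1) =
      {1, 4, 7, 16, 22, 28, 88, 112, 154, 616} := by decide +kernel
  rw [hdiv] at hmem
  simp only [Finset.mem_insert, Finset.mem_singleton] at hmem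
  have hr : r = 2 := by
    have : r ∈ Nat.divisors 2 := Nat.mem_divisors.mpr ⟨hr2, by norm_num⟩
    have hd : Nat.divisors 2 = {1, 2} := by decide
    rw [hd] at this
    simp only [Finset.mem_insert, Finset.mem_singleton] at this
    rcases this with h | h
    · exact absurd h hr1
    · exact h
  subst hr
  rw [hG] at hNn
  obtain ⟨c, hc⟩ := h11
  have hidx := h8_nsylow_eq_index_normalizer 3 Q
  have hNtop : Subgroup.normalizer ((Q : Subgroup G) : Set G) ≠ ⊤ := by
    intro htop
    rw [htop, Subgroup.index_top] at hidx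
    exact hne1 hidx
  have hfact := h8_simple_two_mul_card_dvd_factorial hnc _ hNtop
  rw [← hidx, hG] at hfact
  rcases hmem with h | h | h | h | h | h | h | h | h | h
  · exact absurd h hne1
  · exfalso; rw [h] at hfact; revert hfact; decide
  · exfalso; rw [h] at hfact; revert hfact; decide
  · exfalso
    have hN : Nat.card (Subgroup.normalizer ((Q : Subgroup G) : Set G)) = 231 := by
      rw [h] at hNn; omega
    omega
  · exfalso
    have hN : Nat.card (Subgroup.normalizer ((Q : Subgroup G) : Set G)) = 168 := by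
      rw [h] at hNn; omega
    omega
  · have hN : Nat.card (Subgroup.normalizer ((Q : Subgroup G) : Set G)) = 132 := by
      rw [h] at hNn; omega
    exact ⟨hN, by omega⟩
  · exfalso
    have hN : Nat.card (Subgroup.normalizer ((Q : Subgroup G) : Set G)) = 42 := by
      rw [h] at hNn; omega
    omega
  · exfalso
    have hN : Nat.card (Subgroup.normalizer ((Q : Subgroup G) : Set G)) = 33 := by
      rw [h] at hNn; omega
    omega
  · exfalso
    have hN : Nat.card (Subgroup.normalizer ((Q : Subgroup G) : Set G)) = 24 := by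
      rw [h] at hNn; omega
    omega
  · exfalso
    have hN : Nat.card (Subgroup.normalizer ((Q : Subgroup G) : Set G)) = 6 := by
      rw [h] at hNn; omega
    omega

/-- There is no simple group of order `3696 = 2^4 * 3 * 7 * 11`. -/
theorem no_simple_3696 {G : Type*} [Group G] [Finite G] [IsSimpleGroup G]
    (hG : Nat.card G = 3696) : False := by
  have : Fact (Nat.Prime 11) := ⟨by norm_num⟩
  have : Fact (Nat.Prime 3) := ⟨by norm_num⟩
  obtain ⟨P⟩ : Nonempty (Sylow 11 G) := inferInstance
  obtain ⟨hP, hN, hC⟩ := s3696_eleven hG P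
  -- `y` of order 3 in `C(P)`
  have h3 : 3 ∣ Nat.card (Subgroup.centralizer ((P : Subgroup G) : Set G)) := by rw [hC]; norm_num
  obtain ⟨y', hy'⟩ := exists_prime_orderOf_dvd_card' 3 h3
  have hy : orderOf (y' : G) = 3 := by rw [Subgroup.orderOf_coe]; exact hy'
  have hpg : IsPGroup 3 (Subgroup.zpowers (y' : G)) :=
    IsPGroup.of_card (n := 1) (by rw [Nat.card_zpowers, hy, pow_one])
  obtain ⟨Q, hQ⟩ := hpg.exists_le_sylow
  have hQcard : Nat.card (Q : Subgroup G) = 3 := by
    have := h8_sylow_card 3 1 1232 (by rw [hG]; norm_num) (by norm_num) Q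
    simpa using this
  have hyQ : (y' : G) ∈ (Q : Subgroup G) := hQ (Subgroup.mem_zpowers _)
  have hy1 : (y' : G) ≠ 1 := by
    intro h
    rw [h, orderOf_one] at hy
    norm_num at hy
  have hQy : Subgroup.zpowers (y' : G) = (Q : Subgroup G) :=
    h8_zpowers_eq_of_prime_card 3 (by norm_num) (Q : Subgroup G) hQcard (y' : G) hyQ hy1
  -- `P ≤ C(Q)`
  have hPC : (P : Subgroup G) ≤ Subgroup.centralizer ((Q : Subgroup G) : Set G) := by
    intro x hx
    rw [Subgroup.mem_centralizer_iff]
    intro w hw
    have hw' : w ∈ Subgroup.zpowers (y' : G) := by rw [hQy]; exact hw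
    obtain ⟨k, rfl⟩ := Subgroup.mem_zpowers_iff.mp hw'
    have hcomm : Commute x (y' : G) := Subgroup.mem_centralizer_iff.mp y'.2 x hx
    exact (hcomm.zpow_right k).symm
  have h11 : 11 ∣ Nat.card (Subgroup.centralizer ((Q : Subgroup G) : Set G)) := by
    have := Subgroup.card_dvd_of_le hPC
    rwa [hP] at this
  obtain ⟨hNQ, hCQ⟩ := s3696_three hG Q h11
  -- `N(Q) ≤ N(P)`
  have hle : Subgroup.normalizer ((Q : Subgroup G) : Set G) ≤
      Subgroup.normalizer ((P : Subgroup G) : Set G) := by
    intro g hg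
    by_contra hgN
    have hne : g • P ≠ P := fun h => hgN (Sylow.smul_eq_iff_mem_normalizer.mp h)
    have hgP : ((g • P : Sylow 11 G) : Subgroup G) ≤
        Subgroup.centralizer ((Q : Subgroup G) : Set G) := by
      intro w hw
      rw [h8_mem_smul_sylow] at hw
      have := s983_conj_mem_centralizer (Q : Subgroup G) g (g⁻¹ * w * g) hg (hPC hw)
      have e : g * (g⁻¹ * w * g) * g⁻¹ = w := by group
      rwa [e] at this
    obtain ⟨h12, hdvd⟩ := h8_nsylow_subgroup_ge 11 (g • P) P hne
      (Subgroup.centralizer ((Q : Subgroup G) : Set G)) hgP hPC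
    have hcard : Nat.card ((g • P : Sylow 11 G) : Subgroup G) = 11 := by
      have := h8_sylow_card 11 1 336 (by rw [hG]; norm_num) (by norm_num) (g • P)
      simpa using this
    rw [hcard, hCQ] at hdvd
    have := Nat.le_of_dvd (by norm_num) hdvd
    omega
  have := Subgroup.card_le_of_le hle
  rw [hNQ, hN] at this
  omega

end Cfsg.Agent.Lib.helper8.S983
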