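import Mathlib
import Cfsg.Agent.Lib.helper8.S983N3696

set_option autoImplicit false

/-! Project S983 (S0983), row N3696: the verbatim row `no_simple_3696` in the project namespace (proof in `helper8.S983N3696`). -/

namespace Cfsg.Agent.Lib.helper3.S983

/-- N3696: there is no simple group of order 3696. -/
theorem no_simple_3696 {G : Type*} [Group G] [Finite G] [IsSimpleGroup G] (hG : Nat.card G = 3696) : False :=
  Cfsg.Agent.Lib.helper8.S983.no_simple_3696 hG

end Cfsg.Agent.Lib.helper3.S983
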