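import Mathlib
import Cfsg.Agent.Lib.helper23.OrdGen3
import Cfsg.Agent.Lib.helper8.SylowBasic
import Cfsg.Agent.Lib.helper8.SimpleEmbed
import Cfsg.Agent.Lib.Helper1.S496EXC2
import Cfsg.Agent.S0904

set_option autoImplicit false

/-! Project S983 (S0983), row N5600: there is no simple group of order `5600 = 2^5 * 5^2 * 7`.

`S0904`: `C(P_7) = P_7`; `|N(P_7)| = 7 r`, `r ∣ 6`, `r ≠ 1`, `7 r ∣ 5600`: `r = 2`, `|N(P_7)| = 14`; `exc_two` (`p = 7`) asks for two consecutive divisors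
`x, x + 1` of 5600 with `x ≥ 2` and `x ≡ 1` or `x ≡ 5 mod 7`: there are none. -/

namespace Cfsg.Agent.Lib.helper3.S983

open Cfsg.Agent.Lib.helper8 Cfsg.Agent.Lib.helper23

/-- no consecutive divisors `x, x + 1` of 5600 with `x ≥ 2`, `x ≡ 1` or `x ≡ 5 mod 7`. -/
theorem s983n5600_arith : ∀ x ∈ Nat.divisors 5600, 2 ≤ x → (x + 1) ∣ 5600 →
    (x % 7 = 1 ∨ (x + 2) % 7 = 0) → False := by
  decide +kernel

/-- N5600: there is no simple group of order 5600. -/
theorem no_simple_5600 {G : Type*} [Group G] [Finite G] [IsSimpleGroup G] (hG : Nat.card G = 5600) : False := by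
  have : Fact (Nat.Prime 7) := ⟨by norm_num⟩
  have hnc : ¬ IsMulCommutative G := h8_not_comm_of_card (by rw [hG]; norm_num)
  obtain ⟨P⟩ : Nonempty (Sylow 7 G) := inferInstance
  have hG' : Nat.card G = 7 ^ 1 * 800 := by rw [hG]; norm_num
  have hnd : ¬ 7 ∣ 800 := by norm_num
  obtain ⟨hP, hNn, hX, r, hr6, hr1, hCr⟩ := og3_sylow_data 7 800 hG' hnd (by norm_num) P
  have hcen : Subgroup.centralizer ((P : Subgroup G) : Set G) = (P : Subgroup G) :=
    Cfsg.Agent.S0904.result 2 5 7 5 2 (by norm_num) (by norm_num) (by norm_num) (by norm_num)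
      (by norm_num) (by rw [hG]; norm_num) P
  have hC : Nat.card (Subgroup.centralizer ((P : Subgroup G) : Set G)) = 7 := by rw [hcen, hP]
  have hr : r = 2 ∨ r = 3 ∨ r = 6 := by
    have : r ∈ Nat.divisors 6 := Nat.mem_divisors.mpr ⟨hr6, by norm_num⟩
    have hd : Nat.divisors 6 = {1, 2, 3, 6} := by decide
    rw [hd] at this
    simp only [Finset.mem_insert, Finset.mem_singleton] at this
    rcases this with h | h | h | h
    · exact absurd h hr1
    · exact Or.inl h
    · exact Or.inr (Or.inl h)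
    · exact Or.inr (Or.inr h)
  rw [hG] at hNn
  rw [hC] at hCr
  have hN : Nat.card (Subgroup.normalizer ((P : Subgroup G) : Set G)) = 2 * 7 := by
    rw [← hCr] at hNn ⊢
    rcases hr with rfl | rfl | rfl <;> omega
  obtain ⟨x, hx2, hxd, hx1d, hxm⟩ := Cfsg.Agent.Lib.helper3.S496.exc_two hnc 7 (by norm_num) P hP hC hN
  rw [hG] at hxd hx1d
  exact s983n5600_arith x (Nat.mem_divisors.mpr ⟨hxd, by norm_num⟩) hx2 hx1d hxm

end Cfsg.Agent.Lib.helper3.S983
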