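import Mathlib
import Cfsg.Agent.Lib.helper23.OrdGen3
import Cfsg.Agent.Lib.helper8.SylowBasic
import Cfsg.Agent.Lib.helper8.SimpleEmbed
import Cfsg.Agent.Lib.helper8.SylowConj

set_option autoImplicit false

/-! Project S983 (S0983), order row 6160 = 2^4 * 5 * 7 * 11: there is no simple group of order 6160.

`n_7 = 22`, `|N(P7)| = 280`, `|C(P7)| = 140`; `z ∈ C(P7)` of order 5, `R = ⟨z⟩` a Sylow 5-subgroup, `P7 ≤ C(R)`, so `7 ∣ |C(R)|`
and `n_5 = 11`; a generator `x` of `P7` fixes `1 mod 5` and `11 mod 7` of the 11 points of `G ⧸ N(R)`: all of them, so `x = 1`. -/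

namespace Cfsg.Agent.Lib.helper8.S983

open Cfsg.Agent.Lib.helper8 Cfsg.Agent.Lib.helper23

/-- `n_7 = 22`, `|C(P7)| = 140`. -/
theorem s6160_seven {G : Type*} [Group G] [Finite G] [IsSimpleGroup G]
    (hG : Nat.card G = 6160) [Fact (Nat.Prime 7)] (P : Sylow 7 G) :
    Nat.card (P : Subgroup G) = 7 ∧
      Nat.card (Subgroup.centralizer ((P : Subgroup G) : Set G)) = 140 := by
  have hG' : Nat.card G = 7 ^ 1 * 880 := by rw [hG]; norm_num
  have hnd : ¬ 7 ∣ 880 := by norm_num
  have hnc : ¬ IsMulCommutative G := h8_not_comm_of_card (by rw [hG]; norm_num)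
  obtain ⟨hP, hNn, hX, r, hr6, hr1, hCr⟩ := og3_sylow_data 7 880 hG' hnd (by norm_num) P
  have hmem := h8_nsylow_mem 7 1 880 hG' hnd
  have hne1 := h8_simple_nsylow_ne_one 7 1 880 hG' hnd (by norm_num) (by norm_num)
  have hdiv : (Nat.divisors 880).filter (fun d => d % 7 = 1) = {1, 8, 22, 176} := by decide +kernel
  rw [hdiv] at hmem
  simp only [Finset.mem_insert, Finset.mem_singleton] at hmem
  have hr : r = 2 ∨ r = 3 ∨ r = 6 := by
    have : r ∈ Nat.divisors 6 := Nat.mem_divisors.mpr ⟨hr6, by norm_num⟩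
    have hd : Nat.divisors 6 = {1, 2, 3, 6} := by decide
    rw [hd] at this
    simp only [Finset.mem_insert, Finset.mem_singleton] at this
    rcases this with h | h | h | h
    · exact absurd h hr1
    · exact Or.inl h
    · exact Or.inr (Or.inl h)
    · exact Or.inr (Or.inr h)
  rw [hG] at hNn
  rcases hmem with h | h | h | h
  · exact absurd h hne1
  · -- n_7 = 8
    exfalso
    have hidx := h8_nsylow_eq_index_normalizer 7 P
    have hNtop : Subgroup.normalizer ((P : Subgroup G) : Set G) ≠ ⊤ := by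
      intro htop
      rw [htop, Subgroup.index_top] at hidx
      omega
    have := h8_simple_two_mul_card_dvd_factorial hnc _ hNtop
    rw [← hidx, h, hG] at this
    revert this
    decide
  · -- n_7 = 22
    have hN : Nat.card (Subgroup.normalizer ((P : Subgroup G) : Set G)) = 280 := by
      rw [h] at hNn; omega
    refine ⟨hP, ?_⟩
    rw [hN] at hCr
    rcases hr with rfl | rfl | rfl <;> omega
  · -- n_7 = 176
    exfalso
    have hN : Nat.card (Subgroup.normalizer ((P : Subgroup G) : Set G)) = 35 := by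
      rw [h] at hNn; omega
    rw [hN] at hCr
    rcases hr with rfl | rfl | rfl <;> omega

/-- a Sylow 5-subgroup whose centraliser has order divisible by 7 has 11 conjugates. -/
theorem s6160_five {G : Type*} [Group G] [Finite G] [IsSimpleGroup G]
    (hG : Nat.card G = 6160) [Fact (Nat.Prime 5)] (R : Sylow 5 G)
    (h7 : 7 ∣ Nat.card (Subgroup.centralizer ((R : Subgroup G) : Set G))) :
    Nat.card (R : Subgroup G) = 5 ∧
      Nat.card (G ⧸ Subgroup.normalizer ((R : Subgroup G) : Set G)) = 11 ∧
      Subgroup.normalizer ((R : Subgroup G) : Set G) ≠ ⊤ := by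
  have hG' : Nat.card G = 5 ^ 1 * 1232 := by rw [hG]; norm_num
  have hnd : ¬ 5 ∣ 1232 := by norm_num
  obtain ⟨hP, hNn, hX, r, hr4, hr1, hCr⟩ := og3_sylow_data 5 1232 hG' hnd (by norm_num) R
  have hmem := h8_nsylow_mem 5 1 1232 hG' hnd
  have hne1 := h8_simple_nsylow_ne_one 5 1 1232 hG' hnd (by norm_num) (by norm_num)
  have hdiv : (Nat.divisors 1232).filter (fun d => d % 5 = 1) = {1, 11, 16, 56, 176, 616} := by
    decide +kernel
  rw [hdiv] at hmem
  simp only [Finset.mem_insert, Finset.mem_singleton] at hmem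
  have hr : r = 2 ∨ r = 4 := by
    have : r ∈ Nat.divisors 4 := Nat.mem_divisors.mpr ⟨hr4, by norm_num⟩
    have hd : Nat.divisors 4 = {1, 2, 4} := by decide
    rw [hd] at this
    simp only [Finset.mem_insert, Finset.mem_singleton] at this
    rcases this with h | h | h
    · exact absurd h hr1
    · exact Or.inl h
    · exact Or.inr h
  rw [hG] at hNn
  obtain ⟨c, hc⟩ := h7
  have hidx := h8_nsylow_eq_index_normalizer 5 R
  have hNtop : Subgroup.normalizer ((R : Subgroup G) : Set G) ≠ ⊤ := by
    intro htop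
    rw [htop, Subgroup.index_top] at hidx
    exact hne1 hidx
  rcases hmem with h | h | h | h | h | h
  · exact absurd h hne1
  · exact ⟨hP, by rw [hX, h], hNtop⟩
  · exfalso
    have hN : Nat.card (Subgroup.normalizer ((R : Subgroup G) : Set G)) = 385 := by
      rw [h] at hNn; omega
    rw [hN] at hCr
    rcases hr with rfl | rfl <;> omega
  · exfalso
    have hN : Nat.card (Subgroup.normalizer ((R : Subgroup G) : Set G)) = 110 := by
      rw [h] at hNn; omega
    rw [hN] at hCr
    rcases hr with rfl | rfl <;> omega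
  · exfalso
    have hN : Nat.card (Subgroup.normalizer ((R : Subgroup G) : Set G)) = 35 := by
      rw [h] at hNn; omega
    rw [hN] at hCr
    rcases hr with rfl | rfl <;> omega
  · exfalso
    have hN : Nat.card (Subgroup.normalizer ((R : Subgroup G) : Set G)) = 10 := by
      rw [h] at hNn; omega
    rw [hN] at hCr
    rcases hr with rfl | rfl <;> omega

/-- There is no simple group of order `6160 = 2^4 * 5 * 7 * 11`. -/
theorem no_simple_6160 {G : Type*} [Group G] [Finite G] [IsSimpleGroup G]
    (hG : Nat.card G = 6160) : False := by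
  have : Fact (Nat.Prime 7) := ⟨by norm_num⟩
  have : Fact (Nat.Prime 5) := ⟨by norm_num⟩
  obtain ⟨P⟩ : Nonempty (Sylow 7 G) := inferInstance
  obtain ⟨hP, hC⟩ := s6160_seven hG P
  -- `z` of order 5 in `C(P)`
  have h5 : 5 ∣ Nat.card (Subgroup.centralizer ((P : Subgroup G) : Set G)) := by rw [hC]; norm_num
  obtain ⟨z', hz'⟩ := exists_prime_orderOf_dvd_card' 5 h5
  have hz : orderOf (z' : G) = 5 := by rw [Subgroup.orderOf_coe]; exact hz'
  have hpg : IsPGroup 5 (Subgroup.zpowers (z' : G)) :=
    IsPGroup.of_card (n := 1) (by rw [Nat.card_zpowers, hz, pow_one])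
  obtain ⟨R, hR⟩ := hpg.exists_le_sylow
  have hRcard : Nat.card (R : Subgroup G) = 5 := by
    have := h8_sylow_card 5 1 1232 (by rw [hG]; norm_num) (by norm_num) R
    simpa using this
  have hzR : (z' : G) ∈ (R : Subgroup G) := hR (Subgroup.mem_zpowers _)
  have hz1 : (z' : G) ≠ 1 := by
    intro h
    rw [h, orderOf_one] at hz
    norm_num at hz
  have hRz : Subgroup.zpowers (z' : G) = (R : Subgroup G) :=
    h8_zpowers_eq_of_prime_card 5 (by norm_num) (R : Subgroup G) hRcard (z' : G) hzR hz1
  -- `P ≤ C(R)`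
  have hPC : (P : Subgroup G) ≤ Subgroup.centralizer ((R : Subgroup G) : Set G) := by
    intro x hx
    rw [Subgroup.mem_centralizer_iff]
    intro y hy
    have hy' : y ∈ Subgroup.zpowers (z' : G) := by rw [hRz]; exact hy
    obtain ⟨k, rfl⟩ := Subgroup.mem_zpowers_iff.mp hy'
    have hcomm : Commute x (z' : G) := Subgroup.mem_centralizer_iff.mp z'.2 x hx
    exact (hcomm.zpow_right k).symm
  have h7 : 7 ∣ Nat.card (Subgroup.centralizer ((R : Subgroup G) : Set G)) := by
    have := Subgroup.card_dvd_of_le hPC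
    rwa [hP] at this
  obtain ⟨_, hX, hNtop⟩ := s6160_five hG R h7
  -- a generator `x` of `P`
  obtain ⟨x', hx'⟩ := exists_prime_orderOf_dvd_card' 7 (by rw [hP] : 7 ∣ Nat.card (P : Subgroup G))
  have hx : orderOf (x' : G) = 7 := by rw [Subgroup.orderOf_coe]; exact hx'
  have hxC : (x' : G) ∈ Subgroup.centralizer ((R : Subgroup G) : Set G) := hPC x'.2
  have hfix5 := og2_card_fixedBy_modEq_one 5 R hRcard (x' : G) hxC
  have hxp : IsPGroup 7 (Subgroup.zpowers (x' : G)) :=
    IsPGroup.of_card (n := 1) (by rw [Nat.card_zpowers, hx, pow_one])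
  have hfix7 := og2_card_fixedBy_modEq_of_commute
    (X := G ⧸ Subgroup.normalizer ((R : Subgroup G) : Set G)) (p := 7) (1 : G) (x' : G)
    (Commute.one_left _) hxp
  have e1 : Nat.card (MulAction.fixedBy (G ⧸ Subgroup.normalizer ((R : Subgroup G) : Set G)) (1 : G))
      = 11 := by
    rw [← hX]
    apply Nat.card_congr
    exact (Equiv.subtypeUnivEquiv (fun pt => by simp))
  have e2 : Nat.card {pt : G ⧸ Subgroup.normalizer ((R : Subgroup G) : Set G) //
      (1 : G) • pt = pt ∧ (x' : G) • pt = pt} =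
      Nat.card (MulAction.fixedBy (G ⧸ Subgroup.normalizer ((R : Subgroup G) : Set G)) (x' : G)) := by
    apply Nat.card_congr
    exact Equiv.subtypeEquivRight (fun pt => by simp [MulAction.mem_fixedBy])
  rw [e1, e2] at hfix7
  have hle : Nat.card (MulAction.fixedBy (G ⧸ Subgroup.normalizer ((R : Subgroup G) : Set G)) (x' : G))
      ≤ 11 := by
    rw [← hX]
    exact Finite.card_subtype_le _
  have hfix : Nat.card (MulAction.fixedBy (G ⧸ Subgroup.normalizer ((R : Subgroup G) : Set G)) (x' : G))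
      = 11 := by
    unfold Nat.ModEq at hfix5 hfix7
    omega
  have hx1 : (x' : G) = 1 := by
    apply og2_eq_one_of_card_fixedBy _ hNtop
    rw [hfix, hX]
  rw [hx1, orderOf_one] at hx
  norm_num at hx

end Cfsg.Agent.Lib.helper8.S983
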