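import Mathlib
import Cfsg.Agent.Lib.helper8.S983N6160

set_option autoImplicit false

/-! Project S983 (S0983), row N6160: the verbatim row `no_simple_6160` in the project namespace (proof in `helper8.S983N6160`). -/

namespace Cfsg.Agent.Lib.helper3.S983

/-- N6160: there is no simple group of order 6160. -/
theorem no_simple_6160 {G : Type*} [Group G] [Finite G] [IsSimpleGroup G] (hG : Nat.card G = 6160) : False :=
  Cfsg.Agent.Lib.helper8.S983.no_simple_6160 hG

end Cfsg.Agent.Lib.helper3.S983
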