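import Mathlib
import Cfsg.Agent.Lib.helper7.CEC.Defs
import Cfsg.Agent.Lib.Helper24.STCI1
import Cfsg.Agent.Lib.Helper29.CECL2

/-!
# Project CEC (designer helper7, S2092), row L9 `Xl_map`, `Xl_add` (helper8), VERBATIM.
-/

set_option autoImplicit false

namespace Cfsg.Agent.Lib.helper7.CEC

open Cfsg.Agent.Lib.helper15.St2 Cfsg.Agent.Lib.helper7.Ce Cfsg.Agent.Lib.helper3.STC

section L

variable {K : Type*} [Field K] {ι : Type*} {Γ G : Type*} [Group Γ] [Group G] {S : SysC K ι G} {σ : Γ →* G} {h : IsCE σ}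

/-- L9 [S-M]  `Dl_map`, `Dl_add_left` (`mul_add`, `sg_mul_self`). -/
theorem Xl_map (L : ShortLift S h) (h2 : I2 ι) (b : ι ⊕ ι) (s : K) : σ (Xl L h2 b s) = S.x (ng b) b s := by
  unfold Xl
  rw [Dl_map h L (Classical.choose_spec (h2 b))]
  congr 1
  have e1 : sg (Classical.choose (h2 b)) * sg (Classical.choose (h2 b)) = (1 : K) := sg_mul_self _
  have e2 : sg b * sg b = (1 : K) := sg_mul_self _
  calc sg (Classical.choose (h2 b)) * sg b * (sg (Classical.choose (h2 b)) * sg b * s) * 1 ^ 2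
      = (sg (Classical.choose (h2 b)) * sg (Classical.choose (h2 b))) * (sg b * sg b) * s := by ring
    _ = s := by rw [e1, e2]; ring

theorem Xl_add (hC : HC S σ) (L : ShortLift S h) (h2 : I2 ι) (b : ι ⊕ ι) (s s' : K) :
    Xl L h2 b (s + s') = Xl L h2 b s * Xl L h2 b s' := by
  unfold Xl
  rw [mul_add, Dl_add_left hC L (Classical.choose_spec (h2 b))]

end L

end Cfsg.Agent.Lib.helper7.CEC
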