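import Mathlib
import Cfsg.Prelude.Def_ChevStructure
import Cfsg.Agent.Lib.helper8.ChevUC17

set_option autoImplicit false
set_option linter.unusedSectionVars false

namespace Cfsg.Agent.Lib.helper8

open Cfsg.Lie Cfsg.Lie.ChevalleyDatum

universe u v w

variable {K : Type u} [Field K] {Γ : Type v} [Group Γ] {E : Type w} [Group E] {ρ : E →* Γ}
variable {D : ChevalleyDatum} {X : ℕ → K → Γ} {Y : ℕ → K → E}

/-- all commutator relations among the canonical lifts of the positive root elements -/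
theorem h8uc_pos_sys2 (h : H8CE ρ) (hSX : H8Sys D X) (hO : H8Ord3 D)
    (hadd : ∀ r < D.nroots, ∀ t u : K, Y r t * Y r u = Y r (t + u))
    (hρ : ∀ r t, ρ (Y r t) = X r t)
    (huniq : ∀ (k : ℕ) (t : ℕ → K), h8wX X (h8ordW D k t) = 1 → ∀ r ∈ h8Lk D k, t r = 0)
    (hneg : ∀ r s, D.IsPosRoot r → D.IsPosRoot s → s ≠ D.negIdx.getD r 0)
    (htor : ∀ γ δ, D.IsPosRoot γ → D.IsPosRoot δ → γ < δ → H8UCTor D Y γ δ ∨
      ∀ t u : K, Y δ u * Y γ t = Y γ t * Y δ u * h8wX Y (D.commWord K γ δ t u)) :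
    H8SysP D Y 0 := by
  have main : ∀ m j, j + m = D.nroots → H8SysP D Y j := by
    intro m
    induction m with
    | zero =>
      intro j hj
      refine ⟨hadd, ?_⟩
      intro r s hr _ hjr _ _ _
      have := hr.1
      omega
    | succ m ih =>
      intro j hj
      have hS := ih (j + 1) (by omega)
      refine ⟨hadd, ?_⟩
      intro r s hr hs hjr hrs t u
      rcases Nat.eq_or_lt_of_le hjr with rfl | hlt
      · -- the new root `j`
        have inner : ∀ n δ, δ + n = D.nroots → D.IsPosRoot δ → j < δ → ∀ t u : K,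
            Y δ u * Y j t = Y j t * Y δ u * h8wX Y (D.commWord K j δ t u) := by
          intro n
          induction n using Nat.strong_induction_on with
          | _ n ihn =>
            intro δ hδn hδ hjδ t u
            rcases htor j δ hr hδ hjδ with ht | hdirect
            · apply h8uc_pair_step h hSX hO j δ hS hρ huniq hr hδ hjδ (hneg j δ hr hδ) _ ht
              intro δ' hδ' hlt' t' u'
              have := hδ'.1
              exact ihn (D.nroots - δ') (by omega) δ' (by omega) hδ' (by omega) t' u'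
            · exact hdirect t u
        exact inner (D.nroots - s) s (by have := hs.1; omega) hs hrs t u
      · exact hS.comm r s hr hs (by omega) hrs t u
  exact main D.nroots 0 (by omega)

/-- Steinberg's theorem, the main step, with the commutation of the lifts of the elements of
one root subgroup as a hypothesis -/
theorem h8uc_sys_main3 {hB : H8Base.{u} D} {π : Γ →* GL D.Idx K} (hP : H8Pair D hB X π 1)
    (hL : H8All D) (hWS : H8W0S D) (hN2 : H8N2 D)
    (hgen : Subgroup.closure (h8AllS D X) = ⊤) (hperf : commutator Γ = ⊤)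
    (hsc : h8scChk D = true) (hO3 : H8Ord3 D) (hX0 : ∀ r, D.nroots ≤ r → ∀ t : K, X r t = 1)
    (h : H8CE ρ)
    (hmf : ∀ r < D.nroots, ∃ (m : List ℤ) (c : K), c ≠ 0 ∧ c ^ (h8pr D m r) ≠ 1)
    (hPM : ∀ γ δ, D.IsPosRoot γ → D.IsPosRoot δ → γ < δ →
      (∃ (m : List ℤ) (c : K), c ≠ 0 ∧ c ^ (h8pr D m δ) = 1 ∧ c ^ (h8pr D m γ) ≠ 1) ∨
      (D.commTerms γ δ = [] ∧
        ∀ (a b : K) (x y : E), ρ x = X γ a → ρ y = X δ b → x * y = y * x))
    (hself : ∀ r < D.nroots, ∀ (a b : K) (x y : E), ρ x = X r a → ρ y = X r b → x * y = y * x) :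
    ∃ Y : ℕ → K → E, H8Sys D Y ∧ (∀ r t, ρ (Y r t) = X r t) ∧
      ∀ q, D.nroots ≤ q → ∀ v, Y q v = 1 := by
  have hcex : ∀ r, ∃ (m : List ℤ) (c : K), c ≠ 0 ∧ (r < D.nroots → c ^ (h8pr D m r) ≠ 1) := by
    intro r
    by_cases hr : r < D.nroots
    · obtain ⟨m, c, hc, hc'⟩ := hmf r hr
      exact ⟨m, c, hc, fun _ => hc'⟩
    · exact ⟨[], 1, one_ne_zero, fun hr' => absurd hr' hr⟩
  choose mf cf hcf0 hcf1 using hcex
  let τ : ℕ → Γ := fun r => h8ucK D X (mf r) (cf r)
  let d : ℕ → K := fun r => (cf r) ^ (h8pr D (mf r) r) - 1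
  have hTau : H8UCTau D X τ d := by
    refine ⟨hP.sys, fun r hr => sub_ne_zero.mpr (hcf1 r hr), ?_⟩
    intro r hr t
    show h8ucK D X (mf r) (cf r) * X r t * (h8ucK D X (mf r) (cf r))⁻¹ =
      X r (((cf r) ^ (h8pr D (mf r) r) - 1 + 1) * t)
    rw [h8ucK_act hP hL hWS hN2 hsc (mf r) (cf r) (hcf0 r) r hr, sub_add_cancel]
  obtain ⟨Y, hYdef⟩ : ∃ Y : ℕ → K → E, Y = h8ucY h X τ d := ⟨_, rfl⟩
  have hρ : ∀ r t, ρ (Y r t) = X r t := by
    intro r t
    rw [hYdef]
    by_cases hr : r < D.nroots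
    · exact h8ucY_im h hTau r hr t
    · unfold h8ucY
      rw [map_mul, map_mul, map_mul, map_inv, map_inv, h.lift_spec, h.lift_spec,
        hX0 r (by omega), hX0 r (by omega)]
      group
  have hY1 : ∀ q, D.nroots ≤ q → ∀ v, Y q v = 1 := by
    intro q hq v
    rw [hYdef]
    unfold h8ucY
    have hz : ρ (h.lift (X q (v / d q))) = 1 := by rw [h.lift_spec, hX0 q hq]
    rw [mul_assoc (h.lift (τ q)), h.central _ hz, ← mul_assoc, mul_inv_cancel, one_mul,
      mul_inv_cancel]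
  have hadd : ∀ r < D.nroots, ∀ t u : K, Y r t * Y r u = Y r (t + u) := by
    intro r hr t u
    rw [hYdef]
    apply h8ucY_add h hTau r hr
    intro a b x y hx hy
    exact hself r hr a b x y hx hy
  have hτT : ∀ r, τ r ∈ Subgroup.closure (h8HS D X) := fun r => h8ucK_mem _ _ (hcf0 r)
  -- equivariance under the torus
  have htorus : ∀ (m : List ℤ) (c : K), c ≠ 0 → ∀ r < D.nroots, ∀ t : K,
      h.lift (h8ucK D X m c) * Y r t * (h.lift (h8ucK D X m c))⁻¹ =
        Y r (c ^ (h8pr D m r) * t) := by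
    intro m c hc r hr t
    rw [hYdef]
    apply h8ucY_conj h hperf _ r r _ rfl
    · intro t
      rw [h.lift_spec]
      exact h8ucK_act hP hL hWS hN2 hsc m c hc r hr t
    · rw [h.lift_spec]
      intro y
      have := h8pair_T_comm_central hP hL hWS hN2 hgen (τ r)⁻¹ (h8ucK D X m c)
        (Subgroup.inv_mem _ (hτT r)) (h8ucK_mem _ _ hc) y
      rw [inv_inv] at this
      have e : (τ r)⁻¹ * (h8ucK D X m c * τ r * (h8ucK D X m c)⁻¹) =
          (τ r)⁻¹ * h8ucK D X m c * τ r * (h8ucK D X m c)⁻¹ := by group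
      rw [e]
      exact this
  -- the torus hypothesis for the pairs of positive roots
  have htor : ∀ γ δ, D.IsPosRoot γ → D.IsPosRoot δ → γ < δ → H8UCTor D Y γ δ ∨
      ∀ t u : K, Y δ u * Y γ t = Y γ t * Y δ u * h8wX Y (D.commWord K γ δ t u) := by
    intro γ δ hγ hδ hγδ
    rcases hPM γ δ hγ hδ hγδ with ⟨m, c, hc, h0, hce⟩ | ⟨hct, hcm⟩
    · left
      refine ⟨h.lift (h8ucK D X m c), c ^ (h8pr D m γ), hce, ?_, ?_, ?_⟩
      · exact htorus m c hc γ hγ.1
      · intro u
        have := htorus m c hc δ hδ.1 u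
        rw [h0, one_mul] at this
        exact this
      · intro r hr t
        exact ⟨_, htorus m c hc r hr.1 t⟩
    · right
      intro t u
      unfold ChevalleyDatum.commWord
      rw [hct, List.map_nil, h8wX_nil, mul_one]
      exact (hcm t u (Y γ t) (Y δ u) (hρ γ t) (hρ δ u)).symm
  have huniq : ∀ (k : ℕ) (t : ℕ → K), h8wX X (h8ordW D k t) = 1 → ∀ r ∈ h8Lk D k, t r = 0 :=
    fun k t h1 => h8pair_ord_unique hP hL k t h1
  have hneg : ∀ r s, D.IsPosRoot r → D.IsPosRoot s → s ≠ D.negIdx.getD r 0 := by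
    intro r s hr hs he
    have h1 := h8stNegOfPos hB hL r hr
    rw [← he] at h1
    have h2 := (h8isPos_iff hB hL s hs.1).mp hs
    have h3 := (h8isNeg_iff hB hL s hs.1).mp h1
    omega
  have hSP := h8uc_pos_sys2 h hP.sys hO3 hadd hρ huniq hneg htor
  have hinj : ∀ y ∈ Subgroup.closure (h8VkS D Y 0), ρ y = 1 → y = 1 := fun y hy h1 =>
    h8sysP_inj hSP hO3 ρ hρ huniq 0 le_rfl y hy h1
  refine ⟨Y, ?_, hρ, hY1⟩
  apply h8uc_all_sys hP.sys hadd hρ hinj
  intro r s hr hs h1 h2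
  obtain ⟨w, hw, hpr, hps, hpc⟩ := h8uc_move hB hL hWS hO3 r s hr hs h1 h2
  have hn := h8nWS_mem_NS (D := D) (X := X) w hw
  have hnorm := h8pair_NS_le_normalizer hP hL hWS hN2 hn
  -- equivariance under the lift of the word
  have hmove : ∀ q < D.nroots, D.IsPosRoot (h8sW D w q) → ∀ v : K,
      h.lift (h8nWS D X w) * Y q v * (h.lift (h8nWS D X w))⁻¹ ∈
        Subgroup.closure (h8VkS D Y 0) := by
    intro q hq hpos v
    obtain ⟨κ, hκ, e, _⟩ := h8pair_nWS_act hP hL hWS hN2 w hw q hq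
    have hq' := hpos.1
    have key : h.lift (h8nWS D X w) * Y q v * (h.lift (h8nWS D X w))⁻¹ =
        Y (h8sW D w q) (κ * v) := by
      rw [hYdef]
      apply h8ucY_conj_gen h hperf hTau (by rw [← hYdef]; exact hadd) _ q _ hq hq' κ hκ
      · intro t
        rw [h.lift_spec]
        exact e t
      · rw [h.lift_spec]
        intro y
        have hmem : h8nWS D X w * τ q * (h8nWS D X w)⁻¹ ∈ Subgroup.closure (h8HS D X) :=
          (Subgroup.mem_normalizer_iff.mp hnorm (τ q)).mp (hτT q)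
        have := h8pair_T_comm_central hP hL hWS hN2 hgen (τ (h8sW D w q))⁻¹ _
          (Subgroup.inv_mem _ (hτT _)) hmem y
        rw [inv_inv] at this
        have e' : (τ (h8sW D w q))⁻¹ * (h8nWS D X w * τ q * (h8nWS D X w)⁻¹ * τ (h8sW D w q) *
            (h8nWS D X w * τ q * (h8nWS D X w)⁻¹)⁻¹) =
            (τ (h8sW D w q))⁻¹ * (h8nWS D X w * τ q * (h8nWS D X w)⁻¹) * τ (h8sW D w q) *
            (h8nWS D X w * τ q * (h8nWS D X w)⁻¹)⁻¹ := by group
        rw [e']
        exact this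
    rw [key]
    exact Subgroup.subset_closure ⟨_, _, hpos, Nat.zero_le _, rfl⟩
  refine ⟨h.lift (h8nWS D X w), hmove r hr hpr, hmove s hs hps, ?_⟩
  intro c hc v
  by_cases hlt : c.1 < D.nroots
  · exact hmove c.1 hlt (hpc c hc) v
  · rw [hY1 c.1 (by omega), mul_one, mul_inv_cancel]
    exact Subgroup.one_mem _

end Cfsg.Agent.Lib.helper8
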