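import Mathlib
import Cfsg.Prelude.Def_ChevStructure
import Cfsg.Agent.Lib.helper8.ChevUC18
import Cfsg.Agent.Lib.helper8.ChevUC20

set_option autoImplicit false
set_option linter.unusedSectionVars false

namespace Cfsg.Agent.Lib.helper8

open Cfsg.Lie Cfsg.Lie.ChevalleyDatum

universe u v w

variable {K : Type u} [Field K] {Γ : Type v} [Group Γ] {E : Type w} [Group E] {ρ : E →* Γ}
variable {D : ChevalleyDatum} {X : ℕ → K → Γ}

/-- a scalar of exact multiplicative order `n` -/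
structure H8ExOrd (c : K) (n : ℕ) : Prop where
  ne0 : c ≠ 0
  iff : ∀ e : ℤ, c ^ e = 1 ↔ e % (n : ℤ) = 0

/-- lifts of `X δ` commute with lifts of `X γ`, if `X γ` is the commutator of `X a`, `X b` and
lifts of `X δ` commute with lifts of `X a` and of `X b` -/
theorem h8uc_comm_cfg1 (h : H8CE ρ) (δ γ a b : ℕ) (cc : K → K → K)
    (hrel : ∀ t u : K, X b u * X a t = X a t * X b u * X γ (cc t u))
    (hsurj : ∀ v : K, ∃ t u : K, cc t u = v)
    (ha : ∀ (p q : K) (x y : E), ρ x = X δ p → ρ y = X a q → x * y = y * x)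
    (hb : ∀ (p q : K) (x y : E), ρ x = X δ p → ρ y = X b q → x * y = y * x)
    (p q : K) (x y : E) (hx : ρ x = X δ p) (hy : ρ y = X γ q) : x * y = y * x := by
  obtain ⟨t, u, htu⟩ := hsurj q
  set A := h.lift (X a t) with hA
  set B := h.lift (X b u) with hB
  have hxA : x * A = A * x := ha p t x A hx (h.lift_spec _)
  have hxB : x * B = B * x := hb p u x B hx (h.lift_spec _)
  set y' := (A * B)⁻¹ * (B * A) with hy'
  have hρy' : ρ y' = X γ q := by
    rw [hy', map_mul, map_inv, map_mul, map_mul, hA, hB, h.lift_spec, h.lift_spec, hrel t u, htu]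
    group
  have hxy' : x * y' = y' * x := by
    have hxAi : x * A⁻¹ = A⁻¹ * x := by
      rw [eq_inv_mul_iff_mul_eq, ← mul_assoc, ← hxA, mul_inv_cancel_right]
    have hxBi : x * B⁻¹ = B⁻¹ * x := by
      rw [eq_inv_mul_iff_mul_eq, ← mul_assoc, ← hxB, mul_inv_cancel_right]
    have e : y' = B⁻¹ * A⁻¹ * B * A := by rw [hy']; group
    rw [e]
    calc x * (B⁻¹ * A⁻¹ * B * A) = (x * B⁻¹) * A⁻¹ * B * A := by group
      _ = B⁻¹ * (x * A⁻¹) * B * A := by rw [hxBi]; group
      _ = B⁻¹ * A⁻¹ * (x * B) * A := by rw [hxAi]; group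
      _ = B⁻¹ * A⁻¹ * B * (x * A) := by rw [hxB]; group
      _ = B⁻¹ * A⁻¹ * B * A * x := by rw [hxA]; group
  have hz : ρ (y'⁻¹ * y) = 1 := by rw [map_mul, map_inv, hρy', hy, inv_mul_cancel]
  have hzc := h.central _ hz x
  set z := y'⁻¹ * y with hzdef
  have ey : y = y' * z := by rw [hzdef]; group
  calc x * y = (x * y') * z := by rw [ey]; group
    _ = y' * (x * z) := by rw [hxy']; group
    _ = y' * (z * x) := by rw [hzc]
    _ = y * x := by rw [ey]; group

/-- all vectors with entries `0, 1, -1` -/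
def h8ucCands3 : ℕ → List (List ℤ)
  | 0 => [[]]
  | k + 1 => (h8ucCands3 k).flatMap fun m => [0 :: m, 1 :: m, -1 :: m]

/-- a cocharacter `m` with `n ∣ ⟨δ, m⟩` and `n ∤ ⟨α, m⟩` -/
def h8modFind (D : ChevalleyDatum) (n : ℕ) (α δ : ℕ) : List ℤ :=
  ((h8ucCands3 D.rank).find? fun m =>
    decide (h8prL D m δ % (n : ℤ) = 0) && !decide (h8prL D m α % (n : ℤ) = 0)).getD []

def h8modGood (D : ChevalleyDatum) (n : ℕ) (α δ : ℕ) : Bool :=
  decide (h8prL D (h8modFind D n α δ) δ % (n : ℤ) = 0) &&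
    !decide (h8prL D (h8modFind D n α δ) α % (n : ℤ) = 0)

/-- the root subgroups `δ`, `a` commute and some torus element separates them -/
def h8commOK (D : ChevalleyDatum) (n : ℕ) (δ a : ℕ) : Bool :=
  decide (a ≠ δ ∧ a ≠ D.negIdx.getD δ 0 ∧ δ ≠ a ∧ δ ≠ D.negIdx.getD a 0 ∧
    D.commTerms δ a = [] ∧ D.commTerms a δ = []) &&
    (h8modGood D n δ a || h8modGood D n a δ)

/-- the configuration check: `γ = a + b` with a one-term commutator formula -/
def h8cfgChk (D : ChevalleyDatum) (n : ℕ) (eps : List ℤ) (δ γ a b : ℕ) : Bool :=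
  decide (δ < D.nroots ∧ γ < D.nroots ∧ a < D.nroots ∧ b < D.nroots ∧ b ≠ a ∧
    b ≠ D.negIdx.getD a 0) &&
    decide (∃ ε ∈ eps, D.commTerms a b = [(γ, ε, 1, 1)]) &&
    h8commOK D n δ a && h8commOK D n δ b

section

variable {hB : H8Base.{u} D} {π : Γ →* GL D.Idx K} (hP : H8Pair D hB X π 1)
  (hL : H8All D) (hWS : H8W0S D) (hN2 : H8N2 D) (hsc : h8scChk D = true)
include hP hL hWS hN2 hsc

/-- lifts of elements of two commuting root subgroups commute, if a torus element separates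
them (first form) -/
theorem h8uc_comm_pair_mod (h : H8CE ρ) (c : K) (n : ℕ) (hc : H8ExOrd c n) (α δ : ℕ)
    (hα : α < D.nroots) (hδ : δ < D.nroots)
    (h1 : δ ≠ α) (h2 : δ ≠ D.negIdx.getD α 0) (hct : D.commTerms α δ = [])
    (hg : h8modGood D n α δ = true)
    (a b : K) (x y : E) (hx : ρ x = X α a) (hy : ρ y = X δ b) : x * y = y * x := by
  unfold h8modGood at hg
  rw [Bool.and_eq_true, decide_eq_true_eq, Bool.not_eq_true', decide_eq_false_iff_not] at hg
  set m := h8modFind D n α δ with hm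
  rw [← h8pr_eq, ← h8pr_eq] at hg
  have hcomm : ∀ t u : K, X α t * X δ u = X δ u * X α t := by
    intro t u
    have := hP.sys.comm α hα δ hδ h1 h2 t u
    unfold ChevalleyDatum.commWord at this
    rw [hct, List.map_nil, h8wX_nil, mul_one] at this
    exact this.symm
  refine h8uc_comm_pair h hP.sys α δ hα hcomm (h8ucK D X m c) (c ^ (h8pr D m α))
    (fun h1 => hg.2 ((hc.iff _).mp h1)) ?_ ?_ a b x y hx hy
  · intro t
    exact h8ucK_act hP hL hWS hN2 hsc m c hc.ne0 α hα t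
  · intro t
    have := h8ucK_act hP hL hWS hN2 hsc m c hc.ne0 δ hδ t
    rw [(hc.iff _).mpr hg.1, one_mul] at this
    exact this

/-- lifts of elements of two commuting root subgroups commute, if a torus element separates
them -/
theorem h8uc_commOK_spec (h : H8CE ρ) (c : K) (n : ℕ) (hc : H8ExOrd c n) (δ a : ℕ)
    (hδ : δ < D.nroots) (ha : a < D.nroots) (hok : h8commOK D n δ a = true)
    (p q : K) (x y : E) (hx : ρ x = X δ p) (hy : ρ y = X a q) : x * y = y * x := by
  unfold h8commOK at hok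
  rw [Bool.and_eq_true, decide_eq_true_eq, Bool.or_eq_true] at hok
  obtain ⟨⟨h1, h2, h3, h4, hct, hct'⟩, hg | hg⟩ := hok
  · exact h8uc_comm_pair_mod hP hL hWS hN2 hsc h c n hc δ a hδ ha h1 h2 hct hg p q x y hx hy
  · exact (h8uc_comm_pair_mod hP hL hWS hN2 hsc h c n hc a δ ha hδ h3 h4 hct' hg q p y x
      hy hx).symm

/-- the configuration argument with a one-term commutator formula -/
theorem h8uc_cfgChk_spec (h : H8CE ρ) (c : K) (n : ℕ) (hc : H8ExOrd c n) (eps : List ℤ)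
    (heps : ∀ ε ∈ eps, ((ε : ℤ) : K) ≠ 0) (δ γ a b : ℕ)
    (hchk : h8cfgChk D n eps δ γ a b = true)
    (p q : K) (x y : E) (hx : ρ x = X δ p) (hy : ρ y = X γ q) : x * y = y * x := by
  unfold h8cfgChk at hchk
  rw [Bool.and_eq_true, Bool.and_eq_true, Bool.and_eq_true, decide_eq_true_eq,
    decide_eq_true_eq] at hchk
  obtain ⟨⟨⟨⟨hδ, hγ, ha, hb, hba, hba'⟩, ε, hε, hct⟩, hoka⟩, hokb⟩ := hchk
  refine h8uc_comm_cfg1 h δ γ a b (fun t u => (ε : K) * (-t) ^ 1 * u ^ 1) ?_ ?_
    (h8uc_commOK_spec hP hL hWS hN2 hsc h c n hc δ a hδ ha hoka)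
    (h8uc_commOK_spec hP hL hWS hN2 hsc h c n hc δ b hδ hb hokb) p q x y hx hy
  · intro t u
    have := hP.sys.comm a ha b hb hba hba' t u
    unfold ChevalleyDatum.commWord at this
    rw [hct] at this
    rw [this]
    simp only [List.map_cons, List.map_nil, h8wX_cons, h8wX_nil, mul_one]
  · intro v
    have hε0 := heps ε hε
    refine ⟨-(v / (ε : K)), 1, ?_⟩
    field_simp

end

end Cfsg.Agent.Lib.helper8
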