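import Mathlib
import Cfsg.Prelude.Def_SteinbergCover
import Cfsg.Agent.Lib.helper8.ChevUC21
import Cfsg.Agent.Lib.helper8.ChevUC12

set_option autoImplicit false
set_option linter.unusedSectionVars false

namespace Cfsg.Agent.Lib.helper8

open Cfsg.Lie Cfsg.Lie.ChevalleyDatum

universe u v w

variable {K : Type u} [Field K] {Γ : Type v} [Group Γ] {E : Type w} [Group E] {ρ : E →* Γ}
variable {D : ChevalleyDatum} {X : ℕ → K → Γ}

/-- the check for the pairs of positive roots: a separating torus element, or a commuting pair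
with a configuration -/
def h8pairChk2 (D : ChevalleyDatum) (n : ℕ) (eps : List ℤ)
    (cert : List ((ℕ × ℕ) × (ℕ × ℕ))) : Bool :=
  (List.range D.nroots).all fun γ => (List.range D.nroots).all fun δ =>
    if D.nroots / 2 ≤ γ ∧ γ < δ then
      h8modGood D n γ δ || (match cert.lookup (γ, δ) with
        | some ab => decide (D.commTerms γ δ = []) && h8cfgChk D n eps δ γ ab.1 ab.2
        | none => false)
    else true

/-- the check for the commutation inside one root subgroup -/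
def h8selfChk (D : ChevalleyDatum) (n : ℕ) (eps : List ℤ) (cert : List (ℕ × ℕ)) : Bool :=
  (List.range D.nroots).all fun r =>
    h8cfgChk D n eps r r (cert.getD r (0, 0)).1 (cert.getD r (0, 0)).2

section

variable {hB : H8Base.{u} D} {π : Γ →* GL D.Idx K} (hP : H8Pair D hB X π 1)
  (hL : H8All D) (hWS : H8W0S D) (hN2 : H8N2 D) (hsc : h8scChk D = true)
include hP hL hWS hN2 hsc

theorem h8pairChk2_spec (h : H8CE ρ) (c : K) (n : ℕ) (hc : H8ExOrd c n) (eps : List ℤ)
    (heps : ∀ ε ∈ eps, ((ε : ℤ) : K) ≠ 0) (cert : List ((ℕ × ℕ) × (ℕ × ℕ)))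
    (hchk : h8pairChk2 D n eps cert = true)
    (γ δ : ℕ) (hγ : D.IsPosRoot γ) (hδ : D.IsPosRoot δ) (hγδ : γ < δ) :
    (∃ (m : List ℤ) (c : K), c ≠ 0 ∧ c ^ (h8pr D m δ) = 1 ∧ c ^ (h8pr D m γ) ≠ 1) ∨
      (D.commTerms γ δ = [] ∧
        ∀ (a b : K) (x y : E), ρ x = X γ a → ρ y = X δ b → x * y = y * x) := by
  unfold h8pairChk2 at hchk
  rw [List.all_eq_true] at hchk
  have h1 := hchk γ (List.mem_range.mpr hγ.1)
  rw [List.all_eq_true] at h1
  have h2 := h1 δ (List.mem_range.mpr hδ.1)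
  rw [if_pos ⟨(h8isPos_iff hB hL γ hγ.1).mp hγ, hγδ⟩, Bool.or_eq_true] at h2
  rcases h2 with hg | hcfg
  · left
    unfold h8modGood at hg
    rw [Bool.and_eq_true, decide_eq_true_eq, Bool.not_eq_true', decide_eq_false_iff_not] at hg
    rw [← h8pr_eq, ← h8pr_eq] at hg
    exact ⟨h8modFind D n γ δ, c, hc.ne0, (hc.iff _).mpr hg.1, fun h1 => hg.2 ((hc.iff _).mp h1)⟩
  · right
    cases hlk : cert.lookup (γ, δ) with
    | none => rw [hlk] at hcfg; exact absurd hcfg (by simp)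
    | some ab =>
      rw [hlk] at hcfg
      simp only [Bool.and_eq_true, decide_eq_true_eq] at hcfg
      refine ⟨hcfg.1, ?_⟩
      intro a b x y hx hy
      exact (h8uc_cfgChk_spec hP hL hWS hN2 hsc h c n hc eps heps δ γ ab.1 ab.2 hcfg.2
        b a y x hy hx).symm

theorem h8selfChk_spec (h : H8CE ρ) (c : K) (n : ℕ) (hc : H8ExOrd c n) (eps : List ℤ)
    (heps : ∀ ε ∈ eps, ((ε : ℤ) : K) ≠ 0) (cert : List (ℕ × ℕ))
    (hchk : h8selfChk D n eps cert = true) (r : ℕ) (hr : r < D.nroots)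
    (a b : K) (x y : E) (hx : ρ x = X r a) (hy : ρ y = X r b) : x * y = y * x := by
  unfold h8selfChk at hchk
  rw [List.all_eq_true] at hchk
  have h1 := hchk r (List.mem_range.mpr hr)
  exact h8uc_cfgChk_spec hP hL hWS hN2 hsc h c n hc eps heps r r _ _ h1 a b x y hx hy

end

/-- Steinberg's theorem with a scalar of exact order `n` -/
theorem h8uc_split_mod (D : ChevalleyDatum)
    (hD : D ∈ [chevG2, chevB2, chevD4, chevF4, chevE6, chevE7, chevE8])
    (hKp : D ∈ [chevB2, chevG2] → ∃ x : K, x ≠ 0 ∧ x ≠ 1)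
    (c : K) (n : ℕ) (hn : 2 ≤ n) (hc : H8ExOrd c n) (eps : List ℤ)
    (heps : ∀ ε ∈ eps, ((ε : ℤ) : K) ≠ 0)
    (hO3 : h8ord3Chk D = true) (hM : h8ucMChk D = true)
    (cert2 : List ((ℕ × ℕ) × (ℕ × ℕ))) (hpair : h8pairChk2 D n eps cert2 = true)
    {ρ : E →* D.SteinbergCover K} (h : H8CE ρ)
    (hself : ∀ r < D.nroots, ∀ (a b : K) (x y : E),
      ρ x = D.scGen K r a → ρ y = D.scGen K r b → x * y = y * x) :
    ∃ τ : D.SteinbergCover K →* E, ρ.comp τ = MonoidHom.id _ := by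
  have hB := h8base_all.{u} D hD
  have hC := h8commAll.{u} D hD
  have hL := h8all_all D hD
  have hperf : commutator (D.SteinbergCover K) = ⊤ := h8sc_perfect_all D hD hKp
  have hP := h8sc_pair (K := K) D hB hC
  obtain ⟨Y, hS, hρ, hY0⟩ := h8uc_sys_main3 hP hL (h8w0s_all D hD)
    (h8n2_all D hD) (h8sc_gen D) hperf (h8scChk_all D hD) (h8ord3_of_chk D hB hL hO3)
    (fun r hr t => h8scGen_oob D r hr t) h
    (fun r hr => ⟨h8ucM D r, c, hc.ne0, by
      rw [h8ucM_spec D hM r hr]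
      intro h1
      have := (hc.iff 1).mp h1
      have h2 : (1 : ℤ) % (n : ℤ) = 1 := Int.emod_eq_of_lt (by norm_num) (by exact_mod_cast hn)
      rw [h2] at this
      exact one_ne_zero this⟩)
    (fun γ δ hγ hδ hγδ => h8pairChk2_spec hP hL (h8w0s_all D hD) (h8n2_all D hD)
      (h8scChk_all D hD) h c n hc eps heps cert2 hpair γ δ hγ hδ hγδ)
    hself
  refine ⟨h8ucSigma D Y hS hY0, ?_⟩
  apply PresentedGroup.ext
  intro p
  rw [MonoidHom.comp_apply, MonoidHom.id_apply]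
  have e1 : (PresentedGroup.of p : D.SteinbergCover K) = D.scGen K p.1.val p.2 := by
    unfold ChevalleyDatum.scGen ChevalleyDatum.stX
    rw [dif_pos p.1.2]
    rfl
  rw [e1, h8ucSigma_gen, hρ]

end Cfsg.Agent.Lib.helper8
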