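import Mathlib
import Cfsg.Prelude.Def_KGroupFacts
import Cfsg.Agent.Lib.helper8.ChevUC12
import Cfsg.Agent.Lib.helper8.ChevSt31
import Cfsg.Agent.Lib.helper8.ChevSt37

set_option autoImplicit false
set_option linter.unusedSectionVars false

namespace Cfsg.Agent.Lib.helper8

open Cfsg.Lie Cfsg.Lie.ChevalleyDatum

universe u w

/-- a stem extension which splits is trivial -/
theorem h8stem_trivial {Δ : Type u} [Group Δ] {Γ : Type w} [Group Γ] (ρ : Γ →* Δ) (h : H8CE ρ)
    (hstem : ρ.ker ≤ commutator Γ) (τ : Δ →* Γ) (hτ : ρ.comp τ = MonoidHom.id _) :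
    ρ.ker = ⊥ := by
  have hρτ : ∀ d, ρ (τ d) = d := fun d => by
    have := congrArg (fun f => f d) hτ
    simpa using this
  have hcom : commutator Γ ≤ τ.range := by
    rw [commutator_def, Subgroup.commutator_le]
    intro g₁ _ g₂ _
    rw [commutatorElement_def,
      h.comm_eq (a' := τ (ρ g₁)) (b' := τ (ρ g₂)) (hρτ _).symm (hρτ _).symm]
    refine ⟨ρ g₁ * ρ g₂ * (ρ g₁)⁻¹ * (ρ g₂)⁻¹, ?_⟩
    simp only [map_mul, map_inv]
  rw [eq_bot_iff]
  intro z hz
  obtain ⟨d, rfl⟩ := hcom (hstem hz)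
  rw [MonoidHom.mem_ker, hρτ] at hz
  rw [Subgroup.mem_bot, hz, map_one]

variable {F : Type u} [Field F]

/-- the Schur multiplier statement from the splitting property and an isomorphism with the
cover -/
theorem h8schur_trivial_of_split {G : Type u} [Group G] [Finite G] {Δ : Type u} [Group Δ]
    (e₀ : Δ ≃* G)
    (hsplit : ∀ (Γ : Type u) [Group Γ] (ρ : Γ →* Δ), H8CE ρ →
      ∃ τ : Δ →* Γ, ρ.comp τ = MonoidHom.id _) :
    Cfsg.HasCyclicSchurMultiplier G 1 := by
  constructor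
  · refine ⟨G, inferInstance, inferInstance, MonoidHom.id G, ⟨Function.surjective_id, ?_, ?_⟩, ?_⟩
    · rw [MonoidHom.ker_id]; exact bot_le
    · rw [MonoidHom.ker_id]; exact bot_le
    · have hu : ∀ x : (MonoidHom.id G).ker, x = 1 := by
        intro x
        apply Subtype.ext
        have h1 : (x : G) ∈ (MonoidHom.id G).ker := x.2
        have h2 : (x : G) ∈ (⊥ : Subgroup G) := by
          rw [← MonoidHom.ker_id (G := G)]; exact h1
        exact Subgroup.mem_bot.mp h2
      refine ⟨⟨⟨fun _ => 1, fun _ => 1, fun x => (hu x).symm, fun y => ?_⟩, fun x y => ?_⟩⟩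
      · exact Subsingleton.elim _ _
      · exact Subsingleton.elim _ _
  · intro Γ _ _ σ hσ
    obtain ⟨hs, hc, hcomm⟩ := hσ
    let ρ : Γ →* Δ := e₀.symm.toMonoidHom.comp σ
    have hker : ρ.ker = σ.ker := by
      ext z
      rw [MonoidHom.mem_ker, MonoidHom.mem_ker]
      show e₀.symm (σ z) = 1 ↔ σ z = 1
      rw [MulEquiv.map_eq_one_iff]
    have hCE : H8CE ρ := by
      refine ⟨e₀.symm.surjective.comp hs, ?_⟩
      intro z hz g
      have hz' : z ∈ σ.ker := by rw [← hker]; exact hz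
      exact ((Subgroup.mem_center_iff.mp (hc hz')) g).symm
    obtain ⟨τ, hτ⟩ := hsplit Γ ρ hCE
    have hbot := h8stem_trivial ρ hCE (by rw [hker]; exact hcomm) τ hτ
    rw [hker] at hbot
    refine ⟨1, ?_⟩
    intro x
    refine ⟨1, ?_⟩
    apply Subtype.ext
    have h1 : (x : Γ) ∈ σ.ker := x.2
    have h2 : (x : Γ) ∈ (⊥ : Subgroup Γ) := by
      rw [← hbot]; exact h1
    exact (Subgroup.mem_bot.mp h2).symm

/-- the cover of type `G₂` over a finite field is the Chevalley group -/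
theorem h8g2_cover_iso [Finite F] :
    Nonempty (chevG2.SteinbergCover F ≃* ↥(chevG2.group F)) := by
  have hD7 : chevG2 ∈ [chevG2, chevB2, chevD4, chevF4, chevE6, chevE7, chevE8] := by simp
  have hD3 : chevG2 ∈ [chevG2, chevF4, chevE8] := by simp
  have hB := h8base_all.{u} chevG2 hD7
  have hC := h8commAll.{u} chevG2 hD7
  obtain ⟨e, -⟩ := h8sc_iso (K := F) chevG2 hD7
  have hsurj := h8stTheta_surj (K := F) chevG2 hB hC
  have hker := h8stTheta_ker (K := F) chevG2 hD7
  rw [h8st_center_trivial chevG2 hD3] at hker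
  have hinj : Function.Injective (h8stTheta (K := F) chevG2 hB hC) :=
    (MonoidHom.ker_eq_bot_iff _).mp hker
  exact ⟨e.trans (MulEquiv.ofBijective (h8stTheta (K := F) chevG2 hB hC) ⟨hinj, hsurj⟩)⟩

/-- the Schur multiplier of `G₂(q)` is trivial for `q ≥ 5` -/
theorem h8g2_schur [Fintype F] (hF : 5 ≤ Fintype.card F) :
    Cfsg.HasCyclicSchurMultiplier ↥(chevG2.group F) 1 := by
  have hD7 : chevG2 ∈ [chevG2, chevB2, chevD4, chevF4, chevE6, chevE7, chevE8] := by simp
  have hK5 : ∃ s : Finset F, 4 < s.card := ⟨Finset.univ, by rw [Finset.card_univ]; omega⟩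
  obtain ⟨e₀⟩ := h8g2_cover_iso (F := F)
  have : Finite ↥(chevG2.group F) := inferInstance
  apply h8schur_trivial_of_split e₀
  intro Γ _ ρ hCE
  exact h8uc_split chevG2 hD7 hK5 h8ord3Chk_G2 h8ucMChk_G2 h8ucPMChk_G2 hCE

end Cfsg.Agent.Lib.helper8
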