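import Mathlib
import Cfsg.Prelude.Def_ChevF4
import Cfsg.Agent.Lib.helper8.ChevUC22

set_option autoImplicit false

namespace Cfsg.Agent.Lib.helper8

open Cfsg.Lie Cfsg.Lie.ChevalleyDatum

/-- configurations for the 18 pairs of orthogonal long positive roots of `F₄` whose half sum is
a short root -/
def h8f4Cert2 : List ((ℕ × ℕ) × (ℕ × ℕ)) :=
  [((24, 32), (10, 38)), ((24, 43), (10, 38)), ((24, 45), (12, 36)), ((25, 30), (9, 39)),
   ((25, 41), (9, 39)), ((25, 47), (13, 35)), ((26, 31), (10, 39)), ((26, 42), (10, 39)),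
   ((26, 46), (13, 36)), ((30, 41), (11, 40)), ((30, 47), (14, 37)), ((31, 42), (12, 40)),
   ((31, 46), (14, 38)), ((32, 43), (13, 40)), ((32, 45), (14, 39)), ((41, 47), (33, 37)),
   ((42, 46), (33, 38)), ((43, 45), (33, 39))]

/-- every root of `F₄` as a sum of two roots spanning a subsystem of type `A₂` -/
def h8f4Self3 : List (ℕ × ℕ) :=
  [(1, 23), (0, 24), (0, 26), (7, 14), (0, 31), (0, 32), (1, 32), (3, 33), (3, 34), (3, 35),
   (3, 36), (3, 37), (3, 38), (3, 39), (3, 40), (0, 42), (0, 43), (1, 43), (7, 37), (7, 38),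
   (7, 39), (0, 45), (1, 45), (0, 46), (1, 47), (2, 46), (2, 47), (8, 40), (9, 40), (10, 40),
   (4, 46), (4, 47), (5, 47), (7, 44), (8, 44), (9, 44), (10, 44), (11, 44), (12, 44), (13, 44),
   (14, 44), (15, 46), (15, 47), (16, 47), (33, 40), (21, 47), (23, 47), (24, 46)]

theorem h8f4_pair2 : h8pairChk2 chevF4 2 [1, -1, 2, -2] h8f4Cert2 = true := by decide +kernel

theorem h8f4_pair3 : h8pairChk2 chevF4 3 [1, -1] [] = true := by decide +kernel

theorem h8f4_self3 : h8selfChk chevF4 3 [1, -1] h8f4Self3 = true := by decide +kernel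

end Cfsg.Agent.Lib.helper8
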