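import Mathlib
import Cfsg.Prelude.Def_KGroupFacts
import Cfsg.Agent.Lib.helper8.ChevUC13
import Cfsg.Agent.Lib.helper8.ChevUC23

set_option autoImplicit false
set_option linter.unusedSectionVars false

namespace Cfsg.Agent.Lib.helper8

open Cfsg.Lie Cfsg.Lie.ChevalleyDatum

universe u v w

variable {K : Type u} [Field K] {Γ : Type v} [Group Γ] {E : Type w} [Group E] {ρ : E →* Γ}
variable {D : ChevalleyDatum} {X : ℕ → K → Γ}

/-- over the field with three elements the lifts of the elements of a root subgroup commute -/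
theorem h8uc_self_card3 (h : H8CE ρ) (hS : H8Sys D X) (r : ℕ) (hr : r < D.nroots)
    (hcases : ∀ a b : K, a = 0 ∨ b = 0 ∨ a = b ∨ a = -b)
    (a b : K) (x y : E) (hx : ρ x = X r a) (hy : ρ y = X r b) : x * y = y * x := by
  rcases hcases a b with ha | hb | hab | hab
  · rw [ha, h8sys_zero hS r hr] at hx
    exact h.central x hx y
  · rw [hb, h8sys_zero hS r hr] at hy
    exact (h.central y hy x).symm
  · have hz : ρ (x⁻¹ * y) = 1 := by rw [map_mul, map_inv, hx, hy, hab, inv_mul_cancel]
    have hzc := h.central _ hz x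
    set z := x⁻¹ * y with hzdef
    have ey : y = x * z := by rw [hzdef]; group
    rw [ey, mul_assoc, hzc]
  · have hz : ρ (x * y) = 1 := by
      rw [map_mul, hx, hy, hab, ← h8sys_inv hS r hr, inv_mul_cancel]
    have hzc := h.central _ hz x
    set z := x * y with hzdef
    have ey : y = x⁻¹ * z := by rw [hzdef]; group
    rw [ey, mul_assoc, hzc]
    group

section

variable [Fintype K]

theorem h8card3_two_ne (h3 : Fintype.card K = 3) : (2 : K) ≠ 0 := by
  intro h2
  have h3' : ((Fintype.card K : ℕ) : K) = 0 := Nat.cast_card_eq_zero K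
  rw [h3] at h3'
  have : (1 : K) = 0 := by
    have e : (1 : K) = ((3 : ℕ) : K) - 2 := by push_cast; ring
    rw [e, h3', h2, sub_zero]
  exact one_ne_zero this

theorem h8card3_ord (h3 : Fintype.card K = 3) : H8ExOrd (-1 : K) 2 := by
  refine ⟨neg_ne_zero.mpr one_ne_zero, ?_⟩
  intro e
  have hne : (-1 : K) ≠ 1 := by
    intro h
    apply h8card3_two_ne h3
    have : (2 : K) = 1 - (-1) := by ring
    rw [this, h, sub_self]
  rcases Int.emod_two_eq_zero_or_one e with h0 | h1
  · have : Even e := Int.even_iff.mpr h0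
    rw [this.neg_one_zpow]
    simp [h0]
  · have : Odd e := Int.odd_iff.mpr h1
    rw [this.neg_one_zpow]
    constructor
    · intro h; exact absurd h hne
    · intro h
      have h' : e % 2 = 0 := by exact_mod_cast h
      omega

theorem h8card3_cases (h3 : Fintype.card K = 3) (a b : K) :
    a = 0 ∨ b = 0 ∨ a = b ∨ a = -b := by
  by_cases ha : a = 0
  · exact Or.inl ha
  by_cases hb : b = 0
  · exact Or.inr (Or.inl hb)
  have ha2 : a ^ 2 = 1 := by
    have := FiniteField.pow_card_sub_one_eq_one a ha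
    rw [h3] at this
    exact this
  have hb2 : b ^ 2 = 1 := by
    have := FiniteField.pow_card_sub_one_eq_one b hb
    rw [h3] at this
    exact this
  have : (a - b) * (a + b) = 0 := by linear_combination ha2 - hb2
  rcases mul_eq_zero.mp this with h | h
  · exact Or.inr (Or.inr (Or.inl (sub_eq_zero.mp h)))
  · exact Or.inr (Or.inr (Or.inr (eq_neg_of_add_eq_zero_left h)))

theorem h8card3_eps (h3 : Fintype.card K = 3) :
    ∀ ε ∈ ([1, -1, 2, -2] : List ℤ), ((ε : ℤ) : K) ≠ 0 := by
  intro ε hε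
  have h2 := h8card3_two_ne h3
  simp only [List.mem_cons, List.not_mem_nil, or_false] at hε
  rcases hε with rfl | rfl | rfl | rfl
  · simp
  · simp
  · simpa using h2
  · simpa using h2

theorem h8card4_ord (h4 : Fintype.card K = 4) : ∃ ω : K, H8ExOrd ω 3 := by
  have h4' : ((Fintype.card K : ℕ) : K) = 0 := Nat.cast_card_eq_zero K
  rw [h4] at h4'
  have h2 : (2 : K) = 0 := by
    have : (2 : K) * 2 = 0 := by
      have e : (2 : K) * 2 = ((4 : ℕ) : K) := by push_cast; ring
      rw [e, h4']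
    exact mul_self_eq_zero.mp this
  have hneg : (-1 : K) = 1 := by
    have : (1 : K) + 1 = 0 := by rw [one_add_one_eq_two, h2]
    exact (eq_neg_of_add_eq_zero_left this).symm
  obtain ⟨x, y, z, hxy, hxz, hyz⟩ :=
    Fintype.two_lt_card_iff.mp (by rw [h4]; norm_num : 2 < Fintype.card K)
  have hex : ∃ ω : K, ω ≠ 0 ∧ ω ≠ 1 := by
    by_cases hx0 : x = 0
    · by_cases hy1 : y = 1
      · exact ⟨z, fun h => hxz (hx0.trans h.symm), fun h => hyz (hy1.trans h.symm)⟩
      · exact ⟨y, fun h => hxy (hx0.trans h.symm), hy1⟩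
    · by_cases hx1 : x = 1
      · by_cases hy0 : y = 0
        · exact ⟨z, fun h => hyz (hy0.trans h.symm), fun h => hxz (hx1.trans h.symm)⟩
        · exact ⟨y, hy0, fun h => hxy (hx1.trans h.symm)⟩
      · exact ⟨x, hx0, hx1⟩
  obtain ⟨ω, hω0, hω1⟩ := hex
  have hω3 : ω ^ 3 = 1 := by
    have := FiniteField.pow_card_sub_one_eq_one ω hω0
    rw [h4] at this
    exact this
  have hω3z : ω ^ (3 : ℤ) = 1 := by exact_mod_cast hω3
  have hω2 : ω ^ 2 ≠ 1 := by
    intro h
    have : (ω - 1) * (ω + 1) = 0 := by linear_combination h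
    rcases mul_eq_zero.mp this with h' | h'
    · exact hω1 (sub_eq_zero.mp h')
    · apply hω1
      rw [eq_neg_of_add_eq_zero_left h', hneg]
  refine ⟨ω, hω0, ?_⟩
  intro e
  have hdecomp : e = 3 * (e / 3) + e % 3 := (Int.mul_ediv_add_emod e 3).symm
  have hpow : ω ^ e = ω ^ (e % 3) := by
    conv_lhs => rw [hdecomp]
    rw [zpow_add₀ hω0, zpow_mul, hω3z, one_zpow, one_mul]
  have hcast : ((3 : ℕ) : ℤ) = 3 := rfl
  rw [hcast, hpow]
  have hr : e % 3 = 0 ∨ e % 3 = 1 ∨ e % 3 = 2 := by omega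
  rcases hr with h0 | h1 | h2'
  · rw [h0, zpow_zero]
    simp
  · rw [h1, zpow_one]
    constructor
    · intro h; exact absurd h hω1
    · intro h; omega
  · rw [h2']
    constructor
    · intro h
      exfalso
      apply hω2
      exact_mod_cast h
    · intro h; omega

theorem h8eps_one : ∀ ε ∈ ([1, -1] : List ℤ), ((ε : ℤ) : K) ≠ 0 := by
  intro ε hε
  simp only [List.mem_cons, List.not_mem_nil, or_false] at hε
  rcases hε with rfl | rfl
  · simp
  · simp

/-- Steinberg's theorem for `F₄` over the field with three elements -/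
theorem h8uc_split_F4_3 (h3 : Fintype.card K = 3) {ρ : E →* chevF4.SteinbergCover K}
    (h : H8CE ρ) : ∃ τ : chevF4.SteinbergCover K →* E, ρ.comp τ = MonoidHom.id _ := by
  have hD : chevF4 ∈ [chevG2, chevB2, chevD4, chevF4, chevE6, chevE7, chevE8] := by simp
  have hc := h8card3_ord h3
  refine h8uc_split_mod chevF4 hD (fun _ => ⟨-1, hc.ne0, ?_⟩) (-1) 2 le_rfl hc [1, -1, 2, -2]
    (h8card3_eps h3) h8ord3Chk_F4 h8ucMChk_F4 h8f4Cert2 h8f4_pair2 h ?_
  · intro h1
    have := (hc.iff 1).mp (by rw [zpow_one]; exact h1)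
    norm_num at this
  · intro r hr a b x y hx hy
    exact h8uc_self_card3 h (h8sc_sys chevF4) r hr (h8card3_cases h3) a b x y hx hy

/-- Steinberg's theorem for `F₄` over the field with four elements -/
theorem h8uc_split_F4_4 (h4 : Fintype.card K = 4) {ρ : E →* chevF4.SteinbergCover K}
    (h : H8CE ρ) : ∃ τ : chevF4.SteinbergCover K →* E, ρ.comp τ = MonoidHom.id _ := by
  have hD : chevF4 ∈ [chevG2, chevB2, chevD4, chevF4, chevE6, chevE7, chevE8] := by simp
  obtain ⟨ω, hc⟩ := h8card4_ord h4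
  have hB := h8base_all.{u} chevF4 hD
  have hC := h8commAll.{u} chevF4 hD
  refine h8uc_split_mod chevF4 hD (fun _ => ⟨ω, hc.ne0, ?_⟩) ω 3 (by norm_num) hc [1, -1]
    h8eps_one h8ord3Chk_F4 h8ucMChk_F4 [] h8f4_pair3 h ?_
  · intro h1
    have := (hc.iff 1).mp (by rw [zpow_one]; exact h1)
    norm_num at this
  · intro r hr a b x y hx hy
    exact h8selfChk_spec (h8sc_pair (K := K) chevF4 hB hC) (h8all_all chevF4 hD)
      (h8w0s_all chevF4 hD) (h8n2_all chevF4 hD) (h8scChk_all chevF4 hD) h ω 3 hc [1, -1]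
      h8eps_one h8f4Self3 h8f4_self3 r hr a b x y hx hy

end

variable {F : Type u} [Field F]

/-- the cover of type `G₂`, `F₄`, `E₈` over a finite field is the Chevalley group -/
theorem h8cover_iso_adj [Finite F] (D : ChevalleyDatum) (hD3 : D ∈ [chevG2, chevF4, chevE8]) :
    Nonempty (D.SteinbergCover F ≃* ↥(D.group F)) := by
  have hD7 : D ∈ [chevG2, chevB2, chevD4, chevF4, chevE6, chevE7, chevE8] := by
    simp only [List.mem_cons, List.mem_nil_iff, or_false] at hD3 ⊢
    rcases hD3 with rfl | rfl | rfl <;> simp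
  have hB := h8base_all.{u} D hD7
  have hC := h8commAll.{u} D hD7
  obtain ⟨e, -⟩ := h8sc_iso (K := F) D hD7
  have hsurj := h8stTheta_surj (K := F) D hB hC
  have hker := h8stTheta_ker (K := F) D hD7
  rw [h8st_center_trivial D hD3] at hker
  have hinj : Function.Injective (h8stTheta (K := F) D hB hC) :=
    (MonoidHom.ker_eq_bot_iff _).mp hker
  exact ⟨e.trans (MulEquiv.ofBijective (h8stTheta (K := F) D hB hC) ⟨hinj, hsurj⟩)⟩

/-- the Schur multiplier of `F₄(q)` is trivial for `q ≥ 3` -/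
theorem h8f4_schur [Fintype F] (hF : 3 ≤ Fintype.card F) :
    Cfsg.HasCyclicSchurMultiplier ↥(chevF4.group F) 1 := by
  have hD7 : chevF4 ∈ [chevG2, chevB2, chevD4, chevF4, chevE6, chevE7, chevE8] := by simp
  obtain ⟨e₀⟩ := h8cover_iso_adj (F := F) chevF4 (by simp)
  have : Finite ↥(chevF4.group F) := inferInstance
  apply h8schur_trivial_of_split e₀
  intro Γ _ ρ hCE
  by_cases h3 : Fintype.card F = 3
  · exact h8uc_split_F4_3 h3 hCE
  by_cases h4 : Fintype.card F = 4
  · exact h8uc_split_F4_4 h4 hCE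
  have hK5 : ∃ s : Finset F, 4 < s.card := ⟨Finset.univ, by rw [Finset.card_univ]; omega⟩
  exact h8uc_split chevF4 hD7 hK5 h8ord3Chk_F4 h8ucMChk_F4 h8ucPMChk_F4 hCE

end Cfsg.Agent.Lib.helper8
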