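import Mathlib
import Cfsg.Prelude.Def_Steinberg

set_option autoImplicit false
set_option linter.unusedSectionVars false

namespace Cfsg.Agent.Lib.helper8

open Cfsg.Lie Cfsg.Lie.ChevalleyDatum

universe u

/-- a signed basis vector (`some (b, k)` is `± e_k`, minus when `b` holds) or zero -/
abbrev H8Code := Option (Bool × ℕ)

def h8cNeg : H8Code → H8Code
  | none => none
  | some (b, k) => some (!b, k)

def h8cSgn (b : Bool) (c : H8Code) : H8Code := if b then h8cNeg c else c

def h8cAp (n : ℕ) (T : ℕ → ℕ → H8Code) (r : ℕ) : H8Code → H8Code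
  | none => none
  | some (b, k) => if k < n then h8cSgn b (T r k) else none

variable {K : Type u} [Field K]

def h8col (n : ℕ) : H8Code → Fin n → K
  | none => 0
  | some (b, k) => fun i => if i.val = k then (if b then -1 else 1) else 0

def h8mE (n : ℕ) (T : ℕ → ℕ → H8Code) (r : ℕ) : Matrix (Fin n) (Fin n) K :=
  Matrix.of fun i j => h8col n (T r j.val) i

theorem h8col_neg (n : ℕ) (c : H8Code) : (h8col n (h8cNeg c) : Fin n → K) = -h8col n c := by
  rcases c with _ | ⟨b, k⟩
  · simp [h8cNeg, h8col]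
  · funext i
    cases b <;> simp [h8cNeg, h8col] <;> split_ifs <;> simp

theorem h8col_sgn (n : ℕ) (b : Bool) (c : H8Code) :
    (h8col n (h8cSgn b c) : Fin n → K) = (if b then (-1 : K) else 1) • h8col n c := by
  cases b
  · simp [h8cSgn]
  · simp [h8cSgn, h8col_neg]

theorem h8col_basis (n : ℕ) (j : Fin n) :
    (h8col n (some (false, j.val)) : Fin n → K) = Pi.single j 1 := by
  funext i
  simp only [h8col, Pi.single_apply, Fin.val_inj]
  simp

theorem h8col_some (n : ℕ) (b : Bool) (k : ℕ) (hk : k < n) :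
    (h8col n (some (b, k)) : Fin n → K) = (if b then (-1 : K) else 1) • Pi.single ⟨k, hk⟩ 1 := by
  funext i
  simp only [h8col, Pi.smul_apply, Pi.single_apply, smul_eq_mul, Fin.ext_iff]
  split_ifs <;> simp

theorem h8col_oob (n : ℕ) (b : Bool) (k : ℕ) (hk : ¬ k < n) :
    (h8col n (some (b, k)) : Fin n → K) = 0 := by
  funext i
  simp only [h8col, Pi.zero_apply]
  rw [if_neg]
  intro h
  exact hk (h ▸ i.2)

theorem h8mE_mulVec (n : ℕ) (T : ℕ → ℕ → H8Code) (r : ℕ) (c : H8Code) :
    (h8mE n T r : Matrix (Fin n) (Fin n) K).mulVec (h8col n c) = h8col n (h8cAp n T r c) := by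
  rcases c with _ | ⟨b, k⟩
  · simp [h8col, h8cAp]
  · by_cases hk : k < n
    · rw [h8col_some n b k hk, Matrix.mulVec_smul, Matrix.mulVec_single_one]
      simp only [h8cAp, if_pos hk]
      rw [h8col_sgn]
      congr 1
    · rw [h8col_oob n b k hk, Matrix.mulVec_zero]
      simp only [h8cAp, if_neg hk]
      rfl

theorem h8mat_ext (n : ℕ) (A B : Matrix (Fin n) (Fin n) K)
    (h : ∀ j : Fin n, A.mulVec (h8col n (some (false, j.val))) =
      B.mulVec (h8col n (some (false, j.val)))) : A = B := by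
  ext i j
  have := congrFun (h j) i
  rw [h8col_basis, Matrix.mulVec_single_one, Matrix.mulVec_single_one] at this
  exact this

section ring1
variable {R : Type*} [Ring R]

theorem h8ring_add (x y : R) (h : x * y = 0) : (1 + x) * (1 + y) = 1 + (x + y) := by
  have : (1 + x) * (1 + y) = 1 + (x + y) + x * y := by noncomm_ring
  rw [this, h, add_zero]

theorem h8ring_comm (x y : R) (hx : x * x = 0) (hy : y * y = 0) (hxyx : x * y * x = 0)
    (hyxy : y * x * y = 0) :
    (1 - y) * (1 - x) * (1 + y) * (1 + x) = 1 + (y * x - x * y) := by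
  have : (1 - y) * (1 - x) * (1 + y) * (1 + x) = 1 + (y * x - x * y) - y * y - y * y * x - x * x
      - x * y * x + y * x * y + y * (x * x) + y * x * y * x := by noncomm_ring
  rw [this, hx, hy, hxyx, hyxy]
  simp

end ring1

section ring
variable {K : Type*} [Field K] {A : Type*} [Ring A] [Algebra K A]

structure H8EF (e f : A) : Prop where
  ee : e * e = 0
  ff : f * f = 0
  efe : e * f * e = e
  fef : f * e * f = f

theorem h8ring_n (x y : A) (hxx : x * x = 0) (hxyx : x * y * x = -x) :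
    (1 + x) * (1 + y) * (1 + x) = 1 + x + y + x * y + y * x := by
  have : (1 + x) * (1 + y) * (1 + x) = 1 + x + y + x * y + y * x + (x + x * x + x * y * x) := by
    noncomm_ring
  rw [this, hxx, hxyx]
  simp

theorem h8ring_nine (Z u v e' f' : A) : (Z + u + v) * (Z + e' + f') =
    Z * Z + Z * e' + Z * f' + u * Z + u * e' + u * f' + v * Z + v * e' + v * f' := by
  noncomm_ring

theorem H8EF.n_eq {e f : A} (h : H8EF e f) (t : K) (ht : t ≠ 0) :
    (1 + t • e) * (1 + (-t⁻¹) • f) * (1 + t • e) = 1 - e * f - f * e + t • e + (-t⁻¹) • f := by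
  have hxx : (t • e) * (t • e) = 0 := by
    rw [smul_mul_smul_comm, h.ee, smul_zero]
  have hxy : (t • e) * ((-t⁻¹) • f) = -(e * f) := by
    rw [smul_mul_smul_comm, mul_neg, mul_inv_cancel₀ ht, neg_smul, one_smul]
  have hyx : ((-t⁻¹) • f) * (t • e) = -(f * e) := by
    rw [smul_mul_smul_comm, neg_mul, inv_mul_cancel₀ ht, neg_smul, one_smul]
  have hxyx : (t • e) * ((-t⁻¹) • f) * (t • e) = -(t • e) := by
    rw [hxy, neg_mul, mul_smul_comm, h.efe]
  rw [h8ring_n _ _ hxx hxyx, hxy, hyx]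
  abel

theorem H8EF.h_eq {e f : A} (h : H8EF e f) (t : K) (ht : t ≠ 0) :
    ((1 + t • e) * (1 + (-t⁻¹) • f) * (1 + t • e)) *
      ((1 + (-1 : K) • e) * (1 + (-(-1 : K)⁻¹) • f) * (1 + (-1 : K) • e)) =
      1 - e * f - f * e + t • (e * f) + t⁻¹ • (f * e) := by
  rw [h.n_eq t ht, h.n_eq (-1) (neg_ne_zero.mpr one_ne_zero)]
  have e1 : (-(-1 : K)⁻¹) = 1 := by norm_num
  rw [e1]
  set Z : A := 1 - e * f - f * e with hZ
  have hZe : Z * e = 0 := by
    rw [hZ, sub_mul, sub_mul, one_mul, h.efe, mul_assoc f e e, h.ee, mul_zero]; simp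
  have hZf : Z * f = 0 := by
    rw [hZ, sub_mul, sub_mul, one_mul, h.fef, mul_assoc e f f, h.ff, mul_zero]; simp
  have heZ : e * Z = 0 := by
    rw [hZ, mul_sub, mul_sub, mul_one, ← mul_assoc, ← mul_assoc, h.efe, h.ee, zero_mul]; simp
  have hfZ : f * Z = 0 := by
    rw [hZ, mul_sub, mul_sub, mul_one, ← mul_assoc, ← mul_assoc, h.fef, h.ff, zero_mul]; simp
  have hZZ : Z * Z = Z := by
    have : Z * Z = Z - Z * e * f - Z * f * e := by rw [hZ]; noncomm_ring
    rw [this, hZe, hZf]; simp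
  rw [h8ring_nine, hZZ, mul_smul_comm, mul_smul_comm, hZe, hZf, smul_mul_assoc, heZ,
    smul_mul_smul_comm, h.ee, smul_mul_smul_comm, smul_mul_assoc, hfZ, smul_mul_smul_comm,
    smul_mul_smul_comm, h.ff]
  simp

theorem H8EF.h_mul {e f : A} (h : H8EF e f) (t u : K) :
    (1 - e * f - f * e + t • (e * f) + t⁻¹ • (f * e)) *
      (1 - e * f - f * e + u • (e * f) + u⁻¹ • (f * e)) =
      1 - e * f - f * e + (t * u) • (e * f) + (t * u)⁻¹ • (f * e) := by
  have hPP : (e * f) * (e * f) = e * f := by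
    rw [← mul_assoc, h.efe]
  have hQQ : (f * e) * (f * e) = f * e := by
    rw [← mul_assoc, h.fef]
  have hPQ : (e * f) * (f * e) = 0 := by
    rw [← mul_assoc, mul_assoc e f f, h.ff, mul_zero, zero_mul]
  have hQP : (f * e) * (e * f) = 0 := by
    rw [← mul_assoc, mul_assoc f e e, h.ee, mul_zero, zero_mul]
  set P : A := e * f with hP
  set Q : A := f * e with hQ
  have hZP : (1 - P - Q) * P = 0 := by
    rw [sub_mul, sub_mul, one_mul, hPP, hQP]; simp
  have hZQ : (1 - P - Q) * Q = 0 := by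
    rw [sub_mul, sub_mul, one_mul, hPQ, hQQ]; simp
  have hPZ : P * (1 - P - Q) = 0 := by
    rw [mul_sub, mul_sub, mul_one, hPP, hPQ]; simp
  have hQZ : Q * (1 - P - Q) = 0 := by
    rw [mul_sub, mul_sub, mul_one, hQP, hQQ]; simp
  have hZZ : (1 - P - Q) * (1 - P - Q) = 1 - P - Q := by
    rw [mul_sub, mul_sub, mul_one, hZP, hZQ]; simp
  set Z : A := 1 - P - Q with hZ
  rw [h8ring_nine, hZZ, mul_smul_comm, mul_smul_comm, hZP, hZQ, smul_mul_assoc, hPZ,
    smul_mul_smul_comm, hPP, smul_mul_smul_comm, hPQ, smul_mul_assoc, hQZ, smul_mul_smul_comm, hQP,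
    smul_mul_smul_comm, hQQ, mul_inv]
  simp

end ring

/-! ### the data check -/

def h8muLin (a b c : H8Code) (N : ℤ) : Bool :=
  if N = 1 then (b == none && a == c) || (a == none && b == h8cNeg c)
  else if N = -1 then (b == none && a == h8cNeg c) || (a == none && b == c)
  else false

theorem h8muLin_spec (n : ℕ) (a b c : H8Code) (N : ℤ) (h : h8muLin a b c N = true) :
    (h8col n a : Fin n → K) - h8col n b = (N : K) • h8col n c := by
  unfold h8muLin at h
  split_ifs at h with h1 h2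
  · subst h1
    simp only [Bool.or_eq_true, Bool.and_eq_true, beq_iff_eq] at h
    rcases h with ⟨rfl, rfl⟩ | ⟨rfl, rfl⟩
    · simp [h8col]
    · rw [h8col_neg]; simp [h8col]
  · subst h2
    simp only [Bool.or_eq_true, Bool.and_eq_true, beq_iff_eq] at h
    rcases h with ⟨rfl, rfl⟩ | ⟨rfl, rfl⟩
    · rw [h8col_neg]; simp [h8col]
    · simp [h8col]

/-- check of one root against all others -/
def h8muChkR (D : ChevalleyDatum) (n : ℕ) (T : ℕ → ℕ → H8Code) (r : ℕ) : Bool :=
  decide (D.neg r < D.nroots) && decide (D.neg (D.neg r) = r) &&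
  ((List.range n).all fun j =>
    (h8cAp n T r (T r j) == none) &&
    (h8cAp n T r (h8cAp n T (D.neg r) (T r j)) == T r j) &&
    ((h8cAp n T r (T (D.neg r) j) == some (false, j) && h8cAp n T (D.neg r) (T r j) == none) ||
     (h8cAp n T r (T (D.neg r) j) == none && h8cAp n T (D.neg r) (T r j) == some (false, j)) ||
     (h8cAp n T r (T (D.neg r) j) == none && h8cAp n T (D.neg r) (T r j) == none))) &&
  ((List.range D.nroots).all fun s => s == r || s == D.neg r ||
    (((List.range n).all fun j =>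
      (h8cAp n T r (h8cAp n T s (T r j)) == none) &&
      (h8cAp n T s (h8cAp n T r (T s j)) == none)) &&
     ((D.commTerms r s == [] &&
        (List.range n).all fun j => h8cAp n T r (T s j) == h8cAp n T s (T r j)) ||
      (D.commTerms r s == [((D.chainRoot r s 1).getD 0, D.chainM r s 1, 1, 1)] &&
        decide ((D.chainRoot r s 1).getD 0 < D.nroots) &&
        (List.range n).all fun j =>
          h8muLin (h8cAp n T r (T s j)) (h8cAp n T s (T r j))
            (T ((D.chainRoot r s 1).getD 0) j) (D.chainM r s 1)))))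

def h8muChk (D : ChevalleyDatum) (n : ℕ) (T : ℕ → ℕ → H8Code) : Bool :=
  (List.range D.nroots).all fun r => h8muChkR D n T r

structure H8MuOK (D : ChevalleyDatum) (n : ℕ) (T : ℕ → ℕ → H8Code) : Prop where
  negLt : ∀ r < D.nroots, D.neg r < D.nroots
  negNeg : ∀ r < D.nroots, D.neg (D.neg r) = r
  sq : ∀ r < D.nroots, ∀ j < n, h8cAp n T r (T r j) = none
  efe : ∀ r < D.nroots, ∀ j < n, h8cAp n T r (h8cAp n T (D.neg r) (T r j)) = T r j
  hd : ∀ r < D.nroots, ∀ j < n,
    (h8cAp n T r (T (D.neg r) j) = some (false, j) ∧ h8cAp n T (D.neg r) (T r j) = none) ∨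
    (h8cAp n T r (T (D.neg r) j) = none ∧ h8cAp n T (D.neg r) (T r j) = some (false, j)) ∨
    (h8cAp n T r (T (D.neg r) j) = none ∧ h8cAp n T (D.neg r) (T r j) = none)
  tri : ∀ r < D.nroots, ∀ s < D.nroots, s ≠ r → s ≠ D.neg r → ∀ j < n,
    h8cAp n T r (h8cAp n T s (T r j)) = none ∧ h8cAp n T s (h8cAp n T r (T s j)) = none
  comm : ∀ r < D.nroots, ∀ s < D.nroots, s ≠ r → s ≠ D.neg r →
    (D.commTerms r s = [] ∧ ∀ j < n, h8cAp n T r (T s j) = h8cAp n T s (T r j)) ∨
    (∃ k N, k < D.nroots ∧ D.commTerms r s = [(k, N, 1, 1)] ∧ ∀ j < n,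
      h8muLin (h8cAp n T r (T s j)) (h8cAp n T s (T r j)) (T k j) N = true)

theorem h8muChk_spec (D : ChevalleyDatum) (n : ℕ) (T : ℕ → ℕ → H8Code)
    (h : h8muChk D n T = true) : H8MuOK D n T := by
  unfold h8muChk at h
  rw [List.all_eq_true] at h
  have hr : ∀ r < D.nroots, h8muChkR D n T r = true := fun r hr => h r (List.mem_range.mpr hr)
  have h1 : ∀ r < D.nroots, D.neg r < D.nroots ∧ D.neg (D.neg r) = r ∧
      (∀ j < n, (h8cAp n T r (T r j) = none) ∧
        (h8cAp n T r (h8cAp n T (D.neg r) (T r j)) = T r j) ∧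
        ((h8cAp n T r (T (D.neg r) j) = some (false, j) ∧ h8cAp n T (D.neg r) (T r j) = none) ∨
         (h8cAp n T r (T (D.neg r) j) = none ∧ h8cAp n T (D.neg r) (T r j) = some (false, j)) ∨
         (h8cAp n T r (T (D.neg r) j) = none ∧ h8cAp n T (D.neg r) (T r j) = none))) ∧
      (∀ s < D.nroots, s ≠ r → s ≠ D.neg r →
        (∀ j < n, h8cAp n T r (h8cAp n T s (T r j)) = none ∧
          h8cAp n T s (h8cAp n T r (T s j)) = none) ∧
        ((D.commTerms r s = [] ∧ ∀ j < n, h8cAp n T r (T s j) = h8cAp n T s (T r j)) ∨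
         (D.commTerms r s = [((D.chainRoot r s 1).getD 0, D.chainM r s 1, 1, 1)] ∧
          (D.chainRoot r s 1).getD 0 < D.nroots ∧ ∀ j < n,
            h8muLin (h8cAp n T r (T s j)) (h8cAp n T s (T r j))
              (T ((D.chainRoot r s 1).getD 0) j) (D.chainM r s 1) = true))) := by
    intro r hr'
    have := hr r hr'
    unfold h8muChkR at this
    simp only [Bool.and_eq_true, Bool.or_eq_true, decide_eq_true_eq, List.all_eq_true,
      List.mem_range, beq_iff_eq] at this
    obtain ⟨⟨⟨ha, hb⟩, hc⟩, hd⟩ := this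
    refine ⟨ha, hb, ?_, ?_⟩
    · intro j hj
      obtain ⟨⟨x1, x2⟩, x3⟩ := hc j hj
      refine ⟨x1, x2, ?_⟩
      rcases x3 with (x3 | x3) | x3
      · exact Or.inl x3
      · exact Or.inr (Or.inl x3)
      · exact Or.inr (Or.inr x3)
    · intro s hs hsr hsn
      rcases hd s hs with (hh | hh) | hh
      · exact absurd hh hsr
      · exact absurd hh hsn
      · obtain ⟨y1, y2⟩ := hh
        refine ⟨y1, ?_⟩
        rcases y2 with y2 | ⟨⟨y2, y3⟩, y4⟩
        · exact Or.inl y2
        · exact Or.inr ⟨y2, y3, y4⟩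
  constructor
  · exact fun r hr => (h1 r hr).1
  · exact fun r hr => (h1 r hr).2.1
  · exact fun r hr j hj => ((h1 r hr).2.2.1 j hj).1
  · exact fun r hr j hj => ((h1 r hr).2.2.1 j hj).2.1
  · exact fun r hr j hj => ((h1 r hr).2.2.1 j hj).2.2
  · exact fun r hr s hs h1' h2' => ((h1 r hr).2.2.2 s hs h1' h2').1
  · intro r hr s hs h1' h2'
    rcases ((h1 r hr).2.2.2 s hs h1' h2').2 with y | ⟨y2, y3, y4⟩
    · exact Or.inl y
    · exact Or.inr ⟨_, _, y3, y2, y4⟩

end Cfsg.Agent.Lib.helper8
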