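import Mathlib
import Cfsg.Prelude.Def_Steinberg
import Cfsg.Agent.Lib.helper8.ChevMu1

set_option autoImplicit false
set_option linter.unusedSectionVars false

namespace Cfsg.Agent.Lib.helper8

open Cfsg.Lie Cfsg.Lie.ChevalleyDatum

universe u

variable {K : Type u} [Field K]

theorem h8cAp_basis (n : ℕ) (T : ℕ → ℕ → H8Code) (r j : ℕ) (hj : j < n) :
    h8cAp n T r (some (false, j)) = T r j := by
  simp only [h8cAp, if_pos hj, h8cSgn]
  rfl

theorem h8mE_mulVec_basis (n : ℕ) (T : ℕ → ℕ → H8Code) (r : ℕ) (j : Fin n) :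
    (h8mE n T r : Matrix (Fin n) (Fin n) K).mulVec (h8col n (some (false, j.val))) =
      h8col n (T r j.val) := by
  rw [h8mE_mulVec, h8cAp_basis n T r j.val j.2]

section
variable {D : ChevalleyDatum} {n : ℕ} {T : ℕ → ℕ → H8Code} (hT : H8MuOK D n T)
include hT

theorem h8mE_sq (r : ℕ) (hr : r < D.nroots) :
    (h8mE n T r : Matrix (Fin n) (Fin n) K) * h8mE n T r = 0 := by
  apply h8mat_ext
  intro j
  rw [← Matrix.mulVec_mulVec, h8mE_mulVec_basis, h8mE_mulVec, hT.sq r hr j.val j.2,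
    Matrix.zero_mulVec]
  rfl

theorem h8mE_efe (r : ℕ) (hr : r < D.nroots) :
    (h8mE n T r : Matrix (Fin n) (Fin n) K) * h8mE n T (D.neg r) * h8mE n T r = h8mE n T r := by
  apply h8mat_ext
  intro j
  rw [← Matrix.mulVec_mulVec, ← Matrix.mulVec_mulVec, h8mE_mulVec_basis, h8mE_mulVec, h8mE_mulVec,
    hT.efe r hr j.val j.2]

theorem h8mE_EF (r : ℕ) (hr : r < D.nroots) :
    H8EF (h8mE n T r : Matrix (Fin n) (Fin n) K) (h8mE n T (D.neg r)) := by
  constructor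
  · exact h8mE_sq hT r hr
  · exact h8mE_sq hT _ (hT.negLt r hr)
  · exact h8mE_efe hT r hr
  · have := h8mE_efe (K := K) hT _ (hT.negLt r hr)
    rw [hT.negNeg r hr] at this
    exact this

theorem h8mE_tri (r s : ℕ) (hr : r < D.nroots) (hs : s < D.nroots) (h1 : s ≠ r)
    (h2 : s ≠ D.neg r) :
    (h8mE n T r : Matrix (Fin n) (Fin n) K) * h8mE n T s * h8mE n T r = 0 ∧
    (h8mE n T s : Matrix (Fin n) (Fin n) K) * h8mE n T r * h8mE n T s = 0 := by
  constructor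
  · apply h8mat_ext
    intro j
    rw [← Matrix.mulVec_mulVec, ← Matrix.mulVec_mulVec, h8mE_mulVec_basis, h8mE_mulVec,
      h8mE_mulVec, (hT.tri r hr s hs h1 h2 j.val j.2).1, Matrix.zero_mulVec]
    rfl
  · apply h8mat_ext
    intro j
    rw [← Matrix.mulVec_mulVec, ← Matrix.mulVec_mulVec, h8mE_mulVec_basis, h8mE_mulVec,
      h8mE_mulVec, (hT.tri r hr s hs h1 h2 j.val j.2).2, Matrix.zero_mulVec]
    rfl

theorem h8mE_comm (r s : ℕ) (hr : r < D.nroots) (hs : s < D.nroots) (h1 : s ≠ r)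
    (h2 : s ≠ D.neg r) :
    (D.commTerms r s = [] ∧
      (h8mE n T r : Matrix (Fin n) (Fin n) K) * h8mE n T s = h8mE n T s * h8mE n T r) ∨
    (∃ k N, k < D.nroots ∧ D.commTerms r s = [(k, N, 1, 1)] ∧
      (h8mE n T r : Matrix (Fin n) (Fin n) K) * h8mE n T s - h8mE n T s * h8mE n T r =
        (N : K) • h8mE n T k) := by
  rcases hT.comm r hr s hs h1 h2 with ⟨hc, h⟩ | ⟨k, N, hk, hc, h⟩
  · refine Or.inl ⟨hc, ?_⟩
    apply h8mat_ext
    intro j
    rw [← Matrix.mulVec_mulVec, ← Matrix.mulVec_mulVec, h8mE_mulVec_basis, h8mE_mulVec_basis,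
      h8mE_mulVec, h8mE_mulVec, h j.val j.2]
  · refine Or.inr ⟨k, N, hk, hc, ?_⟩
    apply h8mat_ext
    intro j
    rw [Matrix.sub_mulVec, Matrix.smul_mulVec, ← Matrix.mulVec_mulVec, ← Matrix.mulVec_mulVec,
      h8mE_mulVec_basis, h8mE_mulVec_basis, h8mE_mulVec_basis, h8mE_mulVec, h8mE_mulVec]
    exact h8muLin_spec n _ _ _ N (h j.val j.2)

end

end Cfsg.Agent.Lib.helper8
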