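import Mathlib
import Cfsg.Prelude.Def_Steinberg
import Cfsg.Agent.Lib.helper8.ChevMu2

set_option autoImplicit false
set_option linter.unusedSectionVars false

namespace Cfsg.Agent.Lib.helper8

open Cfsg.Lie Cfsg.Lie.ChevalleyDatum

universe u

variable {K : Type u} [Field K]
variable {D : ChevalleyDatum} {n : ℕ} {T : ℕ → ℕ → H8Code}

/-- the unipotent matrices `1 + t E_r` -/
def h8muU (hT : H8MuOK D n T) (r : ℕ) (hr : r < D.nroots) (t : K) :
    (Matrix (Fin n) (Fin n) K)ˣ where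
  val := 1 + t • h8mE n T r
  inv := 1 + (-t) • h8mE n T r
  val_inv := by
    rw [h8ring_add _ _ (by rw [smul_mul_smul_comm, h8mE_sq hT r hr, smul_zero]), ← add_smul,
      add_neg_cancel, zero_smul, add_zero]
  inv_val := by
    rw [h8ring_add _ _ (by rw [smul_mul_smul_comm, h8mE_sq hT r hr, smul_zero]), ← add_smul,
      neg_add_cancel, zero_smul, add_zero]

def h8muX (hT : H8MuOK D n T) (r : ℕ) (t : K) : (Matrix (Fin n) (Fin n) K)ˣ :=
  if hr : r < D.nroots then h8muU hT r hr t else 1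

theorem h8muX_val (hT : H8MuOK D n T) (r : ℕ) (hr : r < D.nroots) (t : K) :
    ((h8muX hT r t : (Matrix (Fin n) (Fin n) K)ˣ) : Matrix (Fin n) (Fin n) K) =
      1 + t • h8mE n T r := by
  unfold h8muX
  rw [dif_pos hr]
  rfl

theorem h8muX_inv_val (hT : H8MuOK D n T) (r : ℕ) (hr : r < D.nroots) (t : K) :
    (((h8muX hT r t)⁻¹ : (Matrix (Fin n) (Fin n) K)ˣ) : Matrix (Fin n) (Fin n) K) =
      1 + (-t) • h8mE n T r := by
  unfold h8muX
  rw [dif_pos hr]
  rfl

def h8muF (hT : H8MuOK D n T) : Fin D.nroots × K → (Matrix (Fin n) (Fin n) K)ˣ :=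
  fun p => h8muX hT p.1.val p.2

theorem h8muF_stX (hT : H8MuOK D n T) (r : ℕ) (t : K) :
    FreeGroup.lift (h8muF hT) (D.stX r t) = h8muX hT r t := by
  unfold ChevalleyDatum.stX
  by_cases hr : r < D.nroots
  · rw [dif_pos hr, FreeGroup.lift_apply_of]
    rfl
  · rw [dif_neg hr, map_one]
    unfold h8muX
    rw [dif_neg hr]

theorem h8muF_stWord (hT : H8MuOK D n T) (w : List (ℕ × K)) :
    FreeGroup.lift (h8muF hT) (D.stWord w) = (w.map fun p => h8muX hT p.1 p.2).prod := by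
  unfold ChevalleyDatum.stWord
  rw [map_list_prod, List.map_map]
  congr 1
  apply List.map_congr_left
  intro p _
  exact h8muF_stX hT p.1 p.2

theorem h8muX_add (hT : H8MuOK D n T) (r : ℕ) (hr : r < D.nroots) (t u : K) :
    (h8muX hT r t : (Matrix (Fin n) (Fin n) K)ˣ) * h8muX hT r u = h8muX hT r (t + u) := by
  apply Units.ext
  rw [Units.val_mul, h8muX_val hT r hr, h8muX_val hT r hr, h8muX_val hT r hr,
    h8ring_add _ _ (by rw [smul_mul_smul_comm, h8mE_sq hT r hr, smul_zero]), ← add_smul]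

/-- the value of `h_r(t)` -/
def h8muHval (D : ChevalleyDatum) (n : ℕ) (T : ℕ → ℕ → H8Code) (r : ℕ) (t : K) :
    Matrix (Fin n) (Fin n) K :=
  1 - h8mE n T r * h8mE n T (D.neg r) - h8mE n T (D.neg r) * h8mE n T r +
    t • (h8mE n T r * h8mE n T (D.neg r)) + t⁻¹ • (h8mE n T (D.neg r) * h8mE n T r)

theorem h8muX_h (hT : H8MuOK D n T) (r : ℕ) (hr : r < D.nroots) (t : K) (ht : t ≠ 0) :
    (((h8muX hT r t * h8muX hT (D.neg r) (-t⁻¹) * h8muX hT r t) *
      (h8muX hT r (-1) * h8muX hT (D.neg r) (-(-1 : K)⁻¹) * h8muX hT r (-1)) :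
        (Matrix (Fin n) (Fin n) K)ˣ) : Matrix (Fin n) (Fin n) K) = h8muHval D n T r t := by
  simp only [Units.val_mul]
  rw [h8muX_val hT r hr, h8muX_val hT _ (hT.negLt r hr), h8muX_val hT r hr,
    h8muX_val hT _ (hT.negLt r hr)]
  exact (h8mE_EF hT r hr).h_eq t ht

theorem h8muF_stH (hT : H8MuOK D n T) (r : ℕ) (hr : r < D.nroots) (t : K) (ht : t ≠ 0) :
    ((FreeGroup.lift (h8muF hT) (D.stH r t) : (Matrix (Fin n) (Fin n) K)ˣ) :
      Matrix (Fin n) (Fin n) K) = h8muHval D n T r t := by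
  unfold ChevalleyDatum.stH
  rw [h8muF_stWord, ← h8muX_h hT r hr t ht]
  simp only [ChevalleyDatum.hWord, ChevalleyDatum.nWord, List.cons_append, List.nil_append,
    List.map_cons, List.map_nil, List.prod_cons, List.prod_nil, mul_one, mul_assoc]

theorem h8muF_rels (hT : H8MuOK D n T) :
    ∀ g ∈ D.steinbergRels K, FreeGroup.lift (h8muF (K := K) hT) g = 1 := by
  intro g hg
  rcases hg with (⟨r, t₁, t₂, hr, rfl⟩ | ⟨r, s, t, u, hr, hs, h1, h2, rfl⟩) |
    ⟨r, t₁, t₂, hr, h₁, h₂, rfl⟩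
  · rw [map_mul, map_mul, map_inv, h8muF_stX, h8muF_stX, h8muF_stX, h8muX_add hT r hr,
      mul_inv_cancel]
  · rw [map_mul, map_mul, map_mul, map_mul, map_inv, map_inv, map_inv, h8muF_stX, h8muF_stX,
      h8muF_stWord, mul_inv_eq_one]
    apply Units.ext
    simp only [Units.val_mul]
    rw [h8muX_inv_val hT s hs, h8muX_inv_val hT r hr, h8muX_val hT s hs, h8muX_val hT r hr]
    have hxx : (t • h8mE n T r : Matrix (Fin n) (Fin n) K) * (t • h8mE n T r) = 0 := by
      rw [smul_mul_smul_comm, h8mE_sq hT r hr, smul_zero]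
    have hyy : (u • h8mE n T s : Matrix (Fin n) (Fin n) K) * (u • h8mE n T s) = 0 := by
      rw [smul_mul_smul_comm, h8mE_sq hT s hs, smul_zero]
    have htri := h8mE_tri (K := K) hT r s hr hs h1 h2
    have hxyx : (t • h8mE n T r : Matrix (Fin n) (Fin n) K) * (u • h8mE n T s) *
        (t • h8mE n T r) = 0 := by
      rw [smul_mul_smul_comm, smul_mul_smul_comm, htri.1, smul_zero]
    have hyxy : (u • h8mE n T s : Matrix (Fin n) (Fin n) K) * (t • h8mE n T r) *
        (u • h8mE n T s) = 0 := by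
      rw [smul_mul_smul_comm, smul_mul_smul_comm, htri.2, smul_zero]
    have key := h8ring_comm _ _ hxx hyy hxyx hyxy
    rw [neg_smul, neg_smul, ← sub_eq_add_neg, ← sub_eq_add_neg, key]
    unfold ChevalleyDatum.commWord
    rcases h8mE_comm (K := K) hT r s hr hs h1 h2 with ⟨hc, hcomm⟩ | ⟨k, N, hk, hc, hcomm⟩
    · rw [hc, List.map_nil, List.map_nil, List.prod_nil, Units.val_one, smul_mul_smul_comm,
        smul_mul_smul_comm, hcomm, mul_comm u t, sub_self, add_zero]
    · rw [hc, List.map_cons, List.map_nil, List.map_cons, List.map_nil, List.prod_cons,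
        List.prod_nil, mul_one, h8muX_val hT k hk, smul_mul_smul_comm, smul_mul_smul_comm,
        mul_comm u t, ← smul_sub, ← neg_sub, hcomm, smul_neg, smul_smul, ← neg_smul]
      congr 2
      ring
  · rw [map_mul, map_mul, map_inv, mul_inv_eq_one]
    apply Units.ext
    rw [Units.val_mul, h8muF_stH hT r hr t₁ h₁, h8muF_stH hT r hr t₂ h₂,
      h8muF_stH hT r hr _ (mul_ne_zero h₁ h₂)]
    exact (h8mE_EF hT r hr).h_mul t₁ t₂

/-- the minuscule representation of the Steinberg group -/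
noncomputable def h8muRho (hT : H8MuOK D n T) :
    D.SteinbergGroup K →* (Matrix (Fin n) (Fin n) K)ˣ :=
  PresentedGroup.toGroup (h8muF_rels hT)

theorem h8muRho_gen (hT : H8MuOK D n T) (r : ℕ) (t : K) :
    h8muRho hT (D.stGen K r t) = h8muX hT r t := by
  unfold h8muRho ChevalleyDatum.stGen
  have : (PresentedGroup.toGroup (h8muF_rels hT))
      (PresentedGroup.mk (D.steinbergRels K) (D.stX r t)) =
      FreeGroup.lift (h8muF hT) (D.stX r t) := rfl
  rw [this, h8muF_stX]

end Cfsg.Agent.Lib.helper8
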