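import Mathlib
import Cfsg.Prelude.Def_Steinberg
import Cfsg.Agent.Lib.helper8.ChevMu3
import Cfsg.Agent.Lib.helper8.ChevSt31

set_option autoImplicit false
set_option linter.unusedSectionVars false

namespace Cfsg.Agent.Lib.helper8

open Cfsg.Lie Cfsg.Lie.ChevalleyDatum

universe u

variable {K : Type u} [Field K]
variable {D : ChevalleyDatum} {n : ℕ} {T : ℕ → ℕ → H8Code}

/-- the weight `⟨μ_j, r^∨⟩` read off the table -/
def h8muA (D : ChevalleyDatum) (n : ℕ) (T : ℕ → ℕ → H8Code) (r j : ℕ) : ℤ :=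
  if h8cAp n T r (T (D.neg r) j) = some (false, j) then 1
  else if h8cAp n T (D.neg r) (T r j) = some (false, j) then -1 else 0

theorem h8muHval_mulVec (hT : H8MuOK D n T) (r : ℕ) (hr : r < D.nroots) (t : K)
    (j : Fin n) :
    (h8muHval D n T r t).mulVec (h8col n (some (false, j.val))) =
      (t ^ h8muA D n T r j.val) • (h8col n (some (false, j.val)) : Fin n → K) := by
  unfold h8muHval
  rw [Matrix.add_mulVec, Matrix.add_mulVec, Matrix.sub_mulVec, Matrix.sub_mulVec,
    Matrix.smul_mulVec, Matrix.smul_mulVec, Matrix.one_mulVec, ← Matrix.mulVec_mulVec,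
    ← Matrix.mulVec_mulVec, h8mE_mulVec_basis, h8mE_mulVec_basis, h8mE_mulVec, h8mE_mulVec]
  unfold h8muA
  rcases hT.hd r hr j.val j.2 with ⟨h1, h2⟩ | ⟨h1, h2⟩ | ⟨h1, h2⟩
  · rw [h1, h2, if_pos rfl, zpow_one]
    simp [h8col]
  · rw [h1, h2, if_neg (by simp), if_pos rfl, zpow_neg, zpow_one]
    simp [h8col]
  · rw [h1, h2, if_neg (by simp), if_neg (by simp), zpow_zero]
    simp [h8col]

theorem h8muRho_hS (hT : H8MuOK D n T) (r : ℕ) (hr : r < D.nroots) (t : K) (ht : t ≠ 0) :
    ((h8muRho hT (h8hS D (D.stGen K) r t) : (Matrix (Fin n) (Fin n) K)ˣ) :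
      Matrix (Fin n) (Fin n) K) = h8muHval D n T r t := by
  unfold h8hS h8nS
  simp only [map_mul, h8muRho_gen]
  exact h8muX_h hT r hr t ht

theorem h8muRho_TorS_aux (hT : H8MuOK D n T) (c : ℕ → K) (hc : ∀ i, c i ≠ 0)
    (hsimp : ∀ i < D.rank, D.simple i < D.nroots) (j : Fin n) (m : ℕ) (hm : m ≤ D.rank) :
    ((h8muRho hT (((List.range m).map fun i => h8hS D (D.stGen K) (D.simple i) (c i)).prod) :
      (Matrix (Fin n) (Fin n) K)ˣ) : Matrix (Fin n) (Fin n) K).mulVec
        (h8col n (some (false, j.val))) =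
      (∏ i ∈ Finset.range m, c i ^ h8muA D n T (D.simple i) j.val) •
        (h8col n (some (false, j.val)) : Fin n → K) := by
  induction m with
  | zero =>
    simp
  | succ m ih =>
    have hm' : m < D.rank := hm
    rw [List.range_succ, List.map_append, List.prod_append, map_mul, Units.val_mul,
      ← Matrix.mulVec_mulVec, List.map_cons, List.map_nil, List.prod_cons, List.prod_nil, mul_one,
      h8muRho_hS hT _ (hsimp m hm') _ (hc m), h8muHval_mulVec hT _ (hsimp m hm') _,
      Matrix.mulVec_smul, ih (Nat.le_of_lt hm'), smul_smul, Finset.prod_range_succ, mul_comm]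

theorem h8muRho_TorS (hT : H8MuOK D n T) (c : ℕ → K) (hc : ∀ i, c i ≠ 0)
    (hsimp : ∀ i < D.rank, D.simple i < D.nroots) (j : Fin n) :
    ((h8muRho hT (h8TorS D (D.stGen K) c) : (Matrix (Fin n) (Fin n) K)ˣ) :
      Matrix (Fin n) (Fin n) K).mulVec (h8col n (some (false, j.val))) =
      (∏ i ∈ Finset.range D.rank, c i ^ h8muA D n T (D.simple i) j.val) •
        (h8col n (some (false, j.val)) : Fin n → K) :=
  h8muRho_TorS_aux hT c hc hsimp j D.rank le_rfl

/-- the abstract torus of the Steinberg group is a direct product, as soon as there is a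
minuscule table whose weights span the weight lattice -/
theorem h8mu_TorS_inj (hT : H8MuOK D n T) (hsimp : ∀ i < D.rank, D.simple i < D.nroots)
    (w : ℕ → ℕ) (hw : ∀ k < D.rank, w k < n) (B : ℕ → ℕ → ℤ)
    (hAB : ∀ i < D.rank, ∀ k < D.rank,
      ∑ j ∈ Finset.range D.rank, h8muA D n T (D.simple i) (w j) * B j k = if i = k then 1 else 0)
    (c : ℕ → K) (hc : ∀ i, c i ≠ 0) (h1 : h8TorS D (D.stGen K) c = 1) :
    ∀ k < D.rank, c k = 1 := by
  apply h8unimod D.rank (fun i j => h8muA D n T (D.simple i) (w j)) B hAB c hc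
  intro j hj
  have := h8muRho_TorS hT c hc hsimp ⟨w j, hw j hj⟩
  rw [h1, map_one, Units.val_one, Matrix.one_mulVec] at this
  have h2 := congrFun this ⟨w j, hw j hj⟩
  simp only [h8col, Pi.smul_apply, smul_eq_mul] at h2
  simpa using h2.symm

end Cfsg.Agent.Lib.helper8
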