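import Mathlib
import Cfsg.Prelude.Def_Steinberg
import Cfsg.Agent.Lib.helper8.ChevMuT

set_option autoImplicit false

namespace Cfsg.Agent.Lib.helper8

open Cfsg.Lie Cfsg.Lie.ChevalleyDatum

set_option maxRecDepth 100000 in
theorem h8muE6_c0 : (List.range' 0 6).all (h8muChkR chevE6 27 (h8muT h8muTabE6 27)) = true := by
  decide +kernel

set_option maxRecDepth 100000 in
theorem h8muE6_c6 : (List.range' 6 6).all (h8muChkR chevE6 27 (h8muT h8muTabE6 27)) = true := by
  decide +kernel

set_option maxRecDepth 100000 in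
theorem h8muE6_c12 : (List.range' 12 6).all (h8muChkR chevE6 27 (h8muT h8muTabE6 27)) = true := by
  decide +kernel

set_option maxRecDepth 100000 in
theorem h8muE6_c18 : (List.range' 18 6).all (h8muChkR chevE6 27 (h8muT h8muTabE6 27)) = true := by
  decide +kernel

set_option maxRecDepth 100000 in
theorem h8muE6_c24 : (List.range' 24 6).all (h8muChkR chevE6 27 (h8muT h8muTabE6 27)) = true := by
  decide +kernel

set_option maxRecDepth 100000 in
theorem h8muE6_c30 : (List.range' 30 6).all (h8muChkR chevE6 27 (h8muT h8muTabE6 27)) = true := by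
  decide +kernel

set_option maxRecDepth 100000 in
theorem h8muE6_c36 : (List.range' 36 6).all (h8muChkR chevE6 27 (h8muT h8muTabE6 27)) = true := by
  decide +kernel

set_option maxRecDepth 100000 in
theorem h8muE6_c42 : (List.range' 42 6).all (h8muChkR chevE6 27 (h8muT h8muTabE6 27)) = true := by
  decide +kernel

set_option maxRecDepth 100000 in
theorem h8muE6_c48 : (List.range' 48 6).all (h8muChkR chevE6 27 (h8muT h8muTabE6 27)) = true := by
  decide +kernel

set_option maxRecDepth 100000 in
theorem h8muE6_c54 : (List.range' 54 6).all (h8muChkR chevE6 27 (h8muT h8muTabE6 27)) = true := by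
  decide +kernel

set_option maxRecDepth 100000 in
theorem h8muE6_c60 : (List.range' 60 6).all (h8muChkR chevE6 27 (h8muT h8muTabE6 27)) = true := by
  decide +kernel

set_option maxRecDepth 100000 in
theorem h8muE6_c66 : (List.range' 66 6).all (h8muChkR chevE6 27 (h8muT h8muTabE6 27)) = true := by
  decide +kernel

theorem h8muE6_r0 : ∀ r, 0 ≤ r → r < 72 →
    h8muChkR chevE6 27 (h8muT h8muTabE6 27) r = true := by
  intro r h1 h2
  by_cases hc0 : r < 6
  · exact h8all_chunk _ 0 6 h8muE6_c0 r (by omega) (by omega)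
  by_cases hc6 : r < 12
  · exact h8all_chunk _ 6 6 h8muE6_c6 r (by omega) (by omega)
  by_cases hc12 : r < 18
  · exact h8all_chunk _ 12 6 h8muE6_c12 r (by omega) (by omega)
  by_cases hc18 : r < 24
  · exact h8all_chunk _ 18 6 h8muE6_c18 r (by omega) (by omega)
  by_cases hc24 : r < 30
  · exact h8all_chunk _ 24 6 h8muE6_c24 r (by omega) (by omega)
  by_cases hc30 : r < 36
  · exact h8all_chunk _ 30 6 h8muE6_c30 r (by omega) (by omega)
  by_cases hc36 : r < 42
  · exact h8all_chunk _ 36 6 h8muE6_c36 r (by omega) (by omega)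
  by_cases hc42 : r < 48
  · exact h8all_chunk _ 42 6 h8muE6_c42 r (by omega) (by omega)
  by_cases hc48 : r < 54
  · exact h8all_chunk _ 48 6 h8muE6_c48 r (by omega) (by omega)
  by_cases hc54 : r < 60
  · exact h8all_chunk _ 54 6 h8muE6_c54 r (by omega) (by omega)
  by_cases hc60 : r < 66
  · exact h8all_chunk _ 60 6 h8muE6_c60 r (by omega) (by omega)
  exact h8all_chunk _ 66 6 h8muE6_c66 r (by omega) (by omega)

end Cfsg.Agent.Lib.helper8
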