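import Mathlib
import Cfsg.Prelude.Def_Steinberg
import Cfsg.Agent.Lib.helper8.ChevSt31

set_option autoImplicit false
set_option linter.unusedSectionVars false

namespace Cfsg.Agent.Lib.helper8

open Cfsg.Lie Cfsg.Lie.ChevalleyDatum

universe u

variable {K : Type u} [Field K]

/-- integer combinations of the columns of `A` are killed as soon as the columns are -/
theorem h8exp_comb (n : ℕ) (A : ℕ → ℕ → ℤ) (c : ℕ → K) (hc : ∀ i, c i ≠ 0)
    (h : ∀ j < n, ∏ i ∈ Finset.range n, c i ^ A i j = 1) (x : ℕ → ℤ) :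
    ∏ i ∈ Finset.range n, c i ^ (∑ l ∈ Finset.range n, A i l * x l) = 1 := by
  have e2 : ∏ i ∈ Finset.range n, c i ^ (∑ l ∈ Finset.range n, A i l * x l) =
      ∏ i ∈ Finset.range n, ∏ l ∈ Finset.range n, (c i ^ A i l) ^ x l := by
    apply Finset.prod_congr rfl
    intro i _
    rw [h8zpow_sum_range (c i) (hc i)]
    apply Finset.prod_congr rfl
    intro l _
    rw [zpow_mul]
  rw [e2, Finset.prod_comm]
  apply Finset.prod_eq_one
  intro l hl
  rw [Finset.prod_zpow, h l (Finset.mem_range.mp hl), one_zpow]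

/-- the solutions of `c ^ A = 1` when `A` has elementary divisors `1, …, 1, d` -/
theorem h8smith (n : ℕ) (A : ℕ → ℕ → ℤ) (d : ℤ) (g m y : ℕ → ℤ) (W : ℕ → ℕ → ℤ)
    (h1 : ∀ i < n, ∀ i' < n,
      ∑ l ∈ Finset.range n, A i l * W l i' = (if i = i' then 1 else 0) - g i * m i')
    (h2 : ∀ i < n, ∑ l ∈ Finset.range n, A i l * y l = d * g i)
    (c : ℕ → K) (hc : ∀ i, c i ≠ 0) (h : ∀ j < n, ∏ i ∈ Finset.range n, c i ^ A i j = 1) :
    (∏ i ∈ Finset.range n, c i ^ g i) ^ d = 1 ∧
      ∀ i' < n, c i' = (∏ i ∈ Finset.range n, c i ^ g i) ^ m i' := by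
  constructor
  · rw [← Finset.prod_zpow]
    have := h8exp_comb n A c hc h y
    rw [← this]
    apply Finset.prod_congr rfl
    intro i hi
    rw [← zpow_mul, h2 i (Finset.mem_range.mp hi), mul_comm]
  · intro i' hi'
    have := h8exp_comb n A c hc h (fun l => W l i')
    have e1 : ∏ i ∈ Finset.range n, c i ^ (∑ l ∈ Finset.range n, A i l * W l i') =
        c i' * ((∏ i ∈ Finset.range n, c i ^ g i) ^ m i')⁻¹ := by
      rw [← Finset.prod_zpow, ← Finset.prod_inv_distrib]
      have e3 : c i' = ∏ i ∈ Finset.range n, c i ^ (if i = i' then (1 : ℤ) else 0) := by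
        rw [Finset.prod_eq_single i']
        · rw [if_pos rfl, zpow_one]
        · intro i _ hik
          rw [if_neg hik, zpow_zero]
        · intro hk'
          exact absurd (Finset.mem_range.mpr hi') hk'
      rw [e3, ← Finset.prod_mul_distrib]
      apply Finset.prod_congr rfl
      intro i hi
      rw [h1 i (Finset.mem_range.mp hi) i' hi', zpow_sub₀ (hc i), ← zpow_mul, div_eq_mul_inv]
    rw [e1] at this
    exact eq_of_mul_inv_eq_one this

end Cfsg.Agent.Lib.helper8
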