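import Mathlib
import Cfsg.Prelude.Def_Steinberg
import Cfsg.Agent.Lib.helper8.ChevMu7

set_option autoImplicit false
set_option linter.unusedSectionVars false

namespace Cfsg.Agent.Lib.helper8

open Cfsg.Lie Cfsg.Lie.ChevalleyDatum

universe u

variable {K : Type u} [Field K]

/-- the centre of the Steinberg group, when the torus is a direct product and the Cartan matrix has
elementary divisors `1, …, 1, d` -/
theorem h8st_center_card [Fintype K] (D : ChevalleyDatum)
    (hD : D ∈ [chevG2, chevB2, chevD4, chevF4, chevE6, chevE7, chevE8])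
    (hinj : ∀ c : ℕ → K, (∀ i, c i ≠ 0) → h8TorS D (D.stGen K) c = 1 → ∀ k < D.rank, c k = 1)
    (d : ℕ) (g m y : ℕ → ℤ) (W : ℕ → ℕ → ℤ) (i0 : ℕ) (hi0 : i0 < D.rank) (hm0 : m i0 = 1)
    (h1 : ∀ i < D.rank, ∀ i' < D.rank,
      ∑ l ∈ Finset.range D.rank, D.cartan i (D.simple l) * W l i' =
        (if i = i' then 1 else 0) - g i * m i')
    (h2 : ∀ i < D.rank, ∑ l ∈ Finset.range D.rank, D.cartan i (D.simple l) * y l = (d : ℤ) * g i)
    (h3 : ∀ v < D.nroots, (d : ℤ) ∣ ∑ i ∈ Finset.range D.rank, m i * D.cartan i v) :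
    Nat.card (Subgroup.center (D.SteinbergGroup K)) = Nat.gcd d (Fintype.card K - 1) := by
  have hB := h8base_all.{u} D hD
  have hC := h8commAll.{u} D hD
  have hL := h8all_all D hD
  have hWS := h8w0s_all D hD
  have hN2 := h8n2_all D hD
  have hsc := h8scChk_all D hD
  have hgen : ∀ (r : ℕ) (t : K), r < D.nroots →
      ((h8stTheta D hB hC (D.stGen K r t) : GL D.Idx K) : Matrix D.Idx D.Idx K) = D.x K r t :=
    fun r t _ => h8stTheta_gen D hB hC r t
  have hP := h8stg_pair D hB (h8stTheta D hB hC) hgen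
  have hCr := h8stg_relC (K := K) D
  have him : ∀ c : ℕ → K, ((D.group K).subtype.comp (h8stTheta D hB hC))
      (h8TorS D (D.stGen K) c) = h8Tor D hB c := fun c => h8pair_TorS_im hP hL c
  have hker : ∀ z : D.SteinbergGroup K, z ∈ Subgroup.center (D.SteinbergGroup K) ↔
      ((D.group K).subtype.comp (h8stTheta D hB hC)) z = 1 := by
    intro z
    rw [← h8stTheta_ker D hD, MonoidHom.mem_ker, MonoidHom.comp_apply]
    constructor
    · intro h
      rw [h, map_one]
    · intro h
      exact Subtype.ext h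
  -- membership criterion
  have hmem : ∀ c : ℕ → K, (∀ i, c i ≠ 0) →
      (h8TorS D (D.stGen K) c ∈ Subgroup.center (D.SteinbergGroup K) ↔
        ∀ v < D.nroots, ∏ i ∈ Finset.range D.rank, c i ^ D.cartan i v = 1) := by
    intro c hc
    rw [hker, him]
    have hval := h8Tor_val D hB hsc c (fun i _ => hc i)
    constructor
    · intro h v hv
      rw [h, Units.val_one] at hval
      have := congrFun (congrFun hval (Sum.inr ⟨v, hv⟩)) (Sum.inr ⟨v, hv⟩)
      rw [Matrix.one_apply_eq, Matrix.diagonal_apply_eq] at this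
      exact this.symm
    · intro h
      apply Units.ext
      rw [hval, Units.val_one, ← Matrix.diagonal_one]
      congr 1
      funext x
      rcases x with k | v
      · rfl
      · exact h v.val v.2
  -- the parametrisation
  have hcω : ∀ ω : Kˣ, ∀ i, ((ω : K) ^ m i) ≠ 0 := fun ω i => zpow_ne_zero _ ω.ne_zero
  have hfmem : ∀ ω : (powMonoidHom d : Kˣ →* Kˣ).ker,
      h8TorS D (D.stGen K) (fun i => ((ω : Kˣ) : K) ^ m i) ∈
        Subgroup.center (D.SteinbergGroup K) := by
    intro ω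
    rw [hmem _ (hcω ω)]
    intro v hv
    have hω : ((ω : Kˣ) : K) ^ d = 1 := by
      have := ω.2
      rw [MonoidHom.mem_ker, powMonoidHom_apply] at this
      rw [← Units.val_pow_eq_pow_val, this, Units.val_one]
    obtain ⟨k, hk⟩ := h3 v hv
    have e1 : ∏ i ∈ Finset.range D.rank, (((ω : Kˣ) : K) ^ m i) ^ D.cartan i v =
        ((ω : Kˣ) : K) ^ (∑ i ∈ Finset.range D.rank, m i * D.cartan i v) := by
      rw [h8zpow_sum_range _ (Units.ne_zero _)]
      apply Finset.prod_congr rfl
      intro i _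
      rw [zpow_mul]
    rw [e1, hk, zpow_mul, zpow_natCast, hω, one_zpow]
  let f : (powMonoidHom d : Kˣ →* Kˣ).ker → Subgroup.center (D.SteinbergGroup K) :=
    fun ω => ⟨_, hfmem ω⟩
  have hfinj : Function.Injective f := by
    intro ω ω' h
    have h' : h8TorS D (D.stGen K) (fun i => ((ω : Kˣ) : K) ^ m i) =
        h8TorS D (D.stGen K) (fun i => ((ω' : Kˣ) : K) ^ m i) := congrArg Subtype.val h
    have hinv : h8TorS D (D.stGen K) (fun i => ((ω' : Kˣ) : K) ^ m i) *
        h8TorS D (D.stGen K) (fun i => (((ω' : Kˣ) : K) ^ m i)⁻¹) = 1 := by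
      rw [h8TorS_mul hP hL hWS hN2 hCr _ _ (hcω ω') (fun i => inv_ne_zero (hcω ω' i)),
        ← h8TorS_one hL hCr]
      apply h8TorS_congr
      intro i _
      exact mul_inv_cancel₀ (hcω ω' i)
    have h2' : h8TorS D (D.stGen K)
        (fun i => ((ω : Kˣ) : K) ^ m i * (((ω' : Kˣ) : K) ^ m i)⁻¹) = 1 := by
      rw [← h8TorS_mul hP hL hWS hN2 hCr _ _ (hcω ω) (fun i => inv_ne_zero (hcω ω' i)), h', hinv]
    have h3' := hinj _ (fun i => mul_ne_zero (hcω ω i) (inv_ne_zero (hcω ω' i))) h2' i0 hi0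
    simp only [hm0, zpow_one] at h3'
    apply Subtype.ext
    apply Units.ext
    exact eq_of_mul_inv_eq_one h3'
  have hfsurj : Function.Surjective f := by
    rintro ⟨z, hz⟩
    have hzk : z ∈ (h8stTheta (K := K) D hB hC).ker := by
      rw [h8stTheta_ker D hD]
      exact hz
    have hzT := (h8st_ker_le_diag D hD _ hgen).1 hzk
    rw [← h8stg_HS] at hzT
    obtain ⟨c, hc, rfl⟩ := h8pair_HS_eq_TorS hP hL hWS hN2 hCr z hzT
    have hall := (hmem c hc).mp hz
    have hsm := h8smith D.rank (fun i l => D.cartan i (D.simple l)) (d : ℤ) g m y W h1 h2 c hc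
      (fun j hj => hall _ (h8simple_pos D hL.hBN j hj).1)
    set ω0 : K := ∏ i ∈ Finset.range D.rank, c i ^ g i with hω0
    have hω0ne : ω0 ≠ 0 := by
      rw [hω0]
      apply Finset.prod_ne_zero_iff.mpr
      intro i _
      exact zpow_ne_zero _ (hc i)
    have hω0d : ω0 ^ d = 1 := by
      have := hsm.1
      rwa [zpow_natCast] at this
    let ω : Kˣ := Units.mk0 ω0 hω0ne
    have hωk : ω ∈ (powMonoidHom d : Kˣ →* Kˣ).ker := by
      rw [MonoidHom.mem_ker, powMonoidHom_apply]
      apply Units.ext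
      rw [Units.val_pow_eq_pow_val, Units.val_one]
      exact hω0d
    refine ⟨⟨ω, hωk⟩, ?_⟩
    apply Subtype.ext
    show h8TorS D (D.stGen K) (fun i => ((ω : Kˣ) : K) ^ m i) = h8TorS D (D.stGen K) c
    apply h8TorS_congr
    intro i hi
    exact (hsm.2 i hi).symm
  rw [← Nat.card_congr (Equiv.ofBijective f ⟨hfinj, hfsurj⟩), IsCyclic.card_powMonoidHom_ker,
    Nat.card_units, Nat.card_eq_fintype_card, Nat.gcd_comm]

end Cfsg.Agent.Lib.helper8
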