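import Mathlib
import Cfsg.Prelude.Def_Steinberg
import Cfsg.Agent.Lib.helper8.ChevMu4
import Cfsg.Agent.Lib.helper8.ChevMu5
import Cfsg.Agent.Lib.helper8.ChevMu8

set_option autoImplicit false
set_option linter.unusedSectionVars false

namespace Cfsg.Agent.Lib.helper8

open Cfsg.Lie Cfsg.Lie.ChevalleyDatum

universe u

variable {K : Type u} [Field K]

theorem h8muE6_ok : H8MuOK chevE6 27 (h8muT h8muTabE6 27) := by
  apply h8muChk_spec
  unfold h8muChk
  rw [List.all_eq_true]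
  intro r hr
  exact h8muE6_r0 r (Nat.zero_le r) (List.mem_range.mp hr)

def h8muWE6 : List ℕ := [2, 3, 4, 8, 18, 24]

def h8muBE6 : List (List ℤ) := [[0, 0, -1, 0, 0, 1], [0, 1, 1, 1, 1, 0], [1, 0, 1, 1, 1, 0], [0, 0, 0, 0, 0, 1], [1, 0, 0, 0, 0, 0], [-1, -1, -2, -2, -1, 0]]

def h8muGE6 : List ℤ := [0, 0, 0, 0, 0, 1]

def h8muME6 : List ℤ := [2, 0, 1, 0, 2, 1]

def h8muYE6 : List ℤ := [2, 3, 4, 6, 5, 4]

def h8muWmE6 : List (List ℤ) := [[0, 1, 1, 2, 0, 0], [-1, 2, 1, 3, 0, 0], [-1, 2, 2, 4, 0, 0], [-2, 3, 2, 6, 0, 0], [-2, 2, 1, 4, 0, 0], [-2, 1, 0, 2, -1, 0]]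

theorem h8muE6_simp : ∀ i < chevE6.rank, chevE6.simple i < chevE6.nroots := by decide +kernel

theorem h8muE6_w : ∀ k < chevE6.rank, h8muWE6.getD k 0 < 27 := by decide +kernel

theorem h8muE6_AB : ∀ i < chevE6.rank, ∀ k < chevE6.rank,
    ∑ j ∈ Finset.range chevE6.rank, h8muA chevE6 27 (h8muT h8muTabE6 27) (chevE6.simple i) (h8muWE6.getD j 0) *
      ((h8muBE6.getD j []).getD k 0) = if i = k then 1 else 0 := by decide +kernel

theorem h8muE6_h1 : ∀ i < chevE6.rank, ∀ i' < chevE6.rank,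
    ∑ l ∈ Finset.range chevE6.rank, chevE6.cartan i (chevE6.simple l) * ((h8muWmE6.getD l []).getD i' 0) =
      (if i = i' then 1 else 0) - h8muGE6.getD i 0 * h8muME6.getD i' 0 := by decide +kernel

theorem h8muE6_h2 : ∀ i < chevE6.rank,
    ∑ l ∈ Finset.range chevE6.rank, chevE6.cartan i (chevE6.simple l) * h8muYE6.getD l 0 =
      ((3 : ℕ) : ℤ) * h8muGE6.getD i 0 := by decide +kernel

theorem h8muE6_h3 : ∀ v < chevE6.nroots,
    (∑ i ∈ Finset.range chevE6.rank, h8muME6.getD i 0 * chevE6.cartan i v) % ((3 : ℕ) : ℤ) = 0 := by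
  decide +kernel

theorem h8st_center_E6 [Fintype K] :
    Nat.card (Subgroup.center (chevE6.SteinbergGroup K)) = Nat.gcd 3 (Fintype.card K - 1) := by
  apply h8st_center_card chevE6 (by simp) _ 3 (fun i => h8muGE6.getD i 0)
    (fun i => h8muME6.getD i 0) (fun i => h8muYE6.getD i 0)
    (fun l i' => (h8muWmE6.getD l []).getD i' 0) 2 (by decide) (by decide)
    h8muE6_h1 h8muE6_h2
    (fun v hv => Int.dvd_of_emod_eq_zero (h8muE6_h3 v hv))
  intro c hc h1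
  exact h8mu_TorS_inj h8muE6_ok h8muE6_simp (fun k => h8muWE6.getD k 0) h8muE6_w
    (fun j k => (h8muBE6.getD j []).getD k 0) h8muE6_AB c hc h1

end Cfsg.Agent.Lib.helper8
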