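import Mathlib
import Cfsg.Prelude.Def_Steinberg
import Cfsg.Agent.Lib.helper8.ChevMuT

set_option autoImplicit false

namespace Cfsg.Agent.Lib.helper8

open Cfsg.Lie Cfsg.Lie.ChevalleyDatum

set_option maxRecDepth 100000 in
theorem h8muE7_c0 : (List.range' 0 3).all (h8muChkR chevE7 56 (h8muT h8muTabE7 56)) = true := by
  decide +kernel

set_option maxRecDepth 100000 in
theorem h8muE7_c3 : (List.range' 3 3).all (h8muChkR chevE7 56 (h8muT h8muTabE7 56)) = true := by
  decide +kernel

set_option maxRecDepth 100000 in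
theorem h8muE7_c6 : (List.range' 6 3).all (h8muChkR chevE7 56 (h8muT h8muTabE7 56)) = true := by
  decide +kernel

set_option maxRecDepth 100000 in
theorem h8muE7_c9 : (List.range' 9 3).all (h8muChkR chevE7 56 (h8muT h8muTabE7 56)) = true := by
  decide +kernel

set_option maxRecDepth 100000 in
theorem h8muE7_c12 : (List.range' 12 3).all (h8muChkR chevE7 56 (h8muT h8muTabE7 56)) = true := by
  decide +kernel

set_option maxRecDepth 100000 in
theorem h8muE7_c15 : (List.range' 15 3).all (h8muChkR chevE7 56 (h8muT h8muTabE7 56)) = true := by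
  decide +kernel

set_option maxRecDepth 100000 in
theorem h8muE7_c18 : (List.range' 18 3).all (h8muChkR chevE7 56 (h8muT h8muTabE7 56)) = true := by
  decide +kernel

theorem h8muE7_r0 : ∀ r, 0 ≤ r → r < 21 →
    h8muChkR chevE7 56 (h8muT h8muTabE7 56) r = true := by
  intro r h1 h2
  by_cases hc0 : r < 3
  · exact h8all_chunk _ 0 3 h8muE7_c0 r (by omega) (by omega)
  by_cases hc3 : r < 6
  · exact h8all_chunk _ 3 3 h8muE7_c3 r (by omega) (by omega)
  by_cases hc6 : r < 9
  · exact h8all_chunk _ 6 3 h8muE7_c6 r (by omega) (by omega)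
  by_cases hc9 : r < 12
  · exact h8all_chunk _ 9 3 h8muE7_c9 r (by omega) (by omega)
  by_cases hc12 : r < 15
  · exact h8all_chunk _ 12 3 h8muE7_c12 r (by omega) (by omega)
  by_cases hc15 : r < 18
  · exact h8all_chunk _ 15 3 h8muE7_c15 r (by omega) (by omega)
  exact h8all_chunk _ 18 3 h8muE7_c18 r (by omega) (by omega)

end Cfsg.Agent.Lib.helper8
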