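import Mathlib
import Cfsg.Prelude.Def_Steinberg
import Cfsg.Agent.Lib.helper8.ChevMuT

set_option autoImplicit false

namespace Cfsg.Agent.Lib.helper8

open Cfsg.Lie Cfsg.Lie.ChevalleyDatum

set_option maxRecDepth 100000 in
theorem h8muE7_c21 : (List.range' 21 3).all (h8muChkR chevE7 56 (h8muT h8muTabE7 56)) = true := by
  decide +kernel

set_option maxRecDepth 100000 in
theorem h8muE7_c24 : (List.range' 24 3).all (h8muChkR chevE7 56 (h8muT h8muTabE7 56)) = true := by
  decide +kernel

set_option maxRecDepth 100000 in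
theorem h8muE7_c27 : (List.range' 27 3).all (h8muChkR chevE7 56 (h8muT h8muTabE7 56)) = true := by
  decide +kernel

set_option maxRecDepth 100000 in
theorem h8muE7_c30 : (List.range' 30 3).all (h8muChkR chevE7 56 (h8muT h8muTabE7 56)) = true := by
  decide +kernel

set_option maxRecDepth 100000 in
theorem h8muE7_c33 : (List.range' 33 3).all (h8muChkR chevE7 56 (h8muT h8muTabE7 56)) = true := by
  decide +kernel

set_option maxRecDepth 100000 in
theorem h8muE7_c36 : (List.range' 36 3).all (h8muChkR chevE7 56 (h8muT h8muTabE7 56)) = true := by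
  decide +kernel

set_option maxRecDepth 100000 in
theorem h8muE7_c39 : (List.range' 39 3).all (h8muChkR chevE7 56 (h8muT h8muTabE7 56)) = true := by
  decide +kernel

theorem h8muE7_r21 : ∀ r, 21 ≤ r → r < 42 →
    h8muChkR chevE7 56 (h8muT h8muTabE7 56) r = true := by
  intro r h1 h2
  by_cases hc21 : r < 24
  · exact h8all_chunk _ 21 3 h8muE7_c21 r (by omega) (by omega)
  by_cases hc24 : r < 27
  · exact h8all_chunk _ 24 3 h8muE7_c24 r (by omega) (by omega)
  by_cases hc27 : r < 30
  · exact h8all_chunk _ 27 3 h8muE7_c27 r (by omega) (by omega)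
  by_cases hc30 : r < 33
  · exact h8all_chunk _ 30 3 h8muE7_c30 r (by omega) (by omega)
  by_cases hc33 : r < 36
  · exact h8all_chunk _ 33 3 h8muE7_c33 r (by omega) (by omega)
  by_cases hc36 : r < 39
  · exact h8all_chunk _ 36 3 h8muE7_c36 r (by omega) (by omega)
  exact h8all_chunk _ 39 3 h8muE7_c39 r (by omega) (by omega)

end Cfsg.Agent.Lib.helper8
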