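import Mathlib
import Cfsg.Prelude.Def_Steinberg
import Cfsg.Agent.Lib.helper8.ChevMuT

set_option autoImplicit false

namespace Cfsg.Agent.Lib.helper8

open Cfsg.Lie Cfsg.Lie.ChevalleyDatum

set_option maxRecDepth 100000 in
theorem h8muE7_c42 : (List.range' 42 3).all (h8muChkR chevE7 56 (h8muT h8muTabE7 56)) = true := by
  decide +kernel

set_option maxRecDepth 100000 in
theorem h8muE7_c45 : (List.range' 45 3).all (h8muChkR chevE7 56 (h8muT h8muTabE7 56)) = true := by
  decide +kernel

set_option maxRecDepth 100000 in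
theorem h8muE7_c48 : (List.range' 48 3).all (h8muChkR chevE7 56 (h8muT h8muTabE7 56)) = true := by
  decide +kernel

set_option maxRecDepth 100000 in
theorem h8muE7_c51 : (List.range' 51 3).all (h8muChkR chevE7 56 (h8muT h8muTabE7 56)) = true := by
  decide +kernel

set_option maxRecDepth 100000 in
theorem h8muE7_c54 : (List.range' 54 3).all (h8muChkR chevE7 56 (h8muT h8muTabE7 56)) = true := by
  decide +kernel

set_option maxRecDepth 100000 in
theorem h8muE7_c57 : (List.range' 57 3).all (h8muChkR chevE7 56 (h8muT h8muTabE7 56)) = true := by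
  decide +kernel

set_option maxRecDepth 100000 in
theorem h8muE7_c60 : (List.range' 60 3).all (h8muChkR chevE7 56 (h8muT h8muTabE7 56)) = true := by
  decide +kernel

theorem h8muE7_r42 : ∀ r, 42 ≤ r → r < 63 →
    h8muChkR chevE7 56 (h8muT h8muTabE7 56) r = true := by
  intro r h1 h2
  by_cases hc42 : r < 45
  · exact h8all_chunk _ 42 3 h8muE7_c42 r (by omega) (by omega)
  by_cases hc45 : r < 48
  · exact h8all_chunk _ 45 3 h8muE7_c45 r (by omega) (by omega)
  by_cases hc48 : r < 51
  · exact h8all_chunk _ 48 3 h8muE7_c48 r (by omega) (by omega)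
  by_cases hc51 : r < 54
  · exact h8all_chunk _ 51 3 h8muE7_c51 r (by omega) (by omega)
  by_cases hc54 : r < 57
  · exact h8all_chunk _ 54 3 h8muE7_c54 r (by omega) (by omega)
  by_cases hc57 : r < 60
  · exact h8all_chunk _ 57 3 h8muE7_c57 r (by omega) (by omega)
  exact h8all_chunk _ 60 3 h8muE7_c60 r (by omega) (by omega)

end Cfsg.Agent.Lib.helper8
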