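import Mathlib
import Cfsg.Prelude.Def_Steinberg
import Cfsg.Agent.Lib.helper8.ChevMuT

set_option autoImplicit false

namespace Cfsg.Agent.Lib.helper8

open Cfsg.Lie Cfsg.Lie.ChevalleyDatum

set_option maxRecDepth 100000 in
theorem h8muE7_c63 : (List.range' 63 3).all (h8muChkR chevE7 56 (h8muT h8muTabE7 56)) = true := by
  decide +kernel

set_option maxRecDepth 100000 in
theorem h8muE7_c66 : (List.range' 66 3).all (h8muChkR chevE7 56 (h8muT h8muTabE7 56)) = true := by
  decide +kernel

set_option maxRecDepth 100000 in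
theorem h8muE7_c69 : (List.range' 69 3).all (h8muChkR chevE7 56 (h8muT h8muTabE7 56)) = true := by
  decide +kernel

set_option maxRecDepth 100000 in
theorem h8muE7_c72 : (List.range' 72 3).all (h8muChkR chevE7 56 (h8muT h8muTabE7 56)) = true := by
  decide +kernel

set_option maxRecDepth 100000 in
theorem h8muE7_c75 : (List.range' 75 3).all (h8muChkR chevE7 56 (h8muT h8muTabE7 56)) = true := by
  decide +kernel

set_option maxRecDepth 100000 in
theorem h8muE7_c78 : (List.range' 78 3).all (h8muChkR chevE7 56 (h8muT h8muTabE7 56)) = true := by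
  decide +kernel

set_option maxRecDepth 100000 in
theorem h8muE7_c81 : (List.range' 81 3).all (h8muChkR chevE7 56 (h8muT h8muTabE7 56)) = true := by
  decide +kernel

theorem h8muE7_r63 : ∀ r, 63 ≤ r → r < 84 →
    h8muChkR chevE7 56 (h8muT h8muTabE7 56) r = true := by
  intro r h1 h2
  by_cases hc63 : r < 66
  · exact h8all_chunk _ 63 3 h8muE7_c63 r (by omega) (by omega)
  by_cases hc66 : r < 69
  · exact h8all_chunk _ 66 3 h8muE7_c66 r (by omega) (by omega)
  by_cases hc69 : r < 72
  · exact h8all_chunk _ 69 3 h8muE7_c69 r (by omega) (by omega)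
  by_cases hc72 : r < 75
  · exact h8all_chunk _ 72 3 h8muE7_c72 r (by omega) (by omega)
  by_cases hc75 : r < 78
  · exact h8all_chunk _ 75 3 h8muE7_c75 r (by omega) (by omega)
  by_cases hc78 : r < 81
  · exact h8all_chunk _ 78 3 h8muE7_c78 r (by omega) (by omega)
  exact h8all_chunk _ 81 3 h8muE7_c81 r (by omega) (by omega)

end Cfsg.Agent.Lib.helper8
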