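import Mathlib
import Cfsg.Prelude.Def_Steinberg
import Cfsg.Agent.Lib.helper8.ChevMuT

set_option autoImplicit false

namespace Cfsg.Agent.Lib.helper8

open Cfsg.Lie Cfsg.Lie.ChevalleyDatum

set_option maxRecDepth 100000 in
theorem h8muE7_c84 : (List.range' 84 3).all (h8muChkR chevE7 56 (h8muT h8muTabE7 56)) = true := by
  decide +kernel

set_option maxRecDepth 100000 in
theorem h8muE7_c87 : (List.range' 87 3).all (h8muChkR chevE7 56 (h8muT h8muTabE7 56)) = true := by
  decide +kernel

set_option maxRecDepth 100000 in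
theorem h8muE7_c90 : (List.range' 90 3).all (h8muChkR chevE7 56 (h8muT h8muTabE7 56)) = true := by
  decide +kernel

set_option maxRecDepth 100000 in
theorem h8muE7_c93 : (List.range' 93 3).all (h8muChkR chevE7 56 (h8muT h8muTabE7 56)) = true := by
  decide +kernel

set_option maxRecDepth 100000 in
theorem h8muE7_c96 : (List.range' 96 3).all (h8muChkR chevE7 56 (h8muT h8muTabE7 56)) = true := by
  decide +kernel

set_option maxRecDepth 100000 in
theorem h8muE7_c99 : (List.range' 99 3).all (h8muChkR chevE7 56 (h8muT h8muTabE7 56)) = true := by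
  decide +kernel

set_option maxRecDepth 100000 in
theorem h8muE7_c102 : (List.range' 102 3).all (h8muChkR chevE7 56 (h8muT h8muTabE7 56)) = true := by
  decide +kernel

theorem h8muE7_r84 : ∀ r, 84 ≤ r → r < 105 →
    h8muChkR chevE7 56 (h8muT h8muTabE7 56) r = true := by
  intro r h1 h2
  by_cases hc84 : r < 87
  · exact h8all_chunk _ 84 3 h8muE7_c84 r (by omega) (by omega)
  by_cases hc87 : r < 90
  · exact h8all_chunk _ 87 3 h8muE7_c87 r (by omega) (by omega)
  by_cases hc90 : r < 93
  · exact h8all_chunk _ 90 3 h8muE7_c90 r (by omega) (by omega)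
  by_cases hc93 : r < 96
  · exact h8all_chunk _ 93 3 h8muE7_c93 r (by omega) (by omega)
  by_cases hc96 : r < 99
  · exact h8all_chunk _ 96 3 h8muE7_c96 r (by omega) (by omega)
  by_cases hc99 : r < 102
  · exact h8all_chunk _ 99 3 h8muE7_c99 r (by omega) (by omega)
  exact h8all_chunk _ 102 3 h8muE7_c102 r (by omega) (by omega)

end Cfsg.Agent.Lib.helper8
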