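import Mathlib
import Cfsg.Prelude.Def_Steinberg
import Cfsg.Agent.Lib.helper8.ChevMuT

set_option autoImplicit false

namespace Cfsg.Agent.Lib.helper8

open Cfsg.Lie Cfsg.Lie.ChevalleyDatum

set_option maxRecDepth 100000 in
theorem h8muE7_c105 : (List.range' 105 3).all (h8muChkR chevE7 56 (h8muT h8muTabE7 56)) = true := by
  decide +kernel

set_option maxRecDepth 100000 in
theorem h8muE7_c108 : (List.range' 108 3).all (h8muChkR chevE7 56 (h8muT h8muTabE7 56)) = true := by
  decide +kernel

set_option maxRecDepth 100000 in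
theorem h8muE7_c111 : (List.range' 111 3).all (h8muChkR chevE7 56 (h8muT h8muTabE7 56)) = true := by
  decide +kernel

set_option maxRecDepth 100000 in
theorem h8muE7_c114 : (List.range' 114 3).all (h8muChkR chevE7 56 (h8muT h8muTabE7 56)) = true := by
  decide +kernel

set_option maxRecDepth 100000 in
theorem h8muE7_c117 : (List.range' 117 3).all (h8muChkR chevE7 56 (h8muT h8muTabE7 56)) = true := by
  decide +kernel

set_option maxRecDepth 100000 in
theorem h8muE7_c120 : (List.range' 120 3).all (h8muChkR chevE7 56 (h8muT h8muTabE7 56)) = true := by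
  decide +kernel

set_option maxRecDepth 100000 in
theorem h8muE7_c123 : (List.range' 123 3).all (h8muChkR chevE7 56 (h8muT h8muTabE7 56)) = true := by
  decide +kernel

theorem h8muE7_r105 : ∀ r, 105 ≤ r → r < 126 →
    h8muChkR chevE7 56 (h8muT h8muTabE7 56) r = true := by
  intro r h1 h2
  by_cases hc105 : r < 108
  · exact h8all_chunk _ 105 3 h8muE7_c105 r (by omega) (by omega)
  by_cases hc108 : r < 111
  · exact h8all_chunk _ 108 3 h8muE7_c108 r (by omega) (by omega)
  by_cases hc111 : r < 114
  · exact h8all_chunk _ 111 3 h8muE7_c111 r (by omega) (by omega)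
  by_cases hc114 : r < 117
  · exact h8all_chunk _ 114 3 h8muE7_c114 r (by omega) (by omega)
  by_cases hc117 : r < 120
  · exact h8all_chunk _ 117 3 h8muE7_c117 r (by omega) (by omega)
  by_cases hc120 : r < 123
  · exact h8all_chunk _ 120 3 h8muE7_c120 r (by omega) (by omega)
  exact h8all_chunk _ 123 3 h8muE7_c123 r (by omega) (by omega)

end Cfsg.Agent.Lib.helper8
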