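import Mathlib
import Cfsg.Prelude.Def_Steinberg
import Cfsg.Agent.Lib.helper8.ChevMu4
import Cfsg.Agent.Lib.helper8.ChevMu6a
import Cfsg.Agent.Lib.helper8.ChevMu6b
import Cfsg.Agent.Lib.helper8.ChevMu6c
import Cfsg.Agent.Lib.helper8.ChevMu6d
import Cfsg.Agent.Lib.helper8.ChevMu6e
import Cfsg.Agent.Lib.helper8.ChevMu6f
import Cfsg.Agent.Lib.helper8.ChevMu8

set_option autoImplicit false
set_option linter.unusedSectionVars false

namespace Cfsg.Agent.Lib.helper8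

open Cfsg.Lie Cfsg.Lie.ChevalleyDatum

universe u

variable {K : Type u} [Field K]

theorem h8muE7_ok : H8MuOK chevE7 56 (h8muT h8muTabE7 56) := by
  apply h8muChk_spec
  unfold h8muChk
  rw [List.all_eq_true]
  intro r hr
  have hr' : r < 126 := List.mem_range.mp hr
  by_cases h1 : r < 21
  · exact h8muE7_r0 r (Nat.zero_le r) h1
  by_cases h2 : r < 42
  · exact h8muE7_r21 r (by omega) h2
  by_cases h3 : r < 63
  · exact h8muE7_r42 r (by omega) h3
  by_cases h4 : r < 84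
  · exact h8muE7_r63 r (by omega) h4
  by_cases h5 : r < 105
  · exact h8muE7_r84 r (by omega) h5
  exact h8muE7_r105 r (by omega) hr'

def h8muWE7 : List ℕ := [12, 19, 27, 32, 42, 45, 54]

def h8muBE7 : List (List ℤ) := [[1, 1, 0, 1, 0, 0, 0], [-1, -1, -1, -2, -1, 0, 0], [0, 0, -1, -1, -1, -1, -1], [-1, -2, -2, -3, -2, -1, -1], [0, 0, 1, 0, 0, 0, 0], [0, 1, 0, 1, 0, 0, 0], [-1, -2, -3, -4, -3, -2, -1]]

def h8muGE7 : List ℤ := [0, 0, 0, 0, 0, 0, 1]

def h8muME7 : List ℤ := [0, 1, 0, 0, 1, 0, 1]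

def h8muYE7 : List ℤ := [2, 3, 4, 6, 5, 4, 3]

def h8muWmE7 : List (List ℤ) := [[2, 1, 3, 4, 2, 2, 0], [2, 2, 4, 6, 3, 3, 0], [3, 2, 6, 8, 4, 4, 0], [4, 3, 8, 12, 6, 6, 0], [3, 2, 6, 9, 5, 5, 0], [2, 1, 4, 6, 3, 4, 0], [1, 0, 2, 3, 1, 2, 0]]

theorem h8muE7_simp : ∀ i < chevE7.rank, chevE7.simple i < chevE7.nroots := by decide +kernel

theorem h8muE7_w : ∀ k < chevE7.rank, h8muWE7.getD k 0 < 56 := by decide +kernel

theorem h8muE7_AB : ∀ i < chevE7.rank, ∀ k < chevE7.rank,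
    ∑ j ∈ Finset.range chevE7.rank, h8muA chevE7 56 (h8muT h8muTabE7 56) (chevE7.simple i) (h8muWE7.getD j 0) *
      ((h8muBE7.getD j []).getD k 0) = if i = k then 1 else 0 := by decide +kernel

theorem h8muE7_h1 : ∀ i < chevE7.rank, ∀ i' < chevE7.rank,
    ∑ l ∈ Finset.range chevE7.rank, chevE7.cartan i (chevE7.simple l) * ((h8muWmE7.getD l []).getD i' 0) =
      (if i = i' then 1 else 0) - h8muGE7.getD i 0 * h8muME7.getD i' 0 := by decide +kernel

theorem h8muE7_h2 : ∀ i < chevE7.rank,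
    ∑ l ∈ Finset.range chevE7.rank, chevE7.cartan i (chevE7.simple l) * h8muYE7.getD l 0 =
      ((2 : ℕ) : ℤ) * h8muGE7.getD i 0 := by decide +kernel

theorem h8muE7_h3 : ∀ v < chevE7.nroots,
    (∑ i ∈ Finset.range chevE7.rank, h8muME7.getD i 0 * chevE7.cartan i v) % ((2 : ℕ) : ℤ) = 0 := by
  decide +kernel

theorem h8st_center_E7 [Fintype K] :
    Nat.card (Subgroup.center (chevE7.SteinbergGroup K)) = Nat.gcd 2 (Fintype.card K - 1) := by
  apply h8st_center_card chevE7 (by simp) _ 2 (fun i => h8muGE7.getD i 0)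
    (fun i => h8muME7.getD i 0) (fun i => h8muYE7.getD i 0)
    (fun l i' => (h8muWmE7.getD l []).getD i' 0) 1 (by decide) (by decide)
    h8muE7_h1 h8muE7_h2
    (fun v hv => Int.dvd_of_emod_eq_zero (h8muE7_h3 v hv))
  intro c hc h1
  exact h8mu_TorS_inj h8muE7_ok h8muE7_simp (fun k => h8muWE7.getD k 0) h8muE7_w
    (fun j k => (h8muBE7.getD j []).getD k 0) h8muE7_AB c hc h1

end Cfsg.Agent.Lib.helper8
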