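import Mathlib
import Cfsg.Agent.Lib.helper8.A7R.Defs

set_option autoImplicit false

/-! # A7R rows C0 (closure_conj) and C1 (closure3A) -/

namespace Cfsg.Agent.Lib.helper8.A7R

universe u

variable {G : Type u} [Group G]

theorem a7rc1_tt {P : Sylow 3 G} {k t : G} (hC : Ctx P k t) : t * t = 1 := by
  have h := pow_orderOf_eq_one t
  rw [hC.ht2, pow_two] at h
  exact h

theorem a7rc1_tinv {P : Sylow 3 G} {k t : G} (hC : Ctx P k t) : t⁻¹ = t :=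
  inv_eq_of_mul_eq_one_right (a7rc1_tt hC)

/-- `t k^i t⁻¹ = (k⁻¹)^i` -/
theorem a7rc1_conj_pow {P : Sylow 3 G} {k t : G} (hC : Ctx P k t) (i : ℕ) : t * k ^ i * t⁻¹ = (k⁻¹) ^ i := by
  have h : t * k ^ i * t⁻¹ = (t * k * t⁻¹) ^ i := by
    induction i with
    | zero => simp
    | succ n ih =>
      rw [pow_succ, pow_succ, ← ih]
      group
  rw [h, hC.htk]

theorem closure_conj {P : Sylow 3 G} {k t : G} (hC : Ctx P k t) (x : G)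
    (h : t * x * t⁻¹ ∈ Nz (P : Subgroup G) ∨ InD P t (t * x * t⁻¹)) (i : ℕ) :
    t * (k ^ i * x * (k ^ i)⁻¹) * t⁻¹ ∈ Nz (P : Subgroup G) ∨ InD P t (t * (k ^ i * x * (k ^ i)⁻¹) * t⁻¹) := by
  have hc : (k⁻¹) ^ i ∈ Nz (P : Subgroup G) := Subgroup.pow_mem _ (Subgroup.inv_mem _ hC.hk) i
  have hkey : t * (k ^ i * x * (k ^ i)⁻¹) * t⁻¹ = (k⁻¹) ^ i * (t * x * t⁻¹) * ((k⁻¹) ^ i)⁻¹ := by
    rw [← a7rc1_conj_pow hC i]
    group
  rw [hkey]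
  rcases h with h | ⟨n, hn, n', hn', h⟩
  · left
    exact Subgroup.mul_mem _ (Subgroup.mul_mem _ hc h) (Subgroup.inv_mem _ hc)
  · right
    refine ⟨(k⁻¹) ^ i * n, Subgroup.mul_mem _ hc hn, n' * ((k⁻¹) ^ i)⁻¹,
      Subgroup.mul_mem _ hn' (Subgroup.inv_mem _ hc), ?_⟩
    rw [h]
    group

/-- `(t y)^3 = 1`, `t^2 = 1`: `t y t = y⁻¹ t y⁻¹` -/
theorem a7rc1_rel {t y : G} (htt : t * t = 1) (hty : (t * y) ^ 3 = 1) : t * y * t = y⁻¹ * t * y⁻¹ := by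
  have h : t * y * t * (y * t * y) = 1 := by
    rw [← hty]
    simp only [pow_succ, pow_zero, one_mul, mul_assoc]
  have htinv : t⁻¹ = t := inv_eq_of_mul_eq_one_right htt
  calc t * y * t = (y * t * y)⁻¹ := eq_inv_of_mul_eq_one_left h
    _ = y⁻¹ * t⁻¹ * y⁻¹ := by group
    _ = y⁻¹ * t * y⁻¹ := by rw [htinv]

theorem closure3A {P : Sylow 3 G} {k t : G} (hC : Ctx P k t) (y : G) (hy : y ∈ (P : Subgroup G)) (hty : (t * y) ^ 3 = 1) :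
    InD P t (t * y * t⁻¹) := by
  have hyN : y⁻¹ ∈ Nz (P : Subgroup G) := Subgroup.le_normalizer (Subgroup.inv_mem _ hy)
  refine ⟨y⁻¹, hyN, y⁻¹, hyN, ?_⟩
  rw [a7rc1_tinv hC]
  exact a7rc1_rel (a7rc1_tt hC) hty

end Cfsg.Agent.Lib.helper8.A7R
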