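import Mathlib
import Cfsg.Agent.Lib.helper8.A7R.Defs
import Cfsg.Agent.Lib.helper8.A7RC1

set_option autoImplicit false

/-! # A7R row C2 (closure3B): the word computation `b⁻¹ (y2 k) b = y k⁻¹` and `fixK` -/

namespace Cfsg.Agent.Lib.helper8.A7R

universe u

variable {G : Type u} [Group G]

/-- the word computation of row C2 -/
theorem a7rc2_word {t y z k : G} (htt : t * t = 1) (hk4 : k ^ 4 = 1) (htk : t * k = k⁻¹ * t)
    (r1 : k * y = z * k) (r2 : k * z = y⁻¹ * k) (rc : y * z = z * y) (hD1 : t * y * t = y⁻¹ * t * y⁻¹) :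
    (t * (y * z) * t)⁻¹ * (z * k) * (t * (y * z) * t) = y * k⁻¹ := by
  have htinv : t⁻¹ = t := inv_eq_of_mul_eq_one_right htt
  -- derived relations
  have e3 : k * t = t * k⁻¹ := by
    have : k = t * k⁻¹ * t := by
      calc k = t * (t * k) := by rw [← mul_assoc, htt, one_mul]
        _ = t * k⁻¹ * t := by rw [htk, mul_assoc]
    calc k * t = t * k⁻¹ * t * t := by rw [← this]
      _ = t * k⁻¹ := by rw [mul_assoc, htt, mul_one]
  have e4 : k⁻¹ * t = t * k := htk.symm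
  have r3 : k⁻¹ * y = z⁻¹ * k⁻¹ := by
    have : z = k⁻¹ * y⁻¹ * k := by
      calc z = k⁻¹ * (k * z) := by group
        _ = k⁻¹ * y⁻¹ * k := by rw [r2, mul_assoc]
    rw [this]; group
  have r4 : k⁻¹ * z = y * k⁻¹ := by
    have : y = k⁻¹ * z * k := by
      calc y = k⁻¹ * (k * y) := by group
        _ = k⁻¹ * z * k := by rw [r1, mul_assoc]
    rw [this]; group
  have j1 : k * k * y = y⁻¹ * (k * k) := by
    calc k * k * y = k * (k * y) := by group
      _ = k * (z * k) := by rw [r1]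
      _ = k * z * k := by group
      _ = y⁻¹ * k * k := by rw [r2]
      _ = y⁻¹ * (k * k) := by group
  have j3 : k * k * t = t * (k * k) := by
    have hk2 : k⁻¹ * k⁻¹ = k * k := by
      have : k * k * (k * k) = 1 := by rw [← hk4]; simp only [pow_succ, pow_zero, one_mul, mul_assoc]
      calc k⁻¹ * k⁻¹ = k⁻¹ * k⁻¹ * (k * k * (k * k)) := by rw [this, mul_one]
        _ = k * k := by simp only [mul_assoc, inv_mul_cancel_left]
    calc k * k * t = k * (k * t) := by group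
      _ = k * (t * k⁻¹) := by rw [e3]
      _ = k * t * k⁻¹ := by group
      _ = t * k⁻¹ * k⁻¹ := by rw [e3]
      _ = t * (k⁻¹ * k⁻¹) := by group
      _ = t * (k * k) := by rw [hk2]
  have j5 : k * k * k = k⁻¹ := by
    have : k * k * k * k = 1 := by rw [← hk4]; simp only [pow_succ, pow_zero, one_mul, mul_assoc]
    exact eq_inv_of_mul_eq_one_left this
  -- D2 : t z t = z (k k) t z
  have hz : z = k * y * k⁻¹ := by
    calc z = z * k * k⁻¹ := by group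
      _ = k * y * k⁻¹ := by rw [← r1]
  have r7 : y⁻¹ * k = k * z := r2.symm
  have hz2 : z = k⁻¹ * y⁻¹ * k := by
    calc z = k⁻¹ * (k * z) := by group
      _ = k⁻¹ * y⁻¹ * k := by rw [r2, mul_assoc]
  have r6 : k⁻¹ * y⁻¹ = z * k⁻¹ := by rw [hz2]; group
  have hD2 : t * z * t = z * (k * k) * t * z := by
    calc t * z * t = t * (k * y * k⁻¹) * t := by rw [← hz]
      _ = (t * k) * y * (k⁻¹ * t) := by group
      _ = (k⁻¹ * t) * y * (t * k) := by rw [htk, e4]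
      _ = k⁻¹ * (t * y * t) * k := by group
      _ = k⁻¹ * (y⁻¹ * t * y⁻¹) * k := by rw [hD1]
      _ = (k⁻¹ * y⁻¹) * t * (y⁻¹ * k) := by group
      _ = (z * k⁻¹) * t * (k * z) := by rw [r6, r7]
      _ = z * (k⁻¹ * t) * k * z := by group
      _ = z * (t * k) * k * z := by rw [e4]
      _ = z * (t * (k * k)) * z := by group
      _ = z * (k * k * t) * z := by rw [j3]
      _ = z * (k * k) * t * z := by group
  have s8 : t * y⁻¹ * t = y * t * y := by
    calc t * y⁻¹ * t = (t * y * t)⁻¹ := by rw [mul_inv_rev, mul_inv_rev, htinv]; group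
      _ = (y⁻¹ * t * y⁻¹)⁻¹ := by rw [hD1]
      _ = y * t⁻¹ * y := by group
      _ = y * t * y := by rw [htinv]
  have s9 : y * (k * k) * y = k * k := by
    calc y * (k * k) * y = y * (k * k * y) := by group
      _ = y * (y⁻¹ * (k * k)) := by rw [j1]
      _ = k * k := by group
  have s10 : t * (k * k) * t = k * k := by
    calc t * (k * k) * t = t * (k * k * t) := by group
      _ = t * (t * (k * k)) := by rw [j3]
      _ = (t * t) * (k * k) := by group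
      _ = k * k := by rw [htt, one_mul]
  have s6 : z⁻¹ * y⁻¹ * z = y⁻¹ := by
    have : y⁻¹ * z = z * y⁻¹ := by
      calc y⁻¹ * z = y⁻¹ * (z * y) * y⁻¹ := by group
        _ = y⁻¹ * (y * z) * y⁻¹ := by rw [rc]
        _ = z * y⁻¹ := by group
    calc z⁻¹ * y⁻¹ * z = z⁻¹ * (y⁻¹ * z) := by group
      _ = z⁻¹ * (z * y⁻¹) := by rw [this]
      _ = y⁻¹ := by group
  calc (t * (y * z) * t)⁻¹ * (z * k) * (t * (y * z) * t)
      = t * z⁻¹ * y⁻¹ * t * z * (k * t) * y * z * t := by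
        rw [mul_inv_rev, mul_inv_rev, mul_inv_rev, htinv]; group
    _ = t * z⁻¹ * y⁻¹ * t * z * (t * k⁻¹) * y * z * t := by rw [e3]
    _ = t * z⁻¹ * y⁻¹ * t * z * t * (k⁻¹ * y) * z * t := by group
    _ = t * z⁻¹ * y⁻¹ * t * z * t * (z⁻¹ * k⁻¹) * z * t := by rw [r3]
    _ = t * z⁻¹ * y⁻¹ * t * z * t * z⁻¹ * (k⁻¹ * z) * t := by group
    _ = t * z⁻¹ * y⁻¹ * t * z * t * z⁻¹ * (y * k⁻¹) * t := by rw [r4]
    _ = t * z⁻¹ * y⁻¹ * t * z * t * z⁻¹ * y * (k⁻¹ * t) := by group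
    _ = t * z⁻¹ * y⁻¹ * t * z * t * z⁻¹ * y * (t * k) := by rw [e4]
    _ = t * z⁻¹ * y⁻¹ * (t * z * t) * z⁻¹ * y * t * k := by group
    _ = t * z⁻¹ * y⁻¹ * (z * (k * k) * t * z) * z⁻¹ * y * t * k := by rw [hD2]
    _ = t * (z⁻¹ * y⁻¹ * z) * (k * k * t) * y * t * k := by group
    _ = t * y⁻¹ * (t * (k * k)) * y * t * k := by rw [s6, j3]
    _ = (t * y⁻¹ * t) * (k * k) * y * t * k := by group
    _ = (y * t * y) * (k * k) * y * t * k := by rw [s8]
    _ = y * t * (y * (k * k) * y) * t * k := by group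
    _ = y * t * (k * k) * t * k := by rw [s9]
    _ = y * (t * (k * k) * t) * k := by group
    _ = y * (k * k) * k := by rw [s10]
    _ = y * (k * k * k) := by group
    _ = y * k⁻¹ := by rw [j5]


/-- membership in the Sylow subgroup `c • P` -/
theorem a7rc2_mem_smul {p : ℕ} (P : Sylow p G) (c x : G) :
    x ∈ ((c • P : Sylow p G) : Subgroup G) ↔ c⁻¹ * x * c ∈ (P : Subgroup G) := by
  rw [Sylow.smul_def, Sylow.pointwise_smul_def, Subgroup.mem_pointwise_smul_iff_inv_smul_mem]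
  simp [MulAut.smul_def]

theorem a7rc2_smul_eq_conjS {p : ℕ} (P : Sylow p G) (c : G) :
    ((c • P : Sylow p G) : Subgroup G) = conjS c (P : Subgroup G) := by
  ext x
  rw [a7rc2_mem_smul, mem_conjS]

/-- `c H c⁻¹ = H` gives `c ∈ N(H)` -/
theorem a7rc2_conjS_self {H : Subgroup G} {c : G} (h : conjS c H = H) : c ∈ Nz H := by
  have hinv : c⁻¹ ∈ Nz H := by
    rw [Subgroup.mem_normalizer_iff]
    intro x
    have := mem_conjS c H x
    rw [h] at this
    rw [inv_inv]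
    exact this
  have := Subgroup.inv_mem _ hinv
  rwa [inv_inv] at this

/-- `c H c⁻¹ = t H t⁻¹` gives `c⁻¹ t ∈ N(H)` -/
theorem a7rc2_conjS_eq {H : Subgroup G} {c t : G} (h : conjS c H = conjS t H) : c⁻¹ * t ∈ Nz H := by
  rw [Subgroup.mem_normalizer_iff]
  intro x
  have h1 := mem_conjS c H (t * x * t⁻¹)
  have h2 := mem_conjS t H (t * x * t⁻¹)
  rw [h] at h1
  have e1 : t⁻¹ * (t * x * t⁻¹) * t = x := by group
  have e2 : c⁻¹ * (t * x * t⁻¹) * c = c⁻¹ * t * x * (c⁻¹ * t)⁻¹ := by group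
  rw [e1] at h2
  rw [e2] at h1
  exact h2.symm.trans h1

theorem closure3B (h3 : St3 G) {P : Sylow 3 G} {k t : G} (hC : Ctx P k t) (y : G) (hy : y ∈ (P : Subgroup G)) (hty : (t * y) ^ 3 = 1) :
    t * (y * (k * y * k⁻¹)) * t⁻¹ ∈ Nz (P : Subgroup G) ∨ InD P t (t * (y * (k * y * k⁻¹)) * t⁻¹) := by
  have htt := a7rc1_tt hC
  have htinv := a7rc1_tinv hC
  have hD1 := a7rc1_rel htt hty
  have hk4 : k ^ 4 = 1 := by
    rw [← hC.hk4]; exact pow_orderOf_eq_one k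
  have htk : t * k = k⁻¹ * t := by
    have h := hC.htk
    calc t * k = t * k * t⁻¹ * t := by group
      _ = k⁻¹ * t := by rw [h]
  -- z := k y k⁻¹
  obtain ⟨z, hz⟩ : ∃ z : G, z = k * y * k⁻¹ := ⟨_, rfl⟩
  have hzP : z ∈ (P : Subgroup G) := by
    rw [hz]
    exact ((Subgroup.mem_normalizer_iff.mp hC.hk) y).mp hy
  have r1 : k * y = z * k := by rw [hz]; group
  have r2 : k * z = y⁻¹ * k := by
    have h := hC.inv y hy
    rw [pow_two] at h
    have : k * z * k⁻¹ = y⁻¹ := by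
      rw [← h, hz]
      group
    calc k * z = k * z * k⁻¹ * k := by group
      _ = y⁻¹ * k := by rw [this]
  have hcomm : ∀ a ∈ (P : Subgroup G), ∀ b ∈ (P : Subgroup G), a * b = b * a := by
    intro a ha b hb
    have hcs : a ∈ Cs (P : Subgroup G) := by rw [h3.centP P]; exact ha
    exact ((Subgroup.mem_centralizer_iff.mp hcs) b hb).symm
  have rc : y * z = z * y := hcomm y hy z hzP
  have hword := a7rc2_word htt hk4 htk r1 r2 rc hD1
  rw [htinv, ← hz]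
  -- b := t (y z) t
  obtain ⟨b, hb⟩ : ∃ b : G, b = t * (y * z) * t := ⟨_, rfl⟩
  rw [← hb] at hword ⊢
  -- ν := y z⁻¹,  n = z k = ν k ν⁻¹
  have hνP : y * z⁻¹ ∈ (P : Subgroup G) := Subgroup.mul_mem _ hy (Subgroup.inv_mem _ hzP)
  have hn : z * k = (y * z⁻¹) * k * (y * z⁻¹)⁻¹ := by
    -- ν k ν⁻¹ = y z⁻¹ (k z k⁻¹) (k y⁻¹ k⁻¹) k = y z⁻¹ y⁻¹ z⁻¹ k = z⁻² k = z k
    have hz3 : z ^ 3 = 1 := h3.expP P z hzP
    have e1 : k * z = y⁻¹ * k := r2
    have e2 : k * y⁻¹ = z⁻¹ * k := by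
      have : y⁻¹ = k⁻¹ * z⁻¹ * k := by
        calc y⁻¹ = (k⁻¹ * (k * y))⁻¹ := by group
          _ = (k⁻¹ * (z * k))⁻¹ := by rw [r1]
          _ = k⁻¹ * z⁻¹ * k := by group
      calc k * y⁻¹ = k * (k⁻¹ * z⁻¹ * k) := by rw [← this]
        _ = z⁻¹ * k := by group
    have hyz : y * z⁻¹ = z⁻¹ * y := hcomm y hy z⁻¹ (Subgroup.inv_mem _ hzP)
    have hzz : z⁻¹ * z⁻¹ = z := by
      have : z * z * z = 1 := by rw [← hz3]; simp only [pow_succ, pow_zero, one_mul]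
      calc z⁻¹ * z⁻¹ = z⁻¹ * z⁻¹ * (z * z * z) := by rw [this, mul_one]
        _ = z := by simp only [mul_assoc, inv_mul_cancel_left]
    calc z * k = (z⁻¹ * z⁻¹) * k := by rw [hzz]
      _ = y * (y⁻¹ * z⁻¹) * z⁻¹ * k := by group
      _ = y * (z⁻¹ * y⁻¹) * z⁻¹ * k := by
          rw [hcomm y⁻¹ (Subgroup.inv_mem _ hy) z⁻¹ (Subgroup.inv_mem _ hzP)]
      _ = y * z⁻¹ * (y⁻¹ * (z⁻¹ * k)) := by group
      _ = y * z⁻¹ * (y⁻¹ * (k * y⁻¹)) := by rw [e2]
      _ = y * z⁻¹ * ((y⁻¹ * k) * y⁻¹) := by group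
      _ = y * z⁻¹ * ((k * z) * y⁻¹) := by rw [e1]
      _ = (y * z⁻¹) * k * (z * y⁻¹) := by group
      _ = (y * z⁻¹) * k * (y * z⁻¹)⁻¹ := by group
  -- c := ν⁻¹ b;  c⁻¹ k c = y k⁻¹ ∈ N(P)
  obtain ⟨c, hc⟩ : ∃ c : G, c = (y * z⁻¹)⁻¹ * b := ⟨_, rfl⟩
  have hck : c⁻¹ * k * c = y * k⁻¹ := by
    rw [← hword, hn, hc]
    group
  have hmN : y * k⁻¹ ∈ Nz (P : Subgroup G) :=
    Subgroup.mul_mem _ (Subgroup.le_normalizer hy) (Subgroup.inv_mem _ hC.hk)
  have hkR : k ∈ Nz ((c • P : Sylow 3 G) : Subgroup G) := by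
    rw [Subgroup.mem_normalizer_iff]
    intro x
    rw [a7rc2_mem_smul, a7rc2_mem_smul]
    have e : c⁻¹ * (k * x * k⁻¹) * c = (y * k⁻¹) * (c⁻¹ * x * c) * (y * k⁻¹)⁻¹ := by
      rw [← hck]; group
    rw [e]
    exact (Subgroup.mem_normalizer_iff.mp hmN) (c⁻¹ * x * c)
  have hbc : b = (y * z⁻¹) * c := by rw [hc]; group
  rcases hC.fixK (c • P) hkR with h | h
  · left
    rw [a7rc2_smul_eq_conjS] at h
    have hcN := a7rc2_conjS_self h
    rw [hbc]
    exact Subgroup.mul_mem _ (Subgroup.le_normalizer hνP) hcN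
  · right
    rw [a7rc2_smul_eq_conjS] at h
    have hg := a7rc2_conjS_eq h
    refine ⟨y * z⁻¹, Subgroup.le_normalizer hνP, (c⁻¹ * t)⁻¹, Subgroup.inv_mem _ hg, ?_⟩
    rw [hbc]
    group

end Cfsg.Agent.Lib.helper8.A7R
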