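import Mathlib
import Cfsg.Agent.Lib.helper8.A7R.Defs
import Cfsg.Agent.Lib.Helper20.A7RB17
import Cfsg.Agent.Lib.Helper20.A7RB20
import Cfsg.Agent.Lib.Helper21.A7RB07
import Cfsg.Agent.Lib.Helper21.A7RB09c
import Cfsg.Agent.Lib.Helper21.A7RH3a
import Cfsg.Agent.Lib.Helper21.A7RH4
import Cfsg.Agent.Lib.Helper24.A7RB04
import Cfsg.Agent.Lib.Helper24.A7RB05
import Cfsg.Agent.Lib.Helper24.A7RB14
import Cfsg.Agent.Lib.Helper24.A7RB15
import Cfsg.Agent.Lib.Helper24.A7RB16
import Cfsg.Agent.Lib.Helper25.A7RB11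
import Cfsg.Agent.Lib.Helper25.A7RB19
import Cfsg.Agent.Lib.Helper25.A7RB24
import Cfsg.Agent.Lib.Helper25.A7RF2
import Cfsg.Agent.Lib.Helper25.A7RH2
import Cfsg.Agent.Lib.Helper25.A7RH3b
import Cfsg.Agent.Lib.Helper25.A7RH6
import Cfsg.Agent.Lib.Helper26.A7RB26
import Cfsg.Agent.Lib.Helper27.A7RB06
import Cfsg.Agent.Lib.Helper27.A7RB08
import Cfsg.Agent.Lib.Helper27.A7RC3
import Cfsg.Agent.Lib.Helper27.A7RF1
import Cfsg.Agent.Lib.Helper28.A7RA03
import Cfsg.Agent.Lib.Helper28.A7RA08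
import Cfsg.Agent.Lib.Helper28.A7RB25
import Cfsg.Agent.Lib.Helper29.A7RA01
import Cfsg.Agent.Lib.Helper29.A7RA04b
import Cfsg.Agent.Lib.Helper29.A7RA05
import Cfsg.Agent.Lib.Helper29.A7RA06
import Cfsg.Agent.Lib.Helper29.A7RA09
import Cfsg.Agent.Lib.Helper29.A7RB09d
import Cfsg.Agent.Lib.Helper29.A7RB10
import Cfsg.Agent.Lib.Helper5.A7RA04
import Cfsg.Agent.Lib.Helper5.A7RB00
import Cfsg.Agent.Lib.Helper5.A7RB02
import Cfsg.Agent.Lib.Helper5.A7RH5
import Cfsg.Agent.Lib.Helper9.A7RB01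
import Cfsg.Agent.Lib.Helper9.A7RB03
import Cfsg.Agent.Lib.helper14.A7RB12
import Cfsg.Agent.Lib.helper14.A7RB13
import Cfsg.Agent.Lib.helper14.A7RB22
import Cfsg.Agent.Lib.helper14.A7RB23
import Cfsg.Agent.Lib.helper15.A7RB09a
import Cfsg.Agent.Lib.helper17.A7RB18
import Cfsg.Agent.Lib.helper17.A7RB21
import Cfsg.Agent.Lib.helper2.A7RB09b
import Cfsg.Agent.Lib.helper4.A7RH3
import Cfsg.Agent.Lib.helper4.A7RH4a
import Cfsg.Agent.Lib.helper8.A7RC1
import Cfsg.Agent.Lib.helper8.A7RC2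
import Cfsg.Agent.Lib.helper8.SimpleEmbed

set_option autoImplicit false

/-!
# Project A7R (designer helper8): MAIN chain for S0984: a simple group of order 2520 is isomorphic to `A_7`.
`std_false : Std G → False` (local analysis, Part B rows; construction of a subgroup of index 7, Part A rows),
`main : Nat.card G = 2520 → Nonempty (G ≃* alternatingGroup (Fin 7))`.
-/

namespace Cfsg.Agent.Lib.helper8.A7R

universe u

variable {G : Type u} [Group G]

/-- stage 1 -/
theorem main_st1 (hS : Std G) (hinv : InvC8 G) : St1 G := by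
  have h36 : Nat.card (Sylow 7 G) ≠ 36 := by
    intro h
    obtain ⟨u, hu, hc⟩ := n7_36_inv hS h
    have h8 := hinv u hu
    rw [hc] at h8
    omega
  exact stage1 hS (n7_ne_8 hS) (n7_ne_15 hS) h36

/-- stage 2 -/
theorem main_st2 (hS : Std G) (h1 : St1 G) : St2 G := by
  obtain ⟨s5, n15, n20, c5⟩ := stage2_five hS h1
  exact ⟨s5, n15, n20, c5, stage2_three hS h1 n15⟩

/-- stage 3 -/
theorem main_st3 (hS : Std G) (h1 : St1 G) (h2 : St2 G) (hinv : InvC8 G) : St3 G := by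
  have hc := centP hS h1 h2 hinv
  have he : ∀ P : Sylow 3 G, ∀ x ∈ (P : Subgroup G), x ^ 3 = 1 := fun P x hx => expP hS h2 hc P x hx
  have hf : ∀ P : Sylow 3 G, ∃ k ∈ Nz (P : Subgroup G), orderOf k = 4 := by
    by_contra hcon
    rw [not_forall] at hcon
    obtain ⟨P, hP⟩ := hcon
    have hno : ∀ k ∈ Nz (P : Subgroup G), orderOf k ≠ 4 := fun k hk h4 => hP ⟨k, hk, h4⟩
    refine klein_count hS h1 h2 hc he (fun P' => ?_)
    have hno' := no4_conj hS P hno P'
    obtain ⟨a, b, x, x', ha, hb, ha2, hb2, hx, hx', hx3, hx'3, hxx', hax, hbx', hN, hN'⟩ :=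
      klein_struct hS h1 h2 hc he P' hno'
    exact ⟨a, b, x, x', ha, hb, ha2, hb2, hx, hx', hx3, hx'3, hxx', hax, hbx', hN, hN',
      klein_cent hS h1 h2 hinv hc he P' hno' a x ha ha2 hx hx3 hax hN⟩
  exact ⟨hc, he, hf, fun x hx => (cent_three hS h1 h2 hc he hf x hx).1,
    fun x hx => (cent_three hS h1 h2 hc he hf x hx.1).2 hx⟩

/-- stage 4 -/
theorem main_st4 (hS : Std G) (h1 : St1 G) (h2 : St2 G) (h3 : St3 G) (hinv : InvC8 G) : St4 G := by
  have hord := orders hS h1 h2 h3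
  have hsum := sum_cent_three hS h1 h2 h3
  have h36 := cnt_three_six hS h3 hsum
  have h10 : cnt G 10 = 0 ∨ cnt G 10 = 504 := by
    rcases cnt_ten hS h1 h2 with h | h
    · exact Or.inl h.2
    · exact Or.inr h.2
  have hT := cnt_two hS h1 h2 hord h36 h10
  have hno8 := no_eight hS
  have hd8 : ∀ S : Sylow 2 G, IsD8 (S : Subgroup G) := fun S =>
    syl2_dihedral hS S (has_four hS h1 h2 h3 hno8 hT h10 S)
      (fun r hr hr4 => syl2_nonab hS hno8 S r hr hr4)
      (two_involutions hS h1 h2 h3 hno8 hT S)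
  have h5 := selfc_five hS h1 h2 h3 hinv hno8 hd8
  have hconj := inv_conj hS hd8
  have h24 := inv_cent24 hS h1 h2 h3 hinv hno8 hd8 h5 hconj hT
  have hi3 := inv_three hS h1 h2 h3 hconj h24
  exact ⟨h5, hd8, hconj, h24, hi3, cent_four hS h3 hd8 hord h24 hi3, cls_three hS h1 h2 h3 hconj h24 hi3⟩

/-- the context exists -/
theorem main_ctx (hS : Std G) (h2 : St2 G) (h3 : St3 G) (h4 : St4 G) :
    ∃ P : Sylow 3 G, ∃ k t : G, Ctx P k t := by
  have := hS.finite
  have : Fact (Nat.Prime 3) := ⟨by norm_num⟩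
  obtain ⟨P⟩ : Nonempty (Sylow 3 G) := inferInstance
  obtain ⟨k, hk, hk4⟩ := h3.frobP P
  obtain ⟨hinv, hnofix, hprod, hcardN⟩ := frob_struct hS h2 h3 P k hk hk4
  obtain ⟨hcardNK, ⟨t, ht, htK⟩, hall⟩ := NK_struct hS h4 k hk4
  obtain ⟨ht2, htk⟩ := hall t ht htK
  have htP := t_notin_NP hS P k t hk hk4 hcardN ht htK ht2 htk hcardNK
  exact ⟨P, k, t, ⟨hk, hk4, hinv, hnofix, hprod, hcardN, ht, htK, ht2, htk, htP, hcardNK,
    fixK hS h2 h3 P k t hk hk4 hinv hnofix hprod hcardN ht htK hcardNK,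
    inter hS h3 P k t hk hk4 hnofix hprod ht htP⟩⟩

/-- the relation `(t y)^3 = 1` -/
theorem main_rel (hS : Std G) (h2 : St2 G) (h3 : St3 G) (h4 : St4 G) :
    ∃ P : Sylow 3 G, ∃ k t : G, Ctx P k t ∧ ∃ y ∈ (P : Subgroup G), y ≠ 1 ∧ (t * y) ^ 3 = 1 := by
  obtain ⟨P, k, t0, hC0⟩ := main_ctx hS h2 h3 h4
  obtain ⟨xj, w, V, hH⟩ := hex_exists hS h3 h4 k hC0.hk4
  obtain ⟨t, hC, htV⟩ := t_choice hC0 hH (fun t' h1 h2 => ctx_change hC0 t' h1 h2)
  refine ⟨P, k, t, hC, ?_⟩
  exact hex_concl hS h3 h4 hC hH htV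
    (fun R hR => Pn_all hC hH (fun R hR => jinv_conj hS hC R hR) (fun c hc => Cj_elems hC.hk4 hH c hc) R hR)
    (fun n m hnm => t_act hS h4 hC hH htV n m hnm)
    (Xt_in hS h3 h4 hC hH htV)
    (fun y x t hy hx hx3 hxy ht ht2 => A4_rel hS h3 h4 y x t hy hx hx3 hxy ht ht2)
    (fun x hx hx' => PQ_triv hC x hx hx')

/-- the contradiction: a simple group of order 2520 has a subgroup of index 7 -/
theorem std_false (hS : Std G) : False := by
  have hinv := inv_cent hS
  have h1 := main_st1 hS hinv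
  have h2 := main_st2 hS h1
  have h3 := main_st3 hS h1 h2 hinv
  have h4 := main_st4 hS h1 h2 h3 hinv
  obtain ⟨P, k, t, hC, y, hy, hy1, hty⟩ := main_rel hS h2 h3 h4
  have hcl : ∀ x ∈ (P : Subgroup G), t * x * t⁻¹ ∈ Nz (P : Subgroup G) ∨ InD P t (t * x * t⁻¹) := by
    intro x hx
    by_cases hx1 : x = 1
    · left
      rw [hx1, mul_one, mul_inv_cancel]
      exact Subgroup.one_mem _
    · obtain ⟨i, h | h⟩ := orbit_decomp hS h3 hC y hy hy1 x hx hx1
      · rw [h]
        exact closure_conj hC y (Or.inr (closure3A hC y hy hty)) i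
      · rw [h]
        exact closure_conj hC _ (closure3B h3 hC y hy hty) i
  obtain ⟨H, hH⟩ := subgroup_exists hC hcl
  have hcard := card_H hS hC H hH
  have := hS.finite
  have hidx : H.index = 7 := by
    have h := H.card_mul_index
    rw [hcard, hS.card] at h
    omega
  exact hS.no7 H hidx

/-- S0984: a simple group of order 2520 is isomorphic to `A_7` -/
theorem main {G : Type u} [Group G] [Finite G] [IsSimpleGroup G] (h : Nat.card G = 2520) :
    Nonempty (G ≃* alternatingGroup (Fin 7)) := by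
  classical
  have hnc : ¬ IsMulCommutative G := Cfsg.Agent.Lib.helper8.h8_not_comm_of_card (by rw [h]; norm_num)
  by_cases h7 : ∃ H : Subgroup G, H.index = 7
  · obtain ⟨H, hH⟩ := h7
    have hHtop : H ≠ ⊤ := by
      intro htop
      rw [htop, Subgroup.index_top] at hH
      omega
    have hex : ∃ f : G →* ↥(alternatingGroup (Fin 7)), Function.Injective f := by
      have h0 := Cfsg.Agent.Lib.helper8.h8_simple_embeds_alternating hnc H hHtop
      rw [hH] at h0
      exact h0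
    obtain ⟨f, hf⟩ := hex
    have hcardA : Nat.card (alternatingGroup (Fin 7)) = 2520 := by
      have h2 := two_mul_card_alternatingGroup (α := Fin 7)
      rw [Nat.card_eq_fintype_card]
      simp only [Fintype.card_perm, Fintype.card_fin] at h2
      have : (7 : ℕ).factorial = 5040 := by decide
      omega
    have hbij : Function.Bijective f := by
      rw [Nat.bijective_iff_injective_and_card]
      exact ⟨hf, by rw [h, hcardA]⟩
    exact ⟨MulEquiv.ofBijective f hbij⟩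
  · exfalso
    exact std_false (G := G) ⟨h, inferInstance, fun H hH => h7 ⟨H, hH⟩⟩

end Cfsg.Agent.Lib.helper8.A7R
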