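import Cfsg.Agent.Lib.helper8.BTTSTAB

/-!
Project BGL row BT1 (requested by helper10): the BTT row STAB for TWO optimal pairs of the same subgroup `V`.
If `(g, L, R)` is an optimal pair of `V` (`hfil`, `hopt`, `L` dominant of norm 1) and `(g', L')` is a second pair with
`g'⁻¹ V g' ⊆ Fil (lvl D L') R` for the SAME `R` (`L'` dominant of norm 1), then `y = g⁻¹ g'` carries `FilP (lvl D L')`
into `FilP (lvl D L)`.  (Proof = STAB with `y = g⁻¹ g' = b n u` instead of `g⁻¹ x g`.)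
Also `bglbt1_stab_two_lev`: the intermediate statement `L = n • L'` in the form of a `Lev` witness.
-/

set_option autoImplicit false

namespace Cfsg.Agent.Lib.helper8.BTT

open Cfsg.Lie Cfsg.Lie.ChevalleyDatum

universe u

section grp
variable {F : Type u} [Field F] (D : ChevalleyDatum)

/-- BT1, full form: the Bruhat factors of `g⁻¹ g'` and the equality `L = n • L'`. -/
theorem bglbt1_stab_two_lev (hD : D ∈ [chevG2, chevB2, chevD4, chevF4, chevE6, chevE7, chevE8])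
    [Fintype F]
    (V : Subgroup (GL D.Idx F))
    (g : GL D.Idx F) (hg : g ∈ D.group F) (L : Fin D.nroots → ℝ) (hL : L ∈ levE D) (R : ℝ)
    (hR : 0 < R) (hn : nsq L = 1) (hdom : Dom D L)
    (hfil : ∀ v ∈ V, Fil (lvl D L) R ((g⁻¹ * v * g : GL D.Idx F) : Matrix D.Idx D.Idx F))
    (hopt : ∀ g' ∈ D.group F, ∀ L' ∈ levE D, ∀ c : ℝ,
        (∀ v ∈ V, Fil (lvl D L') c ((g'⁻¹ * v * g' : GL D.Idx F) : Matrix D.Idx D.Idx F)) →
        c ≤ R * Real.sqrt (nsq L'))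
    (g' : GL D.Idx F) (hg' : g' ∈ D.group F) (L' : Fin D.nroots → ℝ) (hL' : L' ∈ levE D)
    (hn' : nsq L' = 1) (hdom' : Dom D L')
    (hfil' : ∀ v ∈ V, Fil (lvl D L') R ((g'⁻¹ * v * g' : GL D.Idx F) : Matrix D.Idx D.Idx F)) :
    ∃ b ∈ D.borelSubgroup F, ∃ n ∈ D.monomialSubgroup F, ∃ u ∈ D.posUnipotent F,
      g⁻¹ * g' = b * n * u ∧ Lev (lvl D L') (lvl D L) (n : Matrix D.Idx D.Idx F) := by
  have hB := h8base_all.{u} D hD
  have hyG : g⁻¹ * g' ∈ D.group F := (D.group F).mul_mem ((D.group F).inv_mem hg) hg'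
  obtain ⟨b, hb, n, hnN, u, hu, hy⟩ := (Cfsg.Agent.S1100.result (F := F) D hD).1 _ hyG
  have huU : u ∈ D.posUnipotent F := by
    revert hu
    apply Subgroup.closure_mono
    rintro z ⟨r, t, hr, _, hz⟩
    exact ⟨r, t, hr, hz⟩
  have hbPar : Par (lvl D L) (b : Matrix D.Idx D.Idx F) := B_par D hD L hL hdom b hb
  have hbiPar : Par (lvl D L) ((b⁻¹ : GL D.Idx F) : Matrix D.Idx D.Idx F) := par_inv _ b hbPar
  have huPar : Par (lvl D L') (u : Matrix D.Idx D.Idx F) :=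
    B_par D hD L' hL' hdom' u (h8U_le_B D huU)
  obtain ⟨L'', hL'', hnsq, hlev⟩ := N_lev D hD n hnN L' hL'
  have hkey : ∀ v ∈ V, Fil (lvl D (L + L'')) (R + R)
      (((g * b)⁻¹ * v * (g * b) : GL D.Idx F) : Matrix D.Idx D.Idx F) := by
    intro v hv
    have hw := hfil' v hv
    have hv1 := hfil v hv
    have e1 : (g * b)⁻¹ * v * (g * b) = b⁻¹ * (g⁻¹ * v * g) * (b⁻¹)⁻¹ := by group
    have e2 : (g * b)⁻¹ * v * (g * b) =
        n * (u * (g'⁻¹ * v * g') * u⁻¹) * n⁻¹ := by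
      have : b⁻¹ * (g⁻¹ * g') = n * u := by rw [hy]; group
      calc (g * b)⁻¹ * v * (g * b)
          = (b⁻¹ * (g⁻¹ * g')) * (g'⁻¹ * v * g') * (b⁻¹ * (g⁻¹ * g'))⁻¹ := by group
        _ = n * (u * (g'⁻¹ * v * g') * u⁻¹) * n⁻¹ := by rw [this]; group
    have ha : Fil (lvl D L) R (((g * b)⁻¹ * v * (g * b) : GL D.Idx F) : Matrix D.Idx D.Idx F) := by
      rw [e1]
      exact par_conj_fil _ R _ _ hbiPar hv1
    have hb' : Fil (lvl D L'') R (((g * b)⁻¹ * v * (g * b) : GL D.Idx F) : Matrix D.Idx D.Idx F) := by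
      rw [e2]
      exact lev_conj_fil _ _ R n _ hlev (par_conj_fil _ R _ _ huPar hw)
    rw [lvl_add]
    exact fil_add _ _ R R _ ha hb'
  have hgb : g * b ∈ D.group F := (D.group F).mul_mem hg (h8_B_le_group D hB hb)
  have h4 := hopt (g * b) hgb (L + L'') ((levE D).add_mem hL hL'') (R + R) hkey
  have h5 : 4 ≤ nsq (L + L'') := bttstab_sqrt hR h4
  have hLL : L = L'' := nsq_eq_of_add L L'' hn (by rw [hnsq, hn']) h5
  rw [← hLL] at hlev
  exact ⟨b, hb, n, hnN, u, huU, hy, hlev⟩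

/-- BT1 (as requested): `y = g⁻¹ g'` carries `FilP (lvl D L')` into `FilP (lvl D L)`. -/
theorem bglbt1_stab_two (hD : D ∈ [chevG2, chevB2, chevD4, chevF4, chevE6, chevE7, chevE8])
    [Fintype F]
    (V : Subgroup (GL D.Idx F))
    (g : GL D.Idx F) (hg : g ∈ D.group F) (L : Fin D.nroots → ℝ) (hL : L ∈ levE D) (R : ℝ)
    (hR : 0 < R) (hn : nsq L = 1) (hdom : Dom D L)
    (hfil : ∀ v ∈ V, Fil (lvl D L) R ((g⁻¹ * v * g : GL D.Idx F) : Matrix D.Idx D.Idx F))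
    (hopt : ∀ g' ∈ D.group F, ∀ L' ∈ levE D, ∀ c : ℝ,
        (∀ v ∈ V, Fil (lvl D L') c ((g'⁻¹ * v * g' : GL D.Idx F) : Matrix D.Idx D.Idx F)) →
        c ≤ R * Real.sqrt (nsq L'))
    (g' : GL D.Idx F) (hg' : g' ∈ D.group F) (L' : Fin D.nroots → ℝ) (hL' : L' ∈ levE D)
    (hn' : nsq L' = 1) (hdom' : Dom D L')
    (hfil' : ∀ v ∈ V, Fil (lvl D L') R ((g'⁻¹ * v * g' : GL D.Idx F) : Matrix D.Idx D.Idx F))
    (q : GL D.Idx F) (hq : FilP (lvl D L') (q : Matrix D.Idx D.Idx F)) :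
    FilP (lvl D L) (((g⁻¹ * g') * q * (g⁻¹ * g')⁻¹ : GL D.Idx F) : Matrix D.Idx D.Idx F) := by
  obtain ⟨b, hb, n, hnN, u, huU, hy, hlev⟩ :=
    bglbt1_stab_two_lev D hD V g hg L hL R hR hn hdom hfil hopt g' hg' L' hL' hn' hdom' hfil'
  have hbPar : Par (lvl D L) (b : Matrix D.Idx D.Idx F) := B_par D hD L hL hdom b hb
  have huPar : Par (lvl D L') (u : Matrix D.Idx D.Idx F) :=
    B_par D hD L' hL' hdom' u (h8U_le_B D huU)
  have e3 : (g⁻¹ * g') * q * (g⁻¹ * g')⁻¹ = b * (n * (u * q * u⁻¹) * n⁻¹) * b⁻¹ := by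
    rw [hy]; group
  rw [e3]
  exact par_conj_filP _ _ _ hbPar (lev_conj_filP _ _ n _ hlev (par_conj_filP _ _ _ huPar hq))

/-- BT1, symmetric form: if both pairs are optimal then `q ↦ y q y⁻¹`, `y = g⁻¹ g'`, matches `FilP (lvl D L')` with
`FilP (lvl D L)`; equivalently `g' q' g'⁻¹` with `q' ∈ FilP L'` are exactly the `g q g⁻¹` with `q ∈ FilP L`. -/
theorem bglbt1_filP_iff (hD : D ∈ [chevG2, chevB2, chevD4, chevF4, chevE6, chevE7, chevE8])
    [Fintype F]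
    (V : Subgroup (GL D.Idx F))
    (g : GL D.Idx F) (hg : g ∈ D.group F) (L : Fin D.nroots → ℝ) (hL : L ∈ levE D) (R : ℝ)
    (hR : 0 < R) (hn : nsq L = 1) (hdom : Dom D L)
    (hfil : ∀ v ∈ V, Fil (lvl D L) R ((g⁻¹ * v * g : GL D.Idx F) : Matrix D.Idx D.Idx F))
    (hopt : ∀ g' ∈ D.group F, ∀ L' ∈ levE D, ∀ c : ℝ,
        (∀ v ∈ V, Fil (lvl D L') c ((g'⁻¹ * v * g' : GL D.Idx F) : Matrix D.Idx D.Idx F)) →
        c ≤ R * Real.sqrt (nsq L'))
    (g' : GL D.Idx F) (hg' : g' ∈ D.group F) (L' : Fin D.nroots → ℝ) (hL' : L' ∈ levE D)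
    (hn' : nsq L' = 1) (hdom' : Dom D L')
    (hfil' : ∀ v ∈ V, Fil (lvl D L') R ((g'⁻¹ * v * g' : GL D.Idx F) : Matrix D.Idx D.Idx F))
    (x : GL D.Idx F) :
    FilP (lvl D L') ((g'⁻¹ * x * g' : GL D.Idx F) : Matrix D.Idx D.Idx F) ↔
      FilP (lvl D L) ((g⁻¹ * x * g : GL D.Idx F) : Matrix D.Idx D.Idx F) := by
  constructor
  · intro h
    have := bglbt1_stab_two D hD V g hg L hL R hR hn hdom hfil hopt g' hg' L' hL' hn' hdom' hfil'
      (g'⁻¹ * x * g') h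
    have e : (g⁻¹ * g') * (g'⁻¹ * x * g') * (g⁻¹ * g')⁻¹ = g⁻¹ * x * g := by group
    rwa [e] at this
  · intro h
    have := bglbt1_stab_two D hD V g' hg' L' hL' R hR hn' hdom' hfil' hopt g hg L hL hn hdom hfil
      (g⁻¹ * x * g) h
    have e : (g'⁻¹ * g) * (g⁻¹ * x * g) * (g'⁻¹ * g)⁻¹ = g'⁻¹ * x * g' := by group
    rwa [e] at this

end grp

end Cfsg.Agent.Lib.helper8.BTT
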