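import Cfsg.Agent.Lib.helper8.BTT.Defs
import Cfsg.Agent.Lib.helper6.BTTOPT1
import Cfsg.Agent.Lib.helper8.BTTROOT2
import Cfsg.Agent.Lib.Helper18.BTTGRP7
import Cfsg.Agent.Lib.Helper18.BTTGRP9
import Cfsg.Agent.Lib.Helper29.BTTGEN8
import Cfsg.Agent.Lib.Helper29.BTTROOT0
import Cfsg.Agent.Lib.helper6.BTTGEN10

/-!
Project BTT row OPT2: existence of an optimal pair `(g, L)`.
-/

set_option autoImplicit false

namespace Cfsg.Agent.Lib.helper8.BTT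

open Cfsg.Lie Cfsg.Lie.ChevalleyDatum

universe u

section grp
variable {F : Type u} [Field F] (D : ChevalleyDatum)

/-- the pairs `(i, j)` at which some `g⁻¹ v g - 1`, `v ∈ V`, does not vanish -/
noncomputable def bttopt2_T (V : Subgroup (GL D.Idx F)) (g : GL D.Idx F) : Finset (D.Idx × D.Idx) :=
  @Finset.filter _ (fun ij : D.Idx × D.Idx =>
    ∃ v ∈ V, (((g⁻¹ * v * g : GL D.Idx F) : Matrix D.Idx D.Idx F) - 1) ij.1 ij.2 ≠ 0)
    (Classical.decPred _) Finset.univ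

theorem bttopt2_mem_T (V : Subgroup (GL D.Idx F)) (g : GL D.Idx F) (ij : D.Idx × D.Idx) :
    ij ∈ bttopt2_T D V g ↔
      ∃ v ∈ V, (((g⁻¹ * v * g : GL D.Idx F) : Matrix D.Idx D.Idx F) - 1) ij.1 ij.2 ≠ 0 := by
  unfold bttopt2_T
  rw [@Finset.mem_filter _ _ (Classical.decPred _)]
  simp only [Finset.mem_univ, true_and]

theorem bttopt2_exists_ne (V : Subgroup (GL D.Idx F)) (hne : V ≠ ⊥) : ∃ v ∈ V, v ≠ 1 := by
  by_contra h
  apply hne
  rw [Subgroup.eq_bot_iff_forall]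
  intro v hv
  by_contra hv1
  exact h ⟨v, hv, hv1⟩

theorem bttopt2_T_nonempty (V : Subgroup (GL D.Idx F)) (hne : V ≠ ⊥) (g : GL D.Idx F) :
    (bttopt2_T D V g).Nonempty := by
  obtain ⟨v, hv, hv1⟩ := bttopt2_exists_ne D V hne
  have h1 : (g⁻¹ * v * g : GL D.Idx F) ≠ 1 := by
    intro h
    apply hv1
    have : v = g * (g⁻¹ * v * g) * g⁻¹ := by group
    rw [this, h]
    group
  have h2 : ((g⁻¹ * v * g : GL D.Idx F) : Matrix D.Idx D.Idx F) - 1 ≠ 0 := by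
    intro h
    apply h1
    apply Units.ext
    rw [sub_eq_zero] at h
    rw [h]
    rfl
  have h3 : ∃ i j, (((g⁻¹ * v * g : GL D.Idx F) : Matrix D.Idx D.Idx F) - 1) i j ≠ 0 := by
    by_contra h
    apply h2
    ext i j
    by_contra hij
    exact h ⟨i, j, hij⟩
  obtain ⟨i, j, hij⟩ := h3
  exact ⟨(i, j), (bttopt2_mem_T D V g (i, j)).2 ⟨v, hv, hij⟩⟩

/-- the optimal constant of `g⁻¹ V g` for the grading of `L` -/
noncomputable def bttopt2_m (V : Subgroup (GL D.Idx F)) (hne : V ≠ ⊥) (g : GL D.Idx F)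
    (L : Fin D.nroots → ℝ) : ℝ :=
  (bttopt2_T D V g).inf' (bttopt2_T_nonempty D V hne g) fun ij => lvl D L ij.1 - lvl D L ij.2

theorem bttopt2_le_m (V : Subgroup (GL D.Idx F)) (hne : V ≠ ⊥) (g : GL D.Idx F)
    (L : Fin D.nroots → ℝ) (c : ℝ) :
    (∀ v ∈ V, Fil (lvl D L) c ((g⁻¹ * v * g : GL D.Idx F) : Matrix D.Idx D.Idx F)) ↔
      c ≤ bttopt2_m D V hne g L := by
  unfold bttopt2_m
  rw [Finset.le_inf'_iff]
  constructor
  · intro h ij hij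
    obtain ⟨v, hv, hne'⟩ := (bttopt2_mem_T D V g ij).1 hij
    have := h v hv ij.1 ij.2 hne'
    linarith
  · intro h v hv i j hij
    have := h (i, j) ((bttopt2_mem_T D V g (i, j)).2 ⟨v, hv, hij⟩)
    simp only at this
    linarith

theorem bttopt2_lvl_cont (i : D.Idx) : Continuous fun L : Fin D.nroots → ℝ => lvl D L i := by
  rcases i with i | r
  · exact continuous_const
  · exact continuous_apply r

theorem bttopt2_m_cont (V : Subgroup (GL D.Idx F)) (hne : V ≠ ⊥) (g : GL D.Idx F) :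
    Continuous (bttopt2_m D V hne g) := by
  unfold bttopt2_m
  apply Continuous.finset_inf'_apply
  intro ij _
  exact (bttopt2_lvl_cont D ij.1).sub (bttopt2_lvl_cont D ij.2)

/-- normalisation of a non-zero level function -/
theorem bttopt2_normalize (L : Fin D.nroots → ℝ) (hL : L ∈ levE D) (h0 : L ≠ 0) :
    0 < Real.sqrt (nsq L) ∧ (Real.sqrt (nsq L))⁻¹ • L ∈ levE D ∧
      nsq ((Real.sqrt (nsq L))⁻¹ • L) = 1 := by
  have hnn : 0 ≤ nsq L := by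
    unfold nsq
    exact Finset.sum_nonneg fun r _ => sq_nonneg _
  have hpos : 0 < nsq L := by
    rcases hnn.lt_or_eq with h | h
    · exact h
    · exact absurd (nsq_eq_zero L h.symm) h0
  have hs : 0 < Real.sqrt (nsq L) := Real.sqrt_pos.2 hpos
  refine ⟨hs, (levE D).smul_mem _ hL, ?_⟩
  rw [nsq_smul, inv_pow, Real.sq_sqrt hnn, inv_mul_cancel₀ hpos.ne']

theorem bttopt2_fil_normalize (L : Fin D.nroots → ℝ) (c : ℝ) (M : Matrix D.Idx D.Idx F)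
    (h : Fil (lvl D L) c M) (s : ℝ) (hs : 0 < s) : Fil (lvl D (s⁻¹ • L)) (s⁻¹ * c) M := by
  rw [lvl_smul]
  exact fil_smul _ _ _ (inv_nonneg.2 hs.le) M h

theorem bttopt2_ne_zero_of_fil (V : Subgroup (GL D.Idx F)) (hne : V ≠ ⊥) (g : GL D.Idx F)
    (L : Fin D.nroots → ℝ) (c : ℝ) (hc : 0 < c)
    (h : ∀ v ∈ V, Fil (lvl D L) c ((g⁻¹ * v * g : GL D.Idx F) : Matrix D.Idx D.Idx F)) :
    L ≠ 0 := by
  intro hL0
  obtain ⟨ij, hij⟩ := bttopt2_T_nonempty D V hne g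
  obtain ⟨v, hv, hne'⟩ := (bttopt2_mem_T D V g ij).1 hij
  have h1 := h v hv
  rw [hL0, lvl_zero] at h1
  have h2 := fil_zero_eq_one c hc _ h1
  apply hne'
  rw [h2, sub_self]
  rfl

/-- OPT2 [M-H]: existence of an optimal pair. -/
theorem opt_pair0 (hD : D ∈ [chevG2, chevB2, chevD4, chevF4, chevE6, chevE7, chevE8])
    [Fintype F] (p : ℕ) [Fact p.Prime] [CharP F p]
    (V : Subgroup (GL D.Idx F)) (hVG : V ≤ D.group F) (hV : IsPGroup p V) (hne : V ≠ ⊥) :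
    ∃ g ∈ D.group F, ∃ L ∈ levE D, ∃ R : ℝ, 0 < R ∧ nsq L = 1 ∧
      (∀ v ∈ V, Fil (lvl D L) R ((g⁻¹ * v * g : GL D.Idx F) : Matrix D.Idx D.Idx F)) ∧
      ∀ g' ∈ D.group F, ∀ L' ∈ levE D, ∀ c : ℝ,
        (∀ v ∈ V, Fil (lvl D L') c ((g'⁻¹ * v * g' : GL D.Idx F) : Matrix D.Idx D.Idx F)) →
        c ≤ R * Real.sqrt (nsq L') := by
  -- a starting pair
  obtain ⟨h, hhG, hh⟩ := exists_conj_le_U D hD p V hVG hV
  obtain ⟨L₀, hL₀, hpos⟩ := exists_height D hD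
  have hfil0 : ∀ v ∈ V, Fil (lvl D L₀) 1 ((h⁻¹ * v * h : GL D.Idx F) : Matrix D.Idx D.Idx F) :=
    fun v hv => U_fil D hD L₀ hL₀ hpos _ (hh v hv)
  have hL₀ne : L₀ ≠ 0 := bttopt2_ne_zero_of_fil D V hne h L₀ 1 one_pos hfil0
  -- the maximiser
  have : Nonempty ↥(D.group F) := ⟨1⟩
  obtain ⟨g, L, hL, hn, hmax⟩ := opt_exists (levE D) ⟨L₀, hL₀, hL₀ne⟩
    (fun g : ↥(D.group F) => bttopt2_m D V hne (g : GL D.Idx F))
    (fun g => bttopt2_m_cont D V hne (g : GL D.Idx F))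
  have hRpos : 0 < bttopt2_m D V hne (g : GL D.Idx F) L := by
    obtain ⟨hs, hmem, hn1⟩ := bttopt2_normalize D L₀ hL₀ hL₀ne
    have h1 : ∀ v ∈ V, Fil (lvl D ((Real.sqrt (nsq L₀))⁻¹ • L₀)) ((Real.sqrt (nsq L₀))⁻¹ * 1)
        ((h⁻¹ * v * h : GL D.Idx F) : Matrix D.Idx D.Idx F) :=
      fun v hv => bttopt2_fil_normalize D L₀ 1 _ (hfil0 v hv) _ hs
    have h2 := (bttopt2_le_m D V hne h _ _).1 h1
    have h3 := hmax ⟨h, hhG⟩ _ hmem hn1
    have h4 : 0 < (Real.sqrt (nsq L₀))⁻¹ * 1 := by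
      rw [mul_one]
      exact inv_pos.2 hs
    linarith
  refine ⟨g, g.2, L, hL, bttopt2_m D V hne (g : GL D.Idx F) L, hRpos, hn, ?_, ?_⟩
  · exact (bttopt2_le_m D V hne g L _).2 le_rfl
  · intro g' hg' L' hL' c hc
    by_cases hc0 : c ≤ 0
    · have : 0 ≤ bttopt2_m D V hne (g : GL D.Idx F) L * Real.sqrt (nsq L') :=
        mul_nonneg hRpos.le (Real.sqrt_nonneg _)
      linarith
    · have hcpos : 0 < c := lt_of_not_ge hc0
      have hL'ne : L' ≠ 0 := bttopt2_ne_zero_of_fil D V hne g' L' c hcpos hc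
      obtain ⟨hs, hmem, hn1⟩ := bttopt2_normalize D L' hL' hL'ne
      have h1 : ∀ v ∈ V, Fil (lvl D ((Real.sqrt (nsq L'))⁻¹ • L')) ((Real.sqrt (nsq L'))⁻¹ * c)
          ((g'⁻¹ * v * g' : GL D.Idx F) : Matrix D.Idx D.Idx F) :=
        fun v hv => bttopt2_fil_normalize D L' c _ (hc v hv) _ hs
      have h2 := (bttopt2_le_m D V hne g' _ _).1 h1
      have h3 := hmax ⟨g', hg'⟩ _ hmem hn1
      have h4 : (Real.sqrt (nsq L'))⁻¹ * c ≤ bttopt2_m D V hne (g : GL D.Idx F) L := le_trans h2 h3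
      rw [inv_mul_le_iff₀ hs] at h4
      linarith [mul_comm (Real.sqrt (nsq L')) (bttopt2_m D V hne (g : GL D.Idx F) L)]

end grp

end Cfsg.Agent.Lib.helper8.BTT
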