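import Cfsg.Agent.Lib.helper8.BTT.Defs
import Cfsg.Agent.Lib.helper8.ChevUnits
import Cfsg.Agent.Lib.helper8.ChevBaseAll
import Cfsg.Agent.Lib.Helper5.BTTGRP6
import Cfsg.Agent.Lib.Helper13.BTTGEN7
import Cfsg.Agent.Lib.helper8.BTTOPT2

/-!
Project BTT row OPT3: an optimal pair `(g, L)` with `L` dominant.
-/

set_option autoImplicit false

namespace Cfsg.Agent.Lib.helper8.BTT

open Cfsg.Lie Cfsg.Lie.ChevalleyDatum

universe u

section grp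
variable {F : Type u} [Field F] (D : ChevalleyDatum)

/-- OPT3 [S-M]: ... with `L` dominant (OPT2, GRP6, GEN7, `h8_N_le_group`). -/
theorem opt_pair (hD : D ∈ [chevG2, chevB2, chevD4, chevF4, chevE6, chevE7, chevE8])
    [Fintype F] (p : ℕ) [Fact p.Prime] [CharP F p]
    (V : Subgroup (GL D.Idx F)) (hVG : V ≤ D.group F) (hV : IsPGroup p V) (hne : V ≠ ⊥) :
    ∃ g ∈ D.group F, ∃ L ∈ levE D, ∃ R : ℝ, 0 < R ∧ nsq L = 1 ∧ Dom D L ∧
      (∀ v ∈ V, Fil (lvl D L) R ((g⁻¹ * v * g : GL D.Idx F) : Matrix D.Idx D.Idx F)) ∧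
      ∀ g' ∈ D.group F, ∀ L' ∈ levE D, ∀ c : ℝ,
        (∀ v ∈ V, Fil (lvl D L') c ((g'⁻¹ * v * g' : GL D.Idx F) : Matrix D.Idx D.Idx F)) →
        c ≤ R * Real.sqrt (nsq L') := by
  obtain ⟨g, hg, L, hL, R, hR, hn, hfil, hopt⟩ := opt_pair0 D hD p V hVG hV hne
  obtain ⟨n, hnN, L', hL', hdom, hnsq, hlev⟩ := exists_dom (F := F) D hD L hL
  have hnG : n ∈ D.group F := h8_N_le_group D (h8base_all D hD) hnN
  refine ⟨g * n⁻¹, (D.group F).mul_mem hg ((D.group F).inv_mem hnG), L', hL', R, hR,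
    by rw [hnsq, hn], hdom, ?_, hopt⟩
  intro v hv
  have h1 : (g * n⁻¹)⁻¹ * v * (g * n⁻¹) = n * (g⁻¹ * v * g) * n⁻¹ := by group
  rw [h1]
  exact lev_conj_fil _ _ R n _ hlev (hfil v hv)

end grp

end Cfsg.Agent.Lib.helper8.BTT
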