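import Cfsg.Agent.Lib.helper8.BTT.Defs
import Cfsg.Agent.Lib.helper8.ChevUnits
import Cfsg.Agent.Lib.helper8.ChevBaseAll
import Cfsg.Agent.Lib.helper8.ChevBN2
import Cfsg.Agent.S1100
import Cfsg.Agent.Lib.Helper18.BTTGRP7
import Cfsg.Agent.Lib.helper2.BTTGEN4
import Cfsg.Agent.Lib.Helper5.BTTGRP5
import Cfsg.Agent.Lib.Helper13.BTTGEN6
import Cfsg.Agent.Lib.Helper13.BTTGEN7
import Cfsg.Agent.Lib.Helper29.BTTROOT0
import Cfsg.Agent.Lib.Helper29.BTTGEN8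
import Cfsg.Agent.Lib.helper6.BTTGEN10

/-!
Project BTT row STAB: the normaliser of `V` preserves the optimal filtration.
-/

set_option autoImplicit false

namespace Cfsg.Agent.Lib.helper8.BTT

open Cfsg.Lie Cfsg.Lie.ChevalleyDatum

universe u

section grp
variable {F : Type u} [Field F] (D : ChevalleyDatum)

theorem bttstab_sqrt {a : ℝ} {R : ℝ} (hR : 0 < R) (h : R + R ≤ R * Real.sqrt a) : 4 ≤ a := by
  have h1 : (2 : ℝ) ≤ Real.sqrt a := by
    by_contra hlt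
    have hlt' : Real.sqrt a < 2 := lt_of_not_ge hlt
    have : R * Real.sqrt a < R * 2 := mul_lt_mul_of_pos_left hlt' hR
    linarith
  have h2 := (Real.le_sqrt' (by norm_num : (0 : ℝ) < 2)).1 h1
  linarith

/-- STAB [M-H]: see (STAB) in the header (S1100, GRP5, GRP7, GEN6, GEN7, GEN8, GEN10). -/
theorem stab_filP (hD : D ∈ [chevG2, chevB2, chevD4, chevF4, chevE6, chevE7, chevE8])
    [Fintype F]
    (V : Subgroup (GL D.Idx F)) (hVG : V ≤ D.group F) (hne : V ≠ ⊥)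
    (g : GL D.Idx F) (hg : g ∈ D.group F) (L : Fin D.nroots → ℝ) (hL : L ∈ levE D) (R : ℝ)
    (hR : 0 < R) (hn : nsq L = 1) (hdom : Dom D L)
    (hfil : ∀ v ∈ V, Fil (lvl D L) R ((g⁻¹ * v * g : GL D.Idx F) : Matrix D.Idx D.Idx F))
    (hopt : ∀ g' ∈ D.group F, ∀ L' ∈ levE D, ∀ c : ℝ,
        (∀ v ∈ V, Fil (lvl D L') c ((g'⁻¹ * v * g' : GL D.Idx F) : Matrix D.Idx D.Idx F)) →
        c ≤ R * Real.sqrt (nsq L'))
    (x : GL D.Idx F) (hxG : x ∈ D.group F)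
    (hxN : x ∈ Subgroup.normalizer (V : Set (GL D.Idx F))) (q : GL D.Idx F)
    (hq : FilP (lvl D L) (q : Matrix D.Idx D.Idx F)) :
    FilP (lvl D L) (((g⁻¹ * x * g) * q * (g⁻¹ * x * g)⁻¹ : GL D.Idx F) : Matrix D.Idx D.Idx F) := by
  have hB := h8base_all.{u} D hD
  have hyG : g⁻¹ * x * g ∈ D.group F :=
    (D.group F).mul_mem ((D.group F).mul_mem ((D.group F).inv_mem hg) hxG) hg
  obtain ⟨b, hb, n, hnN, u, hu, hy⟩ := (Cfsg.Agent.S1100.result (F := F) D hD).1 _ hyG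
  have huU : u ∈ D.posUnipotent F := by
    revert hu
    apply Subgroup.closure_mono
    rintro z ⟨r, t, hr, _, hz⟩
    exact ⟨r, t, hr, hz⟩
  have hbPar : Par (lvl D L) (b : Matrix D.Idx D.Idx F) := B_par D hD L hL hdom b hb
  have hbiPar : Par (lvl D L) ((b⁻¹ : GL D.Idx F) : Matrix D.Idx D.Idx F) := par_inv _ b hbPar
  have huPar : Par (lvl D L) (u : Matrix D.Idx D.Idx F) :=
    B_par D hD L hL hdom u (h8U_le_B D huU)
  obtain ⟨L', hL', hnsq, hlev⟩ := N_lev D hD n hnN L hL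
  -- the key containment
  have hkey : ∀ v ∈ V, Fil (lvl D (L + L')) (R + R)
      (((g * b)⁻¹ * v * (g * b) : GL D.Idx F) : Matrix D.Idx D.Idx F) := by
    intro v hv
    have hxi : x⁻¹ * v * x ∈ V := by
      have h1 := (Subgroup.mem_normalizer_iff.1 hxN (x⁻¹ * v * x))
      have h2 : x * (x⁻¹ * v * x) * x⁻¹ = v := by group
      rw [h2] at h1
      exact h1.2 hv
    have hw := hfil _ hxi
    have hv1 := hfil v hv
    have e1 : (g * b)⁻¹ * v * (g * b) = b⁻¹ * (g⁻¹ * v * g) * (b⁻¹)⁻¹ := by group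
    have e2 : (g * b)⁻¹ * v * (g * b) =
        n * (u * (g⁻¹ * (x⁻¹ * v * x) * g) * u⁻¹) * n⁻¹ := by
      have : b⁻¹ * (g⁻¹ * x * g) = n * u := by rw [hy]; group
      calc (g * b)⁻¹ * v * (g * b)
          = (b⁻¹ * (g⁻¹ * x * g)) * (g⁻¹ * (x⁻¹ * v * x) * g) * (b⁻¹ * (g⁻¹ * x * g))⁻¹ := by group
        _ = n * (u * (g⁻¹ * (x⁻¹ * v * x) * g) * u⁻¹) * n⁻¹ := by rw [this]; group
    have ha : Fil (lvl D L) R (((g * b)⁻¹ * v * (g * b) : GL D.Idx F) : Matrix D.Idx D.Idx F) := by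
      rw [e1]
      exact par_conj_fil _ R _ _ hbiPar hv1
    have hb' : Fil (lvl D L') R (((g * b)⁻¹ * v * (g * b) : GL D.Idx F) : Matrix D.Idx D.Idx F) := by
      rw [e2]
      exact lev_conj_fil _ _ R n _ hlev (par_conj_fil _ R _ _ huPar hw)
    rw [lvl_add]
    exact fil_add _ _ R R _ ha hb'
  have hgb : g * b ∈ D.group F := (D.group F).mul_mem hg (h8_B_le_group D hB hb)
  have h4 := hopt (g * b) hgb (L + L') ((levE D).add_mem hL hL') (R + R) hkey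
  have h5 : 4 ≤ nsq (L + L') := bttstab_sqrt hR h4
  have hLL : L = L' := nsq_eq_of_add L L' hn (by rw [hnsq, hn]) h5
  rw [← hLL] at hlev
  have e3 : (g⁻¹ * x * g) * q * (g⁻¹ * x * g)⁻¹ = b * (n * (u * q * u⁻¹) * n⁻¹) * b⁻¹ := by
    rw [hy]; group
  rw [e3]
  exact par_conj_filP _ _ _ hbPar (lev_conj_filP _ _ n _ hlev (par_conj_filP _ _ _ huPar hq))

end grp

end Cfsg.Agent.Lib.helper8.BTT
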