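import Mathlib
import Cfsg.Prelude.Def_LieTypes
import Cfsg.Prelude.Def_ChevB2
import Cfsg.Agent.Lib.helper8.ChevOver

set_option autoImplicit false

namespace Cfsg.Agent.Lib.helper8

open Cfsg.Lie Cfsg.Lie.ChevalleyDatum

universe u

variable {F : Type u} [Field F]

def h8simChk2 (D : ChevalleyDatum) : Bool :=
  (List.range D.rank).all fun j => decide ((D.coroot.getD (D.simple j) #[]).getD j 0 ≠ 0)

theorem h8simChk2_all (D : ChevalleyDatum)
    (hD : D ∈ [chevG2, chevB2, chevD4, chevF4, chevE6, chevE7, chevE8]) : h8simChk2 D = true := by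
  simp only [List.mem_cons, List.not_mem_nil, or_false] at hD
  rcases hD with rfl | rfl | rfl | rfl | rfl | rfl | rfl <;> decide +kernel

theorem h8normalizer_UJ_le (D : ChevalleyDatum) (hB : H8Base.{u} D) (hA : H8ReflAll D)
    (hC : H8CommAll.{u} D) (hBN : H8BN D) (hW : H8BN2 D) (hO2 : H8Ord2 D)
    (hS2 : h8simChk2 D = true) (J : Set ℕ)
    (hBP : D.borelSubgroup F ≤ Subgroup.normalizer (D.unipotentRadical F J : Set (GL D.Idx F))) :
    Subgroup.normalizer (D.unipotentRadical F J : Set (GL D.Idx F)) ⊓ D.group F ≤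
      D.parabolicSubgroup F J := by
  refine le_trans (h8overgroup D hB hA hC hBN hW hO2 _ hBP) ?_
  unfold ChevalleyDatum.parabolicSubgroup
  apply sup_le le_sup_left
  refine le_trans ?_ le_sup_right
  apply Subgroup.closure_mono
  rintro g ⟨i, hi, rfl, hn⟩
  refine ⟨i, ?_, hi, h8nU_val D hB _ _⟩
  by_contra hiJ
  have hpi := h8simple_pos D hBN i hi
  have hnJ : ¬ D.InRootSub J (D.simple i) := by
    intro h
    unfold h8simChk2 at hS2
    rw [List.all_eq_true] at hS2
    have := hS2 i (List.mem_range.mpr hi)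
    rw [decide_eq_true_eq] at this
    exact this (h.2 i hi hiJ)
  have hx : h8xU D hB (D.simple i) (1 : F) ∈ D.unipotentRadical F J := by
    unfold ChevalleyDatum.unipotentRadical
    apply Subgroup.subset_closure
    exact ⟨_, 1, hpi, hnJ, h8xU_val D hB _ _⟩
  have hconj := (Subgroup.mem_normalizer_iff.mp hn _).mp hx
  obtain ⟨c, hc, hact⟩ := h8act_nU (F := F) D hB hA i hi (D.simple i) hpi.1
  rw [hact 1, h8reflectRoot_simple] at hconj
  have hUJU : D.unipotentRadical F J ≤ D.posUnipotent F := by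
    unfold ChevalleyDatum.unipotentRadical ChevalleyDatum.posUnipotent
    apply Subgroup.closure_mono
    rintro g ⟨r, t, hr, _, hg⟩
    exact ⟨r, t, hr, hg⟩
  exact h8xneg_not_mem_B D hB hA hBN hW _ hpi (c * 1) (mul_ne_zero hc one_ne_zero)
    (h8U_le_B D (hUJU hconj))

end Cfsg.Agent.Lib.helper8
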