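import Cfsg.Agent.Lib.helper8.BTT.Defs
import Cfsg.Agent.S1049
import Cfsg.Agent.Lib.Helper5.BTTGRP12
import Cfsg.Agent.Lib.Helper9.BTTROOT4
import Cfsg.Agent.Lib.helper8.BTTGEN1
import Cfsg.Agent.Lib.helper8.BTTOPT3
import Cfsg.Agent.Lib.helper8.BTTSTAB

/-!
Project BTT row MAIN: S2154 (Borel–Tits for the seven Chevalley data).
-/

set_option autoImplicit false

namespace Cfsg.Agent.Lib.helper8.BTT

open Cfsg.Lie Cfsg.Lie.ChevalleyDatum

universe u

/-- MAIN [M]: S2154 (OPT3, STAB, GRP12, ROOT4 `lev_eq_zero`, GEN10 `nsq_eq_zero`, GEN1 `fil_filP`,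
S1049). -/
theorem main_S2154 {F : Type*} [Field F] [Fintype F] (p : ℕ) [Fact p.Prime] [CharP F p]
    (D : Cfsg.Lie.ChevalleyDatum)
    (hD : D ∈ [Cfsg.Lie.chevG2, Cfsg.Lie.chevB2, Cfsg.Lie.chevD4, Cfsg.Lie.chevF4,
      Cfsg.Lie.chevE6, Cfsg.Lie.chevE7, Cfsg.Lie.chevE8])
    (U : Subgroup (GL D.Idx F)) (hUG : U ≤ D.group F) (hU : IsPGroup p ↥U) (hne : U ≠ ⊥) :
    ∃ g ∈ D.group F, ∃ J : Set ℕ, (∃ i, i < D.rank ∧ i ∉ J) ∧
      Subgroup.normalizer (U : Set (GL D.Idx F)) ⊓ D.group F ≤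
        (D.parabolicSubgroup F J).map (MulAut.conj g).toMonoidHom ∧
      U ≤ (D.unipotentRadical F J).map (MulAut.conj g).toMonoidHom := by
  obtain ⟨g, hg, L, hL, R, hR, hn, hdom, hfil, hopt⟩ := opt_pair D hD p U hUG hU hne
  have hG := D.group F
  -- conjugates by `g⁻¹ x g`, `x ∈ N_G(U)`, preserve `U_J`
  have hstab : ∀ x ∈ D.group F, x ∈ Subgroup.normalizer (U : Set (GL D.Idx F)) →
      ∀ z ∈ D.unipotentRadical F (zeroSet D L),
        (g⁻¹ * x * g) * z * (g⁻¹ * x * g)⁻¹ ∈ D.unipotentRadical F (zeroSet D L) := by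
    intro x hxG hxN z hz
    obtain ⟨hzG, hzF⟩ := (filP_eq_UJ D hD p L hL hdom z).2 hz
    apply (filP_eq_UJ D hD p L hL hdom _).1
    have hyG : g⁻¹ * x * g ∈ D.group F :=
      (D.group F).mul_mem ((D.group F).mul_mem ((D.group F).inv_mem hg) hxG) hg
    refine ⟨(D.group F).mul_mem ((D.group F).mul_mem hyG hzG) ((D.group F).inv_mem hyG), ?_⟩
    exact stab_filP D hD U hUG hne g hg L hL R hR hn hdom hfil hopt x hxG hxN z hzF
  refine ⟨g, hg, zeroSet D L, ?_, ?_, ?_⟩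
  · by_contra h
    have h0 : ∀ i < D.rank, lv D L (D.simple i) = 0 := by
      intro i hi
      by_contra hne0
      exact h ⟨i, hi, fun hmem => hne0 hmem.2⟩
    have hL0 := lev_eq_zero D hD L hL h0
    rw [hL0] at hn
    have : nsq (0 : Fin D.nroots → ℝ) = 0 := by
      unfold nsq
      simp
    rw [this] at hn
    exact zero_ne_one hn
  · intro x hx
    obtain ⟨hxN, hxG⟩ := Subgroup.mem_inf.1 hx
    have hxiN : x⁻¹ ∈ Subgroup.normalizer (U : Set (GL D.Idx F)) := Subgroup.inv_mem _ hxN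
    have hxiG : x⁻¹ ∈ D.group F := (D.group F).inv_mem hxG
    have hyG : g⁻¹ * x * g ∈ D.group F :=
      (D.group F).mul_mem ((D.group F).mul_mem ((D.group F).inv_mem hg) hxG) hg
    have hyN : g⁻¹ * x * g ∈
        Subgroup.normalizer (D.unipotentRadical F (zeroSet D L) : Set (GL D.Idx F)) := by
      rw [Subgroup.mem_normalizer_iff]
      intro z
      constructor
      · intro hz
        exact hstab x hxG hxN z hz
      · intro hz
        have h1 := hstab x⁻¹ hxiG hxiN _ hz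
        have h2 : (g⁻¹ * x⁻¹ * g) * ((g⁻¹ * x * g) * z * (g⁻¹ * x * g)⁻¹) * (g⁻¹ * x⁻¹ * g)⁻¹ = z := by
          group
        rw [h2] at h1
        exact h1
    have hJ : ∀ j ∈ zeroSet D L, j < D.rank := fun j hj => hj.1
    have hyP : g⁻¹ * x * g ∈ D.parabolicSubgroup F (zeroSet D L) := by
      rw [← Cfsg.Agent.S1049.result (F := F) D hD (zeroSet D L) hJ]
      exact Subgroup.mem_inf.2 ⟨hyN, hyG⟩
    rw [Subgroup.mem_map]
    refine ⟨g⁻¹ * x * g, hyP, ?_⟩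
    show g * (g⁻¹ * x * g) * g⁻¹ = x
    group
  · intro v hv
    have hvG : g⁻¹ * v * g ∈ D.group F :=
      (D.group F).mul_mem ((D.group F).mul_mem ((D.group F).inv_mem hg) (hUG hv)) hg
    have hvU : g⁻¹ * v * g ∈ D.unipotentRadical F (zeroSet D L) :=
      (filP_eq_UJ D hD p L hL hdom _).1 ⟨hvG, fil_filP _ R hR _ (hfil v hv)⟩
    rw [Subgroup.mem_map]
    refine ⟨g⁻¹ * v * g, hvU, ?_⟩
    show g * (g⁻¹ * v * g) * g⁻¹ = v
    group

end Cfsg.Agent.Lib.helper8.BTT
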