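import Cfsg.Agent.Lib.helper8.BGLBT1
import Cfsg.Agent.Lib.helper8.BTTMAIN
import Cfsg.Agent.Lib.helper8.ChevFix1

/-!
Project BGL, row BT2 (helper8): the `σ`-equivariant form of Borel–Tits (S2154).

`σ = h8Psi D φ` is the entrywise map of a ring endomorphism `φ` of the (finite) field.  If the non-trivial `p`-subgroup
`U` of `G = D.group F` is `σ`-stable (every `v ∈ U` is `σ v₀` with `v₀ ∈ U`; e.g. `U` is fixed elementwise), then the
element `g` and the proper set `J` of S2154 can be chosen such that moreover `g⁻¹ σ(g) ∈ P_J`, i.e. the canonical parabolic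
subgroup `g P_J g⁻¹` of `U` is `σ`-stable.  (Proof: `(σ g, L)` is a second optimal pair of `U`; row BT1.)
-/

set_option autoImplicit false

namespace Cfsg.Agent.Lib.helper8.BTT

open Cfsg.Lie Cfsg.Lie.ChevalleyDatum Cfsg.Agent.Lib.helper8

universe u

/-- an entrywise ring homomorphism preserves `Fil` -/
theorem bglbt2_fil_map {ι : Type*} [DecidableEq ι] {K : Type*} [Field K] {F : Type*} [Field F]
    (φ : K →+* F) (ℓ : ι → ℝ) (c : ℝ) (M : Matrix ι ι K) (h : Fil ℓ c M) : Fil ℓ c (M.map φ) := by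
  intro i j hne
  apply h i j
  intro h0
  apply hne
  have e : (M.map φ - 1) i j = φ ((M - 1) i j) := by
    rw [Matrix.sub_apply, Matrix.sub_apply, Matrix.map_apply, map_sub, Matrix.one_apply, Matrix.one_apply]
    by_cases hij : i = j
    · rw [if_pos hij, if_pos hij, map_one]
    · rw [if_neg hij, if_neg hij, map_zero]
  rw [e, h0, map_zero]

/-- an entrywise ring homomorphism preserves `FilP` -/
theorem bglbt2_filP_map {ι : Type*} [DecidableEq ι] {K : Type*} [Field K] {F : Type*} [Field F]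
    (φ : K →+* F) (ℓ : ι → ℝ) (M : Matrix ι ι K) (h : FilP ℓ M) : FilP ℓ (M.map φ) := by
  intro i j hne
  apply h i j
  intro h0
  apply hne
  have e : (M.map φ - 1) i j = φ ((M - 1) i j) := by
    rw [Matrix.sub_apply, Matrix.sub_apply, Matrix.map_apply, map_sub, Matrix.one_apply, Matrix.one_apply]
    by_cases hij : i = j
    · rw [if_pos hij, if_pos hij, map_one]
    · rw [if_neg hij, if_neg hij, map_zero]
  rw [e, h0, map_zero]

/-- an entrywise ring homomorphism preserves `Par` -/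
theorem bglbt2_par_map {ι : Type*} [DecidableEq ι] {K : Type*} [Field K] {F : Type*} [Field F]
    (φ : K →+* F) (ℓ : ι → ℝ) (M : Matrix ι ι K) (h : Par ℓ M) : Par ℓ (M.map φ) := by
  intro i j hne
  apply h i j
  intro h0
  apply hne
  rw [Matrix.map_apply, h0, map_zero]

section grp
variable {F : Type u} [Field F] (D : ChevalleyDatum)

/-- BT2: `σ`-equivariant Borel–Tits. -/
theorem bglbt2_main [Fintype F] (p : ℕ) [Fact p.Prime] [CharP F p]
    (hD : D ∈ [chevG2, chevB2, chevD4, chevF4, chevE6, chevE7, chevE8])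
    (U : Subgroup (GL D.Idx F)) (hUG : U ≤ D.group F) (hU : IsPGroup p ↥U) (hne : U ≠ ⊥)
    (φ : F →+* F) (hφU : ∀ v ∈ U, ∃ v₀ ∈ U, h8Psi D φ v₀ = v) :
    ∃ g ∈ D.group F, ∃ J : Set ℕ, (∃ i, i < D.rank ∧ i ∉ J) ∧ (∀ j ∈ J, j < D.rank) ∧
      Subgroup.normalizer (U : Set (GL D.Idx F)) ⊓ D.group F ≤
        (D.parabolicSubgroup F J).map (MulAut.conj g).toMonoidHom ∧
      U ≤ (D.unipotentRadical F J).map (MulAut.conj g).toMonoidHom ∧
      g⁻¹ * h8Psi D φ g ∈ D.parabolicSubgroup F J := by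
  have hB := h8base_all.{u} D hD
  obtain ⟨g, hg, L, hL, R, hR, hn, hdom, hfil, hopt⟩ := opt_pair D hD p U hUG hU hne
  -- the second optimal pair
  have hg' : h8Psi D φ g ∈ D.group F := h8Psi_group_le D hB hB φ (Subgroup.mem_map_of_mem _ hg)
  have hfil' : ∀ v ∈ U, Fil (lvl D L) R
      (((h8Psi D φ g)⁻¹ * v * (h8Psi D φ g) : GL D.Idx F) : Matrix D.Idx D.Idx F) := by
    intro v hv
    obtain ⟨v₀, hv₀, rfl⟩ := hφU v hv
    have e : (h8Psi D φ g)⁻¹ * h8Psi D φ v₀ * h8Psi D φ g = h8Psi D φ (g⁻¹ * v₀ * g) := by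
      rw [map_mul, map_mul, map_inv]
    rw [e, h8Psi_val]
    exact bglbt2_fil_map φ _ R _ (hfil v₀ hv₀)
  -- `y = g⁻¹ σ(g)` normalises `U_J`
  have hyG : g⁻¹ * h8Psi D φ g ∈ D.group F := (D.group F).mul_mem ((D.group F).inv_mem hg) hg'
  have hfwd : ∀ z ∈ D.unipotentRadical F (zeroSet D L),
      (g⁻¹ * h8Psi D φ g) * z * (g⁻¹ * h8Psi D φ g)⁻¹ ∈ D.unipotentRadical F (zeroSet D L) := by
    intro z hz
    obtain ⟨hzG, hzF⟩ := (filP_eq_UJ D hD p L hL hdom z).2 hz
    apply (filP_eq_UJ D hD p L hL hdom _).1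
    refine ⟨(D.group F).mul_mem ((D.group F).mul_mem hyG hzG) ((D.group F).inv_mem hyG), ?_⟩
    exact bglbt1_stab_two D hD U g hg L hL R hR hn hdom hfil hopt (h8Psi D φ g) hg' L hL hn hdom hfil'
      z hzF
  have hbwd : ∀ z ∈ D.unipotentRadical F (zeroSet D L),
      (g⁻¹ * h8Psi D φ g)⁻¹ * z * (g⁻¹ * h8Psi D φ g) ∈ D.unipotentRadical F (zeroSet D L) := by
    intro z hz
    obtain ⟨hzG, hzF⟩ := (filP_eq_UJ D hD p L hL hdom z).2 hz
    apply (filP_eq_UJ D hD p L hL hdom _).1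
    refine ⟨(D.group F).mul_mem ((D.group F).mul_mem ((D.group F).inv_mem hyG) hzG) hyG, ?_⟩
    have := bglbt1_stab_two D hD U (h8Psi D φ g) hg' L hL R hR hn hdom hfil' hopt g hg L hL hn hdom hfil
      z hzF
    have e : ((h8Psi D φ g)⁻¹ * g) * z * ((h8Psi D φ g)⁻¹ * g)⁻¹ =
        (g⁻¹ * h8Psi D φ g)⁻¹ * z * (g⁻¹ * h8Psi D φ g) := by group
    rwa [e] at this
  have hJ : ∀ j ∈ zeroSet D L, j < D.rank := fun j hj => hj.1
  have hyP : g⁻¹ * h8Psi D φ g ∈ D.parabolicSubgroup F (zeroSet D L) := by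
    rw [← Cfsg.Agent.S1049.result (F := F) D hD (zeroSet D L) hJ]
    refine Subgroup.mem_inf.2 ⟨?_, hyG⟩
    rw [Subgroup.mem_normalizer_iff]
    intro z
    constructor
    · intro hz
      exact hfwd z hz
    · intro hz
      have h1 := hbwd _ hz
      have h2 : (g⁻¹ * h8Psi D φ g)⁻¹ * ((g⁻¹ * h8Psi D φ g) * z * (g⁻¹ * h8Psi D φ g)⁻¹) *
          (g⁻¹ * h8Psi D φ g) = z := by group
      rw [h2] at h1
      exact h1
  -- the rest is the proof of S2154
  have hstab : ∀ x ∈ D.group F, x ∈ Subgroup.normalizer (U : Set (GL D.Idx F)) →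
      ∀ z ∈ D.unipotentRadical F (zeroSet D L),
        (g⁻¹ * x * g) * z * (g⁻¹ * x * g)⁻¹ ∈ D.unipotentRadical F (zeroSet D L) := by
    intro x hxG hxN z hz
    obtain ⟨hzG, hzF⟩ := (filP_eq_UJ D hD p L hL hdom z).2 hz
    apply (filP_eq_UJ D hD p L hL hdom _).1
    have hyG' : g⁻¹ * x * g ∈ D.group F :=
      (D.group F).mul_mem ((D.group F).mul_mem ((D.group F).inv_mem hg) hxG) hg
    refine ⟨(D.group F).mul_mem ((D.group F).mul_mem hyG' hzG) ((D.group F).inv_mem hyG'), ?_⟩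
    exact stab_filP D hD U hUG hne g hg L hL R hR hn hdom hfil hopt x hxG hxN z hzF
  refine ⟨g, hg, zeroSet D L, ?_, hJ, ?_, ?_, hyP⟩
  · by_contra h
    have h0 : ∀ i < D.rank, lv D L (D.simple i) = 0 := by
      intro i hi
      by_contra hne0
      exact h ⟨i, hi, fun hmem => hne0 hmem.2⟩
    have hL0 := lev_eq_zero D hD L hL h0
    rw [hL0] at hn
    have : nsq (0 : Fin D.nroots → ℝ) = 0 := by
      unfold nsq
      simp
    rw [this] at hn
    exact zero_ne_one hn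
  · intro x hx
    obtain ⟨hxN, hxG⟩ := Subgroup.mem_inf.1 hx
    have hxiN : x⁻¹ ∈ Subgroup.normalizer (U : Set (GL D.Idx F)) := Subgroup.inv_mem _ hxN
    have hxiG : x⁻¹ ∈ D.group F := (D.group F).inv_mem hxG
    have hyG' : g⁻¹ * x * g ∈ D.group F :=
      (D.group F).mul_mem ((D.group F).mul_mem ((D.group F).inv_mem hg) hxG) hg
    have hyN : g⁻¹ * x * g ∈
        Subgroup.normalizer (D.unipotentRadical F (zeroSet D L) : Set (GL D.Idx F)) := by
      rw [Subgroup.mem_normalizer_iff]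
      intro z
      constructor
      · intro hz
        exact hstab x hxG hxN z hz
      · intro hz
        have h1 := hstab x⁻¹ hxiG hxiN _ hz
        have h2 : (g⁻¹ * x⁻¹ * g) * ((g⁻¹ * x * g) * z * (g⁻¹ * x * g)⁻¹) * (g⁻¹ * x⁻¹ * g)⁻¹ = z := by
          group
        rw [h2] at h1
        exact h1
    have hyP' : g⁻¹ * x * g ∈ D.parabolicSubgroup F (zeroSet D L) := by
      rw [← Cfsg.Agent.S1049.result (F := F) D hD (zeroSet D L) hJ]
      exact Subgroup.mem_inf.2 ⟨hyN, hyG'⟩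
    rw [Subgroup.mem_map]
    refine ⟨g⁻¹ * x * g, hyP', ?_⟩
    show g * (g⁻¹ * x * g) * g⁻¹ = x
    group
  · intro v hv
    have hvG : g⁻¹ * v * g ∈ D.group F :=
      (D.group F).mul_mem ((D.group F).mul_mem ((D.group F).inv_mem hg) (hUG hv)) hg
    have hvU : g⁻¹ * v * g ∈ D.unipotentRadical F (zeroSet D L) :=
      (filP_eq_UJ D hD p L hL hdom _).1 ⟨hvG, fil_filP _ R hR _ (hfil v hv)⟩
    rw [Subgroup.mem_map]
    refine ⟨g⁻¹ * v * g, hvU, ?_⟩
    show g * (g⁻¹ * v * g) * g⁻¹ = v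
    group

end grp

end Cfsg.Agent.Lib.helper8.BTT
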