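import Mathlib
import Cfsg.Agent.Lib.helper8.BGLPAR5
import Cfsg.Agent.Lib.helper14.BGLUKFIN

/-!
# Project BGL, block PAR (helper8): `par_main` of Skel0, VERBATIM
(`par_main_core` on `uk_main` and `bk_main`)
-/

set_option autoImplicit false

namespace Cfsg.Agent.Lib.Helper10.BGL

open Cfsg.Lie Cfsg.Lie.ChevalleyDatum

universe u

variable {K : Type u} [Field K] [Finite K]

/-- PAR (C3): `H ∩ P_J(K)` is rational for every proper `J`. -/
theorem par_main [CharP K 2] (D : ChevalleyDatum)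
    (hD : D ∈ [chevG2, chevB2, chevD4, chevF4, chevE6, chevE7, chevE8]) (a : ℕ) (ha : 1 ≤ a)
    (H : Subgroup (GL D.Idx K)) (hH : H ≤ D.group K) (hL : Lq D K (2 ^ a) ≤ H)
    (hR : RootRat D (2 ^ a) H) (J : Set ℕ) (hJ : ∃ i, i < D.rank ∧ i ∉ J) :
    ∀ g ∈ H, g ∈ D.parabolicSubgroup K J →
      RatM D (2 ^ a) ((g : GL D.Idx K) : Matrix D.Idx D.Idx K) :=
  Cfsg.Agent.Lib.helper8.PAR.par_main_core D hD a H hH hL (uk_main D hD a ha H hH hL hR)
    (bk_main D hD a ha H hH hL hR) J hJ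

end Cfsg.Agent.Lib.Helper10.BGL
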