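import Mathlib
import Cfsg.Agent.Lib.Helper22.C3L.Defs
import Cfsg.Agent.Lib.Helper18.C3LUTR
import Cfsg.Agent.Lib.helper8.C3LSTEPAcore

set_option autoImplicit false
set_option linter.unusedVariables false
set_option linter.unusedSectionVars false

/-!
# Project C3L (S5886, leader helper22), row STEPA : `stepA` (verbatim) = `c3lstepa_core` + TRANS (`c1_trans`).
-/

namespace Cfsg.Agent.Lib.Helper22.C3L

open Module

variable {F K V : Type*} [Field F] [Field K] [Algebra F K] [AddCommGroup V] [Module F V] [Module K V]
  [IsScalarTower F K V]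

/-- STEPA [M-L] if `H ≥ C1` does not normalise `K` and `[K : F]` is prime then for every `v ≠ 0` and `a ∉ F` some
`h ∈ H` fixes `v` and moves `a v` out of `K v`. -/
theorem stepA [FiniteDimensional F K] [FiniteDimensional K V] (hr : (finrank F K).Prime) (hm : 2 ≤ finrank K V)
    (H : Subgroup (V ≃ₗ[F] V)) (hC : C1 F K V ≤ H) (hN : NotNorm K H) : MovesOut K H :=
  c3lstepa_core hr hm (fun v w hv hw => c1_trans hm hv hw) H hC hN

end Cfsg.Agent.Lib.Helper22.C3L
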