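import Mathlib
import Cfsg.Prelude.Def_ChevAutomorphisms
import Cfsg.Prelude.Def_KGroupFacts
import Cfsg.Agent.Lib.helper8.ChevAV9

set_option autoImplicit false

namespace Cfsg.Agent.Lib.helper8

open Cfsg.Lie Cfsg.Lie.ChevalleyDatum

universe u

variable {F : Type u} [Field F]

/-- the outer automorphism group of `E₇(q)` -/
theorem h8out_E7 [Fintype F] (p f : ℕ) [Fact p.Prime] [CharP F p] (hF : Fintype.card F = p ^ f) :
    Nat.card (Cfsg.Out ↥(chevE7.group F)) = Nat.gcd 2 (p ^ f - 1) * f := by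
  have hD : chevE7 ∈ [chevG2, chevB2, chevD4, chevF4, chevE6, chevE7, chevE8] := by simp
  have h := h8av_out_count chevE7 hD {1} (fun _ => 1)
    (fun ρ => ⟨Subgroup.one_mem _, by
      have : ρ.val = 1 := ρ.2
      rw [this]
      exact h8av_std_one chevE7 hD⟩)
    (fun θ _ ρ c σ hstd => h8sym_E7 ρ (h8av_std_sym chevE7 hD θ ρ c σ hstd))
    p f hF (Nat.gcd 2 (Fintype.card F - 1)) h8H_card_E7
  rw [h, hF]
  simp

end Cfsg.Agent.Lib.helper8
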