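import Mathlib
import Cfsg.Prelude.Def_SteinbergCover
import Cfsg.Agent.Lib.helper8.ChevSt7
import Cfsg.Agent.Lib.helper8.ChevCent1

set_option autoImplicit false

namespace Cfsg.Agent.Lib.helper8

open Cfsg.Lie Cfsg.Lie.ChevalleyDatum

universe u

variable {K : Type u} [Field K]

section
variable (D : ChevalleyDatum) (hB : H8Base.{u} D) (π lam : ℕ → ℕ)

/-- images of the generators under the exceptional isogeny -/
def h8exX (r : ℕ) (t : K) : GL D.Idx K :=
  if r < D.nroots then h8xU D hB (π r) (t ^ lam r) else 1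

def h8exF : Fin D.nroots × K → GL D.Idx K := fun q => h8exX D hB π lam q.1.val q.2

theorem h8exF_stX (r : ℕ) (t : K) :
    FreeGroup.lift (h8exF D hB π lam) (D.stX r t) = h8exX D hB π lam r t := by
  unfold ChevalleyDatum.stX
  by_cases hr : r < D.nroots
  · rw [dif_pos hr, FreeGroup.lift_apply_of]
    rfl
  · rw [dif_neg hr, map_one]
    unfold h8exX
    rw [if_neg hr]

theorem h8exF_stWord (w : List (ℕ × K)) :
    FreeGroup.lift (h8exF D hB π lam) (D.stWord w) =
      (w.map fun q => h8exX D hB π lam q.1 q.2).prod := by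
  unfold ChevalleyDatum.stWord
  rw [map_list_prod, List.map_map]
  congr 1
  apply List.map_congr_left
  intro q _
  exact h8exF_stX D hB π lam q.1 q.2

/-- evaluation of a normal-form term -/
def h8nfEval (t u : K) (q : ℕ × ℤ × ℕ × ℕ) : GL D.Idx K :=
  h8xU D hB q.1 ((q.2.1 : K) * t ^ q.2.2.1 * u ^ q.2.2.2)

/-- the normal form of the commutator of the images -/
def h8nfL (r s : ℕ) : List (ℕ × ℤ × ℕ × ℕ) :=
  (D.commTerms (π r) (π s)).map fun c =>
    (c.1, c.2.1 * (-1) ^ c.2.2.1, lam r * c.2.2.1, lam s * c.2.2.2)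

/-- the normal form of the image of the commutator -/
def h8nfR (r s : ℕ) : List (ℕ × ℤ × ℕ × ℕ) :=
  (D.commTerms r s).map fun c =>
    (π c.1, c.2.1 ^ lam c.1 * (-1) ^ (c.2.2.1 * lam c.1), c.2.2.1 * lam c.1, c.2.2.2 * lam c.1)

theorem h8nfL_eval (r s : ℕ) (t u : K) :
    h8wordU D hB (D.commWord K (π r) (π s) (t ^ lam r) (u ^ lam s)) =
      ((h8nfL D π lam r s).map (h8nfEval D hB t u)).prod := by
  unfold h8wordU ChevalleyDatum.commWord h8nfL
  rw [List.map_map, List.map_map]
  congr 1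
  apply List.map_congr_left
  intro c _
  show h8xU D hB c.1 _ = h8xU D hB c.1 _
  congr 1
  push_cast
  rw [neg_pow, ← pow_mul, ← pow_mul]
  ring

theorem h8nfR_eval (r s : ℕ) (t u : K) (hlt : ∀ c ∈ D.commTerms r s, c.1 < D.nroots) :
    ((D.commWord K r s t u).map fun q => h8exX D hB π lam q.1 q.2).prod =
      ((h8nfR D π lam r s).map (h8nfEval D hB t u)).prod := by
  unfold ChevalleyDatum.commWord h8nfR
  rw [List.map_map, List.map_map]
  congr 1
  apply List.map_congr_left
  intro c hc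
  show h8exX D hB π lam c.1 _ = h8xU D hB (π c.1) _
  unfold h8exX
  rw [if_pos (hlt c hc)]
  congr 1
  push_cast
  rw [mul_pow, mul_pow, neg_pow, mul_pow, ← pow_mul, ← pow_mul, ← pow_mul]
  ring

end

/-- reduction of the coefficients modulo the characteristic, dropping the zero terms -/
def h8nfRed (p : ℕ) (L : List (ℕ × ℤ × ℕ × ℕ)) : List (ℕ × ℤ × ℕ × ℕ) :=
  (L.map fun q => (q.1, q.2.1 % (p : ℤ), q.2.2.1, q.2.2.2)).filter fun q => q.2.1 != 0

theorem h8nfRed_eval (D : ChevalleyDatum) (hB : H8Base.{u} D) (p : ℕ) [CharP K p] (t u : K) :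
    ∀ L : List (ℕ × ℤ × ℕ × ℕ), (L.map (h8nfEval D hB t u)).prod =
      ((h8nfRed p L).map (h8nfEval D hB t u)).prod
  | [] => rfl
  | q :: L => by
    have ih := h8nfRed_eval D hB p t u L
    unfold h8nfRed at ih ⊢
    rw [List.map_cons, List.prod_cons, List.map_cons, List.filter_cons, ih]
    have e : h8nfEval D hB t u q =
        h8nfEval D hB t u (q.1, q.2.1 % (p : ℤ), q.2.2.1, q.2.2.2) := by
      unfold h8nfEval
      have := CharP.intCast_eq_intCast_mod K p (a := q.2.1)
      show h8xU D hB q.1 ((q.2.1 : K) * _ * _) =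
        h8xU D hB q.1 (((q.2.1 % (p : ℤ) : ℤ) : K) * _ * _)
      rw [← this]
    by_cases h0 : q.2.1 % (p : ℤ) = 0
    · have hb : ((q.1, q.2.1 % (p : ℤ), q.2.2.1, q.2.2.2).2.1 != 0) = false := by
        simp [h0]
      rw [if_neg (by rw [hb]; simp)]
      rw [e]
      unfold h8nfEval
      simp only [h0, Int.cast_zero, zero_mul]
      rw [h8xU_zero, one_mul]
    · have hb : ((q.1, q.2.1 % (p : ℤ), q.2.2.1, q.2.2.2).2.1 != 0) = true := by
        simp [h0]
      rw [if_pos hb, List.map_cons, List.prod_cons, e]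

/-- the root elements of `a` and `b` commute in characteristic `p` -/
def h8excz (D : ChevalleyDatum) (p : ℕ) (a b : ℕ) : Bool :=
  decide (a < D.nroots) && decide (b < D.nroots) &&
    (decide (a = b) || (decide (b ≠ D.negIdx.getD a 0) &&
      (D.commTerms a b).all fun c => c.2.1 % (p : ℤ) == 0))

theorem h8excz_spec (D : ChevalleyDatum) (hB : H8Base.{u} D) (hC : H8CommAll.{u} D) (p : ℕ)
    [CharP K p] (a b : ℕ) (h : h8excz D p a b = true) (x y : K) :
    Commute (h8xU D hB a x) (h8xU D hB b y) := by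
  unfold h8excz at h
  simp only [Bool.and_eq_true, Bool.or_eq_true, decide_eq_true_eq, List.all_eq_true,
    beq_iff_eq] at h
  obtain ⟨⟨ha, hb⟩, h⟩ := h
  rcases h with rfl | ⟨hne, hall⟩
  · show _ * _ = _ * _
    rw [h8xU_add D hB a ha, h8xU_add D hB a ha, add_comm]
  · show _ * _ = _ * _
    symm
    apply h8comm_of_zero D hB hC a b ha hb hne
    intro _ c hc
    have := hall c hc
    rw [CharP.intCast_eq_intCast_mod K p, this, Int.cast_zero]

/-- the check for a pair of roots -/
def h8exPair (D : ChevalleyDatum) (p : ℕ) (π lam : ℕ → ℕ) (r s : ℕ) : Bool :=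
  (h8nfRed p (h8nfL D π lam r s) == h8nfRed p (h8nfR D π lam r s)) ||
  ((h8nfRed p (h8nfL D π lam r s)).isPerm (h8nfRed p (h8nfR D π lam r s)) &&
    (h8nfRed p (h8nfL D π lam r s)).all fun x =>
      (h8nfRed p (h8nfL D π lam r s)).all fun y => h8excz D p x.1 y.1)

theorem h8exPair_spec (D : ChevalleyDatum) (hB : H8Base.{u} D) (hC : H8CommAll.{u} D) (p : ℕ)
    [CharP K p] (π lam : ℕ → ℕ) (r s : ℕ) (h : h8exPair D p π lam r s = true) (t u : K) :
    ((h8nfL D π lam r s).map (h8nfEval D hB t u)).prod =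
      ((h8nfR D π lam r s).map (h8nfEval D hB t u)).prod := by
  rw [h8nfRed_eval D hB p t u (h8nfL D π lam r s), h8nfRed_eval D hB p t u (h8nfR D π lam r s)]
  unfold h8exPair at h
  rw [Bool.or_eq_true] at h
  rcases h with h | h
  · rw [beq_iff_eq] at h
    rw [h]
  · rw [Bool.and_eq_true, List.isPerm_iff] at h
    obtain ⟨hperm, hcomm⟩ := h
    apply List.Perm.prod_eq' (hperm.map _)
    rw [List.pairwise_map]
    apply List.pairwise_of_forall_mem_list
    intro x hx y hy
    simp only [List.all_eq_true] at hcomm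
    exact h8excz_spec D hB hC p x.1 y.1 (hcomm x hx y hy) _ _

end Cfsg.Agent.Lib.helper8
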