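import Mathlib
import Cfsg.Prelude.Def_SteinbergCover
import Cfsg.Agent.Lib.helper8.ChevAW1

set_option autoImplicit false

namespace Cfsg.Agent.Lib.helper8

open Cfsg.Lie Cfsg.Lie.ChevalleyDatum

universe u

variable {K : Type u} [Field K]

/-- the full check of the relations for the exceptional isogeny -/
def h8exChk (D : ChevalleyDatum) (p : ℕ) (π lam : ℕ → ℕ) : Bool :=
  (List.range D.nroots).all fun r =>
    decide (π r < D.nroots) && (lam r == 1 || lam r == p) &&
    (List.range D.nroots).all fun s =>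
      (s == r || s == D.negIdx.getD r 0) ||
      (decide (π s ≠ π r) && decide (π s ≠ D.negIdx.getD (π r) 0) &&
        h8exPair D p π lam r s && (D.commTerms r s).all fun c => decide (c.1 < D.nroots))

theorem h8exChk_spec (D : ChevalleyDatum) (p : ℕ) (π lam : ℕ → ℕ) (h : h8exChk D p π lam = true)
    (r : ℕ) (hr : r < D.nroots) :
    π r < D.nroots ∧ (lam r = 1 ∨ lam r = p) ∧
    ∀ s < D.nroots, s ≠ r → s ≠ D.negIdx.getD r 0 →
      π s ≠ π r ∧ π s ≠ D.negIdx.getD (π r) 0 ∧ h8exPair D p π lam r s = true ∧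
        ∀ c ∈ D.commTerms r s, c.1 < D.nroots := by
  unfold h8exChk at h
  simp only [List.all_eq_true, List.mem_range, Bool.and_eq_true, Bool.or_eq_true,
    decide_eq_true_eq, beq_iff_eq] at h
  obtain ⟨⟨h1, h2⟩, h3⟩ := h r hr
  refine ⟨h1, h2, ?_⟩
  intro s hs hsr hsn
  rcases h3 s hs with h4 | h4
  · rcases h4 with h4 | h4
    · exact absurd h4 hsr
    · exact absurd h4 hsn
  · obtain ⟨⟨⟨a, b⟩, c⟩, d⟩ := h4
    exact ⟨a, b, c, d⟩

theorem h8exX_pos (D : ChevalleyDatum) (hB : H8Base.{u} D) (π lam : ℕ → ℕ) (r : ℕ)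
    (hr : r < D.nroots) (t : K) :
    h8exX D hB π lam r t = h8xU D hB (π r) (t ^ lam r) := by
  unfold h8exX
  rw [if_pos hr]

theorem h8ex_rels (D : ChevalleyDatum) (hB : H8Base.{u} D) (hC : H8CommAll.{u} D) (p : ℕ)
    [Fact p.Prime] [CharP K p] (π lam : ℕ → ℕ) (h : h8exChk D p π lam = true) :
    ∀ g ∈ D.steinbergRelsAB K, FreeGroup.lift (h8exF (K := K) D hB π lam) g = 1 := by
  intro g hg
  rcases hg with ⟨r, t₁, t₂, hr, rfl⟩ | ⟨r, s, t, u, hr, hs, h1, h2, rfl⟩
  · obtain ⟨hπr, hl, -⟩ := h8exChk_spec D p π lam h r hr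
    rw [map_mul, map_mul, map_inv, h8exF_stX, h8exF_stX, h8exF_stX, h8exX_pos D hB π lam r hr,
      h8exX_pos D hB π lam r hr, h8exX_pos D hB π lam r hr, h8xU_add D hB (π r) hπr,
      mul_inv_eq_one]
    congr 1
    rcases hl with hl | hl
    · rw [hl, pow_one, pow_one, pow_one]
    · rw [hl, add_pow_char]
  · obtain ⟨hπr, -, hall⟩ := h8exChk_spec D p π lam h r hr
    obtain ⟨hπs, -, -⟩ := h8exChk_spec D p π lam h s hs
    obtain ⟨hne1, hne2, hpair, hlt⟩ := hall s hs h1 h2
    rw [map_mul, map_mul, map_mul, map_mul, map_inv, map_inv, map_inv, h8exF_stX, h8exF_stX,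
      h8exF_stWord, mul_inv_eq_one, h8exX_pos D hB π lam r hr, h8exX_pos D hB π lam s hs]
    have key : h8xU D hB (π s) (u ^ lam s) * h8xU D hB (π r) (t ^ lam r) =
        h8xU D hB (π r) (t ^ lam r) * h8xU D hB (π s) (u ^ lam s) *
          h8wordU D hB (D.commWord K (π r) (π s) (t ^ lam r) (u ^ lam s)) := by
      apply Units.ext
      rw [Units.val_mul, Units.val_mul, Units.val_mul, h8wordU_val, h8xU_val, h8xU_val]
      exact hC.all (π r) hπr (π s) hπs hne1 hne2 K _ _
    have e2 := h8nfR_eval D hB π lam r s t u hlt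
    rw [e2, ← h8exPair_spec D hB hC p π lam r s hpair t u, ← h8nfL_eval]
    rw [mul_assoc, mul_assoc, key]
    group

/-- the exceptional isogeny on the cover -/
noncomputable def h8exPi (D : ChevalleyDatum) (hB : H8Base.{u} D) (hC : H8CommAll.{u} D) (p : ℕ)
    [Fact p.Prime] [CharP K p] (π lam : ℕ → ℕ) (h : h8exChk D p π lam = true) :
    D.SteinbergCover K →* GL D.Idx K :=
  PresentedGroup.toGroup (h8ex_rels D hB hC p π lam h)

theorem h8exPi_gen (D : ChevalleyDatum) (hB : H8Base.{u} D) (hC : H8CommAll.{u} D) (p : ℕ)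
    [Fact p.Prime] [CharP K p] (π lam : ℕ → ℕ) (h : h8exChk D p π lam = true) (r : ℕ)
    (hr : r < D.nroots) (t : K) :
    h8exPi D hB hC p π lam h (D.scGen K r t) = h8xU D hB (π r) (t ^ lam r) := by
  unfold h8exPi ChevalleyDatum.scGen
  have : (PresentedGroup.toGroup (h8ex_rels D hB hC p π lam h))
      (PresentedGroup.mk (D.steinbergRelsAB K) (D.stX r t)) =
      FreeGroup.lift (h8exF D hB π lam) (D.stX r t) := rfl
  rw [this, h8exF_stX]
  unfold h8exX
  rw [if_pos hr]

end Cfsg.Agent.Lib.helper8
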