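import Mathlib
import Cfsg.Prelude.Def_SteinbergCover
import Cfsg.Prelude.Def_ChevAutomorphisms
import Cfsg.Agent.Lib.helper8.ChevAW2
import Cfsg.Agent.Lib.helper8.ChevUC24
import Cfsg.Agent.Lib.helper8.ChevAV11

set_option autoImplicit false

namespace Cfsg.Agent.Lib.helper8

open Cfsg.Lie Cfsg.Lie.ChevalleyDatum

universe u

variable {K : Type u} [Field K]

/-- the cover of type `G₂`, `F₄`, `E₈` over a finite field is the Chevalley group, compatibly
    with the generators -/
theorem h8cover_iso_gen [Finite K] (D : ChevalleyDatum) (hD3 : D ∈ [chevG2, chevF4, chevE8])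
    (hD7 : D ∈ [chevG2, chevB2, chevD4, chevF4, chevE6, chevE7, chevE8]) :
    ∃ e₀ : D.SteinbergCover K ≃* ↥(D.group K), ∀ (r : ℕ) (t : K),
      e₀ (D.scGen K r t) = h8xG D (h8base_all.{u} D hD7) r t := by
  have hC := h8commAll.{u} D hD7
  obtain ⟨e, he⟩ := h8sc_iso (K := K) D hD7
  have hsurj := h8stTheta_surj (K := K) D (h8base_all.{u} D hD7) hC
  have hker := h8stTheta_ker (K := K) D hD7
  rw [h8st_center_trivial D hD3] at hker
  have hinj : Function.Injective (h8stTheta (K := K) D (h8base_all.{u} D hD7) hC) :=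
    (MonoidHom.ker_eq_bot_iff _).mp hker
  refine ⟨e.trans (MulEquiv.ofBijective (h8stTheta (K := K) D (h8base_all.{u} D hD7) hC)
    ⟨hinj, hsurj⟩), ?_⟩
  intro r t
  rw [MulEquiv.trans_apply, he]
  apply h8xG_of_val
  exact h8stTheta_gen D (h8base_all.{u} D hD7) hC r t

theorem h8exPi_mem_group (D : ChevalleyDatum) (hB : H8Base.{u} D) (hC : H8CommAll.{u} D) (p : ℕ)
    [Fact p.Prime] [CharP K p] (π lam : ℕ → ℕ) (h : h8exChk D p π lam = true)
    (z : D.SteinbergCover K) : h8exPi D hB hC p π lam h z ∈ D.group K := by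
  induction z using QuotientGroup.induction_on with
  | H w =>
    show FreeGroup.lift (h8exF D hB π lam) w ∈ D.group K
    induction w using FreeGroup.induction_on with
    | C1 => rw [map_one]; exact Subgroup.one_mem _
    | of q =>
      rw [FreeGroup.lift_apply_of]
      show h8exX D hB π lam q.1.val q.2 ∈ D.group K
      rw [h8exX_pos D hB π lam _ q.1.2]
      exact h8xU_mem_group D hB _ _
    | inv_of q ih =>
      rw [map_inv]
      exact Subgroup.inv_mem _ ih
    | mul a b ha hb =>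
      rw [map_mul]
      exact Subgroup.mul_mem _ ha hb

/-- the exceptional graph automorphism from the tables -/
theorem h8av_graph_ex [Finite K] (D : ChevalleyDatum) (hD3 : D ∈ [chevG2, chevF4, chevE8])
    (hD7 : D ∈ [chevG2, chevB2, chevD4, chevF4, chevE6, chevE7, chevE8])
    (p : ℕ) [Fact p.Prime] [CharP K p] (π lam : ℕ → ℕ) (h : h8exChk D p π lam = true)
    (hpos : h8posChk D π = true) (ρ : Equiv.Perm (Fin D.rank))
    (hρ : ∀ i : Fin D.rank, π (D.simple i) = D.simple (ρ i) ∧
      π (D.negIdx.getD (D.simple i) 0) = D.negIdx.getD (D.simple (ρ i)) 0 ∧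
      lam (D.simple i) = D.graphExp p i (ρ i) ∧
      lam (D.negIdx.getD (D.simple i) 0) = D.graphExp p i (ρ i)) :
    ∃ γ : MulAut ↥(D.group K), γ ∈ h8A0 D K ∧
      H8Std D (h8base_all.{u} D hD7) γ ρ (fun _ => 1) (RingEquiv.refl K) := by
  have hA := h8reflAll D hD7
  have hC := h8commAll.{u} D hD7
  have hBN := h8bn_all D hD7
  have hW := h8bn2_all D hD7
  obtain ⟨e₀, he₀⟩ := h8cover_iso_gen (K := K) D hD3 hD7
  have hchar : ringChar K = p := ringChar.eq K p
  -- the endomorphism
  let ψ : ↥(D.group K) →* ↥(D.group K) :=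
    ((h8exPi D (h8base_all.{u} D hD7) hC p π lam h).codRestrict (D.group K)
      (h8exPi_mem_group D (h8base_all.{u} D hD7) hC p π lam h)).comp e₀.symm.toMonoidHom
  have hψ : ∀ r < D.nroots, ∀ t : K, ψ (h8xG D (h8base_all.{u} D hD7) r t) =
      h8xG D (h8base_all.{u} D hD7) (π r) (t ^ lam r) := by
    intro r hr t
    apply Subtype.ext
    show h8exPi D (h8base_all.{u} D hD7) hC p π lam h (e₀.symm (h8xG D _ r t)) = _
    rw [← he₀ r t, MulEquiv.symm_apply_apply, h8exPi_gen D _ hC p π lam h r hr]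
    rfl
  -- powers are surjective
  have hpow : ∀ r < D.nroots, ∀ t : K, ∃ t' : K, t' ^ lam r = t := by
    intro r hr t
    rcases (h8exChk_spec D p π lam h r hr).2.1 with hl | hl
    · exact ⟨t, by rw [hl, pow_one]⟩
    · have hinj : Function.Injective (fun x : K => x ^ lam r) := by
        intro x y hxy
        apply h8au_frob_inj x y
        rw [hchar, ← hl]
        exact hxy
      exact Finite.surjective_of_injective hinj t
  -- surjectivity
  have hsurj : Function.Surjective ψ := by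
    have hle : D.group K ≤ (ψ.range).map (D.group K).subtype := by
      apply h8group_le_of_simple D (h8base_all.{u} D hD7) hA hBN
      · intro j hj t
        have hp := (h8simple_pos D hBN _ (ρ.symm ⟨j, hj⟩).2).1
        obtain ⟨t', ht'⟩ := hpow _ hp t
        refine ⟨_, ⟨h8xG D (h8base_all.{u} D hD7) (D.simple (ρ.symm ⟨j, hj⟩)) t', rfl⟩, ?_⟩
        rw [hψ _ hp, (hρ (ρ.symm ⟨j, hj⟩)).1, Equiv.apply_symm_apply, ht']
        rfl
      · intro j hj t
        have hp := hW.neglt _ (h8simple_pos D hBN _ (ρ.symm ⟨j, hj⟩).2).1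
        obtain ⟨t', ht'⟩ := hpow _ hp t
        refine ⟨_, ⟨h8xG D (h8base_all.{u} D hD7)
          (D.negIdx.getD (D.simple (ρ.symm ⟨j, hj⟩)) 0) t', rfl⟩, ?_⟩
        rw [hψ _ hp, (hρ (ρ.symm ⟨j, hj⟩)).2.1, Equiv.apply_symm_apply, ht']
        rfl
    intro y
    obtain ⟨z, ⟨x, hx⟩, hzy⟩ := hle y.2
    refine ⟨x, ?_⟩
    rw [hx]
    exact Subtype.ext hzy
  have hfin : Finite ↥(D.group K) := inferInstance
  have hbij : Function.Bijective ψ := ⟨Finite.injective_iff_surjective.mpr hsurj, hsurj⟩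
  refine ⟨MulEquiv.ofBijective ψ hbij, ?_, ?_⟩
  · apply h8av_mem_A0_of_root D (h8base_all.{u} D hD7)
    · intro r hr t
      exact ⟨π r, _, (h8posChk_spec D π hpos r).1 hr, hψ r hr.1 t⟩
    · intro r hr t
      exact ⟨π r, _, (h8posChk_spec D π hpos r).2 hr, hψ r hr.1 t⟩
  · intro i t
    obtain ⟨h1, h2, h3, h4⟩ := hρ i
    have hp := (h8simple_pos D hBN _ i.2).1
    constructor
    · show ψ _ = _
      rw [hψ _ hp, h1, h3, hchar]
      congr 1
      simp
    · show ψ _ = _
      rw [hψ _ (hW.neglt _ hp), h2, h4, hchar]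
      congr 1
      simp

end Cfsg.Agent.Lib.helper8
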