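import Mathlib
import Cfsg.Prelude.Def_ChevG2
import Cfsg.Agent.Lib.helper8.ChevAW2

set_option autoImplicit false

namespace Cfsg.Agent.Lib.helper8

open Cfsg.Lie Cfsg.Lie.ChevalleyDatum

/-- the permutation of the roots of `G₂` exchanging long and short roots -/
def h8exP_G2 : List ℕ := [2, 3, 0, 1, 5, 4, 7, 6, 10, 11, 8, 9]

/-- the exponents of the exceptional isogeny of `G₂` in characteristic `3` -/
def h8exL_G2 : List ℕ := [1, 1, 3, 3, 3, 1, 1, 3, 3, 3, 1, 1]

theorem h8exChk_G2 :
    h8exChk chevG2 3 (fun r => h8exP_G2.getD r 0) (fun r => h8exL_G2.getD r 0) = true := by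
  decide +kernel

end Cfsg.Agent.Lib.helper8
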