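import Mathlib
import Cfsg.Prelude.Def_ChevF4
import Cfsg.Agent.Lib.helper8.ChevAW2

set_option autoImplicit false

namespace Cfsg.Agent.Lib.helper8

open Cfsg.Lie Cfsg.Lie.ChevalleyDatum

/-- the permutation of the roots of `F₄` exchanging long and short roots -/
def h8exP_F4 : List ℕ := [3, 7, 8, 0, 9, 11, 18, 1, 2, 4, 15, 5, 16, 21, 23, 10, 12, 19, 6, 17, 22,
  13, 20, 14, 33, 27, 34, 25, 30, 41, 28, 35, 37, 24, 26, 31, 42, 32, 43, 45, 46, 29, 36, 38, 47,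
  39, 40, 44]

/-- the exponents of the exceptional isogeny of `F₄` in characteristic `2` -/
def h8exL_F4 : List ℕ := [1, 1, 1, 2, 1, 1, 1, 2, 2, 2, 2, 2, 2, 2, 2, 1, 1, 1, 2, 2, 2, 1, 1, 1, 1,
  1, 1, 2, 2, 2, 1, 1, 1, 2, 2, 2, 2, 2, 2, 2, 2, 1, 1, 1, 2, 1, 1, 1]

theorem h8exChk_F4 :
    h8exChk chevF4 2 (fun r => h8exP_F4.getD r 0) (fun r => h8exL_F4.getD r 0) = true := by
  decide +kernel

end Cfsg.Agent.Lib.helper8
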