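import Mathlib
import Cfsg.Prelude.Def_ChevAutomorphisms
import Cfsg.Agent.Lib.helper8.ChevAV9

set_option autoImplicit false

namespace Cfsg.Agent.Lib.helper8

open Cfsg.Lie Cfsg.Lie.ChevalleyDatum

universe u

variable {F : Type u} [Field F]

/-- the relation between the exponents of a standard form and the Cartan integers -/
theorem h8av_std_rel [Finite F] (D : ChevalleyDatum)
    (hD : D ∈ [chevG2, chevB2, chevD4, chevF4, chevE6, chevE7, chevE8])
    (θ : ↥(D.group F) ≃* ↥(D.group F)) (ρ : Equiv.Perm (Fin D.rank))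
    (c : Fin D.rank → Fˣ) (σ : F ≃+* F) (h : H8Std D (h8base_all.{u} D hD) θ ρ c σ)
    (i j : Fin D.rank) (x : F) (hx : x ≠ 0) :
    (x ^ D.graphExp (ringChar F) i (ρ i)) ^ (D.cartan (ρ i) (D.simple (ρ j))) =
      (x ^ D.graphExp (ringChar F) j (ρ j)) ^ (D.cartan i (D.simple j)) := by
  have hθ : H8AuData D (h8base_all.{u} D hD) θ ρ
      (fun i t => (c i : F) * (σ t) ^ D.graphExp (ringChar F) i (ρ i))
      (fun i t => (((c i)⁻¹ : Fˣ) : F) * (σ t) ^ D.graphExp (ringChar F) i (ρ i)) :=
    ⟨fun i t => (h i t).1, fun i t => (h i t).2⟩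
  obtain ⟨σs, hf, -, -, hrel⟩ := h8au_sigma D hD θ ρ _ _ hθ
  have hσs : ∀ i t, σs i t = (σ t) ^ D.graphExp (ringChar F) i (ρ i) := by
    intro i t
    have h1 := hf i t
    simp only [map_one, one_pow, mul_one] at h1
    exact (mul_left_cancel₀ (Units.ne_zero (c i)) h1).symm
  have h2 := hrel i j (σ.symm x) (by
    intro h0
    apply hx
    have := congrArg σ h0
    rwa [RingEquiv.apply_symm_apply, map_zero] at this)
  rw [hσs, hσs, RingEquiv.apply_symm_apply] at h2
  exact h2

/-- additivity of the cube forces characteristic `3` -/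
theorem h8av_char_three [Fintype F] (p : ℕ) [Fact p.Prime] [CharP F p]
    (hq : 3 ≤ Fintype.card F) (h : ∀ x : F, x ≠ 0 → x ^ p = x ^ 3) : p = 3 := by
  classical
  -- an element different from `0` and `-1`
  have hex : ∃ x : F, x ≠ 0 ∧ x + 1 ≠ 0 := by
    by_contra hcon
    push Not at hcon
    have hsub : (Finset.univ : Finset F) ⊆ {0, -1} := by
      intro x _
      by_cases hx : x = 0
      · simp [hx]
      · have := hcon x hx
        have : x = -1 := eq_neg_of_add_eq_zero_left this
        simp [this]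
    have := Finset.card_le_card hsub
    rw [Finset.card_univ] at this
    have h2 : ({0, -1} : Finset F).card ≤ 2 := Finset.card_le_two
    omega
  obtain ⟨x, hx0, hx1⟩ := hex
  have e1 : (x + 1) ^ 3 = x ^ 3 + 1 := by
    rw [← h (x + 1) hx1, add_pow_char, one_pow, h x hx0]
  have e2 : (3 : F) * (x * (x + 1)) = 0 := by
    have : (x + 1) ^ 3 - (x ^ 3 + 1) = 3 * (x * (x + 1)) := by ring
    rw [← this, e1, sub_self]
  have e3 : (3 : F) = 0 := by
    rcases mul_eq_zero.mp e2 with h3 | h3
    · exact h3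
    · exact absurd h3 (mul_ne_zero hx0 hx1)
  have e4 : ((3 : ℕ) : F) = 0 := by exact_mod_cast e3
  have hdvd := (CharP.cast_eq_zero_iff F p 3).mp e4
  exact (Nat.prime_dvd_prime_iff_eq (Fact.out : p.Prime) Nat.prime_three).mp hdvd

/-- additivity of the square forces characteristic `2` -/
theorem h8av_char_two (p : ℕ) [Fact p.Prime] [CharP F p]
    (h : ∀ x : F, x ≠ 0 → x ^ p = x ^ 2) : p = 2 := by
  by_contra hp
  have h2 : (2 : F) ≠ 0 := by
    intro e
    have e4 : ((2 : ℕ) : F) = 0 := by exact_mod_cast e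
    have hdvd := (CharP.cast_eq_zero_iff F p 2).mp e4
    exact hp ((Nat.prime_dvd_prime_iff_eq (Fact.out : p.Prime) Nat.prime_two).mp hdvd)
  have e1 : (2 : F) ^ p = 2 := by
    have : (2 : F) = 1 + 1 := by norm_num
    rw [this, add_pow_char, one_pow]
  have e2 := h 2 h2
  rw [e1] at e2
  have e3 : (2 : F) * (2 - 1) = 0 := by
    have : (2 : F) * (2 - 1) = 2 ^ 2 - 2 := by ring
    rw [this, ← e2, sub_self]
  rcases mul_eq_zero.mp e3 with h3 | h3
  · exact h2 h3
  · have : (1 : F) = 0 := by
      have : (2 : F) - 1 = 1 := by norm_num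
      rw [this] at h3
      exact h3
    exact one_ne_zero this

end Cfsg.Agent.Lib.helper8
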