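import Mathlib
import Cfsg.Prelude.Def_ChevAutomorphisms
import Cfsg.Prelude.Def_KGroupFacts
import Cfsg.Agent.Lib.helper8.ChevAW3
import Cfsg.Agent.Lib.helper8.ChevAW4
import Cfsg.Agent.Lib.helper8.ChevAW6

set_option autoImplicit false

namespace Cfsg.Agent.Lib.helper8

open Cfsg.Lie Cfsg.Lie.ChevalleyDatum

universe u

variable {F : Type u} [Field F]

/-- the symmetry of the `G₂` diagram -/
def h8rhoG2 : Equiv.Perm (Fin chevG2.rank) := Equiv.swap ⟨0, by decide⟩ ⟨1, by decide⟩

theorem h8rhoG2_ne : h8rhoG2 ≠ 1 := by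
  intro h
  have := congrArg (fun ρ : Equiv.Perm (Fin chevG2.rank) => (ρ ⟨0, by decide⟩).val) h
  revert this
  decide +kernel

theorem h8permG2 (ρ : Equiv.Perm (Fin chevG2.rank)) : ρ = 1 ∨ ρ = h8rhoG2 := by
  have h0 : ∀ a b : Fin chevG2.rank, a ≠ b →
      (a = ⟨0, by decide⟩ ∧ b = ⟨1, by decide⟩) ∨ (a = ⟨1, by decide⟩ ∧ b = ⟨0, by decide⟩) := by
    decide +kernel
  have hne : ρ ⟨0, by decide⟩ ≠ ρ ⟨1, by decide⟩ := by
    intro h
    have := ρ.injective h
    revert this
    decide +kernel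
  have hcases : ∀ i : Fin chevG2.rank, i = ⟨0, by decide⟩ ∨ i = ⟨1, by decide⟩ := by
    decide +kernel
  rcases h0 _ _ hne with ⟨e0, e1⟩ | ⟨e0, e1⟩
  · left
    apply Equiv.ext
    intro i
    rcases hcases i with rfl | rfl
    · rw [e0]; rfl
    · rw [e1]; rfl
  · right
    apply Equiv.ext
    intro i
    rcases hcases i with rfl | rfl
    · rw [e0]; rfl
    · rw [e1]; rfl

theorem h8posChk_exG2 : h8posChk chevG2 (fun r => h8exP_G2.getD r 0) = true := by
  decide +kernel

theorem h8exRho_G2 : ∀ i : Fin chevG2.rank,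
    h8exP_G2.getD (chevG2.simple i) 0 = chevG2.simple (h8rhoG2 i) ∧
    h8exP_G2.getD (chevG2.negIdx.getD (chevG2.simple i) 0) 0 =
      chevG2.negIdx.getD (chevG2.simple (h8rhoG2 i)) 0 ∧
    h8exL_G2.getD (chevG2.simple i) 0 = chevG2.graphExp 3 i (h8rhoG2 i) ∧
    h8exL_G2.getD (chevG2.negIdx.getD (chevG2.simple i) 0) 0 =
      chevG2.graphExp 3 i (h8rhoG2 i) := by
  decide +kernel

theorem h8G2_data : chevG2.rank = 2 ∧
    (∀ c : ℕ, chevG2.graphExp c (0 : ℕ) (1 : ℕ) = c) ∧
    (∀ c : ℕ, chevG2.graphExp c (1 : ℕ) (0 : ℕ) = 1) ∧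
    chevG2.cartan 1 (chevG2.simple 0) = -1 ∧ chevG2.cartan 0 (chevG2.simple 1) = -3 ∧
    ((h8rhoG2 ⟨0, by decide⟩ : Fin chevG2.rank) : ℕ) = 1 ∧
    ((h8rhoG2 ⟨1, by decide⟩ : Fin chevG2.rank) : ℕ) = 0 := by
  refine ⟨rfl, ?_, ?_, by decide +kernel, by decide +kernel, by decide +kernel, by decide +kernel⟩
  · intro c
    unfold ChevalleyDatum.graphExp
    rw [if_pos (by decide +kernel)]
  · intro c
    unfold ChevalleyDatum.graphExp
    rw [if_neg (by decide +kernel)]

/-- the outer automorphism group of `G₂(q)` -/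
theorem h8out_G2 [Fintype F] (p f : ℕ) [Fact p.Prime] [CharP F p] (hF : Fintype.card F = p ^ f)
    (hq : 3 ≤ p ^ f) :
    Nat.card (Cfsg.Out ↥(chevG2.group F)) = (if p = 3 then 2 * f else f) := by
  classical
  have hD : chevG2 ∈ [chevG2, chevB2, chevD4, chevF4, chevE6, chevE7, chevE8] := by simp
  have hD3 : chevG2 ∈ [chevG2, chevF4, chevE8] := by simp
  have hH : 1 * Nat.card ↥(chevG2.diagonalSubgroup F) = (Fintype.card F - 1) ^ chevG2.rank := by
    rw [one_mul]
    exact h8H_card_G2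
  by_cases hp : p = 3
  · subst hp
    rw [if_pos rfl]
    obtain ⟨α, hα1, hα2⟩ := h8av_graph_ex (K := F) chevG2 hD3 hD 3 _ _ h8exChk_G2 h8posChk_exG2
      h8rhoG2 h8exRho_G2
    have h := h8av_out_count chevG2 hD {1, h8rhoG2}
      (fun ρ => if ρ.val = 1 then 1 else α)
      (fun ρ => by
        by_cases h1 : ρ.val = 1
        · rw [if_pos h1, h1]
          exact ⟨Subgroup.one_mem _, h8av_std_one chevG2 hD⟩
        · rw [if_neg h1]
          have h2 : ρ.val = h8rhoG2 := by
            rcases ρ.2 with h | h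
            · exact absurd h h1
            · exact h
          rw [h2]
          exact ⟨hα1, hα2⟩)
      (fun θ _ ρ c σ _ => by
        rcases h8permG2 ρ with h | h
        · left; exact h
        · right; exact h)
      3 f hF 1 hH
    rw [h, Nat.card_coe_set_eq, Set.ncard_pair (Ne.symm h8rhoG2_ne)]
  · rw [if_neg hp]
    have h := h8av_out_count chevG2 hD {1} (fun _ => 1)
      (fun ρ => ⟨Subgroup.one_mem _, by
        have : ρ.val = 1 := ρ.2
        rw [this]
        exact h8av_std_one chevG2 hD⟩)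
      (fun θ _ ρ c σ hstd => by
        rcases h8permG2 ρ with h | h
        · exact h
        · exfalso
          apply hp
          have hchar : ringChar F = p := ringChar.eq F p
          obtain ⟨-, g1, g2, c1, c2, r0, r1⟩ := h8G2_data
          apply h8av_char_three (F := F) p (by rw [hF]; exact hq)
          intro x hx
          have hrel := h8av_std_rel chevG2 hD θ ρ c σ hstd ⟨0, by decide⟩ ⟨1, by decide⟩ x hx
          rw [h, hchar] at hrel
          simp only [r0, r1, g1, g2, c1, c2] at hrel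
          rw [zpow_neg, zpow_neg, zpow_one, inv_inj, pow_one] at hrel
          rw [hrel]
          norm_cast)
      p f hF 1 hH
    rw [h]
    simp

end Cfsg.Agent.Lib.helper8
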