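import Mathlib
import Cfsg.Prelude.Def_ChevAutomorphisms
import Cfsg.Prelude.Def_KGroupFacts
import Cfsg.Agent.Lib.helper8.ChevAW3
import Cfsg.Agent.Lib.helper8.ChevAW5
import Cfsg.Agent.Lib.helper8.ChevAW6
import Cfsg.Agent.Lib.helper8.ChevAW8a

set_option autoImplicit false

namespace Cfsg.Agent.Lib.helper8

open Cfsg.Lie Cfsg.Lie.ChevalleyDatum

universe u

variable {F : Type u} [Field F]

theorem h8posChk_exF4 : h8posChk chevF4 (fun r => h8exP_F4.getD r 0) = true := by
  decide +kernel

theorem h8exRho_F4 : ∀ i : Fin chevF4.rank,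
    h8exP_F4.getD (chevF4.simple i) 0 = chevF4.simple (h8rhoF4 i) ∧
    h8exP_F4.getD (chevF4.negIdx.getD (chevF4.simple i) 0) 0 =
      chevF4.negIdx.getD (chevF4.simple (h8rhoF4 i)) 0 ∧
    h8exL_F4.getD (chevF4.simple i) 0 = chevF4.graphExp 2 i (h8rhoF4 i) ∧
    h8exL_F4.getD (chevF4.negIdx.getD (chevF4.simple i) 0) 0 =
      chevF4.graphExp 2 i (h8rhoF4 i) := by
  decide +kernel

theorem h8F4_data : chevF4.rank = 4 ∧
    (∀ c : ℕ, chevF4.graphExp c (1 : ℕ) (2 : ℕ) = c) ∧
    (∀ c : ℕ, chevF4.graphExp c (2 : ℕ) (1 : ℕ) = 1) ∧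
    chevF4.cartan 2 (chevF4.simple 1) = -1 ∧ chevF4.cartan 1 (chevF4.simple 2) = -2 := by
  refine ⟨rfl, ?_, ?_, by decide +kernel, by decide +kernel⟩
  · intro c
    unfold ChevalleyDatum.graphExp
    rw [if_pos (by decide +kernel)]
  · intro c
    unfold ChevalleyDatum.graphExp
    rw [if_neg (by decide +kernel)]

/-- the outer automorphism group of `F₄(q)` -/
theorem h8out_F4 [Fintype F] (p f : ℕ) [Fact p.Prime] [CharP F p]
    (hF : Fintype.card F = p ^ f) :
    Nat.card (Cfsg.Out ↥(chevF4.group F)) = Nat.gcd 2 p * f := by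
  classical
  have hD : chevF4 ∈ [chevG2, chevB2, chevD4, chevF4, chevE6, chevE7, chevE8] := by simp
  have hD3 : chevF4 ∈ [chevG2, chevF4, chevE8] := by simp
  have hH : 1 * Nat.card ↥(chevF4.diagonalSubgroup F) = (Fintype.card F - 1) ^ chevF4.rank := by
    rw [one_mul]
    exact h8H_card_F4
  by_cases hp : p = 2
  · subst hp
    obtain ⟨α, hα1, hα2⟩ := h8av_graph_ex (K := F) chevF4 hD3 hD 2 _ _ h8exChk_F4 h8posChk_exF4
      h8rhoF4 h8exRho_F4
    have h := h8av_out_count chevF4 hD {1, h8rhoF4}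
      (fun ρ => if ρ.val = 1 then 1 else α)
      (fun ρ => by
        by_cases h1 : ρ.val = 1
        · rw [if_pos h1, h1]
          exact ⟨Subgroup.one_mem _, h8av_std_one chevF4 hD⟩
        · rw [if_neg h1]
          have h2 : ρ.val = h8rhoF4 := by
            rcases ρ.2 with h | h
            · exact absurd h h1
            · exact h
          rw [h2]
          exact ⟨hα1, hα2⟩)
      (fun θ _ ρ c σ hstd => by
        rcases h8symF4 ρ (h8av_std_sym chevF4 hD θ ρ c σ hstd) with h | h
        · left; exact h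
        · right; exact h)
      2 f hF 1 hH
    rw [h, Nat.card_coe_set_eq, Set.ncard_pair (Ne.symm h8rhoF4_ne)]
    simp
  · have hg : Nat.gcd 2 p = 1 :=
      (Nat.coprime_primes Nat.prime_two (Fact.out : p.Prime)).mpr (Ne.symm hp)
    rw [hg, one_mul]
    have h := h8av_out_count chevF4 hD {1} (fun _ => 1)
      (fun ρ => ⟨Subgroup.one_mem _, by
        have : ρ.val = 1 := ρ.2
        rw [this]
        exact h8av_std_one chevF4 hD⟩)
      (fun θ _ ρ c σ hstd => by
        rcases h8symF4 ρ (h8av_std_sym chevF4 hD θ ρ c σ hstd) with h | h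
        · exact h
        · exfalso
          apply hp
          have hchar : ringChar F = p := ringChar.eq F p
          obtain ⟨-, g1, g2, c1, c2⟩ := h8F4_data
          obtain ⟨-, v1, v2, -⟩ := h8rhoF4_val
          apply h8av_char_two (F := F) p
          intro x hx
          have hrel := h8av_std_rel chevF4 hD θ ρ c σ hstd ⟨1, by decide⟩ ⟨2, by decide⟩ x hx
          rw [h, hchar] at hrel
          simp only [v1, v2, g1, g2, c1, c2] at hrel
          rw [zpow_neg, zpow_neg, zpow_one, inv_inj, pow_one] at hrel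
          rw [hrel]
          norm_cast)
      p f hF 1 hH
    rw [h]
    simp

end Cfsg.Agent.Lib.helper8
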