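import Mathlib
import Cfsg.Prelude.Def_ChevAutomorphisms
import Cfsg.Prelude.Def_KGroupFacts
import Cfsg.Agent.Lib.helper8.ChevAX6

set_option autoImplicit false

namespace Cfsg.Agent.Lib.helper8

open Cfsg.Lie Cfsg.Lie.ChevalleyDatum

universe u

variable {F : Type u} [Field F]

/-- the structure of the outer automorphism group of a Chevalley group -/
theorem h8out_structure [Finite F] (D : ChevalleyDatum)
    (hD : D ∈ [chevG2, chevB2, chevD4, chevF4, chevE6, chevE7, chevE8])
    (Dbar Fbar : Subgroup (Cfsg.Out ↥(D.group F)))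
    (hDbar : Dbar = (Subgroup.closure {φ : MulAut ↥(D.group F) | D.IsDiagonalAut φ}).map
      (QuotientGroup.mk' (Cfsg.Inn ↥(D.group F))))
    (hFbar : Fbar = (Subgroup.closure {φ : MulAut ↥(D.group F) | D.IsFieldAut φ}).map
      (QuotientGroup.mk' (Cfsg.Inn ↥(D.group F)))) :
    Dbar.Normal ∧ IsMulCommutative ↥Dbar ∧ IsCyclic ↥Fbar ∧ (Dbar ⊔ Fbar).Normal ∧
      ((Dbar ⊔ Fbar).index = 1 ∨ (Dbar ⊔ Fbar).index = 2 ∨
        ((Dbar ⊔ Fbar).index = 6 ∧ ¬ commutator (Cfsg.Out ↥(D.group F)) ≤ Dbar ⊔ Fbar)) := by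
  subst hDbar hFbar
  refine ⟨h8ax_Dbar_normal D hD, h8ax_Dbar_comm D hD, h8ax_Fbar_cyclic D hD, ?_, ?_⟩
  · rw [h8ax_ker_eq D hD]
    exact MonoidHom.normal_ker _
  · rw [h8ax_index D hD, h8ax_ker_eq D hD]
    have hD' := hD
    simp only [List.mem_cons, List.mem_nil_iff, or_false] at hD'
    rcases hD' with rfl | rfl | rfl | rfl | rfl | rfl | rfl
    · rcases h8ax_index_le_two (F := F) chevG2 hD Set.univ (h8perm2_ncard _ rfl)
        (fun _ _ => Set.mem_univ _) with h | h
      · exact Or.inl h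
      · exact Or.inr (Or.inl h)
    · rcases h8ax_index_le_two (F := F) chevB2 hD Set.univ (h8perm2_ncard _ rfl)
        (fun _ _ => Set.mem_univ _) with h | h
      · exact Or.inl h
      · exact Or.inr (Or.inl h)
    · exact Or.inr (Or.inr ⟨h8ax_D4_card hD, h8ax_D4_noncomm hD⟩)
    · rcases h8ax_index_le_two (F := F) chevF4 hD {1, h8rhoF4}
        (by rw [Set.ncard_pair (Ne.symm h8rhoF4_ne)])
        (fun ρ hρ => by
          rcases h8symF4 ρ hρ with h | h
          · left; exact h
          · right; exact h) with h | h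
      · exact Or.inl h
      · exact Or.inr (Or.inl h)
    · rcases h8ax_index_le_two (F := F) chevE6 hD {1, h8rhoE6}
        (by rw [Set.ncard_pair (Ne.symm h8rhoE6_ne)])
        (fun ρ hρ => by
          rw [← h8symE6_set]
          exact hρ) with h | h
      · exact Or.inl h
      · exact Or.inr (Or.inl h)
    · rcases h8ax_index_le_two (F := F) chevE7 hD {1}
        (by rw [Set.ncard_singleton]; norm_num)
        (fun ρ hρ => h8sym_E7 ρ hρ) with h | h
      · exact Or.inl h
      · exact Or.inr (Or.inl h)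
    · rcases h8ax_index_le_two (F := F) chevE8 hD {1}
        (by rw [Set.ncard_singleton]; norm_num)
        (fun ρ hρ => h8sym_E8 ρ hρ) with h | h
      · exact Or.inl h
      · exact Or.inr (Or.inl h)

end Cfsg.Agent.Lib.helper8
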