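import Mathlib
import Cfsg.Prelude.Def_ChevStructure
import Cfsg.Agent.Lib.helper8.ChevAY19

set_option autoImplicit false

namespace Cfsg.Agent.Lib.helper8

open Cfsg.Lie Cfsg.Lie.ChevalleyDatum

universe u

variable {K : Type u} [Field K]

section
variable (D : ChevalleyDatum) (hB : H8Base.{u} D) (f : K ≃+* K)
  (hC : H8CommAll.{u} D) (hBN : H8BN D) (hW : H8BN2 D) (hO2 : H8Ord2 D) (hA : H8ReflAll D)
  (hsc : h8scChk D = true) (hc2 : ∀ i < D.rank, D.cartan i (D.simple i) = 2)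
  (hS : h8scommChk D = true)

include hC hBN in
/-- the positive orbit products of two lists of nodes whose simple root subgroups commute
commute -/
theorem h8ay_Xp_Xp_comm (L L' : List ℕ) (hL : ∀ k ∈ L, k < D.rank) (hL' : ∀ k ∈ L', k < D.rank)
    (hcomm : ∀ j ∈ L, ∀ j' ∈ L', D.commTerms (D.simple j) (D.simple j') = [] ∧
      D.simple j' ≠ D.simple j ∧ D.simple j' ≠ D.negIdx.getD (D.simple j) 0) (a c : K) :
    h8ayXp D hB f L a * h8ayXp D hB f L' c = h8ayXp D hB f L' c * h8ayXp D hB f L a := by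
  have h1 := h8ayXp_mem_Lp D hB f L a
  have h2 := h8ayXp_mem_Lp D hB f L' c
  refine h8ay_closure_commute _ _ ?_ _ h1 _ h2
  rintro x ⟨r, ⟨j, hj, rfl⟩, t, rfl⟩ y ⟨r', ⟨j', hj', rfl⟩, t', rfl⟩
  obtain ⟨e1, e2, e3⟩ := hcomm j hj j' hj'
  exact h8xU_commute D hB hC _ _ (h8simple_pos D hBN j (hL j hj)).1
    (h8simple_pos D hBN j' (hL' j' hj')).1 e2 e3 e1 t t'

variable (posi : ℕ → ℕ) (hK : H8Blk D posi) (hR : H8BlkRead D posi)
  (σ : ℕ → ℕ) (η : ℕ → ℤ) (p : ℕ → ℕ)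

include hC hBN hW hO2 hA hS hK hR in
/-- the positive orbit products of two orbits joined in the twisted diagram do not commute -/
theorem h8ay_not_comm (L L' : List ℕ) (i i' : ℕ) (O : H8AyOrb D posi σ η p L i)
    (O' : H8AyOrb D posi σ η p L' i') (hdis : ∀ k ∈ L, k ∉ L')
    (hadj : ∀ j ∈ L', D.IsPosRoot (h8sW D L (D.simple j)) ∧
      i' + 1 ≤ posi (h8sW D L (D.simple j)))
    (a c : K) (ha : a ≠ 0)
    (hcomm : h8ayXp D hB f L a * h8ayXp D hB f L' c =
      h8ayXp D hB f L' c * h8ayXp D hB f L a) : c = 0 := by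
  set n := h8ayXp D hB f L a * h8ayXm D hB f L (-a⁻¹) * h8ayXp D hB f L a with hn
  have hWn : n = h8ayHH D hB f L a * h8nWU D hB L :=
    h8ay_W D hB f hC hBN hW L O.lt O.orth a
  have hcm := h8ay_Xm_Xp_comm D hB f hC hBN hW hS L L' O.lt O'.lt hdis (-a⁻¹) c
  have hnc : n * h8ayXp D hB f L' c * n⁻¹ = h8ayXp D hB f L' c := by
    have : n * h8ayXp D hB f L' c = h8ayXp D hB f L' c * n := by
      rw [hn]
      calc h8ayXp D hB f L a * h8ayXm D hB f L (-a⁻¹) * h8ayXp D hB f L a *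
            h8ayXp D hB f L' c
          = h8ayXp D hB f L a * h8ayXm D hB f L (-a⁻¹) *
            (h8ayXp D hB f L a * h8ayXp D hB f L' c) := by group
        _ = h8ayXp D hB f L a * (h8ayXm D hB f L (-a⁻¹) * h8ayXp D hB f L' c) *
            h8ayXp D hB f L a := by rw [hcomm]; group
        _ = (h8ayXp D hB f L a * h8ayXp D hB f L' c) * h8ayXm D hB f L (-a⁻¹) *
            h8ayXp D hB f L a := by rw [hcm]; group
        _ = h8ayXp D hB f L' c * (h8ayXp D hB f L a * h8ayXm D hB f L (-a⁻¹) *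
            h8ayXp D hB f L a) := by rw [hcomm]; group
    rw [this, mul_inv_cancel_right]
  -- the action of `n` on the roots
  have hHH : h8ayHH D hB f L a ∈ D.diagonalSubgroup K := h8ayHH_mem D hB f hBN L O.lt a ha
  have hact : ∀ r, (∃ j ∈ L', r = D.simple j) →
      ∃ r', (D.IsPosRoot r' ∧ i' + 1 ≤ posi r') ∧ H8Act D hB n r r' := by
    rintro r ⟨j, hj, rfl⟩
    obtain ⟨hp, hle⟩ := hadj j hj
    refine ⟨_, ⟨hp, hle⟩, ?_⟩
    rw [hWn]
    exact h8act_mul D hB _ _ _ _ _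
      (h8nWU_act D hB hA L O.lt _ (h8simple_pos D hBN j (O'.lt j hj)).1)
      (h8perm_H_id D hB _ hHH _ hp.1)
  have hmem := h8ay_conj_gen D hB n _ _ hact _ (h8ayXp_mem_Lp D hB f L' c)
  rw [hnc] at hmem
  have hUb : h8ayXp D hB f L' c ∈ h8Ub D K posi (i' + 1) := by
    refine (Subgroup.closure_le _).mpr ?_ hmem
    rintro y ⟨r', ⟨hp, hle⟩, t, rfl⟩
    exact h8xU_mem_Ub D hB posi (i' + 1) r' hp hle t
  -- the block coordinates
  have h1 : h8ayXp D hB f L' c ∈ Subgroup.closure (h8XbSet D K posi i') := by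
    have h1' := h8ayXp_mem_Lp D hB f L' c
    rw [h8ay_Lp_eq (K := K) D hB L'] at h1'
    refine Subgroup.closure_mono ?_ h1'
    rintro g ⟨j, hj, t, rfl⟩
    refine ⟨D.simple j, t, ?_, h8xU_val D hB _ t⟩
    exact O'.blk.subset (List.mem_map.mpr ⟨j, hj, rfl⟩)
  obtain ⟨t, ht⟩ := h8Xb_eq D hB hC hBN hO2 posi hK i' _ h1
  have huniq := h8Ub_unique D hB hC hBN hO2 posi hK hR i' t (fun _ => 0) 1
    (h8ayXp D hB f L' c) (Subgroup.one_mem _) hUb (by rw [mul_one, h8Pb_zero, one_mul, ht])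
  have h0 : h8ayXp D hB f L' c = 1 := by
    rw [ht, h8Pb_congr D hB _ t (fun _ => 0) huniq, h8Pb_zero]
  rw [← h8ayXp_zero D hB f L'] at h0
  exact h8ayXp_inj D hB f hC hBN hW hO2 hA L' O'.lt O'.orth O'.ne _ _ h0

end

end Cfsg.Agent.Lib.helper8
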