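import Mathlib
import Cfsg.Prelude.Def_ChevStructure
import Cfsg.Agent.Lib.helper8.ChevAY20

set_option autoImplicit false

namespace Cfsg.Agent.Lib.helper8

open Cfsg.Lie Cfsg.Lie.ChevalleyDatum

universe u

variable {K : Type u} [Field K]

section
variable {D : ChevalleyDatum} {hB : H8Base.{u} D} {posi : ℕ → ℕ}
  {σ τ π ϖ : ℕ → ℕ} {η : ℕ → ℤ} {hAut : H8Aut D σ τ π ϖ η} {f : K ≃+* K}
  {orbs : List (List (Fin D.rank))} {G1 : Subgroup (GL D.Idx K)}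
  (X : H8AyCtx D hB posi σ τ π ϖ η hAut f orbs G1)

include X

/-- the positive orbit products of two orbits whose simple root subgroups commute commute -/
theorem h8ayc_comm (J J' : List (Fin D.rank)) (hJ : J ∈ orbs) (hJ' : J' ∈ orbs)
    (hcomm : ∀ j ∈ J.map Fin.val, ∀ j' ∈ J'.map Fin.val,
      D.commTerms (D.simple j) (D.simple j') = [] ∧
      D.simple j' ≠ D.simple j ∧ D.simple j' ≠ D.negIdx.getD (D.simple j) 0) (a c : K) :
    h8ayXp D hB f (J.map Fin.val) a * h8ayXp D hB f (J'.map Fin.val) c =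
      h8ayXp D hB f (J'.map Fin.val) c * h8ayXp D hB f (J.map Fin.val) a := by
  obtain ⟨i, O⟩ := X.hOrb J hJ
  obtain ⟨i', O'⟩ := X.hOrb J' hJ'
  exact h8ay_Xp_Xp_comm D hB f X.hC X.hBN _ _ O.lt O'.lt hcomm a c

/-- the positive orbit products of two orbits joined in the twisted diagram do not commute -/
theorem h8ayc_not_comm (J J' : List (Fin D.rank)) (hJ : J ∈ orbs) (hJ' : J' ∈ orbs)
    (hne : J ≠ J')
    (hadj : ∀ j ∈ J'.map Fin.val, D.IsPosRoot (h8sW D (J.map Fin.val) (D.simple j)) ∧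
      ∀ j'' ∈ J'.map Fin.val,
        posi (D.simple j'') + 1 ≤ posi (h8sW D (J.map Fin.val) (D.simple j)))
    (a c : K) (ha : a ≠ 0)
    (hcomm : h8ayXp D hB f (J.map Fin.val) a * h8ayXp D hB f (J'.map Fin.val) c =
      h8ayXp D hB f (J'.map Fin.val) c * h8ayXp D hB f (J.map Fin.val) a) : c = 0 := by
  obtain ⟨i, O⟩ := X.hOrb J hJ
  obtain ⟨i', O'⟩ := X.hOrb J' hJ'
  have hdis : ∀ k ∈ J.map Fin.val, k ∉ J'.map Fin.val := by
    intro k hk hk'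
    obtain ⟨j, hj, rfl⟩ := List.mem_map.mp hk
    obtain ⟨j', hj', hjj⟩ := List.mem_map.mp hk'
    have : j' = j := Fin.ext hjj
    subst this
    exact hne (X.hdisj J hJ J' hJ' j' hj hj')
  refine h8ay_not_comm D hB f X.hC X.hBN X.hW X.hO2 X.hA X.hS posi X.hK X.hR σ η π _ _ i i' O O'
    hdis ?_ a c ha hcomm
  intro j hj
  obtain ⟨hp, hle⟩ := hadj j hj
  refine ⟨hp, ?_⟩
  have hmem : D.simple j ∈ h8Lb D posi i' := O'.blk.subset (List.mem_map.mpr ⟨j, hj, rfl⟩)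
  have := ((h8Lb_mem D posi i' _).mp hmem).2
  rw [← this]
  exact hle j hj

/-- an automorphism transfers the commutation of the orbit products -/
theorem h8ayc_transfer (θ : ↥G1 ≃* ↥G1) (J1 J2 J1' J2' : List (Fin D.rank))
    (hJ1 : J1 ∈ orbs) (hJ2 : J2 ∈ orbs)
    (h1 : ∀ (a : K), f^[J1.length] a = a → ∀ y : ↥G1,
      y.val = h8ayXp D hB f (J1.map Fin.val) a →
      ∃ c : K, f^[J1'.length] c = c ∧ (θ y).val = h8ayXp D hB f (J1'.map Fin.val) c)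
    (h2 : ∀ (a : K), f^[J2.length] a = a → ∀ y : ↥G1,
      y.val = h8ayXp D hB f (J2.map Fin.val) a →
      ∃ c : K, f^[J2'.length] c = c ∧ (θ y).val = h8ayXp D hB f (J2'.map Fin.val) c)
    (hcomm : h8ayXp D hB f (J1.map Fin.val) 1 * h8ayXp D hB f (J2.map Fin.val) 1 =
      h8ayXp D hB f (J2.map Fin.val) 1 * h8ayXp D hB f (J1.map Fin.val) 1) :
    ∃ a c : K, a ≠ 0 ∧ c ≠ 0 ∧
      h8ayXp D hB f (J1'.map Fin.val) a * h8ayXp D hB f (J2'.map Fin.val) c =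
        h8ayXp D hB f (J2'.map Fin.val) c * h8ayXp D hB f (J1'.map Fin.val) a := by
  have m1 := h8ayc_Xp_mem X J1 hJ1 1 (h8ay_iter_one f _)
  have m2 := h8ayc_Xp_mem X J2 hJ2 1 (h8ay_iter_one f _)
  obtain ⟨a, _, e1⟩ := h1 1 (h8ay_iter_one f _) ⟨_, m1⟩ rfl
  obtain ⟨c, _, e2⟩ := h2 1 (h8ay_iter_one f _) ⟨_, m2⟩ rfl
  have hnz : ∀ (J J' : List (Fin D.rank)) (hJ : J ∈ orbs)
      (m : h8ayXp D hB f (J.map Fin.val) 1 ∈ G1) (b : K),
      (θ ⟨_, m⟩).val = h8ayXp D hB f (J'.map Fin.val) b → b ≠ 0 := by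
    intro J J' hJ m b e hb
    rw [hb, h8ayXp_zero] at e
    have h3 : θ ⟨_, m⟩ = 1 := Subtype.ext e
    have h4 : (⟨_, m⟩ : ↥G1) = 1 := by
      rw [← θ.map_one] at h3
      exact θ.injective h3
    have h5 : h8ayXp D hB f (J.map Fin.val) 1 = 1 := congrArg Subtype.val h4
    rw [← h8ayXp_zero D hB f (J.map Fin.val)] at h5
    exact one_ne_zero (h8ayc_Xp_inj X J hJ _ _ h5)
  refine ⟨a, c, hnz J1 J1' hJ1 m1 a e1, hnz J2 J2' hJ2 m2 c e2, ?_⟩
  have h6 : (⟨_, m1⟩ : ↥G1) * ⟨_, m2⟩ = ⟨_, m2⟩ * ⟨_, m1⟩ := Subtype.ext hcomm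
  have h7 := congrArg (fun y => (θ y).val) h6
  simp only [map_mul, Subgroup.coe_mul] at h7
  rw [e1, e2] at h7
  exact h7

end

end Cfsg.Agent.Lib.helper8
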