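import Mathlib
import Cfsg.Prelude.Def_ChevStructure
import Cfsg.Prelude.Def_LieTwisted
import Cfsg.Agent.Lib.helper8.ChevTwE6C
import Cfsg.Agent.Lib.helper8.ChevAY21

set_option autoImplicit false

namespace Cfsg.Agent.Lib.helper8

open Cfsg.Lie Cfsg.Lie.ChevalleyDatum

universe u

variable {K : Type u} [Field K]

/-- the orbits of the nodes of `E₆` -/
def h8azEA : List (Fin chevE6.rank) := [⟨1, by decide⟩]
def h8azEB : List (Fin chevE6.rank) := [⟨3, by decide⟩]
def h8azEC : List (Fin chevE6.rank) := [⟨2, by decide⟩, ⟨4, by decide⟩]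
def h8azEE : List (Fin chevE6.rank) := [⟨0, by decide⟩, ⟨5, by decide⟩]

theorem h8azEA_mem : h8azEA ∈ h8orbsE6 := by simp [h8orbsE6, h8azEA]
theorem h8azEB_mem : h8azEB ∈ h8orbsE6 := by simp [h8orbsE6, h8azEB]
theorem h8azEC_mem : h8azEC ∈ h8orbsE6 := by simp [h8orbsE6, h8azEC]
theorem h8azEE_mem : h8azEE ∈ h8orbsE6 := by simp [h8orbsE6, h8azEE]

theorem h8azE_cases (J : List (Fin chevE6.rank)) (hJ : J ∈ h8orbsE6) :
    J = h8azEA ∨ J = h8azEB ∨ J = h8azEC ∨ J = h8azEE := by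
  simpa [h8orbsE6, h8azEA, h8azEB, h8azEC, h8azEE] using hJ

/-- the block of the simple roots of an orbit of `E₆` -/
def h8azBlkE6 (J : List (Fin chevE6.rank)) : ℕ :=
  match (J.map Fin.val).headD 0 with
  | 1 => 3
  | 3 => 2
  | 2 => 1
  | _ => 0

set_option maxRecDepth 8000 in
theorem h8azOrbE6 : ∀ J ∈ h8orbsE6,
    H8AyOrb chevE6 h8posiE6 h8sE6 h8eE6 h8pE6 (J.map Fin.val) (h8azBlkE6 J) := by
  intro J hJ
  rcases h8azE_cases J hJ with rfl | rfl | rfl | rfl
  all_goals exact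
      { lt := by decide
        ne := by decide
        orth := by decide +kernel
        nodup := by decide +kernel
        blk := by decide +kernel
        sim := by decide +kernel
        rot := by decide }

theorem h8azOppE6 : ∀ J ∈ h8orbsE6, (∀ j ∈ J, ∃ l ∈ J,
    h8sW chevE6 ((h8w0ksE6.map fun J => J.map Fin.val).flatten)
      (chevE6.negIdx.getD (chevE6.simple j.val) 0) = chevE6.simple l.val) ∧
    (∀ l ∈ J, ∃ j ∈ J,
    h8sW chevE6 ((h8w0ksE6.map fun J => J.map Fin.val).flatten)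
      (chevE6.negIdx.getD (chevE6.simple j.val) 0) = chevE6.simple l.val) := by
  decide +kernel

theorem h8azCartanE6 : chevE6.cartan 1 (chevE6.simple 3) = -1 ∧
    chevE6.cartan 3 (chevE6.simple 2) = -1 ∧ chevE6.cartan 3 (chevE6.simple 4) = -1 ∧
    chevE6.cartan 2 (chevE6.simple 0) = -1 ∧ chevE6.cartan 4 (chevE6.simple 0) = 0 ∧
    chevE6.cartan 2 (chevE6.simple 5) = 0 ∧ chevE6.cartan 4 (chevE6.simple 5) = -1 := by
  decide +kernel

theorem h8azPE6 : h8pE6 0 = 5 ∧ h8pE6 1 = 1 ∧ h8pE6 2 = 4 ∧ h8pE6 3 = 3 ∧ h8pE6 4 = 2 ∧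
    h8pE6 5 = 0 := by decide

/-- the pairs of orbits of `E₆` not joined in the twisted diagram -/
theorem h8azCommE6 : ∀ P ∈ [(h8azEA, h8azEC), (h8azEA, h8azEE), (h8azEB, h8azEE)],
    ∀ j ∈ P.1.map Fin.val, ∀ j' ∈ P.2.map Fin.val,
      chevE6.commTerms (chevE6.simple j) (chevE6.simple j') = [] ∧
      chevE6.simple j' ≠ chevE6.simple j ∧
      chevE6.simple j' ≠ chevE6.negIdx.getD (chevE6.simple j) 0 := by
  decide +kernel

/-- the orbits `{3}` and `{2, 4}` of `E₆` are joined in the twisted diagram -/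
theorem h8azAdjE6 : ∀ j ∈ h8azEC.map Fin.val,
    chevE6.IsPosRoot (h8sW chevE6 (h8azEB.map Fin.val) (chevE6.simple j)) ∧
    ∀ j'' ∈ h8azEC.map Fin.val, h8posiE6 (chevE6.simple j'') + 1 ≤
      h8posiE6 (h8sW chevE6 (h8azEB.map Fin.val) (chevE6.simple j)) := by
  decide +kernel

end Cfsg.Agent.Lib.helper8
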