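import Mathlib
import Cfsg.Prelude.Def_ChevStructure
import Cfsg.Prelude.Def_LieTwisted
import Cfsg.Agent.Lib.helper8.ChevAZ8

set_option autoImplicit false

namespace Cfsg.Agent.Lib.helper8

open Cfsg.Lie Cfsg.Lie.ChevalleyDatum

universe u

variable {K : Type u} [Field K]

/-- `²E₆(q)` is generated by the orbit products -/
theorem h8azGenE6 (hB : H8Base.{u} chevE6) (q : ℕ) (f : K ≃+* K) (hf : ∀ t, f t = t ^ q)
    (hff : ∀ t, f (f t) = t) :
    twistedE6 K q = Subgroup.closure (h8ayGen chevE6 hB f h8orbsE6) := by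
  obtain ⟨s0, s1, s2, s3, s4, s5, -⟩ := h8twE6_simdata
  have hn0 : chevE6.negIdx.getD 56 0 = 15 := by decide +kernel
  have hn1 : chevE6.negIdx.getD 46 0 = 25 := by decide +kernel
  have hn2 : chevE6.negIdx.getD 42 0 = 29 := by decide +kernel
  have hn3 : chevE6.negIdx.getD 39 0 = 32 := by decide +kernel
  have hn4 : chevE6.negIdx.getD 37 0 = 34 := by decide +kernel
  have hn5 : chevE6.negIdx.getD 36 0 = 35 := by decide +kernel
  apply le_antisymm
  · unfold twistedE6 ChevalleyDatum.genSubgroup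
    rw [Subgroup.closure_le]
    rintro g ⟨w, hw, hg⟩
    have hgw : g = h8wordU chevE6 hB w := Units.ext (hg.trans (h8wordU_val chevE6 hB w).symm)
    apply Subgroup.subset_closure
    rcases hw with ⟨t, ht, r, hr, rfl⟩ | ⟨t, rs, hrs, rfl⟩
    · rw [h8wordU_one] at hgw
      simp only [e6p2, e6m2, e6p4, e6m4, List.mem_cons, List.not_mem_nil, or_false] at hr
      have hft : f t = t := by rw [hf, ht]
      rcases hr with rfl | rfl | rfl | rfl
      · refine ⟨_, h8azEA_mem, t, hft, Or.inl ?_⟩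
        show g = h8xU chevE6 hB (chevE6.simple 1) t * 1
        rw [mul_one, s1, hgw]
      · refine ⟨_, h8azEA_mem, t, hft, Or.inr ?_⟩
        show g = h8xU chevE6 hB (chevE6.negIdx.getD (chevE6.simple 1) 0) t * 1
        rw [mul_one, s1, hn1, hgw]
      · refine ⟨_, h8azEB_mem, t, hft, Or.inl ?_⟩
        show g = h8xU chevE6 hB (chevE6.simple 3) t * 1
        rw [mul_one, s3, hgw]
      · refine ⟨_, h8azEB_mem, t, hft, Or.inr ?_⟩
        show g = h8xU chevE6 hB (chevE6.negIdx.getD (chevE6.simple 3) 0) t * 1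
        rw [mul_one, s3, hn3, hgw]
    · rw [h8wordU_two] at hgw
      simp only [e6p1, e6p6, e6m1, e6m6, e6p3, e6p5, e6m3, e6m5, List.mem_cons,
        List.not_mem_nil, or_false] at hrs
      rcases hrs with rfl | rfl | rfl | rfl
      · refine ⟨_, h8azEE_mem, t, hff t, Or.inl ?_⟩
        show g = h8xU chevE6 hB (chevE6.simple 0) t *
          (h8xU chevE6 hB (chevE6.simple 5) (f t) * 1)
        rw [mul_one, s0, s5, hgw, hf]
      · refine ⟨_, h8azEE_mem, t, hff t, Or.inr ?_⟩
        show g = h8xU chevE6 hB (chevE6.negIdx.getD (chevE6.simple 0) 0) t *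
          (h8xU chevE6 hB (chevE6.negIdx.getD (chevE6.simple 5) 0) (f t) * 1)
        rw [mul_one, s0, s5, hn0, hn5, hgw, hf]
      · refine ⟨_, h8azEC_mem, t, hff t, Or.inl ?_⟩
        show g = h8xU chevE6 hB (chevE6.simple 2) t *
          (h8xU chevE6 hB (chevE6.simple 4) (f t) * 1)
        rw [mul_one, s2, s4, hgw, hf]
      · refine ⟨_, h8azEC_mem, t, hff t, Or.inr ?_⟩
        show g = h8xU chevE6 hB (chevE6.negIdx.getD (chevE6.simple 2) 0) t *
          (h8xU chevE6 hB (chevE6.negIdx.getD (chevE6.simple 4) 0) (f t) * 1)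
        rw [mul_one, s2, s4, hn2, hn4, hgw, hf]
  · rw [Subgroup.closure_le]
    rintro g ⟨J, hJ, a, ha, hg⟩
    rcases h8azE_cases J hJ with rfl | rfl | rfl | rfl
    · have ha' : a ^ q = a := by
        rw [← hf]
        exact ha
      rcases hg with rfl | rfl
      · show h8xU chevE6 hB (chevE6.simple 1) a * 1 ∈ _
        rw [mul_one, s1]
        exact h8twE6_x1 hB q 46 (by simp) a ha'
      · show h8xU chevE6 hB (chevE6.negIdx.getD (chevE6.simple 1) 0) a * 1 ∈ _
        rw [mul_one, s1, hn1]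
        exact h8twE6_x1 hB q 25 (by simp) a ha'
    · have ha' : a ^ q = a := by
        rw [← hf]
        exact ha
      rcases hg with rfl | rfl
      · show h8xU chevE6 hB (chevE6.simple 3) a * 1 ∈ _
        rw [mul_one, s3]
        exact h8twE6_x1 hB q 39 (by simp) a ha'
      · show h8xU chevE6 hB (chevE6.negIdx.getD (chevE6.simple 3) 0) a * 1 ∈ _
        rw [mul_one, s3, hn3]
        exact h8twE6_x1 hB q 32 (by simp) a ha'
    · rcases hg with rfl | rfl
      · show h8xU chevE6 hB (chevE6.simple 2) a *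
          (h8xU chevE6 hB (chevE6.simple 4) (f a) * 1) ∈ _
        rw [mul_one, s2, s4, hf]
        exact h8twE6_x2 hB q 42 37 (by simp) a
      · show h8xU chevE6 hB (chevE6.negIdx.getD (chevE6.simple 2) 0) a *
          (h8xU chevE6 hB (chevE6.negIdx.getD (chevE6.simple 4) 0) (f a) * 1) ∈ _
        rw [mul_one, s2, s4, hn2, hn4, hf]
        exact h8twE6_x2 hB q 29 34 (by simp) a
    · rcases hg with rfl | rfl
      · show h8xU chevE6 hB (chevE6.simple 0) a *
          (h8xU chevE6 hB (chevE6.simple 5) (f a) * 1) ∈ _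
        rw [mul_one, s0, s5, hf]
        exact h8twE6_x2 hB q 56 36 (by simp) a
      · show h8xU chevE6 hB (chevE6.negIdx.getD (chevE6.simple 0) 0) a *
          (h8xU chevE6 hB (chevE6.negIdx.getD (chevE6.simple 5) 0) (f a) * 1) ∈ _
        rw [mul_one, s0, s5, hn0, hn5, hf]
        exact h8twE6_x2 hB q 15 35 (by simp) a

/-- the context of `²E₆(q)` -/
theorem h8azCtxE6 (hB : H8Base.{u} chevE6) (hA : H8ReflAll chevE6) (q : ℕ) (f : K ≃+* K)
    (hf : ∀ t, f t = t ^ q) (hff : ∀ t, f (f t) = t) (hneg : (-1 : K) ^ q = -1) :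
    H8AyCtx chevE6 hB h8posiE6 h8sE6 h8tE6 h8pE6 h8qE6 h8eE6 (h8autE6 hA) f h8orbsE6
      (twistedE6 K q) := by
  have hD : chevE6 ∈ [chevG2, chevB2, chevD4, chevF4, chevE6, chevE7, chevE8] := by simp
  have hB0 := h8base_all.{0} chevE6 hD
  have hC := h8commAll.{u} chevE6 hD
  have hBN := h8bn_all chevE6 hD
  have hW := h8bn2_all chevE6 hD
  obtain ⟨hO, hO2⟩ := h8ord_all chevE6 hD
  have hσp : ∀ r, chevE6.IsPosRoot r →
      chevE6.IsPosRoot (h8sE6 r) ∧ h8posiE6 (h8sE6 r) = h8posiE6 r :=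
    fun r hr => ⟨(h8uE6_sig1 r hr.1 hr).1, (h8uE6_sig1 r hr.1 hr).2.1⟩
  have hUfix := h8twE6_U_fix hB hC hA hBN hO2 q f hf hff hneg
  have hnJ := h8twE6_nJ (K := K) hB hC q hneg
  exact
    { hB0 := hB0
      hA := hA
      hC := hC
      hBN := hBN
      hW := hW
      hO := hO
      hO2 := hO2
      hK := h8uE6_blk
      hR := h8uE6_read
      tw := ⟨h8mkRho chevE6 h8sE6 h8tE6 h8pE6 h8qE6 h8eE6 (h8autE6 hA), h8piE6, fun r => rfl,
        h8twE6 hA hBN⟩
      hσp := hσp
      hG1 := h8gen_le_group chevE6 hB _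
      hfix := h8twE6_fix hB hC hA q f hf hff
      hUfix := hUfix
      hnJ := hnJ
      hsc := h8scChk_all chevE6 hD
      hOrb := fun J hJ => ⟨_, h8azOrbE6 J hJ⟩
      hdisj := h8twE6_disj
      hxJ := by
        intro J hJ
        have hk : ∃ k < 4, J = h8orbsE6.getD k [] := by
          rcases h8azE_cases J hJ with rfl | rfl | rfl | rfl
          · exact ⟨0, by norm_num, rfl⟩
          · exact ⟨1, by norm_num, rfl⟩
          · exact ⟨2, by norm_num, rfl⟩
          · exact ⟨3, by norm_num, rfl⟩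
        obtain ⟨k, hk2, rfl⟩ := hk
        obtain ⟨hne, hdata⟩ := h8twE6_xdata k hk2
        exact h8tw_xJ chevE6 hB hC hBN hO2 h8posiE6 h8uE6_blk h8uE6_read h8sE6 h8tE6 h8pE6 h8qE6
          h8eE6 (h8autE6 hA) f hσp (twistedE6 K q) hUfix _ (h8blkOfE6 k) hne hdata
      w0 := ⟨_, h8w0ksE6_chk,
        h8tw_nWU_flat chevE6 hB h8orbsE6 (twistedE6 K q) h8w0ksE6 h8w0ksE6_mem hnJ,
        fun J hJ => (h8azOppE6 J hJ).1, fun J hJ => (h8azOppE6 J hJ).2⟩
      hS := h8scommChk_all chevE6 hD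
      hc2 := h8cartan_simple chevE6 hD
      hgen := h8azGenE6 hB q f hf hff
      rc := h8rc_all chevE6 hD
      hcons := h8consChk_all chevE6 hD }

end Cfsg.Agent.Lib.helper8
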