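import Mathlib
import Cfsg.Prelude.Def_ChevStructure
import Cfsg.Prelude.Def_LieTwisted
import Cfsg.Agent.Lib.helper8.ChevAZ9
import Cfsg.Agent.Lib.helper8.ChevTwU6

set_option autoImplicit false

namespace Cfsg.Agent.Lib.helper8

open Cfsg.Lie Cfsg.Lie.ChevalleyDatum

universe u

variable {K : Type u} [Field K]

theorem h8azE_len (J : List (Fin chevE6.rank)) (hJ : J ∈ h8orbsE6) :
    J.length = 1 ∨ J.length = 2 := by
  rcases h8azE_cases J hJ with rfl | rfl | rfl | rfl
  · exact Or.inl rfl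
  · exact Or.inl rfl
  · exact Or.inr rfl
  · exact Or.inr rfl

section
variable [Fintype K] {q : ℕ} (hq : 1 < q) (hKc : Fintype.card K = q ^ 2)
  (hB : H8Base.{u} chevE6) (hA : H8ReflAll chevE6) (f : K ≃+* K)
  (hf : ∀ t, f t = t ^ q) (hff : ∀ t, f (f t) = t) (hneg : (-1 : K) ^ q = -1)

include hq hKc hA hf hff hneg in
/-- an automorphism stabilizing `U¹` and `V¹` matches orbits of the same length -/
theorem h8azE6_len (θ : ↥(twistedE6 K q) ≃* ↥(twistedE6 K q))
    (hU : ((chevE6.posUnipotent K ⊓ twistedE6 K q).subgroupOf (twistedE6 K q)).map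
      θ.toMonoidHom = (chevE6.posUnipotent K ⊓ twistedE6 K q).subgroupOf (twistedE6 K q))
    (hV : ((chevE6.negUnipotent K ⊓ twistedE6 K q).subgroupOf (twistedE6 K q)).map
      θ.toMonoidHom = (chevE6.negUnipotent K ⊓ twistedE6 K q).subgroupOf (twistedE6 K q))
    (J : List (Fin chevE6.rank)) (hJ : J ∈ h8orbsE6) :
    ∃ J' ∈ h8orbsE6, J'.length = J.length ∧
    (∀ (a : K), f^[J.length] a = a → ∀ y : ↥(twistedE6 K q),
      y.val = h8ayXp chevE6 hB f (J.map Fin.val) a →
      ∃ c : K, f^[J'.length] c = c ∧ (θ y).val = h8ayXp chevE6 hB f (J'.map Fin.val) c) ∧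
    (∀ (a : K), f^[J.length] a = a → ∀ y : ↥(twistedE6 K q),
      y.val = h8ayXm chevE6 hB f (J.map Fin.val) a →
      ∃ c : K, f^[J'.length] c = c ∧ (θ y).val = h8ayXm chevE6 hB f (J'.map Fin.val) c) := by
  have X := h8azCtxE6 hB hA q f hf hff hneg
  have c1 : ∀ J : List (Fin chevE6.rank), J.length = 1 →
      Nat.card {a : K // f^[J.length] a = a} = q := by
    intro J h
    rw [h]
    exact h8frob_fix_card hq (by norm_num : 0 < 2) hKc f hf (fun t => hff t)
  have c2 : ∀ J : List (Fin chevE6.rank), J.length = 2 →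
      Nat.card {a : K // f^[J.length] a = a} = q ^ 2 := by
    intro J h
    rw [h, ← hKc, ← Nat.card_eq_fintype_card]
    exact Nat.card_congr (Equiv.subtypeUnivEquiv (fun a => hff a))
  have hlt : q < q ^ 2 := by
    have h4 : q ^ 1 < q ^ 2 := Nat.pow_lt_pow_right hq (by norm_num)
    rwa [pow_one] at h4
  have key : ∀ (θ' : ↥(twistedE6 K q) ≃* ↥(twistedE6 K q)) (J J' : List (Fin chevE6.rank)),
      J ∈ h8orbsE6 → J' ∈ h8orbsE6 →
      (∀ (a : K), f^[J.length] a = a → ∀ y : ↥(twistedE6 K q),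
        y.val = h8ayXp chevE6 hB f (J.map Fin.val) a →
        ∃ c : K, f^[J'.length] c = c ∧ (θ' y).val = h8ayXp chevE6 hB f (J'.map Fin.val) c) →
      J.length = 2 → J'.length = 2 := by
    intro θ' J J' hJ hJ' hp h2
    have hle := h8ayc_match_le X θ' J J' hJ hp
    rw [c2 J h2] at hle
    rcases h8azE_len J' hJ' with h1' | h2'
    · rw [c1 J' h1'] at hle
      omega
    · exact h2'
  obtain ⟨J', hJ', hp, hn⟩ := h8ayc_match X θ hU hV J hJ
  refine ⟨J', hJ', ?_, hp, hn⟩
  rcases h8azE_len J hJ with h1 | h2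
  · rcases h8azE_len J' hJ' with h1' | h2'
    · rw [h1, h1']
    · exfalso
      obtain ⟨J'', hJ'', hp', _⟩ := h8ayc_match X θ.symm (h8au_map_symm _ θ hU)
        (h8au_map_symm _ θ hV) J' hJ'
      have h2'' := key θ.symm J' J'' hJ' hJ'' hp' h2'
      have e := h8ayc_match_back X θ J J' J'' hJ hJ'' hp hp'
      rw [e] at h1
      omega
  · rw [h2, key θ J J' hJ hJ' hp h2]

end

end Cfsg.Agent.Lib.helper8
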