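import Mathlib
import Cfsg.Prelude.Def_ChevStructure
import Cfsg.Prelude.Def_LieTwisted
import Cfsg.Agent.Lib.helper8.ChevAZ10

set_option autoImplicit false

namespace Cfsg.Agent.Lib.helper8

open Cfsg.Lie Cfsg.Lie.ChevalleyDatum

universe u

variable {K : Type u} [Field K]

theorem h8azE_len1 (J : List (Fin chevE6.rank)) (hJ : J ∈ h8orbsE6) (h : J.length = 1) :
    J = h8azEA ∨ J = h8azEB := by
  rcases h8azE_cases J hJ with rfl | rfl | rfl | rfl
  · exact Or.inl rfl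
  · exact Or.inr rfl
  · exact absurd h (by decide)
  · exact absurd h (by decide)

theorem h8azE_len2 (J : List (Fin chevE6.rank)) (hJ : J ∈ h8orbsE6) (h : J.length = 2) :
    J = h8azEC ∨ J = h8azEE := by
  rcases h8azE_cases J hJ with rfl | rfl | rfl | rfl
  · exact absurd h (by decide)
  · exact absurd h (by decide)
  · exact Or.inl rfl
  · exact Or.inr rfl

section
variable [Fintype K] {q : ℕ} (hq : 1 < q) (hKc : Fintype.card K = q ^ 2)
  (hB : H8Base.{u} chevE6) (hA : H8ReflAll chevE6) (f : K ≃+* K)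
  (hf : ∀ t, f t = t ^ q) (hff : ∀ t, f (f t) = t) (hneg : (-1 : K) ^ q = -1)

include hq hKc hA hf hff hneg in
/-- an automorphism stabilizing `U¹` and `V¹` preserves the orbit products of each orbit -/
theorem h8azE6_match_id (θ : ↥(twistedE6 K q) ≃* ↥(twistedE6 K q))
    (hU : ((chevE6.posUnipotent K ⊓ twistedE6 K q).subgroupOf (twistedE6 K q)).map
      θ.toMonoidHom = (chevE6.posUnipotent K ⊓ twistedE6 K q).subgroupOf (twistedE6 K q))
    (hV : ((chevE6.negUnipotent K ⊓ twistedE6 K q).subgroupOf (twistedE6 K q)).map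
      θ.toMonoidHom = (chevE6.negUnipotent K ⊓ twistedE6 K q).subgroupOf (twistedE6 K q))
    (J : List (Fin chevE6.rank)) (hJ : J ∈ h8orbsE6) :
    (∀ (a : K), f^[J.length] a = a → ∀ y : ↥(twistedE6 K q),
      y.val = h8ayXp chevE6 hB f (J.map Fin.val) a →
      ∃ c : K, f^[J.length] c = c ∧ (θ y).val = h8ayXp chevE6 hB f (J.map Fin.val) c) ∧
    (∀ (a : K), f^[J.length] a = a → ∀ y : ↥(twistedE6 K q),
      y.val = h8ayXm chevE6 hB f (J.map Fin.val) a →
      ∃ c : K, f^[J.length] c = c ∧ (θ y).val = h8ayXm chevE6 hB f (J.map Fin.val) c) := by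
  have X := h8azCtxE6 hB hA q f hf hff hneg
  -- the matched orbits
  obtain ⟨ρA, hρA, lA, pA, nA⟩ := h8azE6_len hq hKc hB hA f hf hff hneg θ hU hV h8azEA h8azEA_mem
  obtain ⟨ρB, hρB, lB, pB, nB⟩ := h8azE6_len hq hKc hB hA f hf hff hneg θ hU hV h8azEB h8azEB_mem
  obtain ⟨ρC, hρC, lC, pC, nC⟩ := h8azE6_len hq hKc hB hA f hf hff hneg θ hU hV h8azEC h8azEC_mem
  obtain ⟨ρE, hρE, lE, pE, nE⟩ := h8azE6_len hq hKc hB hA f hf hff hneg θ hU hV h8azEE h8azEE_mem
  -- injectivity of the matching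
  have hinj : ∀ (J1 J2 J' : List (Fin chevE6.rank)), J1 ∈ h8orbsE6 → J2 ∈ h8orbsE6 →
      J' ∈ h8orbsE6 →
      (∀ (a : K), f^[J1.length] a = a → ∀ y : ↥(twistedE6 K q),
        y.val = h8ayXp chevE6 hB f (J1.map Fin.val) a →
        ∃ c : K, f^[J'.length] c = c ∧ (θ y).val = h8ayXp chevE6 hB f (J'.map Fin.val) c) →
      (∀ (a : K), f^[J2.length] a = a → ∀ y : ↥(twistedE6 K q),
        y.val = h8ayXp chevE6 hB f (J2.map Fin.val) a →
        ∃ c : K, f^[J'.length] c = c ∧ (θ y).val = h8ayXp chevE6 hB f (J'.map Fin.val) c) →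
      J1 = J2 := by
    intro J1 J2 J' hJ1 hJ2 hJ' h1 h2
    obtain ⟨J'', hJ'', hp', _⟩ := h8ayc_match X θ.symm (h8au_map_symm _ θ hU)
      (h8au_map_symm _ θ hV) J' hJ'
    rw [h8ayc_match_back X θ J1 J' J'' hJ1 hJ'' h1 hp', h8ayc_match_back X θ J2 J' J'' hJ2 hJ'' h2 hp']
  -- the orbits `{3}` and `{2, 4}` do not commute
  have hNC : ∀ a c : K, a ≠ 0 → c ≠ 0 →
      h8ayXp chevE6 hB f (h8azEB.map Fin.val) a * h8ayXp chevE6 hB f (h8azEC.map Fin.val) c =
        h8ayXp chevE6 hB f (h8azEC.map Fin.val) c * h8ayXp chevE6 hB f (h8azEB.map Fin.val) a →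
      False := fun a c ha hc h =>
    hc (h8ayc_not_comm X h8azEB h8azEC h8azEB_mem h8azEC_mem (by decide) h8azAdjE6 a c ha h)
  have cAC := h8ayc_comm X h8azEA h8azEC h8azEA_mem h8azEC_mem
    (h8azCommE6 (h8azEA, h8azEC) (by simp)) 1 1
  have cAE := h8ayc_comm X h8azEA h8azEE h8azEA_mem h8azEE_mem
    (h8azCommE6 (h8azEA, h8azEE) (by simp)) 1 1
  have cBE := h8ayc_comm X h8azEB h8azEE h8azEB_mem h8azEE_mem
    (h8azCommE6 (h8azEB, h8azEE) (by simp)) 1 1
  have hAB : h8azEA ≠ h8azEB := by decide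
  have hCE : h8azEC ≠ h8azEE := by decide
  rcases h8azE_len1 ρB hρB lB with rfl | rfl
  · -- `ρB = A`
    exfalso
    have hρA' : ρA = h8azEB := by
      rcases h8azE_len1 ρA hρA lA with rfl | rfl
      · exact absurd (hinj h8azEA h8azEB h8azEA h8azEA_mem h8azEB_mem h8azEA_mem pA pB) hAB
      · rfl
    subst hρA'
    rcases h8azE_len2 ρC hρC lC with rfl | rfl
    · obtain ⟨a, c, ha, hc, h⟩ := h8ayc_transfer X θ h8azEA h8azEC h8azEB h8azEC
        h8azEA_mem h8azEC_mem pA pC cAC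
      exact hNC a c ha hc h
    · have hρE' : ρE = h8azEC := by
        rcases h8azE_len2 ρE hρE lE with rfl | rfl
        · rfl
        · exact absurd (hinj h8azEC h8azEE h8azEE h8azEC_mem h8azEE_mem h8azEE_mem pC pE) hCE
      subst hρE'
      obtain ⟨a, c, ha, hc, h⟩ := h8ayc_transfer X θ h8azEA h8azEE h8azEB h8azEC
        h8azEA_mem h8azEE_mem pA pE cAE
      exact hNC a c ha hc h
  · -- `ρB = B`
    have hρA' : ρA = h8azEA := by
      rcases h8azE_len1 ρA hρA lA with rfl | rfl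
      · rfl
      · exact absurd (hinj h8azEA h8azEB h8azEB h8azEA_mem h8azEB_mem h8azEB_mem pA pB) hAB
    subst hρA'
    have hρE' : ρE = h8azEE := by
      rcases h8azE_len2 ρE hρE lE with rfl | rfl
      · exfalso
        obtain ⟨a, c, ha, hc, h⟩ := h8ayc_transfer X θ h8azEB h8azEE h8azEB h8azEC
          h8azEB_mem h8azEE_mem pB pE cBE
        exact hNC a c ha hc h
      · rfl
    subst hρE'
    have hρC' : ρC = h8azEC := by
      rcases h8azE_len2 ρC hρC lC with rfl | rfl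
      · rfl
      · exact absurd (hinj h8azEC h8azEE h8azEE h8azEC_mem h8azEE_mem h8azEE_mem pC pE) hCE
    subst hρC'
    rcases h8azE_cases J hJ with rfl | rfl | rfl | rfl
    · exact ⟨pA, nA⟩
    · exact ⟨pB, nB⟩
    · exact ⟨pC, nC⟩
    · exact ⟨pE, nE⟩

end

end Cfsg.Agent.Lib.helper8
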