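import Mathlib
import Cfsg.Prelude.Def_ChevStructure
import Cfsg.Prelude.Def_LieTwisted
import Cfsg.Agent.Lib.helper8.ChevAZ11

set_option autoImplicit false

namespace Cfsg.Agent.Lib.helper8

open Cfsg.Lie Cfsg.Lie.ChevalleyDatum

universe u

variable {K : Type u} [Field K]

/-- the parameters of the nodes of `E₆` -/
def h8azC6 (f : K ≃+* K) (sa sb uc ue : K) : ℕ → K := fun j =>
  if j = 1 then sa else if j = 3 then sb else if j = 2 then uc else if j = 4 then f uc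
  else if j = 0 then ue else f ue

/-- the relation between an automorphism of `²E₆(q)` and its parameters -/
def h8azRelE6 (hB : H8Base.{u} chevE6) (q : ℕ) (f : K ≃+* K)
    (θ : ↥(twistedE6 K q) ≃* ↥(twistedE6 K q)) (sa sb uc ue : K) (φ : K ≃+* K) : Prop :=
  ∀ J ∈ h8orbsE6, ∀ a : K, f^[J.length] a = a → ∀ y : ↥(twistedE6 K q),
    (y.val = h8ayXp chevE6 hB f (J.map Fin.val) a →
      (θ y).val = h8ayXp chevE6 hB f (J.map Fin.val)
        (h8azC6 f sa sb uc ue ((J.map Fin.val).headD 0) * φ a)) ∧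
    (y.val = h8ayXm chevE6 hB f (J.map Fin.val) a →
      (θ y).val = h8ayXm chevE6 hB f (J.map Fin.val)
        ((h8azC6 f sa sb uc ue ((J.map Fin.val).headD 0))⁻¹ * φ a))

section
variable [Fintype K] {q : ℕ} (hq : 1 < q) (hKc : Fintype.card K = q ^ 2)
  (hB : H8Base.{u} chevE6) (hA : H8ReflAll chevE6) (f : K ≃+* K)
  (hf : ∀ t, f t = t ^ q) (hff : ∀ t, f (f t) = t) (hneg : (-1 : K) ^ q = -1)

include hq hKc hA hf hff hneg in
/-- the parameters of an automorphism stabilizing `U¹` and `V¹` -/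
theorem h8azE6_data (θ : ↥(twistedE6 K q) ≃* ↥(twistedE6 K q))
    (hU : ((chevE6.posUnipotent K ⊓ twistedE6 K q).subgroupOf (twistedE6 K q)).map
      θ.toMonoidHom = (chevE6.posUnipotent K ⊓ twistedE6 K q).subgroupOf (twistedE6 K q))
    (hV : ((chevE6.negUnipotent K ⊓ twistedE6 K q).subgroupOf (twistedE6 K q)).map
      θ.toMonoidHom = (chevE6.negUnipotent K ⊓ twistedE6 K q).subgroupOf (twistedE6 K q)) :
    ∃ (sa sb uc ue : K) (φ : K ≃+* K), sa ≠ 0 ∧ f sa = sa ∧ sb ≠ 0 ∧ f sb = sb ∧ uc ≠ 0 ∧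
      ue ≠ 0 ∧ h8azRelE6 hB q f θ sa sb uc ue φ := by
  have X := h8azCtxE6 hB hA q f hf hff hneg
  obtain ⟨pA, nA⟩ := h8azE6_match_id hq hKc hB hA f hf hff hneg θ hU hV h8azEA h8azEA_mem
  obtain ⟨pB, nB⟩ := h8azE6_match_id hq hKc hB hA f hf hff hneg θ hU hV h8azEB h8azEB_mem
  obtain ⟨pC, nC⟩ := h8azE6_match_id hq hKc hB hA f hf hff hneg θ hU hV h8azEC h8azEC_mem
  obtain ⟨pE, nE⟩ := h8azE6_match_id hq hKc hB hA f hf hff hneg θ hU hV h8azEE h8azEE_mem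
  obtain ⟨cA, φA, hcA, hcAf, hxA, hmA, hhA⟩ := h8ayc_structure X θ h8azEA h8azEA_mem pA nA
  obtain ⟨cB, φB, hcB, hcBf, hxB, hmB, hhB⟩ := h8ayc_structure X θ h8azEB h8azEB_mem pB nB
  obtain ⟨cC, φC, hcC, hcCf, hxC, hmC, hhC⟩ := h8ayc_structure X θ h8azEC h8azEC_mem pC nC
  obtain ⟨cE, φE, hcE, hcEf, hxE, hmE, hhE⟩ := h8ayc_structure X θ h8azEE h8azEE_mem pE nE
  obtain ⟨k13, k32, k34, k20, k40, k25, k45⟩ := h8azCartanE6
  have hsubAB : ∀ s : K, f^[h8azEA.length] s = s → f^[h8azEB.length] s = s := fun s h => h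
  have hsubBC : ∀ s : K, f^[h8azEB.length] s = s → f^[h8azEC.length] s = s := fun s _ => hff s
  have hsubCE : ∀ s : K, f^[h8azEC.length] s = s → f^[h8azEE.length] s = s := fun s h => h
  have hChiAB : ∀ s : K, s ≠ 0 → f^[h8azEA.length] s = s →
      ∀ i (hi : i < (h8azEB.map Fin.val).length),
      h8ayChi chevE6 f (h8azEA.map Fin.val) s (chevE6.simple (h8azEB.map Fin.val)[i]) =
        f^[i] s⁻¹ := by
    intro s _ _ i hi
    have hi1 : i < 1 := hi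
    interval_cases i
    show s ^ (chevE6.cartan 1 (chevE6.simple 3)) * 1 = s⁻¹
    rw [k13, mul_one, zpow_neg_one]
  have hChiBC : ∀ s : K, s ≠ 0 → f^[h8azEB.length] s = s →
      ∀ i (hi : i < (h8azEC.map Fin.val).length),
      h8ayChi chevE6 f (h8azEB.map Fin.val) s (chevE6.simple (h8azEC.map Fin.val)[i]) =
        f^[i] s⁻¹ := by
    intro s _ hs i hi
    have hs' : f s = s := hs
    have hi2 : i < 2 := hi
    rw [h8ay_iter_inv, h8ay_iter_fixed f s hs']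
    interval_cases i
    · show s ^ (chevE6.cartan 3 (chevE6.simple 2)) * 1 = s⁻¹
      rw [k32, mul_one, zpow_neg_one]
    · show s ^ (chevE6.cartan 3 (chevE6.simple 4)) * 1 = s⁻¹
      rw [k34, mul_one, zpow_neg_one]
  have hChiCE : ∀ s : K, s ≠ 0 → f^[h8azEC.length] s = s →
      ∀ i (hi : i < (h8azEE.map Fin.val).length),
      h8ayChi chevE6 f (h8azEC.map Fin.val) s (chevE6.simple (h8azEE.map Fin.val)[i]) =
        f^[i] s⁻¹ := by
    intro s _ _ i hi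
    have hi2 : i < 2 := hi
    interval_cases i
    · show s ^ (chevE6.cartan 2 (chevE6.simple 0)) *
        ((f s) ^ (chevE6.cartan 4 (chevE6.simple 0)) * 1) = s⁻¹
      rw [k20, k40, zpow_zero, mul_one, mul_one, zpow_neg_one]
    · show s ^ (chevE6.cartan 2 (chevE6.simple 5)) *
        ((f s) ^ (chevE6.cartan 4 (chevE6.simple 5)) * 1) = f s⁻¹
      rw [k25, k45, zpow_zero, mul_one, one_mul, zpow_neg_one, map_inv₀]
  have lAB := h8ayc_link X θ h8azEA h8azEB h8azEA_mem h8azEB_mem hsubAB hChiAB φA hhA cB hcB φB hxB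
  have lBC := h8ayc_link X θ h8azEB h8azEC h8azEB_mem h8azEC_mem hsubBC hChiBC φB hhB cC hcC φC hxC
  have lCE := h8ayc_link X θ h8azEC h8azEE h8azEC_mem h8azEE_mem hsubCE hChiCE φC hhC cE hcE φE hxE
  obtain ⟨ψ, hψ⟩ := h8ay_fix_top f h8azEC.length (fun a => hff a) φC
  refine ⟨cA, cB, cC, cE, ψ, hcA, hcAf, hcB, hcBf, hcC, hcE, ?_⟩
  intro J hJ a ha y
  rcases h8azE_cases J hJ with rfl | rfl | rfl | rfl
  · have e1 : h8azC6 f cA cB cC cE ((h8azEA.map Fin.val).headD 0) = cA := rfl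
    have e2 : ψ a = (φA ⟨a, ha⟩).val := by
      rw [← lAB ⟨a, ha⟩, ← lBC ⟨a, hsubAB a ha⟩]
      exact hψ ⟨a, hsubBC a (hsubAB a ha)⟩
    rw [e1, e2]
    exact ⟨fun hy => hxA ⟨a, ha⟩ y hy, fun hy => hmA ⟨a, ha⟩ y hy⟩
  · have e1 : h8azC6 f cA cB cC cE ((h8azEB.map Fin.val).headD 0) = cB := rfl
    have e2 : ψ a = (φB ⟨a, ha⟩).val := by
      rw [← lBC ⟨a, ha⟩]
      exact hψ ⟨a, hsubBC a ha⟩
    rw [e1, e2]
    exact ⟨fun hy => hxB ⟨a, ha⟩ y hy, fun hy => hmB ⟨a, ha⟩ y hy⟩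
  · have e1 : h8azC6 f cA cB cC cE ((h8azEC.map Fin.val).headD 0) = cC := rfl
    have e2 : ψ a = (φC ⟨a, ha⟩).val := hψ ⟨a, ha⟩
    rw [e1, e2]
    exact ⟨fun hy => hxC ⟨a, ha⟩ y hy, fun hy => hmC ⟨a, ha⟩ y hy⟩
  · have e1 : h8azC6 f cA cB cC cE ((h8azEE.map Fin.val).headD 0) = cE := rfl
    have e2 : ψ a = (φE ⟨a, ha⟩).val := by
      have := lCE ⟨a, ha⟩
      rw [this]
      exact hψ ⟨a, ha⟩
    rw [e1, e2]
    exact ⟨fun hy => hxE ⟨a, ha⟩ y hy, fun hy => hmE ⟨a, ha⟩ y hy⟩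

end

end Cfsg.Agent.Lib.helper8
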