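import Mathlib
import Cfsg.Prelude.Def_ChevStructure
import Cfsg.Prelude.Def_LieTwisted
import Cfsg.Agent.Lib.helper8.ChevAZ12

set_option autoImplicit false

namespace Cfsg.Agent.Lib.helper8

open Cfsg.Lie Cfsg.Lie.ChevalleyDatum

universe u

variable {K : Type u} [Field K]

section
variable [Fintype K] {q : ℕ} (hq : 1 < q) (hKc : Fintype.card K = q ^ 2)
  (hB : H8Base.{u} chevE6) (hA : H8ReflAll chevE6) (f : K ≃+* K)
  (hf : ∀ t, f t = t ^ q) (hff : ∀ t, f (f t) = t) (hneg : (-1 : K) ^ q = -1)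

omit [Fintype K] in
include hA hf hff hneg in
/-- the automorphism of `²E₆(q)` with given parameters -/
theorem h8azE6_exists (sa sb uc ue : K) (hsa : sa ≠ 0) (hsaf : f sa = sa) (hsb : sb ≠ 0)
    (hsbf : f sb = sb) (huc : uc ≠ 0) (hue : ue ≠ 0) (φ : K ≃+* K) :
    ∃ θ : ↥(twistedE6 K q) ≃* ↥(twistedE6 K q),
      ((chevE6.posUnipotent K ⊓ twistedE6 K q).subgroupOf (twistedE6 K q)).map
        θ.toMonoidHom = (chevE6.posUnipotent K ⊓ twistedE6 K q).subgroupOf (twistedE6 K q) ∧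
      ((chevE6.negUnipotent K ⊓ twistedE6 K q).subgroupOf (twistedE6 K q)).map
        θ.toMonoidHom = (chevE6.negUnipotent K ⊓ twistedE6 K q).subgroupOf (twistedE6 K q) ∧
      h8azRelE6 hB q f θ sa sb uc ue φ := by
  have X := h8azCtxE6 hB hA q f hf hff hneg
  obtain ⟨p0, p1, p2, p3, p4, p5⟩ := h8azPE6
  have hc0 : ∀ j < chevE6.rank, h8azC6 f sa sb uc ue j ≠ 0 := by
    intro j _
    unfold h8azC6
    split_ifs
    · exact hsa
    · exact hsb
    · exact huc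
    · exact (map_ne_zero f).mpr huc
    · exact hue
    · exact (map_ne_zero f).mpr hue
  have hceq : ∀ j < chevE6.rank, h8azC6 f sa sb uc ue (h8pE6 j) = f (h8azC6 f sa sb uc ue j) := by
    intro j hj
    have hj6 : j < 6 := hj
    interval_cases j
    · rw [p0]
      rfl
    · rw [p1]
      exact hsaf.symm
    · rw [p2]
      rfl
    · rw [p3]
      exact hsbf.symm
    · rw [p4]
      exact (hff uc).symm
    · rw [p5]
      exact (hff ue).symm
  have hφ : ∀ t, φ (f t) = f (φ t) := by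
    intro t
    rw [hf, hf, map_pow]
  exact h8ayc_exists X (h8azC6 f sa sb uc ue) hc0 hceq φ hφ

include hq hKc hB hA hf hff hneg in
/-- the number of automorphisms of `²E₆(q)` stabilizing `U¹` and `V¹` -/
theorem h8azE6_A0_card :
    Nat.card ↥(h8ayA0 ((chevE6.posUnipotent K ⊓ twistedE6 K q).subgroupOf (twistedE6 K q))
      ((chevE6.negUnipotent K ⊓ twistedE6 K q).subgroupOf (twistedE6 K q))) =
    (q - 1) * ((q - 1) * ((q ^ 2 - 1) * ((q ^ 2 - 1) * Nat.card (K ≃+* K)))) := by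
  have X := h8azCtxE6 hB hA q f hf hff hneg
  have hcard : Nat.card ((↥(h8ayFix f 1))ˣ × (↥(h8ayFix f 1))ˣ × Kˣ × Kˣ × (K ≃+* K)) =
      (q - 1) * ((q - 1) * ((q ^ 2 - 1) * ((q ^ 2 - 1) * Nat.card (K ≃+* K)))) := by
    rw [Nat.card_prod, Nat.card_prod, Nat.card_prod, Nat.card_prod, h8ayFix_units_card,
      Nat.card_units, Nat.card_eq_fintype_card (α := K), hKc]
    have : Nat.card {a : K // f^[1] a = a} = q :=
      h8frob_fix_card hq (by norm_num : 0 < 2) hKc f hf (fun t => hff t)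
    rw [this]
  rw [← hcard]
  apply h8ay_card_of_rel (fun (θ : ↥(h8ayA0
      ((chevE6.posUnipotent K ⊓ twistedE6 K q).subgroupOf (twistedE6 K q))
      ((chevE6.negUnipotent K ⊓ twistedE6 K q).subgroupOf (twistedE6 K q))))
      (x : (↥(h8ayFix f 1))ˣ × (↥(h8ayFix f 1))ˣ × Kˣ × Kˣ × (K ≃+* K)) =>
      h8azRelE6 hB q f θ.val x.1.val.val x.2.1.val.val x.2.2.1.val x.2.2.2.1.val x.2.2.2.2)
  · rintro ⟨θ, hU, hV⟩
    obtain ⟨sa, sb, uc, ue, φ, hsa, hsaf, hsb, hsbf, huc, hue, hR⟩ :=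
      h8azE6_data hq hKc hB hA f hf hff hneg θ hU hV
    have hsa' : (⟨sa, hsaf⟩ : ↥(h8ayFix f 1)) ≠ 0 := fun h => hsa (congrArg Subtype.val h)
    have hsb' : (⟨sb, hsbf⟩ : ↥(h8ayFix f 1)) ≠ 0 := fun h => hsb (congrArg Subtype.val h)
    exact ⟨(Units.mk0 ⟨sa, hsaf⟩ hsa', Units.mk0 ⟨sb, hsbf⟩ hsb', Units.mk0 uc huc,
      Units.mk0 ue hue, φ), hR⟩
  · rintro ⟨sa, sb, uc, ue, φ⟩
    have hsa : sa.val.val ≠ 0 := fun h => sa.ne_zero (Subtype.ext h)
    have hsb : sb.val.val ≠ 0 := fun h => sb.ne_zero (Subtype.ext h)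
    obtain ⟨θ, hU, hV, hR⟩ := h8azE6_exists hB hA f hf hff hneg sa.val.val sb.val.val uc.val
      ue.val hsa sa.val.2 hsb sb.val.2 uc.ne_zero ue.ne_zero φ
    exact ⟨⟨θ, hU, hV⟩, hR⟩
  · rintro ⟨θ, hU, hV⟩ ⟨sa, sb, uc, ue, φ⟩ ⟨sa', sb', uc', ue', φ'⟩ h h'
    have hcmp : ∀ (J : List (Fin chevE6.rank)) (hJ : J ∈ h8orbsE6) (a : K)
        (ha : f^[J.length] a = a),
        h8azC6 f sa.val.val sb.val.val uc.val ue.val ((J.map Fin.val).headD 0) * φ a =
        h8azC6 f sa'.val.val sb'.val.val uc'.val ue'.val ((J.map Fin.val).headD 0) * φ' a := by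
      intro J hJ a ha
      have m := h8ayc_Xp_mem X J hJ a ha
      have e := ((h J hJ a ha ⟨_, m⟩).1 rfl).symm.trans ((h' J hJ a ha ⟨_, m⟩).1 rfl)
      exact h8ayc_Xp_inj X J hJ _ _ e
    have h1 : ∀ (J : List (Fin chevE6.rank)) (hJ : J ∈ h8orbsE6),
        h8azC6 f sa.val.val sb.val.val uc.val ue.val ((J.map Fin.val).headD 0) =
        h8azC6 f sa'.val.val sb'.val.val uc'.val ue'.val ((J.map Fin.val).headD 0) := by
      intro J hJ
      have := hcmp J hJ 1 (h8ay_iter_one f _)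
      rwa [map_one, map_one, mul_one, mul_one] at this
    have hsa : sa.val.val = sa'.val.val := h1 h8azEA h8azEA_mem
    have hsb : sb.val.val = sb'.val.val := h1 h8azEB h8azEB_mem
    have huc : uc.val = uc'.val := h1 h8azEC h8azEC_mem
    have hue : ue.val = ue'.val := h1 h8azEE h8azEE_mem
    have hφ : φ = φ' := by
      apply RingEquiv.ext
      intro a
      have := hcmp h8azEC h8azEC_mem a (hff a)
      rw [← h1 h8azEC h8azEC_mem] at this
      exact mul_left_cancel₀ uc.ne_zero this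
    have e1 : sa = sa' := Units.ext (Subtype.ext hsa)
    have e2 : sb = sb' := Units.ext (Subtype.ext hsb)
    have e3 : uc = uc' := Units.ext huc
    have e4 : ue = ue' := Units.ext hue
    rw [e1, e2, e3, e4, hφ]
  · rintro ⟨θ, hU, hV⟩ ⟨θ', hU', hV'⟩ ⟨sa, sb, uc, ue, φ⟩ h h'
    apply Subtype.ext
    apply h8ayc_ext X θ θ'
    intro J hJ a ha y
    exact ⟨fun hy => Subtype.ext (((h J hJ a ha y).1 hy).trans ((h' J hJ a ha y).1 hy).symm),
      fun hy => Subtype.ext (((h J hJ a ha y).2 hy).trans ((h' J hJ a ha y).2 hy).symm)⟩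

end

end Cfsg.Agent.Lib.helper8
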