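import Mathlib
import Cfsg.Prelude.Def_ChevStructure
import Cfsg.Prelude.Def_LieTwisted
import Cfsg.Agent.Lib.helper8.ChevAZ13
import Cfsg.Agent.Lib.helper8.ChevAZ7
import Cfsg.Agent.Lib.helper8.ChevTwE6S
import Cfsg.Agent.Lib.helper8.ChevTwE6H16
import Cfsg.Agent.Lib.helper8.ChevTwE6O2

set_option autoImplicit false

namespace Cfsg.Agent.Lib.helper8

open Cfsg.Lie Cfsg.Lie.ChevalleyDatum

universe u

variable {K : Type u} [Field K]

theorem h8az_not_dvd_add_one (p q k : ℕ) (hp : p.Prime) (hpq : p ∣ q) (hk : 0 < k) :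
    ¬ p ∣ q ^ k + 1 := by
  intro h
  have h2 : p ∣ q ^ k := dvd_pow hpq (by omega)
  have h3 := (Nat.dvd_add_right h2).mp h
  exact hp.one_lt.ne' (Nat.dvd_one.mp h3)

/-- `|Out ²E₆(q)| = 2 gcd(3, q + 1) f` -/
theorem h8out_2E6 [Fintype K] (p e : ℕ) [Fact p.Prime] [CharP K p]
    (hK : Fintype.card K = p ^ (2 * e)) (he : 1 ≤ e) :
    Nat.card (Cfsg.Out ↥(twistedE6 K (p ^ e))) = 2 * Nat.gcd 3 (p ^ e + 1) * e := by
  have hp : p.Prime := Fact.out
  have hq : IsPrimePow (p ^ e) := ⟨p, e, hp.prime, by omega, rfl⟩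
  have hq1 : 1 < p ^ e := Nat.one_lt_pow (by omega) hp.one_lt
  have hKc : Fintype.card K = (p ^ e) ^ 2 := by rw [hK, mul_comm, pow_mul]
  have hD : chevE6 ∈ [chevG2, chevB2, chevD4, chevF4, chevE6, chevE7, chevE8] := by simp
  have hB := h8base_all.{u} chevE6 hD
  have hA := h8reflAll chevE6 hD
  obtain ⟨f, hf, hff2, hneg⟩ := h8frob_exists hq 2 (by norm_num) hKc
  have hff : ∀ t, f (f t) = t := fun t => hff2 t
  have X := h8azCtxE6 hB hA (p ^ e) f hf hff hneg
  obtain ⟨hsimp, hnc⟩ := h8twE6_simple hq hKc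
  have hcenter := h8az_center_bot hsimp hnc
  have hpq : p ∣ p ^ e := dvd_pow_self p (by omega)
  have hq0 : 0 < p ^ e := by omega
  have hg : ¬ p ∣ Nat.gcd 3 (p ^ e + 1) := by
    intro h
    have h2 : p ∣ p ^ e + 1 := dvd_trans h (Nat.gcd_dvd_right _ _)
    have h3 := (Nat.dvd_add_right hpq).mp h2
    exact hp.one_lt.ne' (Nat.dvd_one.mp h3)
  have hG0 : Nat.card ↥(twistedE6 K (p ^ e)) ≠ 0 := Nat.card_pos.ne'
  have hg0 : Nat.gcd 3 (p ^ e + 1) ≠ 0 := (Nat.gcd_pos_of_pos_left _ (by norm_num)).ne'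
  have hUcard : Nat.card ↥(chevE6.posUnipotent K ⊓ twistedE6 K (p ^ e)) =
      p ^ (Nat.card ↥(twistedE6 K (p ^ e))).factorization p := by
    rw [h8twE6_U_card hq hKc]
    have hfac : (Nat.gcd 3 (p ^ e + 1) * Nat.card ↥(twistedE6 K (p ^ e))).factorization p =
        e * 36 := by
      apply h8_factorization_of_eq p (e * 36)
        (((p ^ e) ^ 2 - 1) * ((p ^ e) ^ 5 + 1) * ((p ^ e) ^ 6 - 1) * ((p ^ e) ^ 8 - 1) *
          ((p ^ e) ^ 9 + 1) * ((p ^ e) ^ 12 - 1)) _ hp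
      · rw [h8twE6_card hq hKc, pow_mul]
        ring
      · intro h
        rcases hp.dvd_mul.mp h with h | h
        · rcases hp.dvd_mul.mp h with h | h
          · rcases hp.dvd_mul.mp h with h | h
            · rcases hp.dvd_mul.mp h with h | h
              · rcases hp.dvd_mul.mp h with h | h
                · exact h8az_not_dvd_sub_one p _ 2 hp hpq hq0 (by norm_num) h
                · exact h8az_not_dvd_add_one p _ 5 hp hpq (by norm_num) h
              · exact h8az_not_dvd_sub_one p _ 6 hp hpq hq0 (by norm_num) h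
            · exact h8az_not_dvd_sub_one p _ 8 hp hpq hq0 (by norm_num) h
          · exact h8az_not_dvd_add_one p _ 9 hp hpq (by norm_num) h
        · exact h8az_not_dvd_sub_one p _ 12 hp hpq hq0 (by norm_num) h
    rw [Nat.factorization_mul hg0 hG0, Finsupp.add_apply,
      Nat.factorization_eq_zero_of_not_dvd hg, zero_add] at hfac
    rw [hfac, pow_mul]
  have hmain := h8ayc_out X p hUcard hcenter
  rw [h8azE6_A0_card hq1 hKc hB hA f hf hff hneg, h8av_ringAut_card p (2 * e) hK] at hmain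
  have hH := h8twE6_H_card hq hKc
  obtain ⟨k, hk⟩ : ∃ k, p ^ e = k + 1 := ⟨p ^ e - 1, by omega⟩
  rw [hk] at hmain hH ⊢
  have e2 : (k + 1) ^ 2 - 1 = k * (k + 2) := by
    apply Nat.sub_eq_of_eq_add
    ring
  rw [e2, Nat.add_sub_cancel] at hmain
  rw [Nat.add_sub_cancel] at hH
  have hk0 : 0 < k := by omega
  have hN : 0 < Nat.card ↥(chevE6.diagonalSubgroup K ⊓ twistedE6 K (k + 1)) := Nat.card_pos
  have h5 : Nat.card ↥(chevE6.diagonalSubgroup K ⊓ twistedE6 K (k + 1)) *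
      Nat.card (Cfsg.Out ↥(twistedE6 K (k + 1))) =
      Nat.card ↥(chevE6.diagonalSubgroup K ⊓ twistedE6 K (k + 1)) *
        (2 * Nat.gcd 3 (k + 1 + 1) * e) := by
    rw [hmain]
    calc k * (k * (k * (k + 2) * (k * (k + 2) * (2 * e))))
        = (k ^ 4 * (k + 1 + 1) ^ 2) * (2 * e) := by ring
      _ = Nat.gcd 3 (k + 1 + 1) *
          Nat.card ↥(chevE6.diagonalSubgroup K ⊓ twistedE6 K (k + 1)) * (2 * e) := by rw [hH]
      _ = _ := by ring
  exact Nat.eq_of_mul_eq_mul_left hN h5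

end Cfsg.Agent.Lib.helper8
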