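import Mathlib
import Cfsg.Prelude.Def_ChevStructure
import Cfsg.Prelude.Def_ChevB2
import Cfsg.Agent.Lib.helper8.ChevB2S6

set_option autoImplicit false

namespace Cfsg.Agent.Lib.helper8

open Cfsg.Lie Cfsg.Lie.ChevalleyDatum

/-- the invertible matrices permuting the six row vectors -/
def h8b2Stab : Subgroup (GL chevB2.Idx (ZMod 2)) where
  carrier := {g | (∀ i, ∃ j, Matrix.vecMul (h8b2L i) (g : Matrix _ _ (ZMod 2)) = h8b2L j) ∧
    (∀ i, ∃ j, Matrix.vecMul (h8b2L i) ((g⁻¹ : GL chevB2.Idx (ZMod 2)) : Matrix _ _ (ZMod 2)) =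
      h8b2L j)}
  one_mem' := ⟨fun i => ⟨i, by simp⟩, fun i => ⟨i, by simp⟩⟩
  mul_mem' := by
    rintro a b ⟨ha1, ha2⟩ ⟨hb1, hb2⟩
    constructor
    · intro i
      obtain ⟨j, hj⟩ := ha1 i
      obtain ⟨k, hk⟩ := hb1 j
      exact ⟨k, by rw [Units.val_mul, ← Matrix.vecMul_vecMul, hj, hk]⟩
    · intro i
      obtain ⟨j, hj⟩ := hb2 i
      obtain ⟨k, hk⟩ := ha2 j
      exact ⟨k, by rw [mul_inv_rev, Units.val_mul, ← Matrix.vecMul_vecMul, hj, hk]⟩
  inv_mem' := by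
    rintro a ⟨ha1, ha2⟩
    exact ⟨ha2, by simpa using ha1⟩

/-- the permutation of the six vectors induced by a matrix -/
noncomputable def h8b2F (g : ↥h8b2Stab) (i : Fin 6) : Fin 6 := Classical.choose (g.2.2 i)

theorem h8b2F_spec (g : ↥h8b2Stab) (i : Fin 6) :
    Matrix.vecMul (h8b2L i) ((g.val⁻¹ : GL chevB2.Idx (ZMod 2)) : Matrix _ _ (ZMod 2)) =
      h8b2L (h8b2F g i) := Classical.choose_spec (g.2.2 i)

theorem h8b2F_eq (g : ↥h8b2Stab) (i j : Fin 6)
    (h : Matrix.vecMul (h8b2L i) ((g.val⁻¹ : GL chevB2.Idx (ZMod 2)) : Matrix _ _ (ZMod 2)) =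
      h8b2L j) : h8b2F g i = j :=
  h8b2L_inj ((h8b2F_spec g i).symm.trans h)

theorem h8b2F_one (i : Fin 6) : h8b2F 1 i = i := by
  apply h8b2F_eq
  simp

theorem h8b2F_mul (g h : ↥h8b2Stab) (i : Fin 6) : h8b2F (g * h) i = h8b2F g (h8b2F h i) := by
  apply h8b2F_eq
  rw [Subgroup.coe_mul, mul_inv_rev, Units.val_mul, ← Matrix.vecMul_vecMul, h8b2F_spec,
    h8b2F_spec]

/-- the action on the six vectors -/
noncomputable def h8b2Rho : ↥h8b2Stab →* Equiv.Perm (Fin 6) where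
  toFun g := ⟨h8b2F g, h8b2F g⁻¹,
    fun i => by rw [← h8b2F_mul, inv_mul_cancel, h8b2F_one],
    fun i => by rw [← h8b2F_mul, mul_inv_cancel, h8b2F_one]⟩
  map_one' := Equiv.ext h8b2F_one
  map_mul' g h := Equiv.ext (h8b2F_mul g h)

theorem h8b2_le (hB : H8Base.{0} chevB2) : chevB2.group (ZMod 2) ≤ h8b2Stab := by
  unfold ChevalleyDatum.group
  rw [Subgroup.closure_le]
  rintro g ⟨r, t, hg⟩
  have hg' : g = h8xU chevB2 hB r.val t := by
    apply Units.ext
    rw [hg, h8xU_val]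
    unfold ChevalleyDatum.x
    rw [dif_pos r.2]
  have hx : ∀ s : ZMod 2, chevB2.x (ZMod 2) r.val s = chevB2.xMat (ZMod 2) r s := by
    intro s
    unfold ChevalleyDatum.x
    rw [dif_pos r.2]
  subst hg'
  constructor
  · intro i
    rw [h8xU_val, hx]
    exact h8b2_gen r t i
  · intro i
    have e : (((h8xU chevB2 hB r.val t)⁻¹ : GL chevB2.Idx (ZMod 2)) : Matrix _ _ (ZMod 2)) =
        chevB2.x (ZMod 2) r.val (-t) := rfl
    rw [e, hx]
    exact h8b2_gen r (-t) i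

/-- `B₂(2)` is isomorphic to the symmetric group of degree six -/
theorem h8b2_iso : Nonempty (↥(chevB2.group (ZMod 2)) ≃* Equiv.Perm (Fin 6)) := by
  classical
  have hD : chevB2 ∈ [chevG2, chevB2, chevD4, chevF4, chevE6, chevE7, chevE8] := by simp
  have hB := h8base_all.{0} chevB2 hD
  let ρ : ↥(chevB2.group (ZMod 2)) →* Equiv.Perm (Fin 6) :=
    h8b2Rho.comp (Subgroup.inclusion (h8b2_le hB))
  have hsw : ∀ k : Fin 5, Equiv.swap k.castSucc k.succ ∈ ρ.range := by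
    intro k
    let w : ↥(chevB2.group (ZMod 2)) :=
      ⟨h8wordU chevB2 hB (h8b2W k), h8wordU_mem_group chevB2 hB _⟩
    refine ⟨w, ?_⟩
    have h1 : ρ w⁻¹ = Equiv.swap k.castSucc k.succ := by
      apply Equiv.ext
      intro i
      show h8b2F (Subgroup.inclusion (h8b2_le hB) w⁻¹) i = _
      apply h8b2F_eq
      have e : (((Subgroup.inclusion (h8b2_le hB) w⁻¹ : ↥h8b2Stab) :
          GL chevB2.Idx (ZMod 2))⁻¹ : GL chevB2.Idx (ZMod 2)) =
          h8wordU chevB2 hB (h8b2W k) := by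
        show ((w⁻¹ : ↥(chevB2.group (ZMod 2))) : GL chevB2.Idx (ZMod 2))⁻¹ = _
        rw [Subgroup.coe_inv, inv_inv]
      rw [e, h8wordU_val]
      exact h8b2_swap k i
    have h2 : ρ w = (Equiv.swap k.castSucc k.succ)⁻¹ := by
      rw [← h1, map_inv, inv_inv]
    rw [h2, Equiv.swap_inv]
  have hsurj : Function.Surjective ρ := by
    rw [← MonoidHom.range_eq_top, eq_top_iff,
      ← Subgroup.closure_eq_top_of_mclosure_eq_top (Equiv.Perm.mclosure_swap_castSucc_succ 5),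
      Subgroup.closure_le]
    rintro _ ⟨k, rfl⟩
    exact hsw k
  have hc : Nat.card ↥(chevB2.group (ZMod 2)) = Nat.card (Equiv.Perm (Fin 6)) := by
    have h := Cfsg.Agent.S1060.result (F := ZMod 2) (q := 2) (ZMod.card 2)
    rw [Nat.card_eq_fintype_card (α := Equiv.Perm (Fin 6)), Fintype.card_perm, Fintype.card_fin]
    have e1 : Nat.gcd 2 (2 - 1) = 1 := by decide
    rw [e1, one_mul] at h
    rw [h]
    decide
  exact ⟨MulEquiv.ofBijective ρ ((Nat.bijective_iff_surjective_and_card ρ).mpr ⟨hsurj, hc⟩)⟩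

end Cfsg.Agent.Lib.helper8
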