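import Mathlib
import Cfsg.Prelude.Def_ChevStructure
import Cfsg.Prelude.Def_ChevG2
import Cfsg.Prelude.Def_LieTwisted
import Cfsg.Agent.Lib.helper8.ChevBA7

set_option autoImplicit false

namespace Cfsg.Agent.Lib.helper8

open Cfsg.Lie Cfsg.Lie.ChevalleyDatum

universe u

variable {K : Type u} [Field K] [Fintype K] {m : ℕ}

theorem h8ba_conj_eq {G : Type*} [Group G] (θ : G ≃* G) (k : G) :
    MulAut.conj (θ k) = (θ : MulAut G) * MulAut.conj k * (θ : MulAut G)⁻¹ := by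
  apply MulEquiv.ext
  intro x
  show θ k * x * (θ k)⁻¹ = θ (k * θ.symm x * k⁻¹)
  rw [map_mul, map_mul, map_inv, θ.apply_symm_apply]

section
variable (hK : Fintype.card K = 3 ^ (2 * m + 1)) (hch : CharP K 3) (hB : H8Base.{u} chevG2)
  (θ : ↥(twistedG2 K (3 ^ m)) ≃* ↥(twistedG2 K (3 ^ m)))
  (hU : ((chevG2.posUnipotent K ⊓ twistedG2 K (3 ^ m)).subgroupOf (twistedG2 K (3 ^ m))).map
    θ.toMonoidHom = (chevG2.posUnipotent K ⊓ twistedG2 K (3 ^ m)).subgroupOf (twistedG2 K (3 ^ m)))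
  (hV : ((chevG2.negUnipotent K ⊓ twistedG2 K (3 ^ m)).subgroupOf (twistedG2 K (3 ^ m))).map
    θ.toMonoidHom = (chevG2.negUnipotent K ⊓ twistedG2 K (3 ^ m)).subgroupOf (twistedG2 K (3 ^ m)))

include hK hU in
theorem h8ba_theta_U (t u v : K) :
    ∃ t' u' v' : K, θ (h8baW hB m t u v) = h8baW hB m t' u' v' := by
  rw [← h8baW_mem_iff hK hB, ← hU]
  exact ⟨h8baW hB m t u v, (h8baW_mem_iff hK hB _).mpr ⟨t, u, v, rfl⟩, rfl⟩

include hK hU hV in
theorem h8ba_theta_H (k : ↥(twistedG2 K (3 ^ m)))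
    (hk : k ∈ (chevG2.diagonalSubgroup K ⊓ twistedG2 K (3 ^ m)).subgroupOf
      (twistedG2 K (3 ^ m))) :
    θ k ∈ (chevG2.diagonalSubgroup K ⊓ twistedG2 K (3 ^ m)).subgroupOf
      (twistedG2 K (3 ^ m)) := by
  rw [← h8ba_inner hK, h8ba_conj_eq]
  have hθ : (θ : MulAut ↥(twistedG2 K (3 ^ m))) ∈ h8ayA0
      ((chevG2.posUnipotent K ⊓ twistedG2 K (3 ^ m)).subgroupOf (twistedG2 K (3 ^ m)))
      ((chevG2.negUnipotent K ⊓ twistedG2 K (3 ^ m)).subgroupOf (twistedG2 K (3 ^ m))) :=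
    (h8ayA0_mem _ _ _).mpr ⟨hU, hV⟩
  exact Subgroup.mul_mem _ (Subgroup.mul_mem _ hθ ((h8ba_inner hK k).mpr hk))
    (Subgroup.inv_mem _ hθ)

include hK hU hV in
/-- an automorphism stabilizing `U ∩ ²G₂(q)` and `V ∩ ²G₂(q)` is compatible with the action
of the torus -/
theorem h8ba_theta_equiv (c : K) (hc : c ≠ 0) :
    ∃ c' : K, c' ≠ 0 ∧ ∀ t u v t' u' v' : K, θ (h8baW hB m t u v) = h8baW hB m t' u' v' →
      θ (h8baW hB m (c * t) (c * h8baSig hch m c * u) (c ^ 2 * h8baSig hch m c * v)) =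
        h8baW hB m (c' * t') (c' * h8baSig hch m c' * u') (c' ^ 2 * h8baSig hch m c' * v') := by
  obtain ⟨k, hk, hkc⟩ := h8ba_chi_surj hK hB c hc
  have hk' := h8ba_theta_H hK θ hU hV k hk
  refine ⟨h8chi chevG2 hB (θ k).val 6,
    (h8ba_chi hK hch hB _ (Subgroup.mem_subgroupOf.mp hk')).1, ?_⟩
  intro t u v t' u' v' h
  have e := h8baW_conj hK hch hB k hk t u v
  rw [hkc] at e
  rw [← e, map_mul, map_mul, map_inv, h, h8baW_conj hK hch hB (θ k) hk']

include hK hU hV in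
/-- an automorphism stabilizing `U ∩ ²G₂(q)` and `V ∩ ²G₂(q)` is semilinear on the first
coordinate -/
theorem h8ba_theta_data :
    ∃ a : K, a ≠ 0 ∧ ∃ φ : K ≃+* K, ∀ t u v, ∃ u' v',
      θ (h8baW hB m t u v) = h8baW hB m (a * φ t) u' v' := by
  have hch : CharP K 3 := h8ree_char3 hK
  have C := h8ba_coord hK hch hB
  apply h8ba_semilinear C θ.toMonoidHom θ.injective (h8ba_theta_U hK hB θ hU)
  intro c hc
  obtain ⟨c', hc', h⟩ := h8ba_theta_equiv hK hch hB θ hU hV c hc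
  refine ⟨c', hc', ?_⟩
  intro t t' u' v' ht
  have := h t 0 0 t' u' v' ht
  rw [mul_zero, mul_zero] at this
  exact ⟨_, _, this⟩

include hK hU hV in
/-- an automorphism stabilizing `U ∩ ²G₂(q)` and `V ∩ ²G₂(q)` and inducing the identity on the
first coordinate is the identity on `U ∩ ²G₂(q)` -/
theorem h8ba_theta_rigid_U (hm : 1 ≤ m)
    (hid : ∀ t u v, ∃ u' v', θ (h8baW hB m t u v) = h8baW hB m t u' v') (t u v : K) :
    θ (h8baW hB m t u v) = h8baW hB m t u v := by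
  have hch : CharP K 3 := h8ree_char3 hK
  have C := h8ba_coord hK hch hB
  apply h8ba_rigid C (h8baSig_sq hK hch) (h8baSig_ne hm hK hch) (h8ba_card_odd hK)
    θ.toMonoidHom hid
  intro c hc
  obtain ⟨c', hc', h⟩ := h8ba_theta_equiv hK hch hB θ hU hV c hc
  have hcc : c' = c := by
    obtain ⟨u1, v1, h1⟩ := hid 1 0 0
    have h2 := h 1 0 0 1 u1 v1 h1
    obtain ⟨u2, v2, h3⟩ := hid (c * 1) (c * h8baSig hch m c * 0) (c ^ 2 * h8baSig hch m c * 0)
    rw [h3] at h2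
    have := (C.inj _ _ _ _ _ _ h2).1
    rw [mul_one, mul_one] at this
    exact this.symm
  rw [hcc] at h
  exact h

end

end Cfsg.Agent.Lib.helper8
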