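import Mathlib
import Cfsg.Prelude.Def_ChevStructure
import Cfsg.Prelude.Def_ChevG2
import Cfsg.Prelude.Def_LieTwisted
import Cfsg.Agent.Lib.helper8.ChevBA8
import Cfsg.Agent.Lib.helper8.ChevAY14

set_option autoImplicit false

namespace Cfsg.Agent.Lib.helper8

open Cfsg.Lie Cfsg.Lie.ChevalleyDatum

universe u

variable {K : Type u} [Field K]

theorem h8ba_map_wordU (e : ℕ) (ψ : K →+* K) (t u v : K) :
    (reeWordU e t u v).map (fun p => (p.1, ψ p.2)) = reeWordU e (ψ t) (ψ u) (ψ v) := by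
  simp [reeWordU, map_add, map_pow]

theorem h8ba_map_wordV (e : ℕ) (ψ : K →+* K) (t u v : K) :
    (reeWordV e t u v).map (fun p => (p.1, ψ p.2)) = reeWordV e (ψ t) (ψ u) (ψ v) := by
  simp [reeWordV, reeWordU, ChevalleyDatum.negWord, map_add, map_pow, map_neg]

/-- the entrywise field endomorphisms preserve the Ree group -/
theorem h8ba_Psi_mem (hB : H8Base.{u} chevG2) (e : ℕ) (ψ : K →+* K) (g : GL chevG2.Idx K)
    (hg : g ∈ twistedG2 K e) : h8Psi chevG2 ψ g ∈ twistedG2 K e := by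
  have h1 : twistedG2 K e ≤ (twistedG2 K e).comap (h8Psi chevG2 ψ) := by
    conv_lhs => unfold twistedG2 ChevalleyDatum.genSubgroup
    rw [Subgroup.closure_le]
    rintro g ⟨w, ⟨t, u, v, hw⟩, hg⟩
    have hgw : g = h8wordU chevG2 hB w := Units.ext (by rw [hg, h8wordU_val])
    show h8Psi chevG2 ψ g ∈ twistedG2 K e
    rw [hgw, h8Psi_wordU chevG2 hB hB]
    rcases hw with rfl | rfl
    · rw [h8ba_map_wordU]
      exact h8reeWordU_mem hB e _ _ _
    · rw [h8ba_map_wordV]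
      exact h8reeWordV_mem hB e _ _ _
  exact h1 hg

theorem h8ba_Psi_W (hB : H8Base.{u} chevG2) (m : ℕ) (ψ : K →+* K) (t u v : K) :
    h8Psi chevG2 ψ (h8reeW hB m t u v) = h8reeW hB m (ψ t) (ψ u) (ψ v) := by
  unfold h8reeW
  rw [h8Psi_wordU chevG2 hB hB, h8ba_map_wordU]

variable [Fintype K] {m : ℕ}

/-- the automorphism of the Ree group with given data -/
theorem h8ba_exists (hK : Fintype.card K = 3 ^ (2 * m + 1)) (hB : H8Base.{u} chevG2)
    (a : K) (ha : a ≠ 0) (φ : K ≃+* K) :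
    ∃ θ : ↥(twistedG2 K (3 ^ m)) ≃* ↥(twistedG2 K (3 ^ m)),
      ((chevG2.posUnipotent K ⊓ twistedG2 K (3 ^ m)).subgroupOf (twistedG2 K (3 ^ m))).map
        θ.toMonoidHom =
        (chevG2.posUnipotent K ⊓ twistedG2 K (3 ^ m)).subgroupOf (twistedG2 K (3 ^ m)) ∧
      ((chevG2.negUnipotent K ⊓ twistedG2 K (3 ^ m)).subgroupOf (twistedG2 K (3 ^ m))).map
        θ.toMonoidHom =
        (chevG2.negUnipotent K ⊓ twistedG2 K (3 ^ m)).subgroupOf (twistedG2 K (3 ^ m)) ∧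
      ∀ t u v : K, ∃ u' v' : K, θ (h8baW hB m t u v) = h8baW hB m (a * φ t) u' v' := by
  have hch := h8ree_char3 hK
  obtain ⟨k, hk, hka⟩ := h8ba_chi_surj hK hB a ha
  have hk' := Subgroup.mem_subgroupOf.mp hk
  set g₀ : GL chevG2.Idx K := k.val with hg₀
  set Θ : GL chevG2.Idx K ≃* GL chevG2.Idx K :=
    (h8ayPsiEquiv chevG2 φ).trans (MulAut.conj g₀) with hΘdef
  have hΘ : ∀ x, Θ x = g₀ * h8Psi chevG2 (φ : K →+* K) x * g₀⁻¹ := fun x => rfl
  have hΘs : ∀ x, Θ.symm x = h8Psi chevG2 (φ.symm : K →+* K) (g₀⁻¹ * x * g₀⁻¹⁻¹) := by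
    intro x
    rw [inv_inv]
    rfl
  have hg₀G : g₀ ∈ twistedG2 K (3 ^ m) := k.2
  have hmap : (twistedG2 K (3 ^ m)).map Θ.toMonoidHom = twistedG2 K (3 ^ m) := by
    apply le_antisymm
    · rintro _ ⟨x, hx, rfl⟩
      show Θ x ∈ _
      rw [hΘ]
      exact Subgroup.mul_mem _ (Subgroup.mul_mem _ hg₀G (h8ba_Psi_mem hB _ _ x hx))
        (Subgroup.inv_mem _ hg₀G)
    · intro x hx
      refine ⟨Θ.symm x, ?_, Θ.apply_symm_apply x⟩
      rw [hΘs]
      apply h8ba_Psi_mem hB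
      exact Subgroup.mul_mem _ (Subgroup.mul_mem _ (Subgroup.inv_mem _ hg₀G) hx)
        (Subgroup.inv_mem _ (Subgroup.inv_mem _ hg₀G))
  have hnU := h8_H_le_normalizer_U (F := K) chevG2 hB hk'.1
  have hnV := h8_H_le_normalizer_V (F := K) chevG2 hB hk'.1
  have hnU' := Subgroup.inv_mem _ hnU
  have hnV' := Subgroup.inv_mem _ hnV
  refine ⟨h8ayRes (twistedG2 K (3 ^ m)) Θ hmap, ?_, ?_, ?_⟩
  · apply h8ayRes_map
    · intro g hg
      rw [hΘ]
      exact (Subgroup.mem_normalizer_iff.mp hnU _).mp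
        (h8Psi_U_le chevG2 hB hB _ ⟨g, hg, rfl⟩)
    · intro g hg
      rw [hΘs]
      exact h8Psi_U_le chevG2 hB hB _ ⟨_, (Subgroup.mem_normalizer_iff.mp hnU' _).mp hg, rfl⟩
  · apply h8ayRes_map
    · intro g hg
      rw [hΘ]
      exact (Subgroup.mem_normalizer_iff.mp hnV _).mp
        (h8Psi_V_le chevG2 hB hB _ ⟨g, hg, rfl⟩)
    · intro g hg
      rw [hΘs]
      exact h8Psi_V_le chevG2 hB hB _ ⟨_, (Subgroup.mem_normalizer_iff.mp hnV' _).mp hg, rfl⟩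
  · intro t u v
    have h1 := h8baW_conj hK hch hB k hk (φ t) (φ u) (φ v)
    rw [hka] at h1
    refine ⟨a * h8baSig hch m a * φ u, a ^ 2 * h8baSig hch m a * φ v, ?_⟩
    rw [← h1]
    apply Subtype.ext
    show Θ (h8reeW hB m t u v) = g₀ * h8reeW hB m (φ t) (φ u) (φ v) * g₀⁻¹
    rw [hΘ, h8ba_Psi_W]
    rfl

end Cfsg.Agent.Lib.helper8
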