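import Mathlib
import Cfsg.Prelude.Def_ChevStructure
import Cfsg.Prelude.Def_ChevG2
import Cfsg.Prelude.Def_LieTwisted
import Cfsg.Agent.Lib.helper8.ChevBA8
import Cfsg.Agent.Lib.helper8.ChevRee26

set_option autoImplicit false

namespace Cfsg.Agent.Lib.helper8

open Cfsg.Lie Cfsg.Lie.ChevalleyDatum

universe u

variable {K : Type u} [Field K] [Fintype K] {m : ℕ}

section
variable (hK : Fintype.card K = 3 ^ (2 * m + 1)) (hB : H8Base.{u} chevG2)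
  (θ : ↥(twistedG2 K (3 ^ m)) ≃* ↥(twistedG2 K (3 ^ m)))
  (hU : ((chevG2.posUnipotent K ⊓ twistedG2 K (3 ^ m)).subgroupOf (twistedG2 K (3 ^ m))).map
    θ.toMonoidHom = (chevG2.posUnipotent K ⊓ twistedG2 K (3 ^ m)).subgroupOf (twistedG2 K (3 ^ m)))
  (hV : ((chevG2.negUnipotent K ⊓ twistedG2 K (3 ^ m)).subgroupOf (twistedG2 K (3 ^ m))).map
    θ.toMonoidHom = (chevG2.negUnipotent K ⊓ twistedG2 K (3 ^ m)).subgroupOf (twistedG2 K (3 ^ m)))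
  (hfix : ∀ t u v : K, θ (h8baW hB m t u v) = h8baW hB m t u v)

include hK hfix in
theorem h8ba_fix_U (x : ↥(twistedG2 K (3 ^ m)))
    (hx : (x : GL chevG2.Idx K) ∈ chevG2.posUnipotent K) : θ x = x := by
  obtain ⟨t, u, v, rfl⟩ := (h8baW_mem_iff hK hB x).mp (Subgroup.mem_subgroupOf.mpr ⟨hx, x.2⟩)
  exact hfix t u v

include hK hU hV hfix in
theorem h8ba_fix_H (k : ↥(twistedG2 K (3 ^ m)))
    (hk : (k : GL chevG2.Idx K) ∈ chevG2.diagonalSubgroup K) : θ k = k := by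
  have hkH : k ∈ (chevG2.diagonalSubgroup K ⊓ twistedG2 K (3 ^ m)).subgroupOf
      (twistedG2 K (3 ^ m)) := Subgroup.mem_subgroupOf.mpr ⟨hk, k.2⟩
  have hk' := Subgroup.mem_subgroupOf.mp (h8ba_theta_H hK θ hU hV k hkH)
  have hch := h8ree_char3 hK
  have hconj := h8baW_conj hK hch hB k hkH 1 0 0
  have h1 : θ k * h8baW hB m 1 0 0 * (θ k)⁻¹ = k * h8baW hB m 1 0 0 * k⁻¹ := by
    have := congrArg θ hconj
    rw [map_mul, map_mul, map_inv, hfix, hfix] at this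
    rw [this, hconj]
  have hd : (k⁻¹ * θ k : ↥(twistedG2 K (3 ^ m))).val ∈ chevG2.diagonalSubgroup K :=
    Subgroup.mul_mem _ (Subgroup.inv_mem _ hk) hk'.1
  have h2 : (k⁻¹ * θ k) * h8baW hB m 1 0 0 * (k⁻¹ * θ k)⁻¹ = h8baW hB m 1 0 0 := by
    have : (k⁻¹ * θ k) * h8baW hB m 1 0 0 * (k⁻¹ * θ k)⁻¹ =
        k⁻¹ * (θ k * h8baW hB m 1 0 0 * (θ k)⁻¹) * k := by group
    rw [this, h1]
    group
  have h3 := h8ree_H_cent_U hK hB _ hd (congrArg Subtype.val h2)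
  have h4 : k⁻¹ * θ k = 1 := Subtype.ext h3
  exact (inv_mul_eq_one.mp h4).symm

include hK hU hV hfix in
/-- an automorphism stabilizing `U ∩ ²G₂(q)` and `V ∩ ²G₂(q)` and fixing `U ∩ ²G₂(q)`
pointwise moves every element inside its coset of `B ∩ ²G₂(q)` -/
theorem h8ba_fix_coset (z : ↥(twistedG2 K (3 ^ m))) :
    ((z⁻¹ * θ z : ↥(twistedG2 K (3 ^ m))) : GL chevG2.Idx K) ∈ chevG2.borelSubgroup K := by
  set n₀ : ↥(twistedG2 K (3 ^ m)) := ⟨h8reeN0 hB (3 ^ m), h8reeN0_mem _⟩ with hn₀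
  have hn₀v : (n₀ : GL chevG2.Idx K) = h8reeN0 hB (3 ^ m) := rfl
  -- the image of the Weyl element
  have hb : ((n₀⁻¹ * θ n₀ : ↥(twistedG2 K (3 ^ m))) : GL chevG2.Idx K) ∈
      chevG2.borelSubgroup K := by
    obtain ⟨w, hw, hw1⟩ := h8ree_U1_ne hK hB
    set w' : ↥(twistedG2 K (3 ^ m)) := ⟨w, hw.2⟩ with hw'
    have hθw : θ w' = w' := h8ba_fix_U hK hB θ hfix w' hw.1
    have hv : n₀ * w' * n₀⁻¹ ∈ (chevG2.negUnipotent K ⊓ twistedG2 K (3 ^ m)).subgroupOf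
        (twistedG2 K (3 ^ m)) := by
      rw [Subgroup.mem_subgroupOf]
      refine ⟨?_, (n₀ * w' * n₀⁻¹).2⟩
      exact h8reeN0_conj_V hK hB w hw.1
    have hv' : θ (n₀ * w' * n₀⁻¹) ∈ (chevG2.negUnipotent K ⊓ twistedG2 K (3 ^ m)).subgroupOf
        (twistedG2 K (3 ^ m)) := by
      rw [← hV]
      exact ⟨_, hv, rfl⟩
    rw [Subgroup.mem_subgroupOf] at hv'
    have h1 := h8ba_n0_conj_U hK hB _ hv'.1
    rw [h8ba_n0_inv hK hB] at h1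
    have h2 : (n₀⁻¹ * θ n₀ : ↥(twistedG2 K (3 ^ m))).val * w *
        (n₀⁻¹ * θ n₀ : ↥(twistedG2 K (3 ^ m))).val⁻¹ =
        h8reeN0 hB (3 ^ m) * (θ (n₀ * w' * n₀⁻¹)).val * h8reeN0 hB (3 ^ m) := by
      rw [map_mul, map_mul, map_inv, hθw]
      show (h8reeN0 hB (3 ^ m))⁻¹ * (θ n₀).val * w *
        ((h8reeN0 hB (3 ^ m))⁻¹ * (θ n₀).val)⁻¹ =
        h8reeN0 hB (3 ^ m) * ((θ n₀).val * w * (θ n₀).val⁻¹) * h8reeN0 hB (3 ^ m)
      rw [h8ba_n0_inv hK hB]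
      have hsq := h8ba_n0_sq hK hB
      have hinv : (h8reeN0 hB (3 ^ m) * (θ n₀).val)⁻¹ =
          (θ n₀).val⁻¹ * h8reeN0 hB (3 ^ m) := by
        rw [mul_inv_rev, h8ba_n0_inv hK hB]
      rw [hinv]
      group
    rw [← h2] at h1
    exact h8ree_TI_core hK hB _ w (n₀⁻¹ * θ n₀).2 hw.1 hw1 h1
  rcases h8ree_G1_normal hK hB z.val z.2 with ⟨u, hu, k, hk, hz⟩ | ⟨u1, hu1, k, hk, u, hu, hz⟩
  · have e : z = (⟨u, hu.2⟩ : ↥(twistedG2 K (3 ^ m))) * ⟨k, hk.2⟩ := Subtype.ext hz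
    have h1 : θ z = z := by
      rw [e, map_mul, h8ba_fix_U hK hB θ hfix ⟨u, hu.2⟩ hu.1,
        h8ba_fix_H hK hB θ hU hV hfix ⟨k, hk.2⟩ hk.1]
    rw [h1, inv_mul_cancel]
    exact Subgroup.one_mem _
  · have e : z = (⟨u1, hu1.2⟩ : ↥(twistedG2 K (3 ^ m))) * (⟨k, hk.2⟩ * n₀) * ⟨u, hu.2⟩ :=
      Subtype.ext hz
    have h1 : θ z = z * ((⟨u, hu.2⟩ : ↥(twistedG2 K (3 ^ m)))⁻¹ * (n₀⁻¹ * θ n₀) * ⟨u, hu.2⟩) := by
      rw [e, map_mul, map_mul, map_mul, h8ba_fix_U hK hB θ hfix ⟨u1, hu1.2⟩ hu1.1,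
        h8ba_fix_U hK hB θ hfix ⟨u, hu.2⟩ hu.1, h8ba_fix_H hK hB θ hU hV hfix ⟨k, hk.2⟩ hk.1]
      group
    rw [h1, inv_mul_cancel_left]
    exact Subgroup.mul_mem _ (Subgroup.mul_mem _
      (Subgroup.inv_mem _ (h8U_le_B chevG2 hu.1)) hb) (h8U_le_B chevG2 hu.1)

include hK hU hV hfix in
/-- an automorphism stabilizing `U ∩ ²G₂(q)` and `V ∩ ²G₂(q)` and fixing `U ∩ ²G₂(q)`
pointwise is the identity -/
theorem h8ba_fix_all (g : ↥(twistedG2 K (3 ^ m))) : θ g = g := by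
  have hcore := h8ree_core hK
  have hmem : g⁻¹ * θ g ∈ ((chevG2.borelSubgroup K ⊓ twistedG2 K (3 ^ m)).subgroupOf
      (twistedG2 K (3 ^ m))).normalCore := by
    intro y
    rw [Subgroup.mem_subgroupOf]
    refine ⟨?_, (y * (g⁻¹ * θ g) * y⁻¹).2⟩
    have h1 := h8ba_fix_coset hK hB θ hU hV hfix (g * y⁻¹)
    have h2 := h8ba_fix_coset hK hB θ hU hV hfix y⁻¹
    have e : y * (g⁻¹ * θ g) * y⁻¹ = ((g * y⁻¹)⁻¹ * θ (g * y⁻¹)) * ((y⁻¹)⁻¹ * θ y⁻¹)⁻¹ := by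
      rw [map_mul]
      group
    rw [e]
    exact Subgroup.mul_mem _ h1 (Subgroup.inv_mem _ h2)
  rw [hcore, Subgroup.mem_bot] at hmem
  exact (inv_mul_eq_one.mp hmem).symm

end

end Cfsg.Agent.Lib.helper8
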