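import Mathlib
import Cfsg.Prelude.Def_ChevStructure
import Cfsg.Prelude.Def_ChevG2
import Cfsg.Prelude.Def_LieTwisted
import Cfsg.Prelude.Def_KGroupFacts
import Cfsg.Agent.Lib.helper8.ChevBA9
import Cfsg.Agent.Lib.helper8.ChevBA10
import Cfsg.Agent.Lib.helper8.ChevAV7

set_option autoImplicit false

namespace Cfsg.Agent.Lib.helper8

open Cfsg.Lie Cfsg.Lie.ChevalleyDatum

universe u

variable {K : Type u} [Field K] [Fintype K] {m : ℕ}

/-- the number of automorphisms of the Ree group stabilizing `U ∩ ²G₂(q)` and `V ∩ ²G₂(q)` -/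
theorem h8ba_A0_card (hm : 1 ≤ m) (hK : Fintype.card K = 3 ^ (2 * m + 1)) :
    Nat.card ↥(h8ayA0
      ((chevG2.posUnipotent K ⊓ twistedG2 K (3 ^ m)).subgroupOf (twistedG2 K (3 ^ m)))
      ((chevG2.negUnipotent K ⊓ twistedG2 K (3 ^ m)).subgroupOf (twistedG2 K (3 ^ m)))) =
      Nat.card (Kˣ × (K ≃+* K)) := by
  have hD : chevG2 ∈ [chevG2, chevB2, chevD4, chevF4, chevE6, chevE7, chevE8] := by simp
  have hB := h8base_all.{u} chevG2 hD
  have hch : CharP K 3 := h8ree_char3 hK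
  have C := h8ba_coord hK hch hB
  apply h8ay_card_of_rel (fun (θ : ↥(h8ayA0
      ((chevG2.posUnipotent K ⊓ twistedG2 K (3 ^ m)).subgroupOf (twistedG2 K (3 ^ m)))
      ((chevG2.negUnipotent K ⊓ twistedG2 K (3 ^ m)).subgroupOf (twistedG2 K (3 ^ m)))))
      (x : Kˣ × (K ≃+* K)) => ∀ t u v : K, ∃ u' v' : K,
        (θ.val : ↥(twistedG2 K (3 ^ m)) ≃* ↥(twistedG2 K (3 ^ m))) (h8baW hB m t u v) =
          h8baW hB m ((x.1 : K) * x.2 t) u' v')
  · intro θ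
    obtain ⟨hU, hV⟩ := (h8ayA0_mem _ _ _).mp θ.2
    obtain ⟨a, ha, φ, h⟩ := h8ba_theta_data hK hB θ.val hU hV
    exact ⟨(Units.mk0 a ha, φ), h⟩
  · intro x
    obtain ⟨θ, hU, hV, h⟩ := h8ba_exists hK hB (x.1 : K) (Units.ne_zero _) x.2
    exact ⟨⟨θ, (h8ayA0_mem _ _ _).mpr ⟨hU, hV⟩⟩, h⟩
  · intro θ x x' h h'
    have key : ∀ t, (x.1 : K) * x.2 t = (x'.1 : K) * x'.2 t := by
      intro t
      obtain ⟨u1, v1, h1⟩ := h t 0 0
      obtain ⟨u2, v2, h2⟩ := h' t 0 0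
      rw [h1] at h2
      exact (C.inj _ _ _ _ _ _ h2).1
    have h1 : (x.1 : K) = (x'.1 : K) := by
      have := key 1
      rw [map_one, map_one, mul_one, mul_one] at this
      exact this
    have h2 : x.2 = x'.2 := by
      apply RingEquiv.ext
      intro t
      have := key t
      rw [h1] at this
      exact mul_left_cancel₀ (Units.ne_zero _) this
    exact Prod.ext (Units.ext h1) h2
  · intro θ θ' x h h'
    obtain ⟨hU, hV⟩ := (h8ayA0_mem _ _ _).mp θ.2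
    have hϑ := Subgroup.mul_mem _ (Subgroup.inv_mem _ θ.2) θ'.2
    obtain ⟨hϑU, hϑV⟩ := (h8ayA0_mem _ _ _).mp hϑ
    obtain ⟨hsU, hsV⟩ := (h8ayA0_mem _ _ _).mp (Subgroup.inv_mem _ θ.2)
    set ϑ : ↥(twistedG2 K (3 ^ m)) ≃* ↥(twistedG2 K (3 ^ m)) := θ.val⁻¹ * θ'.val with hϑdef
    have hϑapp : ∀ g, ϑ g = (θ.val : ↥(twistedG2 K (3 ^ m)) ≃* ↥(twistedG2 K (3 ^ m))).symm
        (θ'.val g) := fun g => rfl
    have hid : ∀ t u v, ∃ u' v', ϑ (h8baW hB m t u v) = h8baW hB m t u' v' := by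
      intro t u v
      obtain ⟨u1, v1, h1⟩ := h' t u v
      obtain ⟨t2, u2, v2, h2⟩ := h8ba_theta_U hK hB (θ.val⁻¹ :
        ↥(twistedG2 K (3 ^ m)) ≃* ↥(twistedG2 K (3 ^ m))) hsU ((x.1 : K) * x.2 t) u1 v1
      have h2' : (θ.val : ↥(twistedG2 K (3 ^ m)) ≃* ↥(twistedG2 K (3 ^ m))).symm
          (h8baW hB m ((x.1 : K) * x.2 t) u1 v1) = h8baW hB m t2 u2 v2 := h2
      obtain ⟨u3, v3, h3⟩ := h t2 u2 v2
      rw [← h2', MulEquiv.apply_symm_apply] at h3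
      have h4 := (C.inj _ _ _ _ _ _ h3).1
      have h5 : t = t2 := x.2.injective (mul_left_cancel₀ (Units.ne_zero _) h4)
      refine ⟨u2, v2, ?_⟩
      rw [hϑapp, h1, h2', h5]
    have hfix := h8ba_theta_rigid_U hK hB ϑ hϑU hϑV hm hid
    have hall := h8ba_fix_all hK hB ϑ hϑU hϑV hfix
    apply Subtype.ext
    apply MulEquiv.ext
    intro g
    have := hall g
    rw [hϑapp] at this
    conv_lhs => rw [← this]
    rw [MulEquiv.apply_symm_apply]

/-- the order of the outer automorphism group of the Ree group `²G₂(3^(2m+1))` -/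
theorem h8out_ree (hm : 1 ≤ m) (hK : Fintype.card K = 3 ^ (2 * m + 1)) :
    Nat.card (Cfsg.Out ↥(twistedG2 K (3 ^ m))) = 2 * m + 1 := by
  have hch : CharP K 3 := h8ree_char3 hK
  have : Fact (Nat.Prime 3) := ⟨Nat.prime_three⟩
  have h1 := h8ba_out hm hK
  have hcK : Nat.card K = 3 ^ (2 * m + 1) := by rw [Nat.card_eq_fintype_card, hK]
  rw [h8ba_A0_card hm hK, Nat.card_prod, Nat.card_units, hcK,
    h8av_ringAut_card 3 (2 * m + 1) hK] at h1
  have hpos : 0 < 3 ^ (2 * m + 1) - 1 := by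
    have : 3 ^ 1 ≤ 3 ^ (2 * m + 1) := Nat.pow_le_pow_right (by norm_num) (by omega)
    omega
  exact Nat.eq_of_mul_eq_mul_left hpos h1

end Cfsg.Agent.Lib.helper8
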