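import Mathlib
import Cfsg.Prelude.Def_ChevStructure
import Cfsg.Prelude.Def_ChevF4
import Cfsg.Prelude.Def_LieTwisted
import Cfsg.Agent.Lib.helper8.ChevTF35
import Cfsg.Agent.Lib.helper8.ChevAY18
import Cfsg.Agent.Lib.helper8.ChevAZ7

set_option autoImplicit false

namespace Cfsg.Agent.Lib.helper8

open Cfsg.Lie Cfsg.Lie.ChevalleyDatum H3

universe u

variable {K : Type u} [Field K]

/-- the signs of the images of the two fundamental classes under the sixteen elements of the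
twisted Weyl group -/
theorem h8bb_tab : ∀ k < 16,
    ((chevF4.IsPosRoot (h8sW chevF4 (h8tfWd k) 24) ∧ chevF4.IsPosRoot (h8sW chevF4 (h8tfWd k) 33)) ∨
      (chevF4.IsNegRoot (h8sW chevF4 (h8tfWd k) 24) ∧
        chevF4.IsNegRoot (h8sW chevF4 (h8tfWd k) 33))) ∧
    ((∀ r ∈ [25, 27, 28, 30], chevF4.IsPosRoot (h8sW chevF4 (h8tfWd k) r)) ∨
      (∀ r ∈ [25, 27, 28, 30], chevF4.IsNegRoot (h8sW chevF4 (h8tfWd k) r))) ∧
    (chevF4.IsPosRoot (h8sW chevF4 (h8tfWd k) 24) → chevF4.IsPosRoot (h8sW chevF4 (h8tfWd k) 25) →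
      ∀ r < 48, h8sW chevF4 (h8tfWd k) r = r) ∧
    (chevF4.IsNegRoot (h8sW chevF4 (h8tfWd k) 24) → chevF4.IsNegRoot (h8sW chevF4 (h8tfWd k) 25) →
      ∀ r < 48, h8sW chevF4 (h8tfWd k) r = h8sW chevF4 (h8ofW 15) r) := by decide +kernel

section
variable {hB : H8Base.{u} chevF4} [CharP K 2] (R : H8TF K hB)
  (hB0 : H8Base.{0} chevF4) (hA : H8ReflAll chevF4) (hC : H8CommAll.{u} chevF4)
  (hBN : H8BN chevF4) (hW : H8BN2 chevF4) (hO : H8Ord chevF4) (hO2 : H8Ord2 chevF4)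

include hB0 in
/-- the action of a fixed element of `N` on the root subgroups -/
theorem h8bb_word_act (n : GL chevF4.Idx K) (hn : n ∈ chevF4.monomialSubgroup K)
    (hfix : h8tfS R n = n) :
    ∃ k < 16, h8Pi chevF4 hB hA hBN hW hO2 ⟨n, hn⟩ = h8wPerm chevF4 hA (h8tfWd k) ∧
      ∀ r < 48, ∃ c : K, c ≠ 0 ∧ ∀ t : K,
        n * h8xU chevF4 hB r t * n⁻¹ = h8xU chevF4 hB (h8sW chevF4 (h8tfWd k) r) (c * t) := by
  have hcomm : ∀ r, h8Pi chevF4 hB hA hBN hW hO2 ⟨n, hn⟩ (h8tfRhoF r) =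
      h8tfRhoF (h8Pi chevF4 hB hA hBN hW hO2 ⟨n, hn⟩ r) :=
    fun r => h8tf_Pi_comm R hA hBN hW hO2 ⟨n, hn⟩ hfix r
  have hcl := h8tf_cent hB0 hA hBN hW hO2 _ _
    (h8Pi_mem_W chevF4 hB hA hBN hW hO2 ⟨n, hn⟩) hcomm rfl
  obtain ⟨k, hk, hπ⟩ := h8tf_cent_word hA _ hcl
  refine ⟨k, hk, hπ, ?_⟩
  intro r hr
  obtain ⟨c, hc, h1⟩ := h8Pi_act chevF4 hB hA hBN hW hO2 ⟨n, hn⟩ ⟨r, hr⟩
  refine ⟨c, hc, fun t => ?_⟩
  have := h1 t
  rw [hπ, h8wPerm_val chevF4 hA _ (h8tfWd_lt k)] at this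
  simpa using this

variable {m : ℕ} (hfe : ∀ t : K, R.f t = t ^ (2 ^ m))

include hB0 hA hC hBN hW hO2 hfe in
/-- an element of `N ∩ ²F₄(q)` mapping `U ∩ ²F₄(q)` into `U` lies in `H` -/
theorem h8bb_N_fix (n : GL chevF4.Idx K) (hn : n ∈ chevF4.monomialSubgroup K)
    (hn1 : n ∈ twistedF4 K (2 ^ m))
    (h : ∀ x ∈ chevF4.posUnipotent K ⊓ twistedF4 K (2 ^ m), n * x * n⁻¹ ∈ chevF4.posUnipotent K) :
    n ∈ chevF4.diagonalSubgroup K := by
  have hfix := (h8tf_G1_fix R hC (2 ^ m) hfe n hn1).2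
  obtain ⟨k, hk, hπ, hact⟩ := h8bb_word_act R hB0 hA hBN hW hO2 n hn hfix
  obtain ⟨t1, t2, t3, _⟩ := h8bb_tab k hk
  have hnegV : ∀ (L : List ℕ), (∀ r ∈ L, r < 48) →
      (∀ r ∈ L, chevF4.IsNegRoot (h8sW chevF4 (h8tfWd k) r)) →
      ∀ x ∈ Subgroup.closure (h8XLSet chevF4 K L), x ∈ chevF4.posUnipotent K →
        x ∈ twistedF4 K (2 ^ m) → x = 1 := by
    intro L hL hneg x hx hxU hx1
    have h1 : n * x * n⁻¹ ∈ chevF4.negUnipotent K := by
      apply h8conj_XL chevF4 hB n L _ _ x hx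
      intro r hr t
      obtain ⟨c, _, hc⟩ := hact r (hL r hr)
      rw [hc]
      exact h8xU_mem_V chevF4 hB _ (hneg r hr) _
    have h2 := h x ⟨hxU, hx1⟩
    have h3 : n * x * n⁻¹ ∈ chevF4.borelSubgroup K ⊓ chevF4.negUnipotent K :=
      ⟨h8U_le_B chevF4 h2, h1⟩
    rw [h8_B_inf_V chevF4 hB hBN.negOK, Subgroup.mem_bot] at h3
    have : x = n⁻¹ * (n * x * n⁻¹) * n := by group
    rw [this, h3]
    group
  have hp24 : chevF4.IsPosRoot (h8sW chevF4 (h8tfWd k) 24) := by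
    rcases t1 with h1 | h1
    · exact h1.1
    · exfalso
      apply h8tfPair_ne_one R hC hO2
      apply hnegV [24, 33] (by decide) _ _
        (h8tfPair_mem_XL R 33 24 [24, 33] (by simp) (by simp) 1) _ (h8tfPair_mem R _ hfe 1)
      · intro r hr
        simp only [List.mem_cons, List.not_mem_nil, or_false] at hr
        rcases hr with rfl | rfl
        · exact h1.1
        · exact h1.2
      · exact h8tf_XL_le_U h8tfJ1 (h8tfPair_mem_XL R 33 24 [24, 33] (by simp) (by simp) 1)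
  have hp25 : chevF4.IsPosRoot (h8sW chevF4 (h8tfWd k) 25) := by
    rcases t2 with h1 | h1
    · exact h1 25 (by simp)
    · exfalso
      apply h8tfCls_ne_one R hO2
      apply hnegV [25, 27, 28, 30] (by decide) h1 _
        (h8tfCls_mem_XL R 27 25 28 30 [25, 27, 28, 30] (by simp) (by simp) (by simp) (by simp) 0 1)
        _ (h8tfCls_mem R _ hfe 0 1)
      exact h8tf_XL_le_U h8tfJ2 (h8tfCls_mem_XL R 27 25 28 30 [25, 27, 28, 30] (by simp) (by simp)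
        (by simp) (by simp) 0 1)
  have hw1 : h8Pi chevF4 hB hA hBN hW hO2 ⟨n, hn⟩ = 1 := by
    rw [hπ]
    exact h8tf_wPerm_eq_one hA _ (h8tfWd_lt k) (t3 hp24 hp25)
  exact h8Pi_ker chevF4 hB hA hBN hW hO2 ⟨n, hn⟩ hw1

include hB0 hA hC hBN hW hO2 hfe in
/-- an element of `N ∩ ²F₄(q)` whose conjugate of `U ∩ ²F₄(q)` meets `U` trivially maps `U`
to `V` -/
theorem h8bb_N_opp (n : GL chevF4.Idx K) (hn : n ∈ chevF4.monomialSubgroup K)
    (hn1 : n ∈ twistedF4 K (2 ^ m))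
    (h : ∀ x ∈ chevF4.posUnipotent K ⊓ twistedF4 K (2 ^ m),
      n * x * n⁻¹ ∈ chevF4.posUnipotent K → x = 1) :
    (chevF4.posUnipotent K).map (MulAut.conj n).toMonoidHom = chevF4.negUnipotent K := by
  have hfix := (h8tf_G1_fix R hC (2 ^ m) hfe n hn1).2
  obtain ⟨k, hk, hπ, hact⟩ := h8bb_word_act R hB0 hA hBN hW hO2 n hn hfix
  obtain ⟨t1, t2, _, t4⟩ := h8bb_tab k hk
  have hposU : ∀ (L : List ℕ), (∀ r ∈ L, r < 48) →
      (∀ r ∈ L, chevF4.IsPosRoot (h8sW chevF4 (h8tfWd k) r)) →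
      ∀ x ∈ Subgroup.closure (h8XLSet chevF4 K L), x ∈ chevF4.posUnipotent K →
        x ∈ twistedF4 K (2 ^ m) → x = 1 := by
    intro L hL hpos x hx hxU hx1
    apply h x ⟨hxU, hx1⟩
    apply h8conj_XL chevF4 hB n L _ _ x hx
    intro r hr t
    obtain ⟨c, _, hc⟩ := hact r (hL r hr)
    rw [hc]
    exact h8xU_mem_U chevF4 hB _ (hpos r hr) _
  have hn24 : chevF4.IsNegRoot (h8sW chevF4 (h8tfWd k) 24) := by
    rcases t1 with h1 | h1
    · exfalso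
      apply h8tfPair_ne_one R hC hO2
      apply hposU [24, 33] (by decide) _ _
        (h8tfPair_mem_XL R 33 24 [24, 33] (by simp) (by simp) 1) _ (h8tfPair_mem R _ hfe 1)
      · intro r hr
        simp only [List.mem_cons, List.not_mem_nil, or_false] at hr
        rcases hr with rfl | rfl
        · exact h1.1
        · exact h1.2
      · exact h8tf_XL_le_U h8tfJ1 (h8tfPair_mem_XL R 33 24 [24, 33] (by simp) (by simp) 1)
    · exact h1.1
  have hn25 : chevF4.IsNegRoot (h8sW chevF4 (h8tfWd k) 25) := by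
    rcases t2 with h1 | h1
    · exfalso
      apply h8tfCls_ne_one R hO2
      apply hposU [25, 27, 28, 30] (by decide) h1 _
        (h8tfCls_mem_XL R 27 25 28 30 [25, 27, 28, 30] (by simp) (by simp) (by simp) (by simp) 0 1)
        _ (h8tfCls_mem R _ hfe 0 1)
      exact h8tf_XL_le_U h8tfJ2 (h8tfCls_mem_XL R 27 25 28 30 [25, 27, 28, 30] (by simp) (by simp)
        (by simp) (by simp) 0 1)
    · exact h1 25 (by simp)
  have hw0r : ∀ i ∈ h8ofW 15, i < chevF4.rank := h8of_F2 15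
  have hw : h8Pi chevF4 hB hA hBN hW hO2 ⟨n, hn⟩ = h8wPerm chevF4 hA (h8ofW 15) := by
    rw [hπ]
    apply Equiv.ext
    intro r
    apply Fin.ext
    rw [h8wPerm_val chevF4 hA _ (h8tfWd_lt k), h8wPerm_val chevF4 hA _ hw0r]
    exact t4 hn24 hn25 r.val r.2
  have hn0N : (h8nWU chevF4 hB (h8ofW 15) : GL chevF4.Idx K) ∈ chevF4.monomialSubgroup K :=
    h8nWU_mem_N chevF4 hB hA _ hw0r
  have ht : (h8nWU chevF4 hB (h8ofW 15) : GL chevF4.Idx K)⁻¹ * n ∈ chevF4.diagonalSubgroup K := by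
    have hmem : (h8nWU chevF4 hB (h8ofW 15) : GL chevF4.Idx K)⁻¹ * n ∈
        chevF4.monomialSubgroup K := Subgroup.mul_mem _ (Subgroup.inv_mem _ hn0N) hn
    have e : (⟨(h8nWU chevF4 hB (h8ofW 15) : GL chevF4.Idx K)⁻¹ * n, hmem⟩ :
        ↥(chevF4.monomialSubgroup K)) =
        (⟨h8nWU chevF4 hB (h8ofW 15), hn0N⟩ : ↥(chevF4.monomialSubgroup K))⁻¹ * ⟨n, hn⟩ := rfl
    apply h8Pi_ker chevF4 hB hA hBN hW hO2 ⟨_, hmem⟩
    rw [e, map_mul, map_inv, h8Pi_nWU chevF4 hB hA hBN hW hO2 _ hw0r, hw]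
    group
  have e : n = h8nWU chevF4 hB (h8ofW 15) *
      ((h8nWU chevF4 hB (h8ofW 15) : GL chevF4.Idx K)⁻¹ * n) := by group
  rw [e, ← h8au_map_conj_conj,
    h8map_conj_normalizer _ _ (h8_H_le_normalizer_U chevF4 hB ht),
    h8_conj_U_eq_V chevF4 hB hA _ h8of_w0chk]

end

end Cfsg.Agent.Lib.helper8
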