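import Mathlib
import Cfsg.Prelude.Def_ChevStructure
import Cfsg.Prelude.Def_ChevF4
import Cfsg.Prelude.Def_LieTwisted
import Cfsg.Agent.Lib.helper8.ChevBB1

set_option autoImplicit false

namespace Cfsg.Agent.Lib.helper8

open Cfsg.Lie Cfsg.Lie.ChevalleyDatum H3

universe u

variable {K : Type u} [Field K] [Fintype K] {m : ℕ}

/-- every element of `²F₄(q)` is a product `u₁ n u₂` with `uᵢ ∈ U ∩ ²F₄(q)`, `n ∈ N ∩ ²F₄(q)` -/
theorem h8bb_UNU (hK : Fintype.card K = 2 ^ (2 * m + 1)) (z : GL chevF4.Idx K)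
    (hz : z ∈ twistedF4 K (2 ^ m)) :
    ∃ u1 ∈ chevF4.posUnipotent K ⊓ twistedF4 K (2 ^ m),
      ∃ n ∈ chevF4.monomialSubgroup K ⊓ twistedF4 K (2 ^ m),
      ∃ u2 ∈ chevF4.posUnipotent K ⊓ twistedF4 K (2 ^ m), z = u1 * n * u2 := by
  have hD : chevF4 ∈ [chevG2, chevB2, chevD4, chevF4, chevE6, chevE7, chevE8] := by simp
  have hB := h8base_all.{u} chevF4 hD
  obtain ⟨P, hPB, hPN, _⟩ := h8tf_bnpair hK hB
  obtain ⟨n, hn, hzn⟩ := bruhat (P := P) ⟨z, hz⟩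
  obtain ⟨b, hb, b', hb', e⟩ := mem_dc.1 hzn
  rw [hPB, Subgroup.mem_subgroupOf] at hb hb'
  rw [hPN, Subgroup.mem_subgroupOf] at hn
  obtain ⟨u, hu, h, hh, eb⟩ := h8tf_B1_UH hK b.val hb.1 hb.2
  obtain ⟨u', hu', h', hh', eb'⟩ := h8tf_B1_UH hK b'.val hb'.1 hb'.2
  have e' : z = b.val * n.val * b'.val := congrArg Subtype.val e
  refine ⟨u, hu, h * n.val * h', ⟨?_, ?_⟩, h'⁻¹ * u' * h', ⟨?_, ?_⟩, ?_⟩
  · exact Subgroup.mul_mem _ (Subgroup.mul_mem _ (h8H_le_N chevF4 hh.1) hn.1)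
      (h8H_le_N chevF4 hh'.1)
  · exact Subgroup.mul_mem _ (Subgroup.mul_mem _ hh.2 hn.2) hh'.2
  · have := (Subgroup.mem_normalizer_iff.mp
      (h8_H_le_normalizer_U chevF4 hB (Subgroup.inv_mem _ hh'.1)) u').mp hu'.1
    rwa [inv_inv] at this
  · exact Subgroup.mul_mem _ (Subgroup.mul_mem _ (Subgroup.inv_mem _ hh'.2) hu'.2) hh'.2
  · rw [e', eb, eb']
    group

/-- the longest element conjugates `U ∩ ²F₄(q)` onto `V ∩ ²F₄(q)` -/
theorem h8bb_conj_U1_eq_V1 (hK : Fintype.card K = 2 ^ (2 * m + 1)) (hB : H8Base.{u} chevF4) :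
    (chevF4.posUnipotent K ⊓ twistedF4 K (2 ^ m)).map
      (MulAut.conj (h8nWU chevF4 hB (h8ofW 15) : GL chevF4.Idx K)).toMonoidHom =
      chevF4.negUnipotent K ⊓ twistedF4 K (2 ^ m) := by
  have hD : chevF4 ∈ [chevG2, chevB2, chevD4, chevF4, chevE6, chevE7, chevE8] := by simp
  have hA := h8reflAll chevF4 hD
  rw [h8ay_map_inf_conj _ _ _ (h8tf_nk_mem hK hB 15), h8_conj_U_eq_V chevF4 hB hA _ h8of_w0chk]

/-- a conjugate of `U ∩ ²F₄(q)` meeting `U ∩ ²F₄(q)` trivially is a conjugate of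
`V ∩ ²F₄(q)` under `U ∩ ²F₄(q)` -/
theorem h8bb_d (hK : Fintype.card K = 2 ^ (2 * m + 1))
    (z : GL chevF4.Idx K) (hz : z ∈ twistedF4 K (2 ^ m))
    (h : (chevF4.posUnipotent K ⊓ twistedF4 K (2 ^ m)).map (MulAut.conj z).toMonoidHom ⊓
      (chevF4.posUnipotent K ⊓ twistedF4 K (2 ^ m)) = ⊥) :
    ∃ u ∈ chevF4.posUnipotent K ⊓ twistedF4 K (2 ^ m),
      (chevF4.posUnipotent K ⊓ twistedF4 K (2 ^ m)).map (MulAut.conj z).toMonoidHom =
        (chevF4.negUnipotent K ⊓ twistedF4 K (2 ^ m)).map (MulAut.conj u).toMonoidHom := by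
  have hD : chevF4 ∈ [chevG2, chevB2, chevD4, chevF4, chevE6, chevE7, chevE8] := by simp
  have hB := h8base_all.{u} chevF4 hD
  have hB0 := h8base_all.{0} chevF4 hD
  have hA := h8reflAll chevF4 hD
  have hC := h8commAll.{u} chevF4 hD
  have hBN := h8bn_all chevF4 hD
  have hW := h8bn2_all chevF4 hD
  obtain ⟨hO, hO2⟩ := h8ord_all chevF4 hD
  have := h8tf_char2 hK
  obtain ⟨R, hfe⟩ := h8tf_setup hK hB
  obtain ⟨u1, hu1, n, hn, u2, hu2, rfl⟩ := h8bb_UNU hK z hz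
  have e1 : (chevF4.posUnipotent K ⊓ twistedF4 K (2 ^ m)).map
      (MulAut.conj (u1 * n * u2)).toMonoidHom =
      ((chevF4.posUnipotent K ⊓ twistedF4 K (2 ^ m)).map (MulAut.conj n).toMonoidHom).map
        (MulAut.conj u1).toMonoidHom := by
    have : u1 * n * u2 = u1 * (n * u2) := by group
    rw [this, ← h8au_map_conj_conj, ← h8au_map_conj_conj,
      h8au_map_conj_mem (chevF4.posUnipotent K ⊓ twistedF4 K (2 ^ m)) u2 hu2]
  rw [e1] at h ⊢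
  have hopp : (chevF4.posUnipotent K).map (MulAut.conj n).toMonoidHom = chevF4.negUnipotent K := by
    apply h8bb_N_opp R hB0 hA hC hBN hW hO2 hfe n hn.1 hn.2
    intro x hx hmx
    have hmem : u1 * (n * x * n⁻¹) * u1⁻¹ ∈
        ((chevF4.posUnipotent K ⊓ twistedF4 K (2 ^ m)).map (MulAut.conj n).toMonoidHom).map
          (MulAut.conj u1).toMonoidHom ⊓ (chevF4.posUnipotent K ⊓ twistedF4 K (2 ^ m)) := by
      refine ⟨⟨n * x * n⁻¹, ⟨x, hx, rfl⟩, rfl⟩, ?_, ?_⟩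
      · exact Subgroup.mul_mem _ (Subgroup.mul_mem _ hu1.1 hmx) (Subgroup.inv_mem _ hu1.1)
      · exact Subgroup.mul_mem _ (Subgroup.mul_mem _ hu1.2 (Subgroup.mul_mem _
          (Subgroup.mul_mem _ hn.2 hx.2) (Subgroup.inv_mem _ hn.2))) (Subgroup.inv_mem _ hu1.2)
    rw [h, Subgroup.mem_bot] at hmem
    have : x = n⁻¹ * (u1⁻¹ * (u1 * (n * x * n⁻¹) * u1⁻¹) * u1) * n := by group
    rw [this, hmem]
    group
  refine ⟨u1, hu1, ?_⟩
  congr 1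
  rw [h8ay_map_inf_conj _ _ _ hn.2, hopp]

/-- an element of `²F₄(q)` normalizing `U ∩ ²F₄(q)` lies in `B` -/
theorem h8bb_norm_U1 (hK : Fintype.card K = 2 ^ (2 * m + 1))
    (y : GL chevF4.Idx K) (hy : y ∈ twistedF4 K (2 ^ m))
    (hyU : (chevF4.posUnipotent K ⊓ twistedF4 K (2 ^ m)).map (MulAut.conj y).toMonoidHom =
      chevF4.posUnipotent K ⊓ twistedF4 K (2 ^ m)) : y ∈ chevF4.borelSubgroup K := by
  have hD : chevF4 ∈ [chevG2, chevB2, chevD4, chevF4, chevE6, chevE7, chevE8] := by simp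
  have hB := h8base_all.{u} chevF4 hD
  have hB0 := h8base_all.{0} chevF4 hD
  have hA := h8reflAll chevF4 hD
  have hC := h8commAll.{u} chevF4 hD
  have hBN := h8bn_all chevF4 hD
  have hW := h8bn2_all chevF4 hD
  obtain ⟨hO, hO2⟩ := h8ord_all chevF4 hD
  have := h8tf_char2 hK
  obtain ⟨R, hfe⟩ := h8tf_setup hK hB
  obtain ⟨u1, hu1, n, hn, u2, hu2, rfl⟩ := h8bb_UNU hK y hy
  have hmH : n ∈ chevF4.diagonalSubgroup K := by
    apply h8bb_N_fix R hB0 hA hC hBN hW hO2 hfe n hn.1 hn.2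
    intro z hz
    have h1 : u1 * n * u2 * (u2⁻¹ * z * u2) * (u1 * n * u2)⁻¹ ∈
        chevF4.posUnipotent K ⊓ twistedF4 K (2 ^ m) := by
      rw [← hyU]
      exact ⟨u2⁻¹ * z * u2, Subgroup.mul_mem _ (Subgroup.mul_mem _
        (Subgroup.inv_mem _ hu2) hz) hu2, rfl⟩
    have e : n * z * n⁻¹ =
        u1⁻¹ * (u1 * n * u2 * (u2⁻¹ * z * u2) * (u1 * n * u2)⁻¹) * u1 := by group
    rw [e]
    exact Subgroup.mul_mem _ (Subgroup.mul_mem _ (Subgroup.inv_mem _ hu1.1) h1.1) hu1.1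
  exact Subgroup.mul_mem _ (Subgroup.mul_mem _ (h8U_le_B chevF4 hu1.1) (h8H_le_B chevF4 hmH))
    (h8U_le_B chevF4 hu2.1)

/-- an element of `²F₄(q)` normalizing `U ∩ ²F₄(q)` and `V ∩ ²F₄(q)` lies in `H` -/
theorem h8bb_inner' (hK : Fintype.card K = 2 ^ (2 * m + 1))
    (x : GL chevF4.Idx K) (hx : x ∈ twistedF4 K (2 ^ m))
    (hU : (chevF4.posUnipotent K ⊓ twistedF4 K (2 ^ m)).map (MulAut.conj x).toMonoidHom =
      chevF4.posUnipotent K ⊓ twistedF4 K (2 ^ m))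
    (hV : (chevF4.negUnipotent K ⊓ twistedF4 K (2 ^ m)).map (MulAut.conj x).toMonoidHom =
      chevF4.negUnipotent K ⊓ twistedF4 K (2 ^ m)) :
    x ∈ chevF4.diagonalSubgroup K := by
  have hD : chevF4 ∈ [chevG2, chevB2, chevD4, chevF4, chevE6, chevE7, chevE8] := by simp
  have hB := h8base_all.{u} chevF4 hD
  have hA := h8reflAll chevF4 hD
  have hBN := h8bn_all chevF4 hD
  have hxB := h8bb_norm_U1 hK x hx hU
  have hn0 := h8tf_nk_mem hK hB 15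
  set n0 : GL chevF4.Idx K := h8nWU chevF4 hB (h8ofW 15) with hn0def
  have hconj := h8_conj_U_eq_V (F := K) chevF4 hB hA _ h8of_w0chk
  have hUV1 := h8bb_conj_U1_eq_V1 hK hB
  have hx' : n0⁻¹ * x * n0 ∈ chevF4.borelSubgroup K := by
    apply h8bb_norm_U1 hK _
      (Subgroup.mul_mem _ (Subgroup.mul_mem _ (Subgroup.inv_mem _ hn0) hx) hn0)
    have e : n0⁻¹ * x * n0 = n0⁻¹ * (x * n0) := by group
    rw [e, ← h8au_map_conj_conj, ← h8au_map_conj_conj, hUV1, hV, ← hUV1, h8au_map_conj_conj,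
      inv_mul_cancel, h8au_map_conj_one]
  have h3 : x ∈ (chevF4.borelSubgroup K).map (MulAut.conj n0).toMonoidHom := by
    refine ⟨n0⁻¹ * x * n0, hx', ?_⟩
    show n0 * (n0⁻¹ * x * n0) * n0⁻¹ = x
    group
  have h4 : (chevF4.borelSubgroup K).map (MulAut.conj n0).toMonoidHom =
      chevF4.negUnipotent K ⊔ chevF4.diagonalSubgroup K := by
    unfold ChevalleyDatum.borelSubgroup
    rw [Subgroup.map_sup, hconj,
      h8map_conj_normalizer _ _ (h8nWU_mem_normalizer_H chevF4 hB hA _ (h8of_F2 15))]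
  rw [h4] at h3
  have h5 : x ∈ chevF4.borelSubgroup K ⊓ (chevF4.negUnipotent K ⊔ chevF4.diagonalSubgroup K) :=
    ⟨hxB, h3⟩
  rwa [h8_B_inf_VH chevF4 hB hBN.negOK] at h5

end Cfsg.Agent.Lib.helper8
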