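import Mathlib
import Cfsg.Prelude.Def_ChevStructure
import Cfsg.Prelude.Def_ChevF4
import Cfsg.Prelude.Def_LieTwisted
import Cfsg.Agent.Lib.helper8.ChevBB2
import Cfsg.Agent.Lib.helper8.ChevAZ14

set_option autoImplicit false

namespace Cfsg.Agent.Lib.helper8

open Cfsg.Lie Cfsg.Lie.ChevalleyDatum

universe u

variable {K : Type u} [Field K] [Fintype K] {m : ℕ}

/-- the `2`-part of the order of `²F₄(q)` -/
theorem h8bb_factorization (hK : Fintype.card K = 2 ^ (2 * m + 1)) :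
    (Nat.card ↥(twistedF4 K (2 ^ m))).factorization 2 = 12 * (2 * m + 1) := by
  set q := 2 ^ (2 * m + 1) with hq
  have h2q : 2 ∣ q := dvd_pow_self 2 (by omega)
  have hq0 : 0 < q := by positivity
  apply h8_factorization_of_eq 2 (12 * (2 * m + 1))
    ((q - 1) * (q ^ 3 + 1) * (q ^ 4 - 1) * (q ^ 6 + 1)) _ Nat.prime_two
  · rw [(h8tf_card_both hK).2, mul_comm 12 (2 * m + 1), pow_mul]
    ring
  · intro hdvd
    rcases (Nat.Prime.dvd_mul Nat.prime_two).mp hdvd with h | h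
    · rcases (Nat.Prime.dvd_mul Nat.prime_two).mp h with h | h
      · rcases (Nat.Prime.dvd_mul Nat.prime_two).mp h with h | h
        · have := h8az_not_dvd_sub_one 2 q 1 Nat.prime_two h2q hq0 (by norm_num)
          rw [pow_one] at this
          exact this h
        · exact h8az_not_dvd_add_one 2 q 3 Nat.prime_two h2q (by norm_num) h
      · exact h8az_not_dvd_sub_one 2 q 4 Nat.prime_two h2q hq0 (by norm_num) h
    · exact h8az_not_dvd_add_one 2 q 6 Nat.prime_two h2q (by norm_num) h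

/-- after an inner automorphism, an automorphism of `²F₄(q)` stabilizes `U ∩ ²F₄(q)` and
`V ∩ ²F₄(q)` -/
theorem h8bb_normalize (hK : Fintype.card K = 2 ^ (2 * m + 1))
    (θ : ↥(twistedF4 K (2 ^ m)) ≃* ↥(twistedF4 K (2 ^ m))) :
    ∃ x : ↥(twistedF4 K (2 ^ m)),
      ((chevF4.posUnipotent K ⊓ twistedF4 K (2 ^ m)).subgroupOf (twistedF4 K (2 ^ m))).map
          (θ.trans (MulAut.conj x)).toMonoidHom =
        (chevF4.posUnipotent K ⊓ twistedF4 K (2 ^ m)).subgroupOf (twistedF4 K (2 ^ m)) ∧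
      ((chevF4.negUnipotent K ⊓ twistedF4 K (2 ^ m)).subgroupOf (twistedF4 K (2 ^ m))).map
          (θ.trans (MulAut.conj x)).toMonoidHom =
        (chevF4.negUnipotent K ⊓ twistedF4 K (2 ^ m)).subgroupOf (twistedF4 K (2 ^ m)) := by
  have hD : chevF4 ∈ [chevG2, chevB2, chevD4, chevF4, chevE6, chevE7, chevE8] := by simp
  have hB := h8base_all.{u} chevF4 hD
  have hBN := h8bn_all chevF4 hD
  have : Finite ↥(twistedF4 K (2 ^ m)) := Subtype.finite
  have : Fact (Nat.Prime 2) := ⟨Nat.prime_two⟩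
  set n₀ : ↥(twistedF4 K (2 ^ m)) := ⟨h8nWU chevF4 hB (h8ofW 15), h8tf_nk_mem hK hB 15⟩ with hn₀def
  have hUV : ((chevF4.posUnipotent K ⊓ twistedF4 K (2 ^ m)).subgroupOf
      (twistedF4 K (2 ^ m))).map (MulAut.conj n₀).toMonoidHom =
      (chevF4.negUnipotent K ⊓ twistedF4 K (2 ^ m)).subgroupOf (twistedF4 K (2 ^ m)) := by
    rw [h8au_subgroupOf_map_conj]
    show ((chevF4.posUnipotent K ⊓ twistedF4 K (2 ^ m)).map
      (MulAut.conj (h8nWU chevF4 hB (h8ofW 15) : GL chevF4.Idx K)).toMonoidHom).subgroupOf _ = _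
    rw [h8bb_conj_U1_eq_V1 hK hB]
  apply h8au_normalize 2
  · rw [h8_card_subgroupOf inf_le_right, (h8tf_card_both hK).1, h8bb_factorization hK,
      mul_comm 12 (2 * m + 1), pow_mul]
  · rw [← hUV]
    exact Nat.card_congr
      (Subgroup.equivMapOfInjective _ _ (MulAut.conj n₀).injective).toEquiv.symm
  · rw [h8au_subgroupOf_inf]
    apply h8au_subgroupOf_eq_bot
    rw [eq_bot_iff, ← h8_B_inf_V (F := K) chevF4 hB hBN.negOK]
    exact inf_le_inf (le_trans inf_le_left (h8U_le_B chevF4)) inf_le_left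
  · intro z hz
    rw [h8au_subgroupOf_map_conj, h8au_subgroupOf_inf] at hz
    have hz' := h8au_eq_bot_of_subgroupOf _ _ (le_trans inf_le_right inf_le_right) hz
    obtain ⟨u, hu, hueq⟩ := h8bb_d hK z.val z.2 hz'
    refine ⟨⟨u, hu.2⟩, Subgroup.mem_subgroupOf.mpr hu, ?_⟩
    rw [h8au_subgroupOf_map_conj, h8au_subgroupOf_map_conj, hueq]

/-- the inner automorphisms stabilizing `U ∩ ²F₄(q)` and `V ∩ ²F₄(q)` are those of
`H ∩ ²F₄(q)` -/
theorem h8bb_inner (hK : Fintype.card K = 2 ^ (2 * m + 1)) (x : ↥(twistedF4 K (2 ^ m))) :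
    MulAut.conj x ∈ h8ayA0
      ((chevF4.posUnipotent K ⊓ twistedF4 K (2 ^ m)).subgroupOf (twistedF4 K (2 ^ m)))
      ((chevF4.negUnipotent K ⊓ twistedF4 K (2 ^ m)).subgroupOf (twistedF4 K (2 ^ m))) ↔
    x ∈ (chevF4.diagonalSubgroup K ⊓ twistedF4 K (2 ^ m)).subgroupOf (twistedF4 K (2 ^ m)) := by
  have hD : chevF4 ∈ [chevG2, chevB2, chevD4, chevF4, chevE6, chevE7, chevE8] := by simp
  have hB := h8base_all.{u} chevF4 hD
  have hmapG : ∀ (A : Subgroup (GL chevF4.Idx K)), A ≤ twistedF4 K (2 ^ m) →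
      A.map (MulAut.conj (x : GL chevF4.Idx K)).toMonoidHom ≤ twistedF4 K (2 ^ m) := by
    rintro A hA _ ⟨k, hk, rfl⟩
    exact Subgroup.mul_mem _ (Subgroup.mul_mem _ x.2 (hA hk)) (Subgroup.inv_mem _ x.2)
  rw [h8ayA0_mem]
  constructor
  · rintro ⟨hU, hV⟩
    have hUx : (chevF4.posUnipotent K ⊓ twistedF4 K (2 ^ m)).map
        (MulAut.conj (x : GL chevF4.Idx K)).toMonoidHom =
        chevF4.posUnipotent K ⊓ twistedF4 K (2 ^ m) := by
      apply h8au_subgroupOf_inj _ _ _ (hmapG _ inf_le_right) inf_le_right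
      rw [← h8au_subgroupOf_map_conj]
      exact hU
    have hVx : (chevF4.negUnipotent K ⊓ twistedF4 K (2 ^ m)).map
        (MulAut.conj (x : GL chevF4.Idx K)).toMonoidHom =
        chevF4.negUnipotent K ⊓ twistedF4 K (2 ^ m) := by
      apply h8au_subgroupOf_inj _ _ _ (hmapG _ inf_le_right) inf_le_right
      rw [← h8au_subgroupOf_map_conj]
      exact hV
    rw [Subgroup.mem_subgroupOf]
    exact ⟨h8bb_inner' hK x.val x.2 hUx hVx, x.2⟩
  · intro hx
    rw [Subgroup.mem_subgroupOf] at hx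
    constructor
    · rw [h8au_subgroupOf_map_conj, h8ay_map_inf_conj _ _ _ x.2,
        h8av_map_of_mem_normalizer _ _ (h8_H_le_normalizer_U chevF4 hB hx.1)]
    · rw [h8au_subgroupOf_map_conj, h8ay_map_inf_conj _ _ _ x.2,
        h8av_map_of_mem_normalizer _ _ (h8_H_le_normalizer_V chevF4 hB hx.1)]

/-- the order of the outer automorphism group of `²F₄(q)` in terms of the automorphisms
stabilizing `U ∩ ²F₄(q)` and `V ∩ ²F₄(q)` -/
theorem h8bb_out (hm : 1 ≤ m) (hK : Fintype.card K = 2 ^ (2 * m + 1)) :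
    (2 ^ (2 * m + 1) - 1) ^ 2 * Nat.card (Cfsg.Out ↥(twistedF4 K (2 ^ m))) =
      Nat.card ↥(h8ayA0
        ((chevF4.posUnipotent K ⊓ twistedF4 K (2 ^ m)).subgroupOf (twistedF4 K (2 ^ m)))
        ((chevF4.negUnipotent K ⊓ twistedF4 K (2 ^ m)).subgroupOf (twistedF4 K (2 ^ m)))) := by
  have : Finite ↥(twistedF4 K (2 ^ m)) := Subtype.finite
  obtain ⟨hsimp, hnc⟩ := h8tf_simple hm hK
  have hcenter := h8az_center_bot hsimp hnc
  rw [← h8ay_out_card _ _
    ((chevF4.diagonalSubgroup K ⊓ twistedF4 K (2 ^ m)).subgroupOf (twistedF4 K (2 ^ m)))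
    hcenter (h8bb_normalize hK) (h8bb_inner hK), h8_card_subgroupOf inf_le_right,
    h8tf_H_card hK]

end Cfsg.Agent.Lib.helper8
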