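import Mathlib
import Cfsg.Prelude.Def_ChevStructure
import Cfsg.Prelude.Def_ChevF4
import Cfsg.Prelude.Def_LieTwisted
import Cfsg.Agent.Lib.helper8.ChevBB4
import Cfsg.Agent.Lib.helper8.ChevBA8

set_option autoImplicit false

namespace Cfsg.Agent.Lib.helper8

open Cfsg.Lie Cfsg.Lie.ChevalleyDatum H3

universe u

/-- an automorphism preserving `B` maps double cosets to double cosets -/
theorem h8bb_dc_map {G : Type*} [Group G] (P : Cfsg.BNPair G) (θ : G ≃* G)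
    (hθ : ∀ b ∈ P.B, θ b ∈ P.B) (n y : G) (hy : y ∈ dc P n) : θ y ∈ dc P (θ n) := by
  obtain ⟨b, hb, b', hb', rfl⟩ := mem_dc.1 hy
  exact mem_dc.2 ⟨θ b, hθ b hb, θ b', hθ b' hb', by rw [map_mul, map_mul]⟩

theorem h8bb_dc_card {G : Type*} [Group G] (P : Cfsg.BNPair G) (θ : G ≃* G)
    (hθ : ∀ b ∈ P.B, θ b ∈ P.B) (hθ' : ∀ b ∈ P.B, θ.symm b ∈ P.B) (n : G) :
    Nat.card ↥(dc P (θ n)) = Nat.card ↥(dc P n) := by
  apply Nat.card_congr
  refine ⟨fun x => ⟨θ.symm x.val, ?_⟩, fun x => ⟨θ x.val, h8bb_dc_map P θ hθ n x.val x.2⟩, ?_, ?_⟩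
  · have := h8bb_dc_map P θ.symm hθ' (θ n) x.val x.2
    rwa [θ.symm_apply_apply] at this
  · intro x
    exact Subtype.ext (θ.apply_symm_apply x.val)
  · intro x
    exact Subtype.ext (θ.symm_apply_apply x.val)

theorem h8bb_len_tab : ∀ k < 16, (h8ofLen k = 1 → k = 1) ∧ (h8ofLen k = 2 → k = 2) := by
  decide

variable {K : Type u} [Field K] [Fintype K] {m : ℕ}

/-- the elements of `²F₄(q)` normalizing `U ∩ ²F₄(q)` are those of `B` -/
theorem h8bb_norm_iff (hK : Fintype.card K = 2 ^ (2 * m + 1)) (x : ↥(twistedF4 K (2 ^ m))) :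
    ((chevF4.posUnipotent K ⊓ twistedF4 K (2 ^ m)).subgroupOf (twistedF4 K (2 ^ m))).map
      (MulAut.conj x).toMonoidHom =
      (chevF4.posUnipotent K ⊓ twistedF4 K (2 ^ m)).subgroupOf (twistedF4 K (2 ^ m)) ↔
    x.val ∈ chevF4.borelSubgroup K := by
  have hD : chevF4 ∈ [chevG2, chevB2, chevD4, chevF4, chevE6, chevE7, chevE8] := by simp
  have hB := h8base_all.{u} chevF4 hD
  have hmapG : ∀ (A : Subgroup (GL chevF4.Idx K)), A ≤ twistedF4 K (2 ^ m) →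
      A.map (MulAut.conj (x : GL chevF4.Idx K)).toMonoidHom ≤ twistedF4 K (2 ^ m) := by
    rintro A hA _ ⟨k, hk, rfl⟩
    exact Subgroup.mul_mem _ (Subgroup.mul_mem _ x.2 (hA hk)) (Subgroup.inv_mem _ x.2)
  constructor
  · intro hU
    apply h8bb_norm_U1 hK x.val x.2
    apply h8au_subgroupOf_inj _ _ _ (hmapG _ inf_le_right) inf_le_right
    rw [← h8au_subgroupOf_map_conj]
    exact hU
  · intro hx
    have hBP : chevF4.borelSubgroup K ≤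
        Subgroup.normalizer (chevF4.posUnipotent K : Set (GL chevF4.Idx K)) := by
      unfold ChevalleyDatum.borelSubgroup
      exact sup_le Subgroup.le_normalizer (h8_H_le_normalizer_U chevF4 hB)
    rw [h8au_subgroupOf_map_conj, h8ay_map_inf_conj _ _ _ x.2,
      h8av_map_of_mem_normalizer _ _ (hBP hx)]

section
variable (hK : Fintype.card K = 2 ^ (2 * m + 1))
  (θ : ↥(twistedF4 K (2 ^ m)) ≃* ↥(twistedF4 K (2 ^ m)))
  (hθ : (θ : MulAut ↥(twistedF4 K (2 ^ m))) ∈ h8ayA0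
      ((chevF4.posUnipotent K ⊓ twistedF4 K (2 ^ m)).subgroupOf (twistedF4 K (2 ^ m)))
      ((chevF4.negUnipotent K ⊓ twistedF4 K (2 ^ m)).subgroupOf (twistedF4 K (2 ^ m))))

include hK hθ in
/-- an automorphism stabilizing `U ∩ ²F₄(q)` stabilizes `B ∩ ²F₄(q)` -/
theorem h8bb_theta_B (b : ↥(twistedF4 K (2 ^ m))) (hb : b.val ∈ chevF4.borelSubgroup K) :
    (θ b).val ∈ chevF4.borelSubgroup K := by
  rw [← h8bb_norm_iff hK, h8ba_conj_eq]
  have h1 := ((h8ayA0_mem _ _ _).mp hθ).1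
  have h2 := ((h8ayA0_mem _ _ _).mp (Subgroup.inv_mem _ hθ)).1
  have h3 := (h8bb_norm_iff hK b).mpr hb
  show ((chevF4.posUnipotent K ⊓ twistedF4 K (2 ^ m)).subgroupOf (twistedF4 K (2 ^ m))).map
    (((θ : MulAut ↥(twistedF4 K (2 ^ m))) * MulAut.conj b *
      (θ : MulAut ↥(twistedF4 K (2 ^ m)))⁻¹ : MulAut ↥(twistedF4 K (2 ^ m)))).toMonoidHom = _
  have e : (((θ : MulAut ↥(twistedF4 K (2 ^ m))) * MulAut.conj b *
      (θ : MulAut ↥(twistedF4 K (2 ^ m)))⁻¹ : MulAut ↥(twistedF4 K (2 ^ m)))).toMonoidHom =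
      (θ.toMonoidHom.comp (MulAut.conj b).toMonoidHom).comp
        ((θ : MulAut ↥(twistedF4 K (2 ^ m)))⁻¹).toMonoidHom := rfl
  rw [e, ← Subgroup.map_map, ← Subgroup.map_map, h2, h3, h1]

include hK hθ in
theorem h8bb_theta_H (k : ↥(twistedF4 K (2 ^ m)))
    (hk : k.val ∈ chevF4.diagonalSubgroup K) : (θ k).val ∈ chevF4.diagonalSubgroup K := by
  have h0 : k ∈ (chevF4.diagonalSubgroup K ⊓ twistedF4 K (2 ^ m)).subgroupOf
      (twistedF4 K (2 ^ m)) := Subgroup.mem_subgroupOf.mpr ⟨hk, k.2⟩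
  have : θ k ∈ (chevF4.diagonalSubgroup K ⊓ twistedF4 K (2 ^ m)).subgroupOf
      (twistedF4 K (2 ^ m)) := by
    rw [← h8bb_inner hK, h8ba_conj_eq]
    exact Subgroup.mul_mem _ (Subgroup.mul_mem _ hθ ((h8bb_inner hK k).mpr h0))
      (Subgroup.inv_mem _ hθ)
  exact (Subgroup.mem_subgroupOf.mp this).1

include hK hθ in
/-- an automorphism stabilizing `U ∩ ²F₄(q)` and `V ∩ ²F₄(q)` stabilizes the two rank one
double cosets -/
theorem h8bb_theta_dc (hB : H8Base.{u} chevF4) (i : ℕ) (hi : i = 1 ∨ i = 2)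
    (y : GL chevF4.Idx K) (hy : y ∈ twistedF4 K (2 ^ m))
    (hyc : ∃ b1 ∈ chevF4.borelSubgroup K ⊓ twistedF4 K (2 ^ m),
      ∃ b2 ∈ chevF4.borelSubgroup K ⊓ twistedF4 K (2 ^ m),
        y = b1 * h8nWU chevF4 hB (h8ofW i) * b2) :
    ∃ b1 ∈ chevF4.borelSubgroup K ⊓ twistedF4 K (2 ^ m),
      ∃ b2 ∈ chevF4.borelSubgroup K ⊓ twistedF4 K (2 ^ m),
        (θ ⟨y, hy⟩).val = b1 * h8nWU chevF4 hB (h8ofW i) * b2 := by
  obtain ⟨P, hPB, hPN, hsize, hcover, hdisj⟩ := h8bb_dc_data hK hB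
  have hmemB : ∀ c : ↥(twistedF4 K (2 ^ m)), c ∈ P.B ↔ c.val ∈ chevF4.borelSubgroup K := by
    intro c
    rw [hPB, Subgroup.mem_subgroupOf]
    exact ⟨fun h => h.1, fun h => ⟨h, c.2⟩⟩
  have hθB : ∀ b ∈ P.B, θ b ∈ P.B := fun b hb =>
    (hmemB _).mpr (h8bb_theta_B hK θ hθ b ((hmemB b).mp hb))
  have hθB' : ∀ b ∈ P.B, θ.symm b ∈ P.B := fun b hb =>
    (hmemB _).mpr (h8bb_theta_B hK θ.symm (Subgroup.inv_mem _ hθ) b ((hmemB b).mp hb))
  have hi16 : i < 16 := by rcases hi with rfl | rfl <;> norm_num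
  set ni : ↥(twistedF4 K (2 ^ m)) := ⟨h8nWU chevF4 hB (h8ofW i), h8tf_nk_mem hK hB i⟩ with hni
  obtain ⟨k, hk, hmem⟩ := hcover (θ ni)
  have hcard := h8bb_dc_card P θ hθB hθB' ni
  rw [dc_eq_of_mem hmem, hsize k hk, hsize i hi16] at hcard
  have hBpos : 0 < Nat.card ↥P.B := Nat.card_pos
  have hpow : (2 ^ (2 * m + 1)) ^ h8ofLen k = (2 ^ (2 * m + 1)) ^ h8ofLen i :=
    Nat.eq_of_mul_eq_mul_left hBpos hcard
  have hq : 1 < 2 ^ (2 * m + 1) := Nat.one_lt_two_pow (by omega)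
  have hlen : h8ofLen k = h8ofLen i := Nat.pow_right_injective hq hpow
  have hki : k = i := by
    rcases hi with rfl | rfl
    · exact (h8bb_len_tab k hk).1 hlen
    · exact (h8bb_len_tab k hk).2 hlen
  subst hki
  have hyd : (⟨y, hy⟩ : ↥(twistedF4 K (2 ^ m))) ∈ dc P ni := by
    obtain ⟨b1, hb1, b2, hb2, e⟩ := hyc
    exact mem_dc.2 ⟨⟨b1, hb1.2⟩, (hmemB _).mpr hb1.1, ⟨b2, hb2.2⟩, (hmemB _).mpr hb2.1,
      Subtype.ext e⟩
  have h1 := h8bb_dc_map P θ hθB ni _ hyd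
  rw [dc_eq_of_mem hmem] at h1
  obtain ⟨b1, hb1, b2, hb2, e⟩ := mem_dc.1 h1
  exact ⟨b1.val, ⟨(hmemB _).mp hb1, b1.2⟩, b2.val, ⟨(hmemB _).mp hb2, b2.2⟩,
    congrArg Subtype.val e⟩

end

end Cfsg.Agent.Lib.helper8
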