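import Mathlib
import Cfsg.Prelude.Def_ChevStructure
import Cfsg.Prelude.Def_ChevF4
import Cfsg.Prelude.Def_LieTwisted
import Cfsg.Agent.Lib.helper8.ChevBB5

set_option autoImplicit false

namespace Cfsg.Agent.Lib.helper8

open Cfsg.Lie Cfsg.Lie.ChevalleyDatum H3

universe u

variable {K : Type u} [Field K] {hB : H8Base.{u} chevF4}

section
variable {J : Set ℕ} {L Lm wJ : List ℕ} (C : H8TFC J L Lm wJ)
  (hB0 : H8Base.{0} chevF4) (hA : H8ReflAll chevF4) (hC : H8CommAll.{u} chevF4)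
  (hBN : H8BN chevF4) (hW : H8BN2 chevF4) (hO : H8Ord chevF4) (hO2 : H8Ord2 chevF4)

include C in
theorem h8bb_XLm_le_V : Subgroup.closure (h8XLSet chevF4 K Lm) ≤ chevF4.negUnipotent K := by
  have hD : chevF4 ∈ [chevG2, chevB2, chevD4, chevF4, chevE6, chevE7, chevE8] := by simp
  have hB := h8base_all.{u} chevF4 hD
  rw [Subgroup.closure_le]
  rintro g ⟨r, t, hr, hg⟩
  have : g = h8xU chevF4 hB r t := Units.ext (by rw [hg, h8xU_val])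
  rw [this]
  exact h8xU_mem_V chevF4 hB r (C.hLm r hr).2 t

include C hB0 hA hBN hW hO2 in
/-- `U_w⁻` for `w = w_J` is generated by the root subgroups of the class -/
theorem h8bb_Um_le_XL :
    Subgroup.closure (h8UmSet chevF4 K (h8nWU chevF4 hB wJ)) ≤
      Subgroup.closure (h8XLSet chevF4 K L) := by
  apply Subgroup.closure_mono
  rintro g ⟨r, t, hr, hle, hg⟩
  by_cases hrL : r ∈ L
  · exact ⟨r, t, hrL, hg⟩
  · exfalso
    have hnN := h8nWU_mem_N (F := K) chevF4 hB hA wJ (h8tfC_w_lt C)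
    have hnP : (h8nWU chevF4 hB wJ : GL chevF4.Idx K) ∈ chevF4.parabolicSubgroup K J :=
      h8tf_LJ_le_PJ (h8tf_nWU_mem_LJ hB wJ C.wJlt)
    have hp := (h8tf_norm_UJ (hB := hB) C.hJ hB0 hA hBN hW hO2 ⟨_, hnN⟩ hnP ⟨r, hr.1⟩ hr hrL).1
    rw [h8Pi_nWU chevF4 hB hA hBN hW hO2 wJ (h8tfC_w_lt C),
      h8wPerm_val chevF4 hA wJ (h8tfC_w_lt C)] at hp
    have hact := h8nWU_act (F := K) chevF4 hB hA wJ (h8tfC_w_lt C) r hr.1
    rw [h8act_map_root chevF4 hB _ r _ hr.1 hp.1 hact] at hle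
    have h1 : h8xU chevF4 hB (h8sW chevF4 wJ r) (1 : K) ∈
        chevF4.borelSubgroup K ⊓ chevF4.negUnipotent K :=
      ⟨h8U_le_B chevF4 (h8xU_mem_U chevF4 hB _ hp 1),
        hle (h8xU_mem_rootSubgroup chevF4 hB _ 1)⟩
    rw [h8_B_inf_V chevF4 hB hBN.negOK, Subgroup.mem_bot] at h1
    exact h8au_xU_ne_one chevF4 hB hA hW _ hp.1 1 one_ne_zero h1

include C hA hBN hW hO2 in
/-- the inverse of the representative of `w_J` conjugates `X_{-S}` into `X_S` -/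
theorem h8bb_conj_sinv' (x : GL chevF4.Idx K)
    (hx : x ∈ Subgroup.closure (h8XLSet chevF4 K Lm)) :
    (h8nWU chevF4 hB wJ)⁻¹ * x * h8nWU chevF4 hB wJ ∈
      Subgroup.closure (h8XLSet chevF4 K L) := by
  have h1 := h8tfC_conj_s' (hB := hB) C hA x hx
  have h2 := h8conj_XL_H chevF4 hB _ (Subgroup.inv_mem _ (h8tfC_sq_mem (hB := hB) C hA hBN hW hO2))
    L (h8tfC_L_lt C) _ h1
  have e : (h8nWU chevF4 hB wJ)⁻¹ * x * h8nWU chevF4 hB wJ =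
      ((h8nWU chevF4 hB wJ : GL chevF4.Idx K) * h8nWU chevF4 hB wJ)⁻¹ *
        (h8nWU chevF4 hB wJ * x * (h8nWU chevF4 hB wJ)⁻¹) *
        ((h8nWU chevF4 hB wJ * h8nWU chevF4 hB wJ)⁻¹)⁻¹ := by group
  rw [e]
  exact h2

include C hA hBN hW hO2 in
/-- an element of `N` representing `w_J` differs from the standard representative by an
element of `H` -/
theorem h8bb_rep (m : ↥(chevF4.monomialSubgroup K))
    (hm : h8Pi chevF4 hB hA hBN hW hO2 m = h8wPerm chevF4 hA wJ) :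
    m.val * (h8nWU chevF4 hB wJ)⁻¹ ∈ chevF4.diagonalSubgroup K := by
  have hnN := h8nWU_mem_N (F := K) chevF4 hB hA wJ (h8tfC_w_lt C)
  have hmem : m.val * (h8nWU chevF4 hB wJ : GL chevF4.Idx K)⁻¹ ∈ chevF4.monomialSubgroup K :=
    Subgroup.mul_mem _ m.2 (Subgroup.inv_mem _ hnN)
  have e : (⟨m.val * (h8nWU chevF4 hB wJ : GL chevF4.Idx K)⁻¹, hmem⟩ :
      ↥(chevF4.monomialSubgroup K)) =
      m * (⟨h8nWU chevF4 hB wJ, hnN⟩ : ↥(chevF4.monomialSubgroup K))⁻¹ := rfl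
  apply h8Pi_ker chevF4 hB hA hBN hW hO2 ⟨_, hmem⟩
  rw [e, map_mul, map_inv, h8Pi_nWU chevF4 hB hA hBN hW hO2 wJ (h8tfC_w_lt C), hm]
  group

include C hA hBN hW hO2 in
/-- the four swaps by an element of `N` representing `w_J` -/
theorem h8bb_swap (m : GL chevF4.Idx K)
    (hm : m * (h8nWU chevF4 hB wJ)⁻¹ ∈ chevF4.diagonalSubgroup K) :
    (∀ x ∈ Subgroup.closure (h8XLSet chevF4 K L),
      m * x * m⁻¹ ∈ Subgroup.closure (h8XLSet chevF4 K Lm)) ∧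
    (∀ x ∈ Subgroup.closure (h8XLSet chevF4 K Lm),
      m * x * m⁻¹ ∈ Subgroup.closure (h8XLSet chevF4 K L)) ∧
    (∀ x ∈ Subgroup.closure (h8XLSet chevF4 K L),
      m⁻¹ * x * m ∈ Subgroup.closure (h8XLSet chevF4 K Lm)) ∧
    (∀ x ∈ Subgroup.closure (h8XLSet chevF4 K Lm),
      m⁻¹ * x * m ∈ Subgroup.closure (h8XLSet chevF4 K L)) := by
  set n : GL chevF4.Idx K := h8nWU chevF4 hB wJ with hn
  set t := m * n⁻¹ with ht
  have hmt : m = t * n := by rw [ht]; group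
  have hti := Subgroup.inv_mem _ hm
  refine ⟨?_, ?_, ?_, ?_⟩
  · intro x hx
    have h1 := h8tfC_conj_s (hB := hB) C hA x hx
    have h2 := h8conj_XL_H chevF4 hB t hm Lm (h8tfC_Lm_lt C) _ h1
    have e : m * x * m⁻¹ = t * (n * x * n⁻¹) * t⁻¹ := by rw [hmt]; group
    rw [e]; exact h2
  · intro x hx
    have h1 := h8tfC_conj_s' (hB := hB) C hA x hx
    have h2 := h8conj_XL_H chevF4 hB t hm L (h8tfC_L_lt C) _ h1
    have e : m * x * m⁻¹ = t * (n * x * n⁻¹) * t⁻¹ := by rw [hmt]; group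
    rw [e]; exact h2
  · intro x hx
    have h1 := h8conj_XL_H chevF4 hB t⁻¹ hti L (h8tfC_L_lt C) _ hx
    have h2 := h8tfC_conj_sinv (hB := hB) C hA hBN hW hO2 _ h1
    have e : m⁻¹ * x * m = n⁻¹ * (t⁻¹ * x * t⁻¹⁻¹) * n := by rw [hmt]; group
    rw [e]; exact h2
  · intro x hx
    have h1 := h8conj_XL_H chevF4 hB t⁻¹ hti Lm (h8tfC_Lm_lt C) _ hx
    have h2 := h8bb_conj_sinv' (hB := hB) C hA hBN hW hO2 _ h1
    have e : m⁻¹ * x * m = n⁻¹ * (t⁻¹ * x * t⁻¹⁻¹) * n := by rw [hmt]; group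
    rw [e]; exact h2

variable [CharP K 2] (R : H8TF K hB)

include C hB0 hA hC hBN hW hO hO2 in
/-- every nontrivial fixed element of `X_S` is the right factor of the Bruhat decomposition of
a fixed element of `X_{-S}` -/
theorem h8bb_rank1_surj (hnfix : h8tfS R (h8nWU chevF4 hB wJ) = h8nWU chevF4 hB wJ)
    (z : GL chevF4.Idx K) (hz : z ∈ Subgroup.closure (h8XLSet chevF4 K L))
    (hzfix : h8tfS R z = z) (hz1 : z ≠ 1) :
    ∃ y₀ ∈ Subgroup.closure (h8XLSet chevF4 K Lm), h8tfS R y₀ = y₀ ∧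
      ∃ a₀ ∈ Subgroup.closure (h8XLSet chevF4 K L), h8tfS R a₀ = a₀ ∧
      ∃ m₀ : ↥(chevF4.monomialSubgroup K), h8tfS R m₀.val = m₀.val ∧
        h8Pi chevF4 hB hA hBN hW hO2 m₀ = h8wPerm chevF4 hA wJ ∧ y₀ = a₀ * m₀.val * z := by
  set n : GL chevF4.Idx K := h8nWU chevF4 hB wJ with hn
  have hnN := h8nWU_mem_N (F := K) chevF4 hB hA wJ (h8tfC_w_lt C)
  have hnG := h8_N_le_group chevF4 hB hnN
  have hXLG : ∀ x ∈ Subgroup.closure (h8XLSet chevF4 K L), x ∈ chevF4.group K :=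
    fun x hx => h8_U_le_group chevF4 (h8tf_XL_le_U C.hJ hx)
  have hXLmG : ∀ x ∈ Subgroup.closure (h8XLSet chevF4 K Lm), x ∈ chevF4.group K :=
    fun x hx => h8au_V_le_group chevF4 hB (h8bb_XLm_le_V C hx)
  have hninv : h8tfS R n⁻¹ = n⁻¹ := by rw [h8tfS_inv R n hnG, hnfix]
  -- conjugation by `n` preserves fixedness
  have hconjfix : ∀ x, x ∈ chevF4.group K → h8tfS R x = x → h8tfS R (n * x * n⁻¹) = n * x * n⁻¹ := by
    intro x hx hfx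
    rw [h8tfS_mul R _ _ (Subgroup.mul_mem _ hnG hx) (Subgroup.inv_mem _ hnG),
      h8tfS_mul R _ _ hnG hx, hnfix, hfx, hninv]
  have hconjfix' : ∀ x, x ∈ chevF4.group K → h8tfS R x = x →
      h8tfS R (n⁻¹ * x * n) = n⁻¹ * x * n := by
    intro x hx hfx
    rw [h8tfS_mul R _ _ (Subgroup.mul_mem _ (Subgroup.inv_mem _ hnG) hx) hnG,
      h8tfS_mul R _ _ (Subgroup.inv_mem _ hnG) hx, hnfix, hfx, hninv]
  set v₀ := n⁻¹ * z * n with hv₀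
  have hv₀m := h8tfC_conj_sinv (hB := hB) C hA hBN hW hO2 z hz
  have hv₀fix := hconjfix' z (hXLG z hz) hzfix
  have hv₀1 : v₀ ≠ 1 := by
    intro h
    apply hz1
    have : z = n * v₀ * n⁻¹ := by rw [hv₀]; group
    rw [this, h]; group
  obtain ⟨x₁, hx₁, m', x₂, hx₂, f1, f2, f3, e, hπ⟩ := h8tf_rank1 C.hJ R hB0 hA hC hBN hW hO hO2
    wJ C.wJlt C.norm Lm C.hLm v₀ hv₀m hv₀fix hv₀1
  have hm't := h8bb_rep (hB := hB) C hA hBN hW hO2 m' hπ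
  -- `m₁ = n m' n⁻¹`
  have hm₁N : n * m'.val * n⁻¹ ∈ chevF4.monomialSubgroup K :=
    Subgroup.mul_mem _ (Subgroup.mul_mem _ hnN m'.2) (Subgroup.inv_mem _ hnN)
  have hm₁i : (n * m'.val * n⁻¹)⁻¹ ∈ chevF4.monomialSubgroup K := Subgroup.inv_mem _ hm₁N
  have hm'G := h8_N_le_group chevF4 hB m'.2
  have hsq := h8tfC_sq_mem (K := K) (hB := hB) C hA hBN hW hO2
  -- `(n m' n⁻¹)⁻¹ n⁻¹ ∈ H`
  have hrep : (n * m'.val * n⁻¹)⁻¹ * n⁻¹ ∈ chevF4.diagonalSubgroup K := by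
    have e1 : (n * m'.val * n⁻¹)⁻¹ * n⁻¹ = (m'.val * n⁻¹)⁻¹ * (n * n)⁻¹ := by group
    rw [e1]
    exact Subgroup.mul_mem _ (Subgroup.inv_mem _ hm't) (Subgroup.inv_mem _ hsq)
  obtain ⟨s1, s2, s3, s4⟩ := h8bb_swap (hB := hB) C hA hBN hW hO2 (n * m'.val * n⁻¹)⁻¹ hrep
  have hv₁ := h8tfC_conj_s (hB := hB) C hA x₁ hx₁
  have hv₂ := h8tfC_conj_s (hB := hB) C hA x₂ hx₂
  refine ⟨n * x₂ * n⁻¹, hv₂, hconjfix x₂ (hXLG x₂ hx₂) f3,
    (n * m'.val * n⁻¹)⁻¹ * (n * x₁ * n⁻¹)⁻¹ * (n * m'.val * n⁻¹)⁻¹⁻¹, ?_, ?_,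
    ⟨(n * m'.val * n⁻¹)⁻¹, hm₁i⟩, ?_, ?_, ?_⟩
  · exact s2 _ (Subgroup.inv_mem _ hv₁)
  · have hA1 : n * m'.val * n⁻¹ ∈ chevF4.group K :=
      Subgroup.mul_mem _ (Subgroup.mul_mem _ hnG hm'G) (Subgroup.inv_mem _ hnG)
    have hA2 : n * x₁ * n⁻¹ ∈ chevF4.group K :=
      Subgroup.mul_mem _ (Subgroup.mul_mem _ hnG (hXLG x₁ hx₁)) (Subgroup.inv_mem _ hnG)
    have hf1 := hconjfix m'.val hm'G f2
    have hf2 := hconjfix x₁ (hXLG x₁ hx₁) f1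
    rw [h8tfS_mul R _ _ (Subgroup.mul_mem _ (Subgroup.inv_mem _ hA1) (Subgroup.inv_mem _ hA2))
      (Subgroup.inv_mem _ (Subgroup.inv_mem _ hA1)),
      h8tfS_mul R _ _ (Subgroup.inv_mem _ hA1) (Subgroup.inv_mem _ hA2),
      h8tfS_inv R _ (Subgroup.inv_mem _ hA1), h8tfS_inv R _ hA1, h8tfS_inv R _ hA2, hf1, hf2]
  · show h8tfS R (n * m'.val * n⁻¹)⁻¹ = (n * m'.val * n⁻¹)⁻¹
    have hA1 : n * m'.val * n⁻¹ ∈ chevF4.group K :=
      Subgroup.mul_mem _ (Subgroup.mul_mem _ hnG hm'G) (Subgroup.inv_mem _ hnG)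
    rw [h8tfS_inv R _ hA1, hconjfix m'.val hm'G f2]
  · have e2 : (⟨(n * m'.val * n⁻¹)⁻¹, hm₁i⟩ : ↥(chevF4.monomialSubgroup K)) =
        ((⟨n, hnN⟩ : ↥(chevF4.monomialSubgroup K)) * m' * (⟨n, hnN⟩)⁻¹)⁻¹ := rfl
    rw [e2, map_inv, map_mul, map_mul, map_inv, hπ,
      h8Pi_nWU chevF4 hB hA hBN hW hO2 wJ (h8tfC_w_lt C)]
    have hs := C.sq hA
    have hinv : (h8wPerm chevF4 hA wJ)⁻¹ = h8wPerm chevF4 hA wJ :=
      inv_eq_of_mul_eq_one_right hs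
    rw [hinv, hs, one_mul, hinv]
  · show n * x₂ * n⁻¹ = (n * m'.val * n⁻¹)⁻¹ * (n * x₁ * n⁻¹)⁻¹ * (n * m'.val * n⁻¹)⁻¹⁻¹ *
      (n * m'.val * n⁻¹)⁻¹ * z
    have hz' : z = n * v₀ * n⁻¹ := by rw [hv₀]; group
    rw [hz', e]
    group

end

end Cfsg.Agent.Lib.helper8
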