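import Mathlib
import Cfsg.Prelude.Def_ChevStructure
import Cfsg.Prelude.Def_ChevF4
import Cfsg.Prelude.Def_LieTwisted
import Cfsg.Agent.Lib.helper8.ChevBB6

set_option autoImplicit false

namespace Cfsg.Agent.Lib.helper8

open Cfsg.Lie Cfsg.Lie.ChevalleyDatum H3

universe u

variable {K : Type u} [Field K] {hB : H8Base.{u} chevF4}

section
variable {J : Set ℕ} {L Lm wJ : List ℕ} (C : H8TFC J L Lm wJ)
  (hB0 : H8Base.{0} chevF4) (hA : H8ReflAll chevF4) (hC : H8CommAll.{u} chevF4)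
  (hBN : H8BN chevF4) (hW : H8BN2 chevF4) (hO : H8Ord chevF4) (hO2 : H8Ord2 chevF4)
  [CharP K 2] (R : H8TF K hB)

omit [CharP K 2] in
include C hA hBN hW hO2 in
/-- an element of `N` representing `w_J` is not in `H` when `n_J ∉ B` -/
theorem h8bb_rep_not_H (hnB : (h8nWU chevF4 hB wJ : GL chevF4.Idx K) ∉ chevF4.borelSubgroup K)
    (m : ↥(chevF4.monomialSubgroup K))
    (hm : h8Pi chevF4 hB hA hBN hW hO2 m = h8wPerm chevF4 hA wJ) :
    m.val ∉ chevF4.diagonalSubgroup K := by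
  intro hmH
  apply hnB
  have ht := h8bb_rep (hB := hB) C hA hBN hW hO2 m hm
  have : (h8nWU chevF4 hB wJ : GL chevF4.Idx K) =
      (m.val * (h8nWU chevF4 hB wJ)⁻¹)⁻¹ * m.val := by group
  rw [this]
  exact h8H_le_B chevF4 (Subgroup.mul_mem _ (Subgroup.inv_mem _ ht) hmH)

include C hB0 hA hC hBN hW hO hO2 in
/-- the fixed elements of `V` in the double coset of `n_J` lie in `X_{-S}` -/
theorem h8bb_V_inf_P (hnfix : h8tfS R (h8nWU chevF4 hB wJ) = h8nWU chevF4 hB wJ)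
    (hnB : (h8nWU chevF4 hB wJ : GL chevF4.Idx K) ∉ chevF4.borelSubgroup K)
    (g : GL chevF4.Idx K) (hgV : g ∈ chevF4.negUnipotent K) (hgG : g ∈ chevF4.group K)
    (hfix : h8tfS R g = g)
    (hgP : ∃ b1 ∈ chevF4.borelSubgroup K, ∃ b2 ∈ chevF4.borelSubgroup K,
      g = b1 * h8nWU chevF4 hB wJ * b2) :
    g ∈ Subgroup.closure (h8XLSet chevF4 K Lm) := by
  set n : GL chevF4.Idx K := h8nWU chevF4 hB wJ with hn
  have hnN := h8nWU_mem_N (F := K) chevF4 hB hA wJ (h8tfC_w_lt C)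
  have hVB : ∀ y : GL chevF4.Idx K, y ∈ chevF4.borelSubgroup K → y ∈ chevF4.negUnipotent K →
      y = 1 := by
    intro y h1 h2
    have : y ∈ chevF4.borelSubgroup K ⊓ chevF4.negUnipotent K := ⟨h1, h2⟩
    rwa [h8_B_inf_V chevF4 hB hBN.negOK, Subgroup.mem_bot] at this
  obtain ⟨b1, hb1, b2, hb2, hg⟩ := hgP
  obtain ⟨u1, hu1, m, hm, u, hu, e, f1, f2, f3⟩ := h8tf_normal R hA hC hBN hW hO g hgG hfix
  have huU := h8Um_le_U chevF4 m hu
  have hcell : ∃ c1 ∈ chevF4.borelSubgroup K, ∃ c2 ∈ chevF4.borelSubgroup K,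
      m⁻¹ = c1 * n⁻¹ * c2 := by
    refine ⟨u * b2⁻¹, Subgroup.mul_mem _ (h8U_le_B chevF4 huU) (Subgroup.inv_mem _ hb2),
      b1⁻¹ * u1, Subgroup.mul_mem _ (Subgroup.inv_mem _ hb1) (h8U_le_B chevF4 hu1), ?_⟩
    have : m = u1⁻¹ * g * u⁻¹ := by rw [e]; group
    rw [this, hg]
    group
  have ht := h8cell_disjoint chevF4 hB hA hC hBN m⁻¹ n⁻¹
    (Subgroup.inv_mem _ hm) (Subgroup.inv_mem _ hnN) hcell
  rw [inv_inv] at ht
  have hsub : h8UmSet chevF4 K m ⊆ h8UmSet chevF4 K n := by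
    have := h8UmSet_mono_H chevF4 hB m (m * n⁻¹)⁻¹ 1 (Subgroup.inv_mem _ ht) (Subgroup.one_mem _)
    have e' : (m * n⁻¹)⁻¹ * m * 1 = n := by group
    rwa [e'] at this
  have hu2 := h8bb_Um_le_XL (hB := hB) C hB0 hA hBN hW hO2 (Subgroup.closure_mono hsub hu)
  by_cases hu0 : u = 1
  · exfalso
    rw [hu0, mul_one] at e
    have hmH : m ∈ chevF4.diagonalSubgroup K := by
      apply h8au_N_inf_BV chevF4 hB hA hC hBN hW m u1⁻¹ g hm
        (Subgroup.inv_mem _ (h8U_le_B chevF4 hu1)) hgV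
      rw [e]; group
    apply hnB
    have : n = (m * n⁻¹)⁻¹ * m := by group
    rw [this]
    exact h8H_le_B chevF4 (Subgroup.mul_mem _ (Subgroup.inv_mem _ ht) hmH)
  · obtain ⟨y₀, hy₀, _, a₀, ha₀, _, m₀, _, hπ, ey⟩ :=
      h8bb_rank1_surj (hB := hB) C hB0 hA hC hBN hW hO hO2 R hnfix u hu2 f3 hu0
    have hm₀ := h8bb_rep (hB := hB) C hA hBN hW hO2 m₀ hπ
    have hq : g * y₀⁻¹ = 1 := by
      apply hVB
      · have : g * y₀⁻¹ = u1 * ((m * n⁻¹) * (m₀.val * n⁻¹)⁻¹) * a₀⁻¹ := by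
          rw [e, ey]; group
        rw [this]
        exact Subgroup.mul_mem _ (Subgroup.mul_mem _ (h8U_le_B chevF4 hu1)
          (h8H_le_B chevF4 (Subgroup.mul_mem _ ht (Subgroup.inv_mem _ hm₀))))
          (Subgroup.inv_mem _ (h8U_le_B chevF4 (h8tf_XL_le_U C.hJ ha₀)))
      · exact Subgroup.mul_mem _ hgV (Subgroup.inv_mem _ (h8bb_XLm_le_V C hy₀))
    have : g = y₀ := by
      have : g = (g * y₀⁻¹) * y₀ := by group
      rw [this, hq, one_mul]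
    rw [this]
    exact hy₀

variable (G1 : Subgroup (GL chevF4.Idx K))
  (hG1 : ∀ g ∈ G1, g ∈ chevF4.group K ∧ h8tfS R g = g)
  (hXfix : ∀ g ∈ Subgroup.closure (h8XLSet chevF4 K L), h8tfS R g = g → g ∈ G1)
  (hnS : (h8nWU chevF4 hB wJ : GL chevF4.Idx K) ∈ G1)

omit [CharP K 2] in
include C hA hG1 hXfix hnS in
/-- the fixed elements of `X_{-S}` lie in the twisted group -/
theorem h8bb_Xmfix (g : GL chevF4.Idx K) (hg : g ∈ Subgroup.closure (h8XLSet chevF4 K Lm))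
    (hfix : h8tfS R g = g) : g ∈ G1 := by
  set n : GL chevF4.Idx K := h8nWU chevF4 hB wJ with hn
  have hnG := (hG1 n hnS).1
  have hnfix := (hG1 n hnS).2
  have hgG : g ∈ chevF4.group K := h8au_V_le_group chevF4 hB (h8bb_XLm_le_V C hg)
  have h1 := h8tfC_conj_s' (hB := hB) C hA g hg
  have h2 : h8tfS R (n * g * n⁻¹) = n * g * n⁻¹ := by
    rw [h8tfS_mul R _ _ (Subgroup.mul_mem _ hnG hgG) (Subgroup.inv_mem _ hnG),
      h8tfS_mul R _ _ hnG hgG, h8tfS_inv R n hnG, hnfix, hfix]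
  have h3 := hXfix _ h1 h2
  have : g = n⁻¹ * (n * g * n⁻¹) * n := by group
  rw [this]
  exact Subgroup.mul_mem _ (Subgroup.mul_mem _ (Subgroup.inv_mem _ hnS) h3) hnS

include C hB0 hA hC hBN hW hO hO2 hG1 hXfix hnS in
/-- a fixed element of `X_S` normalizing the fixed elements of `X_{-S}` is trivial -/
theorem h8bb_N_triv (hnB : (h8nWU chevF4 hB wJ : GL chevF4.Idx K) ∉ chevF4.borelSubgroup K)
    (z : GL chevF4.Idx K) (hz : z ∈ Subgroup.closure (h8XLSet chevF4 K L)) (hz1 : z ∈ G1)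
    (hnorm : ∀ y' ∈ Subgroup.closure (h8XLSet chevF4 K Lm), y' ∈ G1 →
      z * y' * z⁻¹ ∈ Subgroup.closure (h8XLSet chevF4 K Lm)) : z = 1 := by
  by_contra hne
  obtain ⟨y₀, hy₀, fy, a₀, ha₀, _, m₀, _, hπ, ey⟩ :=
    h8bb_rank1_surj (hB := hB) C hB0 hA hC hBN hW hO hO2 R (hG1 _ hnS).2 z hz (hG1 z hz1).2 hne
  have hy₀G := h8bb_Xmfix (hB := hB) C hA R G1 hG1 hXfix hnS y₀ hy₀ fy
  have h1 := h8bb_XLm_le_V C (hnorm y₀ hy₀ hy₀G)
  have hmH : m₀.val ∈ chevF4.diagonalSubgroup K := by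
    apply h8au_N_inf_BV chevF4 hB hA hC hBN hW m₀.val (z * a₀)⁻¹ (z * y₀ * z⁻¹) m₀.2
      (Subgroup.inv_mem _ (h8U_le_B chevF4 (Subgroup.mul_mem _ (h8tf_XL_le_U C.hJ hz)
        (h8tf_XL_le_U C.hJ ha₀)))) h1
    rw [ey]; group
  exact h8bb_rep_not_H (hB := hB) C hA hBN hW hO2 hnB m₀ hπ hmH

end

end Cfsg.Agent.Lib.helper8
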