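import Mathlib
import Cfsg.Prelude.Def_ChevStructure
import Cfsg.Prelude.Def_ChevF4
import Cfsg.Prelude.Def_LieTwisted
import Cfsg.Agent.Lib.helper8.ChevBB7

set_option autoImplicit false

namespace Cfsg.Agent.Lib.helper8

open Cfsg.Lie Cfsg.Lie.ChevalleyDatum H3

universe u

variable {K : Type u} [Field K] {hB : H8Base.{u} chevF4}

section
variable {J : Set ℕ} {L Lm wJ : List ℕ} (C : H8TFC J L Lm wJ)
  (hB0 : H8Base.{0} chevF4) (hA : H8ReflAll chevF4) (hC : H8CommAll.{u} chevF4)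
  (hBN : H8BN chevF4) (hW : H8BN2 chevF4) (hO : H8Ord chevF4) (hO2 : H8Ord2 chevF4)
  [CharP K 2] (R : H8TF K hB)
  (G1 : Subgroup (GL chevF4.Idx K))
  (hG1 : ∀ g ∈ G1, g ∈ chevF4.group K ∧ h8tfS R g = g)
  (hXfix : ∀ g ∈ Subgroup.closure (h8XLSet chevF4 K L), h8tfS R g = g → g ∈ G1)
  (hnS : (h8nWU chevF4 hB wJ : GL chevF4.Idx K) ∈ G1)

include C hB0 hA hC hBN hW hO hO2 hG1 hXfix hnS in
/-- an automorphism of the twisted group fixing the fixed elements of `X_S` and stabilizing those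
of `X_{-S}` fixes the latter -/
theorem h8bb_rigid_neg
    (hnB : (h8nWU chevF4 hB wJ : GL chevF4.Idx K) ∉ chevF4.borelSubgroup K)
    (ϑ : ↥G1 ≃* ↥G1)
    (h1 : ∀ x : ↥G1, x.val ∈ Subgroup.closure (h8XLSet chevF4 K L) → ϑ x = x)
    (h2 : ∀ y : ↥G1, y.val ∈ Subgroup.closure (h8XLSet chevF4 K Lm) →
      (ϑ y).val ∈ Subgroup.closure (h8XLSet chevF4 K Lm))
    (h2' : ∀ y : ↥G1, y.val ∈ Subgroup.closure (h8XLSet chevF4 K Lm) →
      (ϑ.symm y).val ∈ Subgroup.closure (h8XLSet chevF4 K Lm))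
    (y : ↥G1) (hy : y.val ∈ Subgroup.closure (h8XLSet chevF4 K Lm)) : ϑ y = y := by
  by_cases hy1 : y = 1
  · rw [hy1, map_one]
  have hVB : ∀ g : GL chevF4.Idx K, g ∈ chevF4.borelSubgroup K → g ∈ chevF4.negUnipotent K →
      g = 1 := by
    intro g h1 h2
    have : g ∈ chevF4.borelSubgroup K ⊓ chevF4.negUnipotent K := ⟨h1, h2⟩
    rwa [h8_B_inf_V chevF4 hB hBN.negOK, Subgroup.mem_bot] at this
  have hyne : y.val ≠ 1 := fun h => hy1 (Subtype.ext h)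
  obtain ⟨a, ha, m, b, hb, fa, fm, fb, ey, hπ⟩ := h8tf_rank1 C.hJ R hB0 hA hC hBN hW hO hO2
    wJ C.wJlt C.norm Lm C.hLm y.val hy (hG1 y.val y.2).2 hyne
  have haG := hXfix a ha fa
  have hbG := hXfix b hb fb
  have hmG : m.val ∈ G1 := by
    have : m.val = a⁻¹ * y.val * b⁻¹ := by rw [ey]; group
    rw [this]
    exact G1.mul_mem (G1.mul_mem (G1.inv_mem haG) y.2) (G1.inv_mem hbG)
  have hy'' := h2 y hy
  have hy''ne : (ϑ y).val ≠ 1 := by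
    intro h
    apply hy1
    have : ϑ y = 1 := Subtype.ext h
    exact ϑ.injective (this.trans (map_one ϑ).symm)
  obtain ⟨a'', ha'', m'', b'', hb'', fa'', fm'', fb'', ey'', hπ''⟩ :=
    h8tf_rank1 C.hJ R hB0 hA hC hBN hW hO hO2
      wJ C.wJlt C.norm Lm C.hLm (ϑ y).val hy'' (hG1 _ (ϑ y).2).2 hy''ne
  have ha''G := hXfix a'' ha'' fa''
  have hb''G := hXfix b'' hb'' fb''
  have hm''G : m''.val ∈ G1 := by
    have : m''.val = a''⁻¹ * (ϑ y).val * b''⁻¹ := by rw [ey'']; group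
    rw [this]
    exact G1.mul_mem (G1.mul_mem (G1.inv_mem ha''G) (ϑ y).2) (G1.inv_mem hb''G)
  obtain ⟨M, hM⟩ : ∃ M : ↥G1, M.val = m.val := ⟨⟨m.val, hmG⟩, rfl⟩
  have hϑM : (ϑ M).val = a⁻¹ * a'' * m''.val * b'' * b⁻¹ := by
    have e1 : y = (⟨a, haG⟩ : ↥G1) * M * ⟨b, hbG⟩ := by
      apply Subtype.ext
      simp only [Subgroup.coe_mul, hM]
      exact ey
    have e2 : ϑ y = (⟨a, haG⟩ : ↥G1) * ϑ M * ⟨b, hbG⟩ := by
      conv_lhs => rw [e1]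
      rw [map_mul, map_mul, h1 ⟨a, haG⟩ ha, h1 ⟨b, hbG⟩ hb]
    have e3 : (ϑ y).val = a * (ϑ M).val * b := by
      rw [e2]; simp only [Subgroup.coe_mul]
    rw [ey''] at e3
    have : (ϑ M).val = a⁻¹ * (a * (ϑ M).val * b) * b⁻¹ := by group
    rw [this, ← e3]
    group
  have hrep := h8bb_rep (hB := hB) C hA hBN hW hO2 m hπ
  have hrep'' := h8bb_rep (hB := hB) C hA hBN hW hO2 m'' hπ''
  obtain ⟨s1, s2, _, _⟩ := h8bb_swap (hB := hB) C hA hBN hW hO2 m.val hrep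
  obtain ⟨_, _, t3, t4⟩ := h8bb_swap (hB := hB) C hA hBN hW hO2 m''.val hrep''
  -- the image of `m` maps the fixed elements of `X_S` into `X_{-S}`
  have hA' : ∀ x ∈ Subgroup.closure (h8XLSet chevF4 K L), x ∈ G1 →
      (ϑ M).val * x * ((ϑ M).val)⁻¹ ∈ Subgroup.closure (h8XLSet chevF4 K Lm) := by
    intro x hx hxG
    have hval : ((M * ⟨x, hxG⟩ * M⁻¹ : ↥G1) : GL chevF4.Idx K) = m.val * x * m.val⁻¹ := by
      simp only [Subgroup.coe_mul, Subgroup.coe_inv, hM]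
    have h5 : ((M * ⟨x, hxG⟩ * M⁻¹ : ↥G1) : GL chevF4.Idx K) ∈
        Subgroup.closure (h8XLSet chevF4 K Lm) := by
      rw [hval]; exact s1 x hx
    have h6 := h2 _ h5
    rw [map_mul, map_mul, map_inv, h1 ⟨x, hxG⟩ hx] at h6
    have hval2 : ((ϑ M * ⟨x, hxG⟩ * (ϑ M)⁻¹ : ↥G1) : GL chevF4.Idx K) =
        (ϑ M).val * x * ((ϑ M).val)⁻¹ := by
      simp only [Subgroup.coe_mul, Subgroup.coe_inv]
    rw [hval2] at h6
    exact h6
  -- and the fixed elements of `X_{-S}` into `X_S`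
  have hB' : ∀ y' ∈ Subgroup.closure (h8XLSet chevF4 K Lm), ∀ hy'G : y' ∈ G1,
      (ϑ M).val * y' * ((ϑ M).val)⁻¹ ∈ Subgroup.closure (h8XLSet chevF4 K L) := by
    intro y' hy' hy'G
    have hy₁ := h2' ⟨y', hy'G⟩ hy'
    have h5 := s2 _ hy₁
    have hval : ((M * ϑ.symm ⟨y', hy'G⟩ * M⁻¹ : ↥G1) : GL chevF4.Idx K) =
        m.val * (ϑ.symm ⟨y', hy'G⟩).val * m.val⁻¹ := by
      simp only [Subgroup.coe_mul, Subgroup.coe_inv, hM]
    have h5' : ((M * ϑ.symm ⟨y', hy'G⟩ * M⁻¹ : ↥G1) : GL chevF4.Idx K) ∈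
        Subgroup.closure (h8XLSet chevF4 K L) := by
      rw [hval]; exact h5
    have h6 := h1 _ h5'
    rw [map_mul, map_mul, map_inv, ϑ.apply_symm_apply] at h6
    have h7 := congrArg Subtype.val h6
    simp only [Subgroup.coe_mul, Subgroup.coe_inv] at h7
    rw [hM] at h7
    rw [h7]
    exact h5
  have hfixG : ∀ g ∈ G1, h8tfS R g = g := fun g hg => (hG1 g hg).2
  have hz₁ : a⁻¹ * a'' = 1 := by
    apply h8bb_N_triv (hB := hB) C hB0 hA hC hBN hW hO hO2 R G1 hG1 hXfix hnS hnB _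
      (Subgroup.mul_mem _ (Subgroup.inv_mem _ ha) ha'') (G1.mul_mem (G1.inv_mem haG) ha''G)
    intro y' hy' hy'G
    have hx' := t4 y' hy'
    have hx'G : m''.val⁻¹ * y' * m''.val ∈ G1 :=
      G1.mul_mem (G1.mul_mem (G1.inv_mem hm''G) hy'G) hm''G
    have hz₂L : b'' * b⁻¹ ∈ Subgroup.closure (h8XLSet chevF4 K L) :=
      Subgroup.mul_mem _ hb'' (Subgroup.inv_mem _ hb)
    have hz₂G : b'' * b⁻¹ ∈ G1 := G1.mul_mem hb''G (G1.inv_mem hbG)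
    have hx : (b'' * b⁻¹)⁻¹ * (m''.val⁻¹ * y' * m''.val) * (b'' * b⁻¹) ∈
        Subgroup.closure (h8XLSet chevF4 K L) :=
      Subgroup.mul_mem _ (Subgroup.mul_mem _ (Subgroup.inv_mem _ hz₂L) hx') hz₂L
    have hxG : (b'' * b⁻¹)⁻¹ * (m''.val⁻¹ * y' * m''.val) * (b'' * b⁻¹) ∈ G1 :=
      G1.mul_mem (G1.mul_mem (G1.inv_mem hz₂G) hx'G) hz₂G
    have := hA' _ hx hxG
    have e : (ϑ M).val * ((b'' * b⁻¹)⁻¹ * (m''.val⁻¹ * y' * m''.val) * (b'' * b⁻¹)) *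
        ((ϑ M).val)⁻¹ = a⁻¹ * a'' * y' * (a⁻¹ * a'')⁻¹ := by
      rw [hϑM]; group
    rwa [e] at this
  have hz₂ : b'' * b⁻¹ = 1 := by
    apply h8bb_N_triv (hB := hB) C hB0 hA hC hBN hW hO hO2 R G1 hG1 hXfix hnS hnB _
      (Subgroup.mul_mem _ hb'' (Subgroup.inv_mem _ hb)) (G1.mul_mem hb''G (G1.inv_mem hbG))
    intro y' hy' hy'G
    have h5 := hB' y' hy' hy'G
    have e : (ϑ M).val * y' * ((ϑ M).val)⁻¹ =
        (a⁻¹ * a'') * (m''.val * (b'' * b⁻¹ * y' * (b'' * b⁻¹)⁻¹) * m''.val⁻¹) *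
          (a⁻¹ * a'')⁻¹ := by
      rw [hϑM]; group
    rw [e, hz₁, one_mul, inv_one, mul_one] at h5
    have h6 := t3 _ h5
    have e2 : m''.val⁻¹ * (m''.val * (b'' * b⁻¹ * y' * (b'' * b⁻¹)⁻¹) * m''.val⁻¹) * m''.val =
        b'' * b⁻¹ * y' * (b'' * b⁻¹)⁻¹ := by group
    rwa [e2] at h6
  have ea : a'' = a := by
    have : a'' = a * (a⁻¹ * a'') := by group
    rw [this, hz₁, mul_one]
  have eb : b'' = b := by
    have : b'' = (b'' * b⁻¹) * b := by group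
    rw [this, hz₂, one_mul]
  apply Subtype.ext
  have hq : (ϑ y).val * (y.val)⁻¹ = 1 := by
    apply hVB
    · have : (ϑ y).val * (y.val)⁻¹ =
          a * ((m''.val * (h8nWU chevF4 hB wJ)⁻¹) * (m.val * (h8nWU chevF4 hB wJ)⁻¹)⁻¹) * a⁻¹ := by
        rw [ey'', ey, ea, eb]; group
      rw [this]
      have haB := h8U_le_B chevF4 (h8tf_XL_le_U (K := K) C.hJ ha)
      exact Subgroup.mul_mem _ (Subgroup.mul_mem _ haB
        (h8H_le_B chevF4 (Subgroup.mul_mem _ hrep'' (Subgroup.inv_mem _ hrep))))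
        (Subgroup.inv_mem _ haB)
    · exact Subgroup.mul_mem _ (h8bb_XLm_le_V C hy'') (Subgroup.inv_mem _ (h8bb_XLm_le_V C hy))
  have : (ϑ y).val = ((ϑ y).val * (y.val)⁻¹) * y.val := by group
  rw [this, hq, one_mul]

end

end Cfsg.Agent.Lib.helper8
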