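import Mathlib
import Cfsg.Prelude.Def_ChevStructure
import Cfsg.Prelude.Def_ChevF4
import Cfsg.Prelude.Def_LieTwisted
import Cfsg.Agent.Lib.helper8.ChevBB8

set_option autoImplicit false

namespace Cfsg.Agent.Lib.helper8

open Cfsg.Lie Cfsg.Lie.ChevalleyDatum H3

universe u

variable {K : Type u} [Field K]

/-- the action of the longest word on the two classes -/
theorem h8bb_w0_tab :
    (∀ r ∈ [24, 33], h8sW chevF4 (h8ofW 15) r ∈ [23, 14]) ∧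
    (∀ r ∈ [23, 14], h8sW chevF4 (h8ofW 15).reverse r ∈ [24, 33]) ∧
    (∀ r ∈ [25, 27, 28, 30], h8sW chevF4 (h8ofW 15) r ∈ [22, 20, 19, 17]) ∧
    (∀ r ∈ [22, 20, 19, 17], h8sW chevF4 (h8ofW 15).reverse r ∈ [25, 27, 28, 30]) := by
  decide +kernel

theorem h8bb_w0_lt : ∀ i ∈ h8ofW 15, i < chevF4.rank := by decide +kernel

/-- conjugation by a word representative maps a product of root subgroups into another -/
theorem h8bb_conj_word (hB : H8Base.{u} chevF4) (hA : H8ReflAll chevF4) (w : List ℕ)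
    (hw : ∀ i ∈ w, i < chevF4.rank) (M M' : List ℕ) (hM : ∀ r ∈ M, r < chevF4.nroots)
    (hMM' : ∀ r ∈ M, h8sW chevF4 w r ∈ M') (x : GL chevF4.Idx K)
    (hx : x ∈ Subgroup.closure (h8XLSet chevF4 K M)) :
    h8nWU chevF4 hB w * x * (h8nWU chevF4 hB w)⁻¹ ∈ Subgroup.closure (h8XLSet chevF4 K M') := by
  apply h8conj_XL chevF4 hB _ M _ _ x hx
  intro r hr t
  obtain ⟨c, _, hact⟩ := h8actN_act chevF4 hB _ _ _
    (h8actN_word (F := K) chevF4 hB hA w hw r (hM r hr))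
  rw [hact]
  exact h8xU_mem_XL chevF4 hB M' _ (hMM' r hr) _

/-- conjugation by the inverse of a word representative -/
theorem h8bb_conj_word_inv (hB : H8Base.{u} chevF4) (hA : H8ReflAll chevF4) (w : List ℕ)
    (hw : ∀ i ∈ w, i < chevF4.rank) (M M' : List ℕ) (hM : ∀ r ∈ M, r < chevF4.nroots)
    (hMM' : ∀ r ∈ M, h8sW chevF4 w.reverse r ∈ M') (x : GL chevF4.Idx K)
    (hx : x ∈ Subgroup.closure (h8XLSet chevF4 K M)) :
    (h8nWU chevF4 hB w)⁻¹ * x * h8nWU chevF4 hB w ∈ Subgroup.closure (h8XLSet chevF4 K M') := by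
  have e : (h8nWU chevF4 hB w)⁻¹ * x * h8nWU chevF4 hB w =
      (h8nWU chevF4 hB w)⁻¹ * x * ((h8nWU chevF4 hB w)⁻¹)⁻¹ := by rw [inv_inv]
  rw [e]
  apply h8conj_XL chevF4 hB _ M _ _ x hx
  intro r hr t
  obtain ⟨c, _, hact⟩ := h8actN_act chevF4 hB _ _ _
    (h8actN_word_inv (F := K) chevF4 hB hA w hw r (hM r hr))
  rw [hact]
  exact h8xU_mem_XL chevF4 hB M' _ (hMM' r hr) _

theorem h8bb_map_swap {Γ : Type*} [Group Γ] (ν : Γ ≃* Γ) (S T : Subgroup Γ)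
    (h : S.map ν.toMonoidHom = T) : T.map ν.symm.toMonoidHom = S := by
  rw [← h, Subgroup.map_map]
  ext z
  simp

variable [Fintype K] {m : ℕ}

/-- the representatives of the two rank one double cosets do not lie in `B` -/
theorem h8bb_ni_not_B (hK : Fintype.card K = 2 ^ (2 * m + 1)) (hB : H8Base.{u} chevF4) (i : ℕ)
    (hi : i = 1 ∨ i = 2) :
    (h8nWU chevF4 hB (h8ofW i) : GL chevF4.Idx K) ∉ chevF4.borelSubgroup K := by
  intro h
  obtain ⟨P, hPB, hPN, hsize, hcover, hdisj⟩ := h8bb_dc_data hK hB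
  have hi16 : i < 16 := by rcases hi with rfl | rfl <;> norm_num
  set ni : ↥(twistedF4 K (2 ^ m)) := ⟨h8nWU chevF4 hB (h8ofW i), h8tf_nk_mem hK hB i⟩ with hni
  have h1 : ni ∈ dc P ni :=
    mem_dc.2 ⟨1, P.B.one_mem, 1, P.B.one_mem, by rw [one_mul, mul_one]⟩
  have hniB : ni ∈ P.B := by
    rw [hPB, Subgroup.mem_subgroupOf]
    exact ⟨h, ni.2⟩
  have h0 : ni ∈ dc P (⟨h8nWU chevF4 hB (h8ofW 0), h8tf_nk_mem hK hB 0⟩ :
      ↥(twistedF4 K (2 ^ m))) := by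
    refine mem_dc.2 ⟨ni, hniB, 1, P.B.one_mem, ?_⟩
    apply Subtype.ext
    have e0 : (h8nWU chevF4 hB (h8ofW 0) : GL chevF4.Idx K) = 1 := rfl
    rw [Subgroup.coe_mul, Subgroup.coe_mul, Subgroup.coe_one]
    show ni.val = ni.val * h8nWU chevF4 hB (h8ofW 0) * 1
    rw [e0, mul_one, mul_one]
  have := hdisj i hi16 0 (by norm_num) ni h1 h0
  rcases hi with rfl | rfl <;> omega

section
variable (hK : Fintype.card K = 2 ^ (2 * m + 1))
  (θ : ↥(twistedF4 K (2 ^ m)) ≃* ↥(twistedF4 K (2 ^ m)))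
  (hθ : (θ : MulAut ↥(twistedF4 K (2 ^ m))) ∈ h8ayA0
      ((chevF4.posUnipotent K ⊓ twistedF4 K (2 ^ m)).subgroupOf (twistedF4 K (2 ^ m)))
      ((chevF4.negUnipotent K ⊓ twistedF4 K (2 ^ m)).subgroupOf (twistedF4 K (2 ^ m))))
  {hB : H8Base.{u} chevF4} [CharP K 2] (R : H8TF K hB) (hfe : ∀ t : K, R.f t = t ^ (2 ^ m))
  {J : Set ℕ} {L Lm wJ : List ℕ} (C : H8TFC J L Lm wJ)

include hK hθ hfe C in
/-- an automorphism stabilizing `U ∩ ²F₄(q)` and `V ∩ ²F₄(q)` stabilizes the fixed points of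
`X_{-S}` -/
theorem h8bb_theta_neg (i : ℕ) (hi : i = 1 ∨ i = 2) (hw : h8ofW i = wJ)
    (hXfix : ∀ g ∈ Subgroup.closure (h8XLSet chevF4 K L), h8tfS R g = g →
      g ∈ twistedF4 K (2 ^ m))
    (y : ↥(twistedF4 K (2 ^ m))) (hy : y.val ∈ Subgroup.closure (h8XLSet chevF4 K Lm)) :
    (θ y).val ∈ Subgroup.closure (h8XLSet chevF4 K Lm) := by
  by_cases hy1 : y = 1
  · rw [hy1, map_one]
    exact Subgroup.one_mem _
  have hD : chevF4 ∈ [chevG2, chevB2, chevD4, chevF4, chevE6, chevE7, chevE8] := by simp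
  have hB0 := h8base_all.{0} chevF4 hD
  have hA := h8reflAll chevF4 hD
  have hC := h8commAll.{u} chevF4 hD
  have hBN := h8bn_all chevF4 hD
  have hW := h8bn2_all chevF4 hD
  obtain ⟨hO, hO2⟩ := h8ord_all chevF4 hD
  have hG1 : ∀ g ∈ twistedF4 K (2 ^ m), g ∈ chevF4.group K ∧ h8tfS R g = g :=
    fun g hg => h8tf_G1_fix R hC (2 ^ m) hfe g hg
  have hyne : y.val ≠ 1 := fun h => hy1 (Subtype.ext h)
  obtain ⟨a, ha, mm, b, hb, fa, fm, fb, ey, hπ⟩ := h8tf_rank1 C.hJ R hB0 hA hC hBN hW hO hO2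
    wJ C.wJlt C.norm Lm C.hLm y.val hy (hG1 y.val y.2).2 hyne
  have haG := hXfix a ha fa
  have hbG := hXfix b hb fb
  have hnG : (h8nWU chevF4 hB wJ : GL chevF4.Idx K) ∈ twistedF4 K (2 ^ m) := by
    rw [← hw]
    exact h8tf_nk_mem hK hB i
  have hmG : mm.val ∈ twistedF4 K (2 ^ m) := by
    have : mm.val = a⁻¹ * y.val * b⁻¹ := by rw [ey]; group
    rw [this]
    exact Subgroup.mul_mem _ (Subgroup.mul_mem _ (Subgroup.inv_mem _ haG) y.2)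
      (Subgroup.inv_mem _ hbG)
  have hrep := h8bb_rep (hB := hB) C hA hBN hW hO2 mm hπ
  have hyc : ∃ b1 ∈ chevF4.borelSubgroup K ⊓ twistedF4 K (2 ^ m),
      ∃ b2 ∈ chevF4.borelSubgroup K ⊓ twistedF4 K (2 ^ m),
        y.val = b1 * h8nWU chevF4 hB (h8ofW i) * b2 := by
    rw [hw]
    refine ⟨a * (mm.val * (h8nWU chevF4 hB wJ)⁻¹), ⟨?_, ?_⟩, b, ⟨?_, hbG⟩, ?_⟩
    · exact Subgroup.mul_mem _ (h8U_le_B chevF4 (h8tf_XL_le_U (K := K) C.hJ ha))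
        (h8H_le_B chevF4 hrep)
    · exact Subgroup.mul_mem _ haG (Subgroup.mul_mem _ hmG (Subgroup.inv_mem _ hnG))
    · exact h8U_le_B chevF4 (h8tf_XL_le_U (K := K) C.hJ hb)
    · rw [ey]; group
  obtain ⟨b1, hb1, b2, hb2, e⟩ := h8bb_theta_dc hK θ hθ hB i hi y.val y.2 hyc
  have hnfix : h8tfS R (h8nWU chevF4 hB wJ) = h8nWU chevF4 hB wJ := (hG1 _ hnG).2
  have hnB := h8bb_ni_not_B hK hB i hi
  rw [hw] at hnB e
  have hV : (θ y).val ∈ chevF4.negUnipotent K := by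
    have h2 := ((h8ayA0_mem _ _ _).mp hθ).2
    have h3 : y ∈ (chevF4.negUnipotent K ⊓ twistedF4 K (2 ^ m)).subgroupOf
        (twistedF4 K (2 ^ m)) :=
      Subgroup.mem_subgroupOf.mpr ⟨h8bb_XLm_le_V C hy, y.2⟩
    have h4 : θ y ∈ (chevF4.negUnipotent K ⊓ twistedF4 K (2 ^ m)).subgroupOf
        (twistedF4 K (2 ^ m)) := by
      rw [← h2]
      exact Subgroup.mem_map_of_mem _ h3
    exact (Subgroup.mem_subgroupOf.mp h4).1
  apply h8bb_V_inf_P (hB := hB) C hB0 hA hC hBN hW hO hO2 R hnfix hnB (θ y).val hV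
    (hG1 _ (θ y).2).1 (hG1 _ (θ y).2).2
  exact ⟨b1, hb1.1, b2, hb2.1, e⟩

include hK hθ hfe C in
/-- an automorphism stabilizing `U ∩ ²F₄(q)` and `V ∩ ²F₄(q)` stabilizes the fixed points of
`X_S` -/
theorem h8bb_theta_pos (i : ℕ) (hi : i = 1 ∨ i = 2) (hw : h8ofW i = wJ)
    (hXfix : ∀ g ∈ Subgroup.closure (h8XLSet chevF4 K L), h8tfS R g = g →
      g ∈ twistedF4 K (2 ^ m))
    (hL0 : ∀ r ∈ L, h8sW chevF4 (h8ofW 15) r ∈ Lm)
    (hLm0 : ∀ r ∈ Lm, h8sW chevF4 (h8ofW 15).reverse r ∈ L)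
    (x : ↥(twistedF4 K (2 ^ m))) (hx : x.val ∈ Subgroup.closure (h8XLSet chevF4 K L)) :
    (θ x).val ∈ Subgroup.closure (h8XLSet chevF4 K L) := by
  have hD : chevF4 ∈ [chevG2, chevB2, chevD4, chevF4, chevE6, chevE7, chevE8] := by simp
  have hA := h8reflAll chevF4 hD
  have hBN := h8bn_all chevF4 hD
  have hW := h8bn2_all chevF4 hD
  obtain ⟨hO, hO2⟩ := h8ord_all chevF4 hD
  obtain ⟨hθU, hθV⟩ := (h8ayA0_mem _ _ _).mp hθ
  set n0 : ↥(twistedF4 K (2 ^ m)) := ⟨h8nWU chevF4 hB (h8ofW 15), h8tf_nk_mem hK hB 15⟩ with hn0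
  have hn0v : (n0 : GL chevF4.Idx K) = h8nWU chevF4 hB (h8ofW 15) := rfl
  set ν : MulAut ↥(twistedF4 K (2 ^ m)) := MulAut.conj n0 with hν
  have hνU : ((chevF4.posUnipotent K ⊓ twistedF4 K (2 ^ m)).subgroupOf
      (twistedF4 K (2 ^ m))).map ν.toMonoidHom =
      (chevF4.negUnipotent K ⊓ twistedF4 K (2 ^ m)).subgroupOf (twistedF4 K (2 ^ m)) := by
    rw [hν, h8au_subgroupOf_map_conj, hn0v, h8bb_conj_U1_eq_V1 hK hB]
  have hνV : ((chevF4.negUnipotent K ⊓ twistedF4 K (2 ^ m)).subgroupOf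
      (twistedF4 K (2 ^ m))).map ν.toMonoidHom =
      (chevF4.posUnipotent K ⊓ twistedF4 K (2 ^ m)).subgroupOf (twistedF4 K (2 ^ m)) := by
    rw [hν, h8au_subgroupOf_map_conj, hn0v, h8ay_map_inf_conj _ _ _ (h8tf_nk_mem hK hB 15),
      h8au_conj_V_eq_U chevF4 hB hA hBN hW hO2 _ h8of_w0chk]
  have hνU' := h8bb_map_swap ν _ _ hνU
  have hνV' := h8bb_map_swap ν _ _ hνV
  have hθ' : (ν * (θ : MulAut ↥(twistedF4 K (2 ^ m))) * ν⁻¹ : MulAut ↥(twistedF4 K (2 ^ m))) ∈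
      h8ayA0 ((chevF4.posUnipotent K ⊓ twistedF4 K (2 ^ m)).subgroupOf (twistedF4 K (2 ^ m)))
        ((chevF4.negUnipotent K ⊓ twistedF4 K (2 ^ m)).subgroupOf (twistedF4 K (2 ^ m))) := by
    have e : ((ν * (θ : MulAut ↥(twistedF4 K (2 ^ m))) * ν⁻¹ :
        MulAut ↥(twistedF4 K (2 ^ m)))).toMonoidHom =
        (ν.toMonoidHom.comp θ.toMonoidHom).comp ν.symm.toMonoidHom := rfl
    rw [h8ayA0_mem, e]
    constructor
    · rw [← Subgroup.map_map, ← Subgroup.map_map, hνV', hθV, hνV]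
    · rw [← Subgroup.map_map, ← Subgroup.map_map, hνU', hθU, hνU]
  have hyv : (n0 * x * n0⁻¹ : ↥(twistedF4 K (2 ^ m))).val =
      h8nWU chevF4 hB (h8ofW 15) * x.val * (h8nWU chevF4 hB (h8ofW 15))⁻¹ := by
    simp only [Subgroup.coe_mul, Subgroup.coe_inv, hn0v]
  have hy : (n0 * x * n0⁻¹ : ↥(twistedF4 K (2 ^ m))).val ∈
      Subgroup.closure (h8XLSet chevF4 K Lm) := by
    rw [hyv]
    exact h8bb_conj_word hB hA _ h8bb_w0_lt L Lm (h8tfC_L_lt C) hL0 x.val hx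
  have h1 := h8bb_theta_neg hK (ν * (θ : MulAut ↥(twistedF4 K (2 ^ m))) * ν⁻¹) hθ' R hfe C i hi hw
    hXfix _ hy
  have e1 : (ν * (θ : MulAut ↥(twistedF4 K (2 ^ m))) * ν⁻¹ : MulAut ↥(twistedF4 K (2 ^ m)))
      (n0 * x * n0⁻¹) = n0 * θ x * n0⁻¹ := by
    show n0 * θ (n0⁻¹ * (n0 * x * n0⁻¹) * n0) * n0⁻¹ = _
    have : n0⁻¹ * (n0 * x * n0⁻¹) * n0 = x := by group
    rw [this]
  rw [e1] at h1
  have h2 := h8bb_conj_word_inv hB hA _ h8bb_w0_lt Lm L (h8tfC_Lm_lt C) hLm0 _ h1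
  have e2 : (h8nWU chevF4 hB (h8ofW 15))⁻¹ * (n0 * θ x * n0⁻¹ : ↥(twistedF4 K (2 ^ m))).val *
      h8nWU chevF4 hB (h8ofW 15) = (θ x).val := by
    simp only [Subgroup.coe_mul, Subgroup.coe_inv, hn0v]
    group
  rwa [e2] at h2

end

end Cfsg.Agent.Lib.helper8
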