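import Mathlib
import Cfsg.Prelude.Def_ChevStructure
import Cfsg.Prelude.Def_ChevF4
import Cfsg.Prelude.Def_LieTwisted
import Cfsg.Agent.Lib.helper8.ChevBB9

set_option autoImplicit false

namespace Cfsg.Agent.Lib.helper8

open Cfsg.Lie Cfsg.Lie.ChevalleyDatum H3

universe u

variable {K : Type u} [Field K] {hB : H8Base.{u} chevF4}

theorem h8bb_orth03 : H8AyOrth chevF4 [0, 3] := by decide +kernel

theorem h8bb_c2 : ∀ i < chevF4.rank, chevF4.cartan i (chevF4.simple i) = 2 := by decide +kernel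

theorem h8bb_pair_eq (R : H8TF K hB) (t : K) :
    h8tfPair R 33 24 t = h8ayXp chevF4 hB R.f.symm [0, 3] (R.f t) := by
  show h8xU chevF4 hB 33 (R.f t) * h8xU chevF4 hB 24 t =
    h8xU chevF4 hB 33 (R.f t) * (h8xU chevF4 hB 24 (R.f.symm (R.f t)) * 1)
  rw [RingEquiv.symm_apply_apply, mul_one]

theorem h8bb_pair_eq' (R : H8TF K hB) (t : K) :
    h8tfPair R 14 23 t = h8ayXm chevF4 hB R.f.symm [0, 3] (R.f t) := by
  show h8xU chevF4 hB 14 (R.f t) * h8xU chevF4 hB 23 t =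
    h8xU chevF4 hB 14 (R.f t) * (h8xU chevF4 hB 23 (R.f.symm (R.f t)) * 1)
  rw [RingEquiv.symm_apply_apply, mul_one]

theorem h8bb_tor_eq (R : H8TF K hB) (t : K) :
    h8hU chevF4 hB 33 (R.f t) * h8hU chevF4 hB 24 t =
      h8ayHH chevF4 hB R.f.symm [0, 3] (R.f t) := by
  show _ = h8hU chevF4 hB 33 (R.f t) * (h8hU chevF4 hB 24 (R.f.symm (R.f t)) * 1)
  rw [RingEquiv.symm_apply_apply, mul_one]

section
variable [Fintype K] {m : ℕ} [CharP K 2] (R : H8TF K hB) (hfe : ∀ t : K, R.f t = t ^ (2 ^ m))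

omit [Fintype K] in
include hfe in
/-- the elements of the twisted group in `X_{-S}` for the first class -/
theorem h8bb_Xm1_fix (g : GL chevF4.Idx K)
    (hg : g ∈ Subgroup.closure (h8XLSet chevF4 K [23, 14])) (hgG : g ∈ twistedF4 K (2 ^ m)) :
    ∃ t : K, g = h8tfPair R 14 23 t := by
  have hD : chevF4 ∈ [chevG2, chevB2, chevD4, chevF4, chevE6, chevE7, chevE8] := by simp
  have hA := h8reflAll chevF4 hD
  have hC := h8commAll.{u} chevF4 hD
  have hBN := h8bn_all chevF4 hD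
  have hW := h8bn2_all chevF4 hD
  obtain ⟨hO, hO2⟩ := h8ord_all chevF4 hD
  have hsc := h8scChk_all chevF4 hD
  have hn1 : (h8nWU chevF4 hB [0, 3] : GL chevF4.Idx K) ∈ twistedF4 K (2 ^ m) :=
    h8tf_n1_mem R hC (2 ^ m) hfe
  have h1 := h8tfC_conj_s' (hB := hB) h8tfC1 hA g hg
  have hfix := (h8tf_G1_fix R hC (2 ^ m) hfe _
    (Subgroup.mul_mem _ (Subgroup.mul_mem _ hn1 hgG) (Subgroup.inv_mem _ hn1))).2
  obtain ⟨s, hs⟩ := h8tf_X1_fix R hC hO2 _ h1 hfix
  have hL : ∀ k ∈ [0, 3], k < chevF4.rank := by decide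
  have h2 := h8ay_nXm (K := K) chevF4 hB R.f.symm hC hBN hW hA hsc [0, 3] hL h8bb_orth03
    (R.f (-s))
  refine ⟨-s, ?_⟩
  rw [h8bb_pair_eq']
  have e : -(R.f (-s)) = R.f s := by rw [map_neg, neg_neg]
  rw [e, ← h8bb_pair_eq, ← hs] at h2
  have : h8ayXm chevF4 hB R.f.symm [0, 3] (R.f (-s)) =
      (h8nWU chevF4 hB [0, 3])⁻¹ * (h8nWU chevF4 hB [0, 3] *
        h8ayXm chevF4 hB R.f.symm [0, 3] (R.f (-s)) * (h8nWU chevF4 hB [0, 3])⁻¹) *
        h8nWU chevF4 hB [0, 3] := by group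
  rw [this, h2]
  group

variable (hK : Fintype.card K = 2 ^ (2 * m + 1))
  (θ : ↥(twistedF4 K (2 ^ m)) ≃* ↥(twistedF4 K (2 ^ m)))
  (hθ : (θ : MulAut ↥(twistedF4 K (2 ^ m))) ∈ h8ayA0
      ((chevF4.posUnipotent K ⊓ twistedF4 K (2 ^ m)).subgroupOf (twistedF4 K (2 ^ m)))
      ((chevF4.negUnipotent K ⊓ twistedF4 K (2 ^ m)).subgroupOf (twistedF4 K (2 ^ m))))

include hK hθ hfe in
/-- the action of an automorphism stabilizing `U ∩ ²F₄(q)` and `V ∩ ²F₄(q)` on the rank one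
subgroup of the first class -/
theorem h8bb_rk1 : ∃ (c : K) (φ : K ≃+* K), c ≠ 0 ∧
    (∀ (t : K) (y : ↥(twistedF4 K (2 ^ m))), y.val = h8tfPair R 33 24 t →
      (θ y).val = h8tfPair R 33 24 (c * φ t)) ∧
    (∀ (t : K) (y : ↥(twistedF4 K (2 ^ m))), y.val = h8tfPair R 14 23 t →
      (θ y).val = h8tfPair R 14 23 (c⁻¹ * φ t)) ∧
    (∀ (t : K), t ≠ 0 → ∀ y : ↥(twistedF4 K (2 ^ m)),
      y.val = h8hU chevF4 hB 33 (R.f t) * h8hU chevF4 hB 24 t →
      (θ y).val = h8hU chevF4 hB 33 (R.f (φ t)) * h8hU chevF4 hB 24 (φ t)) := by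
  have hD : chevF4 ∈ [chevG2, chevB2, chevD4, chevF4, chevE6, chevE7, chevE8] := by simp
  have hA := h8reflAll chevF4 hD
  have hC := h8commAll.{u} chevF4 hD
  have hBN := h8bn_all chevF4 hD
  have hW := h8bn2_all chevF4 hD
  obtain ⟨hO, hO2⟩ := h8ord_all chevF4 hD
  have hsc := h8scChk_all chevF4 hD
  have hL : ∀ k ∈ [0, 3], k < chevF4.rank := by decide
  have RA := h8ay_rk_ambient (K := K) chevF4 hB R.f.symm hC hBN hW hO2 hA hsc h8bb_c2 [0, 3] hL
    h8bb_orth03 (by simp)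
  have hG1 : ∀ g ∈ twistedF4 K (2 ^ m), g ∈ chevF4.group K ∧ h8tfS R g = g :=
    fun g hg => h8tf_G1_fix R hC (2 ^ m) hfe g hg
  have hX1 := h8tf_Xfix1 R hC hO2 (2 ^ m) hfe
  have hpm : ∀ t, h8tfPair R 33 24 t ∈ twistedF4 K (2 ^ m) := h8tfPair_mem R (2 ^ m) hfe
  have hmm : ∀ t, h8tfPair R 14 23 t ∈ twistedF4 K (2 ^ m) := h8tfPair_mem' R (2 ^ m) hfe
  have hhm : ∀ t, h8hU chevF4 hB 33 (R.f t) * h8hU chevF4 hB 24 t ∈ twistedF4 K (2 ^ m) :=
    h8tf_torus1_mem R hC (2 ^ m) hfe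
  have hn1 : (h8nWU chevF4 hB [0, 3] : GL chevF4.Idx K) ∈ twistedF4 K (2 ^ m) :=
    h8tf_n1_mem R hC (2 ^ m) hfe
  let xp : K → ↥(twistedF4 K (2 ^ m)) := fun t => ⟨h8tfPair R 33 24 t, hpm t⟩
  let xm : K → ↥(twistedF4 K (2 ^ m)) := fun t => ⟨h8tfPair R 14 23 t, hmm t⟩
  let hh : K → ↥(twistedF4 K (2 ^ m)) := fun t =>
    ⟨h8hU chevF4 hB 33 (R.f t) * h8hU chevF4 hB 24 t, hhm t⟩
  let nn : ↥(twistedF4 K (2 ^ m)) := ⟨h8nWU chevF4 hB [0, 3], hn1⟩
  have hf0 : ∀ t : K, t ≠ 0 → R.f t ≠ 0 := fun t ht => (map_ne_zero R.f).mpr ht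
  have RG : H8Rk ((chevF4.borelSubgroup K).subgroupOf (twistedF4 K (2 ^ m)))
      ((chevF4.negUnipotent K).subgroupOf (twistedF4 K (2 ^ m))) xp xm hh nn :=
    { xp_add := by
        intro a b
        apply Subtype.ext
        show h8tfPair R 33 24 (a + b) = h8tfPair R 33 24 a * h8tfPair R 33 24 b
        rw [h8bb_pair_eq, h8bb_pair_eq, h8bb_pair_eq, map_add, RA.xp_add]
      xm_add := by
        intro a b
        apply Subtype.ext
        show h8tfPair R 14 23 (a + b) = h8tfPair R 14 23 a * h8tfPair R 14 23 b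
        rw [h8bb_pair_eq', h8bb_pair_eq', h8bb_pair_eq', map_add, RA.xm_add]
      xp_inj := by
        intro a b h
        have h1 : h8tfPair R 33 24 a = h8tfPair R 33 24 b := congrArg Subtype.val h
        rw [h8bb_pair_eq, h8bb_pair_eq] at h1
        exact R.f.injective (RA.xp_inj h1)
      xm_inj := by
        intro a b h
        have h1 : h8tfPair R 14 23 a = h8tfPair R 14 23 b := congrArg Subtype.val h
        rw [h8bb_pair_eq', h8bb_pair_eq'] at h1
        exact R.f.injective (RA.xm_inj h1)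
      xp_B := by
        intro a
        rw [Subgroup.mem_subgroupOf]
        show h8tfPair R 33 24 a ∈ _
        rw [h8bb_pair_eq]
        exact RA.xp_B _
      hh_B := by
        intro a ha
        rw [Subgroup.mem_subgroupOf]
        show h8hU chevF4 hB 33 (R.f a) * h8hU chevF4 hB 24 a ∈ _
        rw [h8bb_tor_eq]
        exact RA.hh_B _ (hf0 a ha)
      xm_V := by
        intro a
        rw [Subgroup.mem_subgroupOf]
        show h8tfPair R 14 23 a ∈ _
        rw [h8bb_pair_eq']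
        exact RA.xm_V _
      BV := by
        intro g h1 h2
        exact Subtype.ext (RA.BV g.val (Subgroup.mem_subgroupOf.mp h1)
          (Subgroup.mem_subgroupOf.mp h2))
      W := by
        intro s hs
        apply Subtype.ext
        show h8tfPair R 33 24 s * h8tfPair R 14 23 (-s⁻¹) * h8tfPair R 33 24 s =
          h8hU chevF4 hB 33 (R.f s) * h8hU chevF4 hB 24 s * h8nWU chevF4 hB [0, 3]
        rw [h8bb_pair_eq, h8bb_pair_eq', h8bb_tor_eq, map_neg, map_inv₀]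
        exact RA.W _ (hf0 s hs)
      n_xp := by
        intro s
        apply Subtype.ext
        show h8nWU chevF4 hB [0, 3] * h8tfPair R 33 24 s * (h8nWU chevF4 hB [0, 3])⁻¹ =
          h8tfPair R 14 23 (-s)
        rw [h8bb_pair_eq, h8bb_pair_eq', map_neg]
        exact RA.n_xp _
      hh_mul := by
        intro a b ha hb
        apply Subtype.ext
        show h8hU chevF4 hB 33 (R.f (a * b)) * h8hU chevF4 hB 24 (a * b) =
          h8hU chevF4 hB 33 (R.f a) * h8hU chevF4 hB 24 a *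
            (h8hU chevF4 hB 33 (R.f b) * h8hU chevF4 hB 24 b)
        rw [h8bb_tor_eq, h8bb_tor_eq, h8bb_tor_eq, map_mul]
        exact RA.hh_mul _ _ (hf0 a ha) (hf0 b hb)
      hh_xp := by
        intro s t hs
        apply Subtype.ext
        show h8hU chevF4 hB 33 (R.f s) * h8hU chevF4 hB 24 s * h8tfPair R 33 24 t *
          (h8hU chevF4 hB 33 (R.f s) * h8hU chevF4 hB 24 s)⁻¹ = h8tfPair R 33 24 (s ^ 2 * t)
        rw [h8bb_tor_eq, h8bb_pair_eq, h8bb_pair_eq, map_mul, map_pow]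
        exact RA.hh_xp _ _ (hf0 s hs)
      hh_xm := by
        intro s t hs
        apply Subtype.ext
        show h8hU chevF4 hB 33 (R.f s) * h8hU chevF4 hB 24 s * h8tfPair R 14 23 t *
          (h8hU chevF4 hB 33 (R.f s) * h8hU chevF4 hB 24 s)⁻¹ =
          h8tfPair R 14 23 ((s ^ 2)⁻¹ * t)
        rw [h8bb_tor_eq, h8bb_pair_eq', h8bb_pair_eq', map_mul, map_inv₀, map_pow]
        exact RA.hh_xm _ _ (hf0 s hs) }
  have hw1 : h8ofW 1 = [0, 3] := rfl
  have hexp : ∀ t : K, ∃ t' : K, θ (xp t) = xp t' := by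
    intro t
    have h := h8bb_theta_pos hK θ hθ R hfe h8tfC1 1 (Or.inl rfl) hw1 hX1 h8bb_w0_tab.1
      h8bb_w0_tab.2.1 (xp t) (h8tfPair_mem_XL R 33 24 [24, 33] (by simp) (by simp) t)
    obtain ⟨t', ht'⟩ := h8tf_X1_fix R hC hO2 _ h (hG1 _ (θ (xp t)).2).2
    exact ⟨t', Subtype.ext ht'⟩
  have hexm : ∀ t : K, ∃ t' : K, θ (xm t) = xm t' := by
    intro t
    have h := h8bb_theta_neg hK θ hθ R hfe h8tfC1 1 (Or.inl rfl) hw1 hX1
      (xm t) (h8tfPair_mem_XL R 14 23 [23, 14] (by simp) (by simp) t)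
    obtain ⟨t', ht'⟩ := h8bb_Xm1_fix R hfe _ h (θ (xm t)).2
    exact ⟨t', Subtype.ext ht'⟩
  choose fp hfp using hexp
  choose gm hgm using hexm
  obtain ⟨hf1, φ, h1, h2, h3⟩ := RG.ringAut θ fp gm hfp hgm
  refine ⟨fp 1, φ, hf1, ?_, ?_, ?_⟩
  · intro t y hy
    have : y = xp t := Subtype.ext hy
    rw [this, hfp, h1]
  · intro t y hy
    have : y = xm t := Subtype.ext hy
    rw [this, hgm, h2]
  · intro t ht y hy
    have : y = hh t := Subtype.ext hy
    rw [this, h3 t ht]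

end

end Cfsg.Agent.Lib.helper8
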