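import Mathlib
import Cfsg.Prelude.Def_ChevStructure
import Cfsg.Prelude.Def_ChevF4
import Cfsg.Prelude.Def_LieTwisted
import Cfsg.Agent.Lib.helper8.ChevBB10

set_option autoImplicit false

namespace Cfsg.Agent.Lib.helper8

open Cfsg.Lie Cfsg.Lie.ChevalleyDatum H3

universe u

variable {K : Type u} [Field K] {hB : H8Base.{u} chevF4}

section
variable {m : ℕ} [CharP K 2] (R : H8TF K hB) (hfe : ∀ t : K, R.f t = t ^ (2 ^ m))

include hfe in
/-- conjugation of a fixed element of the second class by an element of `H ∩ ²F₄(q)` -/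
theorem h8bb_conj_cls (k : GL chevF4.Idx K) (hk : k ∈ chevF4.diagonalSubgroup K)
    (hkG : k ∈ twistedF4 K (2 ^ m)) (t v : K) :
    k * h8tfCls R 27 25 28 30 t v * k⁻¹ =
      h8tfCls R 27 25 28 30 (h8chi chevF4 hB k 25 * t) (h8chi chevF4 hB k 28 * v) := by
  have hD : chevF4 ∈ [chevG2, chevB2, chevD4, chevF4, chevE6, chevE7, chevE8] := by simp
  have hC := h8commAll.{u} chevF4 hD
  obtain ⟨hO, hO2⟩ := h8ord_all chevF4 hD
  have hL : ∀ r ∈ [25, 27, 28, 30], r < chevF4.nroots := by decide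
  have h1 := h8conj_XL_H chevF4 hB k hk [25, 27, 28, 30] hL _
    (h8tfCls_mem_XL R 27 25 28 30 [25, 27, 28, 30] (by simp) (by simp) (by simp) (by simp) t v)
  have hG : k * h8tfCls R 27 25 28 30 t v * k⁻¹ ∈ twistedF4 K (2 ^ m) :=
    Subgroup.mul_mem _ (Subgroup.mul_mem _ hkG (h8tfCls_mem R (2 ^ m) hfe t v))
      (Subgroup.inv_mem _ hkG)
  have hfix := (h8tf_G1_fix R hC (2 ^ m) hfe _ hG).2
  obtain ⟨t', v', e⟩ := h8tf_X2_fix R hC hO2 _ h1 hfix
  rw [e]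
  rw [h8tfCls_eq_Std2 R hC, h8tfStd2_conjH k hk, h8tfCls_eq_Std2 R hC] at e
  obtain ⟨e1, _, e3, _⟩ := h8tfStd2_inj hO2 _ _ _ _ _ _ _ _ e
  rw [e1, e3]

include hfe in
/-- conjugation of a fixed element of the second class by a torus element of the first class -/
theorem h8bb_tor_cls (s : K) (hs : s ≠ 0) (t v : K) :
    h8hU chevF4 hB 33 (R.f s) * h8hU chevF4 hB 24 s * h8tfCls R 27 25 28 30 t v *
      (h8hU chevF4 hB 33 (R.f s) * h8hU chevF4 hB 24 s)⁻¹ =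
      h8tfCls R 27 25 28 30 (s⁻¹ * t) ((R.f s)⁻¹ * s⁻¹ * v) := by
  have hD : chevF4 ∈ [chevG2, chevB2, chevD4, chevF4, chevE6, chevE7, chevE8] := by simp
  have hA := h8reflAll chevF4 hD
  have hC := h8commAll.{u} chevF4 hD
  have hW := h8bn2_all chevF4 hD
  obtain ⟨k1, k2, k3, k4, k5, k6, k7, k8⟩ := h8tf_cartan_data
  obtain ⟨k9, k10⟩ := h8tf_cartan_data2
  have l33 : 33 < chevF4.nroots := h8tf_lt_data 33 (by simp)
  have l24 : 24 < chevF4.nroots := h8tf_lt_data 24 (by simp)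
  have l25 : 25 < chevF4.nroots := h8tf_lt_data 25 (by simp)
  have l28 : 28 < chevF4.nroots := by decide
  rw [h8KF_eq chevF4 hA.ca _ _ l25] at k5 k6
  rw [h8KF_eq chevF4 hA.ca _ _ l28] at k9 k10
  have hfs : R.f s ≠ 0 := (map_ne_zero R.f).mpr hs
  have m1 := h8hU_mem_H chevF4 hB 33 l33 _ hfs
  have m2 := h8hU_mem_H chevF4 hB 24 l24 _ hs
  have hchi : ∀ r < chevF4.nroots,
      h8chi chevF4 hB (h8hU chevF4 hB 33 (R.f s) * h8hU chevF4 hB 24 s) r =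
      (R.f s) ^ (h8K chevF4 33 r) * s ^ (h8K chevF4 24 r) := by
    intro r hr
    rw [h8chi_mul chevF4 hB hA hW _ _ m1 m2 r hr, h8chi_hU chevF4 hB hA hW 33 l33 _ hfs r hr,
      h8chi_hU chevF4 hB hA hW 24 l24 _ hs r hr]
  rw [h8bb_conj_cls R hfe _ (Subgroup.mul_mem _ m1 m2) (h8tf_torus1_mem R hC (2 ^ m) hfe s),
    hchi 25 l25, hchi 28 l28, k5, k6, k9, k10]
  simp only [zpow_zero, one_mul, zpow_neg, zpow_one]

theorem h8bb_cls_zero : h8tfCls R 27 25 28 30 (0 : K) 0 = 1 := by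
  have hD : chevF4 ∈ [chevG2, chevB2, chevD4, chevF4, chevE6, chevE7, chevE8] := by simp
  have hC := h8commAll.{u} chevF4 hD
  have h := h8tfCls_mul R hC (0 : K) 0 0 0
  simp only [add_zero, map_zero, mul_zero] at h
  exact mul_eq_left.mp h

/-- the square of a fixed element of the second class -/
theorem h8bb_cls_sq (t v : K) :
    h8tfCls R 27 25 28 30 t v * h8tfCls R 27 25 28 30 t v =
      h8tfCls R 27 25 28 30 0 (R.f t * t) := by
  have hD : chevF4 ∈ [chevG2, chevB2, chevD4, chevF4, chevE6, chevE7, chevE8] := by simp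
  have hC := h8commAll.{u} chevF4 hD
  rw [h8tfCls_mul R hC, CharTwo.add_self_eq_zero, CharTwo.add_self_eq_zero, zero_add]

/-- a fixed element of the second class whose square is trivial is central -/
theorem h8bb_cls_sq_one (t v : K)
    (h : h8tfCls R 27 25 28 30 t v * h8tfCls R 27 25 28 30 t v = 1) : t = 0 := by
  have hD : chevF4 ∈ [chevG2, chevB2, chevD4, chevF4, chevE6, chevE7, chevE8] := by simp
  have hC := h8commAll.{u} chevF4 hD
  obtain ⟨hO, hO2⟩ := h8ord_all chevF4 hD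
  rw [h8bb_cls_sq R, ← h8bb_cls_zero R] at h
  have h2 := (h8tfCls_inj R hC hO2 _ _ _ _ h).2
  rcases mul_eq_zero.mp h2 with h3 | h3
  · exact (map_eq_zero R.f).mp h3
  · exact h3

end

section
variable [Fintype K] {m : ℕ} [CharP K 2] (R : H8TF K hB) (hfe : ∀ t : K, R.f t = t ^ (2 ^ m))
  (hK : Fintype.card K = 2 ^ (2 * m + 1))
  (θ : ↥(twistedF4 K (2 ^ m)) ≃* ↥(twistedF4 K (2 ^ m)))
  (hθ : (θ : MulAut ↥(twistedF4 K (2 ^ m))) ∈ h8ayA0
      ((chevF4.posUnipotent K ⊓ twistedF4 K (2 ^ m)).subgroupOf (twistedF4 K (2 ^ m)))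
      ((chevF4.negUnipotent K ⊓ twistedF4 K (2 ^ m)).subgroupOf (twistedF4 K (2 ^ m))))

include hK hθ hfe in
/-- an automorphism stabilizing `U ∩ ²F₄(q)` and `V ∩ ²F₄(q)` stabilizes the fixed elements of
the second class -/
theorem h8bb_theta_cls (t v : K) (y : ↥(twistedF4 K (2 ^ m)))
    (hy : y.val = h8tfCls R 27 25 28 30 t v) :
    ∃ t' v' : K, (θ y).val = h8tfCls R 27 25 28 30 t' v' := by
  have hD : chevF4 ∈ [chevG2, chevB2, chevD4, chevF4, chevE6, chevE7, chevE8] := by simp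
  have hC := h8commAll.{u} chevF4 hD
  obtain ⟨hO, hO2⟩ := h8ord_all chevF4 hD
  have hX2 := h8tf_Xfix2 R hC hO2 (2 ^ m) hfe
  have hw2 : h8ofW 2 = [1, 2, 1, 2] := rfl
  have h := h8bb_theta_pos hK θ hθ R hfe h8tfC2 2 (Or.inr rfl) hw2 hX2 h8bb_w0_tab.2.2.1
    h8bb_w0_tab.2.2.2 y (by
      rw [hy]
      exact h8tfCls_mem_XL R 27 25 28 30 [25, 27, 28, 30] (by simp) (by simp) (by simp)
        (by simp) t v)
  exact h8tf_X2_fix R hC hO2 _ h (h8tf_G1_fix R hC (2 ^ m) hfe _ (θ y).2).2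

include hK hθ hfe in
/-- the centre of the second class is stabilized -/
theorem h8bb_theta_Z (v : K) (y : ↥(twistedF4 K (2 ^ m)))
    (hy : y.val = h8tfCls R 27 25 28 30 0 v) :
    ∃ v' : K, (θ y).val = h8tfCls R 27 25 28 30 0 v' := by
  obtain ⟨t', v', e⟩ := h8bb_theta_cls R hfe hK θ hθ 0 v y hy
  have hsq : y * y = 1 := by
    apply Subtype.ext
    rw [Subgroup.coe_mul, hy, h8bb_cls_sq R, map_zero, zero_mul, h8bb_cls_zero R]
    rfl
  have h2 : (θ y).val * (θ y).val = 1 := by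
    have := congrArg (fun z => (θ z).val) hsq
    simp only [map_mul, map_one, Subgroup.coe_mul] at this
    exact this
  rw [e] at h2
  have ht' := h8bb_cls_sq_one R t' v' h2
  exact ⟨v', by rw [e, ht']⟩

include hK hθ hfe in
/-- the action on the second class is determined by the action on the first class -/
theorem h8bb_cls_data (φ : K ≃+* K)
    (hφ : ∀ (t : K), t ≠ 0 → ∀ y : ↥(twistedF4 K (2 ^ m)),
      y.val = h8hU chevF4 hB 33 (R.f t) * h8hU chevF4 hB 24 t →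
      (θ y).val = h8hU chevF4 hB 33 (R.f (φ t)) * h8hU chevF4 hB 24 (φ t)) :
    ∃ c : K, c ≠ 0 ∧ ∀ (t v : K) (y : ↥(twistedF4 K (2 ^ m))),
      y.val = h8tfCls R 27 25 28 30 t v →
      ∃ v' : K, (θ y).val = h8tfCls R 27 25 28 30 (c * φ t) v' := by
  have hD : chevF4 ∈ [chevG2, chevB2, chevD4, chevF4, chevE6, chevE7, chevE8] := by simp
  have hC := h8commAll.{u} chevF4 hD
  obtain ⟨hO, hO2⟩ := h8ord_all chevF4 hD
  have hcm : ∀ t v, h8tfCls R 27 25 28 30 t v ∈ twistedF4 K (2 ^ m) :=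
    h8tfCls_mem R (2 ^ m) hfe
  have hhm : ∀ t, h8hU chevF4 hB 33 (R.f t) * h8hU chevF4 hB 24 t ∈ twistedF4 K (2 ^ m) :=
    h8tf_torus1_mem R hC (2 ^ m) hfe
  obtain ⟨c, w, hcw⟩ := h8bb_theta_cls R hfe hK θ hθ 1 0 ⟨_, hcm 1 0⟩ rfl
  have hc : c ≠ 0 := by
    intro hc0
    rw [hc0] at hcw
    have h1 : (θ ⟨_, hcm 1 0⟩).val * (θ ⟨_, hcm 1 0⟩).val = 1 := by
      rw [hcw, h8bb_cls_sq R, map_zero, zero_mul, h8bb_cls_zero R]
    have h2 : θ (⟨_, hcm 1 0⟩ * ⟨_, hcm 1 0⟩) = 1 := by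
      rw [map_mul]
      exact Subtype.ext h1
    have h3 : (⟨_, hcm 1 0⟩ * ⟨_, hcm 1 0⟩ : ↥(twistedF4 K (2 ^ m))) = 1 := by
      apply θ.injective
      rw [h2, map_one]
    have h4 : h8tfCls R 27 25 28 30 (1 : K) 0 * h8tfCls R 27 25 28 30 (1 : K) 0 = 1 :=
      congrArg Subtype.val h3
    exact one_ne_zero (h8bb_cls_sq_one R 1 0 h4)
  refine ⟨c, hc, ?_⟩
  intro t v y hy
  by_cases ht : t = 0
  · subst ht
    obtain ⟨v', e⟩ := h8bb_theta_Z R hfe hK θ hθ v y hy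
    exact ⟨v', by rw [e, map_zero, mul_zero]⟩
  · -- `cls t v = h * cls 1 0 * h⁻¹ * cls 0 v` with `h` the torus element of parameter `t⁻¹`
    have hti : t⁻¹ ≠ 0 := inv_ne_zero ht
    have e1 := h8bb_tor_cls R hfe t⁻¹ hti 1 0
    rw [inv_inv, mul_one, mul_zero] at e1
    have e2 : h8tfCls R 27 25 28 30 t v =
        h8tfCls R 27 25 28 30 t 0 * h8tfCls R 27 25 28 30 0 v := by
      rw [h8tfCls_mul R hC, add_zero, zero_add, mul_zero, add_zero]
    have ey : y = (⟨_, hhm t⁻¹⟩ * ⟨_, hcm 1 0⟩ * (⟨_, hhm t⁻¹⟩ : ↥(twistedF4 K (2 ^ m)))⁻¹) *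
        ⟨_, hcm 0 v⟩ := by
      apply Subtype.ext
      rw [hy, e2, ← e1]
      rfl
    obtain ⟨v0, ev0⟩ := h8bb_theta_Z R hfe hK θ hθ v ⟨_, hcm 0 v⟩ rfl
    have eh := hφ t⁻¹ hti ⟨_, hhm t⁻¹⟩ rfl
    have hφt : φ t⁻¹ ≠ 0 := (map_ne_zero φ).mpr hti
    have e3 : (θ y).val = (h8hU chevF4 hB 33 (R.f (φ t⁻¹)) * h8hU chevF4 hB 24 (φ t⁻¹)) *
        h8tfCls R 27 25 28 30 c w *
        (h8hU chevF4 hB 33 (R.f (φ t⁻¹)) * h8hU chevF4 hB 24 (φ t⁻¹))⁻¹ *
        h8tfCls R 27 25 28 30 0 v0 := by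
      rw [ey, map_mul, map_mul, map_mul, map_inv]
      simp only [Subgroup.coe_mul, Subgroup.coe_inv]
      rw [eh, hcw, ev0]
    rw [h8bb_tor_cls R hfe _ hφt, h8tfCls_mul R hC, add_zero] at e3
    have e4 : (φ t⁻¹)⁻¹ * c = c * φ t := by rw [map_inv₀, inv_inv, mul_comm]
    rw [e4] at e3
    exact ⟨_, e3⟩

end

end Cfsg.Agent.Lib.helper8
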