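import Mathlib
import Cfsg.Prelude.Def_ChevStructure
import Cfsg.Prelude.Def_ChevF4
import Cfsg.Prelude.Def_LieTwisted
import Cfsg.Agent.Lib.helper8.ChevBB11
import Cfsg.Agent.Lib.helper8.ChevBA10

set_option autoImplicit false

namespace Cfsg.Agent.Lib.helper8

open Cfsg.Lie Cfsg.Lie.ChevalleyDatum H3

universe u

variable {K : Type u} [Field K] {hB : H8Base.{u} chevF4}

theorem h8bb_map_pairWord (e : ℕ) (ψ : K →+* K) (r rbar : ℕ) (t : K) :
    (f4PairWord e r rbar t).map (fun p => (p.1, ψ p.2)) = f4PairWord e r rbar (ψ t) := by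
  simp [f4PairWord, map_pow]

theorem h8bb_map_clsWord (e : ℕ) (ψ : K →+* K) (a b ab aab : ℕ) (t u : K) :
    (b2ClassWord e a b ab aab t u).map (fun p => (p.1, ψ p.2)) =
      b2ClassWord e a b ab aab (ψ t) (ψ u) := by
  simp [b2ClassWord, map_add, map_pow]

/-- the entrywise field endomorphisms preserve `²F₄` -/
theorem h8bb_Psi_mem (hB : H8Base.{u} chevF4) (e : ℕ) (ψ : K →+* K) (g : GL chevF4.Idx K)
    (hg : g ∈ twistedF4 K e) : h8Psi chevF4 ψ g ∈ twistedF4 K e := by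
  have h1 : twistedF4 K e ≤ (twistedF4 K e).comap (h8Psi chevF4 ψ) := by
    conv_lhs => unfold twistedF4 ChevalleyDatum.genSubgroup
    rw [Subgroup.closure_le]
    rintro g ⟨w, hw, hg⟩
    have hgw : g = h8wordU chevF4 hB w := Units.ext (by rw [hg, h8wordU_val])
    show h8Psi chevF4 ψ g ∈ twistedF4 K e
    rw [hgw, h8Psi_wordU chevF4 hB hB]
    apply h8tf_word_mem
    rcases hw with ⟨t, rfl | rfl⟩ | ⟨t, u, rfl | rfl⟩
    · exact Or.inl ⟨ψ t, Or.inl (h8bb_map_pairWord e ψ _ _ t)⟩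
    · exact Or.inl ⟨ψ t, Or.inr (h8bb_map_pairWord e ψ _ _ t)⟩
    · exact Or.inr ⟨ψ t, ψ u, Or.inl (h8bb_map_clsWord e ψ _ _ _ _ t u)⟩
    · exact Or.inr ⟨ψ t, ψ u, Or.inr (h8bb_map_clsWord e ψ _ _ _ _ t u)⟩
  exact h1 hg

theorem h8bb_Psi_pair (R : H8TF K hB) (e : ℕ) (hfe : ∀ t : K, R.f t = t ^ e) (ψ : K →+* K)
    (t : K) : h8Psi chevF4 ψ (h8tfPair R 33 24 t) = h8tfPair R 33 24 (ψ t) := by
  rw [← h8tf_pairWord_eq R e hfe, h8Psi_wordU chevF4 hB hB, h8bb_map_pairWord,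
    h8tf_pairWord_eq R e hfe]

theorem h8bb_Psi_cls (R : H8TF K hB) (e : ℕ) (hfe : ∀ t : K, R.f t = t ^ e) (ψ : K →+* K)
    (t v : K) :
    h8Psi chevF4 ψ (h8tfCls R 27 25 28 30 t v) = h8tfCls R 27 25 28 30 (ψ t) (ψ v) := by
  rw [← h8tf_clsWord_eq R e hfe, h8Psi_wordU chevF4 hB hB, h8bb_map_clsWord,
    h8tf_clsWord_eq R e hfe]

section
variable {m : ℕ} [CharP K 2] (R : H8TF K hB) (hfe : ∀ t : K, R.f t = t ^ (2 ^ m))

include hfe in
/-- conjugation of a fixed element of the first class by an element of `H ∩ ²F₄(q)` -/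
theorem h8bb_conj_pair (k : GL chevF4.Idx K) (hk : k ∈ chevF4.diagonalSubgroup K)
    (hkG : k ∈ twistedF4 K (2 ^ m)) (t : K) :
    k * h8tfPair R 33 24 t * k⁻¹ = h8tfPair R 33 24 (h8chi chevF4 hB k 24 * t) := by
  have hD : chevF4 ∈ [chevG2, chevB2, chevD4, chevF4, chevE6, chevE7, chevE8] := by simp
  have hC := h8commAll.{u} chevF4 hD
  obtain ⟨hO, hO2⟩ := h8ord_all chevF4 hD
  have hL : ∀ r ∈ [24, 33], r < chevF4.nroots := by decide
  have h1 := h8conj_XL_H chevF4 hB k hk [24, 33] hL _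
    (h8tfPair_mem_XL R 33 24 [24, 33] (by simp) (by simp) t)
  have hG : k * h8tfPair R 33 24 t * k⁻¹ ∈ twistedF4 K (2 ^ m) :=
    Subgroup.mul_mem _ (Subgroup.mul_mem _ hkG (h8tfPair_mem R (2 ^ m) hfe t))
      (Subgroup.inv_mem _ hkG)
  have hfix := (h8tf_G1_fix R hC (2 ^ m) hfe _ hG).2
  obtain ⟨t', e⟩ := h8tf_X1_fix R hC hO2 _ h1 hfix
  rw [e]
  have hstd : ∀ s : K, h8tfPair R 33 24 s = h8tfStd1 hB s (R.f s) := by
    intro s
    unfold h8tfPair h8tfStd1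
    exact (h8tf_comm_33_24 hB hC _ _).eq
  rw [hstd, h8tfStd1_conjH k hk, hstd] at e
  rw [(h8tfStd1_inj hO2 _ _ _ _ e).1]

end

section
variable [Fintype K] {m : ℕ}

/-- the elements of `H ∩ ²F₄(q)` realize all pairs of values of the two characters -/
theorem h8bb_H_surj (hK : Fintype.card K = 2 ^ (2 * m + 1)) (hB : H8Base.{u} chevF4)
    (c1 c2 : K) (h1 : c1 ≠ 0) (h2 : c2 ≠ 0) :
    ∃ k ∈ chevF4.diagonalSubgroup K ⊓ twistedF4 K (2 ^ m),
      h8chi chevF4 hB k 24 = c1 ∧ h8chi chevF4 hB k 25 = c2 := by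
  classical
  have hD : chevF4 ∈ [chevG2, chevB2, chevD4, chevF4, chevE6, chevE7, chevE8] := by simp
  have hA := h8reflAll chevF4 hD
  have hC := h8commAll.{u} chevF4 hD
  have hBN := h8bn_all chevF4 hD
  have hW := h8bn2_all chevF4 hD
  have := h8tf_char2 hK
  obtain ⟨R, hfe⟩ := h8tf_setup hK hB
  obtain ⟨s0, s1, s2, s3, n33, n27, n25, n24, r24, r25, kk24, kk25⟩ := h8tf_simple_data
  have l25 : 25 < chevF4.nroots := h8tf_lt_data 25 (by simp)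
  have l24 : 24 < chevF4.nroots := h8tf_lt_data 24 (by simp)
  have hsig33 : ∀ k ∈ chevF4.diagonalSubgroup K ⊓ twistedF4 K (2 ^ m),
      h8chi chevF4 hB k 33 = R.f (h8chi chevF4 hB k 24) := by
    intro k hk
    have hfix := (h8tf_G1_fix R hC (2 ^ m) hfe k hk.2).2
    have := h8tf_chi_sig R hA hW k hk.1 hfix 24 (by norm_num)
    rwa [r24, h8tfE_long R 24 kk24] at this
  have hsig27 : ∀ k ∈ chevF4.diagonalSubgroup K ⊓ twistedF4 K (2 ^ m),
      h8chi chevF4 hB k 27 = R.f (h8chi chevF4 hB k 25) := by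
    intro k hk
    have hfix := (h8tf_G1_fix R hC (2 ^ m) hfe k hk.2).2
    have := h8tf_chi_sig R hA hW k hk.1 hfix 25 (by norm_num)
    rwa [r25, h8tfE_long R 25 kk25] at this
  set F : ↥(chevF4.diagonalSubgroup K ⊓ twistedF4 K (2 ^ m)) →
      {x : K // x ≠ 0} × {y : K // y ≠ 0} := fun k =>
        ((⟨h8chi chevF4 hB k.val 24, (h8chi_spec chevF4 hB k.val k.2.1 24 l24).1⟩ :
          {x : K // x ≠ 0}),
        (⟨h8chi chevF4 hB k.val 25, (h8chi_spec chevF4 hB k.val k.2.1 25 l25).1⟩ :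
          {y : K // y ≠ 0})) with hF
  have hinj : Function.Injective F := by
    intro k k' hkk
    simp only [hF, Prod.mk.injEq, Subtype.mk.injEq] at hkk
    obtain ⟨e24, e25⟩ := hkk
    have hzmem : k.val⁻¹ * k'.val ∈ chevF4.diagonalSubgroup K ⊓ twistedF4 K (2 ^ m) :=
      Subgroup.mul_mem _ (Subgroup.inv_mem _ k.2) k'.2
    have hz24 : h8chi chevF4 hB (k.val⁻¹ * k'.val) 24 = 1 := by
      rw [h8chi_mul chevF4 hB hA hW _ _ (Subgroup.inv_mem _ k.2.1) k'.2.1 24 l24,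
        h8chi_inv chevF4 hB hA hW _ k.2.1 24 l24, e24,
        inv_mul_cancel₀ (h8chi_spec chevF4 hB k'.val k'.2.1 24 l24).1]
    have hz25 : h8chi chevF4 hB (k.val⁻¹ * k'.val) 25 = 1 := by
      rw [h8chi_mul chevF4 hB hA hW _ _ (Subgroup.inv_mem _ k.2.1) k'.2.1 25 l25,
        h8chi_inv chevF4 hB hA hW _ k.2.1 25 l25, e25,
        inv_mul_cancel₀ (h8chi_spec chevF4 hB k'.val k'.2.1 25 l25).1]
    have hz : k.val⁻¹ * k'.val = 1 := by
      apply h8tf_H_inj hA hBN hW _ hzmem.1 _ _ hz25 hz24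
      · rw [hsig33 _ hzmem, hz24, map_one]
      · rw [hsig27 _ hzmem, hz25, map_one]
    exact Subtype.ext (inv_mul_eq_one.mp hz)
  have hcard : Nat.card ({x : K // x ≠ 0} × {y : K // y ≠ 0}) ≤
      Nat.card ↥(chevF4.diagonalSubgroup K ⊓ twistedF4 K (2 ^ m)) := by
    rw [h8tf_H_card hK, Nat.card_prod, h8card_ne_zero, hK, sq]
  have hbij := hinj.bijective_of_nat_card_le hcard
  obtain ⟨k, hk⟩ := hbij.2 (⟨c1, h1⟩, ⟨c2, h2⟩)
  simp only [hF, Prod.mk.injEq, Subtype.mk.injEq] at hk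
  exact ⟨k.val, k.2, hk.1, hk.2⟩

/-- the automorphism of `²F₄(q)` with given data -/
theorem h8bb_exists [CharP K 2] (hK : Fintype.card K = 2 ^ (2 * m + 1)) (R : H8TF K hB)
    (hfe : ∀ t : K, R.f t = t ^ (2 ^ m))
    (c1 c2 : K) (h1 : c1 ≠ 0) (h2 : c2 ≠ 0) (φ : K ≃+* K) :
    ∃ θ : ↥(twistedF4 K (2 ^ m)) ≃* ↥(twistedF4 K (2 ^ m)),
      ((chevF4.posUnipotent K ⊓ twistedF4 K (2 ^ m)).subgroupOf (twistedF4 K (2 ^ m))).map
        θ.toMonoidHom =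
        (chevF4.posUnipotent K ⊓ twistedF4 K (2 ^ m)).subgroupOf (twistedF4 K (2 ^ m)) ∧
      ((chevF4.negUnipotent K ⊓ twistedF4 K (2 ^ m)).subgroupOf (twistedF4 K (2 ^ m))).map
        θ.toMonoidHom =
        (chevF4.negUnipotent K ⊓ twistedF4 K (2 ^ m)).subgroupOf (twistedF4 K (2 ^ m)) ∧
      (∀ (t : K) (y : ↥(twistedF4 K (2 ^ m))), y.val = h8tfPair R 33 24 t →
        (θ y).val = h8tfPair R 33 24 (c1 * φ t)) ∧
      (∀ (t v : K) (y : ↥(twistedF4 K (2 ^ m))), y.val = h8tfCls R 27 25 28 30 t v →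
        ∃ v' : K, (θ y).val = h8tfCls R 27 25 28 30 (c2 * φ t) v') := by
  obtain ⟨g₀, hk, hk24, hk25⟩ := h8bb_H_surj hK hB c1 c2 h1 h2
  set Θ : GL chevF4.Idx K ≃* GL chevF4.Idx K :=
    (h8ayPsiEquiv chevF4 φ).trans (MulAut.conj g₀) with hΘdef
  have hΘ : ∀ x, Θ x = g₀ * h8Psi chevF4 (φ : K →+* K) x * g₀⁻¹ := fun x => rfl
  have hΘs : ∀ x, Θ.symm x = h8Psi chevF4 (φ.symm : K →+* K) (g₀⁻¹ * x * g₀⁻¹⁻¹) := by
    intro x
    rw [inv_inv]
    rfl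
  have hg₀G : g₀ ∈ twistedF4 K (2 ^ m) := hk.2
  have hmap : (twistedF4 K (2 ^ m)).map Θ.toMonoidHom = twistedF4 K (2 ^ m) := by
    apply le_antisymm
    · rintro _ ⟨x, hx, rfl⟩
      show Θ x ∈ _
      rw [hΘ]
      exact Subgroup.mul_mem _ (Subgroup.mul_mem _ hg₀G (h8bb_Psi_mem hB _ _ x hx))
        (Subgroup.inv_mem _ hg₀G)
    · intro x hx
      refine ⟨Θ.symm x, ?_, Θ.apply_symm_apply x⟩
      rw [hΘs]
      apply h8bb_Psi_mem hB
      exact Subgroup.mul_mem _ (Subgroup.mul_mem _ (Subgroup.inv_mem _ hg₀G) hx)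
        (Subgroup.inv_mem _ (Subgroup.inv_mem _ hg₀G))
  have hnU := h8_H_le_normalizer_U (F := K) chevF4 hB hk.1
  have hnV := h8_H_le_normalizer_V (F := K) chevF4 hB hk.1
  have hnU' := Subgroup.inv_mem _ hnU
  have hnV' := Subgroup.inv_mem _ hnV
  refine ⟨h8ayRes (twistedF4 K (2 ^ m)) Θ hmap, ?_, ?_, ?_, ?_⟩
  · apply h8ayRes_map
    · intro g hg
      rw [hΘ]
      exact (Subgroup.mem_normalizer_iff.mp hnU _).mp
        (h8Psi_U_le chevF4 hB hB _ ⟨g, hg, rfl⟩)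
    · intro g hg
      rw [hΘs]
      exact h8Psi_U_le chevF4 hB hB _ ⟨_, (Subgroup.mem_normalizer_iff.mp hnU' _).mp hg, rfl⟩
  · apply h8ayRes_map
    · intro g hg
      rw [hΘ]
      exact (Subgroup.mem_normalizer_iff.mp hnV _).mp
        (h8Psi_V_le chevF4 hB hB _ ⟨g, hg, rfl⟩)
    · intro g hg
      rw [hΘs]
      exact h8Psi_V_le chevF4 hB hB _ ⟨_, (Subgroup.mem_normalizer_iff.mp hnV' _).mp hg, rfl⟩
  · intro t y hy
    show Θ y.val = _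
    rw [hΘ, hy, h8bb_Psi_pair R _ hfe, h8bb_conj_pair R hfe g₀ hk.1 hk.2, hk24]
    rfl
  · intro t v y hy
    refine ⟨h8chi chevF4 hB g₀ 28 * φ v, ?_⟩
    show Θ y.val = _
    rw [hΘ, hy, h8bb_Psi_cls R _ hfe, h8bb_conj_cls R hfe g₀ hk.1 hk.2, hk25]
    rfl

end

end Cfsg.Agent.Lib.helper8
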