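import Mathlib
import Cfsg.Prelude.Def_ChevStructure
import Cfsg.Prelude.Def_ChevF4
import Cfsg.Prelude.Def_LieTwisted
import Cfsg.Agent.Lib.helper8.ChevBB12

set_option autoImplicit false

namespace Cfsg.Agent.Lib.helper8

open Cfsg.Lie Cfsg.Lie.ChevalleyDatum H3

universe u

variable {K : Type u} [Field K] {hB : H8Base.{u} chevF4}

section
variable [Fintype K] {m : ℕ} [CharP K 2] (R : H8TF K hB) (hfe : ∀ t : K, R.f t = t ^ (2 ^ m))
  (hK : Fintype.card K = 2 ^ (2 * m + 1))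
  (ϑ : ↥(twistedF4 K (2 ^ m)) ≃* ↥(twistedF4 K (2 ^ m)))
  (hϑ : (ϑ : MulAut ↥(twistedF4 K (2 ^ m))) ∈ h8ayA0
      ((chevF4.posUnipotent K ⊓ twistedF4 K (2 ^ m)).subgroupOf (twistedF4 K (2 ^ m)))
      ((chevF4.negUnipotent K ⊓ twistedF4 K (2 ^ m)).subgroupOf (twistedF4 K (2 ^ m))))

include hK hϑ hfe in
/-- an automorphism stabilizing `U ∩ ²F₄(q)` and `V ∩ ²F₄(q)` with trivial data is trivial -/
theorem h8bb_rigid (hm : 1 ≤ m)
    (hp : ∀ (t : K) (y : ↥(twistedF4 K (2 ^ m))), y.val = h8tfPair R 33 24 t →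
      (ϑ y).val = h8tfPair R 33 24 t)
    (hc : ∀ (t v : K) (y : ↥(twistedF4 K (2 ^ m))), y.val = h8tfCls R 27 25 28 30 t v →
      ∃ v' : K, (ϑ y).val = h8tfCls R 27 25 28 30 t v')
    (x : ↥(twistedF4 K (2 ^ m))) : ϑ x = x := by
  have hD : chevF4 ∈ [chevG2, chevB2, chevD4, chevF4, chevE6, chevE7, chevE8] := by simp
  have hB0 := h8base_all.{0} chevF4 hD
  have hA := h8reflAll chevF4 hD
  have hC := h8commAll.{u} chevF4 hD
  have hBN := h8bn_all chevF4 hD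
  have hW := h8bn2_all chevF4 hD
  obtain ⟨hO, hO2⟩ := h8ord_all chevF4 hD
  have hG1 : ∀ g ∈ twistedF4 K (2 ^ m), g ∈ chevF4.group K ∧ h8tfS R g = g :=
    fun g hg => h8tf_G1_fix R hC (2 ^ m) hfe g hg
  have hpm : ∀ t, h8tfPair R 33 24 t ∈ twistedF4 K (2 ^ m) := h8tfPair_mem R (2 ^ m) hfe
  have hmm : ∀ t, h8tfPair R 14 23 t ∈ twistedF4 K (2 ^ m) := h8tfPair_mem' R (2 ^ m) hfe
  have hcm : ∀ t v, h8tfCls R 27 25 28 30 t v ∈ twistedF4 K (2 ^ m) :=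
    h8tfCls_mem R (2 ^ m) hfe
  have hcm' : ∀ t v, h8tfCls R 20 22 19 17 t v ∈ twistedF4 K (2 ^ m) :=
    h8tfCls_mem' R (2 ^ m) hfe
  have hhm : ∀ t, h8hU chevF4 hB 33 (R.f t) * h8hU chevF4 hB 24 t ∈ twistedF4 K (2 ^ m) :=
    h8tf_torus1_mem R hC (2 ^ m) hfe
  -- the first class
  obtain ⟨c, φ, hc0, h1, h2, h3⟩ := h8bb_rk1 R hfe hK ϑ hϑ
  have hcφ : ∀ t, c * φ t = t := by
    intro t
    have := h1 t ⟨_, hpm t⟩ rfl
    rw [hp t ⟨_, hpm t⟩ rfl] at this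
    exact (h8tfPair_inj R hC hO2 _ _ this).symm
  have hc1 : c = 1 := by
    have := hcφ 1
    rwa [map_one, mul_one] at this
  have hφ : ∀ t, φ t = t := by
    intro t
    have := hcφ t
    rwa [hc1, one_mul] at this
  have hpair' : ∀ (t : K) (y : ↥(twistedF4 K (2 ^ m))), y.val = h8tfPair R 14 23 t →
      (ϑ y).val = h8tfPair R 14 23 t := by
    intro t y hy
    rw [h2 t y hy, hc1, inv_one, one_mul, hφ]
  have htor : ∀ (t : K), t ≠ 0 → ∀ y : ↥(twistedF4 K (2 ^ m)),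
      y.val = h8hU chevF4 hB 33 (R.f t) * h8hU chevF4 hB 24 t →
      (ϑ y).val = h8hU chevF4 hB 33 (R.f t) * h8hU chevF4 hB 24 t := by
    intro t ht y hy
    rw [h3 t ht y hy, hφ]
  -- the second class
  have hex : ∀ t : K, ∃ w : K, (ϑ ⟨_, hcm t 0⟩).val = h8tfCls R 27 25 28 30 t w :=
    fun t => hc t 0 _ rfl
  choose g hg using hex
  have hsq : ∀ s : K, (ϑ ⟨_, hcm 0 (R.f s * s)⟩).val =
      h8tfCls R 27 25 28 30 0 (R.f s * s) := by
    intro s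
    have e : (⟨_, hcm 0 (R.f s * s)⟩ : ↥(twistedF4 K (2 ^ m))) =
        ⟨_, hcm s 0⟩ * ⟨_, hcm s 0⟩ := by
      apply Subtype.ext
      rw [Subgroup.coe_mul]
      exact (h8bb_cls_sq R s 0).symm
    rw [e, map_mul, Subgroup.coe_mul, hg, h8bb_cls_sq R]
  have hsurj : ∀ v : K, ∃ s : K, R.f s * s = v := by
    intro v
    by_cases hv : v = 0
    · exact ⟨0, by rw [hv, map_zero, mul_zero]⟩
    · refine ⟨(v / R.f v) ^ 2, ?_⟩
      have hfv : R.f v ≠ 0 := (map_ne_zero R.f).mpr hv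
      have hff := R.hf v
      rw [map_pow, map_div₀, div_pow, div_pow, hff]
      field_simp
  have hZ : ∀ v : K, (ϑ ⟨_, hcm 0 v⟩).val = h8tfCls R 27 25 28 30 0 v := by
    intro v
    obtain ⟨s, rfl⟩ := hsurj v
    exact hsq s
  have hall : ∀ t v : K, (ϑ ⟨_, hcm t v⟩).val = h8tfCls R 27 25 28 30 t (g t + v) := by
    intro t v
    have e : (⟨_, hcm t v⟩ : ↥(twistedF4 K (2 ^ m))) = ⟨_, hcm t 0⟩ * ⟨_, hcm 0 v⟩ := by
      apply Subtype.ext
      rw [Subgroup.coe_mul]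
      show h8tfCls R 27 25 28 30 t v = h8tfCls R 27 25 28 30 t 0 * h8tfCls R 27 25 28 30 0 v
      rw [h8tfCls_mul R hC, add_zero, zero_add, mul_zero, add_zero]
    rw [e, map_mul, Subgroup.coe_mul, hg, hZ, h8tfCls_mul R hC, add_zero, mul_zero, add_zero]
  have hadd : ∀ t t' : K, g (t + t') = g t + g t' := by
    intro t t'
    have e : (⟨_, hcm (t + t') (R.f t * t')⟩ : ↥(twistedF4 K (2 ^ m))) =
        ⟨_, hcm t 0⟩ * ⟨_, hcm t' 0⟩ := by
      apply Subtype.ext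
      rw [Subgroup.coe_mul]
      show _ = h8tfCls R 27 25 28 30 t 0 * h8tfCls R 27 25 28 30 t' 0
      rw [h8tfCls_mul R hC, add_zero, zero_add]
    have h5 := hall (t + t') (R.f t * t')
    rw [e, map_mul, Subgroup.coe_mul, hg, hg, h8tfCls_mul R hC] at h5
    have h6 := (h8tfCls_inj R hC hO2 _ _ _ _ h5).2
    exact (add_right_cancel h6).symm
  have hhom : ∀ lam t : K, lam ≠ 0 → g (lam * t) = R.f lam * lam * g t := by
    intro lam t hl
    have hli : lam⁻¹ ≠ 0 := inv_ne_zero hl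
    have e1 := h8bb_tor_cls R hfe lam⁻¹ hli t 0
    rw [inv_inv, mul_zero] at e1
    have ey : (⟨_, hcm (lam * t) 0⟩ : ↥(twistedF4 K (2 ^ m))) =
        ⟨_, hhm lam⁻¹⟩ * ⟨_, hcm t 0⟩ * (⟨_, hhm lam⁻¹⟩ : ↥(twistedF4 K (2 ^ m)))⁻¹ := by
      apply Subtype.ext
      simp only [Subgroup.coe_mul, Subgroup.coe_inv]
      exact e1.symm
    have h5 := hg (lam * t)
    rw [ey, map_mul, map_mul, map_inv] at h5
    simp only [Subgroup.coe_mul, Subgroup.coe_inv] at h5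
    rw [htor lam⁻¹ hli _ rfl, hg, h8bb_tor_cls R hfe lam⁻¹ hli, inv_inv] at h5
    have h6 := (h8tfCls_inj R hC hO2 _ _ _ _ h5).2
    rw [← h6, map_inv₀, inv_inv]
  -- an element of the field moved by the twist
  obtain ⟨lam, hl0, hl1, hfl⟩ : ∃ lam : K, lam ≠ 0 ∧ lam ≠ 1 ∧ R.f lam ≠ lam := by
    by_contra hcon
    push Not at hcon
    obtain ⟨t0, ht0, ht1⟩ : ∃ t0 : K, t0 ≠ 0 ∧ t0 ≠ 1 := by
      classical
      have hcard : ({0, 1} : Finset K).card < (Finset.univ : Finset K).card := by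
        rw [Finset.card_univ, hK]
        have h8 : 2 ^ 3 ≤ 2 ^ (2 * m + 1) := Nat.pow_le_pow_right (by norm_num) (by omega)
        have := Finset.card_le_two (a := (0 : K)) (b := 1)
        omega
      obtain ⟨x, _, hx⟩ := Finset.exists_mem_notMem_of_card_lt_card hcard
      simp only [Finset.mem_insert, Finset.mem_singleton, not_or] at hx
      exact ⟨x, hx.1, hx.2⟩
    have e1 := hcon t0 ht0 ht1
    have e2 := R.hf t0
    rw [e1, e1] at e2
    have : t0 * (t0 - 1) = 0 := by linear_combination e2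
    rcases mul_eq_zero.mp this with h | h
    · exact ht0 h
    · exact ht1 (sub_eq_zero.mp h)
  have hg0 : ∀ t, g t = 0 := by
    intro t
    have hl1' : lam + 1 ≠ 0 := by
      intro h
      exact hl1 (CharTwo.add_eq_zero.mp h)
    have a1 := hhom (lam + 1) t hl1'
    have a2 := hhom lam t hl0
    have a3 : g ((lam + 1) * t) = g (lam * t) + g t := by rw [add_mul, one_mul, hadd]
    rw [a3, a2, map_add, map_one] at a1
    have : (R.f lam + lam) * g t = 0 := by linear_combination (-1 : K) * a1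
    rcases mul_eq_zero.mp this with h | h
    · exact absurd (CharTwo.add_eq_zero.mp h) hfl
    · exact h
  have hfixcls : ∀ t v : K, ϑ ⟨_, hcm t v⟩ = ⟨_, hcm t v⟩ := by
    intro t v
    apply Subtype.ext
    rw [hall, hg0, zero_add]
  -- the negative second class
  have hX2 := h8tf_Xfix2 R hC hO2 (2 ^ m) hfe
  have hn2 : (h8nWU chevF4 hB [1, 2, 1, 2] : GL chevF4.Idx K) ∈ twistedF4 K (2 ^ m) :=
    h8tf_n2_mem R hA hC hBN hO2 (2 ^ m) hfe
  have hw2 : h8ofW 2 = [1, 2, 1, 2] := rfl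
  have hnB2 := h8bb_ni_not_B hK hB 2 (Or.inr rfl)
  rw [hw2] at hnB2
  have hϑs : ((ϑ.symm : ↥(twistedF4 K (2 ^ m)) ≃* ↥(twistedF4 K (2 ^ m))) :
      MulAut ↥(twistedF4 K (2 ^ m))) ∈ h8ayA0
      ((chevF4.posUnipotent K ⊓ twistedF4 K (2 ^ m)).subgroupOf (twistedF4 K (2 ^ m)))
      ((chevF4.negUnipotent K ⊓ twistedF4 K (2 ^ m)).subgroupOf (twistedF4 K (2 ^ m))) :=
    Subgroup.inv_mem _ hϑ
  have hneg := h8bb_rigid_neg (hB := hB) h8tfC2 hB0 hA hC hBN hW hO hO2 R (twistedF4 K (2 ^ m))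
    hG1 hX2 hn2 hnB2 ϑ
    (by
      intro x hx
      obtain ⟨t, v, e⟩ := h8tf_X2_fix R hC hO2 _ hx (hG1 _ x.2).2
      have : x = ⟨_, hcm t v⟩ := Subtype.ext e
      rw [this]
      exact hfixcls t v)
    (fun y hy => h8bb_theta_neg hK ϑ hϑ R hfe h8tfC2 2 (Or.inr rfl) hw2 hX2 y hy)
    (fun y hy => h8bb_theta_neg hK ϑ.symm hϑs R hfe h8tfC2 2 (Or.inr rfl) hw2 hX2 y hy)
  -- the fixed subgroup contains the generators
  set T : Subgroup (GL chevF4.Idx K) :=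
    (MonoidHom.eqLocus ϑ.toMonoidHom (MonoidHom.id ↥(twistedF4 K (2 ^ m)))).map
      (twistedF4 K (2 ^ m)).subtype with hT
  have hmemT : ∀ y : ↥(twistedF4 K (2 ^ m)), ϑ y = y → y.val ∈ T := by
    intro y hy
    exact ⟨y, hy, rfl⟩
  have hle := h8tf_gen_le R (2 ^ m) hfe T
    (fun t => hmemT ⟨_, hpm t⟩ (Subtype.ext (hp t _ rfl)))
    (fun t => hmemT ⟨_, hmm t⟩ (Subtype.ext (hpair' t _ rfl)))
    (fun t v => hmemT ⟨_, hcm t v⟩ (hfixcls t v))
    (fun t v => hmemT ⟨_, hcm' t v⟩ (hneg ⟨_, hcm' t v⟩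
      (h8tfCls_mem_XL R 20 22 19 17 [22, 20, 19, 17] (by simp) (by simp) (by simp) (by simp)
        t v)))
  obtain ⟨y, hy, hyx⟩ := hle x.2
  have hyx' : y = x := Subtype.ext hyx
  rw [← hyx']
  exact hy

end

end Cfsg.Agent.Lib.helper8
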