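import Mathlib
import Cfsg.Prelude.Def_ChevStructure
import Cfsg.Prelude.Def_ChevF4
import Cfsg.Prelude.Def_LieTwisted
import Cfsg.Prelude.Def_KGroupFacts
import Cfsg.Agent.Lib.helper8.ChevBB13
import Cfsg.Agent.Lib.helper8.ChevAV7

set_option autoImplicit false

namespace Cfsg.Agent.Lib.helper8

open Cfsg.Lie Cfsg.Lie.ChevalleyDatum H3

universe u

variable {K : Type u} [Field K] [Fintype K] {m : ℕ}

/-- the number of automorphisms of `²F₄(q)` stabilizing `U ∩ ²F₄(q)` and `V ∩ ²F₄(q)` -/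
theorem h8bb_A0_card (hm : 1 ≤ m) (hK : Fintype.card K = 2 ^ (2 * m + 1)) :
    Nat.card ↥(h8ayA0
      ((chevF4.posUnipotent K ⊓ twistedF4 K (2 ^ m)).subgroupOf (twistedF4 K (2 ^ m)))
      ((chevF4.negUnipotent K ⊓ twistedF4 K (2 ^ m)).subgroupOf (twistedF4 K (2 ^ m)))) =
      Nat.card (Kˣ × Kˣ × (K ≃+* K)) := by
  have hD : chevF4 ∈ [chevG2, chevB2, chevD4, chevF4, chevE6, chevE7, chevE8] := by simp
  have hB := h8base_all.{u} chevF4 hD
  have hC := h8commAll.{u} chevF4 hD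
  obtain ⟨hO, hO2⟩ := h8ord_all chevF4 hD
  have := h8tf_char2 hK
  obtain ⟨R, hfe⟩ := h8tf_setup hK hB
  have hpm : ∀ t, h8tfPair R 33 24 t ∈ twistedF4 K (2 ^ m) := h8tfPair_mem R (2 ^ m) hfe
  have hcm : ∀ t v, h8tfCls R 27 25 28 30 t v ∈ twistedF4 K (2 ^ m) :=
    h8tfCls_mem R (2 ^ m) hfe
  apply h8ay_card_of_rel (fun (θ : ↥(h8ayA0
      ((chevF4.posUnipotent K ⊓ twistedF4 K (2 ^ m)).subgroupOf (twistedF4 K (2 ^ m)))
      ((chevF4.negUnipotent K ⊓ twistedF4 K (2 ^ m)).subgroupOf (twistedF4 K (2 ^ m)))))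
      (x : Kˣ × Kˣ × (K ≃+* K)) =>
        (∀ (t : K) (y : ↥(twistedF4 K (2 ^ m))), y.val = h8tfPair R 33 24 t →
          ((θ.val : ↥(twistedF4 K (2 ^ m)) ≃* ↥(twistedF4 K (2 ^ m))) y).val =
            h8tfPair R 33 24 ((x.1 : K) * x.2.2 t)) ∧
        (∀ (t v : K) (y : ↥(twistedF4 K (2 ^ m))), y.val = h8tfCls R 27 25 28 30 t v →
          ∃ v' : K, ((θ.val : ↥(twistedF4 K (2 ^ m)) ≃* ↥(twistedF4 K (2 ^ m))) y).val =
            h8tfCls R 27 25 28 30 ((x.2.1 : K) * x.2.2 t) v'))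
  · intro θ
    obtain ⟨c, φ, hc0, h1, h2, h3⟩ := h8bb_rk1 R hfe hK θ.val θ.2
    obtain ⟨c2, hc2, h4⟩ := h8bb_cls_data R hfe hK θ.val θ.2 φ h3
    exact ⟨(Units.mk0 c hc0, Units.mk0 c2 hc2, φ), h1, h4⟩
  · intro x
    obtain ⟨θ, hU, hV, h1, h2⟩ := h8bb_exists hK R hfe (x.1 : K) (x.2.1 : K) (Units.ne_zero _)
      (Units.ne_zero _) x.2.2
    exact ⟨⟨θ, (h8ayA0_mem _ _ _).mpr ⟨hU, hV⟩⟩, h1, h2⟩
  · rintro θ x x' ⟨h1, h2⟩ ⟨h1', h2'⟩
    have key1 : ∀ t, (x.1 : K) * x.2.2 t = (x'.1 : K) * x'.2.2 t := by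
      intro t
      have a := h1 t ⟨_, hpm t⟩ rfl
      have b := h1' t ⟨_, hpm t⟩ rfl
      rw [a] at b
      exact h8tfPair_inj R hC hO2 _ _ b
    have e1 : (x.1 : K) = (x'.1 : K) := by
      have := key1 1
      rwa [map_one, map_one, mul_one, mul_one] at this
    have e3 : x.2.2 = x'.2.2 := by
      apply RingEquiv.ext
      intro t
      have := key1 t
      rw [e1] at this
      exact mul_left_cancel₀ (Units.ne_zero _) this
    have e2 : (x.2.1 : K) = (x'.2.1 : K) := by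
      obtain ⟨v1, a⟩ := h2 1 0 ⟨_, hcm 1 0⟩ rfl
      obtain ⟨v2, b⟩ := h2' 1 0 ⟨_, hcm 1 0⟩ rfl
      rw [a] at b
      have := (h8tfCls_inj R hC hO2 _ _ _ _ b).1
      rwa [map_one, map_one, mul_one, mul_one] at this
    exact Prod.ext (Units.ext e1) (Prod.ext (Units.ext e2) e3)
  · rintro θ θ' x ⟨h1, h2⟩ ⟨h1', h2'⟩
    have hϑ := Subgroup.mul_mem _ (Subgroup.inv_mem _ θ.2) θ'.2
    have hθs := Subgroup.inv_mem _ θ.2
    set ϑ : ↥(twistedF4 K (2 ^ m)) ≃* ↥(twistedF4 K (2 ^ m)) := θ.val⁻¹ * θ'.val with hϑdef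
    have hϑapp : ∀ g, ϑ g = (θ.val : ↥(twistedF4 K (2 ^ m)) ≃* ↥(twistedF4 K (2 ^ m))).symm
        (θ'.val g) := fun g => rfl
    have hp : ∀ (t : K) (y : ↥(twistedF4 K (2 ^ m))), y.val = h8tfPair R 33 24 t →
        (ϑ y).val = h8tfPair R 33 24 t := by
      intro t y hy
      have a := h1' t y hy
      have b := h1 t y hy
      have e : (θ'.val : ↥(twistedF4 K (2 ^ m)) ≃* ↥(twistedF4 K (2 ^ m))) y =
          (θ.val : ↥(twistedF4 K (2 ^ m)) ≃* ↥(twistedF4 K (2 ^ m))) y :=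
        Subtype.ext (a.trans b.symm)
      rw [hϑapp, e, MulEquiv.symm_apply_apply, hy]
    have hc : ∀ (t v : K) (y : ↥(twistedF4 K (2 ^ m))), y.val = h8tfCls R 27 25 28 30 t v →
        ∃ v' : K, (ϑ y).val = h8tfCls R 27 25 28 30 t v' := by
      intro t v y hy
      obtain ⟨v1, a⟩ := h2' t v y hy
      obtain ⟨t2, v2, b⟩ := h8bb_theta_cls R hfe hK
        (θ.val : ↥(twistedF4 K (2 ^ m)) ≃* ↥(twistedF4 K (2 ^ m))).symm hθs _ _
        ((θ'.val : ↥(twistedF4 K (2 ^ m)) ≃* ↥(twistedF4 K (2 ^ m))) y) a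
      obtain ⟨v3, c⟩ := h2 t2 v2 _ b
      rw [MulEquiv.apply_symm_apply, a] at c
      have e := (h8tfCls_inj R hC hO2 _ _ _ _ c).1
      have e' : t = t2 := x.2.2.injective (mul_left_cancel₀ (Units.ne_zero _) e)
      exact ⟨v2, by rw [hϑapp, b, e']⟩
    have hall := h8bb_rigid R hfe hK ϑ hϑ hm hp hc
    apply Subtype.ext
    apply MulEquiv.ext
    intro g
    have := hall g
    rw [hϑapp] at this
    conv_lhs => rw [← this]
    rw [MulEquiv.apply_symm_apply]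

/-- the order of the outer automorphism group of the Ree group `²F₄(2^(2m+1))` -/
theorem h8out_2F4 (hm : 1 ≤ m) (hK : Fintype.card K = 2 ^ (2 * m + 1)) :
    Nat.card (Cfsg.Out ↥(twistedF4 K (2 ^ m))) = 2 * m + 1 := by
  have hch : CharP K 2 := h8tf_char2 hK
  have : Fact (Nat.Prime 2) := ⟨Nat.prime_two⟩
  have h1 := h8bb_out hm hK
  have hcK : Nat.card K = 2 ^ (2 * m + 1) := by rw [Nat.card_eq_fintype_card, hK]
  rw [h8bb_A0_card hm hK, Nat.card_prod, Nat.card_prod, Nat.card_units, hcK,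
    h8av_ringAut_card 2 (2 * m + 1) hK] at h1
  have hpos : 0 < 2 ^ (2 * m + 1) - 1 := by
    have : 2 ^ 1 ≤ 2 ^ (2 * m + 1) := Nat.pow_le_pow_right (by norm_num) (by omega)
    omega
  have hpos2 : 0 < (2 ^ (2 * m + 1) - 1) ^ 2 := pow_pos hpos 2
  apply Nat.eq_of_mul_eq_mul_left hpos2
  rw [h1]
  ring

end Cfsg.Agent.Lib.helper8
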