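import Mathlib
import Cfsg.Agent.Lib.helper8.ChevCent2

set_option autoImplicit false

namespace Cfsg.Agent.Lib.helper8

open Cfsg.Lie Cfsg.Lie.ChevalleyDatum

theorem h8centChk_E6 : h8centChk chevE6 71 [0, 2, 3, 4, 5] 1 0 = true := by decide +kernel

theorem h8centChk_E7 : h8centChk chevE7 125 [1, 2, 3, 4, 5, 6] 0 0 = true := by decide +kernel

theorem h8centChk_E8 : h8centChk chevE8 239 [0, 1, 2, 3, 4, 5, 6] 7 0 = true := by decide +kernel

theorem h8centChk_F4a : h8centChk chevF4 47 [0, 1, 2] 3 0 = true := by decide +kernel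

theorem h8centChk_F4b : h8centChk chevF4 44 [1, 2, 3] 0 2 = true := by decide +kernel

theorem h8centChk_G2 : h8centChk chevG2 11 [0] 1 0 = true := by decide +kernel

end Cfsg.Agent.Lib.helper8
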