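import Mathlib
import Cfsg.Prelude.Def_ChevStructure
import Cfsg.Agent.Lib.helper8.ChevCnt6
import Cfsg.Agent.Lib.helper8.ChevSolv

set_option autoImplicit false

namespace Cfsg.Agent.Lib.helper8

open Cfsg.Lie Cfsg.Lie.ChevalleyDatum

universe u

variable {F : Type u} [Field F]

/-- conjugating a word of root elements by an element acting on root subgroups by a character -/
theorem h8cen_conj_word (D : ChevalleyDatum) (hB : H8Base.{u} D) (t : GL D.Idx F) (χ : ℕ → F)
    (hχ : ∀ r < D.nroots, ∀ s : F, t * h8xU D hB r s * t⁻¹ = h8xU D hB r (χ r * s))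
    (w : List (ℕ × F)) (hw : ∀ p ∈ w, p.1 < D.nroots) :
    t * h8wordU D hB w * t⁻¹ = h8wordU D hB (w.map fun p => (p.1, χ p.1 * p.2)) := by
  induction w with
  | nil =>
    show t * 1 * t⁻¹ = 1
    group
  | cons p w ih =>
    have hw' : ∀ q ∈ w, q.1 < D.nroots := fun q hq => hw q (List.mem_cons_of_mem _ hq)
    rw [List.map_cons, h8wordU_cons, h8wordU_cons, ← ih hw',
      ← hχ p.1 (hw p List.mem_cons_self)]
    group

theorem h8cen_conj_ordW (D : ChevalleyDatum) (hB : H8Base.{u} D) (t : GL D.Idx F) (χ : ℕ → F)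
    (hχ : ∀ r < D.nroots, ∀ s : F, t * h8xU D hB r s * t⁻¹ = h8xU D hB r (χ r * s))
    (k : ℕ) (f : ℕ → F) :
    t * h8wordU D hB (h8ordW D k f) * t⁻¹ = h8wordU D hB (h8ordW D k fun r => χ r * f r) := by
  rw [h8cen_conj_word D hB t χ hχ]
  · unfold h8ordW
    rw [List.map_map]
    rfl
  · intro p hp
    unfold h8ordW at hp
    rw [List.mem_map] at hp
    obtain ⟨r, hr, rfl⟩ := hp
    exact ((h8Lk_mem D k r).mp hr).2.1

theorem h8cen_conj_ordQ (D : ChevalleyDatum) (hB : H8Base.{u} D) (t : GL D.Idx F) (χ : ℕ → F)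
    (hχ : ∀ r < D.nroots, ∀ s : F, t * h8xU D hB r s * t⁻¹ = h8xU D hB r (χ r * s))
    (P : ℕ → Bool) (k : ℕ) (f : ℕ → F) :
    t * h8wordU D hB (h8ordQ D P k f) * t⁻¹ =
      h8wordU D hB (h8ordQ D P k fun r => χ r * f r) := by
  rw [h8cen_conj_word D hB t χ hχ]
  · unfold h8ordQ
    rw [List.map_map]
    rfl
  · intro p hp
    unfold h8ordQ at hp
    rw [List.mem_map] at hp
    obtain ⟨r, hr, rfl⟩ := hp
    exact ((h8Lk_mem D k r).mp (List.mem_filter.mp (List.mem_reverse.mp hr)).1).2.1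

/-- counting functions with prescribed zeros -/
theorem h8card_fun_supp [Fintype F] {A : Type} [Fintype A] (P : A → Prop) :
    Nat.card {f : A → F // ∀ a, ¬ P a → f a = 0} =
      Fintype.card F ^ Nat.card {a : A // P a} := by
  classical
  have e : {f : A → F // ∀ a, ¬ P a → f a = 0} ≃ ({a : A // P a} → F) :=
    { toFun := fun f a => f.val a.val
      invFun := fun g => ⟨fun a => if h : P a then g ⟨a, h⟩ else 0, fun a ha => by
        simp only [dif_neg ha]⟩
      left_inv := by
        rintro ⟨f, hf⟩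
        apply Subtype.ext
        funext a
        by_cases h : P a
        · simp only [dif_pos h]
        · simp only [dif_neg h]
          exact (hf a h).symm
      right_inv := by
        intro g
        funext a
        simp only [dif_pos a.2] }
  rw [Nat.card_congr e, Nat.card_eq_fintype_card, Fintype.card_fun, Nat.card_eq_fintype_card]

/-- extension by zero of a function on the positive roots -/
noncomputable def h8cenExt (D : ChevalleyDatum) (f : ↥D.posRoots.toFinset → F) (r : ℕ) : F := by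
  classical
  exact if h : r ∈ D.posRoots.toFinset then f ⟨r, h⟩ else 0

theorem h8cenExt_pos (D : ChevalleyDatum) (f : ↥D.posRoots.toFinset → F) (r : ℕ)
    (h : r ∈ D.posRoots.toFinset) : h8cenExt D f r = f ⟨r, h⟩ := by
  unfold h8cenExt
  rw [dif_pos h]

/-- the elements of `U` fixed by `t` -/
theorem h8cen_U_card [Fintype F] (D : ChevalleyDatum) (hB : H8Base.{u} D) (hC : H8CommAll.{u} D)
    (hO : H8Ord D) (hO2 : H8Ord2 D) (t : GL D.Idx F) (χ : ℕ → F)
    (hχ : ∀ r < D.nroots, ∀ s : F, t * h8xU D hB r s * t⁻¹ = h8xU D hB r (χ r * s)) :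
    Nat.card {u : GL D.Idx F // u ∈ D.posUnipotent F ∧ t * u * t⁻¹ = u} =
      Fintype.card F ^ Nat.card {r : ↥D.posRoots.toFinset // χ r.val = 1} := by
  classical
  have hmemU : ∀ f : ℕ → F, h8wordU D hB (h8ordW D 0 f) ∈ D.posUnipotent F := by
    intro f
    rw [← h8Vk_zero]
    exact h8ordW_mem D hB 0 f
  have hfix : ∀ f : {f : ↥D.posRoots.toFinset → F // ∀ a, ¬ χ a.val = 1 → f a = 0},
      t * h8wordU D hB (h8ordW D 0 (h8cenExt D f.val)) * t⁻¹ = h8wordU D hB (h8ordW D 0 (h8cenExt D f.val)) := by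
    rintro ⟨f, hf⟩
    rw [h8cen_conj_ordW D hB t χ hχ]
    congr 1
    apply h8ordW_congr
    intro r hr
    rw [h8Lk_zero] at hr
    have hr' : r ∈ D.posRoots.toFinset := List.mem_toFinset.mpr hr
    show χ r * h8cenExt D f r = h8cenExt D f r
    rw [h8cenExt_pos D f r hr']
    by_cases h1 : χ r = 1
    · rw [h1, one_mul]
    · rw [hf ⟨r, hr'⟩ h1, mul_zero]
  let Φ : {f : ↥D.posRoots.toFinset → F // ∀ a, ¬ χ a.val = 1 → f a = 0} →
      {u : GL D.Idx F // u ∈ D.posUnipotent F ∧ t * u * t⁻¹ = u} := fun f =>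
    ⟨h8wordU D hB (h8ordW D 0 (h8cenExt D f.val)), ⟨hmemU (h8cenExt D f.val), hfix f⟩⟩
  have hbij : Function.Bijective Φ := by
    constructor
    · rintro ⟨f, hf⟩ ⟨f', hf'⟩ hff
      have heq : h8wordU D hB (h8ordW D 0 (h8cenExt D f)) =
          h8wordU D hB (h8ordW D 0 (h8cenExt D f')) := congrArg Subtype.val hff
      have hun := h8ord_unique D hB hO2 D.nroots 0 (by omega) _ _ heq
      apply Subtype.ext
      funext ⟨r, hr⟩
      have hr' : r ∈ h8Lk D 0 := by
        rw [h8Lk_zero]
        exact List.mem_toFinset.mp hr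
      have := hun r hr'
      rw [h8cenExt_pos D f r hr, h8cenExt_pos D f' r hr] at this
      exact this
    · rintro ⟨g, hg, hgt⟩
      have hg' := hg
      rw [← h8Vk_zero] at hg'
      obtain ⟨t0, ht0⟩ := h8ord_exists D hB hC hO D.nroots 0 (by omega) g hg'
      have h1 : h8wordU D hB (h8ordW D 0 fun r => χ r * t0 r) = h8wordU D hB (h8ordW D 0 t0) := by
        rw [← h8cen_conj_ordW D hB t χ hχ, ← ht0, hgt]
      have hun := h8ord_unique D hB hO2 D.nroots 0 (by omega) _ _ h1
      refine ⟨⟨fun x => t0 x.val, ?_⟩, ?_⟩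
      · rintro ⟨r, hr⟩ hne
        have hr' : r ∈ h8Lk D 0 := by
          rw [h8Lk_zero]
          exact List.mem_toFinset.mp hr
        have h2 : χ r * t0 r = t0 r := hun r hr'
        have h3 : (χ r - 1) * t0 r = 0 := by rw [sub_mul, h2, one_mul, sub_self]
        rcases mul_eq_zero.mp h3 with h4 | h4
        · exact absurd (sub_eq_zero.mp h4) hne
        · exact h4
      · apply Subtype.ext
        show h8wordU D hB (h8ordW D 0 (h8cenExt D fun x => t0 x.val)) = g
        rw [ht0]
        congr 1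
        apply h8ordW_congr
        intro r hr
        rw [h8Lk_zero] at hr
        rw [h8cenExt_pos D _ r (List.mem_toFinset.mpr hr)]
  rw [← Nat.card_congr (Equiv.ofBijective _ hbij), h8card_fun_supp]

end Cfsg.Agent.Lib.helper8
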