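import Mathlib
import Cfsg.Prelude.Def_ChevStructure
import Cfsg.Agent.Lib.helper8.ChevCzr1

set_option autoImplicit false

namespace Cfsg.Agent.Lib.helper8

open Cfsg.Lie Cfsg.Lie.ChevalleyDatum

universe u

variable {F : Type u} [Field F]

/-- an element of `B` is fixed by `t` up to a torus factor only if the factor is trivial -/
theorem h8cen_borel_fix (D : ChevalleyDatum) (hB : H8Base.{u} D) (t : GL D.Idx F)
    (ht : t ∈ D.diagonalSubgroup F) (b : GL D.Idx F) (hb : b ∈ D.borelSubgroup F)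
    (h'' : GL D.Idx F) (hh : h'' ∈ D.diagonalSubgroup F) (e : t * b * t⁻¹ * h'' = b) :
    h'' = 1 ∧ t * b * t⁻¹ = b := by
  have hmemB : b ∈ ((D.posUnipotent F ⊔ D.diagonalSubgroup F : Subgroup (GL D.Idx F)) :
      Set (GL D.Idx F)) := hb
  rw [Subgroup.coe_mul_of_right_le_normalizer_left _ _ (h8_H_le_normalizer_U D hB)] at hmemB
  obtain ⟨u0, hu0, h0, hh0, rfl⟩ := hmemB
  have hu1 : t * u0 * t⁻¹ ∈ D.posUnipotent F :=
    (Subgroup.mem_normalizer_iff.mp (h8_H_le_normalizer_U D hB ht) u0).mp hu0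
  have hcomm : t * h0 = h0 * t := h8_H_comm D hB t h0 ht hh0
  have e1 : t * (u0 * h0) * t⁻¹ = (t * u0 * t⁻¹) * h0 := by
    have : t * (u0 * h0) * t⁻¹ = t * u0 * (t⁻¹ * (t * h0)) * t⁻¹ := by group
    rw [this, hcomm]
    group
  have e2 : u0⁻¹ * (t * u0 * t⁻¹) = h0 * (h0 * h'')⁻¹ := by
    rw [e1] at e
    have : u0⁻¹ * (t * u0 * t⁻¹) = u0⁻¹ * ((t * u0 * t⁻¹) * h0 * h'') * (h0 * h'')⁻¹ := by group
    rw [this, e]
    group
  have hmem : u0⁻¹ * (t * u0 * t⁻¹) ∈ D.posUnipotent F ⊓ D.diagonalSubgroup F := by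
    rw [Subgroup.mem_inf]
    refine ⟨Subgroup.mul_mem _ (Subgroup.inv_mem _ hu0) hu1, ?_⟩
    rw [e2]
    exact Subgroup.mul_mem _ hh0 (Subgroup.inv_mem _ (Subgroup.mul_mem _ hh0 hh))
  rw [h8_U_inf_H D hB, Subgroup.mem_bot] at hmem
  have hu : t * u0 * t⁻¹ = u0 := by
    have : t * u0 * t⁻¹ = u0 * (u0⁻¹ * (t * u0 * t⁻¹)) := by group
    rw [this, hmem, mul_one]
  have hh1 : h'' = 1 := by
    rw [hmem] at e2
    have h3 : h0 = h0 * h'' := eq_of_mul_inv_eq_one e2.symm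
    exact mul_left_cancel (a := h0) (by rw [mul_one]; exact h3.symm)
  refine ⟨hh1, ?_⟩
  rw [e1, hu]

/-- the fixed points of `t` in `B` -/
theorem h8cen_B_card [Finite F] (D : ChevalleyDatum) (hB : H8Base.{u} D) (t : GL D.Idx F)
    (ht : t ∈ D.diagonalSubgroup F) :
    Nat.card {b : GL D.Idx F // b ∈ D.borelSubgroup F ∧ t * b * t⁻¹ = b} =
      Nat.card {u : GL D.Idx F // u ∈ D.posUnipotent F ∧ t * u * t⁻¹ = u} *
        Nat.card (D.diagonalSubgroup F) := by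
  classical
  have hcomm : ∀ h0 ∈ D.diagonalSubgroup F, t * h0 * t⁻¹ = h0 := by
    intro h0 hh0
    rw [h8_H_comm D hB t h0 ht hh0]
    group
  let Φ : {u : GL D.Idx F // u ∈ D.posUnipotent F ∧ t * u * t⁻¹ = u} × ↥(D.diagonalSubgroup F) →
      {b : GL D.Idx F // b ∈ D.borelSubgroup F ∧ t * b * t⁻¹ = b} := fun p =>
    ⟨p.1.val * p.2.val, ⟨Subgroup.mul_mem _ (h8U_le_B D p.1.2.1) (h8H_le_B D p.2.2), by
      have : t * (p.1.val * p.2.val) * t⁻¹ = (t * p.1.val * t⁻¹) * (t * p.2.val * t⁻¹) := by group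
      rw [this, p.1.2.2, hcomm _ p.2.2]⟩⟩
  have hbij : Function.Bijective Φ := by
    constructor
    · rintro ⟨⟨u, hu, hut⟩, ⟨h0, hh0⟩⟩ ⟨⟨u', hu', hut'⟩, ⟨h0', hh0'⟩⟩ e
      have e' : u * h0 = u' * h0' := congrArg Subtype.val e
      have h1 : u'⁻¹ * u ∈ D.posUnipotent F ⊓ D.diagonalSubgroup F := by
        rw [Subgroup.mem_inf]
        refine ⟨Subgroup.mul_mem _ (Subgroup.inv_mem _ hu') hu, ?_⟩
        have : u'⁻¹ * u = h0' * h0⁻¹ := by
          have : u'⁻¹ * u = u'⁻¹ * (u * h0) * h0⁻¹ := by group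
          rw [this, e']; group
        rw [this]
        exact Subgroup.mul_mem _ hh0' (Subgroup.inv_mem _ hh0)
      rw [h8_U_inf_H D hB, Subgroup.mem_bot] at h1
      have huu : u = u' := by
        have : u = u' * (u'⁻¹ * u) := by group
        rw [this, h1, mul_one]
      subst huu
      have htt : h0 = h0' := mul_left_cancel e'
      subst htt
      rfl
    · rintro ⟨b, hb, hbt⟩
      have hmemB : b ∈ ((D.posUnipotent F ⊔ D.diagonalSubgroup F : Subgroup (GL D.Idx F)) :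
          Set (GL D.Idx F)) := hb
      rw [Subgroup.coe_mul_of_right_le_normalizer_left _ _ (h8_H_le_normalizer_U D hB)] at hmemB
      obtain ⟨u0, hu0, h0, hh0, rfl⟩ := hmemB
      have hfix : t * u0 * t⁻¹ = u0 := by
        have h1 : t * (u0 * h0) * t⁻¹ * 1 = u0 * h0 := by rw [mul_one]; exact hbt
        have h2 := (h8cen_borel_fix D hB t ht (u0 * h0) hb 1 (Subgroup.one_mem _) h1).2
        have h3 : t * (u0 * h0) * t⁻¹ = (t * u0 * t⁻¹) * (t * h0 * t⁻¹) := by group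
        rw [h3, hcomm h0 hh0] at h2
        exact mul_right_cancel h2
      exact ⟨(⟨u0, hu0, hfix⟩, ⟨h0, hh0⟩), rfl⟩
  rw [← Nat.card_congr (Equiv.ofBijective _ hbij), Nat.card_prod]

end Cfsg.Agent.Lib.helper8
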