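import Mathlib
import Cfsg.Prelude.Def_ChevStructure
import Cfsg.Agent.Lib.helper8.ChevCzr2

set_option autoImplicit false

namespace Cfsg.Agent.Lib.helper8

open Cfsg.Lie Cfsg.Lie.ChevalleyDatum

universe u

variable {F : Type u} [Field F]

/-- when is an element of a Bruhat cell, in normal form, fixed by the torus element `t` -/
theorem h8cen_cell_fix (D : ChevalleyDatum) (hB : H8Base.{u} D) (hA : H8ReflAll D)
    (hC : H8CommAll.{u} D) (hBN : H8BN D) (hO : H8Ord D) (hO2 : H8Ord2 D)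
    (t : GL D.Idx F) (ht : t ∈ D.diagonalSubgroup F) (χ : ℕ → F)
    (hχ : ∀ r < D.nroots, ∀ s : F, t * h8xU D hB r s * t⁻¹ = h8xU D hB r (χ r * s))
    (n : GL D.Idx F) (hn : n ∈ D.monomialSubgroup F) (h : H8Perm D hB n)
    (b : GL D.Idx F) (hb : b ∈ D.borelSubgroup F) (f : H8Qt D (h8permOf D hB n h) → F) :
    t * (b * n * h8wordU D hB (h8ordQ D (fun r => decide (D.IsPosRoot
        (h8sigOf D (h8permOf D hB n h) r))) 0 (h8extQ D _ f))) * t⁻¹ =
      b * n * h8wordU D hB (h8ordQ D (fun r => decide (D.IsPosRoot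
        (h8sigOf D (h8permOf D hB n h) r))) 0 (h8extQ D _ f)) ↔
    t * n * t⁻¹ = n ∧ t * b * t⁻¹ = b ∧ ∀ q, χ q.val.val * f q = f q := by
  classical
  obtain ⟨dep, par, horb⟩ := hBN.orb
  have hnorm := h8N_le_normalizer_H (F := F) D hB hA dep par horb
  obtain ⟨_, h2, _⟩ := h8cell_param D hB hA hC hBN hO hO2 n hn h
  revert f
  set π := h8permOf D hB n h with hπ
  set P : ℕ → Bool := fun r => decide (D.IsPosRoot (h8sigOf D π r)) with hP
  intro f
  -- the conjugate of the `Q`-part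
  have hQ : t * h8wordU D hB (h8ordQ D P 0 (h8extQ D π f)) * t⁻¹ =
      h8wordU D hB (h8ordQ D P 0 (h8extQ D π fun q => χ q.val.val * f q)) := by
    rw [h8cen_conj_ordQ D hB t χ hχ]
    congr 1
    apply h8ordQ_congr'
    intro r hr hPr
    obtain ⟨_, hrp⟩ := (h8Lk_mem D 0 r).mp hr
    have hq : D.IsPosRoot r ∧ ¬ D.IsPosRoot (π ⟨r, hrp.1⟩).val := by
      refine ⟨hrp, ?_⟩
      simp only [hP, decide_eq_false_iff_not] at hPr
      unfold h8sigOf at hPr
      rwa [dif_pos hrp.1] at hPr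
    show χ r * h8extQ D π f r = h8extQ D π (fun q => χ q.val.val * f q) r
    unfold h8extQ
    rw [dif_pos hrp.1, dif_pos hq, dif_pos hrp.1, dif_pos hq]
  have hh'' : t * n * t⁻¹ * n⁻¹ ∈ D.diagonalSubgroup F := by
    have h1 : n * t⁻¹ * n⁻¹ ∈ D.diagonalSubgroup F :=
      (Subgroup.mem_normalizer_iff.mp (hnorm hn) _).mp (Subgroup.inv_mem _ ht)
    have : t * n * t⁻¹ * n⁻¹ = t * (n * t⁻¹ * n⁻¹) := by group
    rw [this]
    exact Subgroup.mul_mem _ ht h1
  have hsplit : t * (b * n * h8wordU D hB (h8ordQ D P 0 (h8extQ D π f))) * t⁻¹ =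
      (t * b * t⁻¹ * (t * n * t⁻¹ * n⁻¹)) * n *
        h8wordU D hB (h8ordQ D P 0 (h8extQ D π fun q => χ q.val.val * f q)) := by
    rw [← hQ]
    group
  have htb : t * b * t⁻¹ ∈ D.borelSubgroup F :=
    Subgroup.mul_mem _ (Subgroup.mul_mem _ (h8H_le_B D ht) hb)
      (Subgroup.inv_mem _ (h8H_le_B D ht))
  constructor
  · intro e
    rw [hsplit] at e
    obtain ⟨h3, h4⟩ := h2 _ b _ f (Subgroup.mul_mem _ htb (h8H_le_B D hh'')) hb e
    obtain ⟨h5, h6⟩ := h8cen_borel_fix D hB t ht b hb _ hh'' h3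
    refine ⟨?_, h6, fun q => congrFun h4 q⟩
    have : t * n * t⁻¹ = (t * n * t⁻¹ * n⁻¹) * n := by group
    rw [this, h5, one_mul]
  · rintro ⟨e1, e2, e3⟩
    rw [hsplit, e1, e2, mul_inv_cancel, mul_one]
    have : (fun q : H8Qt D π => χ q.val.val * f q) = f := funext e3
    rw [this]

end Cfsg.Agent.Lib.helper8
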