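import Mathlib
import Cfsg.Prelude.Def_ChevStructure
import Cfsg.Agent.Lib.helper8.ChevCzr3

set_option autoImplicit false

namespace Cfsg.Agent.Lib.helper8

open Cfsg.Lie Cfsg.Lie.ChevalleyDatum

universe u

variable {F : Type u} [Field F]

theorem h8cen_fix_iff (χ a : F) : χ * a = a ↔ (¬ χ = 1 → a = 0) := by
  constructor
  · intro h hne
    have h3 : (χ - 1) * a = 0 := by rw [sub_mul, h, one_mul, sub_self]
    rcases mul_eq_zero.mp h3 with h4 | h4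
    · exact absurd (sub_eq_zero.mp h4) hne
    · exact h4
  · intro h
    by_cases h1 : χ = 1
    · rw [h1, one_mul]
    · rw [h h1, mul_zero]

/-- the fixed points of `t` in a Bruhat cell whose representative commutes with `t` -/
theorem h8cen_cell_card [Fintype F] (D : ChevalleyDatum) (hB : H8Base.{u} D) (hA : H8ReflAll D)
    (hC : H8CommAll.{u} D) (hBN : H8BN D) (hO : H8Ord D) (hO2 : H8Ord2 D)
    (t : GL D.Idx F) (ht : t ∈ D.diagonalSubgroup F) (χ : ℕ → F)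
    (hχ : ∀ r < D.nroots, ∀ s : F, t * h8xU D hB r s * t⁻¹ = h8xU D hB r (χ r * s))
    (n : GL D.Idx F) (hn : n ∈ D.monomialSubgroup F) (h : H8Perm D hB n)
    (hcomm : t * n * t⁻¹ = n) :
    Nat.card {g : GL D.Idx F // g ∈ h8Cell D F n ∧ t * g * t⁻¹ = g} =
      Nat.card {b : GL D.Idx F // b ∈ D.borelSubgroup F ∧ t * b * t⁻¹ = b} *
        Fintype.card F ^ Nat.card {q : H8Qt D (h8permOf D hB n h) // χ q.val.val = 1} := by
  classical
  obtain ⟨h1, h2, h3⟩ := h8cell_param D hB hA hC hBN hO hO2 n hn h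
  have hfix := h8cen_cell_fix D hB hA hC hBN hO hO2 t ht χ hχ n hn h
  let Φ : {b : GL D.Idx F // b ∈ D.borelSubgroup F ∧ t * b * t⁻¹ = b} ×
      {f : H8Qt D (h8permOf D hB n h) → F // ∀ q, ¬ χ q.val.val = 1 → f q = 0} →
      {g : GL D.Idx F // g ∈ h8Cell D F n ∧ t * g * t⁻¹ = g} := fun p =>
    ⟨_, ⟨h1 p.1.val p.2.val p.1.2.1, (hfix p.1.val p.1.2.1 p.2.val).mpr
      ⟨hcomm, p.1.2.2, fun q => (h8cen_fix_iff _ _).mpr (p.2.2 q)⟩⟩⟩
  have hbij : Function.Bijective Φ := by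
    constructor
    · rintro ⟨⟨b, hb, hbt⟩, ⟨f, hf⟩⟩ ⟨⟨b', hb', hbt'⟩, ⟨f', hf'⟩⟩ e
      have e' := congrArg Subtype.val e
      obtain ⟨h4, h5⟩ := h2 b b' f f' hb hb' e'
      subst h4
      subst h5
      rfl
    · rintro ⟨g, hg, hgt⟩
      obtain ⟨b, f, hb, e⟩ := h3 g hg
      subst e
      obtain ⟨_, h5, h6⟩ := (hfix b hb f).mp hgt
      exact ⟨(⟨b, hb, h5⟩, ⟨f, fun q => (h8cen_fix_iff _ _).mp (h6 q)⟩), rfl⟩
  rw [← Nat.card_congr (Equiv.ofBijective _ hbij), Nat.card_prod, h8card_fun_supp]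

/-- no fixed points of `t` in a Bruhat cell whose representative does not commute with `t` -/
theorem h8cen_cell_empty (D : ChevalleyDatum) (hB : H8Base.{u} D) (hA : H8ReflAll D)
    (hC : H8CommAll.{u} D) (hBN : H8BN D) (hO : H8Ord D) (hO2 : H8Ord2 D)
    (t : GL D.Idx F) (ht : t ∈ D.diagonalSubgroup F) (χ : ℕ → F)
    (hχ : ∀ r < D.nroots, ∀ s : F, t * h8xU D hB r s * t⁻¹ = h8xU D hB r (χ r * s))
    (n : GL D.Idx F) (hn : n ∈ D.monomialSubgroup F) (h : H8Perm D hB n)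
    (g : GL D.Idx F) (hg : g ∈ h8Cell D F n) (hgt : t * g * t⁻¹ = g) : t * n * t⁻¹ = n := by
  obtain ⟨_, _, h3⟩ := h8cell_param D hB hA hC hBN hO hO2 n hn h
  obtain ⟨b, f, hb, e⟩ := h3 g hg
  subst e
  exact ((h8cen_cell_fix D hB hA hC hBN hO hO2 t ht χ hχ n hn h b hb f).mp hgt).1

end Cfsg.Agent.Lib.helper8
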