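import Mathlib
import Cfsg.Prelude.Def_ChevStructure
import Cfsg.Agent.Lib.helper8.ChevCzr4
import Cfsg.Agent.Lib.helper8.ChevInvG2b
import Cfsg.Agent.Lib.helper8.ChevFix4

set_option autoImplicit false

namespace Cfsg.Agent.Lib.helper8

open Cfsg.Lie Cfsg.Lie.ChevalleyDatum

universe u

variable {F : Type u} [Field F]

/-- an element of `N` commutes with the torus element `t` iff its permutation fixes the
character of `t` -/
theorem h8cen_comm_iff (D : ChevalleyDatum) (hB : H8Base.{u} D) (hA : H8ReflAll D)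
    (hBN : H8BN D) (hW : H8BN2 D) (hsc : h8scChk D = true)
    (t : GL D.Idx F) (ht : t ∈ D.diagonalSubgroup F) (χ : ℕ → F)
    (hχ : ∀ r < D.nroots, ∀ s : F, t * h8xU D hB r s * t⁻¹ = h8xU D hB r (χ r * s))
    (n : GL D.Idx F) (hn : n ∈ D.monomialSubgroup F) (h : H8Perm D hB n) :
    t * n * t⁻¹ = n ↔ ∀ r : Fin D.nroots, χ (h8permOf D hB n h r).val = χ r.val := by
  obtain ⟨dep, par, horb⟩ := hBN.orb
  have hnorm := h8N_le_normalizer_H (F := F) D hB hA dep par horb
  have hmem : n⁻¹ * t * n ∈ D.diagonalSubgroup F := by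
    have := (Subgroup.mem_normalizer_iff.mp (hnorm (Subgroup.inv_mem _ hn)) _).mp ht
    rwa [inv_inv] at this
  -- the action of `n⁻¹ t n` on root subgroups
  have hact : ∀ r : Fin D.nroots, ∀ s : F, (n⁻¹ * t * n) * h8xU D hB r.val s * (n⁻¹ * t * n)⁻¹ =
      h8xU D hB r.val (χ (h8permOf D hB n h r).val * s) := by
    intro r s
    obtain ⟨c, hc, hcs⟩ := h8permOf_act D hB n h r
    have e1 : (n⁻¹ * t * n) * h8xU D hB r.val s * (n⁻¹ * t * n)⁻¹ =
        n⁻¹ * (t * (n * h8xU D hB r.val s * n⁻¹) * t⁻¹) * n := by group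
    rw [e1, hcs s, hχ _ (h8permOf D hB n h r).2]
    have e2 : χ (h8permOf D hB n h r).val * (c * s) = c * (χ (h8permOf D hB n h r).val * s) := by
      ring
    rw [e2, ← hcs]
    group
  constructor
  · intro e r
    have e1 : n⁻¹ * t * n = t := by
      have : n⁻¹ * t * n = n⁻¹ * (t * n * t⁻¹) * t := by group
      rw [this, e]
      group
    have h1 := hact r 1
    rw [e1, hχ r.val r.2] at h1
    have h2 := h8xU_inj_t D hB hA hW r.val r.2 _ _ h1
    rw [mul_one, mul_one] at h2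
    exact h2.symm
  · intro hfix
    have e1 : n⁻¹ * t * n = t := by
      apply h8H_ext D hB hA hW hsc _ _ hmem ht
      intro r hr
      rw [hact ⟨r, hr⟩ 1, hχ r hr, hfix ⟨r, hr⟩]
    have : t * n * t⁻¹ = n * (n⁻¹ * t * n) * t⁻¹ := by group
    rw [this, e1]
    group

end Cfsg.Agent.Lib.helper8
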