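import Mathlib
import Cfsg.Prelude.Def_ChevStructure
import Cfsg.Agent.Lib.helper8.ChevCzr5

set_option autoImplicit false

namespace Cfsg.Agent.Lib.helper8

open Cfsg.Lie Cfsg.Lie.ChevalleyDatum

universe u

variable {F : Type u} [Field F]

/-- the contribution of the Weyl group element `π` to the order of the centralizer of a torus
element with character `χ` -/
noncomputable def h8cenTerm (D : ChevalleyDatum) (χ : ℕ → F) (q : ℕ)
    (π : Equiv.Perm (Fin D.nroots)) : ℕ := by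
  classical
  exact if ∀ r : Fin D.nroots, χ (π r).val = χ r.val then
    q ^ Nat.card {x : H8Qt D π // χ x.val.val = 1} else 0

theorem h8cenTerm_pos (D : ChevalleyDatum) (χ : ℕ → F) (q : ℕ) (π : Equiv.Perm (Fin D.nroots))
    (h : ∀ r : Fin D.nroots, χ (π r).val = χ r.val) :
    h8cenTerm D χ q π = q ^ Nat.card {x : H8Qt D π // χ x.val.val = 1} := by
  unfold h8cenTerm
  rw [if_pos h]

theorem h8cenTerm_neg (D : ChevalleyDatum) (χ : ℕ → F) (q : ℕ) (π : Equiv.Perm (Fin D.nroots))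
    (h : ¬ ∀ r : Fin D.nroots, χ (π r).val = χ r.val) : h8cenTerm D χ q π = 0 := by
  unfold h8cenTerm
  rw [if_neg h]

/-- the order of the centralizer of a torus element, as a sum over the Weyl group -/
theorem h8cen_card [Fintype F] (D : ChevalleyDatum) (hB : H8Base.{u} D) (hA : H8ReflAll D)
    (hC : H8CommAll.{u} D) (hBN : H8BN D) (hW : H8BN2 D) (hO : H8Ord D) (hO2 : H8Ord2 D)
    (hsc : h8scChk D = true)
    (t : GL D.Idx F) (ht : t ∈ D.diagonalSubgroup F) (χ : ℕ → F)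
    (hχ : ∀ r < D.nroots, ∀ s : F, t * h8xU D hB r s * t⁻¹ = h8xU D hB r (χ r * s)) :
    Nat.card {g : GL D.Idx F // g ∈ D.group F ∧ t * g * t⁻¹ = g} =
      Nat.card {b : GL D.Idx F // b ∈ D.borelSubgroup F ∧ t * b * t⁻¹ = b} *
        ∑ π ∈ h8Wfin D hA, h8cenTerm D χ (Fintype.card F) π := by
  classical
  have : Fintype ↥(h8W D hA) := Fintype.ofFinite _
  rw [Finset.sum_subtype (h8Wfin D hA) (h8Wfin_mem D hA)]
  obtain ⟨dep, par, horb⟩ := hBN.orb
  have hNperm := h8perm_N (F := F) D hB hA dep par horb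
  have hwN : ∀ π : ↥(h8W D hA), (h8nWU D hB (h8wordOf D hA π) : GL D.Idx F) ∈
      D.monomialSubgroup F := fun π => h8nWU_mem_N D hB hA _ (h8wordOf_spec D hA π).1
  have hpermπ : ∀ π : ↥(h8W D hA), h8permOf D hB (h8nWU D hB (h8wordOf D hA π) : GL D.Idx F)
      (hNperm _ (hwN π)) = π.val := by
    intro π
    rw [h8permOf_nWU D hB hA hBN hW hO2 _ (h8wordOf_spec D hA π).1]
    exact (h8wordOf_spec D hA π).2.symm
  let Φ : (Σ π : ↥(h8W D hA), {g : GL D.Idx F //
      g ∈ h8Cell D F (h8nWU D hB (h8wordOf D hA π)) ∧ t * g * t⁻¹ = g}) →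
      {g : GL D.Idx F // g ∈ D.group F ∧ t * g * t⁻¹ = g} := fun p =>
    ⟨p.2.val, ⟨h8Cell_le_group D hB _ (hwN p.1) _ p.2.2.1, p.2.2.2⟩⟩
  have hbij : Function.Bijective Φ := by
    constructor
    · rintro ⟨π, g, hg, hgt⟩ ⟨π', g', hg', hgt'⟩ e
      have e' : g = g' := congrArg Subtype.val e
      subst e'
      have hππ : π = π' := by
        obtain ⟨b1, hb1, b2, hb2, e1⟩ := hg
        obtain ⟨c1, hc1, c2, hc2, e2⟩ := hg'
        have hcell : ∃ b1 ∈ D.borelSubgroup F, ∃ b2 ∈ D.borelSubgroup F,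
            (h8nWU D hB (h8wordOf D hA π) : GL D.Idx F) =
              b1 * h8nWU D hB (h8wordOf D hA π') * b2 := by
          refine ⟨b1⁻¹ * c1, Subgroup.mul_mem _ (Subgroup.inv_mem _ hb1) hc1, c2 * b2⁻¹,
            Subgroup.mul_mem _ hc2 (Subgroup.inv_mem _ hb2), ?_⟩
          have : (h8nWU D hB (h8wordOf D hA π) : GL D.Idx F) =
              b1⁻¹ * (b1 * h8nWU D hB (h8wordOf D hA π) * b2) * b2⁻¹ := by group
          rw [this, ← e1, e2]
          group
        have := (h8cell_iff D hB hA hC hBN hW hO2 _ _ (hwN π) (hwN π') (hNperm _ (hwN π))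
          (hNperm _ (hwN π'))).mp hcell
        rw [hpermπ, hpermπ] at this
        exact Subtype.ext this
      subst hππ
      rfl
    · rintro ⟨g, hg, hgt⟩
      obtain ⟨b, hb, n, hn, b', hb', rfl⟩ := h8bruhat D hB hA hC hBN hW g hg
      obtain ⟨t0, ht0, w, hw, rfl⟩ := h8N_word D hB hA hBN n hn
      have hπW : h8wPerm D hA w ∈ h8W D hA := (h8W_mem_iff D hA _).mpr ⟨w, hw, rfl⟩
      have h1 : h8permOf D hB (t0 * h8nWU D hB w) (hNperm _ hn) = h8wPerm D hA w :=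
        h8permOf_word D hB hA hBN hW hO2 t0 ht0 w hw _
      have hcell := (h8cell_iff D hB hA hC hBN hW hO2 _ _ hn (hwN ⟨_, hπW⟩) (hNperm _ hn)
          (hNperm _ (hwN ⟨_, hπW⟩))).mpr (by rw [h1, hpermπ])
      obtain ⟨c1, hc1, c2, hc2, e⟩ := hcell
      refine ⟨⟨⟨_, hπW⟩, ⟨b * (t0 * h8nWU D hB w) * b', ⟨?_, hgt⟩⟩⟩, rfl⟩
      refine ⟨b * c1, Subgroup.mul_mem _ hb hc1, c2 * b', Subgroup.mul_mem _ hc2 hb', ?_⟩
      rw [e]
      group
  rw [← Nat.card_congr (Equiv.ofBijective _ hbij), Nat.card_sigma, Finset.mul_sum]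
  apply Finset.sum_congr rfl
  intro π _
  have hiff := h8cen_comm_iff D hB hA hBN hW hsc t ht χ hχ _ (hwN π) (hNperm _ (hwN π))
  rw [hpermπ] at hiff
  by_cases hcomm : t * (h8nWU D hB (h8wordOf D hA π) : GL D.Idx F) * t⁻¹ =
      h8nWU D hB (h8wordOf D hA π)
  · rw [h8cen_cell_card D hB hA hC hBN hO hO2 t ht χ hχ _ (hwN π) (hNperm _ (hwN π)) hcomm,
      hpermπ, h8cenTerm_pos D χ _ π.val (hiff.mp hcomm)]
  · rw [h8cenTerm_neg D χ _ π.val (fun h => hcomm (hiff.mpr h)), mul_zero]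
    have hempty : IsEmpty {g : GL D.Idx F //
        g ∈ h8Cell D F (h8nWU D hB (h8wordOf D hA π)) ∧ t * g * t⁻¹ = g} := by
      constructor
      rintro ⟨g, hg, hgt⟩
      exact hcomm (h8cen_cell_empty D hB hA hC hBN hO hO2 t ht χ hχ _ (hwN π)
        (hNperm _ (hwN π)) g hg hgt)
    exact Nat.card_of_isEmpty

end Cfsg.Agent.Lib.helper8
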