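import Mathlib
import Cfsg.Prelude.Def_ChevStructure
import Cfsg.Agent.Lib.helper8.ChevGen
import Cfsg.Agent.Lib.helper8.ChevCommOrb

set_option autoImplicit false

namespace Cfsg.Agent.Lib.helper8

open Cfsg.Lie Cfsg.Lie.ChevalleyDatum

universe u

variable {F : Type u} [Field F]

def h8derStep (D : ChevalleyDatum) (cs : List ℤ) (known : List ℕ) (st : Bool × ℕ × ℕ) :
    Option (List ℕ) :=
  if st.1 then
    (if st.2.1 < D.rank ∧ st.2.2 ∈ known then some (D.reflectRoot st.2.1 st.2.2 :: known)
      else none)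
  else
    (if st.2.1 ∈ known ∧ st.2.2 ∈ known ∧ st.2.2 ≠ st.2.1 ∧ st.2.2 ≠ D.negIdx.getD st.2.1 0 then
      (match D.commTerms st.2.1 st.2.2 with
        | [q] => if q.2.2.1 = 1 ∧ q.2.2.2 = 1 ∧ q.2.1 ∈ cs ∧ q.1 < D.nroots then
            some (q.1 :: known) else none
        | _ => none)
      else none)

def h8der (D : ChevalleyDatum) (cs : List ℤ) : List ℕ → List (Bool × ℕ × ℕ) → Option (List ℕ)
  | known, [] => some known
  | known, st :: L =>
    match h8derStep D cs known st with
    | some k' => h8der D cs k' L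
    | none => none

def h8derChk (D : ChevalleyDatum) (cs : List ℤ) (init : List ℕ) (steps : List (Bool × ℕ × ℕ)) :
    Bool :=
  match h8der D cs init steps with
  | some known => (List.range D.rank).all fun j =>
      decide (D.simple j ∈ known) && decide (D.negIdx.getD (D.simple j) 0 ∈ known)
  | none => false

theorem h8derStep_sound (D : ChevalleyDatum) (hB : H8Base.{u} D) (hA : H8ReflAll D)
    (hC : H8CommAll.{u} D) (cs : List ℤ) (hcs : ∀ c ∈ cs, ((c : ℤ) : F) ≠ 0)
    (M : Subgroup (GL D.Idx F)) (hn : ∀ j < D.rank, h8nU D hB (D.simple j) (1 : F) ∈ M)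
    (known known' : List ℕ) (st : Bool × ℕ × ℕ) (h : h8derStep D cs known st = some known')
    (hk : ∀ r ∈ known, r < D.nroots ∧ ∀ t : F, h8xU D hB r t ∈ M) :
    ∀ r ∈ known', r < D.nroots ∧ ∀ t : F, h8xU D hB r t ∈ M := by
  obtain ⟨b, x, y⟩ := st
  unfold h8derStep at h
  cases b with
  | true =>
    simp only [if_true] at h
    split_ifs at h with hc
    obtain ⟨hj, hy⟩ := hc
    rw [Option.some.injEq] at h
    subst h
    intro r hr
    rw [List.mem_cons] at hr
    rcases hr with rfl | hr
    · obtain ⟨hylt, hyM⟩ := hk y hy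
      obtain ⟨η, hR⟩ := h8reflAll_spec D hA x hj
      refine ⟨hR.lt y hylt, fun t => ?_⟩
      obtain ⟨c, hc, hact⟩ := h8act_nU (F := F) D hB hA x hj y hylt
      have h6 := hact (c⁻¹ * t)
      rw [← mul_assoc, mul_inv_cancel₀ hc, one_mul] at h6
      rw [← h6]
      exact Subgroup.mul_mem _ (Subgroup.mul_mem _ (hn x hj) (hyM _)) (Subgroup.inv_mem _ (hn x hj))
    · exact hk r hr
  | false =>
    simp only [Bool.false_eq_true, if_false] at h
    split_ifs at h with hc
    obtain ⟨hx, hy, hne, hne'⟩ := hc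
    split at h
    · rename_i q hq
      split_ifs at h with hc2
      obtain ⟨h1, h2, hcm, hqlt⟩ := hc2
      rw [Option.some.injEq] at h
      subst h
      intro r hr
      rw [List.mem_cons] at hr
      rcases hr with rfl | hr
      · refine ⟨hqlt, fun t => ?_⟩
        obtain ⟨hxlt, hxM⟩ := hk x hx
        obtain ⟨hylt, hyM⟩ := hk y hy
        have hcomm := hC.all x hxlt y hylt hne hne' F (-(t / ((q.2.1 : ℤ) : F))) 1
        unfold ChevalleyDatum.commWord at hcomm
        rw [hq] at hcomm
        simp only [List.map_cons, List.map_nil, h1, h2, pow_one, mul_one] at hcomm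
        have hc0 := hcs _ hcm
        have e : ((q.2.1 : ℤ) : F) * - -(t / ((q.2.1 : ℤ) : F)) = t := by
          rw [neg_neg]
          field_simp
        rw [e] at hcomm
        have hU : h8xU D hB q.1 t = (h8xU D hB x (-(t / ((q.2.1 : ℤ) : F))) * h8xU D hB y 1)⁻¹ *
            (h8xU D hB y 1 * h8xU D hB x (-(t / ((q.2.1 : ℤ) : F)))) := by
          rw [eq_inv_mul_iff_mul_eq]
          apply Units.ext
          simp only [Units.val_mul, h8xU_val]
          rw [hcomm]
          unfold ChevalleyDatum.wordMat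
          simp only [List.map_cons, List.map_nil, List.prod_cons, List.prod_nil, mul_one]
        rw [hU]
        exact Subgroup.mul_mem _ (Subgroup.inv_mem _ (Subgroup.mul_mem _ (hxM _) (hyM _)))
          (Subgroup.mul_mem _ (hyM _) (hxM _))
      · exact hk r hr
    · exact absurd h (by simp)

theorem h8der_sound (D : ChevalleyDatum) (hB : H8Base.{u} D) (hA : H8ReflAll D)
    (hC : H8CommAll.{u} D) (cs : List ℤ) (hcs : ∀ c ∈ cs, ((c : ℤ) : F) ≠ 0)
    (M : Subgroup (GL D.Idx F)) (hn : ∀ j < D.rank, h8nU D hB (D.simple j) (1 : F) ∈ M) :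
    ∀ (steps : List (Bool × ℕ × ℕ)) (known known' : List ℕ), h8der D cs known steps = some known' →
      (∀ r ∈ known, r < D.nroots ∧ ∀ t : F, h8xU D hB r t ∈ M) →
      ∀ r ∈ known', r < D.nroots ∧ ∀ t : F, h8xU D hB r t ∈ M
  | [], known, known', h, hk => by
    unfold h8der at h
    rw [Option.some.injEq] at h
    subst h
    exact hk
  | st :: L, known, known', h, hk => by
    unfold h8der at h
    split at h
    · rename_i k' hk'
      exact h8der_sound D hB hA hC cs hcs M hn L k' known' h
        (h8derStep_sound D hB hA hC cs hcs M hn known k' st hk' hk)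
    · exact absurd h (by simp)

theorem h8derChk_sound (D : ChevalleyDatum) (hB : H8Base.{u} D) (hA : H8ReflAll D)
    (hC : H8CommAll.{u} D) (hBN : H8BN D) (cs : List ℤ) (hcs : ∀ c ∈ cs, ((c : ℤ) : F) ≠ 0)
    (M : Subgroup (GL D.Idx F)) (hn : ∀ j < D.rank, h8nU D hB (D.simple j) (1 : F) ∈ M)
    (init : List ℕ) (steps : List (Bool × ℕ × ℕ)) (h : h8derChk D cs init steps = true)
    (hk : ∀ r ∈ init, r < D.nroots ∧ ∀ t : F, h8xU D hB r t ∈ M) : D.group F ≤ M := by
  unfold h8derChk at h
  split at h
  · rename_i known hknown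
    have hall := h8der_sound D hB hA hC cs hcs M hn steps init known hknown hk
    simp only [List.all_eq_true, List.mem_range, Bool.and_eq_true, decide_eq_true_eq] at h
    apply h8group_le_of_simple D hB hA hBN M
    · intro j hj t
      exact (hall _ (h j hj).1).2 t
    · intro j hj t
      exact (hall _ (h j hj).2).2 t
  · exact absurd h (by simp)

end Cfsg.Agent.Lib.helper8
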