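import Mathlib
import Cfsg.Prelude.Def_LieTypes
import Cfsg.Prelude.Def_ChevB2
import Cfsg.Agent.Lib.helper8.ChevDer

set_option autoImplicit false

namespace Cfsg.Agent.Lib.helper8

open Cfsg.Lie Cfsg.Lie.ChevalleyDatum

def h8ds16_G2_0 : List (Bool × ℕ × ℕ) := [(true, 0, 7), (true, 1, 4), (true, 0, 3), (false, 2, 3), (true, 1, 0), (true, 0, 1), (true, 1, 5)]

theorem h8der16_G2_0 : h8derChk chevG2 [1, -1, 3, -3] [chevG2.simple 0] h8ds16_G2_0 = true := by decide +kernel

def h8ds16_B2_0 : List (Bool × ℕ × ℕ) := [(true, 0, 5), (true, 1, 2), (false, 1, 2), (true, 0, 0), (true, 1, 3)]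

theorem h8der16_B2_0 : h8derChk chevB2 [1, -1, 2, -2] [chevB2.simple 0] h8ds16_B2_0 = true := by decide +kernel

def h8ds16_D4_0 : List (Bool × ℕ × ℕ) := [(true, 0, 18), (true, 1, 18), (true, 1, 5), (true, 0, 19), (true, 0, 4), (true, 2, 14), (true, 3, 14), (true, 2, 9), (true, 3, 9), (true, 1, 16), (true, 1, 15), (true, 1, 7), (true, 1, 8)]

theorem h8der16_D4_0 : h8derChk chevD4 [1, -1] [chevD4.simple 0] h8ds16_D4_0 = true := by decide +kernel

def h8ds16_D4_1 : List (Bool × ℕ × ℕ) := [(true, 0, 14), (true, 1, 14), (true, 2, 14), (true, 3, 14), (true, 1, 19), (true, 2, 9), (true, 3, 9), (true, 1, 16), (true, 1, 15), (true, 0, 18), (true, 1, 7), (true, 1, 8)]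

theorem h8der16_D4_1 : h8derChk chevD4 [1, -1] [chevD4.simple 1] h8ds16_D4_1 = true := by decide +kernel

def h8ds16_D4_2 : List (Bool × ℕ × ℕ) := [(true, 1, 13), (true, 2, 13), (true, 0, 16), (true, 2, 16), (true, 2, 21), (true, 1, 14), (true, 3, 14), (true, 1, 19), (true, 3, 9), (true, 1, 15), (true, 0, 18), (true, 1, 8)]

theorem h8der16_D4_2 : h8derChk chevD4 [1, -1] [chevD4.simple 2] h8ds16_D4_2 = true := by decide +kernel

def h8ds16_D4_3 : List (Bool × ℕ × ℕ) := [(true, 1, 12), (true, 3, 12), (true, 0, 15), (true, 2, 15), (true, 3, 15), (true, 3, 20), (true, 3, 17), (true, 1, 14), (true, 1, 19), (true, 1, 16), (true, 0, 18), (true, 2, 13)]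

theorem h8der16_D4_3 : h8derChk chevD4 [1, -1] [chevD4.simple 3] h8ds16_D4_3 = true := by decide +kernel

def h8ds16_F4_0 : List (Bool × ℕ × ℕ) := [(true, 0, 33), (true, 1, 33), (true, 1, 14), (true, 0, 34), (true, 0, 13), (true, 2, 13), (true, 2, 20), (true, 1, 12), (true, 3, 19), (true, 3, 10), (true, 2, 9), (true, 1, 8), (true, 0, 7), (false, 3, 18), (true, 3, 0), (true, 2, 1), (true, 1, 2), (true, 0, 4), (true, 2, 15), (true, 1, 16), (true, 2, 21), (true, 3, 21), (true, 3, 23), (true, 2, 22)]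

theorem h8der16_F4_0 : h8derChk chevF4 [1, -1, 2, -2] [chevF4.simple 0] h8ds16_F4_0 = true := by decide +kernel

def h8ds16_F4_1 : List (Bool × ℕ × ℕ) := [(true, 0, 27), (true, 1, 27), (true, 1, 34), (true, 0, 20), (true, 2, 20), (true, 0, 33), (true, 2, 13), (true, 3, 19), (true, 1, 12), (true, 3, 10), (true, 2, 9), (true, 1, 8), (true, 0, 7), (false, 3, 18), (true, 3, 0), (true, 2, 1), (true, 1, 2), (true, 0, 4), (true, 2, 15), (true, 1, 16), (true, 2, 21), (true, 3, 21), (true, 3, 23), (true, 2, 22)]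

theorem h8der16_F4_1 : h8derChk chevF4 [1, -1, 2, -2] [chevF4.simple 1] h8ds16_F4_1 = true := by decide +kernel

def h8ds16_E6_0 : List (Bool × ℕ × ℕ) := [(true, 0, 56), (true, 2, 56), (true, 2, 15), (true, 0, 57), (true, 0, 14), (true, 3, 42), (true, 3, 29), (true, 1, 43), (true, 2, 43), (true, 1, 28), (true, 2, 28), (true, 2, 50), (true, 4, 39), (true, 2, 21), (true, 4, 32), (true, 3, 47), (true, 3, 40), (true, 3, 24), (true, 3, 31), (true, 5, 37), (true, 5, 34), (true, 4, 38), (true, 4, 33)]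

theorem h8der16_E6_0 : h8derChk chevE6 [1, -1] [chevE6.simple 0] h8ds16_E6_0 = true := by decide +kernel

def h8ds16_E6_1 : List (Bool × ℕ × ℕ) := [(true, 1, 46), (true, 3, 46), (true, 3, 25), (true, 1, 47), (true, 1, 24), (true, 2, 39), (true, 4, 39), (true, 2, 32), (true, 4, 32), (true, 0, 43), (true, 3, 43), (true, 3, 40), (true, 0, 28), (true, 3, 28), (true, 3, 31), (true, 3, 58), (true, 5, 37), (true, 3, 13), (true, 5, 34), (true, 2, 57), (true, 4, 38), (true, 2, 14), (true, 4, 33)]

theorem h8der16_E6_1 : h8derChk chevE6 [1, -1] [chevE6.simple 1] h8ds16_E6_1 = true := by decide +kernel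

def h8ds16_E6_2 : List (Bool × ℕ × ℕ) := [(true, 0, 42), (true, 2, 42), (true, 3, 42), (true, 2, 57), (true, 3, 29), (true, 1, 43), (true, 2, 43), (true, 0, 56), (true, 1, 28), (true, 2, 28), (true, 2, 50), (true, 4, 39), (true, 2, 21), (true, 4, 32), (true, 3, 47), (true, 3, 40), (true, 3, 24), (true, 3, 31), (true, 5, 37), (true, 5, 34), (true, 4, 38), (true, 4, 33)]

theorem h8der16_E6_2 : h8derChk chevE6 [1, -1] [chevE6.simple 2] h8ds16_E6_2 = true := by decide +kernel

def h8ds16_E6_3 : List (Bool × ℕ × ℕ) := [(true, 1, 39), (true, 2, 39), (true, 3, 39), (true, 4, 39), (true, 3, 47), (true, 0, 43), (true, 3, 43), (true, 4, 32), (true, 3, 40), (true, 1, 46), (true, 3, 58), (true, 2, 42), (true, 3, 31), (true, 5, 37), (true, 2, 57), (true, 5, 34), (true, 4, 38), (true, 0, 56), (true, 4, 33)]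

theorem h8der16_E6_3 : h8derChk chevE6 [1, -1] [chevE6.simple 3] h8ds16_E6_3 = true := by decide +kernel

def h8ds16_E6_4 : List (Bool × ℕ × ℕ) := [(true, 3, 37), (true, 4, 37), (true, 5, 37), (true, 1, 40), (true, 2, 40), (true, 4, 40), (true, 5, 34), (true, 4, 38), (true, 4, 48), (true, 0, 44), (true, 4, 44), (true, 3, 39), (true, 4, 33), (true, 3, 47), (true, 4, 59), (true, 3, 43), (true, 1, 46), (true, 3, 58), (true, 2, 42), (true, 2, 57), (true, 0, 56)]

theorem h8der16_E6_4 : h8derChk chevE6 [1, -1] [chevE6.simple 4] h8ds16_E6_4 = true := by decide +kernel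

def h8ds16_E6_5 : List (Bool × ℕ × ℕ) := [(true, 4, 36), (true, 5, 36), (true, 3, 38), (true, 5, 38), (true, 1, 41), (true, 2, 41), (true, 5, 41), (true, 4, 37), (true, 5, 49), (true, 0, 45), (true, 5, 45), (true, 4, 40), (true, 4, 48), (true, 5, 60), (true, 4, 44), (true, 3, 39), (true, 3, 47), (true, 4, 59), (true, 3, 43), (true, 1, 46), (true, 3, 58), (true, 2, 42), (true, 2, 57), (true, 0, 56)]

theorem h8der16_E6_5 : h8derChk chevE6 [1, -1] [chevE6.simple 5] h8ds16_E6_5 = true := by decide +kernel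

def h8ds16_E7_0 : List (Bool × ℕ × ℕ) := [(true, 0, 93), (true, 2, 93), (true, 2, 32), (true, 0, 94), (true, 0, 31), (true, 3, 73), (true, 3, 52), (true, 1, 74), (true, 2, 74), (true, 1, 51), (true, 2, 51), (true, 2, 83), (true, 4, 69), (true, 2, 42), (true, 4, 56), (true, 3, 79), (true, 3, 70), (true, 3, 46), (true, 3, 55), (true, 5, 66), (true, 5, 59), (true, 4, 67), (true, 4, 58), (true, 6, 64), (true, 6, 61), (true, 5, 65), (true, 5, 60)]

theorem h8der16_E7_0 : h8derChk chevE7 [1, -1] [chevE7.simple 0] h8ds16_E7_0 = true := by decide +kernel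

def h8ds16_E7_1 : List (Bool × ℕ × ℕ) := [(true, 1, 78), (true, 3, 78), (true, 3, 47), (true, 1, 79), (true, 1, 46), (true, 2, 69), (true, 4, 69), (true, 2, 56), (true, 4, 56), (true, 0, 74), (true, 3, 74), (true, 3, 70), (true, 0, 51), (true, 3, 51), (true, 3, 55), (true, 3, 95), (true, 5, 66), (true, 3, 30), (true, 5, 59), (true, 2, 94), (true, 4, 67), (true, 2, 31), (true, 4, 58), (true, 6, 64), (true, 6, 61), (true, 5, 65), (true, 5, 60)]

theorem h8der16_E7_1 : h8derChk chevE7 [1, -1] [chevE7.simple 1] h8ds16_E7_1 = true := by decide +kernel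

def h8ds16_E7_2 : List (Bool × ℕ × ℕ) := [(true, 0, 73), (true, 2, 73), (true, 3, 73), (true, 2, 94), (true, 3, 52), (true, 1, 74), (true, 2, 74), (true, 0, 93), (true, 1, 51), (true, 2, 51), (true, 2, 83), (true, 4, 69), (true, 2, 42), (true, 4, 56), (true, 3, 79), (true, 3, 70), (true, 3, 46), (true, 3, 55), (true, 5, 66), (true, 5, 59), (true, 4, 67), (true, 4, 58), (true, 6, 64), (true, 6, 61), (true, 5, 65), (true, 5, 60)]

theorem h8der16_E7_2 : h8derChk chevE7 [1, -1] [chevE7.simple 2] h8ds16_E7_2 = true := by decide +kernel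

def h8ds16_E7_3 : List (Bool × ℕ × ℕ) := [(true, 1, 69), (true, 2, 69), (true, 3, 69), (true, 4, 69), (true, 3, 79), (true, 0, 74), (true, 3, 74), (true, 4, 56), (true, 3, 70), (true, 1, 78), (true, 3, 95), (true, 2, 73), (true, 3, 55), (true, 5, 66), (true, 2, 94), (true, 5, 59), (true, 4, 67), (true, 0, 93), (true, 4, 58), (true, 6, 64), (true, 6, 61), (true, 5, 65), (true, 5, 60)]

theorem h8der16_E7_3 : h8derChk chevE7 [1, -1] [chevE7.simple 3] h8ds16_E7_3 = true := by decide +kernel

def h8ds16_E7_4 : List (Bool × ℕ × ℕ) := [(true, 3, 66), (true, 4, 66), (true, 5, 66), (true, 1, 70), (true, 2, 70), (true, 4, 70), (true, 5, 59), (true, 4, 67), (true, 4, 80), (true, 0, 75), (true, 4, 75), (true, 3, 69), (true, 4, 58), (true, 6, 64), (true, 3, 79), (true, 4, 96), (true, 3, 74), (true, 6, 61), (true, 5, 65), (true, 1, 78), (true, 3, 95), (true, 2, 73), (true, 5, 60), (true, 2, 94), (true, 0, 93)]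

theorem h8der16_E7_4 : h8derChk chevE7 [1, -1] [chevE7.simple 4] h8ds16_E7_4 = true := by decide +kernel

def h8ds16_E7_5 : List (Bool × ℕ × ℕ) := [(true, 4, 64), (true, 5, 64), (true, 6, 64), (true, 3, 67), (true, 5, 67), (true, 6, 61), (true, 5, 65), (true, 1, 71), (true, 2, 71), (true, 5, 71), (true, 4, 66), (true, 5, 60), (true, 5, 81), (true, 0, 76), (true, 5, 76), (true, 4, 70), (true, 4, 80), (true, 5, 97), (true, 4, 75), (true, 3, 69), (true, 3, 79), (true, 4, 96), (true, 3, 74), (true, 1, 78), (true, 3, 95), (true, 2, 73), (true, 2, 94), (true, 0, 93)]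

theorem h8der16_E7_5 : h8derChk chevE7 [1, -1] [chevE7.simple 5] h8ds16_E7_5 = true := by decide +kernel

def h8ds16_E7_6 : List (Bool × ℕ × ℕ) := [(true, 5, 63), (true, 6, 63), (true, 4, 65), (true, 6, 65), (true, 3, 68), (true, 6, 68), (true, 5, 64), (true, 1, 72), (true, 2, 72), (true, 6, 72), (true, 5, 67), (true, 6, 82), (true, 0, 77), (true, 6, 77), (true, 5, 71), (true, 4, 66), (true, 5, 81), (true, 6, 98), (true, 5, 76), (true, 4, 70), (true, 4, 80), (true, 5, 97), (true, 4, 75), (true, 3, 69), (true, 3, 79), (true, 4, 96), (true, 3, 74), (true, 1, 78), (true, 3, 95), (true, 2, 73), (true, 2, 94), (true, 0, 93)]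

theorem h8der16_E7_6 : h8derChk chevE7 [1, -1] [chevE7.simple 6] h8ds16_E7_6 = true := by decide +kernel

def h8ds16_E8_0 : List (Bool × ℕ × ℕ) := [(true, 0, 162), (true, 2, 162), (true, 2, 77), (true, 0, 163), (true, 0, 76), (true, 3, 135), (true, 3, 104), (true, 1, 136), (true, 2, 136), (true, 1, 103), (true, 2, 103), (true, 2, 147), (true, 4, 130), (true, 2, 92), (true, 4, 109), (true, 3, 142), (true, 3, 131), (true, 3, 97), (true, 3, 108), (true, 5, 126), (true, 5, 113), (true, 4, 127), (true, 4, 112), (true, 6, 123), (true, 6, 116), (true, 5, 124), (true, 5, 115), (true, 7, 121), (true, 7, 118), (true, 6, 122), (true, 6, 117)]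

theorem h8der16_E8_0 : h8derChk chevE8 [1, -1] [chevE8.simple 0] h8ds16_E8_0 = true := by decide +kernel

def h8ds16_E8_1 : List (Bool × ℕ × ℕ) := [(true, 1, 141), (true, 3, 141), (true, 3, 98), (true, 1, 142), (true, 1, 97), (true, 2, 130), (true, 4, 130), (true, 2, 109), (true, 4, 109), (true, 0, 136), (true, 3, 136), (true, 3, 131), (true, 0, 103), (true, 3, 103), (true, 3, 108), (true, 3, 164), (true, 5, 126), (true, 3, 75), (true, 5, 113), (true, 2, 163), (true, 4, 127), (true, 2, 76), (true, 4, 112), (true, 6, 123), (true, 6, 116), (true, 5, 124), (true, 5, 115), (true, 7, 121), (true, 7, 118), (true, 6, 122), (true, 6, 117)]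

theorem h8der16_E8_1 : h8derChk chevE8 [1, -1] [chevE8.simple 1] h8ds16_E8_1 = true := by decide +kernel

def h8ds16_E8_2 : List (Bool × ℕ × ℕ) := [(true, 0, 135), (true, 2, 135), (true, 3, 135), (true, 2, 163), (true, 3, 104), (true, 1, 136), (true, 2, 136), (true, 0, 162), (true, 1, 103), (true, 2, 103), (true, 2, 147), (true, 4, 130), (true, 2, 92), (true, 4, 109), (true, 3, 142), (true, 3, 131), (true, 3, 97), (true, 3, 108), (true, 5, 126), (true, 5, 113), (true, 4, 127), (true, 4, 112), (true, 6, 123), (true, 6, 116), (true, 5, 124), (true, 5, 115), (true, 7, 121), (true, 7, 118), (true, 6, 122), (true, 6, 117)]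

theorem h8der16_E8_2 : h8derChk chevE8 [1, -1] [chevE8.simple 2] h8ds16_E8_2 = true := by decide +kernel

def h8ds16_E8_3 : List (Bool × ℕ × ℕ) := [(true, 1, 130), (true, 2, 130), (true, 3, 130), (true, 4, 130), (true, 3, 142), (true, 0, 136), (true, 3, 136), (true, 4, 109), (true, 3, 131), (true, 1, 141), (true, 3, 164), (true, 2, 135), (true, 3, 108), (true, 5, 126), (true, 2, 163), (true, 5, 113), (true, 4, 127), (true, 0, 162), (true, 4, 112), (true, 6, 123), (true, 6, 116), (true, 5, 124), (true, 5, 115), (true, 7, 121), (true, 7, 118), (true, 6, 122), (true, 6, 117)]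

theorem h8der16_E8_3 : h8derChk chevE8 [1, -1] [chevE8.simple 3] h8ds16_E8_3 = true := by decide +kernel

def h8ds16_E8_4 : List (Bool × ℕ × ℕ) := [(true, 3, 126), (true, 4, 126), (true, 5, 126), (true, 1, 131), (true, 2, 131), (true, 4, 131), (true, 5, 113), (true, 4, 127), (true, 4, 143), (true, 0, 137), (true, 4, 137), (true, 3, 130), (true, 4, 112), (true, 6, 123), (true, 3, 142), (true, 4, 165), (true, 3, 136), (true, 6, 116), (true, 5, 124), (true, 1, 141), (true, 3, 164), (true, 2, 135), (true, 5, 115), (true, 7, 121), (true, 2, 163), (true, 7, 118), (true, 6, 122), (true, 0, 162), (true, 6, 117)]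

theorem h8der16_E8_4 : h8derChk chevE8 [1, -1] [chevE8.simple 4] h8ds16_E8_4 = true := by decide +kernel

def h8ds16_E8_5 : List (Bool × ℕ × ℕ) := [(true, 4, 123), (true, 5, 123), (true, 6, 123), (true, 3, 127), (true, 5, 127), (true, 6, 116), (true, 5, 124), (true, 1, 132), (true, 2, 132), (true, 5, 132), (true, 4, 126), (true, 5, 115), (true, 7, 121), (true, 5, 144), (true, 0, 138), (true, 5, 138), (true, 4, 131), (true, 7, 118), (true, 6, 122), (true, 4, 143), (true, 5, 166), (true, 4, 137), (true, 3, 130), (true, 6, 117), (true, 3, 142), (true, 4, 165), (true, 3, 136), (true, 1, 141), (true, 3, 164), (true, 2, 135), (true, 2, 163), (true, 0, 162)]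

theorem h8der16_E8_5 : h8derChk chevE8 [1, -1] [chevE8.simple 5] h8ds16_E8_5 = true := by decide +kernel

def h8ds16_E8_6 : List (Bool × ℕ × ℕ) := [(true, 5, 121), (true, 6, 121), (true, 7, 121), (true, 4, 124), (true, 6, 124), (true, 7, 118), (true, 6, 122), (true, 3, 128), (true, 6, 128), (true, 5, 123), (true, 6, 117), (true, 1, 133), (true, 2, 133), (true, 6, 133), (true, 5, 127), (true, 6, 145), (true, 0, 139), (true, 6, 139), (true, 5, 132), (true, 4, 126), (true, 5, 144), (true, 6, 167), (true, 5, 138), (true, 4, 131), (true, 4, 143), (true, 5, 166), (true, 4, 137), (true, 3, 130), (true, 3, 142), (true, 4, 165), (true, 3, 136), (true, 1, 141), (true, 3, 164), (true, 2, 135), (true, 2, 163), (true, 0, 162)]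

theorem h8der16_E8_6 : h8derChk chevE8 [1, -1] [chevE8.simple 6] h8ds16_E8_6 = true := by decide +kernel

def h8ds16_E8_7 : List (Bool × ℕ × ℕ) := [(true, 6, 120), (true, 7, 120), (true, 5, 122), (true, 7, 122), (true, 4, 125), (true, 7, 125), (true, 6, 121), (true, 3, 129), (true, 7, 129), (true, 6, 124), (true, 1, 134), (true, 2, 134), (true, 7, 134), (true, 6, 128), (true, 5, 123), (true, 7, 146), (true, 0, 140), (true, 7, 140), (true, 6, 133), (true, 5, 127), (true, 6, 145), (true, 7, 168), (true, 6, 139), (true, 5, 132), (true, 4, 126), (true, 5, 144), (true, 6, 167), (true, 5, 138), (true, 4, 131), (true, 4, 143), (true, 5, 166), (true, 4, 137), (true, 3, 130), (true, 3, 142), (true, 4, 165), (true, 3, 136), (true, 1, 141), (true, 3, 164), (true, 2, 135), (true, 2, 163), (true, 0, 162)]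

theorem h8der16_E8_7 : h8derChk chevE8 [1, -1] [chevE8.simple 7] h8ds16_E8_7 = true := by decide +kernel

def h8ds17_B2 : List (Bool × ℕ × ℕ) := [(true, 0, 5), (true, 1, 4)]

theorem h8der17_B2 : h8derChk chevB2 [1, -1] [chevB2.simple 0, chevB2.simple 1] h8ds17_B2 = true := by decide +kernel

def h8ds17_F4 : List (Bool × ℕ × ℕ) := [(true, 0, 27), (true, 1, 27), (true, 2, 25), (true, 3, 25), (true, 1, 34), (true, 3, 22), (true, 2, 26), (true, 0, 33), (true, 2, 21)]

theorem h8der17_F4 : h8derChk chevF4 [1, -1] [chevF4.simple 1, chevF4.simple 2] h8ds17_F4 = true := by decide +kernel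

def h8ds17_G2 : List (Bool × ℕ × ℕ) := [(true, 0, 7), (true, 1, 6)]

theorem h8der17_G2 : h8derChk chevG2 [1, -1] [chevG2.simple 0, chevG2.simple 1] h8ds17_G2 = true := by decide +kernel


end Cfsg.Agent.Lib.helper8
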