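import Mathlib
import Cfsg.Prelude.Def_ChevAutomorphisms
import Cfsg.Agent.Lib.helper8.ChevTits3
import Cfsg.Agent.Lib.helper8.ChevBorel

set_option autoImplicit false

namespace Cfsg.Agent.Lib.helper8

open Cfsg.Lie Cfsg.Lie.ChevalleyDatum

universe u

variable {F : Type u} [Field F]

theorem h8_tri_inf_V (D : ChevalleyDatum) (hN : h8NegOK D = true) (g : GL D.Idx F)
    (h1 : H8Tri (h8rho D) 0 (g : Matrix D.Idx D.Idx F)) (hV : g ∈ D.negUnipotent F) : g = 1 := by
  have h2 := h8_negUnipotent_unitri D hN g hV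
  apply Units.ext
  rw [Units.val_one]
  ext i j
  by_cases hij : i = j
  · subst hij
    by_contra hne
    have h3 : ((g : Matrix D.Idx D.Idx F) - 1) i i ≠ 0 := by
      rw [Matrix.sub_apply, Matrix.one_apply_eq]
      intro h0
      apply hne
      rw [Matrix.one_apply_eq]
      exact sub_eq_zero.mp h0
    have := h2 i i h3
    omega
  · rw [Matrix.one_apply_ne hij]
    by_contra hne
    have h3 : ((g : Matrix D.Idx D.Idx F) - 1) i j ≠ 0 := by
      rw [Matrix.sub_apply, Matrix.one_apply_ne hij, sub_zero]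
      exact hne
    have h4 := h2 i j h3
    rw [h8rho'_le_iff] at h4
    have h5 := h1 i j hne
    omega

theorem h8_N_tri_mem_H (D : ChevalleyDatum) (hB : H8Base.{u} D) (hA : H8ReflAll D) (hBN : H8BN D)
    (hW : H8BN2 D) (hO2 : H8Ord2 D) (n : GL D.Idx F) (hn : n ∈ D.monomialSubgroup F)
    (htri : n ∈ h8TriSubgroup (F := F) (h8rho D)) : n ∈ D.diagonalSubgroup F := by
  by_contra hnT
  obtain ⟨i, hi, r', hr', c, hc, hact⟩ := h8N_not_T D hB hA hBN hW hO2 n hn hnT
  have hpi := h8simple_pos D hBN i hi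
  have hnlt : D.negIdx.getD (D.simple i) 0 < D.nroots := hW.neglt _ hpi.1
  have hneg : D.IsNegRoot (D.negIdx.getD (D.simple i) 0) := by
    rcases hB.posneg _ hnlt with hp | hn'
    · have h1 := (h8PosOK_spec hB.posOK hp).1
      have h2 := (h8PosOK_spec hB.posOK hpi).2.1
      omega
    · exact hn'
  have h1 := hact 1
  rw [inv_inv, mul_one] at h1
  have hxtri : h8xU D hB r' c ∈ h8TriSubgroup (F := F) (h8rho D) :=
    h8_U_le_tri D hB (h8xU_mem_U D hB r' hr' c)
  have h2 : h8xU D hB (D.negIdx.getD (D.simple i) 0) (1 : F) = n * h8xU D hB r' c * n⁻¹ := by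
    rw [← h1]
    group
  have h3 : h8xU D hB (D.negIdx.getD (D.simple i) 0) (1 : F) ∈ h8TriSubgroup (F := F) (h8rho D) := by
    rw [h2]
    exact Subgroup.mul_mem _ (Subgroup.mul_mem _ htri hxtri) (Subgroup.inv_mem _ htri)
  have hV : h8xU D hB (D.negIdx.getD (D.simple i) 0) (1 : F) ∈ D.negUnipotent F := by
    unfold ChevalleyDatum.negUnipotent
    apply Subgroup.subset_closure
    exact ⟨_, 1, hneg, h8xU_val D hB _ _⟩
  have h4 := h8_tri_inf_V D hBN.negOK _ h3.1 hV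
  have hx : D.x F (D.negIdx.getD (D.simple i) 0) (1 : F) = 1 := by
    rw [← h8xU_val D hB, h4]
    rfl
  obtain ⟨w, hw⟩ := hW.w0
  obtain ⟨_, _, _, hne⟩ := h8w0Chk_spec D hA w hw
  exact one_ne_zero (h8x_eq_one D (fun s hs => ⟨hW.neglt s hs, hne s hs⟩) _ hnlt (1 : F) hx)

theorem h8_U_diag_eq_one (D : ChevalleyDatum) (hB : H8Base.{u} D) (u : GL D.Idx F)
    (hu : u ∈ D.posUnipotent F) (d : D.Idx → F)
    (hd : (u : Matrix D.Idx D.Idx F) = Matrix.diagonal d) : u = 1 := by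
  have h2 := h8_posUnipotent_unitri D hB.posOK u hu
  apply Units.ext
  rw [Units.val_one]
  ext i j
  by_cases hij : i = j
  · subst hij
    by_contra hne
    have h3 : ((u : Matrix D.Idx D.Idx F) - 1) i i ≠ 0 := by
      rw [Matrix.sub_apply, Matrix.one_apply_eq]
      intro h0
      apply hne
      rw [Matrix.one_apply_eq]
      exact sub_eq_zero.mp h0
    have := h2 i i h3
    omega
  · rw [Matrix.one_apply_ne hij, hd, Matrix.diagonal_apply_ne _ hij]

theorem h8diag_mem_H (D : ChevalleyDatum) (hB : H8Base.{u} D) (hA : H8ReflAll D)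
    (hC : H8CommAll.{u} D) (hBN : H8BN D) (hW : H8BN2 D) (hO2 : H8Ord2 D)
    (g : GL D.Idx F) (hg : g ∈ D.group F) (d d' : D.Idx → F)
    (hd : (g : Matrix D.Idx D.Idx F) = Matrix.diagonal d)
    (hd' : ((g⁻¹ : GL D.Idx F) : Matrix D.Idx D.Idx F) = Matrix.diagonal d') :
    g ∈ D.diagonalSubgroup F := by
  have hgtri : g ∈ h8TriSubgroup (F := F) (h8rho D) := by
    refine ⟨?_, ?_⟩
    · rw [hd]; exact h8tri_diagonal _ _
    · rw [hd']; exact h8tri_diagonal _ _
  obtain ⟨b, hb, n, hn, b', hb', e⟩ := h8bruhat D hB hA hC hBN hW g hg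
  have hn2 : n = b⁻¹ * g * b'⁻¹ := by rw [e]; group
  have hntri : n ∈ h8TriSubgroup (F := F) (h8rho D) := by
    rw [hn2]
    exact Subgroup.mul_mem _ (Subgroup.mul_mem _ (Subgroup.inv_mem _ (h8_B_le_tri D hB hb)) hgtri)
      (Subgroup.inv_mem _ (h8_B_le_tri D hB hb'))
  have hnH := h8_N_tri_mem_H D hB hA hBN hW hO2 n hn hntri
  have hgB : g ∈ D.borelSubgroup F := by
    rw [e]
    exact Subgroup.mul_mem _ (Subgroup.mul_mem _ hb (h8H_le_B D hnH)) hb'
  have hmem : g ∈ ((D.posUnipotent F ⊔ D.diagonalSubgroup F : Subgroup (GL D.Idx F)) :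
      Set (GL D.Idx F)) := hgB
  rw [Subgroup.coe_mul_of_right_le_normalizer_left _ _ (h8_H_le_normalizer_U D hB)] at hmem
  obtain ⟨u, hu, h, hh, rfl⟩ := hmem
  obtain ⟨dh, hdh⟩ := h8_diag_of_mem_H D hB h⁻¹ (Subgroup.inv_mem _ hh)
  have hu1 : u = 1 := by
    apply h8_U_diag_eq_one D hB u hu (fun i => d i * dh i)
    have : u = (u * h) * h⁻¹ := by group
    rw [this, Units.val_mul, hd, hdh, Matrix.diagonal_mul_diagonal]
  rw [hu1]
  show 1 * h ∈ D.diagonalSubgroup F
  rw [one_mul]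
  exact hh

end Cfsg.Agent.Lib.helper8
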