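import Mathlib
import Cfsg.Prelude.Def_ChevStructure
import Cfsg.Prelude.Def_ChevG2
import Cfsg.Agent.Lib.helper8.ChevTI2
import Cfsg.Agent.Lib.helper8.ChevUp

set_option autoImplicit false

namespace Cfsg.Agent.Lib.helper8

open Cfsg.Lie Cfsg.Lie.ChevalleyDatum

/-- position of a coordinate of the adjoint module of type `G₂` -/
def h8gtIdx (x : chevG2.Idx) : ℕ := Sum.elim (fun j => j.val) (fun s => chevG2.rank + s.val) x

/-- the vector over `𝔽₂` with a given bit pattern -/
def h8gtDec (a : ℕ) : chevG2.Idx → ZMod 2 := fun x => if a.testBit (h8gtIdx x) then 1 else 0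

/-- the columns of the matrices `x_r(1)` of type `G₂` over `𝔽₂` as bit patterns -/
def h8gtTab (r : ℕ) : List ℕ :=
  match r with
  | 0 => [1, 6, 4, 8, 16, 32, 64, 128, 264, 512, 1040, 2080, 4224, 8197]
  | 1 => [9, 10, 4, 8, 16, 32, 64, 132, 256, 528, 1024, 2112, 4107, 8448]
  | 2 => [17, 2, 4, 8, 16, 36, 72, 128, 256, 516, 1032, 2066, 4644, 9288]
  | 3 => [33, 34, 4, 8, 20, 32, 68, 128, 340, 640, 1059, 2176, 4096, 10880]
  | 4 => [1, 66, 4, 8, 24, 40, 64, 184, 256, 577, 1280, 2304, 7424, 8192]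
  | 5 => [129, 2, 4, 12, 16, 32, 96, 128, 386, 512, 1536, 2048, 4096, 12288]
  | 6 => [257, 2, 12, 8, 16, 96, 64, 386, 256, 1536, 1024, 2048, 12288, 8192]
  | 7 => [1, 514, 4, 184, 144, 160, 577, 128, 7424, 512, 5120, 6144, 4096, 8192]
  | 8 => [1025, 1026, 340, 8, 272, 1059, 320, 10880, 256, 8704, 1024, 10240, 4096, 8192]
  | 9 => [2049, 2, 4644, 9288, 2066, 4128, 8256, 128, 256, 4608, 9216, 2048, 4096, 8192]
  | 10 => [4097, 4098, 132, 4107, 528, 32, 2112, 128, 8448, 512, 1024, 2048, 4096, 8192]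
  | 11 => [1, 8194, 8197, 264, 1040, 2080, 64, 4224, 256, 512, 1024, 2048, 4096, 8192]
  | _ => []

set_option maxRecDepth 100000 in
theorem h8gtTab_0 : ∀ col row : chevG2.Idx, chevG2.x (ZMod 2) 0 1 row col =
    h8gtDec ((h8gtTab 0).getD (h8gtIdx col) 0) row := by decide +kernel

set_option maxRecDepth 100000 in
theorem h8gtTab_1 : ∀ col row : chevG2.Idx, chevG2.x (ZMod 2) 1 1 row col =
    h8gtDec ((h8gtTab 1).getD (h8gtIdx col) 0) row := by decide +kernel

set_option maxRecDepth 100000 in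
theorem h8gtTab_2 : ∀ col row : chevG2.Idx, chevG2.x (ZMod 2) 2 1 row col =
    h8gtDec ((h8gtTab 2).getD (h8gtIdx col) 0) row := by decide +kernel

set_option maxRecDepth 100000 in
theorem h8gtTab_3 : ∀ col row : chevG2.Idx, chevG2.x (ZMod 2) 3 1 row col =
    h8gtDec ((h8gtTab 3).getD (h8gtIdx col) 0) row := by decide +kernel

set_option maxRecDepth 100000 in
theorem h8gtTab_4 : ∀ col row : chevG2.Idx, chevG2.x (ZMod 2) 4 1 row col =
    h8gtDec ((h8gtTab 4).getD (h8gtIdx col) 0) row := by decide +kernel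

set_option maxRecDepth 100000 in
theorem h8gtTab_5 : ∀ col row : chevG2.Idx, chevG2.x (ZMod 2) 5 1 row col =
    h8gtDec ((h8gtTab 5).getD (h8gtIdx col) 0) row := by decide +kernel

set_option maxRecDepth 100000 in
theorem h8gtTab_6 : ∀ col row : chevG2.Idx, chevG2.x (ZMod 2) 6 1 row col =
    h8gtDec ((h8gtTab 6).getD (h8gtIdx col) 0) row := by decide +kernel

set_option maxRecDepth 100000 in
theorem h8gtTab_7 : ∀ col row : chevG2.Idx, chevG2.x (ZMod 2) 7 1 row col =
    h8gtDec ((h8gtTab 7).getD (h8gtIdx col) 0) row := by decide +kernel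

set_option maxRecDepth 100000 in
theorem h8gtTab_8 : ∀ col row : chevG2.Idx, chevG2.x (ZMod 2) 8 1 row col =
    h8gtDec ((h8gtTab 8).getD (h8gtIdx col) 0) row := by decide +kernel

set_option maxRecDepth 100000 in
theorem h8gtTab_9 : ∀ col row : chevG2.Idx, chevG2.x (ZMod 2) 9 1 row col =
    h8gtDec ((h8gtTab 9).getD (h8gtIdx col) 0) row := by decide +kernel

set_option maxRecDepth 100000 in
theorem h8gtTab_10 : ∀ col row : chevG2.Idx, chevG2.x (ZMod 2) 10 1 row col =
    h8gtDec ((h8gtTab 10).getD (h8gtIdx col) 0) row := by decide +kernel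

set_option maxRecDepth 100000 in
theorem h8gtTab_11 : ∀ col row : chevG2.Idx, chevG2.x (ZMod 2) 11 1 row col =
    h8gtDec ((h8gtTab 11).getD (h8gtIdx col) 0) row := by decide +kernel

theorem h8gtTab_spec : ∀ r < 12, ∀ col row : chevG2.Idx, chevG2.x (ZMod 2) r 1 row col =
    h8gtDec ((h8gtTab r).getD (h8gtIdx col) 0) row := by
  intro r hr
  interval_cases r
  · exact h8gtTab_0
  · exact h8gtTab_1
  · exact h8gtTab_2
  · exact h8gtTab_3
  · exact h8gtTab_4
  · exact h8gtTab_5
  · exact h8gtTab_6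
  · exact h8gtTab_7
  · exact h8gtTab_8
  · exact h8gtTab_9
  · exact h8gtTab_10
  · exact h8gtTab_11

theorem h8gtTab_length : ∀ r < 12, (h8gtTab r).length = 14 := by decide

theorem h8gtDec_xor (a b : ℕ) : h8gtDec (a ^^^ b) = h8gtDec a + h8gtDec b := by
  funext x
  unfold h8gtDec
  rw [Pi.add_apply, Nat.testBit_xor]
  cases a.testBit (h8gtIdx x) <;> cases b.testBit (h8gtIdx x) <;> decide

theorem h8gtDec_zero : h8gtDec 0 = 0 := by
  funext x
  unfold h8gtDec
  rw [Nat.zero_testBit]
  rfl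

theorem h8gtMv_spec (cols : List ℕ) (k a : ℕ) (row : chevG2.Idx) :
    h8gtDec (h8tiMv cols k a) row = ∑ j ∈ Finset.range cols.length,
      (if a.testBit (k + j) then h8gtDec (cols.getD j 0) row else 0) := by
  induction cols generalizing k with
  | nil =>
    unfold h8tiMv
    rw [h8gtDec_zero]
    simp
  | cons c cs ih =>
    unfold h8tiMv
    rw [h8gtDec_xor, Pi.add_apply, ih, List.length_cons, Finset.sum_range_succ', add_comm]
    congr 1
    · apply Finset.sum_congr rfl
      intro j _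
      rw [List.getD_cons_succ, show k + 1 + j = k + (j + 1) by ring]
    · rw [add_zero, List.getD_cons_zero]
      split_ifs
      · rfl
      · rw [h8gtDec_zero]; rfl

theorem h8gt_sum_idx (f : ℕ → ZMod 2) :
    ∑ col : chevG2.Idx, f (h8gtIdx col) = ∑ j ∈ Finset.range 14, f j := by
  have e : (14 : ℕ) = chevG2.rank + chevG2.nroots := by decide
  rw [e, Finset.sum_range_add, ← Fin.sum_univ_eq_sum_range, ← Fin.sum_univ_eq_sum_range]
  unfold ChevalleyDatum.Idx
  rw [Fintype.sum_sum_type]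
  rfl

theorem h8gt_mulVec (M : Matrix chevG2.Idx chevG2.Idx (ZMod 2)) (cols : List ℕ)
    (hlen : cols.length = 14)
    (hM : ∀ col row : chevG2.Idx, M row col = h8gtDec (cols.getD (h8gtIdx col) 0) row) (a : ℕ) :
    M.mulVec (h8gtDec a) = h8gtDec (h8tiMv cols 0 a) := by
  funext row
  rw [h8gtMv_spec, hlen]
  unfold Matrix.mulVec dotProduct
  rw [← h8gt_sum_idx (fun j => if a.testBit (0 + j) then h8gtDec (cols.getD j 0) row else 0)]
  apply Finset.sum_congr rfl
  intro col _
  beta_reduce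
  rw [hM col row, zero_add]
  by_cases h : a.testBit (h8gtIdx col) = true
  · rw [if_pos h]
    have : h8gtDec a col = 1 := by unfold h8gtDec; rw [if_pos h]
    rw [this, mul_one]
  · rw [if_neg h]
    have : h8gtDec a col = 0 := by unfold h8gtDec; rw [if_neg h]
    rw [this, mul_zero]

/-- the action of a word in the elements `x_r(1)` on bit patterns -/
def h8gtAct (w : List ℕ) (a : ℕ) : ℕ := w.foldr (fun r acc => h8tiMv (h8gtTab r) 0 acc) a

variable (hB : H8Base.{0} chevG2)

/-- the element of `GL₁₄(2)` given by a word in the elements `x_r(1)` -/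
def h8gtW (w : List ℕ) : GL chevG2.Idx (ZMod 2) := (w.map fun r => h8xU chevG2 hB r 1).prod

theorem h8gtW_nil : h8gtW hB [] = 1 := rfl

theorem h8gtW_cons (r : ℕ) (w : List ℕ) : h8gtW hB (r :: w) = h8xU chevG2 hB r 1 * h8gtW hB w := by
  unfold h8gtW
  rw [List.map_cons, List.prod_cons]

theorem h8gtW_append (w w' : List ℕ) : h8gtW hB (w ++ w') = h8gtW hB w * h8gtW hB w' := by
  unfold h8gtW
  rw [List.map_append, List.prod_append]

theorem h8gtW_mulVec (w : List ℕ) (hw : ∀ r ∈ w, r < 12) (a : ℕ) :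
    (h8gtW hB w).val.mulVec (h8gtDec a) = h8gtDec (h8gtAct w a) := by
  induction w with
  | nil =>
    rw [h8gtW_nil, Units.val_one, Matrix.one_mulVec]
    rfl
  | cons r w ih =>
    rw [h8gtW_cons, Units.val_mul, ← Matrix.mulVec_mulVec,
      ih (fun s hs => hw s (List.mem_cons_of_mem _ hs)), h8xU_val]
    have hr := hw r List.mem_cons_self
    rw [h8gt_mulVec _ (h8gtTab r) (h8gtTab_length r hr) (h8gtTab_spec r hr)]
    rfl

theorem h8gt_idx_lt (x : chevG2.Idx) : h8gtIdx x < 14 := by
  rcases x with i | s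
  · have := i.2
    have e : chevG2.rank = 2 := by decide
    unfold h8gtIdx
    simp only [Sum.elim_inl]
    omega
  · have := s.2
    have e : chevG2.rank = 2 := by decide
    have e2 : chevG2.nroots = 12 := by decide
    unfold h8gtIdx
    simp only [Sum.elim_inr]
    omega

theorem h8gt_idx_inj (x y : chevG2.Idx) (h : h8gtIdx x = h8gtIdx y) : x = y := by
  have e : chevG2.rank = 2 := by decide
  rcases x with i | s <;> rcases y with j | t
  · unfold h8gtIdx at h
    simp only [Sum.elim_inl] at h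
    rw [Fin.ext h]
  · unfold h8gtIdx at h
    simp only [Sum.elim_inl, Sum.elim_inr] at h
    have := i.2
    omega
  · unfold h8gtIdx at h
    simp only [Sum.elim_inl, Sum.elim_inr] at h
    have := j.2
    omega
  · unfold h8gtIdx at h
    simp only [Sum.elim_inr] at h
    have : s.val = t.val := by omega
    rw [Fin.ext this]

theorem h8gtDec_two_pow (col : chevG2.Idx) :
    h8gtDec (2 ^ h8gtIdx col) = Pi.single col 1 := by
  funext x
  unfold h8gtDec
  rw [Nat.testBit_two_pow]
  by_cases h : x = col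
  · subst h
    simp
  · rw [Pi.single_eq_of_ne h]
    have : h8gtIdx col ≠ h8gtIdx x := fun e => h (h8gt_idx_inj _ _ e.symm)
    simp [this]

/-- two words with the same action on the basis vectors give the same matrix -/
theorem h8gtW_eq (w w' : List ℕ) (hw : ∀ r ∈ w, r < 12) (hw' : ∀ r ∈ w', r < 12)
    (h : ∀ j < 14, h8gtAct w (2 ^ j) = h8gtAct w' (2 ^ j)) : h8gtW hB w = h8gtW hB w' := by
  apply Units.ext
  ext row col
  have h1 := congrFun (h8gtW_mulVec hB w hw (2 ^ h8gtIdx col)) row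
  have h2 := congrFun (h8gtW_mulVec hB w' hw' (2 ^ h8gtIdx col)) row
  rw [h8gtDec_two_pow, Matrix.mulVec_single_one] at h1 h2
  rw [Matrix.col_apply] at h1 h2
  rw [h1, h2, h _ (h8gt_idx_lt col)]

theorem h8gtW_inv (w : List ℕ) : (h8gtW hB w)⁻¹ = h8gtW hB w.reverse := by
  induction w with
  | nil => rw [List.reverse_nil, h8gtW_nil, inv_one]
  | cons r w ih =>
    rw [h8gtW_cons, mul_inv_rev, ih, List.reverse_cons, h8gtW_append, h8gtW_cons, h8gtW_nil,
      mul_one, h8xU_inv]
    have : (-1 : ZMod 2) = 1 := by decide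
    rw [this]

theorem h8gtDec_inj (a b : ℕ) (ha : a < 2 ^ 14) (hb : b < 2 ^ 14) (h : h8gtDec a = h8gtDec b) :
    a = b := by
  apply Nat.eq_of_testBit_eq
  intro k
  by_cases hk : k < 14
  · have hx : ∃ x : chevG2.Idx, h8gtIdx x = k := by
      have e : chevG2.rank = 2 := by decide
      have e2 : chevG2.nroots = 12 := by decide
      by_cases hk4 : k < 2
      · exact ⟨Sum.inl ⟨k, by omega⟩, rfl⟩
      · refine ⟨Sum.inr ⟨k - 2, by omega⟩, ?_⟩
        unfold h8gtIdx
        simp only [Sum.elim_inr]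
        omega
    obtain ⟨x, rfl⟩ := hx
    have := congrFun h x
    unfold h8gtDec at this
    by_cases h1 : a.testBit (h8gtIdx x) = true <;> by_cases h2 : b.testBit (h8gtIdx x) = true
    · rw [h1, h2]
    · rw [if_pos h1, if_neg h2] at this
      exact absurd this (by decide)
    · rw [if_neg h1, if_pos h2] at this
      exact absurd this (by decide)
    · rw [Bool.not_eq_true] at h1 h2
      rw [h1, h2]
  · have h14 : (2 : ℕ) ^ 14 ≤ 2 ^ k := Nat.pow_le_pow_right (by norm_num) (by omega)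
    rw [Nat.testBit_lt_two_pow (lt_of_lt_of_le ha h14),
      Nat.testBit_lt_two_pow (lt_of_lt_of_le hb h14)]

end Cfsg.Agent.Lib.helper8
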