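import Mathlib
import Cfsg.Agent.Lib.helper8.ChevGA1
import Cfsg.Agent.Lib.helper8.ChevPerf
import Cfsg.Agent.Lib.helper8.ChevBN3

set_option autoImplicit false

namespace Cfsg.Agent.Lib.helper8

open Cfsg.Lie Cfsg.Lie.ChevalleyDatum

variable (hB : H8Base.{0} chevG2)

/-- the words of the generators of the commutator subgroup of `G₂(2)` -/
def h8gaS : List (List ℕ) :=
  [[0], [1], [5], [6], [10], [11], [2, 7], [3, 7], [4, 7], [8, 7], [9, 7],
    [7, 2], [7, 3], [7, 4], [7, 8], [7, 9]]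

theorem h8gaS_lt : ∀ w ∈ h8gaS, ∀ r ∈ w, r < 12 := by decide

/-- the subgroup generated by the long root elements and the products of two short root
elements -/
def h8gaN : Subgroup (GL chevG2.Idx (ZMod 2)) :=
  Subgroup.closure {g | ∃ w ∈ h8gaS, g = h8gtW hB w}

theorem h8gaN_mem (w : List ℕ) (hw : w ∈ h8gaS) : h8gtW hB w ∈ h8gaN hB :=
  Subgroup.subset_closure ⟨w, hw, rfl⟩

theorem h8gtW_mem_group (w : List ℕ) : h8gtW hB w ∈ chevG2.group (ZMod 2) := by
  induction w with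
  | nil => rw [h8gtW_nil]; exact Subgroup.one_mem _
  | cons r w ih =>
    rw [h8gtW_cons]
    exact Subgroup.mul_mem _ (h8xU_mem_group chevG2 hB r 1) ih

theorem h8gaN_le : h8gaN hB ≤ chevG2.group (ZMod 2) := by
  unfold h8gaN
  rw [Subgroup.closure_le]
  rintro g ⟨w, -, rfl⟩
  exact h8gtW_mem_group hB w

/-- the word identities used below -/
theorem h8ga_ids :
    (∀ j < 14, h8gtAct [7, 0, 7] (2 ^ j) = h8gtAct [0] (2 ^ j)) ∧
    (∀ j < 14, h8gtAct [7, 1, 7] (2 ^ j) = h8gtAct ([1] ++ [7, 2] ++ [7, 3]) (2 ^ j)) ∧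
    (∀ j < 14, h8gtAct [7, 5, 7] (2 ^ j) = h8gtAct [5] (2 ^ j)) ∧
    (∀ j < 14, h8gtAct [7, 6, 7] (2 ^ j) = h8gtAct ([6] ++ [7, 8] ++ [7, 9]) (2 ^ j)) ∧
    (∀ j < 14, h8gtAct [7, 10, 7] (2 ^ j) = h8gtAct [10] (2 ^ j)) ∧
    (∀ j < 14, h8gtAct [7, 11, 7] (2 ^ j) = h8gtAct [11] (2 ^ j)) := by decide +kernel

theorem h8gtW_three (a b c : ℕ) :
    h8gtW hB [a] * h8gtW hB [b] * h8gtW hB [c] = h8gtW hB [a, b, c] := by
  rw [← h8gtW_append, ← h8gtW_append]; rfl

theorem h8ga_conj7 (w : List ℕ) (hw : w ∈ h8gaS) :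
    h8gtW hB [7] * h8gtW hB w * h8gtW hB [7] ∈ h8gaN hB := by
  have hN := h8gaN_mem hB
  obtain ⟨i0, i1, i5, i6, i10, i11⟩ := h8ga_ids
  have h77 : h8gtW hB [7] * h8gtW hB [7] = 1 := by
    have := h8gtW_inv hB [7]
    rw [List.reverse_singleton] at this
    nth_rewrite 1 [← this]
    exact inv_mul_cancel _
  simp only [h8gaS, List.mem_cons, List.not_mem_nil, or_false] at hw
  rcases hw with rfl | rfl | rfl | rfl | rfl | rfl | rfl | rfl | rfl | rfl | rfl | rfl | rfl |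
    rfl | rfl | rfl
  · rw [h8gtW_three, h8gtW_eq hB [7, 0, 7] [0] (by decide) (by decide) i0]
    exact hN _ (by decide)
  · rw [h8gtW_three, h8gtW_eq hB [7, 1, 7] ([1] ++ [7, 2] ++ [7, 3]) (by decide) (by decide) i1,
      h8gtW_append, h8gtW_append]
    exact Subgroup.mul_mem _ (Subgroup.mul_mem _ (hN _ (by decide)) (hN _ (by decide)))
      (hN _ (by decide))
  · rw [h8gtW_three, h8gtW_eq hB [7, 5, 7] [5] (by decide) (by decide) i5]
    exact hN _ (by decide)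
  · rw [h8gtW_three, h8gtW_eq hB [7, 6, 7] ([6] ++ [7, 8] ++ [7, 9]) (by decide) (by decide) i6,
      h8gtW_append, h8gtW_append]
    exact Subgroup.mul_mem _ (Subgroup.mul_mem _ (hN _ (by decide)) (hN _ (by decide)))
      (hN _ (by decide))
  · rw [h8gtW_three, h8gtW_eq hB [7, 10, 7] [10] (by decide) (by decide) i10]
    exact hN _ (by decide)
  · rw [h8gtW_three, h8gtW_eq hB [7, 11, 7] [11] (by decide) (by decide) i11]
    exact hN _ (by decide)
  all_goals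
    first
    | (have e : ∀ s, h8gtW hB [7] * h8gtW hB [s, 7] * h8gtW hB [7] = h8gtW hB [7, s] := by
        intro s
        have e1 : h8gtW hB [s, 7] = h8gtW hB [s] * h8gtW hB [7] := h8gtW_append hB [s] [7]
        have e2 : h8gtW hB [7, s] = h8gtW hB [7] * h8gtW hB [s] := h8gtW_append hB [7] [s]
        rw [e1, e2, mul_assoc, mul_assoc, h77, mul_one]
       rw [e]
       exact hN _ (by decide))
    | (have e : ∀ s, h8gtW hB [7] * h8gtW hB [7, s] * h8gtW hB [7] = h8gtW hB [s, 7] := by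
        intro s
        have e1 : h8gtW hB [s, 7] = h8gtW hB [s] * h8gtW hB [7] := h8gtW_append hB [s] [7]
        have e2 : h8gtW hB [7, s] = h8gtW hB [7] * h8gtW hB [s] := h8gtW_append hB [7] [s]
        rw [e1, e2, ← mul_assoc, h77, one_mul]
       rw [e]
       exact hN _ (by decide))


theorem h8gtW_sq (r : ℕ) : h8gtW hB [r] * h8gtW hB [r] = 1 := by
  have := h8gtW_inv hB [r]
  rw [List.reverse_singleton] at this
  nth_rewrite 1 [← this]
  exact inv_mul_cancel _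

theorem h8ga_conj7' : ∀ n ∈ h8gaN hB, h8gtW hB [7] * n * (h8gtW hB [7])⁻¹ ∈ h8gaN hB := by
  have hi : (h8gtW hB [7])⁻¹ = h8gtW hB [7] := by
    rw [h8gtW_inv, List.reverse_singleton]
  rw [hi]
  have h77 := h8gtW_sq hB 7
  intro n hn
  unfold h8gaN at hn
  induction hn using Subgroup.closure_induction with
  | mem g hg =>
    obtain ⟨w, hw, rfl⟩ := hg
    exact h8ga_conj7 hB w hw
  | one => rw [mul_one, h77]; exact Subgroup.one_mem _
  | mul a b _ _ iha ihb =>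
    have e : h8gtW hB [7] * (a * b) * h8gtW hB [7] =
        (h8gtW hB [7] * a * h8gtW hB [7]) * (h8gtW hB [7] * b * h8gtW hB [7]) := by
      have : (h8gtW hB [7] * a * h8gtW hB [7]) * (h8gtW hB [7] * b * h8gtW hB [7]) =
          h8gtW hB [7] * a * (h8gtW hB [7] * h8gtW hB [7]) * b * h8gtW hB [7] := by group
      rw [this, h77, mul_one]
      group
    rw [e]
    exact Subgroup.mul_mem _ iha ihb
  | inv a _ iha =>
    have e : h8gtW hB [7] * a⁻¹ * h8gtW hB [7] = (h8gtW hB [7] * a * h8gtW hB [7])⁻¹ := by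
      rw [mul_inv_rev, mul_inv_rev, hi, mul_assoc]
    rw [e]
    exact Subgroup.inv_mem _ iha

/-- every generator of `G₂(2)` is trivial or a root element -/
theorem h8ga_gen (g : GL chevG2.Idx (ZMod 2))
    (hg : ∃ (r : Fin chevG2.nroots) (t : ZMod 2),
      (g : Matrix chevG2.Idx chevG2.Idx (ZMod 2)) = chevG2.xMat (ZMod 2) r t) :
    g = 1 ∨ ∃ r < 12, g = h8gtW hB [r] := by
  obtain ⟨r, t, hg⟩ := hg
  have hg' : g = h8xU chevG2 hB r.val t := by
    apply Units.ext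
    rw [hg, h8xU_val]
    unfold ChevalleyDatum.x
    rw [dif_pos r.2]
  have ht : ∀ t : ZMod 2, t = 0 ∨ t = 1 := by decide
  rcases ht t with rfl | rfl
  · left
    rw [hg', h8xU_zero]
  · right
    refine ⟨r.val, r.2, ?_⟩
    rw [hg', h8gtW_cons, h8gtW_nil, mul_one]

theorem h8ga_step (x : GL chevG2.Idx (ZMod 2)) (r : ℕ) (hr : r < 12)
    (hx : x ∈ h8gaN hB ∨ x * h8gtW hB [7] ∈ h8gaN hB) :
    x * h8gtW hB [r] ∈ h8gaN hB ∨ x * h8gtW hB [r] * h8gtW hB [7] ∈ h8gaN hB := by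
  have hN := h8gaN_mem hB
  have h2 : ∀ a b : ℕ, h8gtW hB [a, b] = h8gtW hB [a] * h8gtW hB [b] := fun a b =>
    h8gtW_append hB [a] [b]
  have hl1 : ∀ r ∈ [0, 1, 5, 6, 10, 11], [r] ∈ h8gaS := by decide
  have hl2 : ∀ r ∈ [2, 3, 4, 8, 9], [r, 7] ∈ h8gaS := by decide
  have hl3 : ∀ r ∈ [2, 3, 4, 8, 9], [7, r] ∈ h8gaS := by decide
  have h77 := h8gtW_sq hB 7
  have hlong : ∀ r < 12, r ∈ [0, 1, 5, 6, 10, 11] ∨ r = 7 ∨ r ∈ [2, 3, 4, 8, 9] := by decide
  rcases hx with hx | hx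
  · rcases hlong r hr with h | rfl | h
    · left
      exact Subgroup.mul_mem _ hx (hN _ (hl1 r h))
    · right
      rw [mul_assoc, h77, mul_one]
      exact hx
    · right
      rw [mul_assoc, ← h2]
      exact Subgroup.mul_mem _ hx (hN _ (hl2 r h))
  · rcases hlong r hr with h | rfl | h
    · right
      have e : x * h8gtW hB [r] * h8gtW hB [7] =
          (x * h8gtW hB [7]) * (h8gtW hB [7] * h8gtW hB [r] * h8gtW hB [7]) := by
        have : (x * h8gtW hB [7]) * (h8gtW hB [7] * h8gtW hB [r] * h8gtW hB [7]) =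
            x * (h8gtW hB [7] * h8gtW hB [7]) * h8gtW hB [r] * h8gtW hB [7] := by group
        rw [this, h77, mul_one]
      rw [e]
      exact Subgroup.mul_mem _ hx (h8ga_conj7 hB [r] (hl1 r h))
    · left
      exact hx
    · left
      have e : x * h8gtW hB [r] = (x * h8gtW hB [7]) * h8gtW hB [7, r] := by
        rw [h2]
        have : x * h8gtW hB [7] * (h8gtW hB [7] * h8gtW hB [r]) =
            x * (h8gtW hB [7] * h8gtW hB [7]) * h8gtW hB [r] := by group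
        rw [this, h77, mul_one]
      rw [e]
      exact Subgroup.mul_mem _ hx (hN _ (hl3 r h))

theorem h8ga_index (g : GL chevG2.Idx (ZMod 2)) (hg : g ∈ chevG2.group (ZMod 2)) :
    g ∈ h8gaN hB ∨ g * h8gtW hB [7] ∈ h8gaN hB := by
  unfold ChevalleyDatum.group at hg
  induction hg using Subgroup.closure_induction_right with
  | one => left; exact Subgroup.one_mem _
  | mul_right x hx y hy ih =>
    rcases h8ga_gen hB y hy with rfl | ⟨r, hr, rfl⟩
    · rw [mul_one]; exact ih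
    · exact h8ga_step hB x r hr ih
  | mul_inv_cancel x hx y hy ih =>
    rcases h8ga_gen hB y hy with rfl | ⟨r, hr, rfl⟩
    · rw [inv_one, mul_one]; exact ih
    · rw [h8gtW_inv, List.reverse_singleton]
      exact h8ga_step hB x r hr ih

theorem h8index_two_comm {Γ : Type*} [Group Γ] (G N : Subgroup Γ) (c : Γ)
    (hcN : ∀ n ∈ N, c * n * c⁻¹ ∈ N) (h : ∀ g ∈ G, g ∈ N ∨ ∃ m ∈ N, g = m * c) :
    ⁅G, G⁆ ≤ N := by
  have hnorm : ∀ g ∈ G, ∀ n : Γ, n ∈ N → g * n * g⁻¹ ∈ N := by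
    intro g hgG n hn
    rcases h g hgG with hg | ⟨m, hm, rfl⟩
    · exact N.mul_mem (N.mul_mem hg hn) (N.inv_mem hg)
    · have e : m * c * n * (m * c)⁻¹ = m * (c * n * c⁻¹) * m⁻¹ := by group
      rw [e]
      exact N.mul_mem (N.mul_mem hm (hcN n hn)) (N.inv_mem hm)
  rw [Subgroup.commutator_le]
  intro g hgG k hkG
  rw [commutatorElement_def]
  rcases h g hgG with hg | ⟨m, hm, hgm⟩
  · have e : g * k * g⁻¹ * k⁻¹ = g * (k * g⁻¹ * k⁻¹) := by group
    rw [e]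
    exact N.mul_mem hg (hnorm k hkG g⁻¹ (N.inv_mem hg))
  · rcases h k hkG with hk | ⟨m', hm', hkm⟩
    · exact N.mul_mem (hnorm g hgG k hk) (N.inv_mem hk)
    · subst hgm
      subst hkm
      have e : m * c * (m' * c) * (m * c)⁻¹ * (m' * c)⁻¹ =
          m * (c * (m' * m⁻¹) * c⁻¹) * m'⁻¹ := by group
      rw [e]
      exact N.mul_mem (N.mul_mem hm (hcN _ (N.mul_mem hm' (N.inv_mem hm)))) (N.inv_mem hm')

theorem h8ga_comm_le : ⁅chevG2.group (ZMod 2), chevG2.group (ZMod 2)⁆ ≤ h8gaN hB := by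
  apply h8index_two_comm _ _ (h8gtW hB [7]) (h8ga_conj7' hB)
  intro g hg
  rcases h8ga_index hB g hg with h | h
  · left; exact h
  · right
    refine ⟨_, h, ?_⟩
    rw [mul_assoc, h8gtW_sq, mul_one]

/-- the generators of `h8gaN` as commutators -/
def h8gaC : List (List ℕ × List ℕ × List ℕ) :=
  [([0], [1], [5]), ([1], [0], [6]), ([5], [0], [10]), ([6], [1], [11]), ([10], [5], [11]),
    ([11], [6], [10]), ([2, 7], [10, 1], [7]), ([3, 7], [2, 9, 2], [7]), ([4, 7], [7, 4], [7]),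
    ([8, 7], [5, 6], [7]), ([9, 7], [3, 8, 3], [7]), ([7, 2], [7], [10, 1]),
    ([7, 3], [7], [2, 9, 2]), ([7, 4], [7], [7, 4]), ([7, 8], [7], [5, 6]),
    ([7, 9], [7], [3, 8, 3])]

theorem h8gaC_ok : ∀ e ∈ h8gaC, (∀ r ∈ e.1, r < 12) ∧ (∀ r ∈ e.2.1, r < 12) ∧
    (∀ r ∈ e.2.2, r < 12) ∧ ∀ j < 14, h8gtAct e.1 (2 ^ j) =
      h8gtAct (e.2.1 ++ e.2.2 ++ e.2.1.reverse ++ e.2.2.reverse) (2 ^ j) := by decide +kernel

theorem h8gaC_fst : h8gaC.map (fun e => e.1) = h8gaS := by decide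

theorem h8ga_le_comm : h8gaN hB ≤ ⁅chevG2.group (ZMod 2), chevG2.group (ZMod 2)⁆ := by
  unfold h8gaN
  rw [Subgroup.closure_le]
  rintro g ⟨w, hw, rfl⟩
  rw [← h8gaC_fst, List.mem_map] at hw
  obtain ⟨e, he, rfl⟩ := hw
  obtain ⟨h1, h2, h3, h4⟩ := h8gaC_ok e he
  have hl : ∀ r ∈ e.2.1 ++ e.2.2 ++ e.2.1.reverse ++ e.2.2.reverse, r < 12 := by
    intro r hr
    simp only [List.mem_append, List.mem_reverse] at hr
    rcases hr with ((hr | hr) | hr) | hr
    · exact h2 r hr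
    · exact h3 r hr
    · exact h2 r hr
    · exact h3 r hr
  rw [h8gtW_eq hB _ _ h1 hl h4, h8gtW_append, h8gtW_append, h8gtW_append, ← h8gtW_inv,
    ← h8gtW_inv]
  exact Subgroup.commutator_mem_commutator (h8gtW_mem_group hB _) (h8gtW_mem_group hB _)

theorem h8ga_comm_eq : ⁅chevG2.group (ZMod 2), chevG2.group (ZMod 2)⁆ = h8gaN hB :=
  le_antisymm (h8ga_comm_le hB) (h8ga_le_comm hB)

end Cfsg.Agent.Lib.helper8
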