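import Mathlib

set_option autoImplicit false

namespace Cfsg.Agent.Lib.helper8

variable {K : Type*} [Field K]

/-- addition of the field with nine elements on codes `a + 3 b` for `a + b ι` -/
def h8f9Add (c d : ℕ) : ℕ := (c % 3 + d % 3) % 3 + 3 * ((c / 3 + d / 3) % 3)

/-- multiplication of the field with nine elements on codes -/
def h8f9Mul (c d : ℕ) : ℕ :=
  ((c % 3) * (d % 3) + 2 * ((c / 3) * (d / 3))) % 3 +
    3 * (((c % 3) * (d / 3) + (c / 3) * (d % 3)) % 3)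

/-- the Frobenius map of the field with nine elements on codes -/
def h8f9Conj (c : ℕ) : ℕ := c % 3 + 3 * ((2 * (c / 3)) % 3)

/-- the element with a given code -/
def h8f9Phi (ι : K) (c : ℕ) : K := ((c % 3 : ℕ) : K) + ((c / 3 : ℕ) : K) * ι

theorem h8f9Add_lt (c d : ℕ) : h8f9Add c d < 9 := by
  unfold h8f9Add; omega

theorem h8f9Mul_lt (c d : ℕ) : h8f9Mul c d < 9 := by
  unfold h8f9Mul; omega

theorem h8f9_cast_mod [CharP K 3] (n : ℕ) : ((n % 3 : ℕ) : K) = (n : K) :=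
  (CharP.cast_eq_mod K 3 n).symm

theorem h8f9_three [CharP K 3] : (3 : K) = 0 := by
  have := CharP.cast_eq_zero K 3
  exact_mod_cast this

theorem h8f9Phi_add [CharP K 3] (ι : K) (c d : ℕ) :
    h8f9Phi ι (h8f9Add c d) = h8f9Phi ι c + h8f9Phi ι d := by
  unfold h8f9Phi h8f9Add
  have e1 : ((c % 3 + d % 3) % 3 + 3 * ((c / 3 + d / 3) % 3)) % 3 = (c % 3 + d % 3) % 3 := by omega
  have e2 : ((c % 3 + d % 3) % 3 + 3 * ((c / 3 + d / 3) % 3)) / 3 = (c / 3 + d / 3) % 3 := by omega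
  rw [e1, e2, h8f9_cast_mod, h8f9_cast_mod, Nat.cast_add, Nat.cast_add]
  ring

theorem h8f9Phi_mul [CharP K 3] (ι : K) (hι : ι * ι = -1) (c d : ℕ) :
    h8f9Phi ι (h8f9Mul c d) = h8f9Phi ι c * h8f9Phi ι d := by
  unfold h8f9Phi h8f9Mul
  have e1 : (((c % 3) * (d % 3) + 2 * ((c / 3) * (d / 3))) % 3 +
      3 * (((c % 3) * (d / 3) + (c / 3) * (d % 3)) % 3)) % 3 =
      ((c % 3) * (d % 3) + 2 * ((c / 3) * (d / 3))) % 3 := by omega
  have e2 : (((c % 3) * (d % 3) + 2 * ((c / 3) * (d / 3))) % 3 +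
      3 * (((c % 3) * (d / 3) + (c / 3) * (d % 3)) % 3)) / 3 =
      ((c % 3) * (d / 3) + (c / 3) * (d % 3)) % 3 := by omega
  rw [e1, e2, h8f9_cast_mod, h8f9_cast_mod]
  push_cast
  have h3 := h8f9_three (K := K)
  linear_combination (-((c / 3 : ℕ) : K) * ((d / 3 : ℕ) : K)) * hι +
    (((c / 3 : ℕ) : K) * ((d / 3 : ℕ) : K)) * h3

theorem h8f9_natCast_cube [CharP K 3] (n : ℕ) : ((n : ℕ) : K) ^ 3 = n := by
  have : ExpChar K 3 := ExpChar.prime Nat.prime_three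
  have := map_natCast (frobenius K 3) n
  rwa [frobenius_def] at this

theorem h8f9Phi_conj [CharP K 3] (ι : K) (hι : ι * ι = -1) (c : ℕ) :
    h8f9Phi ι (h8f9Conj c) = h8f9Phi ι c ^ 3 := by
  unfold h8f9Phi h8f9Conj
  have e1 : (c % 3 + 3 * ((2 * (c / 3)) % 3)) % 3 = c % 3 := by omega
  have e2 : (c % 3 + 3 * ((2 * (c / 3)) % 3)) / 3 = (2 * (c / 3)) % 3 := by omega
  rw [e1, e2, h8f9_cast_mod (2 * (c / 3))]
  have h3 := h8f9_three (K := K)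
  have ha := h8f9_natCast_cube (K := K) (c % 3)
  have hb := h8f9_natCast_cube (K := K) (c / 3)
  push_cast
  have hι3 : ι ^ 3 = -ι := by
    rw [pow_succ, pow_two, hι]; ring
  have : (((c % 3 : ℕ) : K) + ((c / 3 : ℕ) : K) * ι) ^ 3 =
      ((c % 3 : ℕ) : K) ^ 3 + ((c / 3 : ℕ) : K) ^ 3 * ι ^ 3 +
        3 * (((c % 3 : ℕ) : K) ^ 2 * (((c / 3 : ℕ) : K) * ι) +
          ((c % 3 : ℕ) : K) * (((c / 3 : ℕ) : K) * ι) ^ 2) := by ring
  rw [this, ha, hb, hι3, h3]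
  linear_combination (((c / 3 : ℕ) : K) * ι) * h3

theorem h8f9Phi_zero (ι : K) : h8f9Phi ι 0 = 0 := by
  unfold h8f9Phi; simp

theorem h8f9Phi_one (ι : K) : h8f9Phi ι 1 = 1 := by
  unfold h8f9Phi; simp

theorem h8f9Phi_two [CharP K 3] (ι : K) : h8f9Phi ι 2 = -1 := by
  unfold h8f9Phi
  have h3 := h8f9_three (K := K)
  simp
  linear_combination h3

theorem h8f9Phi_neg [CharP K 3] (ι : K) (hι : ι * ι = -1) (c : ℕ) :
    h8f9Phi ι (h8f9Mul 2 c) = - h8f9Phi ι c := by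
  rw [h8f9Phi_mul ι hι, h8f9Phi_two]; ring

theorem h8f9Phi_ne_zero [CharP K 3] (ι : K) (hι : ι * ι = -1) (c : ℕ) (hc : c < 9) (h0 : c ≠ 0) :
    h8f9Phi ι c ≠ 0 := by
  have hinv : ∀ c < 9, c ≠ 0 → ∃ d < 9, h8f9Mul c d = 1 := by decide
  obtain ⟨d, -, hd⟩ := hinv c hc h0
  intro h
  have := h8f9Phi_mul ι hι c d
  rw [hd, h8f9Phi_one, h, zero_mul] at this
  exact one_ne_zero this

theorem h8f9Phi_inj [CharP K 3] (ι : K) (hι : ι * ι = -1) (c d : ℕ) (hc : c < 9) (hd : d < 9)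
    (h : h8f9Phi ι c = h8f9Phi ι d) : c = d := by
  by_contra hne
  have hsub : ∀ c < 9, ∀ d < 9, c ≠ d → h8f9Add c (h8f9Mul 2 d) ≠ 0 := by decide
  have h1 := h8f9Phi_ne_zero ι hι _ (h8f9Add_lt c (h8f9Mul 2 d)) (hsub c hc d hd hne)
  rw [h8f9Phi_add, h8f9Phi_neg ι hι, h, add_neg_cancel] at h1
  exact h1 rfl

end Cfsg.Agent.Lib.helper8
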