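import Mathlib
import Cfsg.Agent.S0279
import Cfsg.Agent.Lib.helper8.ChevGB1

set_option autoImplicit false

namespace Cfsg.Agent.Lib.helper8

open Matrix

variable {K : Type*} [Field K]

/-- the vector of `K³` with a given code -/
def h8f9Vec (ι : K) (v : ℕ) : Fin 3 → K :=
  fun j => h8f9Phi ι (v / 9 ^ j.val % 9)

/-- the matrix with a given list of codes of its entries -/
def h8f9Mat (ι : K) (B : List ℕ) : Matrix (Fin 3) (Fin 3) K :=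
  Matrix.of fun r c => h8f9Phi ι (B.getD (3 * r.val + c.val) 0)

/-- the code of `a x + b y + c z` -/
def h8f9Dot (a b c x y z : ℕ) : ℕ := h8f9Add (h8f9Add (h8f9Mul a x) (h8f9Mul b y)) (h8f9Mul c z)

theorem h8f9Dot_lt (a b c x y z : ℕ) : h8f9Dot a b c x y z < 9 := h8f9Add_lt _ _

theorem h8f9Phi_dot [CharP K 3] (ι : K) (hι : ι * ι = -1) (a b c x y z : ℕ) :
    h8f9Phi ι (h8f9Dot a b c x y z) =
      h8f9Phi ι a * h8f9Phi ι x + h8f9Phi ι b * h8f9Phi ι y + h8f9Phi ι c * h8f9Phi ι z := by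
  unfold h8f9Dot
  rw [h8f9Phi_add, h8f9Phi_add, h8f9Phi_mul ι hι, h8f9Phi_mul ι hι, h8f9Phi_mul ι hι]

/-- the product of a matrix with a vector, on codes -/
def h8f9MV (B : List ℕ) (v : ℕ) : ℕ :=
  h8f9Dot (B.getD 0 0) (B.getD 1 0) (B.getD 2 0) (v % 9) (v / 9 % 9) (v / 81 % 9) +
    9 * h8f9Dot (B.getD 3 0) (B.getD 4 0) (B.getD 5 0) (v % 9) (v / 9 % 9) (v / 81 % 9) +
    81 * h8f9Dot (B.getD 6 0) (B.getD 7 0) (B.getD 8 0) (v % 9) (v / 9 % 9) (v / 81 % 9)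

theorem h8f9_mulVec [CharP K 3] (ι : K) (hι : ι * ι = -1) (B : List ℕ) (v : ℕ) :
    h8f9Mat ι B *ᵥ h8f9Vec ι v = h8f9Vec ι (h8f9MV B v) := by
  have h0 := h8f9Dot_lt (B.getD 0 0) (B.getD 1 0) (B.getD 2 0) (v % 9) (v / 9 % 9) (v / 81 % 9)
  have h1 := h8f9Dot_lt (B.getD 3 0) (B.getD 4 0) (B.getD 5 0) (v % 9) (v / 9 % 9) (v / 81 % 9)
  have h2 := h8f9Dot_lt (B.getD 6 0) (B.getD 7 0) (B.getD 8 0) (v % 9) (v / 9 % 9) (v / 81 % 9)
  funext r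
  have hmv : (h8f9Mat ι B *ᵥ h8f9Vec ι v) r = ∑ c, h8f9Mat ι B r c * h8f9Vec ι v c := rfl
  rw [hmv, Fin.sum_univ_three]
  unfold h8f9Vec h8f9Mat
  simp only [Matrix.of_apply, Fin.val_zero, Fin.val_one, Fin.val_two, pow_zero, pow_one, Nat.div_one,
    add_zero]
  have e9 : (9 : ℕ) ^ 2 = 81 := by norm_num
  rw [e9]
  fin_cases r
  · have e : h8f9MV B v / 9 ^ 0 % 9 =
        h8f9Dot (B.getD 0 0) (B.getD 1 0) (B.getD 2 0) (v % 9) (v / 9 % 9) (v / 81 % 9) := by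
      unfold h8f9MV
      rw [pow_zero, Nat.div_one]
      omega
    show _ = h8f9Phi ι (h8f9MV B v / 9 ^ 0 % 9)
    rw [e, h8f9Phi_dot ι hι]
    rfl
  · have e : h8f9MV B v / 9 ^ 1 % 9 =
        h8f9Dot (B.getD 3 0) (B.getD 4 0) (B.getD 5 0) (v % 9) (v / 9 % 9) (v / 81 % 9) := by
      unfold h8f9MV
      rw [pow_one]
      omega
    show _ = h8f9Phi ι (h8f9MV B v / 9 ^ 1 % 9)
    rw [e, h8f9Phi_dot ι hι]
    rfl
  · have e : h8f9MV B v / 9 ^ 2 % 9 =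
        h8f9Dot (B.getD 6 0) (B.getD 7 0) (B.getD 8 0) (v % 9) (v / 9 % 9) (v / 81 % 9) := by
      unfold h8f9MV
      rw [e9]
      omega
    show _ = h8f9Phi ι (h8f9MV B v / 9 ^ 2 % 9)
    rw [e, h8f9Phi_dot ι hι]
    rfl


/-- the code of the determinant -/
def h8f9Det (B : List ℕ) : ℕ :=
  h8f9Add (h8f9Add (h8f9Add (h8f9Add (h8f9Add
    (h8f9Mul (h8f9Mul (B.getD 0 0) (B.getD 4 0)) (B.getD 8 0))
    (h8f9Mul 2 (h8f9Mul (h8f9Mul (B.getD 0 0) (B.getD 5 0)) (B.getD 7 0))))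
    (h8f9Mul 2 (h8f9Mul (h8f9Mul (B.getD 1 0) (B.getD 3 0)) (B.getD 8 0))))
    (h8f9Mul (h8f9Mul (B.getD 1 0) (B.getD 5 0)) (B.getD 6 0)))
    (h8f9Mul (h8f9Mul (B.getD 2 0) (B.getD 3 0)) (B.getD 7 0)))
    (h8f9Mul 2 (h8f9Mul (h8f9Mul (B.getD 2 0) (B.getD 4 0)) (B.getD 6 0)))

theorem h8f9_det [CharP K 3] (ι : K) (hι : ι * ι = -1) (B : List ℕ) :
    (h8f9Mat ι B).det = h8f9Phi ι (h8f9Det B) := by
  rw [Matrix.det_fin_three]
  unfold h8f9Det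
  simp only [h8f9Phi_add, h8f9Phi_mul ι hι, h8f9Phi_two]
  unfold h8f9Mat
  simp only [Matrix.of_apply, Fin.val_zero, Fin.val_one, Fin.val_two]
  ring

/-- the conditions on the codes for a matrix of the special unitary group -/
def h8f9Ok (B : List ℕ) : Prop :=
  h8f9Det B = 1 ∧ ∀ i j : Fin 3,
    h8f9Dot (B.getD (3 * 0 + i.val) 0) (B.getD (3 * 1 + i.val) 0) (B.getD (3 * 2 + i.val) 0)
      (h8f9Conj (B.getD (3 * 0 + j.val) 0)) (h8f9Conj (B.getD (3 * 1 + j.val) 0))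
      (h8f9Conj (B.getD (3 * 2 + j.val) 0)) = if i = j then 1 else 0

instance (B : List ℕ) : Decidable (h8f9Ok B) := by
  unfold h8f9Ok; infer_instance

theorem h8f9_unitary [CharP K 3] (ι : K) (hι : ι * ι = -1) (σ : K →+* K) (hσ : ∀ x, σ x = x ^ 3)
    (B : List ℕ) (hB : h8f9Ok B) : (h8f9Mat ι B)ᵀ * (h8f9Mat ι B).map σ = 1 := by
  ext i j
  rw [Matrix.mul_apply, Fin.sum_univ_three]
  simp only [Matrix.transpose_apply, Matrix.map_apply, hσ]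
  unfold h8f9Mat
  simp only [Matrix.of_apply, Fin.val_zero, Fin.val_one, Fin.val_two]
  rw [← h8f9Phi_conj ι hι, ← h8f9Phi_conj ι hι, ← h8f9Phi_conj ι hι, ← h8f9Phi_dot ι hι, hB.2 i j,
    Matrix.one_apply]
  split_ifs
  · exact h8f9Phi_one ι
  · exact h8f9Phi_zero ι

/-- the element of the special unitary group with given codes -/
noncomputable def h8f9SU [CharP K 3] (ι : K) (hι : ι * ι = -1) (σ : K →+* K)
    (hσ : ∀ x, σ x = x ^ 3) (B : List ℕ) : ↥(Cfsg.SU 3 K 3) :=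
  if hB : h8f9Ok B then
    ⟨⟨h8f9Mat ι B, by rw [h8f9_det ι hι, hB.1, h8f9Phi_one]⟩,
      (Cfsg.Agent.S0279.mem_SU_iff' σ hσ _).mpr (h8f9_unitary ι hι σ hσ B hB)⟩
  else 1

theorem h8f9SU_val [CharP K 3] (ι : K) (hι : ι * ι = -1) (σ : K →+* K)
    (hσ : ∀ x, σ x = x ^ 3) (B : List ℕ) (hB : h8f9Ok B) :
    (((h8f9SU ι hι σ hσ B : ↥(Cfsg.SU 3 K 3)) : Matrix.SpecialLinearGroup (Fin 3) K) :
      Matrix (Fin 3) (Fin 3) K) = h8f9Mat ι B := by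
  unfold h8f9SU
  rw [dif_pos hB]

end Cfsg.Agent.Lib.helper8
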