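import Mathlib
import Cfsg.Agent.Lib.helper8.ChevGA3

set_option autoImplicit false

namespace Cfsg.Agent.Lib.helper8

open Cfsg.Lie Cfsg.Lie.ChevalleyDatum Matrix

/-- a relation between two sets of `n` points that is respected by two pairs of inverse maps -/
theorem h8rel_inv {α β : Type*} (n : ℕ) (w : ℕ → α) (v : ℕ → β)
    (hw : ∀ i < n, ∀ j < n, w i = w j → i = j)
    (f f' : α → α) (hf : ∀ x, f' (f x) = x) (g g' : β → β) (hg : ∀ y, g' (g y) = y)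
    (h : ∀ k < n, ∃ k' < n, f (w k) = w k' ∧ g (v k) = v k') :
    ∀ k < n, ∃ k' < n, f' (w k) = w k' ∧ g' (v k) = v k' := by
  classical
  choose! τ hτ using h
  let T : Fin n → Fin n := fun k => ⟨τ k.val, (hτ k.val k.2).1⟩
  have hinj : Function.Injective T := by
    intro a b hab
    have h1 : τ a.val = τ b.val := congrArg Fin.val hab
    have h2 : f (w a.val) = f (w b.val) := by
      rw [(hτ a.val a.2).2.1, (hτ b.val b.2).2.1, h1]
    have h3 : w a.val = w b.val := by rw [← hf (w a.val), h2, hf]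
    exact Fin.ext (hw _ a.2 _ b.2 h3)
  have hsurj := Finite.surjective_of_injective hinj
  intro k hk
  obtain ⟨j, hj⟩ := hsurj ⟨k, hk⟩
  have hjk : τ j.val = k := congrArg Fin.val hj
  refine ⟨j.val, j.2, ?_, ?_⟩
  · rw [← hjk, ← (hτ j.val j.2).2.1, hf]
  · rw [← hjk, ← (hτ j.val j.2).2.2, hg]

variable (hB : H8Base.{0} chevG2) {K : Type*} [Field K]

/-- the vectors of the orbit -/
def h8gcW (k : ℕ) : chevG2.Idx → ZMod 2 := h8gtDec (h8gbW.getD k 0)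

/-- the vectors of norm one -/
def h8gcV (ι : K) (k : ℕ) : Fin 3 → K := h8f9Vec ι (h8gbV.getD k 0)

/-- two matrices permute the two sets of `252` vectors in the same way -/
def h8gcRel (ι : K) (g : GL chevG2.Idx (ZMod 2)) (h : Matrix.SpecialLinearGroup (Fin 3) K) :
    Prop :=
  ∀ k < 252, ∃ k' < 252, g.val *ᵥ h8gcW k = h8gcW k' ∧
    (h : Matrix (Fin 3) (Fin 3) K) *ᵥ h8gcV ι k = h8gcV ι k'

theorem h8getD_inj (L : List ℕ) (hL : L.Nodup) (i j : ℕ) (hi : i < L.length) (hj : j < L.length)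
    (h : L.getD i 0 = L.getD j 0) : i = j := by
  rw [List.getD_eq_getElem L 0 hi, List.getD_eq_getElem L 0 hj] at h
  exact (List.Nodup.getElem_inj_iff hL).mp h

theorem h8gcW_inj : ∀ i < 252, ∀ j < 252, h8gcW i = h8gcW j → i = j := by
  intro i hi j hj h
  have := h8gtDec_inj _ _ (h8gbW_lt i hi) (h8gbW_lt j hj) h
  exact h8getD_inj h8gbW h8gbW_nodup i j (by rw [h8gbW_length]; exact hi)
    (by rw [h8gbW_length]; exact hj) this

theorem h8f9Vec_inj [CharP K 3] (ι : K) (hι : ι * ι = -1) (a b : ℕ) (ha : a < 729) (hb : b < 729)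
    (h : h8f9Vec ι a = h8f9Vec ι b) : a = b := by
  have h0 := congrFun h 0
  have h1 := congrFun h 1
  have h2 := congrFun h 2
  unfold h8f9Vec at h0 h1 h2
  have e0 := h8f9Phi_inj ι hι _ _ (Nat.mod_lt _ (by norm_num)) (Nat.mod_lt _ (by norm_num)) h0
  have e1 := h8f9Phi_inj ι hι _ _ (Nat.mod_lt _ (by norm_num)) (Nat.mod_lt _ (by norm_num)) h1
  have e2 := h8f9Phi_inj ι hι _ _ (Nat.mod_lt _ (by norm_num)) (Nat.mod_lt _ (by norm_num)) h2
  simp only [Fin.val_zero, Fin.val_one, Fin.val_two, pow_zero, pow_one, Nat.div_one] at e0 e1 e2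
  have e9 : (9 : ℕ) ^ 2 = 81 := by norm_num
  rw [e9] at e2
  omega

theorem h8gcV_inj [CharP K 3] (ι : K) (hι : ι * ι = -1) :
    ∀ i < 252, ∀ j < 252, h8gcV ι i = h8gcV ι j → i = j := by
  intro i hi j hj h
  have := h8f9Vec_inj ι hι _ _ (h8gbV_lt i hi) (h8gbV_lt j hj) h
  exact h8getD_inj h8gbV h8gbV_nodup i j (by rw [h8gbV_length]; exact hi)
    (by rw [h8gbV_length]; exact hj) this

theorem h8gcRel_one (ι : K) : h8gcRel ι 1 1 := by
  intro k hk
  refine ⟨k, hk, ?_, ?_⟩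
  · rw [Units.val_one, Matrix.one_mulVec]
  · rw [Matrix.SpecialLinearGroup.coe_one, Matrix.one_mulVec]

theorem h8gcRel_mul (ι : K) (g g' : GL chevG2.Idx (ZMod 2))
    (h h' : Matrix.SpecialLinearGroup (Fin 3) K) (h1 : h8gcRel ι g h) (h2 : h8gcRel ι g' h') :
    h8gcRel ι (g * g') (h * h') := by
  intro k hk
  obtain ⟨k1, hk1, e1, e2⟩ := h2 k hk
  obtain ⟨k2, hk2, e3, e4⟩ := h1 k1 hk1
  refine ⟨k2, hk2, ?_, ?_⟩
  · rw [Units.val_mul, ← Matrix.mulVec_mulVec, e1, e3]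
  · rw [Matrix.SpecialLinearGroup.coe_mul, ← Matrix.mulVec_mulVec, e2, e4]

theorem h8gcRel_inv (ι : K) (g : GL chevG2.Idx (ZMod 2))
    (h : Matrix.SpecialLinearGroup (Fin 3) K) (h1 : h8gcRel ι g h) : h8gcRel ι g⁻¹ h⁻¹ := by
  apply h8rel_inv 252 h8gcW (h8gcV ι) h8gcW_inj (fun x => g.val *ᵥ x) (fun x => (g⁻¹).val *ᵥ x)
    _ (fun y => (h : Matrix (Fin 3) (Fin 3) K) *ᵥ y)
    (fun y => ((h⁻¹ : Matrix.SpecialLinearGroup (Fin 3) K) : Matrix (Fin 3) (Fin 3) K) *ᵥ y) _ h1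
  · intro x
    show (g⁻¹).val *ᵥ (g.val *ᵥ x) = x
    rw [Matrix.mulVec_mulVec, ← Units.val_mul, inv_mul_cancel, Units.val_one, Matrix.one_mulVec]
  · intro y
    show ((h⁻¹ : Matrix.SpecialLinearGroup (Fin 3) K) : Matrix (Fin 3) (Fin 3) K) *ᵥ
      ((h : Matrix (Fin 3) (Fin 3) K) *ᵥ y) = y
    rw [Matrix.mulVec_mulVec, ← Matrix.SpecialLinearGroup.coe_mul, inv_mul_cancel,
      Matrix.SpecialLinearGroup.coe_one, Matrix.one_mulVec]


variable [CharP K 3] (ι : K) (hι : ι * ι = -1) (σ : K →+* K) (hσ : ∀ x, σ x = x ^ 3)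

/-- the generators of the graph of the isomorphism -/
noncomputable def h8gcGen (i : ℕ) : GL chevG2.Idx (ZMod 2) × ↥(Cfsg.SU 3 K 3) :=
  (h8gtW hB (h8gaS.getD i []), h8f9SU ι hι σ hσ (h8gbB i))

/-- the graph of the isomorphism -/
noncomputable def h8gcGam : Subgroup (GL chevG2.Idx (ZMod 2) × ↥(Cfsg.SU 3 K 3)) :=
  Subgroup.closure {p | ∃ i < 16, p = h8gcGen hB ι hι σ hσ i}

theorem h8gaS_getD_lt : ∀ i < 16, ∀ r ∈ h8gaS.getD i [], r < 12 := by decide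

theorem h8gcGen_rel (i : ℕ) (hi : i < 16) :
    h8gcRel ι (h8gcGen hB ι hι σ hσ i).1
      ((h8gcGen hB ι hι σ hσ i).2 : Matrix.SpecialLinearGroup (Fin 3) K) := by
  intro k hk
  obtain ⟨h1, h2, h3⟩ := h8gb_chk' i k hi hk
  refine ⟨_, h1, ?_, ?_⟩
  · unfold h8gcGen h8gcW
    show (h8gtW hB (h8gaS.getD i [])).val *ᵥ _ = _
    rw [h8gtW_mulVec hB _ (h8gaS_getD_lt i hi), h2]
  · unfold h8gcGen h8gcV
    show ((h8f9SU ι hι σ hσ (h8gbB i) : ↥(Cfsg.SU 3 K 3)) : Matrix.SpecialLinearGroup (Fin 3) K).val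
      *ᵥ _ = _
    rw [h8f9SU_val ι hι σ hσ _ (h8gbB_ok i hi), h8f9_mulVec ι hι, h3]

theorem h8gc_rel (p : GL chevG2.Idx (ZMod 2) × ↥(Cfsg.SU 3 K 3))
    (hp : p ∈ h8gcGam hB ι hι σ hσ) :
    h8gcRel ι p.1 (p.2 : Matrix.SpecialLinearGroup (Fin 3) K) := by
  unfold h8gcGam at hp
  induction hp using Subgroup.closure_induction with
  | mem p hp =>
    obtain ⟨i, hi, rfl⟩ := hp
    exact h8gcGen_rel hB ι hι σ hσ i hi
  | one => exact h8gcRel_one ι
  | mul a b _ _ iha ihb => exact h8gcRel_mul ι _ _ _ _ iha ihb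
  | inv a _ iha => exact h8gcRel_inv ι _ _ iha

theorem h8gbV_unit : h8gbV.getD 48 0 = 1 ∧ h8gbV.getD 169 0 = 9 ∧ h8gbV.getD 51 0 = 81 := by
  decide +kernel

omit [CharP K 3] in
theorem h8f9Vec_unit (ι : K) : h8f9Vec ι 1 = Pi.single 0 1 ∧ h8f9Vec ι 9 = Pi.single 1 1 ∧
    h8f9Vec ι 81 = Pi.single 2 1 := by
  refine ⟨?_, ?_, ?_⟩
  all_goals
    funext j
    unfold h8f9Vec
    fin_cases j <;> simp [h8f9Phi]

/-- the first projection is injective on the graph -/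
theorem h8gc_inj1 (p : GL chevG2.Idx (ZMod 2) × ↥(Cfsg.SU 3 K 3))
    (hp : p ∈ h8gcGam hB ι hι σ hσ) (h1 : p.1 = 1) : p.2 = 1 := by
  have hr := h8gc_rel hB ι hι σ hσ p hp
  rw [h1] at hr
  have hfix : ∀ k < 252, ((p.2 : Matrix.SpecialLinearGroup (Fin 3) K) :
      Matrix (Fin 3) (Fin 3) K) *ᵥ h8gcV ι k = h8gcV ι k := by
    intro k hk
    obtain ⟨k', hk', e1, e2⟩ := hr k hk
    rw [Units.val_one, Matrix.one_mulVec] at e1
    rw [← h8gcW_inj k hk k' hk' e1] at e2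
    exact e2
  obtain ⟨u1, u2, u3⟩ := h8gbV_unit
  obtain ⟨v1, v2, v3⟩ := h8f9Vec_unit ι
  have c0 := hfix 48 (by norm_num)
  have c1 := hfix 169 (by norm_num)
  have c2 := hfix 51 (by norm_num)
  unfold h8gcV at c0 c1 c2
  rw [u1, v1, Matrix.mulVec_single_one] at c0
  rw [u2, v2, Matrix.mulVec_single_one] at c1
  rw [u3, v3, Matrix.mulVec_single_one] at c2
  have hc : ∀ c : Fin 3, ((p.2 : Matrix.SpecialLinearGroup (Fin 3) K) :
      Matrix (Fin 3) (Fin 3) K).col c = Pi.single c 1 := by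
    intro c
    fin_cases c
    · exact c0
    · exact c1
    · exact c2
  have hM : ((p.2 : Matrix.SpecialLinearGroup (Fin 3) K) : Matrix (Fin 3) (Fin 3) K) = 1 := by
    ext r c
    have := congrFun (hc c) r
    rw [Matrix.col_apply] at this
    rw [this, Matrix.one_apply, Pi.single_apply]
  apply Subtype.ext
  rw [Subgroup.coe_one]
  apply Subtype.ext
  rw [hM]
  rfl

/-- the basis vectors as sums of vectors of the orbit -/
def h8gcComb : List (List ℕ) :=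
  [[2, 6, 10, 12, 13], [2, 4, 5, 6, 10], [0, 1], [4, 5], [0, 2, 4, 6, 8, 10], [4, 6, 8, 10],
    [0, 2, 8, 10], [2, 5, 6, 8, 10], [1, 2, 6, 8, 10], [4, 6, 8, 10, 12, 16], [0, 2, 4, 12, 20],
    [0, 2, 4, 12, 52], [0, 1, 4, 6, 8, 10, 12], [0, 2, 4, 5, 8, 10, 92]]

theorem h8gcComb_ok : ∀ j < 14, (∀ k ∈ h8gcComb.getD j [], k < 252) ∧
    ((h8gcComb.getD j []).map fun k => h8gbW.getD k 0).foldr (· ^^^ ·) 0 = 2 ^ j := by
  decide +kernel

theorem h8gc_fix_xor (M : Matrix chevG2.Idx chevG2.Idx (ZMod 2)) (L : List ℕ)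
    (h : ∀ a ∈ L, M *ᵥ h8gtDec a = h8gtDec a) :
    M *ᵥ h8gtDec (L.foldr (· ^^^ ·) 0) = h8gtDec (L.foldr (· ^^^ ·) 0) := by
  induction L with
  | nil =>
    rw [List.foldr_nil, h8gtDec_zero, Matrix.mulVec_zero]
  | cons a L ih =>
    rw [List.foldr_cons, h8gtDec_xor, Matrix.mulVec_add, h a List.mem_cons_self,
      ih (fun b hb => h b (List.mem_cons_of_mem _ hb))]

/-- the second projection is injective on the graph -/
theorem h8gc_inj2 (p : GL chevG2.Idx (ZMod 2) × ↥(Cfsg.SU 3 K 3))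
    (hp : p ∈ h8gcGam hB ι hι σ hσ) (h2 : p.2 = 1) : p.1 = 1 := by
  have hr := h8gc_rel hB ι hι σ hσ p hp
  rw [h2] at hr
  have hfix : ∀ k < 252, p.1.val *ᵥ h8gcW k = h8gcW k := by
    intro k hk
    obtain ⟨k', hk', e1, e2⟩ := hr k hk
    rw [Subgroup.coe_one, Matrix.SpecialLinearGroup.coe_one, Matrix.one_mulVec] at e2
    rw [← h8gcV_inj ι hι k hk k' hk' e2] at e1
    exact e1
  apply Units.ext
  ext row col
  obtain ⟨hc1, hc2⟩ := h8gcComb_ok _ (h8gt_idx_lt col)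
  have := h8gc_fix_xor p.1.val ((h8gcComb.getD (h8gtIdx col) []).map fun k => h8gbW.getD k 0)
    (by
      intro a ha
      rw [List.mem_map] at ha
      obtain ⟨k, hk, rfl⟩ := ha
      exact hfix k (hc1 k hk))
  rw [hc2, h8gtDec_two_pow, Matrix.mulVec_single_one] at this
  have := congrFun this row
  rw [Matrix.col_apply] at this
  rw [this, Units.val_one, Matrix.one_apply, Pi.single_apply]

end Cfsg.Agent.Lib.helper8
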