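import Mathlib
import Cfsg.Agent.S1059
import Cfsg.Agent.S0279
import Cfsg.Agent.Lib.helper8.ChevGC1
import Cfsg.Agent.Lib.helper8.ChevB2S6

set_option autoImplicit false

namespace Cfsg.Agent.Lib.helper8

open Cfsg.Lie Cfsg.Lie.ChevalleyDatum Matrix

theorem h8commutator_equiv {A B : Type*} [Group A] [Group B] (e : A ≃* B) :
    Nonempty (↥(commutator A) ≃* ↥(commutator B)) := by
  have h : (commutator A).map e.toMonoidHom = commutator B := by
    rw [commutator_def, Subgroup.map_commutator, commutator_def,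
      Subgroup.map_top_of_surjective _ e.surjective]
  exact ⟨(e.subgroupMap (commutator A)).trans (MulEquiv.subgroupCongr h)⟩

theorem h8commutator_subgroup {Γ : Type*} [Group Γ] (G : Subgroup Γ) :
    Nonempty (↥(commutator ↥G) ≃* ↥⁅G, G⁆) := by
  have h : (commutator ↥G).map G.subtype = ⁅G, G⁆ := by
    rw [commutator_def, Subgroup.map_commutator, ← MonoidHom.range_eq_map, Subgroup.range_subtype]
  exact ⟨((commutator ↥G).equivMapOfInjective G.subtype Subtype.coe_injective).trans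
    (MulEquiv.subgroupCongr h)⟩

theorem h8char_three {K : Type*} [Field K] [Fintype K] (hK : Fintype.card K = 9) : CharP K 3 := by
  obtain ⟨p, hp⟩ := CharP.exists K
  obtain ⟨n, hprime, hcard⟩ := FiniteField.card K p
  rw [hK] at hcard
  have hdvd : p ∣ 3 ^ 2 := by
    have : p ∣ 9 := by rw [hcard]; exact dvd_pow_self p n.ne_zero
    exact this
  have h3 : p ∣ 3 := hprime.dvd_of_dvd_pow hdvd
  have : p = 3 := (Nat.prime_dvd_prime_iff_eq hprime Nat.prime_three).mp h3
  subst this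
  exact hp

theorem h8su33_card {K : Type*} [Field K] [Fintype K] (hK : Fintype.card K = 9) :
    Nat.card ↥(Cfsg.SU 3 K 3) = 6048 := by
  have h := Cfsg.Agent.S0278.result (F := K) (q := 3) (by rw [hK]; norm_num) 3 (by norm_num)
  have e : (∏ i ∈ Finset.range 3, (if Even i then 3 ^ (i + 1) + 1 else 3 ^ (i + 1) - 1)) =
      4 * 8 * 28 := by decide
  rw [e] at h
  norm_num at h
  omega

theorem h8su33_center {K : Type*} [Field K] [Fintype K] (hK : Fintype.card K = 9) :
    Subgroup.center ↥(Cfsg.SU 3 K 3) = ⊥ := by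
  have h := Cfsg.Agent.S0279.result (F := K) (q := 3) (by rw [hK]; norm_num) 3 (le_refl 3)
  have e : Nat.gcd 3 (3 + 1) = 1 := by decide
  rw [e] at h
  exact Subgroup.card_eq_one.mp h

variable (hB : H8Base.{0} chevG2)

theorem h8ga_card_ge : 6048 ≤ Nat.card ↥(h8gaN hB) := by
  have hG : Nat.card ↥(chevG2.group (ZMod 2)) = 12096 := by
    have := Cfsg.Agent.S1059.result (F := ZMod 2) (q := 2) (by decide)
    rw [this]
    norm_num
  have hsub : (chevG2.group (ZMod 2) : Set (GL chevG2.Idx (ZMod 2))) ⊆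
      (h8gaN hB : Set (GL chevG2.Idx (ZMod 2))) ∪
        (fun x => x * h8gtW hB [7]) '' (h8gaN hB : Set (GL chevG2.Idx (ZMod 2))) := by
    intro g hg
    rcases h8ga_index hB g hg with h | h
    · left; exact h
    · right
      refine ⟨_, h, ?_⟩
      show g * h8gtW hB [7] * h8gtW hB [7] = g
      rw [mul_assoc, h8gtW_sq, mul_one]
  have h1 := Set.ncard_le_ncard hsub (Set.toFinite _)
  have h2 := Set.ncard_union_le (h8gaN hB : Set (GL chevG2.Idx (ZMod 2)))
    ((fun x => x * h8gtW hB [7]) '' (h8gaN hB : Set (GL chevG2.Idx (ZMod 2))))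
  have h3 := Set.ncard_image_le (f := fun x => x * h8gtW hB [7])
    (s := (h8gaN hB : Set (GL chevG2.Idx (ZMod 2)))) (Set.toFinite _)
  have e1 : Nat.card ↥(chevG2.group (ZMod 2)) =
      (chevG2.group (ZMod 2) : Set (GL chevG2.Idx (ZMod 2))).ncard := rfl
  have e2 : Nat.card ↥(h8gaN hB) = (h8gaN hB : Set (GL chevG2.Idx (ZMod 2))).ncard := rfl
  omega

theorem h8gaS_idx : (∀ w ∈ h8gaS, ∃ i < 16, w = h8gaS.getD i []) ∧
    ∀ i < 16, h8gaS.getD i [] ∈ h8gaS := by decide

/-- `G₂(2)'` is isomorphic to `PSU₃(3)` -/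
theorem h8g2_iso_main {K : Type*} [Field K] [Fintype K] (hK : Fintype.card K = 9) :
    Nonempty (↥(commutator ↥(chevG2.group (ZMod 2))) ≃* Cfsg.PSU 3 K 3) := by
  have hD : chevG2 ∈ [chevG2, chevB2, chevD4, chevF4, chevE6, chevE7, chevE8] := by simp
  have hB := h8base_all.{0} chevG2 hD
  have : CharP K 3 := h8char_three hK
  obtain ⟨ι, hι'⟩ : IsSquare (-1 : K) := by
    rw [FiniteField.isSquare_neg_one_iff, hK]
    norm_num
  have hι : ι * ι = -1 := hι'.symm
  obtain ⟨σ, hσ⟩ := Cfsg.Agent.Lib.Lead.exists_frob (F := K) (q := 3) (by rw [hK]; norm_num)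
  let f1 : ↥(h8gcGam hB ι hι σ hσ) →* GL chevG2.Idx (ZMod 2) :=
    (MonoidHom.fst _ _).comp (h8gcGam hB ι hι σ hσ).subtype
  let f2 : ↥(h8gcGam hB ι hι σ hσ) →* ↥(Cfsg.SU 3 K 3) :=
    (MonoidHom.snd _ _).comp (h8gcGam hB ι hι σ hσ).subtype
  have hf1 : Function.Injective f1 := by
    rw [injective_iff_map_eq_one]
    intro p hp
    apply Subtype.ext
    apply Prod.ext
    · exact hp
    · exact h8gc_inj1 hB ι hι σ hσ p.1 p.2 hp
  have hf2 : Function.Injective f2 := by
    rw [injective_iff_map_eq_one]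
    intro p hp
    apply Subtype.ext
    apply Prod.ext
    · exact h8gc_inj2 hB ι hι σ hσ p.1 p.2 hp
    · exact hp
  have hr1 : f1.range = h8gaN hB := by
    apply le_antisymm
    · rintro g ⟨p, rfl⟩
      have hle : h8gcGam hB ι hι σ hσ ≤ (h8gaN hB).comap (MonoidHom.fst _ _) := by
        unfold h8gcGam
        rw [Subgroup.closure_le]
        rintro q ⟨i, hi, rfl⟩
        exact h8gaN_mem hB _ (h8gaS_idx.2 i hi)
      exact hle p.2
    · unfold h8gaN
      rw [Subgroup.closure_le]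
      rintro g ⟨w, hw, rfl⟩
      obtain ⟨i, hi, rfl⟩ := h8gaS_idx.1 w hw
      exact ⟨⟨h8gcGen hB ι hι σ hσ i, Subgroup.subset_closure ⟨i, hi, rfl⟩⟩, rfl⟩
  have c1 : Nat.card ↥(h8gcGam hB ι hι σ hσ) = Nat.card ↥(h8gaN hB) := by
    rw [← hr1]
    exact Nat.card_congr (MonoidHom.ofInjective hf1).toEquiv
  have c2 := h8ga_card_ge hB
  have c3 := h8su33_card hK
  have hf2b : Function.Bijective f2 := by
    apply Function.Injective.bijective_of_nat_card_le hf2
    rw [c3, c1]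
    exact c2
  let e2 : ↥(h8gcGam hB ι hι σ hσ) ≃* ↥(Cfsg.SU 3 K 3) := MulEquiv.ofBijective f2 hf2b
  let e1 : ↥(h8gcGam hB ι hι σ hσ) ≃* ↥(h8gaN hB) :=
    (MonoidHom.ofInjective hf1).trans (MulEquiv.subgroupCongr hr1)
  obtain ⟨e0⟩ := h8commutator_subgroup (chevG2.group (ZMod 2))
  let e3 : ↥⁅chevG2.group (ZMod 2), chevG2.group (ZMod 2)⁆ ≃* ↥(h8gaN hB) :=
    MulEquiv.subgroupCongr (h8ga_comm_eq hB)
  have hc := h8su33_center hK
  let e4 : ↥(Cfsg.SU 3 K 3) ≃* Cfsg.PSU 3 K 3 :=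
    (QuotientGroup.quotientBot).symm.trans (QuotientGroup.quotientMulEquivOfEq hc.symm)
  exact ⟨e0.trans (e3.trans (e1.symm.trans (e2.trans e4)))⟩

end Cfsg.Agent.Lib.helper8
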