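import Mathlib
import Cfsg.Prelude.Def_ChevStructure
import Cfsg.Agent.Lib.helper8.ChevTits4

set_option autoImplicit false

namespace Cfsg.Agent.Lib.helper8

open Cfsg.Lie Cfsg.Lie.ChevalleyDatum

universe u

variable {F : Type u} [Field F]

/-- a normal subgroup of a Chevalley group is trivial or supplements the Borel subgroup -/
theorem h8tits_dich (D : ChevalleyDatum) (hB : H8Base.{u} D) (hA : H8ReflAll D)
    (hC : H8CommAll.{u} D) (hBN : H8BN D) (hW : H8BN2 D) (hO2 : H8Ord2 D) (hT : H8Tits D)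
    (K : Subgroup ↥(D.group F)) (hKn : K.Normal) :
    K = ⊥ ∨ ∀ g : ↥(D.group F), ∃ k ∈ K, ∃ b : ↥(D.group F),
      (b : GL D.Idx F) ∈ D.borelSubgroup F ∧ g = k * b := by
  obtain ⟨es, htree⟩ := hT.tree
  obtain ⟨w0, hw0⟩ := hW.w0
  have hBG := h8_B_le_group (F := F) D hB
  have hNG := h8_N_le_group (F := F) D hB
  have hK0G : K.map (D.group F).subtype ≤ D.group F := by
    rintro x ⟨y, _, rfl⟩
    exact y.2
  have hK0mem : ∀ x : GL D.Idx F, x ∈ K.map (D.group F).subtype ↔
      ∃ hx : x ∈ D.group F, (⟨x, hx⟩ : ↥(D.group F)) ∈ K := by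
    intro x
    constructor
    · rintro ⟨y, hy, rfl⟩
      exact ⟨y.2, hy⟩
    · rintro ⟨hx, hy⟩
      exact ⟨⟨x, hx⟩, hy, rfl⟩
  have hKnorm : ∀ g ∈ D.group F, ∀ k ∈ K.map (D.group F).subtype,
      g * k * g⁻¹ ∈ K.map (D.group F).subtype := by
    intro g hg k hk
    obtain ⟨hkG, hkK⟩ := (hK0mem k).mp hk
    rw [hK0mem]
    refine ⟨Subgroup.mul_mem _ (Subgroup.mul_mem _ hg hkG) (Subgroup.inv_mem _ hg), ?_⟩
    exact hKn.conj_mem ⟨k, hkG⟩ hkK ⟨g, hg⟩
  have hBnormK : D.borelSubgroup F ≤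
      Subgroup.normalizer (K.map (D.group F).subtype : Set (GL D.Idx F)) := by
    intro b hb
    rw [Subgroup.mem_normalizer_iff]
    intro k
    constructor
    · intro hk
      exact hKnorm b (hBG hb) k hk
    · intro hk
      have := hKnorm b⁻¹ (Subgroup.inv_mem _ (hBG hb)) _ hk
      have e : b⁻¹ * (b * k * b⁻¹) * b⁻¹⁻¹ = k := by group
      rwa [e] at this
  have hPKB : ∀ x ∈ K.map (D.group F).subtype ⊔ D.borelSubgroup F,
      ∃ k ∈ K.map (D.group F).subtype, ∃ b ∈ D.borelSubgroup F, x = k * b := by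
    intro x hx
    have hx' : x ∈ ((K.map (D.group F).subtype ⊔ D.borelSubgroup F : Subgroup (GL D.Idx F)) :
        Set (GL D.Idx F)) := hx
    rw [Subgroup.coe_mul_of_right_le_normalizer_left _ _ hBnormK] at hx'
    obtain ⟨k, hk, b, hb, rfl⟩ := hx'
    exact ⟨k, hk, b, hb, rfl⟩
  have hadj : ∀ i j, i < D.rank → j < D.rank → h8adjB D i j = true →
      h8nU D hB (D.simple i) (1 : F) ∈ K.map (D.group F).subtype ⊔ D.borelSubgroup F →
      h8nU D hB (D.simple j) (1 : F) ∈ K.map (D.group F).subtype ⊔ D.borelSubgroup F := by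
    intro i j hi hj hij hsi
    unfold h8adjB at hij
    rw [decide_eq_true_eq] at hij
    exact h8tits_adj D hB hA hC hBN _ _ le_sup_right le_sup_left hKnorm hPKB i j hi hj hij hsi
  have hall := h8tree_spec D
    (fun i => h8nU D hB (D.simple i) (1 : F) ∈ K.map (D.group F).subtype ⊔ D.borelSubgroup F)
    0 hadj es [0] htree (by
      intro x hx
      rw [List.mem_singleton] at hx
      rw [hx])
  by_cases hroot : h8nU D hB (D.simple 0) (1 : F) ∈
      K.map (D.group F).subtype ⊔ D.borelSubgroup F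
  · right
    have hGP : D.group F ≤ K.map (D.group F).subtype ⊔ D.borelSubgroup F := by
      obtain ⟨dep, par, horb⟩ := hBN.orb
      refine le_trans (h8group_le_BN D hB hA hW) ?_
      apply sup_le le_sup_right
      rw [h8N_eq (F := F) D hB hA dep par horb]
      apply sup_le (le_trans (h8H_le_B D) le_sup_right)
      rw [Subgroup.closure_le]
      rintro g ⟨j, hj, rfl⟩
      exact (hall j hj).mpr hroot
    intro g
    obtain ⟨k, hk, b, hb, e⟩ := hPKB _ (hGP g.2)
    obtain ⟨hkG, hkK⟩ := (hK0mem k).mp hk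
    exact ⟨⟨k, hkG⟩, hkK, ⟨b, hBG hb⟩, hb, Subtype.ext e⟩
  · left
    have hnone : ∀ i < D.rank, h8nU D hB (D.simple i) (1 : F) ∉
        K.map (D.group F).subtype ⊔ D.borelSubgroup F := by
      intro i hi h
      exact hroot ((hall i hi).mp h)
    have hK0B : K.map (D.group F).subtype ≤ D.borelSubgroup F := by
      intro k hk
      obtain ⟨b, hb, n, hn, b', hb', e⟩ := h8bruhat D hB hA hC hBN hW k (hK0G hk)
      have hnP : n ∈ K.map (D.group F).subtype ⊔ D.borelSubgroup F := by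
        have : n = b⁻¹ * k * b'⁻¹ := by rw [e]; group
        rw [this]
        exact Subgroup.mul_mem _ (Subgroup.mul_mem _
          (Subgroup.mem_sup_right (Subgroup.inv_mem _ hb)) (Subgroup.mem_sup_left hk))
          (Subgroup.mem_sup_right (Subgroup.inv_mem _ hb'))
      by_cases hnT : n ∈ D.diagonalSubgroup F
      · rw [e]
        exact Subgroup.mul_mem _ (Subgroup.mul_mem _ hb (h8H_le_B D hnT)) hb'
      · exfalso
        obtain ⟨i, hi, r', hr', hact⟩ := h8N_not_T D hB hA hBN hW hO2 n hn hnT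
        exact hnone i hi (h8simple_mem_of_neg D hB hBN _ le_sup_right n hnP i hi r' hr' hact)
    rw [eq_bot_iff]
    intro k hk
    rw [Subgroup.mem_bot]
    apply Subtype.ext
    have hk0 : (k : GL D.Idx F) ∈ K.map (D.group F).subtype := ⟨k, hk, rfl⟩
    exact h8core_trivial D hB hA hBN.negOK hT.sc w0 hw0 hNG (k : GL D.Idx F) k.2
      (fun g hg => hK0B (hKnorm g hg _ hk0))

end Cfsg.Agent.Lib.helper8
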