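import Mathlib
import Cfsg.Prelude.Def_ChevStructure
import Cfsg.Agent.Lib.helper8.ChevGa2

set_option autoImplicit false

namespace Cfsg.Agent.Lib.helper8

open Cfsg.Lie Cfsg.Lie.ChevalleyDatum

universe u

variable {F : Type u} [Field F]

section

variable {ι : Type*} [Fintype ι] [DecidableEq ι] (G : Subgroup (GL ι F)) (Q : Matrix ι ι F)

/-- a matrix intertwining a matrix group with itself, with both projections onto and no
normal subgroup acting trivially on it, gives an automorphism -/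
theorem h8ga_equiv'
    (h1 : ∀ g : ↥G, ∃ g' : ↥G, (g'.val : Matrix ι ι F) * Q = Q * (g.val : Matrix ι ι F))
    (h2 : ∀ g' : ↥G, ∃ g : ↥G, (g'.val : Matrix ι ι F) * Q = Q * (g.val : Matrix ι ι F))
    (hN1 : ∀ N : Subgroup ↥G, N.Normal → (∀ n ∈ N, (n.val : Matrix ι ι F) * Q = Q) → N = ⊥)
    (hN2 : ∀ N : Subgroup ↥G, N.Normal → (∀ n ∈ N, Q * (n.val : Matrix ι ι F) = Q) → N = ⊥) :
    ∃ α : ↥G ≃* ↥G, ∀ g g' : ↥G,
      (g'.val : Matrix ι ι F) * Q = Q * (g.val : Matrix ι ι F) → α g = g' := by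
  set R := h8gaRel G Q with hR
  -- the two kernels
  let N1 : Subgroup ↥G :=
    { carrier := {n | ((1 : ↥G), n) ∈ R}
      one_mem' := R.one_mem
      mul_mem' := by
        intro a b ha hb
        have := R.mul_mem ha hb
        simpa using this
      inv_mem' := by
        intro a ha
        have := R.inv_mem ha
        simpa using this }
  let N2 : Subgroup ↥G :=
    { carrier := {n | (n, (1 : ↥G)) ∈ R}
      one_mem' := R.one_mem
      mul_mem' := by
        intro a b ha hb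
        have := R.mul_mem ha hb
        simpa using this
      inv_mem' := by
        intro a ha
        have := R.inv_mem ha
        simpa using this }
  have hN1n : N1.Normal := by
    refine ⟨fun n hn c => ?_⟩
    obtain ⟨c0, hc0⟩ := h2 c
    have hc : (c0, c) ∈ R := hc0
    have := R.mul_mem (R.mul_mem hc hn) (R.inv_mem hc)
    show ((1 : ↥G), c * n * c⁻¹) ∈ R
    simpa using this
  have hN2n : N2.Normal := by
    refine ⟨fun n hn c => ?_⟩
    obtain ⟨c0, hc0⟩ := h1 c
    have hc : (c, c0) ∈ R := hc0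
    have := R.mul_mem (R.mul_mem hc hn) (R.inv_mem hc)
    show (c * n * c⁻¹, (1 : ↥G)) ∈ R
    simpa using this
  have hN1 : N1 = ⊥ := by
    apply hN1 N1 hN1n
    intro n hn
    have h3 : (n.val : Matrix ι ι F) * Q = Q * ((1 : ↥G).val : Matrix ι ι F) := hn
    rw [h3]
    simp
  have hN2 : N2 = ⊥ := by
    apply hN2 N2 hN2n
    intro n hn
    have h3 : (((1 : ↥G)).val : Matrix ι ι F) * Q = Q * (n.val : Matrix ι ι F) := hn
    rw [← h3]
    simp
  have hb1 : Function.Bijective (Prod.fst ∘ R.subtype) := by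
    constructor
    · rintro ⟨⟨a, a'⟩, ha⟩ ⟨⟨b, b'⟩, hb⟩ hab
      simp only [Function.comp_apply, Subgroup.coe_subtype] at hab
      subst hab
      have : ((1 : ↥G), a'⁻¹ * b') ∈ R := by
        have := R.mul_mem (R.inv_mem ha) hb
        simpa using this
      have h3 : a'⁻¹ * b' ∈ N1 := this
      rw [hN1, Subgroup.mem_bot] at h3
      have : a' = b' := by
        rw [← mul_right_inj a'⁻¹, inv_mul_cancel, h3]
      subst this
      rfl
    · intro g
      obtain ⟨g', hg'⟩ := h1 g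
      exact ⟨⟨(g, g'), hg'⟩, rfl⟩
  have hb2 : Function.Bijective (Prod.snd ∘ R.subtype) := by
    constructor
    · rintro ⟨⟨a, a'⟩, ha⟩ ⟨⟨b, b'⟩, hb⟩ hab
      simp only [Function.comp_apply, Subgroup.coe_subtype] at hab
      subst hab
      have : (a⁻¹ * b, (1 : ↥G)) ∈ R := by
        have := R.mul_mem (R.inv_mem ha) hb
        simpa using this
      have h3 : a⁻¹ * b ∈ N2 := this
      rw [hN2, Subgroup.mem_bot] at h3
      have : a = b := by
        rw [← mul_right_inj a⁻¹, inv_mul_cancel, h3]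
      subst this
      rfl
    · intro g'
      obtain ⟨g, hg⟩ := h2 g'
      exact ⟨⟨(g, g'), hg⟩, rfl⟩
  obtain ⟨e, he⟩ := Subgroup.exists_mulEquiv_eq_graph hb1 hb2
  refine ⟨e, fun g g' h => ?_⟩
  have : (g, g') ∈ R := h
  rw [he] at this
  exact this

end

/-- the exceptional graph automorphism of a Chevalley group from an intertwining matrix -/
theorem h8ga_datum' (D : ChevalleyDatum) (hB : H8Base.{u} D) (hA : H8ReflAll D) (hBN : H8BN D)
    (Q : Matrix D.Idx D.Idx F) (ρ lam : ℕ → ℕ)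
    (hρ : ∀ i < D.rank, ∃ j < D.rank, ρ j = i)
    (hperf : ∀ j < D.rank, ∀ x : F, ∃ y : F, y ^ (lam j) = x)
    (hrel : ∀ j < D.rank, ∀ t : F,
      D.x F (D.simple (ρ j)) (t ^ lam j) * Q = Q * D.x F (D.simple j) t)
    (hrel' : ∀ j < D.rank, ∀ t : F,
      D.x F (D.negIdx.getD (D.simple (ρ j)) 0) (t ^ lam j) * Q =
        Q * D.x F (D.negIdx.getD (D.simple j) 0) t)
    (hN1 : ∀ N : Subgroup ↥(D.group F), N.Normal →
      (∀ n ∈ N, (n.val : Matrix D.Idx D.Idx F) * Q = Q) → N = ⊥)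
    (hN2 : ∀ N : Subgroup ↥(D.group F), N.Normal →
      (∀ n ∈ N, Q * (n.val : Matrix D.Idx D.Idx F) = Q) → N = ⊥) :
    ∃ α : ↥(D.group F) ≃* ↥(D.group F), ∀ g g' : ↥(D.group F),
      (g'.val : Matrix D.Idx D.Idx F) * Q = Q * (g.val : Matrix D.Idx D.Idx F) → α g = g' := by
  set R := h8gaRel (D.group F) Q with hR
  have hmem : ∀ (r r' : ℕ) (t t' : F), D.x F r' t' * Q = Q * D.x F r t →
      ((⟨h8xU D hB r t, h8xU_mem_group D hB _ _⟩ : ↥(D.group F)),
        (⟨h8xU D hB r' t', h8xU_mem_group D hB _ _⟩ : ↥(D.group F))) ∈ R := by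
    intro r r' t t' h
    exact h
  apply h8ga_equiv' (D.group F) Q
  · -- first projection onto
    have hle : D.group F ≤ (R.map (MonoidHom.fst _ _)).map (D.group F).subtype := by
      apply h8group_le_of_simple D hB hA hBN
      · intro j hj t
        exact ⟨_, ⟨_, hmem _ _ _ _ (hrel j hj t), rfl⟩, rfl⟩
      · intro j hj t
        exact ⟨_, ⟨_, hmem _ _ _ _ (hrel' j hj t), rfl⟩, rfl⟩
    intro g
    obtain ⟨x, ⟨p, hp, hpx⟩, hxg⟩ := hle g.2
    have e : p.1 = g := by
      apply Subtype.ext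
      rw [← hxg, ← hpx]
      rfl
    refine ⟨p.2, ?_⟩
    rw [← e]
    exact hp
  · -- second projection onto
    have hle : D.group F ≤ (R.map (MonoidHom.snd _ _)).map (D.group F).subtype := by
      apply h8group_le_of_simple D hB hA hBN
      · intro i hi u
        obtain ⟨j, hj, rfl⟩ := hρ i hi
        obtain ⟨y, rfl⟩ := hperf j hj u
        exact ⟨_, ⟨_, hmem _ _ _ _ (hrel j hj y), rfl⟩, rfl⟩
      · intro i hi u
        obtain ⟨j, hj, rfl⟩ := hρ i hi
        obtain ⟨y, rfl⟩ := hperf j hj u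
        exact ⟨_, ⟨_, hmem _ _ _ _ (hrel' j hj y), rfl⟩, rfl⟩
    intro g
    obtain ⟨x, ⟨p, hp, hpx⟩, hxg⟩ := hle g.2
    have e : p.2 = g := by
      apply Subtype.ext
      rw [← hxg, ← hpx]
      rfl
    refine ⟨p.1, ?_⟩
    rw [← e]
    exact hp
  · exact hN1
  · exact hN2

end Cfsg.Agent.Lib.helper8
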