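import Mathlib
import Cfsg.Prelude.Def_ChevStructure
import Cfsg.Prelude.Def_ChevB2
import Cfsg.Agent.Lib.helper8.ChevGa1
import Cfsg.Agent.Lib.helper8.ChevGa5
import Cfsg.Agent.Lib.helper8.ChevGa6
import Cfsg.Agent.Lib.helper8.ChevTits5
import Cfsg.Agent.Lib.helper8.ChevBorel

set_option autoImplicit false

namespace Cfsg.Agent.Lib.helper8

open Cfsg.Lie Cfsg.Lie.ChevalleyDatum

universe u

variable {F : Type u} [Field F]

/-- the matrix of the special isogeny of type B₂ in characteristic 2 -/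
def h8gaQ_B2 : List (List (List ℤ)) :=
  [[[], [1], [], [], [], [], [], [], [], []],
  [[], [], [], [], [], [], [], [], [], []],
  [[], [], [], [], [], [], [], [], [], []],
  [[], [], [1], [], [], [], [], [], [], []],
  [[], [], [], [], [], [1], [], [], [], []],
  [[], [], [], [], [], [], [], [], [], []],
  [[], [], [], [], [], [], [], [], [], []],
  [[], [], [], [], [], [], [1], [], [], []],
  [[], [], [], [], [], [], [], [], [], [1]],
  [[], [], [], [], [], [], [], [], [], []]]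

theorem h8gaB2_len : h8gaQ_B2.length ≤ chevB2.rank + chevB2.nroots := by decide

theorem h8gaB2_const : h8pmConstB h8gaQ_B2 = true := by decide

theorem h8gaB2_chk0 : h8pmEqBp 2 (chevB2.rank + chevB2.nroots) (chevB2.rank + chevB2.nroots)
    (h8pmMul (h8pmSpread 1 (h8xP chevB2 4)) h8gaQ_B2) (h8pmMul h8gaQ_B2 (h8xP chevB2 5)) = true := by
  decide +kernel

theorem h8gaB2_chk1 : h8pmEqBp 2 (chevB2.rank + chevB2.nroots) (chevB2.rank + chevB2.nroots)
    (h8pmMul (h8pmSpread 0 (h8xP chevB2 5)) h8gaQ_B2) (h8pmMul h8gaQ_B2 (h8xP chevB2 4)) = true := by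
  decide +kernel

theorem h8gaB2_chk2 : h8pmEqBp 2 (chevB2.rank + chevB2.nroots) (chevB2.rank + chevB2.nroots)
    (h8pmMul (h8pmSpread 1 (h8xP chevB2 3)) h8gaQ_B2) (h8pmMul h8gaQ_B2 (h8xP chevB2 2)) = true := by
  decide +kernel

theorem h8gaB2_chk3 : h8pmEqBp 2 (chevB2.rank + chevB2.nroots) (chevB2.rank + chevB2.nroots)
    (h8pmMul (h8pmSpread 0 (h8xP chevB2 2)) h8gaQ_B2) (h8pmMul h8gaQ_B2 (h8xP chevB2 3)) = true := by
  decide +kernel

theorem h8gaB2_w1 : h8pmE (h8pmMul (h8xP chevB2 2) h8gaQ_B2) 4 6 = [0, 0, -1] ∧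
    h8pmE (h8pmMul h8gaQ_B2 (h8xP chevB2 3)) 4 6 = [0, 0, -1] := by
  decide +kernel

theorem h8gaB2_col : ∀ k : chevB2.Idx,
    h8pmE h8gaQ_B2 (h8enc chevB2.rank chevB2.nroots k) 6 =
      if k = Sum.inr ⟨5, by decide⟩ then [1] else [] := by
  decide +kernel

theorem h8gaB2_row : ∀ k : chevB2.Idx,
    h8pmE h8gaQ_B2 4 (h8enc chevB2.rank chevB2.nroots k) =
      if k = Sum.inr ⟨3, by decide⟩ then [1] else [] := by
  decide +kernel

/-- the matrix of the special isogeny over a field -/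
def h8gaQm_B2 (F : Type u) [Field F] : Matrix chevB2.Idx chevB2.Idx F :=
  h8pmMat (h8enc chevB2.rank chevB2.nroots) (h8enc chevB2.rank chevB2.nroots) h8gaQ_B2 (0 : F)

theorem h8gaB2_rel0 [CharP F 2] (t : F) :
    chevB2.x F 4 (t ^ 2) * h8gaQm_B2 F = h8gaQm_B2 F * chevB2.x F 5 t :=
  h8ga_rel 2 chevB2 h8gaQ_B2 h8gaB2_len h8gaB2_const 5 4 (by decide) (by decide) 1 h8gaB2_chk0 t

theorem h8gaB2_rel1 [CharP F 2] (t : F) :
    chevB2.x F 5 t * h8gaQm_B2 F = h8gaQm_B2 F * chevB2.x F 4 t := by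
  have := h8ga_rel 2 chevB2 h8gaQ_B2 h8gaB2_len h8gaB2_const 4 5 (by decide) (by decide) 0
    h8gaB2_chk1 t
  rwa [zero_add, pow_one] at this

theorem h8gaB2_rel2 [CharP F 2] (t : F) :
    chevB2.x F 3 (t ^ 2) * h8gaQm_B2 F = h8gaQm_B2 F * chevB2.x F 2 t :=
  h8ga_rel 2 chevB2 h8gaQ_B2 h8gaB2_len h8gaB2_const 2 3 (by decide) (by decide) 1 h8gaB2_chk2 t

theorem h8gaB2_rel3 [CharP F 2] (t : F) :
    chevB2.x F 2 t * h8gaQm_B2 F = h8gaQm_B2 F * chevB2.x F 3 t := by
  have := h8ga_rel 2 chevB2 h8gaQ_B2 h8gaB2_len h8gaB2_const 3 2 (by decide) (by decide) 0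
    h8gaB2_chk3 t
  rwa [zero_add, pow_one] at this

theorem h8gaB2_colm (k : chevB2.Idx) :
    h8gaQm_B2 F k (Sum.inr ⟨4, by decide⟩) = if k = Sum.inr ⟨5, by decide⟩ then 1 else 0 := by
  unfold h8gaQm_B2
  rw [h8ga_entryQ]
  have e2 : h8enc chevB2.rank chevB2.nroots (Sum.inr ⟨4, by decide⟩) = 6 := rfl
  rw [e2, h8gaB2_col k]
  split_ifs <;> simp [h8pEval]

theorem h8gaB2_rowm (k : chevB2.Idx) :
    h8gaQm_B2 F (Sum.inr ⟨2, by decide⟩) k = if k = Sum.inr ⟨3, by decide⟩ then 1 else 0 := by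
  unfold h8gaQm_B2
  rw [h8ga_entryQ]
  have e2 : h8enc chevB2.rank chevB2.nroots (Sum.inr ⟨2, by decide⟩) = 4 := rfl
  rw [e2, h8gaB2_row k]
  split_ifs <;> simp [h8pEval]

theorem h8tri_zero (D : ChevalleyDatum) (hB : H8Base.{u} D) (b : GL D.Idx F)
    (hb : b ∈ D.borelSubgroup F) (i j : D.Idx) (h : h8rho D i < h8rho D j) :
    (b : Matrix D.Idx D.Idx F) i j = 0 := by
  by_contra hne
  have := (h8_B_le_tri D hB hb).1 i j hne
  omega

/-- the exceptional graph automorphism of type B₂ in characteristic 2 -/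
theorem h8gaB2_main [CharP F 2] (hperf : ∀ x : F, ∃ y : F, y ^ 2 = x) :
    ∃ α : ↥(chevB2.group F) ≃* ↥(chevB2.group F), ∀ g g' : ↥(chevB2.group F),
      (g'.val : Matrix chevB2.Idx chevB2.Idx F) * h8gaQm_B2 F =
        h8gaQm_B2 F * (g.val : Matrix chevB2.Idx chevB2.Idx F) → α g = g' := by
  have hD : chevB2 ∈ [chevG2, chevB2, chevD4, chevF4, chevE6, chevE7, chevE8] := by simp
  have hB := h8base_all.{u} chevB2 hD
  have hA := h8reflAll chevB2 hD
  have hC := h8commAll.{u} chevB2 hD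
  have hBN := h8bn_all chevB2 hD
  have hW := h8bn2_all chevB2 hD
  have hO2 := (h8ord_all chevB2 hD).2
  have hT := h8tits_all chevB2 hD
  have hs0 : chevB2.simple 0 = 5 := by decide
  have hs1 : chevB2.simple 1 = 4 := by decide
  have hn0 : chevB2.negIdx.getD 5 0 = 2 := by decide
  have hn1 : chevB2.negIdx.getD 4 0 = 3 := by decide
  have hrk : chevB2.rank = 2 := rfl
  refine h8ga_datum' chevB2 hB hA hBN (h8gaQm_B2 F) (fun j => 1 - j)
    (fun j => if j = 0 then 2 else 1) ?_ ?_ ?_ ?_ ?_ ?_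
  · intro i hi
    rw [hrk] at hi
    interval_cases i
    · exact ⟨1, by decide, rfl⟩
    · exact ⟨0, by decide, rfl⟩
  · intro j hj x
    rw [hrk] at hj
    interval_cases j
    · exact hperf x
    · exact ⟨x, by simp⟩
  · intro j hj t
    rw [hrk] at hj
    interval_cases j
    · simp only [hs0, hs1, if_true]
      exact h8gaB2_rel0 t
    · simp only [hs0, hs1, Nat.sub_self, one_ne_zero, if_false, pow_one]
      exact h8gaB2_rel1 t
  · intro j hj t
    rw [hrk] at hj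
    interval_cases j
    · simp only [hs0, hs1, hn0, hn1, if_true]
      exact h8gaB2_rel2 t
    · simp only [hs0, hs1, hn0, hn1, Nat.sub_self, one_ne_zero, if_false, pow_one]
      exact h8gaB2_rel3 t
  · intro N hNn hN
    rcases h8tits_dich chevB2 hB hA hC hBN hW hO2 hT N hNn with h | h
    · exact h
    · exfalso
      -- the inverse of x_{-a}(1) is k * b, so x_{-a}(1) = b⁻¹ * k⁻¹
      obtain ⟨k, hk, b, hb, e⟩ := h (⟨h8xU chevB2 hB 2 1, h8xU_mem_group chevB2 hB _ _⟩)⁻¹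
      have e' : (⟨h8xU chevB2 hB 2 1, h8xU_mem_group chevB2 hB _ _⟩ : ↥(chevB2.group F)) =
          b⁻¹ * k⁻¹ := by
        rw [← mul_inv_rev, ← e, inv_inv]
      have e2 := congrArg (fun g : ↥(chevB2.group F) =>
        ((g : GL chevB2.Idx F) : Matrix chevB2.Idx chevB2.Idx F) * h8gaQm_B2 F) e'
      simp only [Subgroup.coe_mul, Units.val_mul] at e2
      rw [Matrix.mul_assoc, hN _ (N.inv_mem hk), h8xU_val] at e2
      have h1 := congrFun (congrFun e2 (Sum.inr ⟨2, by decide⟩)) (Sum.inr ⟨4, by decide⟩)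
      have hb' : ((b⁻¹ : ↥(chevB2.group F)) : GL chevB2.Idx F) ∈ chevB2.borelSubgroup F := by
        rw [Subgroup.coe_inv]
        exact Subgroup.inv_mem _ hb
      have hz : ((((b⁻¹ : ↥(chevB2.group F)) : GL chevB2.Idx F) :
          Matrix chevB2.Idx chevB2.Idx F) * h8gaQm_B2 F)
          (Sum.inr ⟨2, by decide⟩) (Sum.inr ⟨4, by decide⟩) = 0 := by
        rw [Matrix.mul_apply, Finset.sum_eq_single (Sum.inr ⟨5, by decide⟩)
          (by
            intro c _ hc
            rw [h8gaB2_colm, if_neg hc, mul_zero])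
          (by intro hc; exact absurd (Finset.mem_univ _) hc),
          h8tri_zero chevB2 hB _ hb' _ _ (by decide), zero_mul]
      rw [hz] at h1
      unfold h8gaQm_B2 at h1
      rw [h8ga_entryL chevB2 h8gaQ_B2 h8gaB2_len h8gaB2_const 2 (by decide)] at h1
      have e3 : h8enc chevB2.rank chevB2.nroots (Sum.inr ⟨2, by decide⟩) = 4 := rfl
      have e4 : h8enc chevB2.rank chevB2.nroots (Sum.inr ⟨4, by decide⟩) = 6 := rfl
      rw [e3, e4, h8gaB2_w1.1] at h1
      simp [h8pEval] at h1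
  · intro N hNn hN
    rcases h8tits_dich chevB2 hB hA hC hBN hW hO2 hT N hNn with h | h
    · exact h
    · exfalso
      obtain ⟨k, hk, b, hb, e⟩ := h ⟨h8xU chevB2 hB 3 1, h8xU_mem_group chevB2 hB _ _⟩
      have e2 := congrArg (fun g : ↥(chevB2.group F) =>
        h8gaQm_B2 F * ((g : GL chevB2.Idx F) : Matrix chevB2.Idx chevB2.Idx F)) e
      simp only [Subgroup.coe_mul, Units.val_mul] at e2
      rw [← Matrix.mul_assoc, hN _ hk, h8xU_val] at e2
      have h1 := congrFun (congrFun e2 (Sum.inr ⟨2, by decide⟩)) (Sum.inr ⟨4, by decide⟩)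
      have hz : (h8gaQm_B2 F * ((b : GL chevB2.Idx F) : Matrix chevB2.Idx chevB2.Idx F))
          (Sum.inr ⟨2, by decide⟩) (Sum.inr ⟨4, by decide⟩) = 0 := by
        rw [Matrix.mul_apply, Finset.sum_eq_single (Sum.inr ⟨3, by decide⟩)
          (by
            intro c _ hc
            rw [h8gaB2_rowm, if_neg hc, zero_mul])
          (by intro hc; exact absurd (Finset.mem_univ _) hc),
          h8tri_zero chevB2 hB _ hb _ _ (by decide), mul_zero]
      rw [hz] at h1
      unfold h8gaQm_B2 at h1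
      rw [h8ga_entryR chevB2 h8gaQ_B2 h8gaB2_const 3 (by decide)] at h1
      have e3 : h8enc chevB2.rank chevB2.nroots (Sum.inr ⟨2, by decide⟩) = 4 := rfl
      have e4 : h8enc chevB2.rank chevB2.nroots (Sum.inr ⟨4, by decide⟩) = 6 := rfl
      rw [e3, e4, h8gaB2_w1.2] at h1
      simp [h8pEval] at h1

end Cfsg.Agent.Lib.helper8
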