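import Mathlib
import Cfsg.Prelude.Def_LieTypes
import Cfsg.Prelude.Def_ChevB2
import Cfsg.Agent.Lib.helper8.ChevDerTab
import Cfsg.Agent.Lib.helper8.ChevBaseAll
import Cfsg.Agent.Lib.helper8.ChevReflAll
import Cfsg.Agent.Lib.helper8.ChevCommAll
import Cfsg.Agent.Lib.helper8.ChevBNAll

set_option autoImplicit false

namespace Cfsg.Agent.Lib.helper8

open Cfsg.Lie Cfsg.Lie.ChevalleyDatum

universe u

variable {K : Type u} [Field K]

theorem h8cs1 : ∀ c ∈ ([1, -1] : List ℤ), ((c : ℤ) : K) ≠ 0 := by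
  intro c hc
  simp only [List.mem_cons, List.not_mem_nil, or_false] at hc
  rcases hc with rfl | rfl <;> simp

theorem h8cs2 (h : ringChar K ≠ 2) : ∀ c ∈ ([1, -1, 2, -2] : List ℤ), ((c : ℤ) : K) ≠ 0 := by
  have h2 : (2 : K) ≠ 0 := Ring.two_ne_zero h
  intro c hc
  simp only [List.mem_cons, List.not_mem_nil, or_false] at hc
  rcases hc with rfl | rfl | rfl | rfl
  · simp
  · simp
  · simpa using h2
  · simpa using h2

theorem h8cs3 (h : ringChar K ≠ 3) : ∀ c ∈ ([1, -1, 3, -3] : List ℤ), ((c : ℤ) : K) ≠ 0 := by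
  have h3 : (3 : K) ≠ 0 := by
    intro h0
    have h1 : ((3 : ℕ) : K) = 0 := by exact_mod_cast h0
    rw [ringChar.spec] at h1
    have hp : Nat.Prime 3 := by norm_num
    rcases (Nat.dvd_prime hp).mp h1 with h4 | h4
    · exact CharP.ringChar_ne_one h4
    · exact h h4
  intro c hc
  simp only [List.mem_cons, List.not_mem_nil, or_false] at hc
  rcases hc with rfl | rfl | rfl | rfl
  · simp
  · simp
  · simpa using h3
  · simpa using h3

theorem h8gen16 (D : ChevalleyDatum)
    (hD : D ∈ [chevG2, chevB2, chevD4, chevF4, chevE6, chevE7, chevE8])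
    (cs : List ℤ) (hcs : ∀ c ∈ cs, ((c : ℤ) : K) ≠ 0) (i : ℕ) (hi : i < D.rank)
    (steps : List (Bool × ℕ × ℕ)) (h : h8derChk D cs [D.simple i] steps = true) :
    D.group K ≤ D.monomialSubgroup K ⊔ D.rootSubgroup K (D.simple i) := by
  have hB := h8base_all.{u} D hD
  have hBN := h8bn_all D hD
  refine h8derChk_sound D hB (h8reflAll D hD) (h8commAll.{u} D hD) hBN cs hcs _ ?_ _ steps h ?_
  · intro j hj
    exact Subgroup.mem_sup_left (h8nU_mem_N D hB _ (h8simple_pos D hBN j hj).1)
  · intro r hr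
    rw [List.mem_singleton] at hr
    subst hr
    refine ⟨(h8simple_pos D hBN i hi).1, fun t => ?_⟩
    apply Subgroup.mem_sup_right
    unfold ChevalleyDatum.rootSubgroup
    exact Subgroup.subset_closure ⟨t, h8xU_val D hB _ t⟩

theorem h8gen17 (D : ChevalleyDatum)
    (hD : D ∈ [chevG2, chevB2, chevD4, chevF4, chevE6, chevE7, chevE8])
    (i j : ℕ) (hi : i < D.rank) (hj : j < D.rank)
    (steps : List (Bool × ℕ × ℕ))
    (h : h8derChk D [1, -1] [D.simple i, D.simple j] steps = true) :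
    D.group K ≤ D.monomialSubgroup K ⊔ D.rootSubgroup K (D.simple i) ⊔
      D.rootSubgroup K (D.simple j) := by
  have hB := h8base_all.{u} D hD
  have hBN := h8bn_all D hD
  refine h8derChk_sound D hB (h8reflAll D hD) (h8commAll.{u} D hD) hBN _ h8cs1 _ ?_ _ steps h ?_
  · intro k hk
    exact Subgroup.mem_sup_left (Subgroup.mem_sup_left
      (h8nU_mem_N D hB _ (h8simple_pos D hBN k hk).1))
  · intro r hr
    simp only [List.mem_cons, List.not_mem_nil, or_false] at hr
    rcases hr with rfl | rfl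
    · refine ⟨(h8simple_pos D hBN i hi).1, fun t => ?_⟩
      apply Subgroup.mem_sup_left
      apply Subgroup.mem_sup_right
      unfold ChevalleyDatum.rootSubgroup
      exact Subgroup.subset_closure ⟨t, h8xU_val D hB _ t⟩
    · refine ⟨(h8simple_pos D hBN j hj).1, fun t => ?_⟩
      apply Subgroup.mem_sup_right
      unfold ChevalleyDatum.rootSubgroup
      exact Subgroup.subset_closure ⟨t, h8xU_val D hB _ t⟩

end Cfsg.Agent.Lib.helper8
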