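import Mathlib
import Cfsg.Prelude.Def_ChevStructure
import Cfsg.Prelude.Def_ChevE7
import Cfsg.Agent.Lib.helper14.INVFUSEb
import Cfsg.Agent.Lib.helper8.ChevIE7d
import Cfsg.Agent.Lib.helper8.ChevCommAll

/-!
# Project INVE7 (S2181): the fusion of the nine products of root elements into the five classes
-/

set_option autoImplicit false

namespace Cfsg.Agent.Lib.helper8.E7I

open Cfsg.Lie Cfsg.Lie.ChevalleyDatum Cfsg.Agent.Lib.helper8 Cfsg.Agent.Lib.helper14
  Cfsg.Agent.Lib.helper14.INV

universe u

variable {F : Type u} [Field F]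

/-- the fusion paths: `(true, s)` = conjugation by `x_s(1)`, `(false, i)` = conjugation by `n_i(1)` -/
def e7FuseMoves : List (List (Bool × ℕ)) :=
  [[],
   [],
   [],
   [],
   [],
   [(true, 94), (true, 87), (true, 103), (true, 108), (false, 0), (false, 2), (false, 3), (false, 1), (false, 2), (false, 3), (false, 4), (false, 3), (false, 2), (false, 5), (false, 4), (false, 3), (false, 1), (false, 2), (false, 3), (false, 4), (false, 5), (false, 6), (false, 5), (false, 4), (false, 3), (false, 2)],
   [(true, 65), (true, 66), (true, 67), (true, 88), (false, 0), (false, 2), (false, 3), (false, 1), (false, 2), (false, 0), (false, 5), (false, 4), (false, 3), (false, 1), (false, 2), (false, 0), (false, 3), (false, 2), (false, 4), (false, 3), (false, 1), (false, 6)],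
   [(true, 65), (true, 66), (true, 67), (true, 88), (true, 105), (true, 66), (true, 106), (true, 110), (false, 0), (false, 3), (false, 1), (false, 2), (false, 3), (false, 5), (false, 4), (false, 3), (false, 1), (false, 2), (false, 0), (false, 3), (false, 2), (false, 4), (false, 5), (false, 6), (false, 5), (false, 4), (false, 3), (false, 1)],
   [(true, 65), (true, 66), (true, 67), (true, 88), (true, 70), (true, 73), (true, 74), (true, 79), (true, 105), (true, 66), (true, 106), (true, 110), (false, 0), (false, 3), (false, 1), (false, 2), (false, 0), (false, 4), (false, 3), (false, 5), (false, 4), (false, 3), (false, 1), (false, 2), (false, 0), (false, 3), (false, 2), (false, 4), (false, 5), (false, 6), (false, 5), (false, 4), (false, 3), (false, 1)]]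

theorem e7_fuse_run : ∀ k < 9,
    fuseb_ok chevE7 60 (e7FuseMoves.getD k []) (e7Cls.getD k []) = true ∧
    fuseb_run chevE7 60 (e7FuseMoves.getD k []) (e7Cls.getD k []) =
      e7Reps.getD (e7ClsRep.getD k 0) [] := by decide +kernel

/-- FUSE : the fusion of the nine standard products of root elements into the five classes -/
theorem e7_fuse [CharP F 2] (hB : H8Base.{u} chevE7) (k : ℕ) (hk : k < 9) :
    Cj chevE7 (w1 chevE7 hB (e7Cls.getD k []) : GL chevE7.Idx F)
      (w1 chevE7 hB (e7Reps.getD (e7ClsRep.getD k 0) [])) := by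
  have hD := h8e7_mem
  have hA := h8reflAll chevE7 hD
  have hC := h8commAll.{u} chevE7 hD
  have hBN := h8bn_all chevE7 hD
  obtain ⟨hO, _⟩ := h8ord_all chevE7 hD
  obtain ⟨h1, h2⟩ := e7_fuse_run k hk
  rw [← h2]
  exact fuseb_run_cj chevE7 hB hA hC hBN hO 60 _ _ h1

theorem e7_rep_mem : ∀ k < 9, e7Reps.getD (e7ClsRep.getD k 0) [] ∈ e7Reps := by decide

end Cfsg.Agent.Lib.helper8.E7I
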