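import Mathlib
import Cfsg.Prelude.Def_ChevStructure
import Cfsg.Prelude.Def_ChevE7
import Cfsg.Agent.Lib.helper8.ChevIE7g
import Cfsg.Agent.Lib.helper8.ChevIE7h
import Cfsg.Agent.Lib.helper14.INV.Gen
import Cfsg.Agent.Lib.helper14.INVGT

/-!
# Project INVE7 (S2181): every involution is conjugate to one of the five representatives; counting
classes of involutions from a list of representatives (generic)
-/

set_option autoImplicit false

namespace Cfsg.Agent.Lib.helper14.INV

open Cfsg.Lie Cfsg.Lie.ChevalleyDatum Cfsg.Agent.Lib.helper8 Cfsg.Agent.Lib.helper14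

universe u

variable {F : Type u} [Field F]

/-- conjugacy in the Chevalley group, as `IsConj` in the subgroup -/
theorem cj_iff_isConj (D : ChevalleyDatum) (a b : D.group F) :
    IsConj a b ↔ Cj D (a : GL D.Idx F) (b : GL D.Idx F) := by
  rw [isConj_iff]
  constructor
  · rintro ⟨c, hc⟩
    refine ⟨c, c.2, ?_⟩
    have := congrArg Subtype.val hc
    simpa using this
  · rintro ⟨g, hg, e⟩
    refine ⟨⟨g, hg⟩, Subtype.ext ?_⟩
    simpa using e

/-- the number of classes of involutions, from a list of representatives -/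
theorem invol_count {G : Type*} [Group G] (n : ℕ) (rep : Fin n → G)
    (hrep : ∀ i, orderOf (rep i) = 2)
    (hnc : ∀ i j, IsConj (rep i) (rep j) → i = j)
    (hall : ∀ g : G, orderOf g = 2 → ∃ i, IsConj g (rep i)) :
    (ConjClasses.mk '' {g : G | orderOf g = 2}).ncard = n := by
  have hset : ConjClasses.mk '' {g : G | orderOf g = 2} =
      Set.range (fun i : Fin n => ConjClasses.mk (rep i)) := by
    ext c
    constructor
    · rintro ⟨g, hg, rfl⟩
      obtain ⟨i, hi⟩ := hall g hg
      exact ⟨i, (ConjClasses.mk_eq_mk_iff_isConj.mpr hi).symm⟩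
    · rintro ⟨i, rfl⟩
      exact ⟨rep i, hrep i, rfl⟩
  rw [hset, ← Set.image_univ, Set.ncard_image_of_injective, Set.ncard_univ, Nat.card_fin]
  intro i j hij
  exact hnc i j (ConjClasses.mk_eq_mk_iff_isConj.mp hij)

end Cfsg.Agent.Lib.helper14.INV

namespace Cfsg.Agent.Lib.helper8.E7I

open Cfsg.Lie Cfsg.Lie.ChevalleyDatum Cfsg.Agent.Lib.helper8 Cfsg.Agent.Lib.helper14
  Cfsg.Agent.Lib.helper14.INV

universe u

variable {F : Type u} [Field F]

/-- every involution of `E₇(F)`, `char F = 2`, is conjugate to one of the five representatives -/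
theorem e7_invol_class [Fintype F] [CharP F 2] (t : GL chevE7.Idx F) (ht : t ∈ chevE7.group F)
    (ho : orderOf t = 2) :
    ∃ a ∈ e7Reps, Cj chevE7 t
      (w1 chevE7 (h8base_all.{u} chevE7 h8e7_mem) a : GL chevE7.Idx F) := by
  have hD := h8e7_mem
  set hB := h8base_all.{u} chevE7 hD with hBdef
  have hB0 := h8base_all.{0} chevE7 hD
  have hA := h8reflAll chevE7 hD
  have hC := h8commAll.{u} chevE7 hD
  have hBN := h8bn_all chevE7 hD
  have hW := h8bn2_all chevE7 hD
  obtain ⟨hO, hO2⟩ := h8ord_all chevE7 hD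
  obtain ⟨k, hk, hc⟩ := e7_invol_N (F := F)
    (fun t ht hsq => invol_conj_N chevE7 hB hB0 hA hC hBN hW hO hO2 e7_lsChk
      (fun w hw hJ => gt_struct chevE7 hB0 hA e7_gtChk w hw hJ) t ht hsq) t ht ho
  exact ⟨_, e7_rep_mem k hk,
    fuseb_cj_trans chevE7 hc (fuseb_cj_trans chevE7 (e7_std_cj hB k hk) (e7_fuse hB k hk))⟩

end Cfsg.Agent.Lib.helper8.E7I
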