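import Mathlib
import Cfsg.Prelude.Def_ChevStructure
import Cfsg.Prelude.Def_ChevE7
import Cfsg.Agent.Lib.helper8.ChevIE7n
import Cfsg.Agent.Lib.helper8.ChevIE7g
import Cfsg.Agent.Lib.helper14.INVGT3

/-!
# Project INVE7 (S2181), piece NCC: the combinatorial contradiction

The images of the roots of `R_j` under an element of the Weyl group are pairwise distinct and pairwise
orthogonal; the up-closure `L_i`, `i < j`, contains too few such roots, except for `(i, j) = (2, 3)`,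
where a parity invariant separates `3A₁'` from `3A₁''`.
-/

set_option autoImplicit false

namespace Cfsg.Agent.Lib.helper8.E7I

open Cfsg.Lie Cfsg.Lie.ChevalleyDatum Cfsg.Agent.Lib.helper8 Cfsg.Agent.Lib.helper14
  Cfsg.Agent.Lib.helper14.INV

theorem e7_gtSymChk : gtSymChk chevE7 = true := by decide +kernel

/-- the image of two distinct orthogonal roots -/
theorem e7ncc_img (w w₂ : List ℕ) (hw₂ : ∀ a ∈ w₂, a < chevE7.rank)
    (h4 : ∀ r < chevE7.nroots, h8sW chevE7 w (h8sW chevE7 w₂ r) = r)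
    (r s : ℕ) (hr : r < 126) (hs : s < 126) (hne : r ≠ s) (ho : gtIpL chevE7 r s = 0) :
    h8sW chevE7 w₂ r ≠ h8sW chevE7 w₂ s ∧
      gtIpL chevE7 (h8sW chevE7 w₂ r) (h8sW chevE7 w₂ s) = 0 := by
  have hA := h8reflAll chevE7 h8e7_mem
  constructor
  · intro h
    apply hne
    rw [← h4 r hr, ← h4 s hs, h]
  · rw [gt_ipL_inv chevE7 hA e7_gtChk e7_gtSymChk w₂ hw₂ r s hr hs]
    exact ho

/-- `L_0` contains no two distinct roots -/
theorem e7ncc_L0 : ∀ x ∈ e7ncL.getD 0 [], ∀ y ∈ e7ncL.getD 0 [], x ≠ y → False := by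
  decide +kernel

/-- `L_1` contains no three pairwise distinct, pairwise orthogonal roots -/
theorem e7ncc_L1 : ∀ x ∈ e7ncL.getD 1 [], ∀ y ∈ e7ncL.getD 1 [], x ≠ y → gtIpL chevE7 x y = 0 →
    ∀ z ∈ e7ncL.getD 1 [], x ≠ z → y ≠ z → gtIpL chevE7 x z = 0 → gtIpL chevE7 y z = 0 →
    False := by
  decide +kernel

/-- `L_2` contains no four pairwise distinct, pairwise orthogonal roots, and for its orthogonal triples
the parity invariant (against the highest root) is odd -/
theorem e7ncc_L2 : ∀ x ∈ e7ncL.getD 2 [], ∀ y ∈ e7ncL.getD 2 [], x ≠ y → gtIpL chevE7 x y = 0 →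
    ∀ z ∈ e7ncL.getD 2 [], x ≠ z → y ≠ z → gtIpL chevE7 x z = 0 → gtIpL chevE7 y z = 0 →
    ((gtIpL chevE7 125 x + gtIpL chevE7 125 y + gtIpL chevE7 125 z) % 2 = 1 ∧
    ∀ t ∈ e7ncL.getD 2 [], x ≠ t → y ≠ t → z ≠ t → gtIpL chevE7 x t = 0 → gtIpL chevE7 y t = 0 →
      gtIpL chevE7 z t = 0 → False) := by
  decide +kernel

/-- `L_3` contains no four pairwise distinct, pairwise orthogonal roots -/
theorem e7ncc_L3 : ∀ x ∈ e7ncL.getD 3 [], ∀ y ∈ e7ncL.getD 3 [], x ≠ y → gtIpL chevE7 x y = 0 →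
    ∀ z ∈ e7ncL.getD 3 [], x ≠ z → y ≠ z → gtIpL chevE7 x z = 0 → gtIpL chevE7 y z = 0 →
    ∀ t ∈ e7ncL.getD 3 [], x ≠ t → y ≠ t → z ≠ t → gtIpL chevE7 x t = 0 → gtIpL chevE7 y t = 0 →
      gtIpL chevE7 z t = 0 → False := by
  decide +kernel

/-- the parity invariant of `3A₁''` is even -/
theorem e7ncc_par : ∀ t < 126,
    (gtIpL chevE7 t 92 + gtIpL chevE7 t 107 + gtIpL chevE7 t 111) % 2 = 0 := by
  decide +kernel

/-- the roots of the representatives are pairwise orthogonal -/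
theorem e7ncc_orth : ∀ j < 5, ∀ r ∈ e7Reps.getD j [], ∀ s ∈ e7Reps.getD j [], r ≠ s →
    gtIpL chevE7 r s = 0 := by
  decide +kernel

theorem e7ncc_lt : ∀ j < 5, ∀ r ∈ e7Reps.getD j [], r < 126 := by decide

/-- NCC : the combinatorial contradiction -/
theorem e7nc_comb (i j : ℕ) (hij : i < j) (hj : j < 5) (w w₂ : List ℕ)
    (hw : ∀ a ∈ w, a < chevE7.rank) (hw₂ : ∀ a ∈ w₂, a < chevE7.rank)
    (h1 : ∀ r ∈ e7Reps.getD i [], h8sW chevE7 w r ∈ e7ncL.getD j [])
    (h2 : ∀ r ∈ e7Reps.getD j [], h8sW chevE7 w₂ r ∈ e7ncL.getD i [])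
    (h3 : ∀ r < chevE7.nroots, h8sW chevE7 w₂ (h8sW chevE7 w r) = r)
    (h4 : ∀ r < chevE7.nroots, h8sW chevE7 w (h8sW chevE7 w₂ r) = r) : False := by
  have hA := h8reflAll chevE7 h8e7_mem
  have key : ∀ r ∈ e7Reps.getD j [], ∀ s ∈ e7Reps.getD j [], r ≠ s →
      h8sW chevE7 w₂ r ≠ h8sW chevE7 w₂ s ∧
        gtIpL chevE7 (h8sW chevE7 w₂ r) (h8sW chevE7 w₂ s) = 0 := by
    intro r hr s hs hne
    exact e7ncc_img w w₂ hw₂ h4 r s (e7ncc_lt j hj r hr) (e7ncc_lt j hj s hs) hne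
      (e7ncc_orth j hj r hr s hs hne)
  have h125 : (125 : ℕ) < chevE7.nroots := by decide
  have ht : h8sW chevE7 w 125 < 126 := h8sW_lt chevE7 hA w hw 125 h125
  have e : ∀ r < 126, gtIpL chevE7 125 (h8sW chevE7 w₂ r) =
      gtIpL chevE7 (h8sW chevE7 w 125) r := by
    intro r hr
    have := gt_ipL_inv chevE7 hA e7_gtChk e7_gtSymChk w₂ hw₂ (h8sW chevE7 w 125) r ht hr
    rw [h3 125 h125] at this
    exact this
  interval_cases j
  · omega
  · -- `j = 1`
    interval_cases i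
    obtain ⟨hne, _⟩ := key 118 (by decide) 121 (by decide) (by decide)
    exact e7ncc_L0 _ (h2 118 (by decide)) _ (h2 121 (by decide)) hne
  · -- `j = 2`
    obtain ⟨n12, o12⟩ := key 114 (by decide) 116 (by decide) (by decide)
    obtain ⟨n13, o13⟩ := key 114 (by decide) 119 (by decide) (by decide)
    obtain ⟨n23, o23⟩ := key 116 (by decide) 119 (by decide) (by decide)
    interval_cases i
    · exact e7ncc_L0 _ (h2 114 (by decide)) _ (h2 116 (by decide)) n12
    · exact e7ncc_L1 _ (h2 114 (by decide)) _ (h2 116 (by decide)) n12 o12 _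
        (h2 119 (by decide)) n13 n23 o13 o23
  · -- `j = 3`
    obtain ⟨n12, o12⟩ := key 92 (by decide) 107 (by decide) (by decide)
    obtain ⟨n13, o13⟩ := key 92 (by decide) 111 (by decide) (by decide)
    obtain ⟨n23, o23⟩ := key 107 (by decide) 111 (by decide) (by decide)
    interval_cases i
    · exact e7ncc_L0 _ (h2 92 (by decide)) _ (h2 107 (by decide)) n12
    · exact e7ncc_L1 _ (h2 92 (by decide)) _ (h2 107 (by decide)) n12 o12 _
        (h2 111 (by decide)) n13 n23 o13 o23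
    · -- the parity invariant
      have hP := (e7ncc_L2 _ (h2 92 (by decide)) _ (h2 107 (by decide)) n12 o12 _
        (h2 111 (by decide)) n13 n23 o13 o23).1
      rw [e 92 (by omega), e 107 (by omega), e 111 (by omega)] at hP
      have := e7ncc_par _ ht
      omega
  · -- `j = 4`
    obtain ⟨n12, o12⟩ := key 92 (by decide) 107 (by decide) (by decide)
    obtain ⟨n13, o13⟩ := key 92 (by decide) 111 (by decide) (by decide)
    obtain ⟨n23, o23⟩ := key 107 (by decide) 111 (by decide) (by decide)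
    obtain ⟨n14, o14⟩ := key 92 (by decide) 119 (by decide) (by decide)
    obtain ⟨n24, o24⟩ := key 107 (by decide) 119 (by decide) (by decide)
    obtain ⟨n34, o34⟩ := key 111 (by decide) 119 (by decide) (by decide)
    interval_cases i
    · exact e7ncc_L0 _ (h2 92 (by decide)) _ (h2 107 (by decide)) n12
    · exact e7ncc_L1 _ (h2 92 (by decide)) _ (h2 107 (by decide)) n12 o12 _
        (h2 111 (by decide)) n13 n23 o13 o23
    · exact (e7ncc_L2 _ (h2 92 (by decide)) _ (h2 107 (by decide)) n12 o12 _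
        (h2 111 (by decide)) n13 n23 o13 o23).2 _ (h2 119 (by decide)) n14 n24 n34 o14 o24 o34
    · exact e7ncc_L3 _ (h2 92 (by decide)) _ (h2 107 (by decide)) n12 o12 _
        (h2 111 (by decide)) n13 n23 o13 o23 _ (h2 119 (by decide)) n14 n24 n34 o14 o24 o34

end Cfsg.Agent.Lib.helper8.E7I
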