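import Mathlib
import Cfsg.Prelude.Def_ChevStructure
import Cfsg.Prelude.Def_ChevE7
import Cfsg.Agent.Lib.Helper29.INVE7NCW
import Cfsg.Agent.Lib.Helper29.INVE7NCF
import Cfsg.Agent.Lib.helper8.ChevIE7p
import Cfsg.Agent.Lib.helper14.INVNCa
import Cfsg.Agent.Lib.helper8.ChevCommAll

/-!
# Project INVE7 (S2181): the five representatives are pairwise non-conjugate
-/

set_option autoImplicit false

namespace Cfsg.Agent.Lib.helper8.E7I

open Cfsg.Lie Cfsg.Lie.ChevalleyDatum Cfsg.Agent.Lib.helper8 Cfsg.Agent.Lib.helper14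
  Cfsg.Agent.Lib.helper14.INV

universe u

variable {F : Type u} [Field F]

theorem e7nc_L0 : ∀ k < 5, ∀ r ∈ e7Reps.getD k [], r ∈ e7ncL.getD k [] ∧ chevE7.IsPosRoot r := by
  decide +kernel

/-- the representatives with indices `i < j` are not conjugate -/
theorem e7_nc_lt [CharP F 2] (hB : H8Base.{u} chevE7) (i j : ℕ) (hij : i < j) (hj : j < 5)
    (g : GL chevE7.Idx F) (hg : g ∈ chevE7.group F)
    (h : g * w1 chevE7 hB (e7Reps.getD i []) * g⁻¹ = w1 chevE7 hB (e7Reps.getD j [])) :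
    False := by
  have hD := h8e7_mem
  have hA := h8reflAll chevE7 hD
  have hC := h8commAll.{u} chevE7 hD
  have hBN := h8bn_all chevE7 hD
  have hW := h8bn2_all chevE7 hD
  obtain ⟨hO, hO2⟩ := h8ord_all chevE7 hD
  have hi : i < 5 := by omega
  obtain ⟨w, w₂, hw, hw₂, h1, h2, h3, h4⟩ := nc_core chevE7 hB hA hC hBN hW hO hO2
    (e7ncL.getD i []) (e7Reps.getD i []) (e7ncL.getD j []) (e7Reps.getD j [])
    (e7nc_fil i hi) (e7nc_fil j hj) (e7ncWs.getD i []) (e7ncWs.getD j [])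
    (e7nc_ws_rank i hi) (e7nc_ws_rank j hj) (e7nc_ws_pos i hi) (e7nc_ws_cl i hi)
    (e7nc_ws_pos j hj) (e7nc_ws_cl j hj) _ _
    (fun b hb => e7nc_form hB i hi b hb) (fun b hb => e7nc_form hB j hj b hb)
    (e7nc_L0 i hi) (e7nc_L0 j hj) g hg h
  exact e7nc_comb i j hij hj w w₂ hw hw₂ h1 h2 h3 h4

theorem e7_reps_idx (a : List ℕ) (ha : a ∈ e7Reps) : ∃ i < 5, a = e7Reps.getD i [] := by
  simp only [e7Reps, List.mem_cons, List.not_mem_nil, or_false] at ha
  rcases ha with rfl | rfl | rfl | rfl | rfl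
  · exact ⟨0, by omega, rfl⟩
  · exact ⟨1, by omega, rfl⟩
  · exact ⟨2, by omega, rfl⟩
  · exact ⟨3, by omega, rfl⟩
  · exact ⟨4, by omega, rfl⟩

/-- NONCONJ : the five representatives are pairwise non-conjugate -/
theorem e7_not_conj [CharP F 2] (hB : H8Base.{u} chevE7) (a b : List ℕ) (ha : a ∈ e7Reps)
    (hb : b ∈ e7Reps) (h : Cj chevE7 (w1 chevE7 hB a : GL chevE7.Idx F) (w1 chevE7 hB b)) :
    a = b := by
  obtain ⟨i, hi, rfl⟩ := e7_reps_idx a ha
  obtain ⟨j, hj, rfl⟩ := e7_reps_idx b hb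
  obtain ⟨g, hg, e⟩ := h
  rcases Nat.lt_trichotomy i j with hij | hij | hij
  · exact (e7_nc_lt hB i j hij hj g hg e).elim
  · rw [hij]
  · have hg' : g⁻¹ ∈ chevE7.group F := Subgroup.inv_mem _ hg
    have e' : g⁻¹ * (w1 chevE7 hB (e7Reps.getD j []) : GL chevE7.Idx F) * g⁻¹⁻¹ =
        w1 chevE7 hB (e7Reps.getD i []) := by
      rw [← e]
      group
    exact (e7_nc_lt hB j i hij hi g⁻¹ hg' e').elim

end Cfsg.Agent.Lib.helper8.E7I
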