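import Mathlib
import Cfsg.Prelude.Def_ChevStructure
import Cfsg.Prelude.Def_ChevE7
import Cfsg.Agent.Lib.helper8.ChevIE7q
import Cfsg.Agent.Lib.Helper25.INVE7MEM
import Cfsg.Agent.Lib.helper8.ChevIE7i

/-!
# Project INVE7 (S2181): the count of the classes of involutions of `E₇(F)`, `char F = 2`
-/

set_option autoImplicit false

namespace Cfsg.Agent.Lib.helper8.E7I

open Cfsg.Lie Cfsg.Lie.ChevalleyDatum Cfsg.Agent.Lib.helper8 Cfsg.Agent.Lib.helper14
  Cfsg.Agent.Lib.helper14.INV

universe u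

variable {F : Type u} [Field F]

theorem e7_reps_get_mem : ∀ i : Fin 5, e7Reps.getD i [] ∈ e7Reps := by decide

theorem e7_reps_get_inj : ∀ i j : Fin 5, e7Reps.getD i [] = e7Reps.getD j [] → i = j := by decide

/-- COUNT : `E₇(F)`, `char F = 2`, has exactly five classes of involutions -/
theorem e7_count [Fintype F] [CharP F 2] :
    (ConjClasses.mk '' {g : ↥(chevE7.group F) | orderOf g = 2}).ncard = 5 := by
  have hD := h8e7_mem
  set hB := h8base_all.{u} chevE7 hD with hBdef
  refine invol_count 5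
    (fun i => ⟨w1 chevE7 hB (e7Reps.getD i []), (e7_mem_order hB _ (e7_reps_get_mem i)).1⟩)
    ?_ ?_ ?_
  · intro i
    rw [← Subgroup.orderOf_coe]
    exact (e7_mem_order hB _ (e7_reps_get_mem i)).2
  · intro i j h
    rw [cj_iff_isConj] at h
    exact e7_reps_get_inj i j
      (e7_not_conj hB _ _ (e7_reps_get_mem i) (e7_reps_get_mem j) h)
  · intro g hg
    have ho : orderOf (g : GL chevE7.Idx F) = 2 := by
      rw [Subgroup.orderOf_coe]
      exact hg
    obtain ⟨a, ha, hc⟩ := e7_invol_class (g : GL chevE7.Idx F) g.2 ho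
    obtain ⟨i, hi, rfl⟩ := e7_reps_idx a ha
    exact ⟨⟨i, hi⟩, (cj_iff_isConj chevE7 _ _).mpr hc⟩

end Cfsg.Agent.Lib.helper8.E7I
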