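import Mathlib
import Cfsg.Agent.Lib.helper8.ChevCox1

set_option autoImplicit false

namespace Cfsg.Agent.Lib.helper8

variable {n : ℕ}

/-- the number of positive elements of `M` made negative by `π` -/
def h8InvM (pos M : Fin n → Prop) [DecidablePred pos] [DecidablePred M]
    (π : Equiv.Perm (Fin n)) : ℕ :=
  (Finset.univ.filter fun r : Fin n => M r ∧ pos r ∧ ¬ pos (π r)).card

theorem h8InvM_one (pos M : Fin n → Prop) [DecidablePred pos] [DecidablePred M] :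
    h8InvM pos M (1 : Equiv.Perm (Fin n)) = 0 := by
  unfold h8InvM
  rw [Finset.card_eq_zero, Finset.filter_eq_empty_iff]
  intro r _ hr
  exact hr.2.2 hr.2.1

theorem h8coxM_add (pos M : Fin n → Prop) [DecidablePred pos] [DecidablePred M]
    (neg : Fin n → Fin n) (hneg : ∀ r, pos (neg r) ↔ ¬ pos r) (hMneg : ∀ r, M r → M (neg r))
    (S S' : Set (Equiv.Perm (Fin n))) (hSS : S' ⊆ S)
    (hSneg : ∀ s ∈ S, ∀ r, s (neg r) = neg (s r)) (hSinv : ∀ s ∈ S, s⁻¹ = s)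
    (hSM : ∀ s ∈ S, ∀ r, M r → M (s r))
    (A : Fin n → Prop) (hApos : ∀ r, A r → M r ∧ pos r) (hAS : ∀ s ∈ S', ∀ r, A r → A (s r))
    (d : Equiv.Perm (Fin n)) (hd1 : d ∈ Subgroup.closure S)
    (hd2 : ∀ r, M r → pos r → ¬ A r → pos (d r))
    (v : Equiv.Perm (Fin n)) (hv : v ∈ Subgroup.closure S') :
    h8InvM pos M (d * v) = h8InvM pos M d + h8InvM pos M v := by
  classical
  have hvA := h8cox_closure_A S' (fun s hs => hSinv s (hSS hs)) A hAS v hv
  have hvM := h8cox_closure_A S' (fun s hs => hSinv s (hSS hs)) M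
    (fun s hs => hSM s (hSS hs)) v hv
  have hvneg := h8cox_closure_neg S neg hSneg v (Subgroup.closure_mono hSS hv)
  have hdneg := h8cox_closure_neg S neg hSneg d hd1
  unfold h8InvM
  rw [← Finset.card_filter_add_card_filter_not (p := fun r => A r)
    (s := Finset.univ.filter fun r : Fin n => M r ∧ pos r ∧ ¬ pos ((d * v) r)),
    Finset.filter_filter, Finset.filter_filter]
  congr 1
  · apply Finset.card_equiv v
    intro r
    rw [Finset.mem_filter, Finset.mem_filter]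
    simp only [Finset.mem_univ, true_and, Equiv.Perm.mul_apply]
    constructor
    · rintro ⟨⟨_, _, h2⟩, h3⟩
      have := hApos _ ((hvA r).mp h3)
      exact ⟨this.1, this.2, h2⟩
    · rintro ⟨h0, h1, h2⟩
      have hA : A (v r) := by
        by_contra hnA
        exact h2 (hd2 _ h0 h1 hnA)
      have hAr := (hvA r).mpr hA
      exact ⟨⟨(hApos r hAr).1, (hApos r hAr).2, h2⟩, hAr⟩
  · congr 1
    apply Finset.filter_congr
    intro r _
    simp only [Equiv.Perm.mul_apply]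
    constructor
    · rintro ⟨⟨h0, h1, h2⟩, h3⟩
      refine ⟨h0, h1, ?_⟩
      intro hp
      exact h2 (hd2 _ ((hvM r).mp h0) hp (fun h => h3 ((hvA r).mpr h)))
    · rintro ⟨h0, h1, h2⟩
      have hnA : ¬ A r := fun h => h2 (hApos _ ((hvA r).mp h)).2
      refine ⟨⟨h0, h1, ?_⟩, hnA⟩
      have h3 : pos (neg (v r)) := (hneg _).mpr h2
      have h3M : M (neg (v r)) := hMneg _ ((hvM r).mp h0)
      have h4 : ¬ A (neg (v r)) := by
        rw [← hvneg, ← hvA]
        intro h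
        exact (hneg r).mp (hApos _ h).2 h1
      have h5 := hd2 _ h3M h3 h4
      rw [hdneg] at h5
      exact (hneg _).mp h5

/-- every element of the big group is a coset representative times an element of the small
group -/
theorem h8coxM_decomp (S S' : Set (Equiv.Perm (Fin n)))
    (hSinv : ∀ s ∈ S, s⁻¹ = s)
    (L : Finset (Equiv.Perm (Fin n)))
    (hL3 : ∀ d ∈ L, ∀ s ∈ S, s * d ∈ L ∨ ∃ s' ∈ S', s * d = d * s')
    (hL4 : (1 : Equiv.Perm (Fin n)) ∈ L)
    (x : Equiv.Perm (Fin n)) (hx : x ∈ Subgroup.closure S) :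
    ∃ d ∈ L, ∃ v ∈ Subgroup.closure S', x = d * v := by
  induction hx using Subgroup.closure_induction_left with
  | one => exact ⟨1, hL4, 1, Subgroup.one_mem _, by group⟩
  | mul_left s hs y _ ih =>
    obtain ⟨d, hd, v, hv, rfl⟩ := ih
    rcases hL3 d hd s hs with h | ⟨s', hs', h⟩
    · exact ⟨s * d, h, v, hv, by group⟩
    · exact ⟨d, hd, s' * v, Subgroup.mul_mem _ (Subgroup.subset_closure hs') hv, by
        rw [← mul_assoc, h, mul_assoc]⟩
  | inv_mul_cancel s hs y _ ih =>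
    obtain ⟨d, hd, v, hv, rfl⟩ := ih
    rw [hSinv s hs]
    rcases hL3 d hd s hs with h | ⟨s', hs', h⟩
    · exact ⟨s * d, h, v, hv, by group⟩
    · exact ⟨d, hd, s' * v, Subgroup.mul_mem _ (Subgroup.subset_closure hs') hv, by
        rw [← mul_assoc, h, mul_assoc]⟩

theorem h8coxM_step (pos M : Fin n → Prop) [DecidablePred pos] [DecidablePred M]
    (neg : Fin n → Fin n) (hneg : ∀ r, pos (neg r) ↔ ¬ pos r) (hMneg : ∀ r, M r → M (neg r))
    (S S' : Set (Equiv.Perm (Fin n))) (hSS : S' ⊆ S)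
    (hSneg : ∀ s ∈ S, ∀ r, s (neg r) = neg (s r)) (hSinv : ∀ s ∈ S, s⁻¹ = s)
    (hSM : ∀ s ∈ S, ∀ r, M r → M (s r))
    (A : Fin n → Prop) (hApos : ∀ r, A r → M r ∧ pos r) (hAS : ∀ s ∈ S', ∀ r, A r → A (s r))
    (L : Finset (Equiv.Perm (Fin n)))
    (hL1 : ∀ d ∈ L, d ∈ Subgroup.closure S)
    (hL2 : ∀ d ∈ L, ∀ r, M r → pos r → ¬ A r → pos (d r))
    (hL3 : ∀ d ∈ L, ∀ s ∈ S, s * d ∈ L ∨ ∃ s' ∈ S', s * d = d * s')
    (hL4 : (1 : Equiv.Perm (Fin n)) ∈ L)
    (hZ : ∀ v ∈ Subgroup.closure S', h8InvM pos M v = 0 → v = 1)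
    (q : ℕ) :
    ∑ π ∈ h8fin (Subgroup.closure S), q ^ h8InvM pos M π =
      (∑ d ∈ L, q ^ h8InvM pos M d) * ∑ v ∈ h8fin (Subgroup.closure S'), q ^ h8InvM pos M v := by
  classical
  have hadd : ∀ d ∈ L, ∀ v ∈ Subgroup.closure S',
      h8InvM pos M (d * v) = h8InvM pos M d + h8InvM pos M v :=
    fun d hd v hv => h8coxM_add pos M neg hneg hMneg S S' hSS hSneg hSinv hSM A hApos hAS d
      (hL1 d hd) (hL2 d hd) v hv
  rw [Finset.sum_mul_sum, ← Finset.sum_product']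
  symm
  apply Finset.sum_bij (fun (p : Equiv.Perm (Fin n) × Equiv.Perm (Fin n)) _ => p.1 * p.2)
  · rintro ⟨d, v⟩ hp
    rw [Finset.mem_product, h8fin_mem] at hp
    rw [h8fin_mem]
    exact Subgroup.mul_mem _ (hL1 d hp.1) (Subgroup.closure_mono hSS hp.2)
  · rintro ⟨d, v⟩ hp ⟨d', v'⟩ hp' e
    rw [Finset.mem_product, h8fin_mem] at hp hp'
    simp only at e
    have hu : v * v'⁻¹ ∈ Subgroup.closure S' := Subgroup.mul_mem _ hp.2 (Subgroup.inv_mem _ hp'.2)
    have e1 : d' = d * (v * v'⁻¹) := by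
      have : d' = (d' * v') * v'⁻¹ := by group
      rw [this, ← e]; group
    have e2 : d = d' * (v * v'⁻¹)⁻¹ := by rw [e1]; group
    have h1 := hadd d hp.1 _ hu
    have h2 := hadd d' hp'.1 _ (Subgroup.inv_mem _ hu)
    rw [← e1] at h1
    rw [← e2] at h2
    have h3 : h8InvM pos M (v * v'⁻¹) = 0 := by omega
    have h4 := hZ _ hu h3
    have h5 : v = v' := by
      have : v = (v * v'⁻¹) * v' := by group
      rw [this, h4, one_mul]
    rw [h4, mul_one] at e1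
    rw [e1, h5]
  · intro x hx
    rw [h8fin_mem] at hx
    obtain ⟨d, hd, v, hv, rfl⟩ := h8coxM_decomp S S' hSinv L hL3 hL4 x hx
    exact ⟨(d, v), by rw [Finset.mem_product, h8fin_mem]; exact ⟨hd, hv⟩, rfl⟩
  · rintro ⟨d, v⟩ hp
    rw [Finset.mem_product, h8fin_mem] at hp
    simp only
    rw [hadd d hp.1 v hp.2, pow_add]

/-- the triviality of the elements without inversions passes up one level -/
theorem h8coxM_zero_up (pos M : Fin n → Prop) [DecidablePred pos] [DecidablePred M]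
    (neg : Fin n → Fin n) (hneg : ∀ r, pos (neg r) ↔ ¬ pos r) (hMneg : ∀ r, M r → M (neg r))
    (S S' : Set (Equiv.Perm (Fin n))) (hSS : S' ⊆ S)
    (hSneg : ∀ s ∈ S, ∀ r, s (neg r) = neg (s r)) (hSinv : ∀ s ∈ S, s⁻¹ = s)
    (hSM : ∀ s ∈ S, ∀ r, M r → M (s r))
    (A : Fin n → Prop) (hApos : ∀ r, A r → M r ∧ pos r) (hAS : ∀ s ∈ S', ∀ r, A r → A (s r))
    (L : Finset (Equiv.Perm (Fin n)))
    (hL1 : ∀ d ∈ L, d ∈ Subgroup.closure S)
    (hL2 : ∀ d ∈ L, ∀ r, M r → pos r → ¬ A r → pos (d r))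
    (hL3 : ∀ d ∈ L, ∀ s ∈ S, s * d ∈ L ∨ ∃ s' ∈ S', s * d = d * s')
    (hL4 : (1 : Equiv.Perm (Fin n)) ∈ L)
    (hL0 : ∀ d ∈ L, h8InvM pos M d = 0 → d = 1)
    (hZ : ∀ v ∈ Subgroup.closure S', h8InvM pos M v = 0 → v = 1) :
    ∀ x ∈ Subgroup.closure S, h8InvM pos M x = 0 → x = 1 := by
  intro x hx h0
  obtain ⟨d, hd, v, hv, rfl⟩ := h8coxM_decomp S S' hSinv L hL3 hL4 x hx
  rw [h8coxM_add pos M neg hneg hMneg S S' hSS hSneg hSinv hSM A hApos hAS d (hL1 d hd)
    (hL2 d hd) v hv] at h0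
  rw [hL0 d hd (by omega), hZ v hv (by omega), mul_one]

end Cfsg.Agent.Lib.helper8
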