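import Mathlib
import Cfsg.Prelude.Def_ChevStructure
import Cfsg.Prelude.Def_ChevE8
import Cfsg.Agent.Lib.helper8.ChevTabCoxE8S
import Cfsg.Agent.Lib.helper8.ChevTw1
import Cfsg.Agent.Lib.helper8.ChevReflAll
import Cfsg.Agent.Lib.helper8.ChevBaseAll
import Cfsg.Agent.Lib.helper8.ChevBNAll2
import Cfsg.Agent.Lib.helper8.ChevOrdAll

set_option autoImplicit false

namespace Cfsg.Agent.Lib.helper8

open Cfsg.Lie Cfsg.Lie.ChevalleyDatum

theorem h8e8_mem : chevE8 ∈ [chevG2, chevB2, chevD4, chevF4, chevE6, chevE7, chevE8] := by simp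

/-- fast evaluation of a word on a root of `E₈` -/
def h8e8sW (w : List ℕ) (s : ℕ) : ℕ := w.foldr (fun i acc => h8sgS h8cxS_E8 240 i acc) s

theorem h8e8sW_nil (s : ℕ) : h8e8sW [] s = s := rfl

theorem h8e8sW_append (w1 w2 : List ℕ) (s : ℕ) :
    h8e8sW (w1 ++ w2) s = h8e8sW w1 (h8e8sW w2 s) := by
  unfold h8e8sW
  rw [List.foldr_append]

theorem h8e8sW_eq (hA : H8ReflAll chevE8) (w : List ℕ) (hw : ∀ i ∈ w, i < chevE8.rank) (s : ℕ)
    (hs : s < chevE8.nroots) : h8e8sW w s = h8sW chevE8 w s := by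
  induction w with
  | nil => rfl
  | cons i w ih =>
    have hw' : ∀ j ∈ w, j < chevE8.rank := fun j hj => hw j (List.mem_cons_of_mem _ hj)
    have hi := hw i List.mem_cons_self
    show h8sgS h8cxS_E8 240 i (h8e8sW w s) = chevE8.reflectRoot i (h8sW chevE8 w s)
    rw [ih hw']
    have e := h8sgS_eq chevE8 h8cxS_E8 h8cxSchk_E8 i hi (h8sW chevE8 w s)
    have e2 := h8sg_eq chevE8 i (fun s hs => h8refl_lt chevE8 hA i hi s hs) (by decide)
      (h8sW chevE8 w s) (h8sW_lt chevE8 hA w hw' s hs)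
    rw [← e2, ← e]
    rfl

theorem h8e8_wPerm_val (hA : H8ReflAll chevE8) (w : List ℕ) (hw : ∀ i ∈ w, i < chevE8.rank)
    (r : Fin chevE8.nroots) : (h8wPerm chevE8 hA w r).val = h8e8sW w r.val := by
  rw [h8wPerm_val chevE8 hA w hw r, h8e8sW_eq hA w hw r.val r.2]

theorem h8e8sW_lt (hA : H8ReflAll chevE8) (w : List ℕ) (hw : ∀ i ∈ w, i < chevE8.rank) (s : ℕ)
    (hs : s < chevE8.nroots) : h8e8sW w s < 240 := by
  rw [h8e8sW_eq hA w hw s hs]
  exact h8sW_lt chevE8 hA w hw s hs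

theorem h8e8_pos_iff : ∀ r < 240, decide (chevE8.IsPosRoot r) = decide (120 ≤ r) := by
  decide +kernel

theorem h8e8_pos_iff' (r : ℕ) (hr : r < 240) : chevE8.IsPosRoot r ↔ 120 ≤ r := by
  have := h8e8_pos_iff r hr
  rwa [decide_eq_decide] at this

theorem h8wPerm_appE (D : ChevalleyDatum) (hA : H8ReflAll D) (w1 w2 : List ℕ) :
    h8wPerm D hA (w1 ++ w2) = h8wPerm D hA w1 * h8wPerm D hA w2 := by
  unfold h8wPerm
  rw [List.map_append, List.prod_append]

/-- two words with the same fast evaluation give the same permutation -/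
theorem h8e8_wPerm_ext (hA : H8ReflAll chevE8) (w1 w2 : List ℕ)
    (hw1 : ∀ i ∈ w1, i < chevE8.rank) (hw2 : ∀ i ∈ w2, i < chevE8.rank)
    (h : ∀ r < 240, h8e8sW w1 r = h8e8sW w2 r) :
    h8wPerm chevE8 hA w1 = h8wPerm chevE8 hA w2 := by
  apply Equiv.ext
  intro r
  apply Fin.ext
  rw [h8e8_wPerm_val hA w1 hw1, h8e8_wPerm_val hA w2 hw2]
  exact h r.val r.2

theorem h8e8_simple_val : ∀ i < 8, chevE8.simple i =
    [162, 141, 135, 130, 126, 123, 121, 120].getD i 0 := by decide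

/-- two words with the same fast evaluation on the simple roots give the same permutation -/
theorem h8e8_wPerm_ext8 (hA : H8ReflAll chevE8) (w1 w2 : List ℕ)
    (hw1 : ∀ i ∈ w1, i < chevE8.rank) (hw2 : ∀ i ∈ w2, i < chevE8.rank)
    (h : ∀ r ∈ [162, 141, 135, 130, 126, 123, 121, 120], h8e8sW w1 r = h8e8sW w2 r) :
    h8wPerm chevE8 hA w1 = h8wPerm chevE8 hA w2 := by
  have hB := h8base_all.{0} chevE8 h8e8_mem
  have hBN := h8bn_all chevE8 h8e8_mem
  have hW := h8bn2_all chevE8 h8e8_mem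
  obtain ⟨_, hO2⟩ := h8ord_all chevE8 h8e8_mem
  have hx : h8wPerm chevE8 hA w1 ∈ h8W chevE8 hA := (h8W_mem_iff chevE8 hA _).mpr ⟨w1, hw1, rfl⟩
  have hy : h8wPerm chevE8 hA w2 ∈ h8W chevE8 hA := (h8W_mem_iff chevE8 hA _).mpr ⟨w2, hw2, rfl⟩
  have hv := h8W_simple_pos chevE8 hB hA hBN hW hO2
    ((h8wPerm chevE8 hA w2)⁻¹ * h8wPerm chevE8 hA w1)
    (Subgroup.mul_mem _ (Subgroup.inv_mem _ hy) hx) (by
      intro i
      have e : h8wPerm chevE8 hA w1 (h8simF chevE8 hBN i) =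
          h8wPerm chevE8 hA w2 (h8simF chevE8 hBN i) := by
        apply Fin.ext
        rw [h8e8_wPerm_val hA w1 hw1, h8e8_wPerm_val hA w2 hw2]
        apply h
        show chevE8.simple i.val ∈ _
        have hi : i.val < 8 := i.2
        rw [h8e8_simple_val i.val hi]
        interval_cases i.val <;> simp
      rw [Equiv.Perm.mul_apply, e]
      have e2 : (h8wPerm chevE8 hA w2)⁻¹ ((h8wPerm chevE8 hA w2) (h8simF chevE8 hBN i)) =
          h8simF chevE8 hBN i := by simp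
      rw [e2]
      exact h8simple_pos chevE8 hBN i.val i.2)
  have : h8wPerm chevE8 hA w1 = h8wPerm chevE8 hA w2 * ((h8wPerm chevE8 hA w2)⁻¹ *
      h8wPerm chevE8 hA w1) := by group
  rw [this, hv, mul_one]

end Cfsg.Agent.Lib.helper8
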