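import Mathlib
import Cfsg.Prelude.Def_ChevStructure
import Cfsg.Prelude.Def_ChevE8
import Cfsg.Agent.Lib.helper8.ChevInvE8a
import Cfsg.Agent.Lib.helper8.ChevInvE8b

set_option autoImplicit false

namespace Cfsg.Agent.Lib.helper8

open Cfsg.Lie Cfsg.Lie.ChevalleyDatum

/-- expansion of a word in the generators into a word in the simple reflections -/
def h8e8Flat (G : List (List ℕ)) (gw : List ℕ) : List ℕ := gw.flatMap fun j => G.getD j []

def h8e8IsA (par phi : List Bool) (r : ℕ) : Bool :=
  !par.getD r false && decide (120 ≤ r) && !phi.getD r false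

/-- restricted length of a word -/
def h8e8LenM (par : List Bool) (w : List ℕ) : ℕ :=
  ((List.range 240).filter fun r =>
    !par.getD r false && (decide (120 ≤ r) && !decide (120 ≤ h8e8sW w r))).length

def h8e8Key (w : List ℕ) : ℕ :=
  [162, 141, 135, 130, 126, 123, 121, 120].foldr (fun s acc => h8e8sW w s + 256 * acc) 0

/-- the conditions on one generator word -/
def h8e8GenB (par : List Bool) (w : List ℕ) : Bool :=
  (w.all fun i => decide (i < 8)) && (w.reverse == w) &&
    (List.range 240).all fun r =>
      (par.getD (h8e8sW w r) false == par.getD r false) &&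
      (h8e8sW w (239 - r) == 239 - h8e8sW w r)

def h8e8GenChk (G : List (List ℕ)) (par : List Bool) : Bool :=
  (G.all (h8e8GenB par)) &&
  (List.range 240).all fun r => par.getD (239 - r) false == par.getD r false

theorem h8e8GenB_nil (par : List Bool) : h8e8GenB par [] = true := by
  unfold h8e8GenB
  simp [h8e8sW_nil]

theorem h8e8Gen_prop (G : List (List ℕ)) (par : List Bool) (h : h8e8GenChk G par = true)
    (j : ℕ) : h8e8GenB par (G.getD j []) = true := by
  unfold h8e8GenChk at h
  rw [Bool.and_eq_true, List.all_eq_true] at h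
  by_cases hj : j < G.length
  · rw [List.getD_eq_getElem _ _ hj]
    exact h.1 _ (List.getElem_mem hj)
  · rw [List.getD_eq_default _ _ (by omega)]
    exact h8e8GenB_nil par

theorem h8e8GenB_lt (par : List Bool) (w : List ℕ) (h : h8e8GenB par w = true) :
    ∀ i ∈ w, i < chevE8.rank := by
  unfold h8e8GenB at h
  simp only [Bool.and_eq_true, List.all_eq_true, decide_eq_true_eq] at h
  exact h.1.1

theorem h8e8Flat_lt (G : List (List ℕ)) (par : List Bool) (h : h8e8GenChk G par = true)
    (gw : List ℕ) : ∀ i ∈ h8e8Flat G gw, i < chevE8.rank := by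
  intro i hi
  unfold h8e8Flat at hi
  rw [List.mem_flatMap] at hi
  obtain ⟨j, _, hij⟩ := hi
  exact h8e8GenB_lt par _ (h8e8Gen_prop G par h j) i hij

theorem h8e8Flat_cons (G : List (List ℕ)) (j : ℕ) (gw : List ℕ) :
    h8e8Flat G (j :: gw) = G.getD j [] ++ h8e8Flat G gw := by
  unfold h8e8Flat
  rw [List.flatMap_cons]

/-- the set of the first `k` generators -/
def h8e8Sk (hA : H8ReflAll chevE8) (G : List (List ℕ)) (k : ℕ) :
    Set (Equiv.Perm (Fin chevE8.nroots)) :=
  {π | ∃ j < k, π = h8wPerm chevE8 hA (G.getD j [])}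

/-- the checks for one level of the chain -/
def h8e8LvChk (G : List (List ℕ)) (par phi : List Bool) (k : ℕ) (Lw cert : List (List ℕ)) :
    Bool :=
  (Lw.all fun gw => gw.all fun j => decide (j < k)) &&
  (Lw.head? == some []) &&
  ((List.range (k - 1)).all fun j => (List.range 240).all fun r =>
      !(h8e8IsA par phi r) || h8e8IsA par phi (h8e8sW (G.getD j []) r)) &&
  (Lw.all fun gw => (List.range 240).all fun r =>
      par.getD r false || !decide (120 ≤ r) || h8e8IsA par phi r ||
        decide (120 ≤ h8e8sW (h8e8Flat G gw) r)) &&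
  ((List.range Lw.length).all fun a => (List.range k).all fun j =>
      if (cert.getD a []).getD j 0 < Lw.length then
        [162, 141, 135, 130, 126, 123, 121, 120].all fun r =>
          h8e8sW (G.getD j [] ++ h8e8Flat G (Lw.getD a [])) r ==
            h8e8sW (h8e8Flat G (Lw.getD ((cert.getD a []).getD j 0) [])) r
      else
        decide ((cert.getD a []).getD j 0 - Lw.length < k - 1) &&
        [162, 141, 135, 130, 126, 123, 121, 120].all fun r =>
          h8e8sW (G.getD j [] ++ h8e8Flat G (Lw.getD a [])) r ==
            h8e8sW (h8e8Flat G (Lw.getD a []) ++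
              G.getD ((cert.getD a []).getD j 0 - Lw.length) []) r) &&
  (Lw.tail.all fun gw => decide (h8e8LenM par (h8e8Flat G gw) ≠ 0)) &&
  h8nodupB (Lw.map fun gw => h8e8Key (h8e8Flat G gw))

end Cfsg.Agent.Lib.helper8
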