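import Mathlib
import Cfsg.Prelude.Def_ChevStructure
import Cfsg.Prelude.Def_ChevE8
import Cfsg.Agent.Lib.helper8.ChevInvE8c

set_option autoImplicit false

namespace Cfsg.Agent.Lib.helper8

open Cfsg.Lie Cfsg.Lie.ChevalleyDatum

theorem h8e8_InvM_eq (hA : H8ReflAll chevE8) (par : List Bool) (w : List ℕ)
    (hw : ∀ i ∈ w, i < chevE8.rank) :
    h8InvM (fun r : Fin chevE8.nroots => 120 ≤ r.val)
      (fun r : Fin chevE8.nroots => par.getD r.val false = false) (h8wPerm chevE8 hA w) =
      h8e8LenM par w := by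
  unfold h8InvM h8e8LenM
  have e : ∀ r : Fin chevE8.nroots, (par.getD r.val false = false ∧ 120 ≤ r.val ∧
      ¬ 120 ≤ ((h8wPerm chevE8 hA w) r).val) ↔
      (fun s : ℕ => par.getD s false = false ∧ 120 ≤ s ∧ ¬ 120 ≤ h8e8sW w s) r.val := by
    intro r
    rw [h8e8_wPerm_val hA w hw r]
  rw [Finset.filter_congr (fun r _ => e r)]
  rw [h8card_fin_filter chevE8.nroots
    (fun s : ℕ => par.getD s false = false ∧ 120 ≤ s ∧ ¬ 120 ≤ h8e8sW w s)]
  congr 1
  apply List.filter_congr
  intro r _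
  simp only [Bool.decide_and, Bool.decide_eq_false, decide_not]

theorem h8e8_key_eq (hA : H8ReflAll chevE8) (w1 w2 : List ℕ)
    (hw1 : ∀ i ∈ w1, i < chevE8.rank) (hw2 : ∀ i ∈ w2, i < chevE8.rank)
    (h : h8wPerm chevE8 hA w1 = h8wPerm chevE8 hA w2) : h8e8Key w1 = h8e8Key w2 := by
  have hv : ∀ s (hs : s < chevE8.nroots), h8e8sW w1 s = h8e8sW w2 s := by
    intro s hs
    rw [← h8e8_wPerm_val hA w1 hw1 ⟨s, hs⟩, ← h8e8_wPerm_val hA w2 hw2 ⟨s, hs⟩, h]
  unfold h8e8Key
  simp only [List.foldr_cons, List.foldr_nil]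
  rw [hv 162 (by decide), hv 141 (by decide), hv 135 (by decide), hv 130 (by decide),
    hv 126 (by decide), hv 123 (by decide), hv 121 (by decide), hv 120 (by decide)]

theorem h8e8_gen_props (hA : H8ReflAll chevE8) (G : List (List ℕ)) (par : List Bool)
    (hG : h8e8GenChk G par = true) (j : ℕ) :
    (∀ i ∈ G.getD j [], i < chevE8.rank) ∧
    (h8wPerm chevE8 hA (G.getD j []))⁻¹ = h8wPerm chevE8 hA (G.getD j []) ∧
    (∀ r : Fin chevE8.nroots, par.getD r.val false = false →
      par.getD (h8wPerm chevE8 hA (G.getD j []) r).val false = false) ∧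
    (∀ r : Fin chevE8.nroots, h8wPerm chevE8 hA (G.getD j []) ⟨239 - r.val, by
      have := r.2
      have e : chevE8.nroots = 240 := rfl
      omega⟩ = ⟨239 - (h8wPerm chevE8 hA (G.getD j []) r).val, by
      have e : chevE8.nroots = 240 := rfl
      omega⟩) := by
  have h := h8e8Gen_prop G par hG j
  have hlt := h8e8GenB_lt par _ h
  unfold h8e8GenB at h
  simp only [Bool.and_eq_true, List.all_eq_true, decide_eq_true_eq, beq_iff_eq,
    List.mem_range] at h
  obtain ⟨⟨_, hpal⟩, hr⟩ := h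
  refine ⟨hlt, ?_, ?_, ?_⟩
  · rw [h8wPerm_inv, hpal]
  · intro r hr0
    rw [h8e8_wPerm_val hA _ hlt r, (hr r.val r.2).1]
    exact hr0
  · intro r
    apply Fin.ext
    rw [h8e8_wPerm_val hA _ hlt]
    show h8e8sW (G.getD j []) (239 - r.val) = 239 - (h8wPerm chevE8 hA (G.getD j []) r).val
    rw [h8e8_wPerm_val hA _ hlt r]
    exact (hr r.val r.2).2

theorem h8e8_flat_mem (hA : H8ReflAll chevE8) (G : List (List ℕ)) (k : ℕ) (gw : List ℕ)
    (hgw : ∀ j ∈ gw, j < k) :
    h8wPerm chevE8 hA (h8e8Flat G gw) ∈ Subgroup.closure (h8e8Sk hA G k) := by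
  induction gw with
  | nil => exact Subgroup.one_mem _
  | cons j gw ih =>
    rw [h8e8Flat_cons, h8wPerm_appE]
    apply Subgroup.mul_mem
    · apply Subgroup.subset_closure
      exact ⟨j, hgw j List.mem_cons_self, rfl⟩
    · exact ih (fun i hi => hgw i (List.mem_cons_of_mem _ hi))

/-- one level of the chain of reflection subgroups -/
theorem h8e8_level (hA : H8ReflAll chevE8) (G : List (List ℕ)) (par : List Bool)
    (hG : h8e8GenChk G par = true) (phi : List Bool) (k : ℕ) (Lw cert : List (List ℕ))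
    (hchk : h8e8LvChk G par phi k Lw cert = true)
    (hZ : ∀ v ∈ Subgroup.closure (h8e8Sk hA G (k - 1)),
      h8InvM (fun r : Fin chevE8.nroots => 120 ≤ r.val)
        (fun r : Fin chevE8.nroots => par.getD r.val false = false) v = 0 → v = 1) (q : ℕ) :
    (∑ π ∈ h8fin (Subgroup.closure (h8e8Sk hA G k)),
        q ^ h8InvM (fun r : Fin chevE8.nroots => 120 ≤ r.val)
          (fun r : Fin chevE8.nroots => par.getD r.val false = false) π =
      (Lw.map fun gw => q ^ h8e8LenM par (h8e8Flat G gw)).sum *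
        ∑ v ∈ h8fin (Subgroup.closure (h8e8Sk hA G (k - 1))),
          q ^ h8InvM (fun r : Fin chevE8.nroots => 120 ≤ r.val)
            (fun r : Fin chevE8.nroots => par.getD r.val false = false) v) ∧
    (∀ v ∈ Subgroup.closure (h8e8Sk hA G k),
      h8InvM (fun r : Fin chevE8.nroots => 120 ≤ r.val)
        (fun r : Fin chevE8.nroots => par.getD r.val false = false) v = 0 → v = 1) := by
  classical
  have e240 : chevE8.nroots = 240 := rfl
  unfold h8e8LvChk at hchk
  simp only [Bool.and_eq_true] at hchk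
  obtain ⟨⟨⟨⟨⟨⟨c1, c5⟩, c4⟩, c3⟩, c2⟩, c6⟩, c7⟩ := hchk
  rw [List.all_eq_true] at c1
  have hletters : ∀ gw ∈ Lw, ∀ j ∈ gw, j < k := by
    intro gw hgw j hj
    have := c1 gw hgw
    rw [List.all_eq_true] at this
    have := this j hj
    rwa [decide_eq_true_eq] at this
  have hflt : ∀ gw : List ℕ, ∀ i ∈ h8e8Flat G gw, i < chevE8.rank := h8e8Flat_lt G par hG
  have hgp := h8e8_gen_props hA G par hG
  have hGpar := hG
  unfold h8e8GenChk at hGpar
  rw [Bool.and_eq_true, List.all_eq_true, List.all_eq_true] at hGpar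
  have hparneg : ∀ r < 240, par.getD (239 - r) false = par.getD r false := by
    intro r hr
    have := hGpar.2 r (List.mem_range.mpr hr)
    rwa [beq_iff_eq] at this
  -- the data of the step
  set pos : Fin chevE8.nroots → Prop := fun r => 120 ≤ r.val with hpos
  set M : Fin chevE8.nroots → Prop := fun r => par.getD r.val false = false with hM
  set neg : Fin chevE8.nroots → Fin chevE8.nroots := fun r => ⟨239 - r.val, by
    have := r.2
    omega⟩ with hnegdef
  set A : Fin chevE8.nroots → Prop := fun r => h8e8IsA par phi r.val = true with hAdef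
  set L : Finset (Equiv.Perm (Fin chevE8.nroots)) :=
    (Lw.map fun gw => h8wPerm chevE8 hA (h8e8Flat G gw)).toFinset with hLdef
  have hneg : ∀ r, pos (neg r) ↔ ¬ pos r := by
    intro r
    have := r.2
    show 120 ≤ 239 - r.val ↔ ¬ 120 ≤ r.val
    omega
  have hMneg : ∀ r, M r → M (neg r) := by
    intro r hr
    show par.getD (239 - r.val) false = false
    rw [hparneg r.val r.2]
    exact hr
  have hSS : h8e8Sk hA G (k - 1) ⊆ h8e8Sk hA G k := by
    rintro π ⟨j, hj, rfl⟩
    exact ⟨j, by omega, rfl⟩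
  have hSneg : ∀ s ∈ h8e8Sk hA G k, ∀ r, s (neg r) = neg (s r) := by
    rintro s ⟨j, _, rfl⟩ r
    exact (hgp j).2.2.2 r
  have hSinv : ∀ s ∈ h8e8Sk hA G k, s⁻¹ = s := by
    rintro s ⟨j, _, rfl⟩
    exact (hgp j).2.1
  have hSM : ∀ s ∈ h8e8Sk hA G k, ∀ r, M r → M (s r) := by
    rintro s ⟨j, _, rfl⟩ r hr
    exact (hgp j).2.2.1 r hr
  have hApos : ∀ r, A r → M r ∧ pos r := by
    intro r hr
    have h := hr
    simp only [hAdef] at h
    unfold h8e8IsA at h
    simp only [Bool.and_eq_true, Bool.not_eq_true', decide_eq_true_eq] at h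
    exact ⟨h.1.1, h.1.2⟩
  have hAS : ∀ s ∈ h8e8Sk hA G (k - 1), ∀ r, A r → A (s r) := by
    rintro s ⟨j, hj, rfl⟩ r hr
    rw [List.all_eq_true] at c4
    have h1 := c4 j (List.mem_range.mpr hj)
    rw [List.all_eq_true] at h1
    have h2 := h1 r.val (List.mem_range.mpr r.2)
    show h8e8IsA par phi (h8wPerm chevE8 hA (G.getD j []) r).val = true
    rw [h8e8_wPerm_val hA _ (hgp j).1 r]
    have hr' : h8e8IsA par phi r.val = true := hr
    rw [hr'] at h2
    simpa using h2
  have hL1 : ∀ d ∈ L, d ∈ Subgroup.closure (h8e8Sk hA G k) := by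
    intro d hd
    rw [hLdef, List.mem_toFinset, List.mem_map] at hd
    obtain ⟨gw, hgw, rfl⟩ := hd
    exact h8e8_flat_mem hA G k gw (hletters gw hgw)
  have hL2 : ∀ d ∈ L, ∀ r, M r → pos r → ¬ A r → pos (d r) := by
    intro d hd r hMr hpr hAr
    rw [hLdef, List.mem_toFinset, List.mem_map] at hd
    obtain ⟨gw, hgw, rfl⟩ := hd
    rw [List.all_eq_true] at c3
    have h1 := c3 gw hgw
    rw [List.all_eq_true] at h1
    have h2 := h1 r.val (List.mem_range.mpr r.2)
    show 120 ≤ (h8wPerm chevE8 hA (h8e8Flat G gw) r).val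
    rw [h8e8_wPerm_val hA _ (hflt gw) r]
    have hMr' : par.getD r.val false = false := hMr
    have hpr' : 120 ≤ r.val := hpr
    have hAr' : h8e8IsA par phi r.val = false := by
      rw [← Bool.not_eq_true]
      exact hAr
    rw [hMr', hAr'] at h2
    simpa [hpr'] using h2
  have hL3 : ∀ d ∈ L, ∀ s ∈ h8e8Sk hA G k,
      s * d ∈ L ∨ ∃ s' ∈ h8e8Sk hA G (k - 1), s * d = d * s' := by
    intro d hd s hs
    rw [hLdef, List.mem_toFinset, List.mem_map] at hd
    obtain ⟨gw, hgw, rfl⟩ := hd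
    obtain ⟨j, hj, rfl⟩ := hs
    obtain ⟨a, ha, rfl⟩ := List.getElem_of_mem hgw
    rw [List.all_eq_true] at c2
    have h1 := c2 a (List.mem_range.mpr ha)
    rw [List.all_eq_true] at h1
    have h2 := h1 j (List.mem_range.mpr hj)
    rw [List.getD_eq_getElem _ _ ha] at h2
    rw [← h8wPerm_appE]
    have hlt1 : ∀ i ∈ G.getD j [] ++ h8e8Flat G Lw[a], i < chevE8.rank := by
      intro i hi
      rcases List.mem_append.mp hi with h | h
      · exact (hgp j).1 i h
      · exact hflt _ i h
    by_cases hc : (cert.getD a []).getD j 0 < Lw.length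
    · left
      rw [if_pos hc, List.all_eq_true] at h2
      rw [hLdef, List.mem_toFinset, List.mem_map]
      refine ⟨Lw.getD ((cert.getD a []).getD j 0) [], ?_, ?_⟩
      · rw [List.getD_eq_getElem _ _ hc]
        exact List.getElem_mem hc
      · symm
        apply h8e8_wPerm_ext8 hA _ _ hlt1 (hflt _)
        intro r hr
        have := h2 r hr
        rwa [beq_iff_eq] at this
    · right
      rw [if_neg hc, Bool.and_eq_true, decide_eq_true_eq, List.all_eq_true] at h2
      refine ⟨h8wPerm chevE8 hA (G.getD ((cert.getD a []).getD j 0 - Lw.length) []),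
        ⟨_, h2.1, rfl⟩, ?_⟩
      rw [← h8wPerm_appE]
      apply h8e8_wPerm_ext8 hA _ _ hlt1
      · intro i hi
        rcases List.mem_append.mp hi with h | h
        · exact hflt _ i h
        · exact (hgp _).1 i h
      · intro r hr
        have := h2.2 r hr
        rwa [beq_iff_eq] at this
  have hhead : ([] : List ℕ) ∈ Lw := by
    rw [beq_iff_eq] at c5
    exact List.mem_of_mem_head? c5
  have hL4 : (1 : Equiv.Perm (Fin chevE8.nroots)) ∈ L := by
    rw [hLdef, List.mem_toFinset, List.mem_map]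
    exact ⟨[], hhead, rfl⟩
  have hL0 : ∀ d ∈ L, h8InvM pos M d = 0 → d = 1 := by
    intro d hd h0
    rw [hLdef, List.mem_toFinset, List.mem_map] at hd
    obtain ⟨gw, hgw, rfl⟩ := hd
    rw [h8e8_InvM_eq hA par _ (hflt gw)] at h0
    cases Lw with
    | nil => cases hgw
    | cons a l =>
      rw [List.head?_cons, beq_iff_eq, Option.some.injEq] at c5
      subst c5
      rcases List.mem_cons.mp hgw with rfl | hgw'
      · rfl
      · rw [List.tail_cons, List.all_eq_true] at c6
        have := c6 gw hgw'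
        rw [decide_eq_true_eq] at this
        exact absurd h0 this
  have hsumL : ∑ d ∈ L, q ^ h8InvM pos M d =
      (Lw.map fun gw => q ^ h8e8LenM par (h8e8Flat G gw)).sum := by
    have hnd : (Lw.map fun gw => h8wPerm chevE8 hA (h8e8Flat G gw)).Nodup := by
      have hk := h8nodupB_spec _ c7
      have hk2 : (Lw.map fun gw => h8e8Key (h8e8Flat G gw)).Nodup := hk
      rw [List.nodup_map_iff_inj_on (List.Nodup.of_map _ hk2)]
      intro x hx y hy hxy
      exact List.inj_on_of_nodup_map hk2 hx hy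
        (h8e8_key_eq hA _ _ (hflt x) (hflt y) hxy)
    rw [hLdef, List.sum_toFinset _ hnd, List.map_map]
    congr 1
    apply List.map_congr_left
    intro gw _
    show q ^ h8InvM pos M (h8wPerm chevE8 hA (h8e8Flat G gw)) = _
    rw [h8e8_InvM_eq hA par _ (hflt gw)]
  constructor
  · rw [h8coxM_step pos M neg hneg hMneg (h8e8Sk hA G k) (h8e8Sk hA G (k - 1)) hSS hSneg hSinv
      hSM A hApos hAS L hL1 hL2 hL3 hL4 hZ q, hsumL]
  · exact h8coxM_zero_up pos M neg hneg hMneg (h8e8Sk hA G k) (h8e8Sk hA G (k - 1)) hSS hSneg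
      hSinv hSM A hApos hAS L hL1 hL2 hL3 hL4 hL0 hZ

end Cfsg.Agent.Lib.helper8
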