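import Mathlib
import Cfsg.Prelude.Def_ChevStructure
import Cfsg.Prelude.Def_ChevE8
import Cfsg.Agent.Lib.helper8.ChevInvE8d

set_option autoImplicit false

namespace Cfsg.Agent.Lib.helper8

open Cfsg.Lie Cfsg.Lie.ChevalleyDatum

def h8e8GS : List (List ℕ) := [[3], [2], [1], [4], [5], [6], [7], [0, 2, 3, 4, 5, 6, 1, 3, 4, 5, 2, 3, 4, 1, 3, 2, 0, 2, 3, 1, 4, 3, 2, 5, 4, 3, 1, 6, 5, 4, 3, 2, 0]]

def h8e8ParS : List Bool := [false, false, false, false, false, false, false, false, false, false, false, false, false, false, true, true, true, true, true, true, true, true, true, true, true, true, true, true, true, true, true, true, true, true, true, true, true, true, true, true, true, true, true, true, true, true, true, true, true, true, true, true, true, true, true, true, true, true, true, true, true, true, true, true, true, true, true, true, true, true, true, true, true, true, true, true, true, true, false, false, false, false, false, false, false, false, false, false, false, false, false, false, false, false, false, false, false, false, false, false, false, false, false, false, false, false, false, false, false, false, false, false, false, false, false, false, false, false, false, false, false, false, false, false, false, false, false, false, false, false, false, false, false, false, false, false, false, false, false, false, false, false, false, false, false, false, false, false, false, false, false, false, false, false, false, false, false, false, false,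 false, false, false, true, true, true, true, true, true, true, true, true, true, true, true, true, true, true, true, true, true, true, true, true, true, true, true, true, true, true, true, true, true, true, true, true, true, true, true, true, true, true, true, true, true, true, true, true, true, true, true, true, true, true, true, true, true, true, true, true, true, true, true, true, true, true, true, false, false, false, false, false, false, false, false, false, false, false, false, false, false]

theorem h8e8GenChkS : h8e8GenChk h8e8GS h8e8ParS = true := by decide +kernel

def h8e8PhiS_1 : List Bool := [false, false, false, false, false, false, false, false, false, false, false, false, false, false, false, false, false, false, false, false, false, false, false, false, false, false, false, false, false, false, false, false, false, false, false, false, false, false, false, false, false, false, false, false, false, false, false, false, false, false, false, false, false, false, false, false, false, false, false, false, false, false, false, false, false, false, false, false, false, false, false, false, false, false, false, false, false, false, false, false, false, false, false, false, false, false, false, false, false, false, false, false, false, false, false, false, false, false, false, false, false, false, false, false, false, false, false, false, false, false, false, false, false, false, false, false, false, false, false, false, false, false, false,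 false, false, false, false, false, false, false, false, false, false, false, false, false, false, false, false, false, false, false, false, false, false, false, false, false, false, false, false, false, false, false, false, false, false, false, false, false, false, false, false, false, false, false, false, false, false, false, false, false, false, false, false, false, false, false, false, false, false, false, false, false, false, false, false, false, false, false, false, false, false, false, false, false, false, false, false, false, false, false, false, false, false, false, false, false, false, false, false, false, false, false, false, false, false, false, false, false, false, false, false, false, false, false, false, false, false, false, false, false, false, false, false, false, false, false, false, false]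

def h8e8LwS_1 : List (List ℕ) := [[], [0]]

def h8e8CertS_1 : List (List ℕ) := [[1], [0]]

theorem h8e8LvChkS_1 : h8e8LvChk h8e8GS h8e8ParS h8e8PhiS_1 1 h8e8LwS_1 h8e8CertS_1 = true := by decide +kernel

def h8e8PhiS_2 : List Bool := [false, false, false, false, false, false, false, false, false, false, false, false, false, false, false, false, false, false, false, false, false, false, false, false, false, false, false, false, false, false, false, false, false, false, false, false, false, false, false, false, false, false, false, false, false, false, false, false, false, false, false, false, false, false, false, false, false, false, false, false, false, false, false, false, false, false, false, false, false, false, false, false, false, false, false, false, false, false, false, false, false, false, false, false, false, false, false, false, false, false, false, false, false, false, false, false, false, false, false, false, false, false, false, false, false, false, false, false, false, true, false, false, false, false, false, false, false, false, false, false, false, false, false, false, false, false, false, false, false, false, true, false, false, false, false, false, false, false, false, false, false, false, false, false, false, false, false, false, false, false, false, false, false, false, false, false, false, false, false, false, false, false, false, false, false, false, false, false, false, false, false, false, false, false, false, false, false,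 false, false, false, false, false, false, false, false, false, false, false, false, false, false, false, false, false, false, false, false, false, false, false, false, false, false, false, false, false, false, false, false, false, false, false, false, false, false, false, false, false, false, false, false, false, false, false, false, false, false, false, false, false, false, false, false, false, false, false, false, false, false, false]

def h8e8LwS_2 : List (List ℕ) := [[], [1], [0, 1]]

def h8e8CertS_2 : List (List ℕ) := [[3, 1], [2, 0], [1, 3]]

theorem h8e8LvChkS_2 : h8e8LvChk h8e8GS h8e8ParS h8e8PhiS_2 2 h8e8LwS_2 h8e8CertS_2 = true := by decide +kernel

def h8e8PhiS_3 : List Bool := [false, false, false, false, false, false, false, false, false, false, false, false, false, false, false, false, false, false, false, false, false, false, false, false, false, false, false, false, false, false, false, false, false, false, false, false, false, false, false, false, false, false, false, false, false, false, false, false, false, false, false, false, false, false, false, false, false, false, false, false, false, false, false, false, false, false, false, false, false, false, false, false, false, false, false, false, false, false, false, false, false, false, false, false, false, false, false, false, false, false, false, false, false, false, false, false, false, false, false, false, false, false, false, true, true, false, false, false, false, true, false,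 false, false, false, false, false, false, false, false, false, false, false, false, false, false, false, false, false, false, false, true, false, false, false, false, true, true, false, false, false, false, false, false, false, false, false, false, false, false, false, false, false, false, false, false, false, false, false, false, false, false, false, false, false, false, false, false, false, false, false, false, false, false, false, false, false, false, false, false, false, false, false, false, false, false, false, false, false, false, false, false, false, false, false, false, false, false, false, false, false, false, false, false, false, false, false, false, false, false, false, false, false, false, false, false, false, false, false, false, false, false, false, false, false, false, false, false, false, false, false, false, false, false, false, false, false, false, false, false, false]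

def h8e8LwS_3 : List (List ℕ) := [[], [2], [0, 2], [1, 0, 2]]

def h8e8CertS_3 : List (List ℕ) := [[4, 5, 1], [2, 5, 0], [1, 3, 4], [5, 2, 4]]

theorem h8e8LvChkS_3 : h8e8LvChk h8e8GS h8e8ParS h8e8PhiS_3 3 h8e8LwS_3 h8e8CertS_3 = true := by decide +kernel

def h8e8PhiS_4 : List Bool := [false, false, false, false, false, false, false, false, false, false, false, false, false, false, false, false, false, false, false, false, false, false, false, false, false, false, false, false, false, false, false, false, false, false, false, false, false, false, false, false, false, false, false, false, false, false, false, false, false, false, false, false, false, false, false, false, false, false, false, false, false, false, false, false, false, false, false, false, false, false, false, false, false, false, false, false, false, false, false, false, false, false, false, false, false, false, false, false, false, false, false, false, true, false, false, false, false, true, true, false, false, false, false, true, true, false, false, false, false, true, false, false, false, false, false, false, false, false, false, false, false, false, false, false, false, false, false, false, false, false, true, false, false, false, false, true, true, false, false, false, false, true, true, false, false, false, false, true, false, false, false, false, false, false, false, false, false, false, false, false, false, false, false, false, false, false, false, false, false, false, false,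 false, false, false, false, false, false, false, false, false, false, false, false, false, false, false, false, false, false, false, false, false, false, false, false, false, false, false, false, false, false, false, false, false, false, false, false, false, false, false, false, false, false, false, false, false, false, false, false, false, false, false, false, false, false, false, false, false, false, false, false, false, false, false, false, false, false, false, false, false]

def h8e8LwS_4 : List (List ℕ) := [[], [3], [0, 3], [1, 0, 3], [2, 0, 3], [2, 1, 0, 3], [0, 2, 1, 0, 3], [3, 0, 2, 1, 0, 3]]

def h8e8CertS_4 : List (List ℕ) := [[8, 9, 10, 1], [2, 9, 10, 0], [1, 3, 4, 8], [9, 2, 5, 8], [10, 5, 2, 8], [6, 4, 3, 8], [5, 10, 9, 7], [8, 10, 9, 6]]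

theorem h8e8LvChkS_4 : h8e8LvChk h8e8GS h8e8ParS h8e8PhiS_4 4 h8e8LwS_4 h8e8CertS_4 = true := by decide +kernel

def h8e8PhiS_5 : List Bool := [false, false, false, false, false, false, false, false, false, false, false, false, false, false, false, false, false, false, false, false, false, false, false, false, false, false, false, false, false, false, false, false, false, false, false, false, false, false, false, false, false, false, false, false, false, false, false, false, false, false, false, false, false, false, false, false, false, false, false, false, false, false, false, false, false, false, false, false, false, false, false, false, false, false, false, false, false, false, false, false, false, false, false, false, false, false, false, true, false, false, false, true, true, false, false, false, true, true, true, false, false, false, true, true, true, false, false, false, true, true, false, false, false, true, false, false, false, false, false, false, false, false, false, false, false, false, true, false, false, false, true, true, false, false, false, true, true, true, false, false, false, true, true, true, false, false, false, true, true, false, false, false, true, false, false, false, false, false, false, false, false, false, false, false, false, false, false, false, false, false, false, false, false, false, false, false, false, false, false, false, false, false, false, false, false, false, false, false, false, false, false, false, false,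 false, false, false, false, false, false, false, false, false, false, false, false, false, false, false, false, false, false, false, false, false, false, false, false, false, false, false, false, false, false, false, false, false, false, false, false, false, false, false, false, false, false, false, false, false, false, false]

def h8e8LwS_5 : List (List ℕ) := [[], [4], [3, 4], [0, 3, 4], [1, 0, 3, 4], [2, 0, 3, 4], [2, 1, 0, 3, 4], [0, 2, 1, 0, 3, 4], [3, 0, 2, 1, 0, 3, 4], [4, 3, 0, 2, 1, 0, 3, 4]]

def h8e8CertS_5 : List (List ℕ) := [[10, 11, 12, 13, 1], [10, 11, 12, 2, 0], [3, 11, 12, 1, 13], [2, 4, 5, 10, 13], [11, 3, 6, 10, 13], [12, 6, 3, 10, 13], [7, 5, 4, 10, 13], [6, 12, 11, 8, 13], [10, 12, 11, 7, 9], [10, 12, 11, 13, 8]]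

theorem h8e8LvChkS_5 : h8e8LvChk h8e8GS h8e8ParS h8e8PhiS_5 5 h8e8LwS_5 h8e8CertS_5 = true := by decide +kernel

def h8e8PhiS_6 : List Bool := [false, false, false, false, false, false, false, false, false, false, false, false, false, false, false, false, false, false, false, false, false, false, false, false, false, false, false, false, false, false, false, false, false, false, false, false, false, false, false, false, false, false, false, false, false, false, false, false, false, false, false, false, false, false, false, false, false, false, false, false, false, false, false, false, false, false, false, false, false, false, false, false, false, false, false, false, false, false, false, false, false, false, false, true, false, false, true, true, false, false, true, true, true, false, false, true, true, true, true, false, false, true, true, true, true, false, false, true, true, true, false, false, true, true, false, false, true, false, false, false, false, false, false, true, false, false, true, true, false, false, true, true, true, false, false, true, true, true, true, false, false, true, true, true, true, false, false, true, true, true, false, false, true, true, false, false, true, false, false, false, false, false, false, false, false, false, false, false, false, false, false, false, false, false, false, false, false, false, false, false, false, false, false, false, false, false, false, false, false, false, false, false, false, false, false,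 false, false, false, false, false, false, false, false, false, false, false, false, false, false, false, false, false, false, false, false, false, false, false, false, false, false, false, false, false, false, false, false, false, false, false, false, false, false, false, false, false, false, false, false, false]

def h8e8LwS_6 : List (List ℕ) := [[], [5], [4, 5], [3, 4, 5], [0, 3, 4, 5], [1, 0, 3, 4, 5], [2, 0, 3, 4, 5], [2, 1, 0, 3, 4, 5], [0, 2, 1, 0, 3, 4, 5], [3, 0, 2, 1, 0, 3, 4, 5], [4, 3, 0, 2, 1, 0, 3, 4, 5], [5, 4, 3, 0, 2, 1, 0, 3, 4, 5]]

def h8e8CertS_6 : List (List ℕ) := [[12, 13, 14, 15, 16, 1], [12, 13, 14, 15, 2, 0], [12, 13, 14, 3, 1, 16], [4, 13, 14, 2, 15, 16], [3, 5, 6, 12, 15, 16], [13, 4, 7, 12, 15, 16], [14, 7, 4, 12, 15, 16], [8, 6, 5, 12, 15, 16], [7, 14, 13, 9, 15, 16], [12, 14, 13, 8, 10, 16], [12, 14, 13, 15, 9, 11], [12, 14, 13, 15, 16, 10]]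

theorem h8e8LvChkS_6 : h8e8LvChk h8e8GS h8e8ParS h8e8PhiS_6 6 h8e8LwS_6 h8e8CertS_6 = true := by decide +kernel

def h8e8PhiS_7 : List Bool := [false, false, false, false, false, false, false, false, false, false, false, false, false, false, false, false, false, false, false, false, false, false, false, false, false, false, false, false, false, false, false, false, false, false, false, false, false, false, false, false, false, false, false, false, false, false, false, false, false, false, false, false, false, false, false, false, false, false, false, false, false, false, false, false, false, false, false, false, false, false, false, false, false, false, false, false, false, false, false, false, true, false, true, true, false, true, true, true, false, true, true, true, true, false, true, true, true, true, true, false, true, true, true, true, true, false, true, true, true, true, false, true, true, true, false, true, true, false, true, false, false, true, false, true, true, false, true, true, true, false, true, true, true, true, false, true, true, true, true, true, false, true, true, true, true, true, false, true, true, true, true, false, true, true, true, false, true, true, false, true, false, false, false, false, false, false, false, false, false, false, false, false, false, false, false, false, false, false, false, false, false, false, false, false, false, false, false, false, false, false, false, false, false, false, false, false, false, false,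 false, false, false, false, false, false, false, false, false, false, false, false, false, false, false, false, false, false, false, false, false, false, false, false, false, false, false, false, false, false, false, false, false, false, false, false, false, false, false, false, false, false]

def h8e8LwS_7 : List (List ℕ) := [[], [6], [5, 6], [4, 5, 6], [3, 4, 5, 6], [0, 3, 4, 5, 6], [1, 0, 3, 4, 5, 6], [2, 0, 3, 4, 5, 6], [2, 1, 0, 3, 4, 5, 6], [0, 2, 1, 0, 3, 4, 5, 6], [3, 0, 2, 1, 0, 3, 4, 5, 6], [4, 3, 0, 2, 1, 0, 3, 4, 5, 6], [5, 4, 3, 0, 2, 1, 0, 3, 4, 5, 6], [6, 5, 4, 3, 0, 2, 1, 0, 3, 4, 5, 6]]

def h8e8CertS_7 : List (List ℕ) := [[14, 15, 16, 17, 18, 19, 1], [14, 15, 16, 17, 18, 2, 0], [14, 15, 16, 17, 3, 1, 19], [14, 15, 16, 4, 2, 18, 19], [5, 15, 16, 3, 17, 18, 19], [4, 6, 7, 14, 17, 18, 19], [15, 5, 8, 14, 17, 18, 19], [16, 8, 5, 14, 17, 18, 19], [9, 7, 6, 14, 17, 18, 19], [8, 16, 15, 10, 17, 18, 19], [14, 16, 15, 9, 11, 18, 19], [14, 16, 15, 17, 10, 12, 19], [14, 16, 15, 17, 18, 11, 13], [14, 16, 15, 17, 18, 19, 12]]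

theorem h8e8LvChkS_7 : h8e8LvChk h8e8GS h8e8ParS h8e8PhiS_7 7 h8e8LwS_7 h8e8CertS_7 = true := by decide +kernel

def h8e8PhiS_8 : List Bool := [false, false, false, false, false, false, false, false, false, false, false, false, false, false, false, false, false, false, false, false, false, false, false, false, false, false, false, false, false, false, false, false, false, false, false, false, false, false, false, false, false, false, false, false, false, false, false, false, false, false, false, false, false, false, false, false, false, false, false, false, false, false, false, false, false, false, false, false, false, false, false, false, false, false, false, false, false, false, true, true, true, true, true, true, true, true, true, true, true, true, true, true, true, true, true, true, true, true, true, true, true, true, true, true, true, true, true, true, true, true, true, true, true, true, true, true, true, true, true, true, true, true, true, true, true, true, true, true, true, true, true, true, true, true, true, true, true, true, true, true, true, true, true, true, true, true, true, true, true, true, true, true, true, true, true, true, true, true, true, true, true, true, false, false, false, false, false, false, false, false, false, false, false, false, false, false, false, false, false, false, false, false, false, false, false, false, false, false, false, false, false, false, false, false, false, false, false, false, false, false, false, false,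 false, false, false, false, false, false, false, false, false, false, false, false, false, false, false, false, false, false, false, false, false, false, false, false, false, false, false, false, false, false, false, false, false, false, false, false, false, false]

def h8e8LwS_8 : List (List ℕ) := [[], [7], [6, 7], [5, 6, 7], [4, 5, 6, 7], [3, 4, 5, 6, 7], [0, 3, 4, 5, 6, 7], [1, 0, 3, 4, 5, 6, 7], [2, 0, 3, 4, 5, 6, 7], [2, 1, 0, 3, 4, 5, 6, 7], [0, 2, 1, 0, 3, 4, 5, 6, 7], [3, 0, 2, 1, 0, 3, 4, 5, 6, 7], [4, 3, 0, 2, 1, 0, 3, 4, 5, 6, 7], [5, 4, 3, 0, 2, 1, 0, 3, 4, 5, 6, 7], [6, 5, 4, 3, 0, 2, 1, 0, 3, 4, 5, 6, 7], [7, 6, 5, 4, 3, 0, 2, 1, 0, 3, 4, 5, 6, 7]]

def h8e8CertS_8 : List (List ℕ) := [[16, 17, 18, 19, 20, 21, 22, 1], [16, 17, 18, 19, 20, 21, 2, 0], [16, 17, 18, 19, 20, 3, 1, 22], [16, 17, 18, 19, 4, 2, 21, 22], [16, 17, 18, 5, 3, 20, 21, 22], [6, 17, 18, 4, 19, 20, 21, 22], [5, 7, 8, 16, 19, 20, 21, 22], [17, 6, 9, 16, 19, 20, 21, 22], [18, 9, 6, 16, 19, 20, 21, 22], [10, 8, 7, 16, 19, 20, 21, 22], [9, 18, 17, 11, 19, 20, 21, 22], [16, 18, 17, 10, 12, 20, 21, 22], [16, 18, 17, 19, 11, 13, 21, 22], [16, 18, 17, 19, 20, 12, 14, 22], [16, 18, 17, 19, 20, 21, 13, 15], [16, 18, 17, 19, 20, 21, 22, 14]]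

theorem h8e8LvChkS_8 : h8e8LvChk h8e8GS h8e8ParS h8e8PhiS_8 8 h8e8LwS_8 h8e8CertS_8 = true := by decide +kernel

end Cfsg.Agent.Lib.helper8
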