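import Mathlib
import Cfsg.Prelude.Def_ChevStructure
import Cfsg.Prelude.Def_ChevE8
import Cfsg.Agent.Lib.helper8.ChevInvE8d

set_option autoImplicit false

namespace Cfsg.Agent.Lib.helper8

open Cfsg.Lie Cfsg.Lie.ChevalleyDatum

def h8e8GT : List (List ℕ) := [[3], [2], [1], [4], [5], [0], [6], [7, 6, 5, 4, 3, 2, 1, 3, 4, 5, 6, 7, 0, 2, 3, 4, 5, 6, 1, 3, 4, 5, 2, 3, 4, 1, 3, 2, 0, 2, 3, 1, 4, 3, 2, 5, 4, 3, 1, 6, 5, 4, 3, 2, 0, 7, 6, 5, 4, 3, 1, 2, 3, 4, 5, 6, 7]]

def h8e8ParT : List Bool := [false, true, true, true, true, true, true, true, true, true, true, true, true, false, true, true, true, true, true, true, false, true, true, true, true, false, true, true, true, false, true, true, false, true, false, false, true, true, true, false, true, true, false, true, false, false, true, true, false, true, false, false, true, false, false, false, true, true, false, true, false, false, true, false, false, false, true, false, false, false, false, true, false, false, false, false, false, false, true, true, false, true, false, false, true, false, false, false, true, false, false, false, false, true, false, false, false, false, false, true, false, false, false, false, false, true, false, false, false, false, true, false, false, false, true, false,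 false, true, false, true, true, false, true, false, false, true, false, false, false, true, false, false, false, false, true, false, false, false, false, false, true, false, false, false, false, false, true, false, false, false, false, true, false, false, false, true, false, false, true, false, true, true, false, false, false, false, false, false, true, false, false, false, false, true, false, false, false, true, false, false, true, false, true, true, false, false, false, true, false, false, true, false, true, true, false, false, true, false, true, true, false, true, true, true, false, false, true, false, true, true, false, true, true, true, false, true, true, true, true, false, true, true, true, true, true, true, false, true, true, true, true, true, true, true, true, true, true, true, true, false]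

theorem h8e8GenChkT : h8e8GenChk h8e8GT h8e8ParT = true := by decide +kernel

def h8e8PhiT_1 : List Bool := [false, false, false, false, false, false, false, false, false, false, false, false, false, false, false, false, false, false, false, false, false, false, false, false, false, false, false, false, false, false, false, false, false, false, false, false, false, false, false, false, false, false, false, false, false, false, false, false, false, false, false, false, false, false, false, false, false, false, false, false, false, false, false, false, false, false, false, false, false, false, false, false, false, false, false, false, false, false, false, false, false, false, false, false, false, false, false, false, false, false, false, false, false, false, false, false, false, false, false, false, false, false, false, false, false, false, false, false, false, false, false, false, false, false, false, false, false, false, false, false, false, false, false, false, false, false, false, false, false, false, false, false, false, false, false, false, false, false, false, false, false, false, false, false, false, false, false, false, false, false, false, false, false, false, false, false, false, false, false, false, false, false, false, false,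 false, false, false, false, false, false, false, false, false, false, false, false, false, false, false, false, false, false, false, false, false, false, false, false, false, false, false, false, false, false, false, false, false, false, false, false, false, false, false, false, false, false, false, false, false, false, false, false, false, false, false, false, false, false, false, false, false, false, false, false, false, false, false, false, false, false, false, false, false, false, false, false, false, false, false, false]

def h8e8LwT_1 : List (List ℕ) := [[], [0]]

def h8e8CertT_1 : List (List ℕ) := [[1], [0]]

theorem h8e8LvChkT_1 : h8e8LvChk h8e8GT h8e8ParT h8e8PhiT_1 1 h8e8LwT_1 h8e8CertT_1 = true := by decide +kernel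

def h8e8PhiT_2 : List Bool := [false, false, false, false, false, false, false, false, false, false, false, false, false, false, false, false, false, false, false, false, false, false, false, false, false, false, false, false, false, false, false, false, false, false, false, false, false, false, false, false, false, false, false, false, false, false, false, false, false, false, false, false, false, false, false, false, false, false, false, false, false, false, false, false, false, false, false, false, false, false, false, false, false, false, false, false, false, false, false, false, false, false, false, false, false, false, false, false, false, false, false, false, false, false, false, false, false, false, false, false, false, false, false, false, false, false, false, false, false, true, false, false, false, false, false, false, false, false, false, false, false, false, false, false, false, false, false, false, false, false, true, false, false, false, false, false, false, false, false, false, false, false, false, false, false, false, false, false, false, false, false, false, false, false, false, false, false, false, false, false, false, false, false, false, false, false, false, false, false, false, false, false, false, false, false,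 false, false, false, false, false, false, false, false, false, false, false, false, false, false, false, false, false, false, false, false, false, false, false, false, false, false, false, false, false, false, false, false, false, false, false, false, false, false, false, false, false, false, false, false, false, false, false, false, false, false, false, false, false, false, false, false, false, false, false, false, false, false, false, false, false]

def h8e8LwT_2 : List (List ℕ) := [[], [1], [0, 1]]

def h8e8CertT_2 : List (List ℕ) := [[3, 1], [2, 0], [1, 3]]

theorem h8e8LvChkT_2 : h8e8LvChk h8e8GT h8e8ParT h8e8PhiT_2 2 h8e8LwT_2 h8e8CertT_2 = true := by decide +kernel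

def h8e8PhiT_3 : List Bool := [false, false, false, false, false, false, false, false, false, false, false, false, false, false, false, false, false, false, false, false, false, false, false, false, false, false, false, false, false, false, false, false, false, false, false, false, false, false, false, false, false, false, false, false, false, false, false, false, false, false, false, false, false, false, false, false, false, false, false, false, false, false, false, false, false, false, false, false, false, false, false, false, false, false, false, false, false, false, false, false, false, false, false, false, false, false, false, false, false, false, false, false, false, false, false, false, false, false, false, false, false, false, false, true, true, false, false, false, false, true, false, false, false, false, false, false, false, false, false, false, false, false, false, false, false, false, false, false, false, false, true, false, false, false, false, true, true, false, false, false, false, false, false, false, false, false, false, false, false, false, false, false, false, false, false, false, false, false, false, false, false, false, false, false, false, false, false, false, false, false, false, false, false, false, false, false,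 false, false, false, false, false, false, false, false, false, false, false, false, false, false, false, false, false, false, false, false, false, false, false, false, false, false, false, false, false, false, false, false, false, false, false, false, false, false, false, false, false, false, false, false, false, false, false, false, false, false, false, false, false, false, false, false, false, false, false, false, false, false, false, false]

def h8e8LwT_3 : List (List ℕ) := [[], [2], [0, 2], [1, 0, 2]]

def h8e8CertT_3 : List (List ℕ) := [[4, 5, 1], [2, 5, 0], [1, 3, 4], [5, 2, 4]]

theorem h8e8LvChkT_3 : h8e8LvChk h8e8GT h8e8ParT h8e8PhiT_3 3 h8e8LwT_3 h8e8CertT_3 = true := by decide +kernel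

def h8e8PhiT_4 : List Bool := [false, false, false, false, false, false, false, false, false, false, false, false, false, false, false, false, false, false, false, false, false, false, false, false, false, false, false, false, false, false, false, false, false, false, false, false, false, false, false, false, false, false, false, false, false, false, false, false, false, false, false, false, false, false, false, false, false, false, false, false, false, false, false, false, false, false, false, false, false, false, false, false, false, false, false, false, false, false, false, false, false, false, false, false, false, false, false, false, false, false, false, false, true, false, false, false, false, true, true, false, false, false, false, true, true, false, false, false, false, true, false, false, false, false, false, false, false, false, false, false, false, false, false, false, false, false, false, false, false, false, true, false, false, false, false, true, true, false, false, false, false, true, true, false, false, false, false, true, false, false, false, false, false, false, false, false, false, false, false, false, false, false, false, false, false, false, false, false, false, false, false, false, false, false, false, false, false,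 false, false, false, false, false, false, false, false, false, false, false, false, false, false, false, false, false, false, false, false, false, false, false, false, false, false, false, false, false, false, false, false, false, false, false, false, false, false, false, false, false, false, false, false, false, false, false, false, false, false, false, false, false, false, false, false, false, false, false, false, false, false, false]

def h8e8LwT_4 : List (List ℕ) := [[], [3], [0, 3], [1, 0, 3], [2, 0, 3], [2, 1, 0, 3], [0, 2, 1, 0, 3], [3, 0, 2, 1, 0, 3]]

def h8e8CertT_4 : List (List ℕ) := [[8, 9, 10, 1], [2, 9, 10, 0], [1, 3, 4, 8], [9, 2, 5, 8], [10, 5, 2, 8], [6, 4, 3, 8], [5, 10, 9, 7], [8, 10, 9, 6]]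

theorem h8e8LvChkT_4 : h8e8LvChk h8e8GT h8e8ParT h8e8PhiT_4 4 h8e8LwT_4 h8e8CertT_4 = true := by decide +kernel

def h8e8PhiT_5 : List Bool := [false, false, false, false, false, false, false, false, false, false, false, false, false, false, false, false, false, false, false, false, false, false, false, false, false, false, false, false, false, false, false, false, false, false, false, false, false, false, false, false, false, false, false, false, false, false, false, false, false, false, false, false, false, false, false, false, false, false, false, false, false, false, false, false, false, false, false, false, false, false, false, false, false, false, false, false, false, false, false, false, false, false, false, false, false, false, false, true, false, false, false, true, true, false, false, false, true, true, true, false, false, false, true, true, true, false, false, false, true, true, false, false, false, true, false, false, false, false, false, false, false, false, false, false, false, false, true, false, false, false, true, true, false, false, false, true, true, true, false, false, false, true, true, true, false, false, false, true, true, false, false, false, true, false, false, false, false, false, false, false, false, false,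 false, false, false, false, false, false, false, false, false, false, false, false, false, false, false, false, false, false, false, false, false, false, false, false, false, false, false, false, false, false, false, false, false, false, false, false, false, false, false, false, false, false, false, false, false, false, false, false, false, false, false, false, false, false, false, false, false, false, false, false, false, false, false, false, false, false, false, false, false, false, false, false, false, false, false, false, false, false]

def h8e8LwT_5 : List (List ℕ) := [[], [4], [3, 4], [0, 3, 4], [1, 0, 3, 4], [2, 0, 3, 4], [2, 1, 0, 3, 4], [0, 2, 1, 0, 3, 4], [3, 0, 2, 1, 0, 3, 4], [4, 3, 0, 2, 1, 0, 3, 4]]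

def h8e8CertT_5 : List (List ℕ) := [[10, 11, 12, 13, 1], [10, 11, 12, 2, 0], [3, 11, 12, 1, 13], [2, 4, 5, 10, 13], [11, 3, 6, 10, 13], [12, 6, 3, 10, 13], [7, 5, 4, 10, 13], [6, 12, 11, 8, 13], [10, 12, 11, 7, 9], [10, 12, 11, 13, 8]]

theorem h8e8LvChkT_5 : h8e8LvChk h8e8GT h8e8ParT h8e8PhiT_5 5 h8e8LwT_5 h8e8CertT_5 = true := by decide +kernel

def h8e8PhiT_6 : List Bool := [false, false, false, false, false, false, false, false, false, false, false, false, false, false, false, false, false, false, false, false, false, false, false, false, false, false, false, false, false, false, false, false, false, false, false, false, false, false, false, false, false, false, false, false, false, false, false, false, false, false, false, false, false, false, false, false, false, false, false, false, false, false, false, false, false, false, false, false, false, false, false, false, false, false, false, false, false, false, false, false, false, false, false, true, false, false, true, true, false, false, true, true, true, false, false, true, true, true, true, false, false, true, true, true, true, false, false, true, true, true, false, false, true, true, false, false, true, false, false, false, false, false, false, true, false, false, true, true,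 false, false, true, true, true, false, false, true, true, true, true, false, false, true, true, true, true, false, false, true, true, true, false, false, true, true, false, false, true, false, false, false, false, false, false, false, false, false, false, false, false, false, false, false, false, false, false, false, false, false, false, false, false, false, false, false, false, false, false, false, false, false, false, false, false, false, false, false, false, false, false, false, false, false, false, false, false, false, false, false, false, false, false, false, false, false, false, false, false, false, false, false, false, false, false, false, false, false, false, false, false, false, false, false, false, false, false, false, false, false, false, false]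

def h8e8LwT_6 : List (List ℕ) := [[], [5], [1, 5], [0, 1, 5], [2, 0, 1, 5], [3, 0, 1, 5], [3, 2, 0, 1, 5], [4, 3, 0, 1, 5], [0, 3, 2, 0, 1, 5], [4, 3, 2, 0, 1, 5], [1, 0, 3, 2, 0, 1, 5], [4, 0, 3, 2, 0, 1, 5], [4, 1, 0, 3, 2, 0, 1, 5], [5, 1, 0, 3, 2, 0, 1, 5], [3, 4, 0, 3, 2, 0, 1, 5], [3, 4, 1, 0, 3, 2, 0, 1, 5], [5, 4, 1, 0, 3, 2, 0, 1, 5], [0, 3, 4, 1, 0, 3, 2, 0, 1, 5], [5, 3, 4, 1, 0, 3, 2, 0, 1, 5], [2, 0, 3, 4, 1, 0, 3, 2, 0, 1, 5], [5, 0, 3, 4, 1, 0, 3, 2, 0, 1, 5], [5, 2, 0, 3, 4, 1, 0, 3, 2, 0, 1, 5], [1, 5, 0, 3, 4, 1, 0, 3, 2, 0, 1, 5], [1, 5, 2, 0, 3, 4, 1, 0, 3, 2, 0, 1, 5], [0, 1, 5, 2, 0, 3, 4, 1, 0, 3, 2, 0, 1, 5], [3, 0, 1, 5, 2, 0, 3, 4, 1, 0, 3, 2, 0, 1, 5], [4, 3, 0, 1, 5, 2, 0, 3, 4, 1, 0, 3, 2, 0, 1, 5]]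

def h8e8CertT_6 : List (List ℕ) := [[27, 28, 29, 30, 31, 1], [27, 2, 29, 30, 31, 0], [3, 1, 29, 30, 31, 28], [2, 27, 4, 5, 31, 28], [29, 27, 3, 6, 31, 28], [30, 27, 6, 3, 7, 28], [8, 27, 5, 4, 9, 28], [30, 27, 9, 31, 5, 28], [6, 10, 30, 29, 11, 28], [11, 27, 7, 31, 6, 28], [27, 8, 30, 29, 12, 13], [9, 12, 30, 14, 8, 28], [27, 11, 30, 15, 10, 16], [27, 28, 30, 29, 16, 10], [31, 15, 30, 11, 29, 28], [17, 14, 30, 12, 29, 18], [27, 28, 30, 18, 13, 12], [15, 31, 19, 27, 29, 20], [20, 28, 30, 16, 29, 15], [30, 31, 17, 27, 29, 21], [18, 22, 21, 27, 29, 17], [30, 23, 20, 27, 29, 19], [28, 20, 23, 27, 29, 31], [24, 21, 22, 27, 29, 31], [23, 30, 28, 25, 29, 31], [27, 30, 28, 24, 26, 31], [27, 30, 28, 29, 25, 31]]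

theorem h8e8LvChkT_6 : h8e8LvChk h8e8GT h8e8ParT h8e8PhiT_6 6 h8e8LwT_6 h8e8CertT_6 = true := by decide +kernel

def h8e8PhiT_7 : List Bool := [false, false, false, false, false, false, false, false, false, false, false, false, false, false, false, false, false, false, false, false, false, false, false, false, false, false, false, false, false, false, false, false, false, false, false, true, false, false, false, false, false, false, false, false, false, true, false, false, false, false, false, true, false, false, true, true, false, false, false, false, false, true, false, false, true, true, false, false, true, true, true, false, false, true, true, true, true, true, false, false, false, false, false, true, false, false, true, true, false, false, true, true, true, false, false, true, true, true, true, false, false, true, true, true, true, false, false, true, true, true, false, false, true, true, false, false, true, false, false, false, false, false, false, true, false, false, true, true, false, false, true, true, true, false, false, true, true, true, true, false, false, true, true, true, true, false, false, true, true, true, false, false, true, true, false, false, true, false, false, false, false, false, true, true, true, true, true, false,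 false, true, true, true, false, false, true, true, false, false, true, false, false, false, false, false, true, true, false, false, true, false, false, false, false, false, true, false, false, false, false, false, false, false, false, false, true, false, false, false, false, false, false, false, false, false, false, false, false, false, false, false, false, false, false, false, false, false, false, false, false, false, false, false, false, false, false, false, false, false, false, false]

def h8e8LwT_7 : List (List ℕ) := [[], [6], [4, 6], [3, 4, 6], [0, 3, 4, 6], [1, 0, 3, 4, 6], [2, 0, 3, 4, 6], [2, 1, 0, 3, 4, 6], [5, 1, 0, 3, 4, 6], [0, 2, 1, 0, 3, 4, 6], [5, 2, 1, 0, 3, 4, 6], [3, 0, 2, 1, 0, 3, 4, 6], [5, 0, 2, 1, 0, 3, 4, 6], [4, 3, 0, 2, 1, 0, 3, 4, 6], [5, 3, 0, 2, 1, 0, 3, 4, 6], [1, 5, 0, 2, 1, 0, 3, 4, 6], [5, 4, 3, 0, 2, 1, 0, 3, 4, 6], [6, 4, 3, 0, 2, 1, 0, 3, 4, 6], [1, 5, 3, 0, 2, 1, 0, 3, 4, 6], [1, 5, 4, 3, 0, 2, 1, 0, 3, 4, 6], [6, 5, 4, 3, 0, 2, 1, 0, 3, 4, 6], [0, 1, 5, 3, 0, 2, 1, 0, 3, 4, 6], [0, 1, 5, 4, 3, 0, 2, 1, 0, 3, 4, 6], [6, 1, 5, 4, 3, 0, 2, 1, 0, 3, 4, 6], [2, 0, 1, 5, 3, 0, 2, 1, 0, 3, 4, 6], [2, 0, 1, 5, 4, 3, 0, 2, 1, 0, 3, 4, 6], [3, 0, 1, 5, 4, 3, 0, 2, 1, 0, 3, 4, 6], [6, 0, 1, 5, 4, 3, 0, 2, 1,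 0, 3, 4, 6], [3, 2, 0, 1, 5, 4, 3, 0, 2, 1, 0, 3, 4, 6], [6, 2, 0, 1, 5, 4, 3, 0, 2, 1, 0, 3, 4, 6], [6, 3, 0, 1, 5, 4, 3, 0, 2, 1, 0, 3, 4, 6], [0, 3, 2, 0, 1, 5, 4, 3, 0, 2, 1, 0, 3, 4, 6], [6, 3, 2, 0, 1, 5, 4, 3, 0, 2, 1, 0, 3, 4, 6], [4, 6, 3, 0, 1, 5, 4, 3, 0, 2, 1, 0, 3, 4, 6], [1, 0, 3, 2, 0, 1, 5, 4, 3, 0, 2, 1, 0, 3, 4, 6], [6, 0, 3, 2, 0, 1, 5, 4, 3, 0, 2, 1, 0, 3, 4, 6], [4, 6, 3, 2, 0, 1, 5, 4, 3, 0, 2, 1, 0, 3, 4, 6], [5, 1, 0, 3, 2, 0, 1, 5, 4, 3, 0, 2, 1, 0, 3, 4, 6], [6, 1, 0, 3, 2, 0, 1, 5, 4, 3, 0, 2, 1, 0, 3, 4, 6], [4, 6, 0, 3, 2, 0, 1, 5, 4, 3, 0, 2, 1, 0, 3, 4, 6], [6, 5, 1, 0, 3, 2, 0, 1, 5, 4, 3, 0, 2, 1, 0, 3, 4, 6], [4, 6, 1, 0, 3, 2, 0, 1, 5, 4, 3, 0, 2, 1, 0, 3, 4, 6], [3, 4, 6, 0, 3, 2, 0, 1, 5, 4, 3, 0, 2, 1, 0, 3, 4, 6], [4, 6, 5, 1, 0, 3, 2, 0, 1, 5, 4, 3, 0, 2, 1, 0, 3, 4, 6], [3, 4, 6, 1, 0, 3, 2, 0, 1, 5, 4, 3, 0, 2, 1, 0, 3, 4, 6], [3, 4, 6, 5, 1, 0, 3, 2, 0, 1, 5, 4, 3, 0, 2, 1, 0, 3, 4, 6], [0, 3, 4, 6, 1, 0, 3, 2, 0, 1, 5, 4, 3, 0, 2, 1, 0, 3, 4, 6], [0, 3, 4, 6, 5, 1, 0, 3, 2, 0, 1, 5, 4, 3, 0, 2, 1, 0, 3, 4, 6], [2, 0, 3, 4, 6, 1, 0, 3, 2, 0, 1, 5, 4, 3, 0, 2, 1, 0, 3, 4, 6], [1, 0, 3, 4, 6, 5, 1, 0, 3, 2, 0, 1, 5, 4, 3, 0, 2, 1, 0, 3, 4, 6], [2, 0, 3, 4, 6, 5, 1, 0, 3, 2, 0, 1, 5, 4, 3, 0, 2,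 1, 0, 3, 4, 6], [2, 1, 0, 3, 4, 6, 5, 1, 0, 3, 2, 0, 1, 5, 4, 3, 0, 2, 1, 0, 3, 4, 6], [0, 2, 1, 0, 3, 4, 6, 5, 1, 0, 3, 2, 0, 1, 5, 4, 3, 0, 2, 1, 0, 3, 4, 6], [3, 0, 2, 1, 0, 3, 4, 6, 5, 1, 0, 3, 2, 0, 1, 5, 4, 3, 0, 2, 1, 0, 3, 4, 6], [4, 3, 0, 2, 1, 0, 3, 4, 6, 5, 1, 0, 3, 2, 0, 1, 5, 4, 3, 0, 2, 1, 0, 3, 4, 6], [6, 4, 3, 0, 2, 1, 0, 3, 4, 6, 5, 1, 0, 3, 2, 0, 1, 5, 4, 3, 0, 2, 1, 0, 3, 4, 6]]

def h8e8CertT_7 : List (List ℕ) := [[56, 57, 58, 59, 60, 61, 1], [56, 57, 58, 59, 2, 61, 0], [56, 57, 58, 3, 1, 61, 60], [4, 57, 58, 2, 59, 61, 60], [3, 5, 6, 56, 59, 61, 60], [57, 4, 7, 56, 59, 8, 60], [58, 7, 4, 56, 59, 61, 60], [9, 6, 5, 56, 59, 10, 60], [57, 61, 10, 56, 59, 5, 60], [7, 58, 57, 11, 59, 12, 60], [12, 61, 8, 56, 59, 7, 60], [56, 58, 57, 9, 13, 14, 60], [10, 15, 57, 14, 59, 9, 60], [56, 58, 57, 59, 11, 16, 17], [56, 18, 57, 12, 16, 11, 60], [61, 12, 57, 18, 59, 58, 60], [56, 19, 57, 59, 14, 13, 20], [56, 58, 57, 59, 60, 20, 13], [21, 14, 57, 15, 19, 58, 60], [22, 16, 57, 59, 18, 58, 23], [56, 23, 57, 59, 60, 17, 16], [18, 56, 24, 61, 22, 58, 60], [19, 56, 25, 26, 21, 58, 27], [27, 20, 57, 59, 60, 58, 19], [57, 56, 21, 61, 25, 58, 60], [57, 56, 22, 28, 24, 58, 29], [59, 56, 28, 22, 61, 58, 30], [23, 56, 29, 30, 60, 58, 22],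 [31, 56, 26, 25, 61, 58, 32], [57, 56, 27, 32, 60, 58, 25], [59, 56, 32, 27, 33, 58, 26], [28, 34, 59, 57, 61, 58, 35], [35, 56, 30, 29, 36, 58, 28], [59, 56, 36, 60, 30, 58, 61], [56, 31, 59, 57, 61, 37, 38], [32, 38, 59, 57, 39, 58, 31], [39, 56, 33, 60, 32, 58, 61], [56, 58, 59, 57, 61, 34, 40], [56, 35, 59, 57, 41, 40, 34], [36, 41, 59, 42, 35, 58, 61], [56, 58, 59, 57, 43, 38, 37], [56, 39, 59, 44, 38, 43, 61], [60, 44, 59, 39, 57, 58, 61], [56, 58, 59, 45, 40, 41, 61], [46, 42, 59, 41, 57, 45, 61], [47, 58, 59, 43, 57, 44, 61], [44, 60, 48, 56, 57, 47, 61], [45, 49, 50, 56, 57, 46, 61], [59, 60, 46, 56, 57, 50, 61], [58, 47, 51, 56, 57, 60, 61], [59, 51, 47, 56, 57, 48, 61], [52, 50, 49, 56, 57, 60, 61], [51, 59, 58, 53, 57, 60, 61], [56, 59, 58, 52, 54, 60, 61], [56, 59, 58, 57, 53, 60, 55], [56, 59, 58, 57, 61, 60, 54]]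

theorem h8e8LvChkT_7 : h8e8LvChk h8e8GT h8e8ParT h8e8PhiT_7 7 h8e8LwT_7 h8e8CertT_7 = true := by decide +kernel

def h8e8PhiT_8 : List Bool := [false, false, false, false, false, false, false, false, false, false, false, false, false, true, false, false, false, false, false, false, true, false, false, false, false, true, false, false, false, true, false, false, true, false, true, true, false, false, false, true, false, false, true, false, true, true, false, false, true, false, true, true, false, true, true, true, false, false, true, false, true, true, false, true, true, true, false, true, true, true, true, false, true, true, true, true, true, true, false, false, true, false, true, true, false, true, true, true, false, true, true, true, true, false, true, true, true, true, true, false, true, true, true, true, true, false, true, true, true, true, false, true, true, true, false, true, true, false, true, false, false, true, false, true, true, false, true, true, true, false, true, true, true, true, false, true, true, true, true, true, false, true, true, true, true, true, false, true, true, true, true, false, true, true, true, false, true, true, false, true, false, false, true, true, true, true, true, true, false, true, true, true, true, false,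 true, true, true, false, true, true, false, true, false, false, true, true, true, false, true, true, false, true, false, false, true, true, false, true, false, false, true, false, false, false, true, true, false, true, false, false, true, false, false, false, true, false, false, false, false, true, false, false, false, false, false, false, true, false, false, false, false, false, false, false, false, false, false, false, false, false]

def h8e8LwT_8 : List (List ℕ) := [[], [7]]

def h8e8CertT_8 : List (List ℕ) := [[2, 3, 4, 5, 6, 7, 8, 1], [2, 3, 4, 5, 6, 7, 8, 0]]

theorem h8e8LvChkT_8 : h8e8LvChk h8e8GT h8e8ParT h8e8PhiT_8 8 h8e8LwT_8 h8e8CertT_8 = true := by decide +kernel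

end Cfsg.Agent.Lib.helper8
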