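import Mathlib
import Cfsg.Prelude.Def_ChevStructure
import Cfsg.Prelude.Def_ChevE8
import Cfsg.Agent.Lib.helper8.ChevInvE8e
import Cfsg.Agent.Lib.helper8.ChevInvE8f
import Cfsg.Agent.Lib.helper8.ChevPE

set_option autoImplicit false

namespace Cfsg.Agent.Lib.helper8

open Cfsg.Lie Cfsg.Lie.ChevalleyDatum

/-- the histogram of restricted lengths of a list of words in the generators -/
def h8e8Hist (G : List (List ℕ)) (par : List Bool) (Lw : List (List ℕ)) : List ℕ :=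
  h8dense (Lw.map fun gw => h8e8LenM par (h8e8Flat G gw))

theorem h8e8Hist_pe (G : List (List ℕ)) (par : List Bool) (Lw : List (List ℕ)) (q : ℕ) :
    (Lw.map fun gw => q ^ h8e8LenM par (h8e8Flat G gw)).sum = h8pe (h8e8Hist G par Lw) q := by
  unfold h8e8Hist
  rw [h8pe_dense, List.map_map]
  rfl

theorem h8e8_Sk_zero (hA : H8ReflAll chevE8) (G : List (List ℕ)) :
    Subgroup.closure (h8e8Sk hA G 0) = ⊥ := by
  have : h8e8Sk hA G 0 = ∅ := by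
    ext π
    simp [h8e8Sk]
  rw [this, Subgroup.closure_empty]

theorem h8e8_level_zero (hA : H8ReflAll chevE8) (G : List (List ℕ)) (par : List Bool) (q : ℕ) :
    (∑ π ∈ h8fin (Subgroup.closure (h8e8Sk hA G 0)),
        q ^ h8InvM (fun r : Fin chevE8.nroots => 120 ≤ r.val)
          (fun r : Fin chevE8.nroots => par.getD r.val false = false) π = 1) ∧
    (∀ v ∈ Subgroup.closure (h8e8Sk hA G 0),
      h8InvM (fun r : Fin chevE8.nroots => 120 ≤ r.val)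
        (fun r : Fin chevE8.nroots => par.getD r.val false = false) v = 0 → v = 1) := by
  rw [h8e8_Sk_zero]
  constructor
  · have : h8fin (⊥ : Subgroup (Equiv.Perm (Fin chevE8.nroots))) = {1} := by
      ext π
      rw [h8fin_mem, Subgroup.mem_bot, Finset.mem_singleton]
    rw [this, Finset.sum_singleton, h8InvM_one, pow_zero]
  · intro v hv _
    exact Subgroup.mem_bot.mp hv

theorem h8e8_polyS : h8pmulL [h8e8Hist h8e8GS h8e8ParS h8e8LwS_8,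
    h8e8Hist h8e8GS h8e8ParS h8e8LwS_7, h8e8Hist h8e8GS h8e8ParS h8e8LwS_6,
    h8e8Hist h8e8GS h8e8ParS h8e8LwS_5, h8e8Hist h8e8GS h8e8ParS h8e8LwS_4,
    h8e8Hist h8e8GS h8e8ParS h8e8LwS_3, h8e8Hist h8e8GS h8e8ParS h8e8LwS_2,
    h8e8Hist h8e8GS h8e8ParS h8e8LwS_1] =
    h8pmulL ([2, 4, 6, 8, 10, 12, 14, 8].map h8ones) := by decide +kernel

/-- the Poincare polynomial of the reflection subgroup with respect to the restricted length -/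
theorem h8e8_chainS (hA : H8ReflAll chevE8) (q : ℕ) :
    (∑ π ∈ h8fin (Subgroup.closure (h8e8Sk hA h8e8GS 8)),
        q ^ h8InvM (fun r : Fin chevE8.nroots => 120 ≤ r.val)
          (fun r : Fin chevE8.nroots => h8e8ParS.getD r.val false = false) π =
      h8pe (h8pmulL ([2, 4, 6, 8, 10, 12, 14, 8].map h8ones)) q) ∧
    (∀ v ∈ Subgroup.closure (h8e8Sk hA h8e8GS 8),
      h8InvM (fun r : Fin chevE8.nroots => 120 ≤ r.val)
        (fun r : Fin chevE8.nroots => h8e8ParS.getD r.val false = false) v = 0 → v = 1) := by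
  obtain ⟨s0, z0⟩ := h8e8_level_zero hA h8e8GS h8e8ParS q
  obtain ⟨s1, z1⟩ := h8e8_level hA h8e8GS h8e8ParS h8e8GenChkS h8e8PhiS_1 1 h8e8LwS_1
    h8e8CertS_1 h8e8LvChkS_1 z0 q
  obtain ⟨s2, z2⟩ := h8e8_level hA h8e8GS h8e8ParS h8e8GenChkS h8e8PhiS_2 2 h8e8LwS_2
    h8e8CertS_2 h8e8LvChkS_2 z1 q
  obtain ⟨s3, z3⟩ := h8e8_level hA h8e8GS h8e8ParS h8e8GenChkS h8e8PhiS_3 3 h8e8LwS_3
    h8e8CertS_3 h8e8LvChkS_3 z2 q
  obtain ⟨s4, z4⟩ := h8e8_level hA h8e8GS h8e8ParS h8e8GenChkS h8e8PhiS_4 4 h8e8LwS_4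
    h8e8CertS_4 h8e8LvChkS_4 z3 q
  obtain ⟨s5, z5⟩ := h8e8_level hA h8e8GS h8e8ParS h8e8GenChkS h8e8PhiS_5 5 h8e8LwS_5
    h8e8CertS_5 h8e8LvChkS_5 z4 q
  obtain ⟨s6, z6⟩ := h8e8_level hA h8e8GS h8e8ParS h8e8GenChkS h8e8PhiS_6 6 h8e8LwS_6
    h8e8CertS_6 h8e8LvChkS_6 z5 q
  obtain ⟨s7, z7⟩ := h8e8_level hA h8e8GS h8e8ParS h8e8GenChkS h8e8PhiS_7 7 h8e8LwS_7
    h8e8CertS_7 h8e8LvChkS_7 z6 q
  obtain ⟨s8, z8⟩ := h8e8_level hA h8e8GS h8e8ParS h8e8GenChkS h8e8PhiS_8 8 h8e8LwS_8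
    h8e8CertS_8 h8e8LvChkS_8 z7 q
  refine ⟨?_, z8⟩
  rw [s8, s7, s6, s5, s4, s3, s2, s1, s0, ← h8e8_polyS, h8pe_pmulL]
  simp only [h8e8Hist_pe, List.map_cons, List.map_nil, List.prod_cons, List.prod_nil, mul_one]

theorem h8e8_polyT : h8pmulL [h8e8Hist h8e8GT h8e8ParT h8e8LwT_8,
    h8e8Hist h8e8GT h8e8ParT h8e8LwT_7, h8e8Hist h8e8GT h8e8ParT h8e8LwT_6,
    h8e8Hist h8e8GT h8e8ParT h8e8LwT_5, h8e8Hist h8e8GT h8e8ParT h8e8LwT_4,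
    h8e8Hist h8e8GT h8e8ParT h8e8LwT_3, h8e8Hist h8e8GT h8e8ParT h8e8LwT_2,
    h8e8Hist h8e8GT h8e8ParT h8e8LwT_1] =
    h8pmulL ([2, 6, 8, 10, 12, 14, 18, 2].map h8ones) := by decide +kernel

/-- the Poincare polynomial of the reflection subgroup with respect to the restricted length -/
theorem h8e8_chainT (hA : H8ReflAll chevE8) (q : ℕ) :
    (∑ π ∈ h8fin (Subgroup.closure (h8e8Sk hA h8e8GT 8)),
        q ^ h8InvM (fun r : Fin chevE8.nroots => 120 ≤ r.val)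
          (fun r : Fin chevE8.nroots => h8e8ParT.getD r.val false = false) π =
      h8pe (h8pmulL ([2, 6, 8, 10, 12, 14, 18, 2].map h8ones)) q) ∧
    (∀ v ∈ Subgroup.closure (h8e8Sk hA h8e8GT 8),
      h8InvM (fun r : Fin chevE8.nroots => 120 ≤ r.val)
        (fun r : Fin chevE8.nroots => h8e8ParT.getD r.val false = false) v = 0 → v = 1) := by
  obtain ⟨s0, z0⟩ := h8e8_level_zero hA h8e8GT h8e8ParT q
  obtain ⟨s1, z1⟩ := h8e8_level hA h8e8GT h8e8ParT h8e8GenChkT h8e8PhiT_1 1 h8e8LwT_1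
    h8e8CertT_1 h8e8LvChkT_1 z0 q
  obtain ⟨s2, z2⟩ := h8e8_level hA h8e8GT h8e8ParT h8e8GenChkT h8e8PhiT_2 2 h8e8LwT_2
    h8e8CertT_2 h8e8LvChkT_2 z1 q
  obtain ⟨s3, z3⟩ := h8e8_level hA h8e8GT h8e8ParT h8e8GenChkT h8e8PhiT_3 3 h8e8LwT_3
    h8e8CertT_3 h8e8LvChkT_3 z2 q
  obtain ⟨s4, z4⟩ := h8e8_level hA h8e8GT h8e8ParT h8e8GenChkT h8e8PhiT_4 4 h8e8LwT_4
    h8e8CertT_4 h8e8LvChkT_4 z3 q
  obtain ⟨s5, z5⟩ := h8e8_level hA h8e8GT h8e8ParT h8e8GenChkT h8e8PhiT_5 5 h8e8LwT_5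
    h8e8CertT_5 h8e8LvChkT_5 z4 q
  obtain ⟨s6, z6⟩ := h8e8_level hA h8e8GT h8e8ParT h8e8GenChkT h8e8PhiT_6 6 h8e8LwT_6
    h8e8CertT_6 h8e8LvChkT_6 z5 q
  obtain ⟨s7, z7⟩ := h8e8_level hA h8e8GT h8e8ParT h8e8GenChkT h8e8PhiT_7 7 h8e8LwT_7
    h8e8CertT_7 h8e8LvChkT_7 z6 q
  obtain ⟨s8, z8⟩ := h8e8_level hA h8e8GT h8e8ParT h8e8GenChkT h8e8PhiT_8 8 h8e8LwT_8
    h8e8CertT_8 h8e8LvChkT_8 z7 q
  refine ⟨?_, z8⟩
  rw [s8, s7, s6, s5, s4, s3, s2, s1, s0, ← h8e8_polyT, h8pe_pmulL]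
  simp only [h8e8Hist_pe, List.map_cons, List.map_nil, List.prod_cons, List.prod_nil, mul_one]

end Cfsg.Agent.Lib.helper8
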