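import Mathlib
import Cfsg.Prelude.Def_ChevStructure
import Cfsg.Prelude.Def_ChevE8
import Cfsg.Agent.Lib.helper8.ChevInvE8g
import Cfsg.Agent.Lib.helper8.ChevCoxDataE8
import Cfsg.Agent.Lib.helper8.ChevCzr6

set_option autoImplicit false

namespace Cfsg.Agent.Lib.helper8

open Cfsg.Lie Cfsg.Lie.ChevalleyDatum

universe u

variable {F : Type u} [Field F]

/-- the sign `±1` of a Boolean -/
def h8sgnB (b : Bool) : F := if b then -1 else 1

theorem h8sgnB_ne (b : Bool) : (h8sgnB b : F) ≠ 0 := by
  unfold h8sgnB
  cases b <;> simp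

theorem h8sgnB_eq_iff (h2 : (2 : F) ≠ 0) (a b : Bool) : (h8sgnB a : F) = h8sgnB b ↔ a = b := by
  have hne : (-1 : F) ≠ 1 := by
    intro h
    apply h2
    have : (2 : F) = 1 - (-1) := by ring
    rw [this, h, sub_self]
  unfold h8sgnB
  cases a <;> cases b <;> simp [hne, hne.symm]

theorem h8sgnB_eq_one_iff (h2 : (2 : F) ≠ 0) (a : Bool) : (h8sgnB a : F) = 1 ↔ a = false := by
  have h := h8sgnB_eq_iff h2 a false
  unfold h8sgnB at h ⊢
  simpa using h

/-- the order of the Weyl group of `E₈` -/
theorem h8e8_W_card (hA : H8ReflAll chevE8) : (h8Wfin chevE8 hA).card = 696729600 := by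
  have h := h8poin_E8 hA 1
  simp only [one_pow, Finset.sum_const, smul_eq_mul, mul_one] at h
  rw [h]
  decide +kernel

/-- the code of the character `par ∘ w` on the simple roots -/
def h8e8Code (par : List Bool) (w : List ℕ) : ℕ :=
  [162, 141, 135, 130, 126, 123, 121, 120].foldr
    (fun s acc => (if par.getD (h8e8sW w s) false then 1 else 0) + 2 * acc) 0

def h8e8OrbChk (par : List Bool) (Orb : List (List ℕ)) : Bool :=
  (Orb.all fun w => w.all fun i => decide (i < 8)) && h8nodupB (Orb.map (h8e8Code par))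

/-- the stabilizer of the character `par` in the Weyl group -/
noncomputable def h8e8Stab (hA : H8ReflAll chevE8) (par : List Bool) :
    Finset (Equiv.Perm (Fin chevE8.nroots)) := by
  classical
  exact (h8Wfin chevE8 hA).filter fun π =>
    ∀ r : Fin chevE8.nroots, par.getD (π r).val false = par.getD r.val false

theorem h8e8Stab_mem (hA : H8ReflAll chevE8) (par : List Bool)
    (π : Equiv.Perm (Fin chevE8.nroots)) : π ∈ h8e8Stab hA par ↔ π ∈ h8W chevE8 hA ∧
      ∀ r : Fin chevE8.nroots, par.getD (π r).val false = par.getD r.val false := by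
  classical
  unfold h8e8Stab
  rw [Finset.mem_filter, h8Wfin_eq, h8fin_mem]

theorem h8e8_stab_le (hA : H8ReflAll chevE8) (par : List Bool) (Orb : List (List ℕ))
    (hOrb : h8e8OrbChk par Orb = true) :
    (h8e8Stab hA par).card * Orb.length ≤ (h8Wfin chevE8 hA).card := by
  classical
  unfold h8e8OrbChk at hOrb
  rw [Bool.and_eq_true, List.all_eq_true] at hOrb
  obtain ⟨hlt0, hnd0⟩ := hOrb
  have hnd := h8nodupB_spec _ hnd0
  have hlt : ∀ w ∈ Orb, ∀ i ∈ w, i < chevE8.rank := by
    intro w hw i hi
    have := hlt0 w hw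
    rw [List.all_eq_true] at this
    have := this i hi
    rwa [decide_eq_true_eq] at this
  have hltk : ∀ k, ∀ i ∈ Orb.getD k [], i < chevE8.rank := by
    intro k
    by_cases hk : k < Orb.length
    · rw [List.getD_eq_getElem _ _ hk]
      exact hlt _ (List.getElem_mem hk)
    · rw [List.getD_eq_default _ _ (by omega)]
      intro i hi
      cases hi
  rw [← Finset.card_range Orb.length, ← Finset.card_product]
  apply Finset.card_le_card_of_injOn
    (fun p : Equiv.Perm (Fin chevE8.nroots) × ℕ => p.1 * h8wPerm chevE8 hA (Orb.getD p.2 []))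
  · rintro ⟨π, k⟩ hp
    rw [Finset.mem_coe, Finset.mem_product, h8e8Stab_mem] at hp
    rw [Finset.mem_coe, h8Wfin_eq, h8fin_mem]
    exact Subgroup.mul_mem _ hp.1.1 ((h8W_mem_iff chevE8 hA _).mpr ⟨_, hltk k, rfl⟩)
  · rintro ⟨π, k⟩ hp ⟨π', k'⟩ hp' e
    rw [Finset.mem_coe, Finset.mem_product, h8e8Stab_mem, Finset.mem_range] at hp hp'
    simp only at e
    have hval : ∀ s < 240, par.getD (h8e8sW (Orb.getD k []) s) false =
        par.getD (h8e8sW (Orb.getD k' []) s) false := by
      intro s hs
      have h1 := hp.1.2 (h8wPerm chevE8 hA (Orb.getD k []) ⟨s, hs⟩)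
      have h2 := hp'.1.2 (h8wPerm chevE8 hA (Orb.getD k' []) ⟨s, hs⟩)
      rw [← Equiv.Perm.mul_apply] at h1 h2
      rw [e] at h1
      rw [h1] at h2
      rw [h8e8_wPerm_val hA _ (hltk k), h8e8_wPerm_val hA _ (hltk k')] at h2
      exact h2
    have hcode : h8e8Code par (Orb.getD k []) = h8e8Code par (Orb.getD k' []) := by
      unfold h8e8Code
      simp only [List.foldr_cons, List.foldr_nil]
      rw [hval 162 (by decide), hval 141 (by decide), hval 135 (by decide), hval 130 (by decide),
        hval 126 (by decide), hval 123 (by decide), hval 121 (by decide), hval 120 (by decide)]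
    have hkk : k = k' := by
      have h1 : (Orb.map (h8e8Code par))[k]'(by rw [List.length_map]; exact hp.2) =
          (Orb.map (h8e8Code par))[k']'(by rw [List.length_map]; exact hp'.2) := by
        rw [List.getElem_map, List.getElem_map]
        rw [List.getD_eq_getElem _ _ hp.2, List.getD_eq_getElem _ _ hp'.2] at hcode
        exact hcode
      exact (List.Nodup.getElem_inj_iff hnd).mp h1
    subst hkk
    have : π = π' := mul_right_cancel e
    rw [this]

end Cfsg.Agent.Lib.helper8
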