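import Mathlib
import Cfsg.Prelude.Def_ChevStructure
import Cfsg.Prelude.Def_ChevE8
import Cfsg.Agent.Lib.helper8.ChevInvE8h

set_option autoImplicit false

namespace Cfsg.Agent.Lib.helper8

open Cfsg.Lie Cfsg.Lie.ChevalleyDatum

universe u

variable {F : Type u} [Field F]

/-- the reflection subgroup lies in the stabilizer -/
theorem h8e8_V_le_stab (hA : H8ReflAll chevE8) (G : List (List ℕ)) (par : List Bool)
    (hG : h8e8GenChk G par = true) (k : ℕ) (v : Equiv.Perm (Fin chevE8.nroots))
    (hv : v ∈ Subgroup.closure (h8e8Sk hA G k)) : v ∈ h8e8Stab hA par := by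
  rw [h8e8Stab_mem]
  have hgp := h8e8_gen_props hA G par hG
  constructor
  · have hle : Subgroup.closure (h8e8Sk hA G k) ≤ h8W chevE8 hA := by
      rw [Subgroup.closure_le]
      rintro s ⟨j, _, rfl⟩
      exact (h8W_mem_iff chevE8 hA _).mpr ⟨_, (hgp j).1, rfl⟩
    exact hle hv
  · have h1 := h8cox_closure_A (h8e8Sk hA G k) (by
      rintro s ⟨j, _, rfl⟩
      exact (hgp j).2.1) (fun r : Fin chevE8.nroots => par.getD r.val false = false) (by
      rintro s ⟨j, _, rfl⟩ r hr
      exact (hgp j).2.2.1 r hr) v hv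
    intro r
    by_cases h3 : par.getD r.val false = false
    · rw [h3, (h1 r).mp h3]
    · have h4 : ¬ par.getD (v r).val false = false := fun h => h3 ((h1 r).mpr h)
      rw [Bool.not_eq_false] at h3 h4
      rw [h3, h4]

theorem h8e8_stab_eq (hA : H8ReflAll chevE8) (G : List (List ℕ)) (par : List Bool)
    (hG : h8e8GenChk G par = true) (Orb : List (List ℕ)) (hOrb : h8e8OrbChk par Orb = true)
    (c : List ℕ)
    (hsum : ∑ π ∈ h8fin (Subgroup.closure (h8e8Sk hA G 8)),
        1 ^ h8InvM (fun r : Fin chevE8.nroots => 120 ≤ r.val)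
          (fun r : Fin chevE8.nroots => par.getD r.val false = false) π = h8pe c 1)
    (hnum : h8pe c 1 * Orb.length = 696729600) (hpos : 0 < Orb.length) :
    h8e8Stab hA par = h8fin (Subgroup.closure (h8e8Sk hA G 8)) := by
  classical
  symm
  apply Finset.eq_of_subset_of_card_le
  · intro v hv
    rw [h8fin_mem] at hv
    exact h8e8_V_le_stab hA G par hG 8 v hv
  · have h1 := h8e8_stab_le hA par Orb hOrb
    rw [h8e8_W_card hA, ← hnum] at h1
    have h2 := Nat.le_of_mul_le_mul_right h1 hpos
    simp only [one_pow, Finset.sum_const, smul_eq_mul, mul_one] at hsum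
    rw [hsum]
    exact h2

/-- the exponent in the contribution of `π` to the order of the centralizer -/
theorem h8e8_qt_card (h2 : (2 : F) ≠ 0) (par : List Bool)
    (π : Equiv.Perm (Fin chevE8.nroots)) :
    Nat.card {x : H8Qt chevE8 π // (h8sgnB (par.getD x.val.val false) : F) = 1} =
      h8InvM (fun r : Fin chevE8.nroots => 120 ≤ r.val)
        (fun r : Fin chevE8.nroots => par.getD r.val false = false) π := by
  classical
  rw [Nat.card_congr (Equiv.subtypeSubtypeEquivSubtypeInter
    (fun r : Fin chevE8.nroots => chevE8.IsPosRoot r.val ∧ ¬ chevE8.IsPosRoot (π r).val)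
    (fun r : Fin chevE8.nroots => (h8sgnB (par.getD r.val false) : F) = 1))]
  have e : ∀ r : Fin chevE8.nroots, ((chevE8.IsPosRoot r.val ∧ ¬ chevE8.IsPosRoot (π r).val) ∧
      (h8sgnB (par.getD r.val false) : F) = 1) ↔
      (par.getD r.val false = false ∧ 120 ≤ r.val ∧ ¬ 120 ≤ (π r).val) := by
    intro r
    rw [h8sgnB_eq_one_iff h2, h8e8_pos_iff' r.val r.2, h8e8_pos_iff' (π r).val (π r).2]
    tauto
  rw [Nat.card_congr (Equiv.subtypeEquivRight e), Nat.card_eq_fintype_card,
    Fintype.card_subtype]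
  rfl

/-- the sum over the Weyl group in the formula for the order of the centralizer -/
theorem h8e8_sum_term (h2 : (2 : F) ≠ 0) (hA : H8ReflAll chevE8) (par : List Bool) (q : ℕ) :
    ∑ π ∈ h8Wfin chevE8 hA,
      h8cenTerm chevE8 (fun r => (h8sgnB (par.getD r false) : F)) q π =
    ∑ π ∈ h8e8Stab hA par, q ^ h8InvM (fun r : Fin chevE8.nroots => 120 ≤ r.val)
        (fun r : Fin chevE8.nroots => par.getD r.val false = false) π := by
  classical
  unfold h8e8Stab
  rw [Finset.sum_filter]
  apply Finset.sum_congr rfl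
  intro π _
  by_cases h : ∀ r : Fin chevE8.nroots, par.getD (π r).val false = par.getD r.val false
  · rw [if_pos h, h8cenTerm_pos chevE8 _ q π (by
      intro r
      rw [h8sgnB_eq_iff h2]
      exact h r), h8e8_qt_card h2 par π]
  · rw [if_neg h, h8cenTerm_neg chevE8 _ q π (by
      intro h'
      apply h
      intro r
      have := h' r
      rwa [h8sgnB_eq_iff h2] at this)]

end Cfsg.Agent.Lib.helper8
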