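import Mathlib

set_option autoImplicit false

namespace Cfsg.Agent.Lib.helper8

set_option maxRecDepth 1000000 in
/-- words for the 1152 elements of the Weyl group of type `F₄`, sorted by their keys -/
def h8f4Words : List (List ℕ) :=
  [[1, 2, 0, 1, 2, 3, 2, 1, 2, 0, 1, 2, 3], [2, 0, 1, 2, 3, 2, 1, 2, 0, 1, 2, 3],
    [1, 2, 0, 1, 2, 3, 2, 1, 2, 0, 1, 2, 3, 0], [2, 1, 2, 3, 2, 1, 2, 0, 1, 2, 3],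
    [2, 0, 1, 2, 3, 2, 1, 2, 0, 1, 2, 3, 0], [2, 1, 2, 3, 2, 1, 2, 0, 1, 2, 3, 0],
    [2, 1, 2, 0, 1, 2, 3, 2, 1, 2, 0, 1, 2, 3], [0, 1, 2, 3, 2, 1, 2, 0, 1, 2, 3],
    [2, 1, 2, 0, 1, 2, 3, 2, 1, 2, 0, 1, 2, 3, 0], [1, 2, 3, 2, 1, 2, 0, 1, 2, 3],
    [0, 1, 2, 3, 2, 1, 2, 0, 1, 2, 3, 0], [1, 2, 3, 2, 1, 2, 0, 1, 2, 3, 0],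
    [2, 1, 2, 0, 1, 2, 3, 2, 1, 2, 0, 1, 2, 3, 1], [0, 1, 2, 3, 2, 1, 2, 0, 1, 2, 3, 1],
    [2, 1, 2, 0, 1, 2, 3, 2, 1, 2, 0, 1, 2, 3, 1, 0], [2, 3, 2, 1, 2, 0, 1, 2, 3],
    [0, 1, 2, 3, 2, 1, 2, 0, 1, 2, 3, 1, 0], [2, 3, 2, 1, 2, 0, 1, 2, 3, 0],
    [1, 2, 0, 1, 2, 3, 2, 1, 2, 0, 1, 2, 3, 1], [2, 0, 1, 2, 3, 2, 1, 2, 0, 1, 2, 3, 1],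
    [1, 2, 0, 1, 2, 3, 2, 1, 2, 0, 1, 2, 3, 1, 0], [3, 2, 1, 2, 0, 1, 2, 3],
    [2, 0, 1, 2, 3, 2, 1, 2, 0, 1, 2, 3, 1, 0], [3, 2, 1, 2, 0, 1, 2, 3, 0],
    [2, 1, 2, 0, 1, 2, 3, 2, 1, 2, 0, 1, 2, 3, 0, 1], [1, 2, 3, 2, 1, 2, 0, 1, 2, 3, 1],
    [2, 1, 2, 0, 1, 2, 3, 2, 1, 2, 0, 1, 2, 3, 0, 1, 0], [2, 3, 2, 1, 2, 0, 1, 2, 3, 1],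
    [1, 2, 3, 2, 1, 2, 0, 1, 2, 3, 1, 0], [2, 3, 2, 1, 2, 0, 1, 2, 3, 1, 0],
    [1, 2, 0, 1, 2, 3, 2, 1, 2, 0, 1, 2, 3, 0, 1], [2, 1, 2, 3, 2, 1, 2, 0, 1, 2, 3, 1],
    [1, 2, 0, 1, 2, 3, 2, 1, 2, 0, 1, 2, 3, 0, 1, 0], [3, 2, 1, 2, 0, 1, 2, 3, 1],
    [2, 1, 2, 3, 2, 1, 2, 0, 1, 2, 3, 1, 0], [3, 2, 1, 2, 0, 1, 2, 3, 1, 0],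
    [2, 0, 1, 2, 3, 2, 1, 2, 0, 1, 2, 3, 0, 1], [2, 1, 2, 3, 2, 1, 2, 0, 1, 2, 3, 0, 1],
    [2, 0, 1, 2, 3, 2, 1, 2, 0, 1, 2, 3, 0, 1, 0], [3, 2, 1, 2, 0, 1, 2, 3, 0, 1],
    [2, 1, 2, 3, 2, 1, 2, 0, 1, 2, 3, 0, 1, 0], [3, 2, 1, 2, 0, 1, 2, 3, 0, 1, 0],
    [0, 1, 2, 3, 2, 1, 2, 0, 1, 2, 3, 0, 1], [1, 2, 3, 2, 1, 2, 0, 1, 2, 3, 0, 1],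
    [0, 1, 2, 3, 2, 1, 2, 0, 1, 2, 3, 0, 1, 0], [2, 3, 2, 1, 2, 0, 1, 2, 3, 0, 1],
    [1, 2, 3, 2, 1, 2, 0, 1, 2, 3, 0, 1, 0], [2, 3, 2, 1, 2, 0, 1, 2, 3, 0, 1, 0],
    [1, 2, 0, 1, 2, 3, 2, 1, 2, 0, 1, 2, 3, 2], [2, 0, 1, 2, 3, 2, 1, 2, 0, 1, 2, 3, 2],
    [1, 2, 0, 1, 2, 3, 2, 1, 2, 0, 1, 2, 3, 2, 0], [2, 1, 2, 3, 2, 1, 2, 0, 1, 2, 3, 2],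
    [2, 0, 1, 2, 3, 2, 1, 2, 0, 1, 2, 3, 2, 0], [2, 1, 2, 3, 2, 1, 2, 0, 1, 2, 3, 2, 0],
    [3, 2, 1, 2, 0, 1, 2, 3, 2, 1, 2, 0, 1, 2, 3], [0, 1, 2, 3, 1, 2, 0, 1, 2, 3],
    [3, 2, 1, 2, 0, 1, 2, 3, 2, 1, 2, 0, 1, 2, 3, 0], [1, 2, 3, 1, 2, 0, 1, 2, 3],
    [0, 1, 2, 3, 1, 2, 0, 1, 2, 3, 0], [1, 2, 3, 1, 2, 0, 1, 2, 3, 0],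
    [3, 2, 1, 2, 0, 1, 2, 3, 2, 1, 2, 0, 1, 2, 3, 1], [0, 1, 2, 3, 1, 2, 0, 1, 2, 3, 1],
    [3, 2, 1, 2, 0, 1, 2, 3, 2, 1, 2, 0, 1, 2, 3, 1, 0], [2, 3, 1, 2, 0, 1, 2, 3],
    [0, 1, 2, 3, 1, 2, 0, 1, 2, 3, 1, 0], [2, 3, 1, 2, 0, 1, 2, 3, 0],
    [1, 2, 0, 1, 2, 3, 2, 1, 2, 0, 1, 2, 3, 2, 1], [2, 0, 1, 2, 3, 2, 1, 2, 0, 1, 2, 3, 2, 1],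
    [1, 2, 0, 1, 2, 3, 2, 1, 2, 0, 1, 2, 3, 2, 1, 0], [2, 1, 2, 0, 1, 2, 3],
    [2, 0, 1, 2, 3, 2, 1, 2, 0, 1, 2, 3, 2, 1, 0], [2, 1, 2, 0, 1, 2, 3, 0],
    [3, 2, 1, 2, 0, 1, 2, 3, 2, 1, 2, 0, 1, 2, 3, 0, 1], [1, 2, 3, 1, 2, 0, 1, 2, 3, 1],
    [3, 2, 1, 2, 0, 1, 2, 3, 2, 1, 2, 0, 1, 2, 3, 0, 1, 0], [2, 3, 1, 2, 0, 1, 2, 3, 1],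
    [1, 2, 3, 1, 2, 0, 1, 2, 3, 1, 0], [2, 3, 1, 2, 0, 1, 2, 3, 1, 0],
    [1, 2, 0, 1, 2, 3, 2, 1, 2, 0, 1, 2, 3, 2, 0, 1], [2, 1, 2, 3, 2, 1, 2, 0, 1, 2, 3, 2, 1],
    [1, 2, 0, 1, 2, 3, 2, 1, 2, 0, 1, 2, 3, 2, 0, 1, 0], [2, 1, 2, 0, 1, 2, 3, 1],
    [2, 1, 2, 3, 2, 1, 2, 0, 1, 2, 3, 2, 1, 0], [2, 1, 2, 0, 1, 2, 3, 1, 0],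
    [2, 0, 1, 2, 3, 2, 1, 2, 0, 1, 2, 3, 2, 0, 1], [2, 1, 2, 3, 2, 1, 2, 0, 1, 2, 3, 2, 0, 1],
    [2, 0, 1, 2, 3, 2, 1, 2, 0, 1, 2, 3, 2, 0, 1, 0], [2, 1, 2, 0, 1, 2, 3, 0, 1],
    [2, 1, 2, 3, 2, 1, 2, 0, 1, 2, 3, 2, 0, 1, 0], [2, 1, 2, 0, 1, 2, 3, 0, 1, 0],
    [0, 1, 2, 3, 1, 2, 0, 1, 2, 3, 0, 1], [1, 2, 3, 1, 2, 0, 1, 2, 3, 0, 1],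
    [0, 1, 2, 3, 1, 2, 0, 1, 2, 3, 0, 1, 0], [2, 3, 1, 2, 0, 1, 2, 3, 0, 1],
    [1, 2, 3, 1, 2, 0, 1, 2, 3, 0, 1, 0], [2, 3, 1, 2, 0, 1, 2, 3, 0, 1, 0],
    [2, 1, 2, 0, 1, 2, 3, 2, 1, 2, 0, 1, 2, 3, 2], [0, 1, 2, 3, 2, 1, 2, 0, 1, 2, 3, 2],
    [2, 1, 2, 0, 1, 2, 3, 2, 1, 2, 0, 1, 2, 3, 2, 0], [1, 2, 3, 2, 1, 2, 0, 1, 2, 3, 2],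
    [0, 1, 2, 3, 2, 1, 2, 0, 1, 2, 3, 2, 0], [1, 2, 3, 2, 1, 2, 0, 1, 2, 3, 2, 0],
    [3, 2, 1, 2, 0, 1, 2, 3, 2, 1, 2, 0, 1, 2, 3, 2], [0, 1, 2, 3, 1, 2, 0, 1, 2, 3, 2],
    [3, 2, 1, 2, 0, 1, 2, 3, 2, 1, 2, 0, 1, 2, 3, 2, 0], [1, 2, 3, 1, 2, 0, 1, 2, 3, 2],
    [0, 1, 2, 3, 1, 2, 0, 1, 2, 3, 2, 0], [1, 2, 3, 1, 2, 0, 1, 2, 3, 2, 0],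
    [3, 2, 1, 2, 0, 1, 2, 3, 2, 1, 2, 0, 1, 2, 3, 2, 1], [0, 1, 2, 3, 1, 2, 0, 1, 2, 3, 2, 1],
    [3, 2, 1, 2, 0, 1, 2, 3, 2, 1, 2, 0, 1, 2, 3, 2, 1, 0], [3, 1, 2, 0, 1, 2, 3],
    [0, 1, 2, 3, 1, 2, 0, 1, 2, 3, 2, 1, 0], [3, 1, 2, 0, 1, 2, 3, 0],
    [2, 1, 2, 0, 1, 2, 3, 2, 1, 2, 0, 1, 2, 3, 2, 1], [0, 1, 2, 3, 2, 1, 2, 0, 1, 2, 3, 2, 1],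
    [2, 1, 2, 0, 1, 2, 3, 2, 1, 2, 0, 1, 2, 3, 2, 1, 0], [1, 2, 0, 1, 2, 3],
    [0, 1, 2, 3, 2, 1, 2, 0, 1, 2, 3, 2, 1, 0], [1, 2, 0, 1, 2, 3, 0],
    [3, 2, 1, 2, 0, 1, 2, 3, 2, 1, 2, 0, 1, 2, 3, 2, 0, 1], [1, 2, 3, 1, 2, 0, 1, 2, 3, 2, 1],
    [3, 2, 1, 2, 0, 1, 2, 3, 2, 1, 2, 0, 1, 2, 3, 2, 0, 1, 0], [3, 1, 2, 0, 1, 2, 3, 1],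
    [1, 2, 3, 1, 2, 0, 1, 2, 3, 2, 1, 0], [3, 1, 2, 0, 1, 2, 3, 1, 0],
    [2, 1, 2, 0, 1, 2, 3, 2, 1, 2, 0, 1, 2, 3, 2, 0, 1], [1, 2, 3, 2, 1, 2, 0, 1, 2, 3, 2, 1],
    [2, 1, 2, 0, 1, 2, 3, 2, 1, 2, 0, 1, 2, 3, 2, 0, 1, 0], [1, 2, 0, 1, 2, 3, 1],
    [1, 2, 3, 2, 1, 2, 0, 1, 2, 3, 2, 1, 0], [1, 2, 0, 1, 2, 3, 1, 0],
    [0, 1, 2, 3, 2, 1, 2, 0, 1, 2, 3, 2, 0, 1], [1, 2, 3, 2, 1, 2, 0, 1, 2, 3, 2, 0, 1],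
    [0, 1, 2, 3, 2, 1, 2, 0, 1, 2, 3, 2, 0, 1, 0], [1, 2, 0, 1, 2, 3, 0, 1],
    [1, 2, 3, 2, 1, 2, 0, 1, 2, 3, 2, 0, 1, 0], [1, 2, 0, 1, 2, 3, 0, 1, 0],
    [0, 1, 2, 3, 1, 2, 0, 1, 2, 3, 2, 0, 1], [1, 2, 3, 1, 2, 0, 1, 2, 3, 2, 0, 1],
    [0, 1, 2, 3, 1, 2, 0, 1, 2, 3, 2, 0, 1, 0], [3, 1, 2, 0, 1, 2, 3, 0, 1],
    [1, 2, 3, 1, 2, 0, 1, 2, 3, 2, 0, 1, 0], [3, 1, 2, 0, 1, 2, 3, 0, 1, 0],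
    [2, 1, 2, 0, 1, 2, 3, 2, 1, 2, 0, 1, 2, 3, 1, 2], [0, 1, 2, 3, 2, 1, 2, 0, 1, 2, 3, 1, 2],
    [2, 1, 2, 0, 1, 2, 3, 2, 1, 2, 0, 1, 2, 3, 1, 2, 0], [2, 3, 2, 1, 2, 0, 1, 2, 3, 2],
    [0, 1, 2, 3, 2, 1, 2, 0, 1, 2, 3, 1, 2, 0], [2, 3, 2, 1, 2, 0, 1, 2, 3, 2, 0],
    [3, 2, 1, 2, 0, 1, 2, 3, 2, 1, 2, 0, 1, 2, 3, 1, 2], [0, 1, 2, 3, 1, 2, 0, 1, 2, 3, 1, 2],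
    [3, 2, 1, 2, 0, 1, 2, 3, 2, 1, 2, 0, 1, 2, 3, 1, 2, 0], [2, 3, 1, 2, 0, 1, 2, 3, 2],
    [0, 1, 2, 3, 1, 2, 0, 1, 2, 3, 1, 2, 0], [2, 3, 1, 2, 0, 1, 2, 3, 2, 0],
    [3, 2, 1, 2, 0, 1, 2, 3, 2, 1, 2, 0, 1, 2, 3, 1, 2, 1],
    [0, 1, 2, 3, 1, 2, 0, 1, 2, 3, 1, 2, 1],
    [3, 2, 1, 2, 0, 1, 2, 3, 2, 1, 2, 0, 1, 2, 3, 1, 2, 1, 0], [3, 2, 0, 1, 2, 3],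
    [0, 1, 2, 3, 1, 2, 0, 1, 2, 3, 1, 2, 1, 0], [3, 2, 0, 1, 2, 3, 0],
    [2, 1, 2, 0, 1, 2, 3, 2, 1, 2, 0, 1, 2, 3, 1, 2, 1],
    [0, 1, 2, 3, 2, 1, 2, 0, 1, 2, 3, 1, 2, 1],
    [2, 1, 2, 0, 1, 2, 3, 2, 1, 2, 0, 1, 2, 3, 1, 2, 1, 0], [2, 0, 1, 2, 3],
    [0, 1, 2, 3, 2, 1, 2, 0, 1, 2, 3, 1, 2, 1, 0], [2, 0, 1, 2, 3, 0],
    [3, 2, 1, 2, 0, 1, 2, 3, 2, 1, 2, 0, 1, 2, 3, 1, 2, 0, 1], [2, 3, 1, 2, 0, 1, 2, 3, 2, 1],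
    [3, 2, 1, 2, 0, 1, 2, 3, 2, 1, 2, 0, 1, 2, 3, 1, 2, 0, 1, 0], [3, 2, 0, 1, 2, 3, 1],
    [2, 3, 1, 2, 0, 1, 2, 3, 2, 1, 0], [3, 2, 0, 1, 2, 3, 1, 0],
    [2, 1, 2, 0, 1, 2, 3, 2, 1, 2, 0, 1, 2, 3, 1, 2, 0, 1], [2, 3, 2, 1, 2, 0, 1, 2, 3, 2, 1],
    [2, 1, 2, 0, 1, 2, 3, 2, 1, 2, 0, 1, 2, 3, 1, 2, 0, 1, 0], [2, 0, 1, 2, 3, 1],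
    [2, 3, 2, 1, 2, 0, 1, 2, 3, 2, 1, 0], [2, 0, 1, 2, 3, 1, 0],
    [0, 1, 2, 3, 2, 1, 2, 0, 1, 2, 3, 1, 2, 0, 1], [2, 3, 2, 1, 2, 0, 1, 2, 3, 2, 0, 1],
    [0, 1, 2, 3, 2, 1, 2, 0, 1, 2, 3, 1, 2, 0, 1, 0], [2, 0, 1, 2, 3, 0, 1],
    [2, 3, 2, 1, 2, 0, 1, 2, 3, 2, 0, 1, 0], [2, 0, 1, 2, 3, 0, 1, 0],
    [0, 1, 2, 3, 1, 2, 0, 1, 2, 3, 1, 2, 0, 1], [2, 3, 1, 2, 0, 1, 2, 3, 2, 0, 1],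
    [0, 1, 2, 3, 1, 2, 0, 1, 2, 3, 1, 2, 0, 1, 0], [3, 2, 0, 1, 2, 3, 0, 1],
    [2, 3, 1, 2, 0, 1, 2, 3, 2, 0, 1, 0], [3, 2, 0, 1, 2, 3, 0, 1, 0],
    [1, 2, 0, 1, 2, 3, 2, 1, 2, 0, 1, 2, 3, 1, 2], [2, 0, 1, 2, 3, 2, 1, 2, 0, 1, 2, 3, 1, 2],
    [1, 2, 0, 1, 2, 3, 2, 1, 2, 0, 1, 2, 3, 1, 2, 0], [3, 2, 1, 2, 0, 1, 2, 3, 2],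
    [2, 0, 1, 2, 3, 2, 1, 2, 0, 1, 2, 3, 1, 2, 0], [3, 2, 1, 2, 0, 1, 2, 3, 2, 0],
    [3, 2, 1, 2, 0, 1, 2, 3, 2, 1, 2, 0, 1, 2, 3, 2, 1, 2],
    [0, 1, 2, 3, 1, 2, 0, 1, 2, 3, 2, 1, 2],
    [3, 2, 1, 2, 0, 1, 2, 3, 2, 1, 2, 0, 1, 2, 3, 2, 1, 2, 0], [3, 1, 2, 0, 1, 2, 3, 2],
    [0, 1, 2, 3, 1, 2, 0, 1, 2, 3, 2, 1, 2, 0], [3, 1, 2, 0, 1, 2, 3, 2, 0],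
    [3, 2, 1, 2, 0, 1, 2, 3, 2, 1, 2, 0, 1, 2, 3, 2, 1, 2, 1],
    [0, 1, 2, 3, 1, 2, 0, 1, 2, 3, 2, 1, 2, 1],
    [3, 2, 1, 2, 0, 1, 2, 3, 2, 1, 2, 0, 1, 2, 3, 2, 1, 2, 1, 0], [3, 2, 0, 1, 2, 3, 2],
    [0, 1, 2, 3, 1, 2, 0, 1, 2, 3, 2, 1, 2, 1, 0], [3, 2, 0, 1, 2, 3, 2, 0],
    [1, 2, 0, 1, 2, 3, 2, 1, 2, 0, 1, 2, 3, 1, 2, 1],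
    [2, 0, 1, 2, 3, 2, 1, 2, 0, 1, 2, 3, 1, 2, 1],
    [1, 2, 0, 1, 2, 3, 2, 1, 2, 0, 1, 2, 3, 1, 2, 1, 0], [0, 1, 2, 3],
    [2, 0, 1, 2, 3, 2, 1, 2, 0, 1, 2, 3, 1, 2, 1, 0], [0, 1, 2, 3, 0],
    [3, 2, 1, 2, 0, 1, 2, 3, 2, 1, 2, 0, 1, 2, 3, 2, 1, 2, 0, 1], [3, 1, 2, 0, 1, 2, 3, 2, 1],
    [3, 2, 1, 2, 0, 1, 2, 3, 2, 1, 2, 0, 1, 2, 3, 2, 1, 2, 0, 1, 0], [3, 2, 0, 1, 2, 3, 2, 1],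
    [3, 1, 2, 0, 1, 2, 3, 2, 1, 0], [3, 2, 0, 1, 2, 3, 2, 1, 0],
    [1, 2, 0, 1, 2, 3, 2, 1, 2, 0, 1, 2, 3, 1, 2, 0, 1], [3, 2, 1, 2, 0, 1, 2, 3, 2, 1],
    [1, 2, 0, 1, 2, 3, 2, 1, 2, 0, 1, 2, 3, 1, 2, 0, 1, 0], [0, 1, 2, 3, 1],
    [3, 2, 1, 2, 0, 1, 2, 3, 2, 1, 0], [0, 1, 2, 3, 1, 0],
    [2, 0, 1, 2, 3, 2, 1, 2, 0, 1, 2, 3, 1, 2, 0, 1], [3, 2, 1, 2, 0, 1, 2, 3, 2, 0, 1],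
    [2, 0, 1, 2, 3, 2, 1, 2, 0, 1, 2, 3, 1, 2, 0, 1, 0], [0, 1, 2, 3, 0, 1],
    [3, 2, 1, 2, 0, 1, 2, 3, 2, 0, 1, 0], [0, 1, 2, 3, 0, 1, 0],
    [0, 1, 2, 3, 1, 2, 0, 1, 2, 3, 2, 1, 2, 0, 1], [3, 1, 2, 0, 1, 2, 3, 2, 0, 1],
    [0, 1, 2, 3, 1, 2, 0, 1, 2, 3, 2, 1, 2, 0, 1, 0], [3, 2, 0, 1, 2, 3, 2, 0, 1],
    [3, 1, 2, 0, 1, 2, 3, 2, 0, 1, 0], [3, 2, 0, 1, 2, 3, 2, 0, 1, 0],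
    [1, 2, 0, 1, 2, 3, 2, 1, 2, 0, 1, 2, 3, 2, 1, 2],
    [2, 0, 1, 2, 3, 2, 1, 2, 0, 1, 2, 3, 2, 1, 2],
    [1, 2, 0, 1, 2, 3, 2, 1, 2, 0, 1, 2, 3, 2, 1, 2, 0], [2, 1, 2, 0, 1, 2, 3, 2],
    [2, 0, 1, 2, 3, 2, 1, 2, 0, 1, 2, 3, 2, 1, 2, 0], [2, 1, 2, 0, 1, 2, 3, 2, 0],
    [2, 1, 2, 0, 1, 2, 3, 2, 1, 2, 0, 1, 2, 3, 2, 1, 2],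
    [0, 1, 2, 3, 2, 1, 2, 0, 1, 2, 3, 2, 1, 2],
    [2, 1, 2, 0, 1, 2, 3, 2, 1, 2, 0, 1, 2, 3, 2, 1, 2, 0], [1, 2, 0, 1, 2, 3, 2],
    [0, 1, 2, 3, 2, 1, 2, 0, 1, 2, 3, 2, 1, 2, 0], [1, 2, 0, 1, 2, 3, 2, 0],
    [2, 1, 2, 0, 1, 2, 3, 2, 1, 2, 0, 1, 2, 3, 2, 1, 2, 1],
    [0, 1, 2, 3, 2, 1, 2, 0, 1, 2, 3, 2, 1, 2, 1],
    [2, 1, 2, 0, 1, 2, 3, 2, 1, 2, 0, 1, 2, 3, 2, 1, 2, 1, 0], [2, 0, 1, 2, 3, 2],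
    [0, 1, 2, 3, 2, 1, 2, 0, 1, 2, 3, 2, 1, 2, 1, 0], [2, 0, 1, 2, 3, 2, 0],
    [1, 2, 0, 1, 2, 3, 2, 1, 2, 0, 1, 2, 3, 2, 1, 2, 1],
    [2, 0, 1, 2, 3, 2, 1, 2, 0, 1, 2, 3, 2, 1, 2, 1],
    [1, 2, 0, 1, 2, 3, 2, 1, 2, 0, 1, 2, 3, 2, 1, 2, 1, 0], [0, 1, 2, 3, 2],
    [2, 0, 1, 2, 3, 2, 1, 2, 0, 1, 2, 3, 2, 1, 2, 1, 0], [0, 1, 2, 3, 2, 0],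
    [2, 1, 2, 0, 1, 2, 3, 2, 1, 2, 0, 1, 2, 3, 2, 1, 2, 0, 1], [1, 2, 0, 1, 2, 3, 2, 1],
    [2, 1, 2, 0, 1, 2, 3, 2, 1, 2, 0, 1, 2, 3, 2, 1, 2, 0, 1, 0], [2, 0, 1, 2, 3, 2, 1],
    [1, 2, 0, 1, 2, 3, 2, 1, 0], [2, 0, 1, 2, 3, 2, 1, 0],
    [1, 2, 0, 1, 2, 3, 2, 1, 2, 0, 1, 2, 3, 2, 1, 2, 0, 1], [2, 1, 2, 0, 1, 2, 3, 2, 1],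
    [1, 2, 0, 1, 2, 3, 2, 1, 2, 0, 1, 2, 3, 2, 1, 2, 0, 1, 0], [0, 1, 2, 3, 2, 1],
    [2, 1, 2, 0, 1, 2, 3, 2, 1, 0], [0, 1, 2, 3, 2, 1, 0],
    [2, 0, 1, 2, 3, 2, 1, 2, 0, 1, 2, 3, 2, 1, 2, 0, 1], [2, 1, 2, 0, 1, 2, 3, 2, 0, 1],
    [2, 0, 1, 2, 3, 2, 1, 2, 0, 1, 2, 3, 2, 1, 2, 0, 1, 0], [0, 1, 2, 3, 2, 0, 1],
    [2, 1, 2, 0, 1, 2, 3, 2, 0, 1, 0], [0, 1, 2, 3, 2, 0, 1, 0],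
    [0, 1, 2, 3, 2, 1, 2, 0, 1, 2, 3, 2, 1, 2, 0, 1], [1, 2, 0, 1, 2, 3, 2, 0, 1],
    [0, 1, 2, 3, 2, 1, 2, 0, 1, 2, 3, 2, 1, 2, 0, 1, 0], [2, 0, 1, 2, 3, 2, 0, 1],
    [1, 2, 0, 1, 2, 3, 2, 0, 1, 0], [2, 0, 1, 2, 3, 2, 0, 1, 0],
    [2, 1, 2, 0, 1, 2, 3, 2, 1, 2, 0, 1, 2, 3, 0, 1, 2], [1, 2, 3, 2, 1, 2, 0, 1, 2, 3, 1, 2],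
    [2, 1, 2, 0, 1, 2, 3, 2, 1, 2, 0, 1, 2, 3, 0, 1, 2, 0], [2, 3, 2, 1, 2, 0, 1, 2, 3, 1, 2],
    [1, 2, 3, 2, 1, 2, 0, 1, 2, 3, 1, 2, 0], [2, 3, 2, 1, 2, 0, 1, 2, 3, 1, 2, 0],
    [3, 2, 1, 2, 0, 1, 2, 3, 2, 1, 2, 0, 1, 2, 3, 0, 1, 2], [1, 2, 3, 1, 2, 0, 1, 2, 3, 1, 2],
    [3, 2, 1, 2, 0, 1, 2, 3, 2, 1, 2, 0, 1, 2, 3, 0, 1, 2, 0], [2, 3, 1, 2, 0, 1, 2, 3, 1, 2],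
    [1, 2, 3, 1, 2, 0, 1, 2, 3, 1, 2, 0], [2, 3, 1, 2, 0, 1, 2, 3, 1, 2, 0],
    [3, 2, 1, 2, 0, 1, 2, 3, 2, 1, 2, 0, 1, 2, 3, 0, 1, 2, 1],
    [1, 2, 3, 1, 2, 0, 1, 2, 3, 1, 2, 1],
    [3, 2, 1, 2, 0, 1, 2, 3, 2, 1, 2, 0, 1, 2, 3, 0, 1, 2, 1, 0], [3, 2, 1, 2, 3],
    [1, 2, 3, 1, 2, 0, 1, 2, 3, 1, 2, 1, 0], [3, 2, 1, 2, 3, 0],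
    [2, 1, 2, 0, 1, 2, 3, 2, 1, 2, 0, 1, 2, 3, 0, 1, 2, 1],
    [1, 2, 3, 2, 1, 2, 0, 1, 2, 3, 1, 2, 1],
    [2, 1, 2, 0, 1, 2, 3, 2, 1, 2, 0, 1, 2, 3, 0, 1, 2, 1, 0], [2, 1, 2, 3],
    [1, 2, 3, 2, 1, 2, 0, 1, 2, 3, 1, 2, 1, 0], [2, 1, 2, 3, 0],
    [3, 2, 1, 2, 0, 1, 2, 3, 2, 1, 2, 0, 1, 2, 3, 0, 1, 2, 0, 1],
    [2, 3, 1, 2, 0, 1, 2, 3, 1, 2, 1],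
    [3, 2, 1, 2, 0, 1, 2, 3, 2, 1, 2, 0, 1, 2, 3, 0, 1, 2, 0, 1, 0], [3, 2, 1, 2, 3, 1],
    [2, 3, 1, 2, 0, 1, 2, 3, 1, 2, 1, 0], [3, 2, 1, 2, 3, 1, 0],
    [2, 1, 2, 0, 1, 2, 3, 2, 1, 2, 0, 1, 2, 3, 0, 1, 2, 0, 1],
    [2, 3, 2, 1, 2, 0, 1, 2, 3, 1, 2, 1],
    [2, 1, 2, 0, 1, 2, 3, 2, 1, 2, 0, 1, 2, 3, 0, 1, 2, 0, 1, 0], [2, 1, 2, 3, 1],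
    [2, 3, 2, 1, 2, 0, 1, 2, 3, 1, 2, 1, 0], [2, 1, 2, 3, 1, 0],
    [1, 2, 3, 2, 1, 2, 0, 1, 2, 3, 1, 2, 0, 1], [2, 3, 2, 1, 2, 0, 1, 2, 3, 1, 2, 0, 1],
    [1, 2, 3, 2, 1, 2, 0, 1, 2, 3, 1, 2, 0, 1, 0], [2, 1, 2, 3, 0, 1],
    [2, 3, 2, 1, 2, 0, 1, 2, 3, 1, 2, 0, 1, 0], [2, 1, 2, 3, 0, 1, 0],
    [1, 2, 3, 1, 2, 0, 1, 2, 3, 1, 2, 0, 1], [2, 3, 1, 2, 0, 1, 2, 3, 1, 2, 0, 1],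
    [1, 2, 3, 1, 2, 0, 1, 2, 3, 1, 2, 0, 1, 0], [3, 2, 1, 2, 3, 0, 1],
    [2, 3, 1, 2, 0, 1, 2, 3, 1, 2, 0, 1, 0], [3, 2, 1, 2, 3, 0, 1, 0],
    [1, 2, 0, 1, 2, 3, 2, 1, 2, 0, 1, 2, 3, 0, 1, 2], [2, 1, 2, 3, 2, 1, 2, 0, 1, 2, 3, 1, 2],
    [1, 2, 0, 1, 2, 3, 2, 1, 2, 0, 1, 2, 3, 0, 1, 2, 0], [3, 2, 1, 2, 0, 1, 2, 3, 1, 2],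
    [2, 1, 2, 3, 2, 1, 2, 0, 1, 2, 3, 1, 2, 0], [3, 2, 1, 2, 0, 1, 2, 3, 1, 2, 0],
    [3, 2, 1, 2, 0, 1, 2, 3, 2, 1, 2, 0, 1, 2, 3, 2, 0, 1, 2],
    [1, 2, 3, 1, 2, 0, 1, 2, 3, 2, 1, 2],
    [3, 2, 1, 2, 0, 1, 2, 3, 2, 1, 2, 0, 1, 2, 3, 2, 0, 1, 2, 0], [3, 1, 2, 0, 1, 2, 3, 1, 2],
    [1, 2, 3, 1, 2, 0, 1, 2, 3, 2, 1, 2, 0], [3, 1, 2, 0, 1, 2, 3, 1, 2, 0],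
    [3, 2, 1, 2, 0, 1, 2, 3, 2, 1, 2, 0, 1, 2, 3, 2, 0, 1, 2, 1],
    [1, 2, 3, 1, 2, 0, 1, 2, 3, 2, 1, 2, 1],
    [3, 2, 1, 2, 0, 1, 2, 3, 2, 1, 2, 0, 1, 2, 3, 2, 0, 1, 2, 1, 0], [3, 2, 1, 2, 3, 2],
    [1, 2, 3, 1, 2, 0, 1, 2, 3, 2, 1, 2, 1, 0], [3, 2, 1, 2, 3, 2, 0],
    [1, 2, 0, 1, 2, 3, 2, 1, 2, 0, 1, 2, 3, 0, 1, 2, 1],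
    [2, 1, 2, 3, 2, 1, 2, 0, 1, 2, 3, 1, 2, 1],
    [1, 2, 0, 1, 2, 3, 2, 1, 2, 0, 1, 2, 3, 0, 1, 2, 1, 0], [1, 2, 3],
    [2, 1, 2, 3, 2, 1, 2, 0, 1, 2, 3, 1, 2, 1, 0], [1, 2, 3, 0],
    [3, 2, 1, 2, 0, 1, 2, 3, 2, 1, 2, 0, 1, 2, 3, 2, 0, 1, 2, 0, 1],
    [3, 1, 2, 0, 1, 2, 3, 1, 2, 1],
    [3, 2, 1, 2, 0, 1, 2, 3, 2, 1, 2, 0, 1, 2, 3, 2, 0, 1, 2, 0, 1, 0], [3, 2, 1, 2, 3, 2, 1],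
    [3, 1, 2, 0, 1, 2, 3, 1, 2, 1, 0], [3, 2, 1, 2, 3, 2, 1, 0],
    [1, 2, 0, 1, 2, 3, 2, 1, 2, 0, 1, 2, 3, 0, 1, 2, 0, 1], [3, 2, 1, 2, 0, 1, 2, 3, 1, 2, 1],
    [1, 2, 0, 1, 2, 3, 2, 1, 2, 0, 1, 2, 3, 0, 1, 2, 0, 1, 0], [1, 2, 3, 1],
    [3, 2, 1, 2, 0, 1, 2, 3, 1, 2, 1, 0], [1, 2, 3, 1, 0],
    [2, 1, 2, 3, 2, 1, 2, 0, 1, 2, 3, 1, 2, 0, 1], [3, 2, 1, 2, 0, 1, 2, 3, 1, 2, 0, 1],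
    [2, 1, 2, 3, 2, 1, 2, 0, 1, 2, 3, 1, 2, 0, 1, 0], [1, 2, 3, 0, 1],
    [3, 2, 1, 2, 0, 1, 2, 3, 1, 2, 0, 1, 0], [1, 2, 3, 0, 1, 0],
    [1, 2, 3, 1, 2, 0, 1, 2, 3, 2, 1, 2, 0, 1], [3, 1, 2, 0, 1, 2, 3, 1, 2, 0, 1],
    [1, 2, 3, 1, 2, 0, 1, 2, 3, 2, 1, 2, 0, 1, 0], [3, 2, 1, 2, 3, 2, 0, 1],
    [3, 1, 2, 0, 1, 2, 3, 1, 2, 0, 1, 0], [3, 2, 1, 2, 3, 2, 0, 1, 0],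
    [1, 2, 0, 1, 2, 3, 2, 1, 2, 0, 1, 2, 3, 2, 0, 1, 2],
    [2, 1, 2, 3, 2, 1, 2, 0, 1, 2, 3, 2, 1, 2],
    [1, 2, 0, 1, 2, 3, 2, 1, 2, 0, 1, 2, 3, 2, 0, 1, 2, 0], [2, 1, 2, 0, 1, 2, 3, 1, 2],
    [2, 1, 2, 3, 2, 1, 2, 0, 1, 2, 3, 2, 1, 2, 0], [2, 1, 2, 0, 1, 2, 3, 1, 2, 0],
    [2, 1, 2, 0, 1, 2, 3, 2, 1, 2, 0, 1, 2, 3, 2, 0, 1, 2],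
    [1, 2, 3, 2, 1, 2, 0, 1, 2, 3, 2, 1, 2],
    [2, 1, 2, 0, 1, 2, 3, 2, 1, 2, 0, 1, 2, 3, 2, 0, 1, 2, 0], [1, 2, 0, 1, 2, 3, 1, 2],
    [1, 2, 3, 2, 1, 2, 0, 1, 2, 3, 2, 1, 2, 0], [1, 2, 0, 1, 2, 3, 1, 2, 0],
    [2, 1, 2, 0, 1, 2, 3, 2, 1, 2, 0, 1, 2, 3, 2, 0, 1, 2, 1],
    [1, 2, 3, 2, 1, 2, 0, 1, 2, 3, 2, 1, 2, 1],
    [2, 1, 2, 0, 1, 2, 3, 2, 1, 2, 0, 1, 2, 3, 2, 0, 1, 2, 1, 0], [2, 1, 2, 3, 2],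
    [1, 2, 3, 2, 1, 2, 0, 1, 2, 3, 2, 1, 2, 1, 0], [2, 1, 2, 3, 2, 0],
    [1, 2, 0, 1, 2, 3, 2, 1, 2, 0, 1, 2, 3, 2, 0, 1, 2, 1],
    [2, 1, 2, 3, 2, 1, 2, 0, 1, 2, 3, 2, 1, 2, 1],
    [1, 2, 0, 1, 2, 3, 2, 1, 2, 0, 1, 2, 3, 2, 0, 1, 2, 1, 0], [1, 2, 3, 2],
    [2, 1, 2, 3, 2, 1, 2, 0, 1, 2, 3, 2, 1, 2, 1, 0], [1, 2, 3, 2, 0],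
    [2, 1, 2, 0, 1, 2, 3, 2, 1, 2, 0, 1, 2, 3, 2, 0, 1, 2, 0, 1], [1, 2, 0, 1, 2, 3, 1, 2, 1],
    [2, 1, 2, 0, 1, 2, 3, 2, 1, 2, 0, 1, 2, 3, 2, 0, 1, 2, 0, 1, 0], [2, 1, 2, 3, 2, 1],
    [1, 2, 0, 1, 2, 3, 1, 2, 1, 0], [2, 1, 2, 3, 2, 1, 0],
    [1, 2, 0, 1, 2, 3, 2, 1, 2, 0, 1, 2, 3, 2, 0, 1, 2, 0, 1], [2, 1, 2, 0, 1, 2, 3, 1, 2, 1],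
    [1, 2, 0, 1, 2, 3, 2, 1, 2, 0, 1, 2, 3, 2, 0, 1, 2, 0, 1, 0], [1, 2, 3, 2, 1],
    [2, 1, 2, 0, 1, 2, 3, 1, 2, 1, 0], [1, 2, 3, 2, 1, 0],
    [2, 1, 2, 3, 2, 1, 2, 0, 1, 2, 3, 2, 1, 2, 0, 1], [2, 1, 2, 0, 1, 2, 3, 1, 2, 0, 1],
    [2, 1, 2, 3, 2, 1, 2, 0, 1, 2, 3, 2, 1, 2, 0, 1, 0], [1, 2, 3, 2, 0, 1],
    [2, 1, 2, 0, 1, 2, 3, 1, 2, 0, 1, 0], [1, 2, 3, 2, 0, 1, 0],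
    [1, 2, 3, 2, 1, 2, 0, 1, 2, 3, 2, 1, 2, 0, 1], [1, 2, 0, 1, 2, 3, 1, 2, 0, 1],
    [1, 2, 3, 2, 1, 2, 0, 1, 2, 3, 2, 1, 2, 0, 1, 0], [2, 1, 2, 3, 2, 0, 1],
    [1, 2, 0, 1, 2, 3, 1, 2, 0, 1, 0], [2, 1, 2, 3, 2, 0, 1, 0],
    [2, 0, 1, 2, 3, 2, 1, 2, 0, 1, 2, 3, 0, 1, 2], [2, 1, 2, 3, 2, 1, 2, 0, 1, 2, 3, 0, 1, 2],
    [2, 0, 1, 2, 3, 2, 1, 2, 0, 1, 2, 3, 0, 1, 2, 0], [3, 2, 1, 2, 0, 1, 2, 3, 0, 1, 2],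
    [2, 1, 2, 3, 2, 1, 2, 0, 1, 2, 3, 0, 1, 2, 0], [3, 2, 1, 2, 0, 1, 2, 3, 0, 1, 2, 0],
    [3, 2, 1, 2, 0, 1, 2, 3, 2, 1, 2, 0, 1, 2, 3, 1, 2, 0, 1, 2],
    [2, 3, 1, 2, 0, 1, 2, 3, 2, 1, 2],
    [3, 2, 1, 2, 0, 1, 2, 3, 2, 1, 2, 0, 1, 2, 3, 1, 2, 0, 1, 2, 0], [3, 2, 0, 1, 2, 3, 1, 2],
    [2, 3, 1, 2, 0, 1, 2, 3, 2, 1, 2, 0], [3, 2, 0, 1, 2, 3, 1, 2, 0],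
    [3, 2, 1, 2, 0, 1, 2, 3, 2, 1, 2, 0, 1, 2, 3, 1, 2, 0, 1, 2, 1],
    [2, 3, 1, 2, 0, 1, 2, 3, 2, 1, 2, 1],
    [3, 2, 1, 2, 0, 1, 2, 3, 2, 1, 2, 0, 1, 2, 3, 1, 2, 0, 1, 2, 1, 0], [3, 2, 1, 2, 3, 1, 2],
    [2, 3, 1, 2, 0, 1, 2, 3, 2, 1, 2, 1, 0], [3, 2, 1, 2, 3, 1, 2, 0],
    [2, 0, 1, 2, 3, 2, 1, 2, 0, 1, 2, 3, 0, 1, 2, 1],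
    [2, 1, 2, 3, 2, 1, 2, 0, 1, 2, 3, 0, 1, 2, 1],
    [2, 0, 1, 2, 3, 2, 1, 2, 0, 1, 2, 3, 0, 1, 2, 1, 0], [2, 3],
    [2, 1, 2, 3, 2, 1, 2, 0, 1, 2, 3, 0, 1, 2, 1, 0], [2, 3, 0],
    [3, 2, 1, 2, 0, 1, 2, 3, 2, 1, 2, 0, 1, 2, 3, 1, 2, 0, 1, 2, 0, 1],
    [3, 2, 0, 1, 2, 3, 1, 2, 1],
    [3, 2, 1, 2, 0, 1, 2, 3, 2, 1, 2, 0, 1, 2, 3, 1, 2, 0, 1, 2, 0, 1, 0],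
    [3, 2, 1, 2, 3, 1, 2, 1], [3, 2, 0, 1, 2, 3, 1, 2, 1, 0], [3, 2, 1, 2, 3, 1, 2, 1, 0],
    [2, 0, 1, 2, 3, 2, 1, 2, 0, 1, 2, 3, 0, 1, 2, 0, 1], [3, 2, 1, 2, 0, 1, 2, 3, 0, 1, 2, 1],
    [2, 0, 1, 2, 3, 2, 1, 2, 0, 1, 2, 3, 0, 1, 2, 0, 1, 0], [2, 3, 1],
    [3, 2, 1, 2, 0, 1, 2, 3, 0, 1, 2, 1, 0], [2, 3, 1, 0],
    [2, 1, 2, 3, 2, 1, 2, 0, 1, 2, 3, 0, 1, 2, 0, 1], [3, 2, 1, 2, 0, 1, 2, 3, 0, 1, 2, 0, 1],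
    [2, 1, 2, 3, 2, 1, 2, 0, 1, 2, 3, 0, 1, 2, 0, 1, 0], [2, 3, 0, 1],
    [3, 2, 1, 2, 0, 1, 2, 3, 0, 1, 2, 0, 1, 0], [2, 3, 0, 1, 0],
    [2, 3, 1, 2, 0, 1, 2, 3, 2, 1, 2, 0, 1], [3, 2, 0, 1, 2, 3, 1, 2, 0, 1],
    [2, 3, 1, 2, 0, 1, 2, 3, 2, 1, 2, 0, 1, 0], [3, 2, 1, 2, 3, 1, 2, 0, 1],
    [3, 2, 0, 1, 2, 3, 1, 2, 0, 1, 0], [3, 2, 1, 2, 3, 1, 2, 0, 1, 0],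
    [2, 0, 1, 2, 3, 2, 1, 2, 0, 1, 2, 3, 2, 0, 1, 2],
    [2, 1, 2, 3, 2, 1, 2, 0, 1, 2, 3, 2, 0, 1, 2],
    [2, 0, 1, 2, 3, 2, 1, 2, 0, 1, 2, 3, 2, 0, 1, 2, 0], [2, 1, 2, 0, 1, 2, 3, 0, 1, 2],
    [2, 1, 2, 3, 2, 1, 2, 0, 1, 2, 3, 2, 0, 1, 2, 0], [2, 1, 2, 0, 1, 2, 3, 0, 1, 2, 0],
    [2, 1, 2, 0, 1, 2, 3, 2, 1, 2, 0, 1, 2, 3, 1, 2, 0, 1, 2],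
    [2, 3, 2, 1, 2, 0, 1, 2, 3, 2, 1, 2],
    [2, 1, 2, 0, 1, 2, 3, 2, 1, 2, 0, 1, 2, 3, 1, 2, 0, 1, 2, 0], [2, 0, 1, 2, 3, 1, 2],
    [2, 3, 2, 1, 2, 0, 1, 2, 3, 2, 1, 2, 0], [2, 0, 1, 2, 3, 1, 2, 0],
    [2, 1, 2, 0, 1, 2, 3, 2, 1, 2, 0, 1, 2, 3, 1, 2, 0, 1, 2, 1],
    [2, 3, 2, 1, 2, 0, 1, 2, 3, 2, 1, 2, 1],
    [2, 1, 2, 0, 1, 2, 3, 2, 1, 2, 0, 1, 2, 3, 1, 2, 0, 1, 2, 1, 0], [2, 1, 2, 3, 1, 2],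
    [2, 3, 2, 1, 2, 0, 1, 2, 3, 2, 1, 2, 1, 0], [2, 1, 2, 3, 1, 2, 0],
    [2, 0, 1, 2, 3, 2, 1, 2, 0, 1, 2, 3, 2, 0, 1, 2, 1],
    [2, 1, 2, 3, 2, 1, 2, 0, 1, 2, 3, 2, 0, 1, 2, 1],
    [2, 0, 1, 2, 3, 2, 1, 2, 0, 1, 2, 3, 2, 0, 1, 2, 1, 0], [2, 3, 2],
    [2, 1, 2, 3, 2, 1, 2, 0, 1, 2, 3, 2, 0, 1, 2, 1, 0], [2, 3, 2, 0],
    [2, 1, 2, 0, 1, 2, 3, 2, 1, 2, 0, 1, 2, 3, 1, 2, 0, 1, 2, 0, 1], [2, 0, 1, 2, 3, 1, 2, 1],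
    [2, 1, 2, 0, 1, 2, 3, 2, 1, 2, 0, 1, 2, 3, 1, 2, 0, 1, 2, 0, 1, 0], [2, 1, 2, 3, 1, 2, 1],
    [2, 0, 1, 2, 3, 1, 2, 1, 0], [2, 1, 2, 3, 1, 2, 1, 0],
    [2, 0, 1, 2, 3, 2, 1, 2, 0, 1, 2, 3, 2, 0, 1, 2, 0, 1], [2, 1, 2, 0, 1, 2, 3, 0, 1, 2, 1],
    [2, 0, 1, 2, 3, 2, 1, 2, 0, 1, 2, 3, 2, 0, 1, 2, 0, 1, 0], [2, 3, 2, 1],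
    [2, 1, 2, 0, 1, 2, 3, 0, 1, 2, 1, 0], [2, 3, 2, 1, 0],
    [2, 1, 2, 3, 2, 1, 2, 0, 1, 2, 3, 2, 0, 1, 2, 0, 1], [2, 1, 2, 0, 1, 2, 3, 0, 1, 2, 0, 1],
    [2, 1, 2, 3, 2, 1, 2, 0, 1, 2, 3, 2, 0, 1, 2, 0, 1, 0], [2, 3, 2, 0, 1],
    [2, 1, 2, 0, 1, 2, 3, 0, 1, 2, 0, 1, 0], [2, 3, 2, 0, 1, 0],
    [2, 3, 2, 1, 2, 0, 1, 2, 3, 2, 1, 2, 0, 1], [2, 0, 1, 2, 3, 1, 2, 0, 1],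
    [2, 3, 2, 1, 2, 0, 1, 2, 3, 2, 1, 2, 0, 1, 0], [2, 1, 2, 3, 1, 2, 0, 1],
    [2, 0, 1, 2, 3, 1, 2, 0, 1, 0], [2, 1, 2, 3, 1, 2, 0, 1, 0],
    [0, 1, 2, 3, 2, 1, 2, 0, 1, 2, 3, 0, 1, 2], [1, 2, 3, 2, 1, 2, 0, 1, 2, 3, 0, 1, 2],
    [0, 1, 2, 3, 2, 1, 2, 0, 1, 2, 3, 0, 1, 2, 0], [2, 3, 2, 1, 2, 0, 1, 2, 3, 0, 1, 2],
    [1, 2, 3, 2, 1, 2, 0, 1, 2, 3, 0, 1, 2, 0], [2, 3, 2, 1, 2, 0, 1, 2, 3, 0, 1, 2, 0],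
    [3, 2, 1, 2, 0, 1, 2, 3, 2, 1, 2, 0, 1, 2, 3, 2, 1, 2, 0, 1, 2],
    [3, 1, 2, 0, 1, 2, 3, 2, 1, 2],
    [3, 2, 1, 2, 0, 1, 2, 3, 2, 1, 2, 0, 1, 2, 3, 2, 1, 2, 0, 1, 2, 0],
    [3, 2, 0, 1, 2, 3, 2, 1, 2], [3, 1, 2, 0, 1, 2, 3, 2, 1, 2, 0],
    [3, 2, 0, 1, 2, 3, 2, 1, 2, 0],
    [3, 2, 1, 2, 0, 1, 2, 3, 2, 1, 2, 0, 1, 2, 3, 2, 1, 2, 0, 1, 2, 1],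
    [3, 1, 2, 0, 1, 2, 3, 2, 1, 2, 1],
    [3, 2, 1, 2, 0, 1, 2, 3, 2, 1, 2, 0, 1, 2, 3, 2, 1, 2, 0, 1, 2, 1, 0],
    [3, 2, 1, 2, 3, 2, 1, 2], [3, 1, 2, 0, 1, 2, 3, 2, 1, 2, 1, 0], [3, 2, 1, 2, 3, 2, 1, 2, 0],
    [3, 2, 1, 2, 0, 1, 2, 3, 2, 1, 2, 0, 1, 2, 3, 2, 1, 2, 0, 1, 2, 0, 1],
    [3, 2, 0, 1, 2, 3, 2, 1, 2, 1],
    [3, 2, 1, 2, 0, 1, 2, 3, 2, 1, 2, 0, 1, 2, 3, 2, 1, 2, 0, 1, 2, 0, 1, 0],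
    [3, 2, 1, 2, 3, 2, 1, 2, 1], [3, 2, 0, 1, 2, 3, 2, 1, 2, 1, 0],
    [3, 2, 1, 2, 3, 2, 1, 2, 1, 0], [0, 1, 2, 3, 2, 1, 2, 0, 1, 2, 3, 0, 1, 2, 1],
    [1, 2, 3, 2, 1, 2, 0, 1, 2, 3, 0, 1, 2, 1], [0, 1, 2, 3, 2, 1, 2, 0, 1, 2, 3, 0, 1, 2, 1, 0],
    [3], [1, 2, 3, 2, 1, 2, 0, 1, 2, 3, 0, 1, 2, 1, 0], [3, 0],
    [0, 1, 2, 3, 2, 1, 2, 0, 1, 2, 3, 0, 1, 2, 0, 1], [2, 3, 2, 1, 2, 0, 1, 2, 3, 0, 1, 2, 1],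
    [0, 1, 2, 3, 2, 1, 2, 0, 1, 2, 3, 0, 1, 2, 0, 1, 0], [3, 1],
    [2, 3, 2, 1, 2, 0, 1, 2, 3, 0, 1, 2, 1, 0], [3, 1, 0],
    [1, 2, 3, 2, 1, 2, 0, 1, 2, 3, 0, 1, 2, 0, 1], [2, 3, 2, 1, 2, 0, 1, 2, 3, 0, 1, 2, 0, 1],
    [1, 2, 3, 2, 1, 2, 0, 1, 2, 3, 0, 1, 2, 0, 1, 0], [3, 0, 1],
    [2, 3, 2, 1, 2, 0, 1, 2, 3, 0, 1, 2, 0, 1, 0], [3, 0, 1, 0],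
    [3, 1, 2, 0, 1, 2, 3, 2, 1, 2, 0, 1], [3, 2, 0, 1, 2, 3, 2, 1, 2, 0, 1],
    [3, 1, 2, 0, 1, 2, 3, 2, 1, 2, 0, 1, 0], [3, 2, 1, 2, 3, 2, 1, 2, 0, 1],
    [3, 2, 0, 1, 2, 3, 2, 1, 2, 0, 1, 0], [3, 2, 1, 2, 3, 2, 1, 2, 0, 1, 0],
    [0, 1, 2, 3, 1, 2, 0, 1, 2, 3, 0, 1, 2], [1, 2, 3, 1, 2, 0, 1, 2, 3, 0, 1, 2],
    [0, 1, 2, 3, 1, 2, 0, 1, 2, 3, 0, 1, 2, 0], [2, 3, 1, 2, 0, 1, 2, 3, 0, 1, 2],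
    [1, 2, 3, 1, 2, 0, 1, 2, 3, 0, 1, 2, 0], [2, 3, 1, 2, 0, 1, 2, 3, 0, 1, 2, 0],
    [2, 1, 2, 0, 1, 2, 3, 2, 1, 2, 0, 1, 2, 3, 2, 1, 2, 0, 1, 2], [1, 2, 0, 1, 2, 3, 2, 1, 2],
    [2, 1, 2, 0, 1, 2, 3, 2, 1, 2, 0, 1, 2, 3, 2, 1, 2, 0, 1, 2, 0], [2, 0, 1, 2, 3, 2, 1, 2],
    [1, 2, 0, 1, 2, 3, 2, 1, 2, 0], [2, 0, 1, 2, 3, 2, 1, 2, 0],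
    [2, 1, 2, 0, 1, 2, 3, 2, 1, 2, 0, 1, 2, 3, 2, 1, 2, 0, 1, 2, 1],
    [1, 2, 0, 1, 2, 3, 2, 1, 2, 1],
    [2, 1, 2, 0, 1, 2, 3, 2, 1, 2, 0, 1, 2, 3, 2, 1, 2, 0, 1, 2, 1, 0], [2, 1, 2, 3, 2, 1, 2],
    [1, 2, 0, 1, 2, 3, 2, 1, 2, 1, 0], [2, 1, 2, 3, 2, 1, 2, 0],
    [2, 1, 2, 0, 1, 2, 3, 2, 1, 2, 0, 1, 2, 3, 2, 1, 2, 0, 1, 2, 0, 1],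
    [2, 0, 1, 2, 3, 2, 1, 2, 1],
    [2, 1, 2, 0, 1, 2, 3, 2, 1, 2, 0, 1, 2, 3, 2, 1, 2, 0, 1, 2, 0, 1, 0],
    [2, 1, 2, 3, 2, 1, 2, 1], [2, 0, 1, 2, 3, 2, 1, 2, 1, 0], [2, 1, 2, 3, 2, 1, 2, 1, 0],
    [0, 1, 2, 3, 1, 2, 0, 1, 2, 3, 0, 1, 2, 1], [1, 2, 3, 1, 2, 0, 1, 2, 3, 0, 1, 2, 1],
    [0, 1, 2, 3, 1, 2, 0, 1, 2, 3, 0, 1, 2, 1, 0], [],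
    [1, 2, 3, 1, 2, 0, 1, 2, 3, 0, 1, 2, 1, 0], [0],
    [0, 1, 2, 3, 1, 2, 0, 1, 2, 3, 0, 1, 2, 0, 1], [2, 3, 1, 2, 0, 1, 2, 3, 0, 1, 2, 1],
    [0, 1, 2, 3, 1, 2, 0, 1, 2, 3, 0, 1, 2, 0, 1, 0], [1],
    [2, 3, 1, 2, 0, 1, 2, 3, 0, 1, 2, 1, 0], [1, 0], [1, 2, 3, 1, 2, 0, 1, 2, 3, 0, 1, 2, 0, 1],
    [2, 3, 1, 2, 0, 1, 2, 3, 0, 1, 2, 0, 1], [1, 2, 3, 1, 2, 0, 1, 2, 3, 0, 1, 2, 0, 1, 0],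
    [0, 1], [2, 3, 1, 2, 0, 1, 2, 3, 0, 1, 2, 0, 1, 0], [0, 1, 0],
    [1, 2, 0, 1, 2, 3, 2, 1, 2, 0, 1], [2, 0, 1, 2, 3, 2, 1, 2, 0, 1],
    [1, 2, 0, 1, 2, 3, 2, 1, 2, 0, 1, 0], [2, 1, 2, 3, 2, 1, 2, 0, 1],
    [2, 0, 1, 2, 3, 2, 1, 2, 0, 1, 0], [2, 1, 2, 3, 2, 1, 2, 0, 1, 0],
    [0, 1, 2, 3, 2, 1, 2, 0, 1, 2, 3, 2, 0, 1, 2], [1, 2, 3, 2, 1, 2, 0, 1, 2, 3, 2, 0, 1, 2],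
    [0, 1, 2, 3, 2, 1, 2, 0, 1, 2, 3, 2, 0, 1, 2, 0], [1, 2, 0, 1, 2, 3, 0, 1, 2],
    [1, 2, 3, 2, 1, 2, 0, 1, 2, 3, 2, 0, 1, 2, 0], [1, 2, 0, 1, 2, 3, 0, 1, 2, 0],
    [1, 2, 0, 1, 2, 3, 2, 1, 2, 0, 1, 2, 3, 1, 2, 0, 1, 2], [3, 2, 1, 2, 0, 1, 2, 3, 2, 1, 2],
    [1, 2, 0, 1, 2, 3, 2, 1, 2, 0, 1, 2, 3, 1, 2, 0, 1, 2, 0], [0, 1, 2, 3, 1, 2],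
    [3, 2, 1, 2, 0, 1, 2, 3, 2, 1, 2, 0], [0, 1, 2, 3, 1, 2, 0],
    [1, 2, 0, 1, 2, 3, 2, 1, 2, 0, 1, 2, 3, 1, 2, 0, 1, 2, 1],
    [3, 2, 1, 2, 0, 1, 2, 3, 2, 1, 2, 1],
    [1, 2, 0, 1, 2, 3, 2, 1, 2, 0, 1, 2, 3, 1, 2, 0, 1, 2, 1, 0], [1, 2, 3, 1, 2],
    [3, 2, 1, 2, 0, 1, 2, 3, 2, 1, 2, 1, 0], [1, 2, 3, 1, 2, 0],
    [0, 1, 2, 3, 2, 1, 2, 0, 1, 2, 3, 2, 0, 1, 2, 1],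
    [1, 2, 3, 2, 1, 2, 0, 1, 2, 3, 2, 0, 1, 2, 1],
    [0, 1, 2, 3, 2, 1, 2, 0, 1, 2, 3, 2, 0, 1, 2, 1, 0], [3, 2],
    [1, 2, 3, 2, 1, 2, 0, 1, 2, 3, 2, 0, 1, 2, 1, 0], [3, 2, 0],
    [1, 2, 0, 1, 2, 3, 2, 1, 2, 0, 1, 2, 3, 1, 2, 0, 1, 2, 0, 1], [0, 1, 2, 3, 1, 2, 1],
    [1, 2, 0, 1, 2, 3, 2, 1, 2, 0, 1, 2, 3, 1, 2, 0, 1, 2, 0, 1, 0], [1, 2, 3, 1, 2, 1],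
    [0, 1, 2, 3, 1, 2, 1, 0], [1, 2, 3, 1, 2, 1, 0],
    [0, 1, 2, 3, 2, 1, 2, 0, 1, 2, 3, 2, 0, 1, 2, 0, 1], [1, 2, 0, 1, 2, 3, 0, 1, 2, 1],
    [0, 1, 2, 3, 2, 1, 2, 0, 1, 2, 3, 2, 0, 1, 2, 0, 1, 0], [3, 2, 1],
    [1, 2, 0, 1, 2, 3, 0, 1, 2, 1, 0], [3, 2, 1, 0],
    [1, 2, 3, 2, 1, 2, 0, 1, 2, 3, 2, 0, 1, 2, 0, 1], [1, 2, 0, 1, 2, 3, 0, 1, 2, 0, 1],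
    [1, 2, 3, 2, 1, 2, 0, 1, 2, 3, 2, 0, 1, 2, 0, 1, 0], [3, 2, 0, 1],
    [1, 2, 0, 1, 2, 3, 0, 1, 2, 0, 1, 0], [3, 2, 0, 1, 0],
    [3, 2, 1, 2, 0, 1, 2, 3, 2, 1, 2, 0, 1], [0, 1, 2, 3, 1, 2, 0, 1],
    [3, 2, 1, 2, 0, 1, 2, 3, 2, 1, 2, 0, 1, 0], [1, 2, 3, 1, 2, 0, 1],
    [0, 1, 2, 3, 1, 2, 0, 1, 0], [1, 2, 3, 1, 2, 0, 1, 0],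
    [0, 1, 2, 3, 1, 2, 0, 1, 2, 3, 2, 0, 1, 2], [1, 2, 3, 1, 2, 0, 1, 2, 3, 2, 0, 1, 2],
    [0, 1, 2, 3, 1, 2, 0, 1, 2, 3, 2, 0, 1, 2, 0], [3, 1, 2, 0, 1, 2, 3, 0, 1, 2],
    [1, 2, 3, 1, 2, 0, 1, 2, 3, 2, 0, 1, 2, 0], [3, 1, 2, 0, 1, 2, 3, 0, 1, 2, 0],
    [1, 2, 0, 1, 2, 3, 2, 1, 2, 0, 1, 2, 3, 2, 1, 2, 0, 1, 2], [2, 1, 2, 0, 1, 2, 3, 2, 1, 2],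
    [1, 2, 0, 1, 2, 3, 2, 1, 2, 0, 1, 2, 3, 2, 1, 2, 0, 1, 2, 0], [0, 1, 2, 3, 2, 1, 2],
    [2, 1, 2, 0, 1, 2, 3, 2, 1, 2, 0], [0, 1, 2, 3, 2, 1, 2, 0],
    [1, 2, 0, 1, 2, 3, 2, 1, 2, 0, 1, 2, 3, 2, 1, 2, 0, 1, 2, 1],
    [2, 1, 2, 0, 1, 2, 3, 2, 1, 2, 1],
    [1, 2, 0, 1, 2, 3, 2, 1, 2, 0, 1, 2, 3, 2, 1, 2, 0, 1, 2, 1, 0], [1, 2, 3, 2, 1, 2],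
    [2, 1, 2, 0, 1, 2, 3, 2, 1, 2, 1, 0], [1, 2, 3, 2, 1, 2, 0],
    [0, 1, 2, 3, 1, 2, 0, 1, 2, 3, 2, 0, 1, 2, 1], [1, 2, 3, 1, 2, 0, 1, 2, 3, 2, 0, 1, 2, 1],
    [0, 1, 2, 3, 1, 2, 0, 1, 2, 3, 2, 0, 1, 2, 1, 0], [2],
    [1, 2, 3, 1, 2, 0, 1, 2, 3, 2, 0, 1, 2, 1, 0], [2, 0],
    [1, 2, 0, 1, 2, 3, 2, 1, 2, 0, 1, 2, 3, 2, 1, 2, 0, 1, 2, 0, 1], [0, 1, 2, 3, 2, 1, 2, 1],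
    [1, 2, 0, 1, 2, 3, 2, 1, 2, 0, 1, 2, 3, 2, 1, 2, 0, 1, 2, 0, 1, 0], [1, 2, 3, 2, 1, 2, 1],
    [0, 1, 2, 3, 2, 1, 2, 1, 0], [1, 2, 3, 2, 1, 2, 1, 0],
    [0, 1, 2, 3, 1, 2, 0, 1, 2, 3, 2, 0, 1, 2, 0, 1], [3, 1, 2, 0, 1, 2, 3, 0, 1, 2, 1],
    [0, 1, 2, 3, 1, 2, 0, 1, 2, 3, 2, 0, 1, 2, 0, 1, 0], [2, 1],
    [3, 1, 2, 0, 1, 2, 3, 0, 1, 2, 1, 0], [2, 1, 0],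
    [1, 2, 3, 1, 2, 0, 1, 2, 3, 2, 0, 1, 2, 0, 1], [3, 1, 2, 0, 1, 2, 3, 0, 1, 2, 0, 1],
    [1, 2, 3, 1, 2, 0, 1, 2, 3, 2, 0, 1, 2, 0, 1, 0], [2, 0, 1],
    [3, 1, 2, 0, 1, 2, 3, 0, 1, 2, 0, 1, 0], [2, 0, 1, 0], [2, 1, 2, 0, 1, 2, 3, 2, 1, 2, 0, 1],
    [0, 1, 2, 3, 2, 1, 2, 0, 1], [2, 1, 2, 0, 1, 2, 3, 2, 1, 2, 0, 1, 0],
    [1, 2, 3, 2, 1, 2, 0, 1], [0, 1, 2, 3, 2, 1, 2, 0, 1, 0], [1, 2, 3, 2, 1, 2, 0, 1, 0],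
    [0, 1, 2, 3, 2, 1, 2, 0, 1, 2, 3, 1, 2, 0, 1, 2], [2, 3, 2, 1, 2, 0, 1, 2, 3, 2, 0, 1, 2],
    [0, 1, 2, 3, 2, 1, 2, 0, 1, 2, 3, 1, 2, 0, 1, 2, 0], [2, 0, 1, 2, 3, 0, 1, 2],
    [2, 3, 2, 1, 2, 0, 1, 2, 3, 2, 0, 1, 2, 0], [2, 0, 1, 2, 3, 0, 1, 2, 0],
    [2, 0, 1, 2, 3, 2, 1, 2, 0, 1, 2, 3, 1, 2, 0, 1, 2], [3, 2, 1, 2, 0, 1, 2, 3, 2, 0, 1, 2],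
    [2, 0, 1, 2, 3, 2, 1, 2, 0, 1, 2, 3, 1, 2, 0, 1, 2, 0], [0, 1, 2, 3, 0, 1, 2],
    [3, 2, 1, 2, 0, 1, 2, 3, 2, 0, 1, 2, 0], [0, 1, 2, 3, 0, 1, 2, 0],
    [2, 0, 1, 2, 3, 2, 1, 2, 0, 1, 2, 3, 1, 2, 0, 1, 2, 1],
    [3, 2, 1, 2, 0, 1, 2, 3, 2, 0, 1, 2, 1],
    [2, 0, 1, 2, 3, 2, 1, 2, 0, 1, 2, 3, 1, 2, 0, 1, 2, 1, 0], [2, 3, 1, 2],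
    [3, 2, 1, 2, 0, 1, 2, 3, 2, 0, 1, 2, 1, 0], [2, 3, 1, 2, 0],
    [0, 1, 2, 3, 2, 1, 2, 0, 1, 2, 3, 1, 2, 0, 1, 2, 1],
    [2, 3, 2, 1, 2, 0, 1, 2, 3, 2, 0, 1, 2, 1],
    [0, 1, 2, 3, 2, 1, 2, 0, 1, 2, 3, 1, 2, 0, 1, 2, 1, 0], [3, 1, 2],
    [2, 3, 2, 1, 2, 0, 1, 2, 3, 2, 0, 1, 2, 1, 0], [3, 1, 2, 0],
    [2, 0, 1, 2, 3, 2, 1, 2, 0, 1, 2, 3, 1, 2, 0, 1, 2, 0, 1], [0, 1, 2, 3, 0, 1, 2, 1],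
    [2, 0, 1, 2, 3, 2, 1, 2, 0, 1, 2, 3, 1, 2, 0, 1, 2, 0, 1, 0], [2, 3, 1, 2, 1],
    [0, 1, 2, 3, 0, 1, 2, 1, 0], [2, 3, 1, 2, 1, 0],
    [0, 1, 2, 3, 2, 1, 2, 0, 1, 2, 3, 1, 2, 0, 1, 2, 0, 1], [2, 0, 1, 2, 3, 0, 1, 2, 1],
    [0, 1, 2, 3, 2, 1, 2, 0, 1, 2, 3, 1, 2, 0, 1, 2, 0, 1, 0], [3, 1, 2, 1],
    [2, 0, 1, 2, 3, 0, 1, 2, 1, 0], [3, 1, 2, 1, 0],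
    [2, 3, 2, 1, 2, 0, 1, 2, 3, 2, 0, 1, 2, 0, 1], [2, 0, 1, 2, 3, 0, 1, 2, 0, 1],
    [2, 3, 2, 1, 2, 0, 1, 2, 3, 2, 0, 1, 2, 0, 1, 0], [3, 1, 2, 0, 1],
    [2, 0, 1, 2, 3, 0, 1, 2, 0, 1, 0], [3, 1, 2, 0, 1, 0],
    [3, 2, 1, 2, 0, 1, 2, 3, 2, 0, 1, 2, 0, 1], [0, 1, 2, 3, 0, 1, 2, 0, 1],
    [3, 2, 1, 2, 0, 1, 2, 3, 2, 0, 1, 2, 0, 1, 0], [2, 3, 1, 2, 0, 1],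
    [0, 1, 2, 3, 0, 1, 2, 0, 1, 0], [2, 3, 1, 2, 0, 1, 0],
    [0, 1, 2, 3, 1, 2, 0, 1, 2, 3, 1, 2, 0, 1, 2], [2, 3, 1, 2, 0, 1, 2, 3, 2, 0, 1, 2],
    [0, 1, 2, 3, 1, 2, 0, 1, 2, 3, 1, 2, 0, 1, 2, 0], [3, 2, 0, 1, 2, 3, 0, 1, 2],
    [2, 3, 1, 2, 0, 1, 2, 3, 2, 0, 1, 2, 0], [3, 2, 0, 1, 2, 3, 0, 1, 2, 0],
    [2, 0, 1, 2, 3, 2, 1, 2, 0, 1, 2, 3, 2, 1, 2, 0, 1, 2], [2, 1, 2, 0, 1, 2, 3, 2, 0, 1, 2],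
    [2, 0, 1, 2, 3, 2, 1, 2, 0, 1, 2, 3, 2, 1, 2, 0, 1, 2, 0], [0, 1, 2, 3, 2, 0, 1, 2],
    [2, 1, 2, 0, 1, 2, 3, 2, 0, 1, 2, 0], [0, 1, 2, 3, 2, 0, 1, 2, 0],
    [2, 0, 1, 2, 3, 2, 1, 2, 0, 1, 2, 3, 2, 1, 2, 0, 1, 2, 1],
    [2, 1, 2, 0, 1, 2, 3, 2, 0, 1, 2, 1],
    [2, 0, 1, 2, 3, 2, 1, 2, 0, 1, 2, 3, 2, 1, 2, 0, 1, 2, 1, 0], [2, 3, 2, 1, 2],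
    [2, 1, 2, 0, 1, 2, 3, 2, 0, 1, 2, 1, 0], [2, 3, 2, 1, 2, 0],
    [0, 1, 2, 3, 1, 2, 0, 1, 2, 3, 1, 2, 0, 1, 2, 1], [2, 3, 1, 2, 0, 1, 2, 3, 2, 0, 1, 2, 1],
    [0, 1, 2, 3, 1, 2, 0, 1, 2, 3, 1, 2, 0, 1, 2, 1, 0], [1, 2],
    [2, 3, 1, 2, 0, 1, 2, 3, 2, 0, 1, 2, 1, 0], [1, 2, 0],
    [2, 0, 1, 2, 3, 2, 1, 2, 0, 1, 2, 3, 2, 1, 2, 0, 1, 2, 0, 1], [0, 1, 2, 3, 2, 0, 1, 2, 1],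
    [2, 0, 1, 2, 3, 2, 1, 2, 0, 1, 2, 3, 2, 1, 2, 0, 1, 2, 0, 1, 0], [2, 3, 2, 1, 2, 1],
    [0, 1, 2, 3, 2, 0, 1, 2, 1, 0], [2, 3, 2, 1, 2, 1, 0],
    [0, 1, 2, 3, 1, 2, 0, 1, 2, 3, 1, 2, 0, 1, 2, 0, 1], [3, 2, 0, 1, 2, 3, 0, 1, 2, 1],
    [0, 1, 2, 3, 1, 2, 0, 1, 2, 3, 1, 2, 0, 1, 2, 0, 1, 0], [1, 2, 1],
    [3, 2, 0, 1, 2, 3, 0, 1, 2, 1, 0], [1, 2, 1, 0], [2, 3, 1, 2, 0, 1, 2, 3, 2, 0, 1, 2, 0, 1],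
    [3, 2, 0, 1, 2, 3, 0, 1, 2, 0, 1], [2, 3, 1, 2, 0, 1, 2, 3, 2, 0, 1, 2, 0, 1, 0],
    [1, 2, 0, 1], [3, 2, 0, 1, 2, 3, 0, 1, 2, 0, 1, 0], [1, 2, 0, 1, 0],
    [2, 1, 2, 0, 1, 2, 3, 2, 0, 1, 2, 0, 1], [0, 1, 2, 3, 2, 0, 1, 2, 0, 1],
    [2, 1, 2, 0, 1, 2, 3, 2, 0, 1, 2, 0, 1, 0], [2, 3, 2, 1, 2, 0, 1],
    [0, 1, 2, 3, 2, 0, 1, 2, 0, 1, 0], [2, 3, 2, 1, 2, 0, 1, 0],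
    [0, 1, 2, 3, 1, 2, 0, 1, 2, 3, 2, 1, 2, 0, 1, 2], [3, 1, 2, 0, 1, 2, 3, 2, 0, 1, 2],
    [0, 1, 2, 3, 1, 2, 0, 1, 2, 3, 2, 1, 2, 0, 1, 2, 0], [3, 2, 0, 1, 2, 3, 2, 0, 1, 2],
    [3, 1, 2, 0, 1, 2, 3, 2, 0, 1, 2, 0], [3, 2, 0, 1, 2, 3, 2, 0, 1, 2, 0],
    [0, 1, 2, 3, 2, 1, 2, 0, 1, 2, 3, 2, 1, 2, 0, 1, 2], [1, 2, 0, 1, 2, 3, 2, 0, 1, 2],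
    [0, 1, 2, 3, 2, 1, 2, 0, 1, 2, 3, 2, 1, 2, 0, 1, 2, 0], [2, 0, 1, 2, 3, 2, 0, 1, 2],
    [1, 2, 0, 1, 2, 3, 2, 0, 1, 2, 0], [2, 0, 1, 2, 3, 2, 0, 1, 2, 0],
    [0, 1, 2, 3, 2, 1, 2, 0, 1, 2, 3, 2, 1, 2, 0, 1, 2, 1], [1, 2, 0, 1, 2, 3, 2, 0, 1, 2, 1],
    [0, 1, 2, 3, 2, 1, 2, 0, 1, 2, 3, 2, 1, 2, 0, 1, 2, 1, 0], [3, 2, 1, 2],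
    [1, 2, 0, 1, 2, 3, 2, 0, 1, 2, 1, 0], [3, 2, 1, 2, 0],
    [0, 1, 2, 3, 1, 2, 0, 1, 2, 3, 2, 1, 2, 0, 1, 2, 1], [3, 1, 2, 0, 1, 2, 3, 2, 0, 1, 2, 1],
    [0, 1, 2, 3, 1, 2, 0, 1, 2, 3, 2, 1, 2, 0, 1, 2, 1, 0], [2, 1, 2],
    [3, 1, 2, 0, 1, 2, 3, 2, 0, 1, 2, 1, 0], [2, 1, 2, 0],
    [0, 1, 2, 3, 2, 1, 2, 0, 1, 2, 3, 2, 1, 2, 0, 1, 2, 0, 1], [2, 0, 1, 2, 3, 2, 0, 1, 2, 1],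
    [0, 1, 2, 3, 2, 1, 2, 0, 1, 2, 3, 2, 1, 2, 0, 1, 2, 0, 1, 0], [3, 2, 1, 2, 1],
    [2, 0, 1, 2, 3, 2, 0, 1, 2, 1, 0], [3, 2, 1, 2, 1, 0],
    [0, 1, 2, 3, 1, 2, 0, 1, 2, 3, 2, 1, 2, 0, 1, 2, 0, 1], [3, 2, 0, 1, 2, 3, 2, 0, 1, 2, 1],
    [0, 1, 2, 3, 1, 2, 0, 1, 2, 3, 2, 1, 2, 0, 1, 2, 0, 1, 0], [2, 1, 2, 1],
    [3, 2, 0, 1, 2, 3, 2, 0, 1, 2, 1, 0], [2, 1, 2, 1, 0],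
    [3, 1, 2, 0, 1, 2, 3, 2, 0, 1, 2, 0, 1], [3, 2, 0, 1, 2, 3, 2, 0, 1, 2, 0, 1],
    [3, 1, 2, 0, 1, 2, 3, 2, 0, 1, 2, 0, 1, 0], [2, 1, 2, 0, 1],
    [3, 2, 0, 1, 2, 3, 2, 0, 1, 2, 0, 1, 0], [2, 1, 2, 0, 1, 0],
    [1, 2, 0, 1, 2, 3, 2, 0, 1, 2, 0, 1], [2, 0, 1, 2, 3, 2, 0, 1, 2, 0, 1],
    [1, 2, 0, 1, 2, 3, 2, 0, 1, 2, 0, 1, 0], [3, 2, 1, 2, 0, 1],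
    [2, 0, 1, 2, 3, 2, 0, 1, 2, 0, 1, 0], [3, 2, 1, 2, 0, 1, 0],
    [1, 2, 3, 2, 1, 2, 0, 1, 2, 3, 1, 2, 0, 1, 2], [2, 3, 2, 1, 2, 0, 1, 2, 3, 1, 2, 0, 1, 2],
    [1, 2, 3, 2, 1, 2, 0, 1, 2, 3, 1, 2, 0, 1, 2, 0], [2, 1, 2, 3, 0, 1, 2],
    [2, 3, 2, 1, 2, 0, 1, 2, 3, 1, 2, 0, 1, 2, 0], [2, 1, 2, 3, 0, 1, 2, 0],
    [2, 1, 2, 3, 2, 1, 2, 0, 1, 2, 3, 1, 2, 0, 1, 2], [3, 2, 1, 2, 0, 1, 2, 3, 1, 2, 0, 1, 2],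
    [2, 1, 2, 3, 2, 1, 2, 0, 1, 2, 3, 1, 2, 0, 1, 2, 0], [1, 2, 3, 0, 1, 2],
    [3, 2, 1, 2, 0, 1, 2, 3, 1, 2, 0, 1, 2, 0], [1, 2, 3, 0, 1, 2, 0],
    [2, 1, 2, 3, 2, 1, 2, 0, 1, 2, 3, 1, 2, 0, 1, 2, 1],
    [3, 2, 1, 2, 0, 1, 2, 3, 1, 2, 0, 1, 2, 1],
    [2, 1, 2, 3, 2, 1, 2, 0, 1, 2, 3, 1, 2, 0, 1, 2, 1, 0], [2, 3, 0, 1, 2],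
    [3, 2, 1, 2, 0, 1, 2, 3, 1, 2, 0, 1, 2, 1, 0], [2, 3, 0, 1, 2, 0],
    [1, 2, 3, 2, 1, 2, 0, 1, 2, 3, 1, 2, 0, 1, 2, 1],
    [2, 3, 2, 1, 2, 0, 1, 2, 3, 1, 2, 0, 1, 2, 1],
    [1, 2, 3, 2, 1, 2, 0, 1, 2, 3, 1, 2, 0, 1, 2, 1, 0], [3, 0, 1, 2],
    [2, 3, 2, 1, 2, 0, 1, 2, 3, 1, 2, 0, 1, 2, 1, 0], [3, 0, 1, 2, 0],
    [2, 1, 2, 3, 2, 1, 2, 0, 1, 2, 3, 1, 2, 0, 1, 2, 0, 1], [1, 2, 3, 0, 1, 2, 1],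
    [2, 1, 2, 3, 2, 1, 2, 0, 1, 2, 3, 1, 2, 0, 1, 2, 0, 1, 0], [2, 3, 0, 1, 2, 1],
    [1, 2, 3, 0, 1, 2, 1, 0], [2, 3, 0, 1, 2, 1, 0],
    [1, 2, 3, 2, 1, 2, 0, 1, 2, 3, 1, 2, 0, 1, 2, 0, 1], [2, 1, 2, 3, 0, 1, 2, 1],
    [1, 2, 3, 2, 1, 2, 0, 1, 2, 3, 1, 2, 0, 1, 2, 0, 1, 0], [3, 0, 1, 2, 1],
    [2, 1, 2, 3, 0, 1, 2, 1, 0], [3, 0, 1, 2, 1, 0],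
    [2, 3, 2, 1, 2, 0, 1, 2, 3, 1, 2, 0, 1, 2, 0, 1], [2, 1, 2, 3, 0, 1, 2, 0, 1],
    [2, 3, 2, 1, 2, 0, 1, 2, 3, 1, 2, 0, 1, 2, 0, 1, 0], [3, 0, 1, 2, 0, 1],
    [2, 1, 2, 3, 0, 1, 2, 0, 1, 0], [3, 0, 1, 2, 0, 1, 0],
    [3, 2, 1, 2, 0, 1, 2, 3, 1, 2, 0, 1, 2, 0, 1], [1, 2, 3, 0, 1, 2, 0, 1],
    [3, 2, 1, 2, 0, 1, 2, 3, 1, 2, 0, 1, 2, 0, 1, 0], [2, 3, 0, 1, 2, 0, 1],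
    [1, 2, 3, 0, 1, 2, 0, 1, 0], [2, 3, 0, 1, 2, 0, 1, 0],
    [1, 2, 3, 1, 2, 0, 1, 2, 3, 1, 2, 0, 1, 2], [2, 3, 1, 2, 0, 1, 2, 3, 1, 2, 0, 1, 2],
    [1, 2, 3, 1, 2, 0, 1, 2, 3, 1, 2, 0, 1, 2, 0], [3, 2, 1, 2, 3, 0, 1, 2],
    [2, 3, 1, 2, 0, 1, 2, 3, 1, 2, 0, 1, 2, 0], [3, 2, 1, 2, 3, 0, 1, 2, 0],
    [2, 1, 2, 3, 2, 1, 2, 0, 1, 2, 3, 2, 1, 2, 0, 1, 2], [2, 1, 2, 0, 1, 2, 3, 1, 2, 0, 1, 2],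
    [2, 1, 2, 3, 2, 1, 2, 0, 1, 2, 3, 2, 1, 2, 0, 1, 2, 0], [1, 2, 3, 2, 0, 1, 2],
    [2, 1, 2, 0, 1, 2, 3, 1, 2, 0, 1, 2, 0], [1, 2, 3, 2, 0, 1, 2, 0],
    [2, 1, 2, 3, 2, 1, 2, 0, 1, 2, 3, 2, 1, 2, 0, 1, 2, 1],
    [2, 1, 2, 0, 1, 2, 3, 1, 2, 0, 1, 2, 1],
    [2, 1, 2, 3, 2, 1, 2, 0, 1, 2, 3, 2, 1, 2, 0, 1, 2, 1, 0], [2, 3, 2, 0, 1, 2],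
    [2, 1, 2, 0, 1, 2, 3, 1, 2, 0, 1, 2, 1, 0], [2, 3, 2, 0, 1, 2, 0],
    [1, 2, 3, 1, 2, 0, 1, 2, 3, 1, 2, 0, 1, 2, 1], [2, 3, 1, 2, 0, 1, 2, 3, 1, 2, 0, 1, 2, 1],
    [1, 2, 3, 1, 2, 0, 1, 2, 3, 1, 2, 0, 1, 2, 1, 0], [0, 1, 2],
    [2, 3, 1, 2, 0, 1, 2, 3, 1, 2, 0, 1, 2, 1, 0], [0, 1, 2, 0],
    [2, 1, 2, 3, 2, 1, 2, 0, 1, 2, 3, 2, 1, 2, 0, 1, 2, 0, 1], [1, 2, 3, 2, 0, 1, 2, 1],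
    [2, 1, 2, 3, 2, 1, 2, 0, 1, 2, 3, 2, 1, 2, 0, 1, 2, 0, 1, 0], [2, 3, 2, 0, 1, 2, 1],
    [1, 2, 3, 2, 0, 1, 2, 1, 0], [2, 3, 2, 0, 1, 2, 1, 0],
    [1, 2, 3, 1, 2, 0, 1, 2, 3, 1, 2, 0, 1, 2, 0, 1], [3, 2, 1, 2, 3, 0, 1, 2, 1],
    [1, 2, 3, 1, 2, 0, 1, 2, 3, 1, 2, 0, 1, 2, 0, 1, 0], [0, 1, 2, 1],
    [3, 2, 1, 2, 3, 0, 1, 2, 1, 0], [0, 1, 2, 1, 0],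
    [2, 3, 1, 2, 0, 1, 2, 3, 1, 2, 0, 1, 2, 0, 1], [3, 2, 1, 2, 3, 0, 1, 2, 0, 1],
    [2, 3, 1, 2, 0, 1, 2, 3, 1, 2, 0, 1, 2, 0, 1, 0], [0, 1, 2, 0, 1],
    [3, 2, 1, 2, 3, 0, 1, 2, 0, 1, 0], [0, 1, 2, 0, 1, 0],
    [2, 1, 2, 0, 1, 2, 3, 1, 2, 0, 1, 2, 0, 1], [1, 2, 3, 2, 0, 1, 2, 0, 1],
    [2, 1, 2, 0, 1, 2, 3, 1, 2, 0, 1, 2, 0, 1, 0], [2, 3, 2, 0, 1, 2, 0, 1],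
    [1, 2, 3, 2, 0, 1, 2, 0, 1, 0], [2, 3, 2, 0, 1, 2, 0, 1, 0],
    [1, 2, 3, 1, 2, 0, 1, 2, 3, 2, 1, 2, 0, 1, 2], [3, 1, 2, 0, 1, 2, 3, 1, 2, 0, 1, 2],
    [1, 2, 3, 1, 2, 0, 1, 2, 3, 2, 1, 2, 0, 1, 2, 0], [3, 2, 1, 2, 3, 2, 0, 1, 2],
    [3, 1, 2, 0, 1, 2, 3, 1, 2, 0, 1, 2, 0], [3, 2, 1, 2, 3, 2, 0, 1, 2, 0],
    [1, 2, 3, 2, 1, 2, 0, 1, 2, 3, 2, 1, 2, 0, 1, 2], [1, 2, 0, 1, 2, 3, 1, 2, 0, 1, 2],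
    [1, 2, 3, 2, 1, 2, 0, 1, 2, 3, 2, 1, 2, 0, 1, 2, 0], [2, 1, 2, 3, 2, 0, 1, 2],
    [1, 2, 0, 1, 2, 3, 1, 2, 0, 1, 2, 0], [2, 1, 2, 3, 2, 0, 1, 2, 0],
    [1, 2, 3, 2, 1, 2, 0, 1, 2, 3, 2, 1, 2, 0, 1, 2, 1], [1, 2, 0, 1, 2, 3, 1, 2, 0, 1, 2, 1],
    [1, 2, 3, 2, 1, 2, 0, 1, 2, 3, 2, 1, 2, 0, 1, 2, 1, 0], [3, 2, 0, 1, 2],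
    [1, 2, 0, 1, 2, 3, 1, 2, 0, 1, 2, 1, 0], [3, 2, 0, 1, 2, 0],
    [1, 2, 3, 1, 2, 0, 1, 2, 3, 2, 1, 2, 0, 1, 2, 1], [3, 1, 2, 0, 1, 2, 3, 1, 2, 0, 1, 2, 1],
    [1, 2, 3, 1, 2, 0, 1, 2, 3, 2, 1, 2, 0, 1, 2, 1, 0], [2, 0, 1, 2],
    [3, 1, 2, 0, 1, 2, 3, 1, 2, 0, 1, 2, 1, 0], [2, 0, 1, 2, 0],
    [1, 2, 3, 2, 1, 2, 0, 1, 2, 3, 2, 1, 2, 0, 1, 2, 0, 1], [2, 1, 2, 3, 2, 0, 1, 2, 1],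
    [1, 2, 3, 2, 1, 2, 0, 1, 2, 3, 2, 1, 2, 0, 1, 2, 0, 1, 0], [3, 2, 0, 1, 2, 1],
    [2, 1, 2, 3, 2, 0, 1, 2, 1, 0], [3, 2, 0, 1, 2, 1, 0],
    [1, 2, 3, 1, 2, 0, 1, 2, 3, 2, 1, 2, 0, 1, 2, 0, 1], [3, 2, 1, 2, 3, 2, 0, 1, 2, 1],
    [1, 2, 3, 1, 2, 0, 1, 2, 3, 2, 1, 2, 0, 1, 2, 0, 1, 0], [2, 0, 1, 2, 1],
    [3, 2, 1, 2, 3, 2, 0, 1, 2, 1, 0], [2, 0, 1, 2, 1, 0],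
    [3, 1, 2, 0, 1, 2, 3, 1, 2, 0, 1, 2, 0, 1], [3, 2, 1, 2, 3, 2, 0, 1, 2, 0, 1],
    [3, 1, 2, 0, 1, 2, 3, 1, 2, 0, 1, 2, 0, 1, 0], [2, 0, 1, 2, 0, 1],
    [3, 2, 1, 2, 3, 2, 0, 1, 2, 0, 1, 0], [2, 0, 1, 2, 0, 1, 0],
    [1, 2, 0, 1, 2, 3, 1, 2, 0, 1, 2, 0, 1], [2, 1, 2, 3, 2, 0, 1, 2, 0, 1],
    [1, 2, 0, 1, 2, 3, 1, 2, 0, 1, 2, 0, 1, 0], [3, 2, 0, 1, 2, 0, 1],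
    [2, 1, 2, 3, 2, 0, 1, 2, 0, 1, 0], [3, 2, 0, 1, 2, 0, 1, 0],
    [2, 3, 1, 2, 0, 1, 2, 3, 2, 1, 2, 0, 1, 2], [3, 2, 0, 1, 2, 3, 1, 2, 0, 1, 2],
    [2, 3, 1, 2, 0, 1, 2, 3, 2, 1, 2, 0, 1, 2, 0], [3, 2, 1, 2, 3, 1, 2, 0, 1, 2],
    [3, 2, 0, 1, 2, 3, 1, 2, 0, 1, 2, 0], [3, 2, 1, 2, 3, 1, 2, 0, 1, 2, 0],
    [2, 3, 2, 1, 2, 0, 1, 2, 3, 2, 1, 2, 0, 1, 2], [2, 0, 1, 2, 3, 1, 2, 0, 1, 2],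
    [2, 3, 2, 1, 2, 0, 1, 2, 3, 2, 1, 2, 0, 1, 2, 0], [2, 1, 2, 3, 1, 2, 0, 1, 2],
    [2, 0, 1, 2, 3, 1, 2, 0, 1, 2, 0], [2, 1, 2, 3, 1, 2, 0, 1, 2, 0],
    [2, 3, 2, 1, 2, 0, 1, 2, 3, 2, 1, 2, 0, 1, 2, 1], [2, 0, 1, 2, 3, 1, 2, 0, 1, 2, 1],
    [2, 3, 2, 1, 2, 0, 1, 2, 3, 2, 1, 2, 0, 1, 2, 1, 0], [3, 1, 2, 0, 1, 2],
    [2, 0, 1, 2, 3, 1, 2, 0, 1, 2, 1, 0], [3, 1, 2, 0, 1, 2, 0],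
    [2, 3, 1, 2, 0, 1, 2, 3, 2, 1, 2, 0, 1, 2, 1], [3, 2, 0, 1, 2, 3, 1, 2, 0, 1, 2, 1],
    [2, 3, 1, 2, 0, 1, 2, 3, 2, 1, 2, 0, 1, 2, 1, 0], [1, 2, 0, 1, 2],
    [3, 2, 0, 1, 2, 3, 1, 2, 0, 1, 2, 1, 0], [1, 2, 0, 1, 2, 0],
    [2, 3, 2, 1, 2, 0, 1, 2, 3, 2, 1, 2, 0, 1, 2, 0, 1], [2, 1, 2, 3, 1, 2, 0, 1, 2, 1],
    [2, 3, 2, 1, 2, 0, 1, 2, 3, 2, 1, 2, 0, 1, 2, 0, 1, 0], [3, 1, 2, 0, 1, 2, 1],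
    [2, 1, 2, 3, 1, 2, 0, 1, 2, 1, 0], [3, 1, 2, 0, 1, 2, 1, 0],
    [2, 3, 1, 2, 0, 1, 2, 3, 2, 1, 2, 0, 1, 2, 0, 1], [3, 2, 1, 2, 3, 1, 2, 0, 1, 2, 1],
    [2, 3, 1, 2, 0, 1, 2, 3, 2, 1, 2, 0, 1, 2, 0, 1, 0], [1, 2, 0, 1, 2, 1],
    [3, 2, 1, 2, 3, 1, 2, 0, 1, 2, 1, 0], [1, 2, 0, 1, 2, 1, 0],
    [3, 2, 0, 1, 2, 3, 1, 2, 0, 1, 2, 0, 1], [3, 2, 1, 2, 3, 1, 2, 0, 1, 2, 0, 1],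
    [3, 2, 0, 1, 2, 3, 1, 2, 0, 1, 2, 0, 1, 0], [1, 2, 0, 1, 2, 0, 1],
    [3, 2, 1, 2, 3, 1, 2, 0, 1, 2, 0, 1, 0], [1, 2, 0, 1, 2, 0, 1, 0],
    [2, 0, 1, 2, 3, 1, 2, 0, 1, 2, 0, 1], [2, 1, 2, 3, 1, 2, 0, 1, 2, 0, 1],
    [2, 0, 1, 2, 3, 1, 2, 0, 1, 2, 0, 1, 0], [3, 1, 2, 0, 1, 2, 0, 1],
    [2, 1, 2, 3, 1, 2, 0, 1, 2, 0, 1, 0], [3, 1, 2, 0, 1, 2, 0, 1, 0],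
    [3, 1, 2, 0, 1, 2, 3, 2, 1, 2, 0, 1, 2], [3, 2, 0, 1, 2, 3, 2, 1, 2, 0, 1, 2],
    [3, 1, 2, 0, 1, 2, 3, 2, 1, 2, 0, 1, 2, 0], [3, 2, 1, 2, 3, 2, 1, 2, 0, 1, 2],
    [3, 2, 0, 1, 2, 3, 2, 1, 2, 0, 1, 2, 0], [3, 2, 1, 2, 3, 2, 1, 2, 0, 1, 2, 0],
    [3, 2, 1, 2, 0, 1, 2, 3, 2, 1, 2, 0, 1, 2], [0, 1, 2, 3, 1, 2, 0, 1, 2],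
    [3, 2, 1, 2, 0, 1, 2, 3, 2, 1, 2, 0, 1, 2, 0], [1, 2, 3, 1, 2, 0, 1, 2],
    [0, 1, 2, 3, 1, 2, 0, 1, 2, 0], [1, 2, 3, 1, 2, 0, 1, 2, 0],
    [3, 2, 1, 2, 0, 1, 2, 3, 2, 1, 2, 0, 1, 2, 1], [0, 1, 2, 3, 1, 2, 0, 1, 2, 1],
    [3, 2, 1, 2, 0, 1, 2, 3, 2, 1, 2, 0, 1, 2, 1, 0], [2, 3, 1, 2, 0, 1, 2],
    [0, 1, 2, 3, 1, 2, 0, 1, 2, 1, 0], [2, 3, 1, 2, 0, 1, 2, 0],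
    [3, 1, 2, 0, 1, 2, 3, 2, 1, 2, 0, 1, 2, 1], [3, 2, 0, 1, 2, 3, 2, 1, 2, 0, 1, 2, 1],
    [3, 1, 2, 0, 1, 2, 3, 2, 1, 2, 0, 1, 2, 1, 0], [2, 1, 2, 0, 1, 2],
    [3, 2, 0, 1, 2, 3, 2, 1, 2, 0, 1, 2, 1, 0], [2, 1, 2, 0, 1, 2, 0],
    [3, 2, 1, 2, 0, 1, 2, 3, 2, 1, 2, 0, 1, 2, 0, 1], [1, 2, 3, 1, 2, 0, 1, 2, 1],
    [3, 2, 1, 2, 0, 1, 2, 3, 2, 1, 2, 0, 1, 2, 0, 1, 0], [2, 3, 1, 2, 0, 1, 2, 1],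
    [1, 2, 3, 1, 2, 0, 1, 2, 1, 0], [2, 3, 1, 2, 0, 1, 2, 1, 0],
    [3, 1, 2, 0, 1, 2, 3, 2, 1, 2, 0, 1, 2, 0, 1], [3, 2, 1, 2, 3, 2, 1, 2, 0, 1, 2, 1],
    [3, 1, 2, 0, 1, 2, 3, 2, 1, 2, 0, 1, 2, 0, 1, 0], [2, 1, 2, 0, 1, 2, 1],
    [3, 2, 1, 2, 3, 2, 1, 2, 0, 1, 2, 1, 0], [2, 1, 2, 0, 1, 2, 1, 0],
    [3, 2, 0, 1, 2, 3, 2, 1, 2, 0, 1, 2, 0, 1], [3, 2, 1, 2, 3, 2, 1, 2, 0, 1, 2, 0, 1],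
    [3, 2, 0, 1, 2, 3, 2, 1, 2, 0, 1, 2, 0, 1, 0], [2, 1, 2, 0, 1, 2, 0, 1],
    [3, 2, 1, 2, 3, 2, 1, 2, 0, 1, 2, 0, 1, 0], [2, 1, 2, 0, 1, 2, 0, 1, 0],
    [0, 1, 2, 3, 1, 2, 0, 1, 2, 0, 1], [1, 2, 3, 1, 2, 0, 1, 2, 0, 1],
    [0, 1, 2, 3, 1, 2, 0, 1, 2, 0, 1, 0], [2, 3, 1, 2, 0, 1, 2, 0, 1],
    [1, 2, 3, 1, 2, 0, 1, 2, 0, 1, 0], [2, 3, 1, 2, 0, 1, 2, 0, 1, 0],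
    [1, 2, 0, 1, 2, 3, 2, 1, 2, 0, 1, 2], [2, 0, 1, 2, 3, 2, 1, 2, 0, 1, 2],
    [1, 2, 0, 1, 2, 3, 2, 1, 2, 0, 1, 2, 0], [2, 1, 2, 3, 2, 1, 2, 0, 1, 2],
    [2, 0, 1, 2, 3, 2, 1, 2, 0, 1, 2, 0], [2, 1, 2, 3, 2, 1, 2, 0, 1, 2, 0],
    [2, 1, 2, 0, 1, 2, 3, 2, 1, 2, 0, 1, 2], [0, 1, 2, 3, 2, 1, 2, 0, 1, 2],
    [2, 1, 2, 0, 1, 2, 3, 2, 1, 2, 0, 1, 2, 0], [1, 2, 3, 2, 1, 2, 0, 1, 2],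
    [0, 1, 2, 3, 2, 1, 2, 0, 1, 2, 0], [1, 2, 3, 2, 1, 2, 0, 1, 2, 0],
    [2, 1, 2, 0, 1, 2, 3, 2, 1, 2, 0, 1, 2, 1], [0, 1, 2, 3, 2, 1, 2, 0, 1, 2, 1],
    [2, 1, 2, 0, 1, 2, 3, 2, 1, 2, 0, 1, 2, 1, 0], [2, 3, 2, 1, 2, 0, 1, 2],
    [0, 1, 2, 3, 2, 1, 2, 0, 1, 2, 1, 0], [2, 3, 2, 1, 2, 0, 1, 2, 0],
    [1, 2, 0, 1, 2, 3, 2, 1, 2, 0, 1, 2, 1], [2, 0, 1, 2, 3, 2, 1, 2, 0, 1, 2, 1],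
    [1, 2, 0, 1, 2, 3, 2, 1, 2, 0, 1, 2, 1, 0], [3, 2, 1, 2, 0, 1, 2],
    [2, 0, 1, 2, 3, 2, 1, 2, 0, 1, 2, 1, 0], [3, 2, 1, 2, 0, 1, 2, 0],
    [2, 1, 2, 0, 1, 2, 3, 2, 1, 2, 0, 1, 2, 0, 1], [1, 2, 3, 2, 1, 2, 0, 1, 2, 1],
    [2, 1, 2, 0, 1, 2, 3, 2, 1, 2, 0, 1, 2, 0, 1, 0], [2, 3, 2, 1, 2, 0, 1, 2, 1],
    [1, 2, 3, 2, 1, 2, 0, 1, 2, 1, 0], [2, 3, 2, 1, 2, 0, 1, 2, 1, 0],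
    [1, 2, 0, 1, 2, 3, 2, 1, 2, 0, 1, 2, 0, 1], [2, 1, 2, 3, 2, 1, 2, 0, 1, 2, 1],
    [1, 2, 0, 1, 2, 3, 2, 1, 2, 0, 1, 2, 0, 1, 0], [3, 2, 1, 2, 0, 1, 2, 1],
    [2, 1, 2, 3, 2, 1, 2, 0, 1, 2, 1, 0], [3, 2, 1, 2, 0, 1, 2, 1, 0],
    [2, 0, 1, 2, 3, 2, 1, 2, 0, 1, 2, 0, 1], [2, 1, 2, 3, 2, 1, 2, 0, 1, 2, 0, 1],
    [2, 0, 1, 2, 3, 2, 1, 2, 0, 1, 2, 0, 1, 0], [3, 2, 1, 2, 0, 1, 2, 0, 1],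
    [2, 1, 2, 3, 2, 1, 2, 0, 1, 2, 0, 1, 0], [3, 2, 1, 2, 0, 1, 2, 0, 1, 0],
    [0, 1, 2, 3, 2, 1, 2, 0, 1, 2, 0, 1], [1, 2, 3, 2, 1, 2, 0, 1, 2, 0, 1],
    [0, 1, 2, 3, 2, 1, 2, 0, 1, 2, 0, 1, 0], [2, 3, 2, 1, 2, 0, 1, 2, 0, 1],
    [1, 2, 3, 2, 1, 2, 0, 1, 2, 0, 1, 0], [2, 3, 2, 1, 2, 0, 1, 2, 0, 1, 0]]

end Cfsg.Agent.Lib.helper8
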