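import Mathlib
import Cfsg.Prelude.Def_ChevStructure
import Cfsg.Prelude.Def_ChevF4
import Cfsg.Agent.Lib.helper8.ChevInvF4w
import Cfsg.Agent.Lib.helper8.ChevTw1
import Cfsg.Agent.Lib.helper8.ChevCoxDataF4

set_option autoImplicit false

namespace Cfsg.Agent.Lib.helper8

open Cfsg.Lie Cfsg.Lie.ChevalleyDatum

/-- fast evaluation of a word on a root of `F₄` -/
def h8f4sW (w : List ℕ) (s : ℕ) : ℕ := w.foldr (fun i acc => h8sgS h8cxS_F4 48 i acc) s

/-- the key of a word: the images of the four simple roots -/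
def h8f4Key (w : List ℕ) : ℕ :=
  h8f4sW w 33 + 64 * (h8f4sW w 27 + 64 * (h8f4sW w 25 + 64 * h8f4sW w 24))

def h8f4SortedB : List ℕ → Bool
  | [] => true
  | [_] => true
  | a :: b :: l => decide (a < b) && h8f4SortedB (b :: l)

theorem h8f4SortedB_spec : ∀ l : List ℕ, h8f4SortedB l = true → l.Pairwise (· < ·)
  | [], _ => List.Pairwise.nil
  | [_], _ => List.pairwise_singleton _ _
  | a :: b :: l, h => by
    unfold h8f4SortedB at h
    rw [Bool.and_eq_true, decide_eq_true_eq] at h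
    have ih := h8f4SortedB_spec (b :: l) h.2
    rw [List.pairwise_cons]
    refine ⟨?_, ih⟩
    intro c hc
    rcases List.mem_cons.mp hc with rfl | hc
    · exact h.1
    · exact lt_trans h.1 ((List.pairwise_cons.mp ih).1 c hc)

def h8f4KeysChk : Bool := h8f4SortedB (h8f4Words.map h8f4Key)

theorem h8f4KeysChk_eq : h8f4KeysChk = true := by decide +kernel

def h8f4LtChk : Bool := h8f4Words.all fun w => w.all fun i => decide (i < 4)

theorem h8f4LtChk_eq : h8f4LtChk = true := by decide +kernel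

theorem h8f4Words_length : h8f4Words.length = 1152 := by decide +kernel

theorem h8f4Words_lt : ∀ w ∈ h8f4Words, ∀ i ∈ w, i < chevF4.rank := by
  intro w hw i hi
  have h := h8f4LtChk_eq
  unfold h8f4LtChk at h
  rw [List.all_eq_true] at h
  have h1 := h w hw
  rw [List.all_eq_true] at h1
  have h2 := h1 i hi
  rw [decide_eq_true_eq] at h2
  exact h2

theorem h8f4_mem : chevF4 ∈ [chevG2, chevB2, chevD4, chevF4, chevE6, chevE7, chevE8] := by simp

theorem h8f4sW_eq (hA : H8ReflAll chevF4) (w : List ℕ) (hw : ∀ i ∈ w, i < chevF4.rank) (s : ℕ)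
    (hs : s < chevF4.nroots) : h8f4sW w s = h8sW chevF4 w s := by
  induction w with
  | nil => rfl
  | cons i w ih =>
    have hw' : ∀ j ∈ w, j < chevF4.rank := fun j hj => hw j (List.mem_cons_of_mem _ hj)
    have hi := hw i List.mem_cons_self
    show h8sgS h8cxS_F4 48 i (h8f4sW w s) = chevF4.reflectRoot i (h8sW chevF4 w s)
    rw [ih hw']
    have e := h8sgS_eq chevF4 h8cxS_F4 h8cxSchk_F4 i hi (h8sW chevF4 w s)
    have e2 := h8sg_eq chevF4 i (fun s hs => h8refl_lt chevF4 hA i hi s hs) (by decide)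
      (h8sW chevF4 w s) (h8sW_lt chevF4 hA w hw' s hs)
    rw [← e2, ← e]
    rfl

theorem h8f4Key_nodup : (h8f4Words.map h8f4Key).Nodup := by
  have h := h8f4SortedB_spec _ h8f4KeysChk_eq
  exact h.imp (fun hab => ne_of_lt hab)

theorem h8f4Words_nodup : h8f4Words.Nodup := List.Nodup.of_map _ h8f4Key_nodup

/-- the permutation of a word determines its key -/
theorem h8f4Key_of_perm (hA : H8ReflAll chevF4) (w w' : List ℕ)
    (hw : ∀ i ∈ w, i < chevF4.rank) (hw' : ∀ i ∈ w', i < chevF4.rank)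
    (h : h8wPerm chevF4 hA w = h8wPerm chevF4 hA w') : h8f4Key w = h8f4Key w' := by
  have hv : ∀ s (hs : s < chevF4.nroots), h8f4sW w s = h8f4sW w' s := by
    intro s hs
    rw [h8f4sW_eq hA w hw s hs, h8f4sW_eq hA w' hw' s hs,
      ← h8wPerm_val chevF4 hA w hw ⟨s, hs⟩, ← h8wPerm_val chevF4 hA w' hw' ⟨s, hs⟩, h]
  unfold h8f4Key
  rw [hv 33 (by decide), hv 27 (by decide), hv 25 (by decide), hv 24 (by decide)]

theorem h8f4_wPerm_inj (hA : H8ReflAll chevF4) (w w' : List ℕ) (hw : w ∈ h8f4Words)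
    (hw' : w' ∈ h8f4Words) (h : h8wPerm chevF4 hA w = h8wPerm chevF4 hA w') : w = w' :=
  List.inj_on_of_nodup_map h8f4Key_nodup hw hw'
    (h8f4Key_of_perm hA w w' (h8f4Words_lt w hw) (h8f4Words_lt w' hw') h)

theorem h8f4_W_card (hA : H8ReflAll chevF4) : (h8Wfin chevF4 hA).card = 1152 := by
  have h := h8poin_F4 hA 1
  simp only [one_pow, Finset.sum_const, smul_eq_mul, mul_one] at h
  rw [h]
  decide

/-- every element of the Weyl group of `F₄` is given by one of the 1152 words -/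
theorem h8f4_W_cases (hA : H8ReflAll chevF4) (π : Equiv.Perm (Fin chevF4.nroots))
    (hπ : π ∈ h8W chevF4 hA) : ∃ w ∈ h8f4Words, π = h8wPerm chevF4 hA w := by
  classical
  set S : Finset (Equiv.Perm (Fin chevF4.nroots)) :=
    (h8f4Words.map (h8wPerm chevF4 hA)).toFinset with hS
  have hnd : (h8f4Words.map (h8wPerm chevF4 hA)).Nodup := by
    apply List.Nodup.map_on _ h8f4Words_nodup
    intro w hw w' hw' h
    exact h8f4_wPerm_inj hA w w' hw hw' h
  have hcard : S.card = 1152 := by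
    rw [hS, List.toFinset_card_of_nodup hnd, List.length_map, h8f4Words_length]
  have hsub : S ⊆ h8Wfin chevF4 hA := by
    intro σ hσ
    rw [hS, List.mem_toFinset, List.mem_map] at hσ
    obtain ⟨w, hw, rfl⟩ := hσ
    rw [h8Wfin_mem, h8W_mem_iff]
    exact ⟨w, h8f4Words_lt w hw, rfl⟩
  have heq : S = h8Wfin chevF4 hA :=
    Finset.eq_of_subset_of_card_le hsub (by rw [hcard, h8f4_W_card hA])
  have hπS : π ∈ S := by
    rw [heq, h8Wfin_mem]
    exact hπ
  rw [hS, List.mem_toFinset, List.mem_map] at hπS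
  obtain ⟨w, hw, rfl⟩ := hπS
  exact ⟨w, hw, rfl⟩

end Cfsg.Agent.Lib.helper8
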