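import Mathlib
import Cfsg.Prelude.Def_ChevStructure
import Cfsg.Prelude.Def_ChevF4
import Cfsg.Agent.Lib.helper8.ChevInvF4a
import Cfsg.Agent.Lib.helper8.ChevCzr6
import Cfsg.Agent.Lib.helper8.ChevTwP1

set_option autoImplicit false

namespace Cfsg.Agent.Lib.helper8

open Cfsg.Lie Cfsg.Lie.ChevalleyDatum

universe u

variable {F : Type u} [Field F]

/-- parities of the pairings of the roots of `F₄` with the coroot of the simple root `33` -/
def h8f4ParS : List Bool :=
  [false, false, false, true, false, false, false, true, false, false, false, true, true, true,
    false, false, false, false, true, true, true, false, false, false, false, false, false, true,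
    true, true, false, false, false, false, true, true, true, false, false, false, true, false,
    false, false, true, false, false, false]

/-- parities of the pairings of the roots of `F₄` with the coroot of the simple root `24` -/
def h8f4ParT : List Bool :=
  [true, true, false, false, false, true, true, false, false, true, true, true, true, false,
    false, false, true, true, true, true, false, true, true, false, false, true, true, false,
    true, true, true, true, false, false, false, true, true, true, true, false, false, true,
    true, false, false, false, true, true]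

theorem h8f4ParS_eq : ∀ r < 48, decide (h8K chevF4 33 r % 2 = 1) = h8f4ParS.getD r false := by
  decide +kernel

theorem h8f4ParT_eq : ∀ r < 48, decide (h8K chevF4 24 r % 2 = 1) = h8f4ParT.getD r false := by
  decide +kernel

/-- the sign character attached to a parity table -/
def h8f4Sgn (par : List Bool) (r : ℕ) : F := if par.getD r false then -1 else 1

theorem h8f4Sgn_eq_iff (h2 : (2 : F) ≠ 0) (par : List Bool) (a b : ℕ) :
    (h8f4Sgn par a : F) = h8f4Sgn par b ↔ par.getD a false = par.getD b false := by
  have hne : (-1 : F) ≠ 1 := by
    intro h
    apply h2
    have : (2 : F) = 1 - (-1) := by ring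
    rw [this, h, sub_self]
  unfold h8f4Sgn
  cases ha : par.getD a false <;> cases hb : par.getD b false <;> simp [hne, hne.symm]

theorem h8f4Sgn_eq_one_iff (h2 : (2 : F) ≠ 0) (par : List Bool) (a : ℕ) :
    (h8f4Sgn par a : F) = 1 ↔ par.getD a false = false := by
  have hne : (-1 : F) ≠ 1 := by
    intro h
    apply h2
    have : (2 : F) = 1 - (-1) := by ring
    rw [this, h, sub_self]
  unfold h8f4Sgn
  cases ha : par.getD a false <;> simp [hne]

/-- the action of `h_c(-1)` on the root subgroups -/
theorem h8f4_hconj (hB : H8Base.{u} chevF4) (c : ℕ) (hc : c < chevF4.nroots) (par : List Bool)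
    (hpar : ∀ r < 48, decide (h8K chevF4 c r % 2 = 1) = par.getD r false)
    (r : ℕ) (hr : r < chevF4.nroots) (s : F) :
    h8hU chevF4 hB c (-1 : F) * h8xU chevF4 hB r s * (h8hU chevF4 hB c (-1 : F))⁻¹ =
      h8xU chevF4 hB r (h8f4Sgn par r * s) := by
  rw [h8hU_conj chevF4 hB c r hc hr (-1 : F) (by simp) s]
  congr 2
  unfold h8f4Sgn
  have h1 := hpar r hr
  rcases Int.emod_two_eq_zero_or_one (h8K chevF4 c r) with h | h
  · have h3 : par.getD r false = false := by
      rw [← h1, decide_eq_false_iff_not, h]
      decide
    rw [h3]
    simp only [Bool.false_eq_true, if_false]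
    exact Even.neg_one_zpow (Int.even_iff.mpr h)
  · have h3 : par.getD r false = true := by
      rw [← h1, decide_eq_true_eq, h]
    rw [h3]
    simp only [if_true]
    exact Odd.neg_one_zpow (Int.odd_iff.mpr h)

end Cfsg.Agent.Lib.helper8
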