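import Mathlib
import Cfsg.Prelude.Def_ChevStructure
import Cfsg.Prelude.Def_ChevF4
import Cfsg.Agent.Lib.helper8.ChevInvF4c

set_option autoImplicit false

namespace Cfsg.Agent.Lib.helper8

open Cfsg.Lie Cfsg.Lie.ChevalleyDatum

universe u

variable {F : Type u} [Field F]

theorem h8card_fin_filterB (n : ℕ) (p : ℕ → Bool) :
    Nat.card {r : Fin n // p r.val = true} = ((List.range n).filter p).length := by
  rw [Nat.card_eq_fintype_card, Fintype.card_subtype, Finset.card_def, Finset.filter_val,
    Fin.univ_def]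
  show (Multiset.filter (fun r : Fin n => p r.val = true)
    ((List.finRange n : List (Fin n)) : Multiset (Fin n))).card = _
  rw [Multiset.filter_coe, Multiset.coe_card, ← List.map_coe_finRange_eq_range, List.filter_map,
    List.length_map]
  congr 1
  apply List.filter_congr
  intro x _
  simp

theorem h8f4_pos_iff : ∀ r < 48, decide (chevF4.IsPosRoot r) = decide (24 ≤ r) := by
  decide +kernel

/-- does the word fix the sign character? -/
def h8f4FixB (par : List Bool) (w : List ℕ) : Bool :=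
  (List.range 48).all fun r => par.getD (h8f4sW w r) false == par.getD r false

/-- the length of the word relative to the kernel of the sign character -/
def h8f4LenB (par : List Bool) (w : List ℕ) : ℕ :=
  ((List.range 48).filter fun r =>
    decide (24 ≤ r) && !decide (24 ≤ h8f4sW w r) && !par.getD r false).length

theorem h8f4_wPerm_val (hA : H8ReflAll chevF4) (w : List ℕ) (hw : ∀ i ∈ w, i < chevF4.rank)
    (r : Fin chevF4.nroots) : (h8wPerm chevF4 hA w r).val = h8f4sW w r.val := by
  rw [h8wPerm_val chevF4 hA w hw r, h8f4sW_eq hA w hw r.val r.2]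

theorem h8f4_fix_iff (h2 : (2 : F) ≠ 0) (hA : H8ReflAll chevF4) (par : List Bool) (w : List ℕ)
    (hw : ∀ i ∈ w, i < chevF4.rank) :
    (∀ r : Fin chevF4.nroots, (h8f4Sgn par (h8wPerm chevF4 hA w r).val : F) = h8f4Sgn par r.val) ↔
      h8f4FixB par w = true := by
  unfold h8f4FixB
  rw [List.all_eq_true]
  constructor
  · intro h r hr
    have hr' : r < chevF4.nroots := List.mem_range.mp hr
    have := h ⟨r, hr'⟩
    rw [h8f4_wPerm_val hA w hw, h8f4Sgn_eq_iff h2] at this
    rw [beq_iff_eq]
    exact this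
  · intro h r
    rw [h8f4_wPerm_val hA w hw, h8f4Sgn_eq_iff h2]
    have := h r.val (List.mem_range.mpr r.2)
    rw [beq_iff_eq] at this
    exact this

theorem h8f4_len_eq (h2 : (2 : F) ≠ 0) (hA : H8ReflAll chevF4) (par : List Bool) (w : List ℕ)
    (hw : ∀ i ∈ w, i < chevF4.rank) :
    Nat.card {x : H8Qt chevF4 (h8wPerm chevF4 hA w) // (h8f4Sgn par x.val.val : F) = 1} =
      h8f4LenB par w := by
  have hlt : ∀ r : Fin chevF4.nroots, h8f4sW w r.val < 48 := by
    intro r
    rw [← h8f4_wPerm_val hA w hw r]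
    exact (h8wPerm chevF4 hA w r).2
  rw [Nat.card_congr (Equiv.subtypeSubtypeEquivSubtypeInter
    (fun r : Fin chevF4.nroots => chevF4.IsPosRoot r.val ∧
      ¬ chevF4.IsPosRoot ((h8wPerm chevF4 hA w) r).val)
    (fun r : Fin chevF4.nroots => (h8f4Sgn par r.val : F) = 1))]
  have e : ∀ r : Fin chevF4.nroots, ((chevF4.IsPosRoot r.val ∧
      ¬ chevF4.IsPosRoot ((h8wPerm chevF4 hA w) r).val) ∧ (h8f4Sgn par r.val : F) = 1) ↔
      (decide (24 ≤ r.val) && !decide (24 ≤ h8f4sW w r.val) && !par.getD r.val false) = true := by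
    intro r
    rw [h8f4_wPerm_val hA w hw r, h8f4Sgn_eq_one_iff h2]
    have h1 := h8f4_pos_iff r.val r.2
    have h3 := h8f4_pos_iff (h8f4sW w r.val) (hlt r)
    simp only [Bool.and_eq_true, decide_eq_true_eq, Bool.not_eq_true', decide_eq_false_iff_not]
    rw [decide_eq_decide] at h1 h3
    rw [h1, h3]
  rw [Nat.card_congr (Equiv.subtypeEquivRight e)]
  exact h8card_fin_filterB chevF4.nroots (fun r =>
    decide (24 ≤ r) && !decide (24 ≤ h8f4sW w r) && !par.getD r false)

/-- the contribution of a word to the order of the centralizer -/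
theorem h8f4_term (h2 : (2 : F) ≠ 0) (hA : H8ReflAll chevF4) (par : List Bool) (q : ℕ)
    (w : List ℕ) (hw : ∀ i ∈ w, i < chevF4.rank) :
    h8cenTerm chevF4 (h8f4Sgn par : ℕ → F) q (h8wPerm chevF4 hA w) =
      if h8f4FixB par w = true then q ^ h8f4LenB par w else 0 := by
  by_cases h : h8f4FixB par w = true
  · rw [if_pos h, h8cenTerm_pos chevF4 _ q _ ((h8f4_fix_iff h2 hA par w hw).mpr h),
      h8f4_len_eq h2 hA par w hw]
  · rw [if_neg h, h8cenTerm_neg chevF4 _ q _ (fun h' => h ((h8f4_fix_iff h2 hA par w hw).mp h'))]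

/-- sums over the Weyl group of `F₄` as sums over the list of words -/
theorem h8f4_sum_W (hA : H8ReflAll chevF4) (g : Equiv.Perm (Fin chevF4.nroots) → ℕ) :
    ∑ π ∈ h8Wfin chevF4 hA, g π = (h8f4Words.map fun w => g (h8wPerm chevF4 hA w)).sum := by
  classical
  have hnd : (h8f4Words.map (h8wPerm chevF4 hA)).Nodup := by
    apply List.Nodup.map_on _ h8f4Words_nodup
    intro w hw w' hw' h
    exact h8f4_wPerm_inj hA w w' hw hw' h
  have heq : h8Wfin chevF4 hA = (h8f4Words.map (h8wPerm chevF4 hA)).toFinset := by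
    ext π
    rw [h8Wfin_mem, List.mem_toFinset, List.mem_map]
    constructor
    · intro hπ
      obtain ⟨w, hw, rfl⟩ := h8f4_W_cases hA π hπ
      exact ⟨w, hw, rfl⟩
    · rintro ⟨w, hw, rfl⟩
      rw [h8W_mem_iff]
      exact ⟨w, h8f4Words_lt w hw, rfl⟩
  rw [heq, List.sum_toFinset _ hnd, List.map_map]
  rfl

theorem h8f4_sum_term (h2 : (2 : F) ≠ 0) (hA : H8ReflAll chevF4) (par : List Bool) (q : ℕ) :
    ∑ π ∈ h8Wfin chevF4 hA, h8cenTerm chevF4 (h8f4Sgn par : ℕ → F) q π =
      h8pe (h8dense ((h8f4Words.filter (h8f4FixB par)).map (h8f4LenB par))) q := by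
  rw [h8f4_sum_W hA, h8pe_dense, List.map_map]
  have key : ∀ L : List (List ℕ), (∀ w ∈ L, ∀ i ∈ w, i < chevF4.rank) →
      (L.map fun w => h8cenTerm chevF4 (h8f4Sgn par : ℕ → F) q (h8wPerm chevF4 hA w)).sum =
        ((L.filter (h8f4FixB par)).map ((fun x => q ^ x) ∘ h8f4LenB par)).sum := by
    intro L
    induction L with
    | nil => intro _; rfl
    | cons w L ih =>
      intro hL
      rw [List.map_cons, List.sum_cons, ih (fun w' hw' => hL w' (List.mem_cons_of_mem _ hw')),
        h8f4_term h2 hA par q w (hL w List.mem_cons_self), List.filter_cons]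
      by_cases h : h8f4FixB par w = true
      · rw [if_pos h, if_pos h, List.map_cons, List.sum_cons]
        rfl
      · rw [if_neg h, if_neg h, zero_add]
  exact key h8f4Words h8f4Words_lt

end Cfsg.Agent.Lib.helper8
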