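import Mathlib
import Cfsg.Prelude.Def_ChevStructure
import Cfsg.Prelude.Def_ChevF4
import Cfsg.Agent.Lib.helper8.ChevInvF4a
import Cfsg.Agent.Lib.helper8.ChevInvG2b
import Cfsg.Agent.Lib.helper8.ChevReflDataF4
import Cfsg.Agent.Lib.helper8.ChevTabNF4
import Cfsg.Agent.Lib.helper8.ChevTits1
import Cfsg.Agent.Lib.helper8.ChevWeyl1
import Cfsg.Agent.Lib.helper8.ChevFix4
import Cfsg.Agent.Lib.helper8.ChevTabSC

set_option autoImplicit false

namespace Cfsg.Agent.Lib.helper8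

open Cfsg.Lie Cfsg.Lie.ChevalleyDatum

universe u

variable {F : Type u} [Field F]

/-- the torus element with coordinates `c` on the simple coroots -/
def h8stdT (D : ChevalleyDatum) (hB : H8Base.{u} D) (c : ℕ → F) : GL D.Idx F :=
  h8ttH D hB ((List.range D.rank).map fun i => (D.simple i, c i))

/-- the character of `h8stdT` -/
def h8stdChi (D : ChevalleyDatum) (c : ℕ → F) (r : ℕ) : F :=
  h8ttChi D ((List.range D.rank).map fun i => (D.simple i, c i)) r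

theorem h8stdT_list (D : ChevalleyDatum) (hsc : h8scChk D = true) (c : ℕ → F)
    (hc : ∀ i, c i ≠ 0) :
    ∀ p ∈ (List.range D.rank).map (fun i => (D.simple i, c i)), p.1 < D.nroots ∧ p.2 ≠ 0 := by
  intro p hp
  rw [List.mem_map] at hp
  obtain ⟨i, hi, rfl⟩ := hp
  exact ⟨(h8scChk_spec D hsc i (List.mem_range.mp hi)).1, hc i⟩

theorem h8stdT_mem (D : ChevalleyDatum) (hB : H8Base.{u} D) (hsc : h8scChk D = true)
    (c : ℕ → F) (hc : ∀ i, c i ≠ 0) : h8stdT D hB c ∈ D.diagonalSubgroup F := by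
  unfold h8stdT h8ttH
  apply Subgroup.list_prod_mem
  intro g hg
  rw [List.mem_map] at hg
  obtain ⟨p, hp, rfl⟩ := hg
  obtain ⟨h1, h2⟩ := h8stdT_list D hsc c hc p hp
  exact h8hU_mem_H D hB p.1 h1 p.2 h2

theorem h8stdT_conj (D : ChevalleyDatum) (hB : H8Base.{u} D) (hsc : h8scChk D = true)
    (c : ℕ → F) (hc : ∀ i, c i ≠ 0) (r : ℕ) (hr : r < D.nroots) (t : F) :
    h8stdT D hB c * h8xU D hB r t * (h8stdT D hB c)⁻¹ = h8xU D hB r (h8stdChi D c r * t) :=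
  h8ttH_conj D hB _ (h8stdT_list D hsc c hc) r hr t

theorem h8stdT_param (D : ChevalleyDatum) (hB : H8Base.{u} D) (hsc : h8scChk D = true)
    (h : GL D.Idx F) (hh : h ∈ D.diagonalSubgroup F) :
    ∃ c : ℕ → F, (∀ i, c i ≠ 0) ∧ h = h8stdT D hB c :=
  h8H_param D hB hsc h hh

/-- the standard form of an element of `N` -/
theorem h8std_N_param (D : ChevalleyDatum) (hB : H8Base.{u} D) (hA : H8ReflAll D) (hBN : H8BN D)
    (hW : H8BN2 D) (hO2 : H8Ord2 D) (hsc : h8scChk D = true)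
    (n : ↥(D.monomialSubgroup F)) (w : List ℕ) (hw : ∀ i ∈ w, i < D.rank)
    (hπ : h8Pi D hB hA hBN hW hO2 n = h8wPerm D hA w) :
    ∃ c : ℕ → F, (∀ i, c i ≠ 0) ∧ n.val = h8stdT D hB c * h8nWU D hB w := by
  have hmem := h8nWU_mem_N (F := F) D hB hA w hw
  have h1 : h8Pi D hB hA hBN hW hO2 (n * ⟨h8nWU D hB w, hmem⟩⁻¹) = 1 := by
    rw [map_mul, map_inv, h8Pi_nWU D hB hA hBN hW hO2 w hw, hπ, mul_inv_cancel]
  have h2 := h8Pi_ker D hB hA hBN hW hO2 _ h1
  obtain ⟨c, hc, e⟩ := h8stdT_param D hB hsc _ h2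
  refine ⟨c, hc, ?_⟩
  rw [← e]
  show n.val = n.val * (h8nWU D hB w)⁻¹ * h8nWU D hB w
  group

/-- the sign by which the standard lift of the word `w` acts on the root subgroup `X_r` -/
def h8f4Eps : List ℕ → ℕ → ℤ
  | [], _ => 1
  | i :: w, r => (h8eta_F4 i).getD (h8f4sW w r) 0 * h8f4Eps w r

theorem h8f4_n_conj (hB : H8Base.{u} chevF4) (i : ℕ) (hi : i < chevF4.rank) (s : ℕ)
    (hs : s < chevF4.nroots) (t : F) :
    h8nU chevF4 hB (chevF4.simple i) (1 : F) * h8xU chevF4 hB s t *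
      (h8nU chevF4 hB (chevF4.simple i) (1 : F))⁻¹ =
      h8xU chevF4 hB (chevF4.reflectRoot i s) ((((h8eta_F4 i).getD s 0 : ℤ) : F) * t) := by
  rw [mul_inv_eq_iff_eq_mul]
  apply Units.ext
  rw [Units.val_mul, Units.val_mul, h8nU_val, h8xU_val, h8xU_val]
  have hr : chevF4.rank = 4 := rfl
  rw [hr] at hi
  interval_cases i
  · exact h8n_simple_conj chevF4 0 (by decide) (h8eta_F4 0) (h8n_F4 0 (by decide)).1
      (h8n_F4 0 (by decide)).2 h8ceChk_F4 h8CAchk_F4 h8reflChk_F4_0 s hs t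
  · exact h8n_simple_conj chevF4 1 (by decide) (h8eta_F4 1) (h8n_F4 1 (by decide)).1
      (h8n_F4 1 (by decide)).2 h8ceChk_F4 h8CAchk_F4 h8reflChk_F4_1 s hs t
  · exact h8n_simple_conj chevF4 2 (by decide) (h8eta_F4 2) (h8n_F4 2 (by decide)).1
      (h8n_F4 2 (by decide)).2 h8ceChk_F4 h8CAchk_F4 h8reflChk_F4_2 s hs t
  · exact h8n_simple_conj chevF4 3 (by decide) (h8eta_F4 3) (h8n_F4 3 (by decide)).1
      (h8n_F4 3 (by decide)).2 h8ceChk_F4 h8CAchk_F4 h8reflChk_F4_3 s hs t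

theorem h8f4_nW_conj (hB : H8Base.{u} chevF4) (hA : H8ReflAll chevF4) (w : List ℕ)
    (hw : ∀ i ∈ w, i < chevF4.rank) (r : ℕ) (hr : r < chevF4.nroots) (t : F) :
    (h8nWU chevF4 hB w : GL chevF4.Idx F) * h8xU chevF4 hB r t * (h8nWU chevF4 hB w)⁻¹ =
      h8xU chevF4 hB (h8f4sW w r) (((h8f4Eps w r : ℤ) : F) * t) := by
  induction w generalizing t with
  | nil =>
    show (1 : GL chevF4.Idx F) * h8xU chevF4 hB r t * 1⁻¹ = h8xU chevF4 hB r (((1 : ℤ) : F) * t)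
    rw [one_mul, inv_one, mul_one, Int.cast_one, one_mul]
  | cons i w ih =>
    have hw' : ∀ j ∈ w, j < chevF4.rank := fun j hj => hw j (List.mem_cons_of_mem _ hj)
    have hi := hw i List.mem_cons_self
    rw [h8nWU_cons]
    have e : h8nU chevF4 hB (chevF4.simple i) 1 * h8nWU chevF4 hB w * h8xU chevF4 hB r t *
        (h8nU chevF4 hB (chevF4.simple i) 1 * h8nWU chevF4 hB w)⁻¹ =
        h8nU chevF4 hB (chevF4.simple i) 1 *
          (h8nWU chevF4 hB w * h8xU chevF4 hB r t * (h8nWU chevF4 hB w)⁻¹) *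
          (h8nU chevF4 hB (chevF4.simple i) (1 : F))⁻¹ := by group
    have hlt : h8f4sW w r < chevF4.nroots := by
      rw [h8f4sW_eq hA w hw' r hr]
      exact h8sW_lt chevF4 hA w hw' r hr
    rw [e, ih hw', h8f4_n_conj hB i hi _ hlt]
    have e2 : chevF4.reflectRoot i (h8f4sW w r) = h8f4sW (i :: w) r := by
      rw [h8f4sW_eq hA w hw' r hr, h8f4sW_eq hA (i :: w) hw r hr]
      rfl
    rw [e2]
    congr 1
    show _ = (((h8eta_F4 i).getD (h8f4sW w r) 0 * h8f4Eps w r : ℤ) : F) * t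
    push_cast
    ring

/-- conjugation of a root element by an element of `N` in standard form -/
theorem h8f4_N_conj (hB : H8Base.{u} chevF4) (hA : H8ReflAll chevF4) (c : ℕ → F)
    (hc : ∀ i, c i ≠ 0) (w : List ℕ) (hw : ∀ i ∈ w, i < chevF4.rank) (r : ℕ)
    (hr : r < chevF4.nroots) (t : F) :
    (h8stdT chevF4 hB c * h8nWU chevF4 hB w) * h8xU chevF4 hB r t *
      (h8stdT chevF4 hB c * h8nWU chevF4 hB w)⁻¹ =
      h8xU chevF4 hB (h8f4sW w r)
        (h8stdChi chevF4 c (h8f4sW w r) * (((h8f4Eps w r : ℤ) : F) * t)) := by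
  have e : (h8stdT chevF4 hB c * h8nWU chevF4 hB w) * h8xU chevF4 hB r t *
      (h8stdT chevF4 hB c * h8nWU chevF4 hB w)⁻¹ =
      h8stdT chevF4 hB c * (h8nWU chevF4 hB w * h8xU chevF4 hB r t * (h8nWU chevF4 hB w)⁻¹) *
        (h8stdT chevF4 hB c)⁻¹ := by group
  have hlt : h8f4sW w r < chevF4.nroots := by
    rw [h8f4sW_eq hA w hw r hr]
    exact h8sW_lt chevF4 hA w hw r hr
  rw [e, h8f4_nW_conj hB hA w hw r hr,
    h8stdT_conj chevF4 hB (h8scChk_all chevF4 h8f4_mem) c hc _ hlt]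

/-- the relation satisfied by the parameters of an involution of `N` -/
theorem h8f4_inv_rel (hB : H8Base.{u} chevF4) (hA : H8ReflAll chevF4) (hW : H8BN2 chevF4)
    (c : ℕ → F) (hc : ∀ i, c i ≠ 0) (w : List ℕ) (hw : ∀ i ∈ w, i < chevF4.rank)
    (hnn : (h8stdT chevF4 hB c * h8nWU chevF4 hB w) * (h8stdT chevF4 hB c * h8nWU chevF4 hB w) = 1)
    (r : ℕ) (hr : r < chevF4.nroots) (hwr : h8f4sW w (h8f4sW w r) = r) :
    h8stdChi chevF4 c r * (((h8f4Eps w (h8f4sW w r) : ℤ) : F) *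
      (h8stdChi chevF4 c (h8f4sW w r) * (((h8f4Eps w r : ℤ) : F) * 1))) = 1 := by
  set n := h8stdT chevF4 hB c * h8nWU chevF4 hB w with hn
  have hninv : n⁻¹ = n := by rw [inv_eq_iff_mul_eq_one]; exact hnn
  have e1 : n * (n * h8xU chevF4 hB r 1 * n⁻¹) * n⁻¹ = h8xU chevF4 hB r (1 : F) := by
    rw [hninv]
    have : n * (n * h8xU chevF4 hB r 1 * n) * n = (n * n) * h8xU chevF4 hB r 1 * (n * n) := by
      group
    rw [this, hnn, one_mul, mul_one]
  have hlt : h8f4sW w r < chevF4.nroots := by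
    rw [h8f4sW_eq hA w hw r hr]
    exact h8sW_lt chevF4 hA w hw r hr
  rw [h8f4_N_conj hB hA c hc w hw r hr, h8f4_N_conj hB hA c hc w hw _ hlt, hwr] at e1
  exact h8xU_inj_t chevF4 hB hA hW r hr _ _ e1

end Cfsg.Agent.Lib.helper8
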