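import Mathlib
import Cfsg.Prelude.Def_ChevStructure
import Cfsg.Prelude.Def_ChevF4
import Cfsg.Agent.Lib.helper8.ChevInvF4c
import Cfsg.Agent.Lib.helper8.ChevInvF4g
import Cfsg.Agent.Lib.helper8.ChevH5

set_option autoImplicit false

namespace Cfsg.Agent.Lib.helper8

open Cfsg.Lie Cfsg.Lie.ChevalleyDatum

universe u

variable {F : Type u} [Field F]

/-- parities of the pairings of the roots of `F₄` with the coroot of the simple root `27` -/
def h8f4Par1 : List Bool :=
  [false, false, false, false, false, false, false, true, true, true, true, true, true, true,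
    true, false, false, false, false, false, false, false, false, false, false, false, false,
    false, false, false, false, false, false, true, true, true, true, true, true, true, true,
    false, false, false, false, false, false, false]

/-- parities of the pairings of the roots of `F₄` with the coroot of the simple root `25` -/
def h8f4Par2 : List Bool :=
  [false, true, true, false, true, true, false, false, true, true, false, false, true, true,
    false, true, true, false, false, true, true, true, false, true, true, false, true, true,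
    true, false, false, true, true, false, true, true, false, false, true, true, false, false,
    true, true, false, true, true, false]

theorem h8f4Par1_eq : ∀ r < 48, decide (h8K chevF4 27 r % 2 = 1) = h8f4Par1.getD r false := by
  decide +kernel

theorem h8f4Par2_eq : ∀ r < 48, decide (h8K chevF4 25 r % 2 = 1) = h8f4Par2.getD r false := by
  decide +kernel

/-- the sign attached to a Boolean -/
def h8bsg (b : Bool) : F := if b then -1 else 1

theorem h8bsg_ne (b : Bool) : (h8bsg b : F) ≠ 0 := by
  unfold h8bsg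
  cases b <;> simp

theorem h8bsg_zpow (b : Bool) (k : ℤ) :
    (h8bsg b : F) ^ k = h8bsg (b && decide (k % 2 = 1)) := by
  unfold h8bsg
  cases b
  · simp
  · rcases Int.emod_two_eq_zero_or_one k with h | h
    · have h3 : decide (k % 2 = 1) = false := by
        rw [decide_eq_false_iff_not, h]
        decide
      rw [h3]
      simp only [if_true, Bool.and_false, Bool.false_eq_true, if_false]
      exact Even.neg_one_zpow (Int.even_iff.mpr h)
    · have h3 : decide (k % 2 = 1) = true := by
        rw [decide_eq_true_eq, h]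
      rw [h3]
      simp only [if_true, Bool.and_true]
      exact Odd.neg_one_zpow (Int.odd_iff.mpr h)

theorem h8bsg_mul (a b : Bool) : (h8bsg a : F) * h8bsg b = h8bsg (a != b) := by
  unfold h8bsg
  cases a <;> cases b <;> simp

/-- the parity table of the product of the `h_{p_i}(-1)` with `e_i` true -/
def h8f4ParE (e0 e1 e2 e3 : Bool) : List Bool :=
  (List.range 48).map fun r => ((e0 && h8f4ParS.getD r false) != ((e1 && h8f4Par1.getD r false) !=
    ((e2 && h8f4Par2.getD r false) != (e3 && h8f4ParT.getD r false))))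

theorem h8f4ParE_getD (e0 e1 e2 e3 : Bool) (r : ℕ) (hr : r < 48) :
    (h8f4ParE e0 e1 e2 e3).getD r false =
      ((e0 && h8f4ParS.getD r false) != ((e1 && h8f4Par1.getD r false) !=
        ((e2 && h8f4Par2.getD r false) != (e3 && h8f4ParT.getD r false)))) := by
  unfold h8f4ParE
  generalize hf : (fun r => ((e0 && h8f4ParS.getD r false) != ((e1 && h8f4Par1.getD r false) !=
    ((e2 && h8f4Par2.getD r false) != (e3 && h8f4ParT.getD r false))))) = f
  have : ((e0 && h8f4ParS.getD r false) != ((e1 && h8f4Par1.getD r false) !=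
      ((e2 && h8f4Par2.getD r false) != (e3 && h8f4ParT.getD r false)))) = f r := by
    rw [← hf]
  rw [this, List.getD_eq_getElem?_getD, List.getElem?_map, List.getElem?_range hr]
  rfl

/-- the involution `∏ h_{p_i}((-1)^{e_i})` of `H` -/
def h8f4Te (hB : H8Base.{u} chevF4) (e0 e1 e2 e3 : Bool) : GL chevF4.Idx F :=
  h8ttH chevF4 hB [(33, h8bsg e0), (27, h8bsg e1), (25, h8bsg e2), (24, h8bsg e3)]

theorem h8f4Te_list (e0 e1 e2 e3 : Bool) :
    ∀ p ∈ [(33, (h8bsg e0 : F)), (27, h8bsg e1), (25, h8bsg e2), (24, h8bsg e3)],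
      p.1 < chevF4.nroots ∧ p.2 ≠ 0 := by
  intro p hp
  simp only [List.mem_cons, List.not_mem_nil, or_false] at hp
  rcases hp with rfl | rfl | rfl | rfl
  · exact ⟨(by decide : 33 < chevF4.nroots), h8bsg_ne _⟩
  · exact ⟨(by decide : 27 < chevF4.nroots), h8bsg_ne _⟩
  · exact ⟨(by decide : 25 < chevF4.nroots), h8bsg_ne _⟩
  · exact ⟨(by decide : 24 < chevF4.nroots), h8bsg_ne _⟩

theorem h8f4Te_mem (hB : H8Base.{u} chevF4) (e0 e1 e2 e3 : Bool) :
    (h8f4Te hB e0 e1 e2 e3 : GL chevF4.Idx F) ∈ chevF4.diagonalSubgroup F := by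
  unfold h8f4Te h8ttH
  apply Subgroup.list_prod_mem
  intro g hg
  rw [List.mem_map] at hg
  obtain ⟨p, hp, rfl⟩ := hg
  obtain ⟨h1, h2⟩ := h8f4Te_list e0 e1 e2 e3 p hp
  exact h8hU_mem_H chevF4 hB p.1 h1 p.2 h2

theorem h8f4Te_conj (hB : H8Base.{u} chevF4) (e0 e1 e2 e3 : Bool) (r : ℕ)
    (hr : r < chevF4.nroots) (s : F) :
    h8f4Te hB e0 e1 e2 e3 * h8xU chevF4 hB r s * (h8f4Te hB e0 e1 e2 e3)⁻¹ =
      h8xU chevF4 hB r (h8f4Sgn (h8f4ParE e0 e1 e2 e3) r * s) := by
  unfold h8f4Te
  rw [h8ttH_conj chevF4 hB _ (h8f4Te_list e0 e1 e2 e3) r hr s]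
  congr 2
  unfold h8ttChi
  simp only [List.map_cons, List.map_nil, List.prod_cons, List.prod_nil, mul_one]
  rw [h8bsg_zpow, h8bsg_zpow, h8bsg_zpow, h8bsg_zpow, h8f4ParS_eq r hr, h8f4Par1_eq r hr,
    h8f4Par2_eq r hr, h8f4ParT_eq r hr, h8bsg_mul, h8bsg_mul, h8bsg_mul]
  unfold h8f4Sgn h8bsg
  rw [h8f4ParE_getD e0 e1 e2 e3 r hr]

end Cfsg.Agent.Lib.helper8
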