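import Mathlib
import Cfsg.Prelude.Def_ChevStructure
import Cfsg.Prelude.Def_ChevF4
import Cfsg.Agent.Lib.helper8.ChevInvF4m
import Cfsg.Agent.Lib.helper8.ChevInvF4d
import Cfsg.Agent.Lib.helper8.ChevBNAll2
import Cfsg.Agent.Lib.helper8.ChevOrdAll

set_option autoImplicit false

namespace Cfsg.Agent.Lib.helper8

open Cfsg.Lie Cfsg.Lie.ChevalleyDatum

universe u

variable {F : Type u} [Field F]

/-- the character of a conjugate `n⁻¹ t n` of a torus element by an element of `N` -/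
theorem h8conj_char (D : ChevalleyDatum) (hB : H8Base.{u} D) (hA : H8ReflAll D)
    (hBN : H8BN D) (t : GL D.Idx F) (ht : t ∈ D.diagonalSubgroup F) (χ : ℕ → F)
    (hχ : ∀ r < D.nroots, ∀ s : F, t * h8xU D hB r s * t⁻¹ = h8xU D hB r (χ r * s))
    (n : GL D.Idx F) (hn : n ∈ D.monomialSubgroup F) (h : H8Perm D hB n) :
    n⁻¹ * t * n ∈ D.diagonalSubgroup F ∧
    ∀ r : Fin D.nroots, ∀ s : F, (n⁻¹ * t * n) * h8xU D hB r.val s * (n⁻¹ * t * n)⁻¹ =
      h8xU D hB r.val (χ (h8permOf D hB n h r).val * s) := by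
  obtain ⟨dep, par, horb⟩ := hBN.orb
  have hnorm := h8N_le_normalizer_H (F := F) D hB hA dep par horb
  constructor
  · have := (Subgroup.mem_normalizer_iff.mp (hnorm (Subgroup.inv_mem _ hn)) _).mp ht
    rwa [inv_inv] at this
  · intro r s
    obtain ⟨c, hc, hcs⟩ := h8permOf_act D hB n h r
    have e1 : (n⁻¹ * t * n) * h8xU D hB r.val s * (n⁻¹ * t * n)⁻¹ =
        n⁻¹ * (t * (n * h8xU D hB r.val s * n⁻¹) * t⁻¹) * n := by group
    rw [e1, hcs s, hχ _ (h8permOf D hB n h r).2]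
    have e2 : χ (h8permOf D hB n h r).val * (c * s) = c * (χ (h8permOf D hB n h r).val * s) := by
      ring
    rw [e2, ← hcs]
    group

/-- the Boolean test that the word `w` conjugates `∏ h_{p_i}((-1)^{e_i})` to `h_c(-1)` -/
def h8f4ConjChk (par : List Bool) (w : List ℕ) (e0 e1 e2 e3 : Bool) : Bool :=
  (w.all fun i => decide (i < 4)) &&
  (List.range 48).all fun r =>
    par.getD (h8f4sW w r) false == (h8f4ParE e0 e1 e2 e3).getD r false

theorem h8f4_conj_Te (c : ℕ) (hc : c < chevF4.nroots) (par : List Bool)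
    (hpar : ∀ r < 48, decide (h8K chevF4 c r % 2 = 1) = par.getD r false)
    (w : List ℕ) (e0 e1 e2 e3 : Bool) (hchk : h8f4ConjChk par w e0 e1 e2 e3 = true) :
    ∃ y ∈ chevF4.group F, y * h8f4Te (h8base_all.{u} chevF4 h8f4_mem) e0 e1 e2 e3 * y⁻¹ =
      h8hU chevF4 (h8base_all.{u} chevF4 h8f4_mem) c (-1 : F) := by
  have hB := h8base_all.{u} chevF4 h8f4_mem
  have hA := h8reflAll chevF4 h8f4_mem
  have hBN := h8bn_all chevF4 h8f4_mem
  have hW := h8bn2_all chevF4 h8f4_mem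
  obtain ⟨_, hO2⟩ := h8ord_all chevF4 h8f4_mem
  have hsc := h8scChk_all chevF4 h8f4_mem
  unfold h8f4ConjChk at hchk
  rw [Bool.and_eq_true, List.all_eq_true, List.all_eq_true] at hchk
  obtain ⟨hw0, hchk⟩ := hchk
  have hw : ∀ i ∈ w, i < chevF4.rank := by
    intro i hi
    have := hw0 i hi
    rw [decide_eq_true_eq] at this
    exact this
  obtain ⟨dep, parr, horb⟩ := hBN.orb
  have hNperm := h8perm_N (F := F) chevF4 hB hA dep parr horb
  have hnN := h8nWU_mem_N (F := F) chevF4 hB hA w hw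
  have ht : h8hU chevF4 hB c (-1 : F) ∈ chevF4.diagonalSubgroup F :=
    h8hU_mem_H chevF4 _ c hc (-1) (by simp)
  obtain ⟨hm, hact⟩ := h8conj_char chevF4 hB hA hBN _ ht _
    (h8f4_hconj (F := F) hB c hc par hpar) _ hnN (hNperm _ hnN)
  have hperm := h8permOf_nWU (F := F) chevF4 hB hA hBN hW hO2 w hw (hNperm _ hnN)
  refine ⟨h8nWU chevF4 hB w, h8_N_le_group chevF4 hB hnN, ?_⟩
  have key : h8f4Te hB e0 e1 e2 e3 =
      (h8nWU chevF4 hB w : GL chevF4.Idx F)⁻¹ * h8hU chevF4 hB c (-1 : F) * h8nWU chevF4 hB w := by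
    apply h8H_ext chevF4 hB hA hW hsc _ _ (h8f4Te_mem hB e0 e1 e2 e3) hm
    intro r hr
    rw [h8f4Te_conj hB e0 e1 e2 e3 r hr, hact ⟨r, hr⟩ 1, hperm, h8f4_wPerm_val hA w hw]
    congr 2
    have := hchk r (List.mem_range.mpr hr)
    rw [beq_iff_eq] at this
    unfold h8f4Sgn
    rw [this]
  rw [key]
  group

/-- every nontrivial involution `∏ h_{p_i}((-1)^{e_i})` is conjugate to `h_{33}(-1)` or to
`h_{24}(-1)` -/
theorem h8f4_Te_conj_std (e0 e1 e2 e3 : Bool) (hne : (e0 || e1 || e2 || e3) = true) :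
    ∃ y ∈ chevF4.group F,
      y * h8f4Te (h8base_all.{u} chevF4 h8f4_mem) e0 e1 e2 e3 * y⁻¹ =
        h8hU chevF4 (h8base_all.{u} chevF4 h8f4_mem) 33 (-1 : F) ∨
      y * h8f4Te (h8base_all.{u} chevF4 h8f4_mem) e0 e1 e2 e3 * y⁻¹ =
        h8hU chevF4 (h8base_all.{u} chevF4 h8f4_mem) 24 (-1 : F) := by
  cases e0 <;> cases e1 <;> cases e2 <;> cases e3
  · exact absurd hne (by decide)
  · obtain ⟨y, hy, e⟩ := h8f4_conj_Te (F := F) 24 (by decide) h8f4ParT h8f4ParT_eq [] false false false true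
      (by decide +kernel)
    exact ⟨y, hy, Or.inr e⟩
  · obtain ⟨y, hy, e⟩ := h8f4_conj_Te (F := F) 24 (by decide) h8f4ParT h8f4ParT_eq [2, 3] false false true false
      (by decide +kernel)
    exact ⟨y, hy, Or.inr e⟩
  · obtain ⟨y, hy, e⟩ := h8f4_conj_Te (F := F) 24 (by decide) h8f4ParT h8f4ParT_eq [2] false false true true
      (by decide +kernel)
    exact ⟨y, hy, Or.inr e⟩
  · obtain ⟨y, hy, e⟩ := h8f4_conj_Te (F := F) 33 (by decide) h8f4ParS h8f4ParS_eq [1, 0] false true false false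
      (by decide +kernel)
    exact ⟨y, hy, Or.inl e⟩
  · obtain ⟨y, hy, e⟩ := h8f4_conj_Te (F := F) 24 (by decide) h8f4ParT h8f4ParT_eq [2, 1, 2] false true false true
      (by decide +kernel)
    exact ⟨y, hy, Or.inr e⟩
  · obtain ⟨y, hy, e⟩ := h8f4_conj_Te (F := F) 24 (by decide) h8f4ParT h8f4ParT_eq [2, 3, 1] false true true false
      (by decide +kernel)
    exact ⟨y, hy, Or.inr e⟩
  · obtain ⟨y, hy, e⟩ := h8f4_conj_Te (F := F) 24 (by decide) h8f4ParT h8f4ParT_eq [2, 1] false true true true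
      (by decide +kernel)
    exact ⟨y, hy, Or.inr e⟩
  · obtain ⟨y, hy, e⟩ := h8f4_conj_Te (F := F) 33 (by decide) h8f4ParS h8f4ParS_eq [] true false false false
      (by decide +kernel)
    exact ⟨y, hy, Or.inl e⟩
  · obtain ⟨y, hy, e⟩ := h8f4_conj_Te (F := F) 24 (by decide) h8f4ParT h8f4ParT_eq [2, 1, 2, 0, 1] true false false true
      (by decide +kernel)
    exact ⟨y, hy, Or.inr e⟩
  · obtain ⟨y, hy, e⟩ := h8f4_conj_Te (F := F) 24 (by decide) h8f4ParT h8f4ParT_eq [2, 1, 2, 0, 1, 2, 3] true false true false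
      (by decide +kernel)
    exact ⟨y, hy, Or.inr e⟩
  · obtain ⟨y, hy, e⟩ := h8f4_conj_Te (F := F) 24 (by decide) h8f4ParT h8f4ParT_eq [2, 1, 2, 0, 1, 2] true false true true
      (by decide +kernel)
    exact ⟨y, hy, Or.inr e⟩
  · obtain ⟨y, hy, e⟩ := h8f4_conj_Te (F := F) 33 (by decide) h8f4ParS h8f4ParS_eq [1] true true false false
      (by decide +kernel)
    exact ⟨y, hy, Or.inl e⟩
  · obtain ⟨y, hy, e⟩ := h8f4_conj_Te (F := F) 24 (by decide) h8f4ParT h8f4ParT_eq [2, 1, 2, 0] true true false true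
      (by decide +kernel)
    exact ⟨y, hy, Or.inr e⟩
  · obtain ⟨y, hy, e⟩ := h8f4_conj_Te (F := F) 24 (by decide) h8f4ParT h8f4ParT_eq [2, 3, 1, 0] true true true false
      (by decide +kernel)
    exact ⟨y, hy, Or.inr e⟩
  · obtain ⟨y, hy, e⟩ := h8f4_conj_Te (F := F) 24 (by decide) h8f4ParT h8f4ParT_eq [2, 1, 0] true true true true
      (by decide +kernel)
    exact ⟨y, hy, Or.inr e⟩

end Cfsg.Agent.Lib.helper8
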