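import Mathlib
import Cfsg.Prelude.Def_ChevStructure
import Cfsg.Prelude.Def_ChevF4
import Cfsg.Agent.Lib.helper8.ChevInvF4n
import Cfsg.Agent.Lib.helper8.ChevCent2

set_option autoImplicit false

namespace Cfsg.Agent.Lib.helper8

open Cfsg.Lie Cfsg.Lie.ChevalleyDatum Cfsg.Agent.Lib.helper8.H3

universe u

variable {F : Type u} [Field F]

/-- the standard torus element is the value of the parametrizing homomorphism -/
theorem h8stdT_eq_Theta (D : ChevalleyDatum) (hB : H8Base.{u} D) (hsc : h8scChk D = true)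
    (c : Fin D.rank → Fˣ) : h8stdT D hB (h8ext D c) = h8Theta D c := by
  have hc : ∀ i < D.rank, h8ext D c i ≠ 0 := by
    intro i hi
    unfold h8ext
    rw [dif_pos hi]
    exact Units.ne_zero _
  have key : ∀ n ≤ D.rank, h8ttH D hB ((List.range n).map fun i => (D.simple i, h8ext D c i)) =
      h8wordU D hB ((List.range n).flatMap fun i => D.hWord (D.simple i) (h8ext D c i)) := by
    intro n
    induction n with
    | zero => intro _; rfl
    | succ n ih =>
      intro hn
      rw [List.range_succ, List.map_append, List.flatMap_append, h8wordU_append, ← ih (by omega)]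
      unfold h8ttH
      rw [List.map_append, List.prod_append]
      congr 1
      simp only [List.map_cons, List.map_nil, List.prod_cons, List.prod_nil, mul_one,
        List.flatMap_cons, List.flatMap_nil, List.append_nil]
      rfl
  unfold h8stdT
  rw [key D.rank le_rfl]
  apply Units.ext
  rw [h8wordU_val, h8wordMat_flatMap_range D hB hsc _ hc D.rank le_rfl, h8Theta_eq_Phi]

/-- the parametrizing homomorphism of the torus of `F₄(q)` is injective -/
theorem h8f4_Theta_ker [Fintype F] (hq : 1 < Fintype.card F) (c : Fin chevF4.rank → Fˣ)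
    (hc : (h8Theta (F := F) chevF4) c = 1) : c = 1 := by
  have hB := h8base_all.{u} chevF4 h8f4_mem
  have hsc := h8scChk_all chevF4 h8f4_mem
  have h1 := h8H_card_ker (F := F) chevF4 hB hsc
  rw [h8H_card_F4] at h1
  have hr : chevF4.rank = 4 := rfl
  rw [hr] at h1
  have hpos : 0 < (Fintype.card F - 1) ^ 4 := Nat.pow_pos (by omega)
  have h3 : Nat.card {c : Fin 4 → Fˣ // h8pw c (fun (i : Fin 4) (v : Fin chevF4.nroots) =>
      chevF4.cartan i.val v.val) = fun _ => 1} = 1 := by
    have : Nat.card {c : Fin 4 → Fˣ // h8pw c (fun (i : Fin 4) (v : Fin chevF4.nroots) =>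
        chevF4.cartan i.val v.val) = fun _ => 1} * (Fintype.card F - 1) ^ 4 =
        1 * (Fintype.card F - 1) ^ 4 := by rw [one_mul]; exact h1
    exact Nat.eq_of_mul_eq_mul_right hpos this
  rw [Nat.card_eq_one_iff_unique] at h3
  obtain ⟨hsub, _⟩ := h3
  have hk : c ∈ (h8Theta (F := F) chevF4).ker := hc
  rw [h8Theta_ker] at hk
  have hk1 : (1 : Fin chevF4.rank → Fˣ) ∈ (h8Theta (F := F) chevF4).ker := Subgroup.one_mem _
  rw [h8Theta_ker] at hk1
  have := hsub.elim ⟨c, hk⟩ ⟨1, hk1⟩
  exact congrArg Subtype.val this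

theorem h8f4Te_false (hB : H8Base.{u} chevF4) :
    (h8f4Te hB false false false false : GL chevF4.Idx F) = 1 := by
  unfold h8f4Te h8ttH h8bsg
  simp only [Bool.false_eq_true, if_false, List.map_cons, List.map_nil, List.prod_cons,
    List.prod_nil, h8hU_one, mul_one]

/-- an involution of the torus of `F₄(q)` is a product of the `h_{p_i}(-1)` -/
theorem h8f4_H_inv_Te [Fintype F] (hq : 1 < Fintype.card F) (h : GL chevF4.Idx F)
    (hh : h ∈ chevF4.diagonalSubgroup F) (hsq : h * h = 1) :
    ∃ e0 e1 e2 e3 : Bool, h = h8f4Te (h8base_all.{u} chevF4 h8f4_mem) e0 e1 e2 e3 := by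
  classical
  have hB := h8base_all.{u} chevF4 h8f4_mem
  have hsc := h8scChk_all chevF4 h8f4_mem
  rw [← h8Theta_range chevF4 hB hsc] at hh
  obtain ⟨c, rfl⟩ := hh
  have hcc : c * c = 1 := by
    apply h8f4_Theta_ker hq
    rw [map_mul]
    exact hsq
  have hci : ∀ i : Fin chevF4.rank, ((c i : Fˣ) : F) = h8bsg (decide (((c i : Fˣ) : F) = -1)) := by
    intro i
    have h1 : c i * c i = 1 := congrFun hcc i
    have h2 : ((c i : Fˣ) : F) * ((c i : Fˣ) : F) = 1 := by
      rw [← Units.val_mul, h1, Units.val_one]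
    unfold h8bsg
    rcases mul_self_eq_one_iff.mp h2 with h3 | h3
    · by_cases h4 : ((c i : Fˣ) : F) = -1
      · rw [decide_eq_true h4, if_pos rfl]
        exact h4
      · rw [decide_eq_false h4]
        simp only [Bool.false_eq_true, if_false]
        exact h3
    · rw [decide_eq_true h3, if_pos rfl]
      exact h3
  refine ⟨decide (((c ⟨0, by decide⟩ : Fˣ) : F) = -1), decide (((c ⟨1, by decide⟩ : Fˣ) : F) = -1),
    decide (((c ⟨2, by decide⟩ : Fˣ) : F) = -1), decide (((c ⟨3, by decide⟩ : Fˣ) : F) = -1), ?_⟩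
  rw [← h8stdT_eq_Theta chevF4 (h8base_all.{u} chevF4 h8f4_mem) hsc c]
  unfold h8stdT h8f4Te
  have hr : List.range chevF4.rank = [0, 1, 2, 3] := rfl
  rw [hr]
  simp only [List.map_cons, List.map_nil]
  rw [← hci ⟨0, by decide⟩, ← hci ⟨1, by decide⟩, ← hci ⟨2, by decide⟩, ← hci ⟨3, by decide⟩]
  have e0 : h8ext chevF4 c 0 = ((c ⟨0, by decide⟩ : Fˣ) : F) := by
    unfold h8ext; rw [dif_pos (by decide)]
  have e1 : h8ext chevF4 c 1 = ((c ⟨1, by decide⟩ : Fˣ) : F) := by
    unfold h8ext; rw [dif_pos (by decide)]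
  have e2 : h8ext chevF4 c 2 = ((c ⟨2, by decide⟩ : Fˣ) : F) := by
    unfold h8ext; rw [dif_pos (by decide)]
  have e3 : h8ext chevF4 c 3 = ((c ⟨3, by decide⟩ : Fˣ) : F) := by
    unfold h8ext; rw [dif_pos (by decide)]
  rw [e0, e1, e2, e3]
  rfl

end Cfsg.Agent.Lib.helper8
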