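import Mathlib
import Cfsg.Prelude.Def_ChevStructure
import Cfsg.Prelude.Def_ChevE8
import Cfsg.Agent.Lib.helper8.ChevInvE8i
import Cfsg.Agent.Lib.helper8.ChevInvF4o
import Cfsg.Agent.Lib.helper8.ChevTwQ5

set_option autoImplicit false

namespace Cfsg.Agent.Lib.helper8

open Cfsg.Lie Cfsg.Lie.ChevalleyDatum

universe u

variable {F : Type u} [Field F]

theorem h8sgnB_zpow (b : Bool) (k : ℤ) :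
    (h8sgnB b : F) ^ k = h8sgnB (b && decide (k % 2 = 1)) := by
  unfold h8sgnB
  cases b
  · simp
  · rcases Int.emod_two_eq_zero_or_one k with h | h
    · have h3 : decide (k % 2 = 1) = false := by
        rw [decide_eq_false_iff_not, h]
        decide
      rw [h3]
      simp only [if_true, Bool.and_false, Bool.false_eq_true, if_false]
      exact Even.neg_one_zpow (Int.even_iff.mpr h)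
    · have h3 : decide (k % 2 = 1) = true := by
        rw [decide_eq_true_eq, h]
      rw [h3]
      simp only [if_true, Bool.and_true]
      exact Odd.neg_one_zpow (Int.odd_iff.mpr h)

theorem h8sgnB_mul (a b : Bool) : (h8sgnB a : F) * h8sgnB b = h8sgnB (a != b) := by
  unfold h8sgnB
  cases a <;> cases b <;> simp

/-- the character of a torus element with coordinates `±1` -/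
theorem h8stdChi_sgn (D : ChevalleyDatum) (e : ℕ → Bool) (r : ℕ) :
    h8stdChi D (fun i => (h8sgnB (e i) : F)) r =
      h8sgnB ((List.range D.rank).foldr
        (fun i acc => (e i && decide (h8K D (D.simple i) r % 2 = 1)) != acc) false) := by
  unfold h8stdChi h8ttChi
  rw [List.map_map]
  generalize List.range D.rank = l
  induction l with
  | nil =>
    unfold h8sgnB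
    simp
  | cons i l ih =>
    rw [List.map_cons, List.prod_cons, ih, List.foldr_cons]
    show (h8sgnB (e i) : F) ^ (h8K D (D.simple i) r) * _ = _
    rw [h8sgnB_zpow, h8sgnB_mul]

def h8e8KP : List ℕ := [20704396542038367424733491914620092534419798955723322403167678861672256, 51844003768978489081421662274780806913344498170800302062942232843960800, 51790031219548570289272509125489850590178084342756496724708560256041440, 88038125446849077264088890466515657962332146859841734315069280643810096, 168250932007776485175152212492995670102577025804607859085322436827350552, 332588348540278792202362407411527717188554811114544883376037069549079564, 663219912165574452665303100924087069728600367515865440902256417544345606, 1325461430136442926808816863125755873400476431580858341075940120903299075]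
def h8e8OrbS : List (ℕ × List ℕ) := [(3, [0, 2]), (6, []), (7, [0]), (9, [0, 2, 3, 1]), (11, [0, 2, 3]), (17, [0, 2, 3, 1, 4, 3]), (18, [0, 2, 3, 1, 4, 3, 2, 0, 5, 4, 3, 1, 2, 3, 4, 5]), (20, [0, 2, 3, 1, 4, 3, 2, 0]), (21, [0, 2, 3, 1, 4, 3, 2]), (25, [0, 2, 3, 1, 4]), (27, [0, 2, 3, 4]), (33, [0, 2, 3, 1, 4, 3, 5, 4]), (34, [0, 2, 3, 1, 4, 3, 2, 0, 5, 4, 3, 1, 2, 3]), (36, [0, 2, 3, 1, 4, 3, 2, 0, 5, 4]), (37, [0, 2, 3, 1, 4, 3, 2, 5, 4]), (40, [0, 2, 3, 1, 4, 3, 2, 0, 5, 4, 3, 2]), (42, [0, 2, 3, 1, 4, 3, 2, 0, 5, 4, 3, 1, 2]), (44, [0, 2, 3, 1, 4, 3, 2, 0, 5, 4, 3]), (45, [0, 2, 3, 1, 4, 3, 2, 5, 4, 3]), (46, [0, 2, 3, 1, 4, 3, 2, 0, 5, 4, 3, 1]), (47, [0, 2, 3, 1, 4, 3, 2, 5, 4, 3, 1]), (49, [0, 2, 3, 1, 4, 3, 5]), (50, [0, 2, 3, 1,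 4, 3, 2, 0, 5, 4, 3, 1, 2, 3, 4]), (52, [0, 2, 3, 1, 4, 3, 2, 0, 5]), (53, [0, 2, 3, 1, 4, 3, 2, 5]), (57, [0, 2, 3, 1, 4, 5]), (59, [0, 2, 3, 4, 5]), (65, [0, 2, 3, 1, 4, 3, 5, 4, 6, 5]), (66, [0, 2, 3, 1, 4, 3, 2, 0, 5, 4, 3, 1, 2, 3, 6, 5]), (68, [0, 2, 3, 1, 4, 3, 2, 0, 5, 4, 6, 5]), (69, [0, 2, 3, 1, 4, 3, 2, 5, 4, 6, 5]), (72, [0, 2, 3, 1, 4, 3, 2, 0, 5, 4, 3, 2, 6, 5]), (74, [0, 2, 3, 1, 4, 3, 2, 0, 5, 4, 3, 1, 2, 6, 5]), (76, [0, 2, 3, 1, 4, 3, 2, 0, 5, 4, 3, 6, 5]), (77, [0, 2, 3, 1, 4, 3, 2, 5, 4, 3, 6, 5]), (78, [0, 2, 3, 1, 4, 3, 2, 0, 5, 4, 3, 1, 6, 5]), (79, [0, 2, 3, 1, 4, 3, 2, 5, 4, 3, 1, 6, 5]), (80, [0, 2, 3, 1, 4, 3, 2, 0, 5, 4, 3, 2, 6, 5, 4, 3]), (83, [0, 2, 3, 1, 4, 3, 2, 5, 4, 3, 1, 6, 5, 4, 3, 2]), (86, [0, 2, 3,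 1, 4, 3, 2, 0, 5, 4, 3, 1, 6, 5, 4, 3]), (87, [0, 2, 3, 1, 4, 3, 2, 5, 4, 3, 1, 6, 5, 4, 3]), (88, [0, 2, 3, 1, 4, 3, 2, 0, 5, 4, 3, 2, 6, 5, 4]), (90, [0, 2, 3, 1, 4, 3, 2, 0, 5, 4, 3, 1, 2, 6, 5, 4]), (92, [0, 2, 3, 1, 4, 3, 2, 0, 5, 4, 3, 6, 5, 4]), (93, [0, 2, 3, 1, 4, 3, 2, 5, 4, 3, 6, 5, 4]), (94, [0, 2, 3, 1, 4, 3, 2, 0, 5, 4, 3, 1, 6, 5, 4]), (95, [0, 2, 3, 1, 4, 3, 2, 5, 4, 3, 1, 6, 5, 4]), (97, [0, 2, 3, 1, 4, 3, 5, 4, 6]), (98, [0, 2, 3, 1, 4, 3, 2, 0, 5, 4, 3, 1, 2, 3, 6]), (100, [0, 2, 3, 1, 4, 3, 2, 0, 5, 4, 6]), (101, [0, 2, 3, 1, 4, 3, 2, 5, 4, 6]), (104, [0, 2, 3, 1, 4, 3, 2, 0, 5, 4, 3, 2, 6]), (106, [0, 2, 3, 1, 4, 3, 2, 0, 5, 4, 3, 1, 2, 6]), (108, [0, 2, 3, 1, 4, 3, 2, 0, 5, 4, 3, 6]), (109, [0, 2, 3, 1, 4, 3, 2, 5, 4,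 3, 6]), (110, [0, 2, 3, 1, 4, 3, 2, 0, 5, 4, 3, 1, 6]), (111, [0, 2, 3, 1, 4, 3, 2, 5, 4, 3, 1, 6]), (113, [0, 2, 3, 1, 4, 3, 5, 6]), (114, [0, 2, 3, 1, 4, 3, 2, 0, 5, 4, 3, 1, 2, 3, 4, 6]), (116, [0, 2, 3, 1, 4, 3, 2, 0, 5, 6]), (117, [0, 2, 3, 1, 4, 3, 2, 5, 6]), (121, [0, 2, 3, 1, 4, 5, 6]), (123, [0, 2, 3, 4, 5, 6]), (129, [0, 2, 3, 1, 4, 3, 5, 4, 6, 5, 7, 6]), (130, [0, 2, 3, 1, 4, 3, 2, 0, 5, 4, 3, 1, 2, 3, 6, 5, 7, 6]), (132, [0, 2, 3, 1, 4, 3, 2, 0, 5, 4, 6, 5, 7, 6]), (133, [0, 2, 3, 1, 4, 3, 2, 5, 4, 6, 5, 7, 6]), (136, [0, 2, 3, 1, 4, 3, 2, 0, 5, 4, 3, 2, 6, 5, 7, 6]), (138, [0, 2, 3, 1, 4, 3, 2, 0, 5, 4, 3, 1, 2, 6, 5, 7, 6]), (140, [0, 2, 3, 1, 4, 3, 2, 0, 5, 4, 3, 6, 5, 7, 6]), (141, [0, 2, 3, 1, 4, 3, 2, 5, 4, 3, 6, 5, 7, 6]),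 (142, [0, 2, 3, 1, 4, 3, 2, 0, 5, 4, 3, 1, 6, 5, 7, 6]), (143, [0, 2, 3, 1, 4, 3, 2, 5, 4, 3, 1, 6, 5, 7, 6]), (144, [0, 2, 3, 1, 4, 3, 2, 0, 5, 4, 3, 2, 6, 5, 4, 3, 7, 6]), (147, [0, 2, 3, 1, 4, 3, 2, 5, 4, 3, 1, 6, 5, 4, 3, 2, 7, 6]), (150, [0, 2, 3, 1, 4, 3, 2, 0, 5, 4, 3, 1, 6, 5, 4, 3, 7, 6]), (151, [0, 2, 3, 1, 4, 3, 2, 5, 4, 3, 1, 6, 5, 4, 3, 7, 6]), (152, [0, 2, 3, 1, 4, 3, 2, 0, 5, 4, 3, 2, 6, 5, 4, 7, 6]), (154, [0, 2, 3, 1, 4, 3, 2, 0, 5, 4, 3, 1, 2, 6, 5, 4, 7, 6]), (156, [0, 2, 3, 1, 4, 3, 2, 0, 5, 4, 3, 6, 5, 4, 7, 6]), (157, [0, 2, 3, 1, 4, 3, 2, 5, 4, 3, 6, 5, 4, 7, 6]), (158, [0, 2, 3, 1, 4, 3, 2, 0, 5, 4, 3, 1, 6, 5, 4, 7, 6]), (159, [0, 2, 3, 1, 4, 3, 2, 5, 4, 3, 1, 6, 5, 4, 7, 6]), (160, [0, 2, 3, 1, 4, 3, 2, 0, 5, 4,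 3, 2, 6, 5, 4, 3, 7, 6, 5, 4]), (163, [0, 2, 3, 1, 4, 3, 2, 5, 4, 3, 1, 6, 5, 4, 3, 2, 7, 6, 5, 4]), (166, [0, 2, 3, 1, 4, 3, 2, 0, 5, 4, 3, 1, 6, 5, 4, 3, 7, 6, 5, 4]), (167, [0, 2, 3, 1, 4, 3, 2, 5, 4, 3, 1, 6, 5, 4, 3, 7, 6, 5, 4]), (169, [0, 2, 3, 1, 4, 3, 2, 5, 4, 3, 1, 6, 5, 4, 3, 2, 7, 6, 5, 4, 3, 1]), (171, [0, 2, 3, 1, 4, 3, 2, 5, 4, 3, 1, 6, 5, 4, 3, 2, 7, 6, 5, 4, 3]), (176, [0, 2, 3, 1, 4, 3, 2, 0, 5, 4, 3, 2, 6, 5, 4, 3, 7, 6, 5]), (179, [0, 2, 3, 1, 4, 3, 2, 5, 4, 3, 1, 6, 5, 4, 3, 2, 7, 6, 5]), (182, [0, 2, 3, 1, 4, 3, 2, 0, 5, 4, 3, 1, 6, 5, 4, 3, 7, 6, 5]), (183, [0, 2, 3, 1, 4, 3, 2, 5, 4, 3, 1, 6, 5, 4, 3, 7, 6, 5]), (184, [0, 2, 3, 1, 4, 3, 2, 0, 5, 4, 3, 2, 6, 5, 4, 7, 6, 5]), (186, [0, 2, 3, 1, 4, 3, 2, 0, 5, 4, 3, 1,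 2, 6, 5, 4, 7, 6, 5]), (188, [0, 2, 3, 1, 4, 3, 2, 0, 5, 4, 3, 6, 5, 4, 7, 6, 5]), (189, [0, 2, 3, 1, 4, 3, 2, 5, 4, 3, 6, 5, 4, 7, 6, 5]), (190, [0, 2, 3, 1, 4, 3, 2, 0, 5, 4, 3, 1, 6, 5, 4, 7, 6, 5]), (191, [0, 2, 3, 1, 4, 3, 2, 5, 4, 3, 1, 6, 5, 4, 7, 6, 5]), (193, [0, 2, 3, 1, 4, 3, 5, 4, 6, 5, 7]), (194, [0, 2, 3, 1, 4, 3, 2, 0, 5, 4, 3, 1, 2, 3, 6, 5, 7]), (196, [0, 2, 3, 1, 4, 3, 2, 0, 5, 4, 6, 5, 7]), (197, [0, 2, 3, 1, 4, 3, 2, 5, 4, 6, 5, 7]), (200, [0, 2, 3, 1, 4, 3, 2, 0, 5, 4, 3, 2, 6, 5, 7]), (202, [0, 2, 3, 1, 4, 3, 2, 0, 5, 4, 3, 1, 2, 6, 5, 7]), (204, [0, 2, 3, 1, 4, 3, 2, 0, 5, 4, 3, 6, 5, 7]), (205, [0, 2, 3, 1, 4, 3, 2, 5, 4, 3, 6, 5, 7]), (206, [0, 2, 3, 1, 4, 3, 2, 0, 5, 4, 3, 1, 6, 5, 7]), (207, [0, 2, 3, 1, 4, 3, 2,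 5, 4, 3, 1, 6, 5, 7]), (208, [0, 2, 3, 1, 4, 3, 2, 0, 5, 4, 3, 2, 6, 5, 4, 3, 7]), (211, [0, 2, 3, 1, 4, 3, 2, 5, 4, 3, 1, 6, 5, 4, 3, 2, 7]), (214, [0, 2, 3, 1, 4, 3, 2, 0, 5, 4, 3, 1, 6, 5, 4, 3, 7]), (215, [0, 2, 3, 1, 4, 3, 2, 5, 4, 3, 1, 6, 5, 4, 3, 7]), (216, [0, 2, 3, 1, 4, 3, 2, 0, 5, 4, 3, 2, 6, 5, 4, 7]), (218, [0, 2, 3, 1, 4, 3, 2, 0, 5, 4, 3, 1, 2, 6, 5, 4, 7]), (220, [0, 2, 3, 1, 4, 3, 2, 0, 5, 4, 3, 6, 5, 4, 7]), (221, [0, 2, 3, 1, 4, 3, 2, 5, 4, 3, 6, 5, 4, 7]), (222, [0, 2, 3, 1, 4, 3, 2, 0, 5, 4, 3, 1, 6, 5, 4, 7]), (223, [0, 2, 3, 1, 4, 3, 2, 5, 4, 3, 1, 6, 5, 4, 7]), (225, [0, 2, 3, 1, 4, 3, 5, 4, 6, 7]), (226, [0, 2, 3, 1, 4, 3, 2, 0, 5, 4, 3, 1, 2, 3, 6, 7]), (228, [0, 2, 3, 1, 4, 3, 2, 0, 5, 4, 6, 7]), (229, [0, 2, 3,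 1, 4, 3, 2, 5, 4, 6, 7]), (232, [0, 2, 3, 1, 4, 3, 2, 0, 5, 4, 3, 2, 6, 7]), (234, [0, 2, 3, 1, 4, 3, 2, 0, 5, 4, 3, 1, 2, 6, 7]), (236, [0, 2, 3, 1, 4, 3, 2, 0, 5, 4, 3, 6, 7]), (237, [0, 2, 3, 1, 4, 3, 2, 5, 4, 3, 6, 7]), (238, [0, 2, 3, 1, 4, 3, 2, 0, 5, 4, 3, 1, 6, 7]), (239, [0, 2, 3, 1, 4, 3, 2, 5, 4, 3, 1, 6, 7]), (241, [0, 2, 3, 1, 4, 3, 5, 6, 7]), (242, [0, 2, 3, 1, 4, 3, 2, 0, 5, 4, 3, 1, 2, 3, 4, 6, 7]), (244, [0, 2, 3, 1, 4, 3, 2, 0, 5, 6, 7]), (245, [0, 2, 3, 1, 4, 3, 2, 5, 6, 7]), (249, [0, 2, 3, 1, 4, 5, 6, 7]), (251, [0, 2, 3, 4, 5, 6, 7])]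
def h8e8OrbT : List (ℕ × List ℕ) := [(1, [7, 6, 5, 4, 3, 1, 2, 0, 3, 2, 4, 3, 1, 5, 4, 3, 2, 6, 5, 4, 3, 1, 7, 6, 5, 4, 3, 2]), (2, [7, 6, 5, 4, 3, 1, 2, 0, 3, 2, 4, 3, 1, 5, 4, 3, 2, 0, 6, 5, 4, 3, 2, 7, 6, 5, 4, 3]), (4, [7, 6, 5, 4, 3, 1, 2, 0, 3, 2, 4, 3, 1, 5, 4, 3, 2, 0, 6, 5, 4, 3, 1, 7, 6, 5, 4, 3]), (5, [7, 6, 5, 4, 3, 1, 2, 0, 3, 2, 4, 3, 1, 5, 4, 3, 2, 6, 5, 4, 3, 1, 7, 6, 5, 4, 3]), (8, [7, 6, 5, 4, 3, 1, 2, 0, 3, 2, 4, 3, 1, 5, 4, 3, 2, 0, 6, 5, 4, 3, 1, 2, 7, 6, 5, 4]), (10, [7, 6, 5, 4, 3, 1, 2, 0, 3, 2, 4, 3, 1, 5, 4, 3, 2, 0, 6, 5, 4, 3, 2, 7, 6, 5, 4]), (12, [7, 6, 5, 4, 3, 1, 2, 0, 3, 2, 4, 3, 1, 5, 4, 3, 2, 0, 6, 5, 4, 3, 1, 7, 6, 5, 4]), (13, [7, 6, 5, 4, 3, 1, 2, 0, 3, 2, 4, 3, 1, 5, 4, 3, 2, 6, 5, 4, 3, 1, 7, 6, 5,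 4]), (14, [7, 6, 5, 4, 3, 1, 2, 0, 3, 2, 4, 3, 1, 5, 4, 3, 2, 0, 6, 5, 4, 3, 7, 6, 5, 4]), (15, [7, 6, 5, 4, 3, 1, 2, 0, 3, 2, 4, 3, 1, 5, 4, 3, 2, 6, 5, 4, 3, 7, 6, 5, 4]), (16, [7, 6, 5, 4, 3, 1, 2, 0, 3, 2, 4, 3, 1, 5, 4, 3, 2, 0, 6, 5, 4, 3, 1, 2, 3, 7, 6, 5]), (19, [7, 6, 5, 4, 3, 1, 2, 0, 3, 2, 4, 3, 1, 5, 4, 3, 6, 5, 4, 7, 6, 5]), (22, [7, 6, 5, 4, 3, 1, 2, 0, 3, 2, 4, 3, 1, 5, 4, 3, 2, 0, 6, 5, 4, 7, 6, 5]), (23, [7, 6, 5, 4, 3, 1, 2, 0, 3, 2, 4, 3, 1, 5, 4, 3, 2, 6, 5, 4, 7, 6, 5]), (24, [7, 6, 5, 4, 3, 1, 2, 0, 3, 2, 4, 3, 1, 5, 4, 3, 2, 0, 6, 5, 4, 3, 1, 2, 7, 6, 5]), (26, [7, 6, 5, 4, 3, 1, 2, 0, 3, 2, 4, 3, 1, 5, 4, 3, 2, 0, 6, 5, 4, 3, 2, 7, 6, 5]), (28, [7, 6, 5, 4, 3, 1, 2, 0, 3, 2, 4, 3, 1, 5, 4, 3, 2, 0, 6, 5, 4, 3, 1, 7,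 6, 5]), (29, [7, 6, 5, 4, 3, 1, 2, 0, 3, 2, 4, 3, 1, 5, 4, 3, 2, 6, 5, 4, 3, 1, 7, 6, 5]), (30, [7, 6, 5, 4, 3, 1, 2, 0, 3, 2, 4, 3, 1, 5, 4, 3, 2, 0, 6, 5, 4, 3, 7, 6, 5]), (31, [7, 6, 5, 4, 3, 1, 2, 0, 3, 2, 4, 3, 1, 5, 4, 3, 2, 6, 5, 4, 3, 7, 6, 5]), (32, [7, 6, 5, 4, 3, 1, 2, 0, 3, 2, 4, 3, 1, 5, 4, 3, 2, 0, 6, 5, 4, 3, 1, 2, 3, 4, 7, 6]), (35, [7, 6, 5, 4, 3, 1, 2, 0, 3, 2, 4, 3, 1, 5, 4, 3, 6, 5, 7, 6]), (38, [7, 6, 5, 4, 3, 1, 2, 0, 3, 2, 4, 3, 1, 5, 4, 3, 2, 0, 6, 5, 7, 6]), (39, [7, 6, 5, 4, 3, 1, 2, 0, 3, 2, 4, 3, 1, 5, 4, 3, 2, 6, 5, 7, 6]), (41, [7, 6, 5, 4, 3, 1, 2, 0, 3, 2, 4, 3, 5, 4, 6, 5, 7, 6]), (43, [7, 6, 5, 4, 3, 1, 2, 0, 3, 2, 4, 3, 1, 5, 4, 6, 5, 7, 6]), (48, [7, 6, 5, 4, 3, 1, 2, 0, 3, 2, 4, 3, 1, 5, 4, 3, 2, 0, 6,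 5, 4, 3, 1, 2, 3, 7, 6]), (51, [7, 6, 5, 4, 3, 1, 2, 0, 3, 2, 4, 3, 1, 5, 4, 3, 6, 5, 4, 7, 6]), (54, [7, 6, 5, 4, 3, 1, 2, 0, 3, 2, 4, 3, 1, 5, 4, 3, 2, 0, 6, 5, 4, 7, 6]), (55, [7, 6, 5, 4, 3, 1, 2, 0, 3, 2, 4, 3, 1, 5, 4, 3, 2, 6, 5, 4, 7, 6]), (56, [7, 6, 5, 4, 3, 1, 2, 0, 3, 2, 4, 3, 1, 5, 4, 3, 2, 0, 6, 5, 4, 3, 1, 2, 7, 6]), (58, [7, 6, 5, 4, 3, 1, 2, 0, 3, 2, 4, 3, 1, 5, 4, 3, 2, 0, 6, 5, 4, 3, 2, 7, 6]), (60, [7, 6, 5, 4, 3, 1, 2, 0, 3, 2, 4, 3, 1, 5, 4, 3, 2, 0, 6, 5, 4, 3, 1, 7, 6]), (61, [7, 6, 5, 4, 3, 1, 2, 0, 3, 2, 4, 3, 1, 5, 4, 3, 2, 6, 5, 4, 3, 1, 7, 6]), (62, [7, 6, 5, 4, 3, 1, 2, 0, 3, 2, 4, 3, 1, 5, 4, 3, 2, 0, 6, 5, 4, 3, 7, 6]), (63, [7, 6, 5, 4, 3, 1, 2, 0, 3, 2, 4, 3, 1, 5, 4, 3, 2, 6, 5, 4, 3, 7, 6]), (64, [7, 6,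 5, 4, 3, 1, 2, 0, 3, 2, 4, 3, 1, 5, 4, 3, 2, 0, 6, 5, 4, 3, 1, 2, 3, 4, 5, 7]), (67, [7, 6, 5, 4, 3, 1, 2, 0, 3, 2, 4, 3, 1, 5, 4, 3, 6, 7]), (70, [7, 6, 5, 4, 3, 1, 2, 0, 3, 2, 4, 3, 1, 5, 4, 3, 2, 0, 6, 7]), (71, [7, 6, 5, 4, 3, 1, 2, 0, 3, 2, 4, 3, 1, 5, 4, 3, 2, 6, 7]), (73, [7, 6, 5, 4, 3, 1, 2, 0, 3, 2, 4, 3, 5, 4, 6, 7]), (75, [7, 6, 5, 4, 3, 1, 2, 0, 3, 2, 4, 3, 1, 5, 4, 6, 7]), (81, [7, 6, 5, 4, 3, 1, 2, 0, 3, 2, 4, 5, 6, 7]), (82, []), (84, [7, 6, 5, 4, 3, 1, 2, 3, 4, 5, 6, 7]), (85, [7, 6, 5, 4, 3, 1, 2, 0, 3, 4, 5, 6, 7]), (89, [7, 6, 5, 4, 3, 1, 2, 0, 3, 2, 4, 3, 5, 6, 7]), (91, [7, 6, 5, 4, 3, 1, 2, 0, 3, 2, 4, 3, 1, 5, 6, 7]), (96, [7, 6, 5, 4, 3, 1, 2, 0, 3, 2, 4, 3, 1, 5, 4, 3, 2, 0, 6, 5, 4, 3, 1, 2, 3, 4, 7]), (99, [7,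 6, 5, 4, 3, 1, 2, 0, 3, 2, 4, 3, 1, 5, 4, 3, 6, 5, 7]), (102, [7, 6, 5, 4, 3, 1, 2, 0, 3, 2, 4, 3, 1, 5, 4, 3, 2, 0, 6, 5, 7]), (103, [7, 6, 5, 4, 3, 1, 2, 0, 3, 2, 4, 3, 1, 5, 4, 3, 2, 6, 5, 7]), (105, [7, 6, 5, 4, 3, 1, 2, 0, 3, 2, 4, 3, 5, 4, 6, 5, 7]), (107, [7, 6, 5, 4, 3, 1, 2, 0, 3, 2, 4, 3, 1, 5, 4, 6, 5, 7]), (112, [7, 6, 5, 4, 3, 1, 2, 0, 3, 2, 4, 3, 1, 5, 4, 3, 2, 0, 6, 5, 4, 3, 1, 2, 3, 7]), (115, [7, 6, 5, 4, 3, 1, 2, 0, 3, 2, 4, 3, 1, 5, 4, 3, 6, 5, 4, 7]), (118, [7, 6, 5, 4, 3, 1, 2, 0, 3, 2, 4, 3, 1, 5, 4, 3, 2, 0, 6, 5, 4, 7]), (119, [7, 6, 5, 4, 3, 1, 2, 0, 3, 2, 4, 3, 1, 5, 4, 3, 2, 6, 5, 4, 7]), (120, [7, 6, 5, 4, 3, 1, 2, 0, 3, 2, 4, 3, 1, 5, 4, 3, 2, 0, 6, 5, 4, 3, 1, 2, 7]), (122, [7, 6, 5, 4, 3, 1, 2, 0, 3, 2, 4, 3,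 1, 5, 4, 3, 2, 0, 6, 5, 4, 3, 2, 7]), (124, [7, 6, 5, 4, 3, 1, 2, 0, 3, 2, 4, 3, 1, 5, 4, 3, 2, 0, 6, 5, 4, 3, 1, 7]), (125, [7, 6, 5, 4, 3, 1, 2, 0, 3, 2, 4, 3, 1, 5, 4, 3, 2, 6, 5, 4, 3, 1, 7]), (126, [7, 6, 5, 4, 3, 1, 2, 0, 3, 2, 4, 3, 1, 5, 4, 3, 2, 0, 6, 5, 4, 3, 7]), (127, [7, 6, 5, 4, 3, 1, 2, 0, 3, 2, 4, 3, 1, 5, 4, 3, 2, 6, 5, 4, 3, 7]), (128, [7, 6, 5, 4, 3, 1, 2, 0, 3, 2, 4, 3, 1, 5, 4, 3, 2, 0, 6, 5, 4, 3, 1, 2, 3, 4, 5, 6]), (131, [7, 6, 5, 4, 3, 1, 2, 0, 3, 2, 4, 3, 1, 5, 4, 3]), (134, [7, 6, 5, 4, 3, 1, 2, 0, 3, 2, 4, 3, 1, 5, 4, 3, 2, 0]), (135, [7, 6, 5, 4, 3, 1, 2, 0, 3, 2, 4, 3, 1, 5, 4, 3, 2]), (137, [7, 6, 5, 4, 3, 1, 2, 0, 3, 2, 4, 3, 5, 4]), (139, [7, 6, 5, 4, 3, 1, 2, 0, 3, 2, 4, 3, 1, 5, 4]), (145, [7, 6, 5, 4, 3,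 1, 2, 0, 3, 2, 4, 5]), (146, [7, 6]), (148, [7, 6, 5, 4, 3, 1, 2, 3, 4, 5]), (149, [7, 6, 5, 4, 3, 1, 2, 0, 3, 4, 5]), (153, [7, 6, 5, 4, 3, 1, 2, 0, 3, 2, 4, 3, 5]), (155, [7, 6, 5, 4, 3, 1, 2, 0, 3, 2, 4, 3, 1, 5]), (161, [7, 6, 5, 4, 3, 1, 2, 0, 3, 2]), (162, [7, 6, 5, 4]), (164, [7, 6, 5, 4, 3, 1, 2, 3]), (165, [7, 6, 5, 4, 3, 1, 2, 0, 3]), (168, [7, 6, 5, 4, 3, 1]), (170, [7, 6, 5, 4, 3]), (172, [7, 6, 5, 4, 3, 1, 2]), (173, [7, 6, 5, 4, 3, 1, 2, 0]), (174, [7, 6, 5, 4, 3, 2]), (175, [7, 6, 5, 4, 3, 2, 0]), (177, [7, 6, 5, 4, 3, 1, 2, 0, 3, 2, 4]), (178, [7, 6, 5]), (180, [7, 6, 5, 4, 3, 1, 2, 3, 4]), (181, [7, 6, 5, 4, 3, 1, 2, 0, 3, 4]), (185, [7, 6, 5, 4, 3, 1, 2, 0, 3, 2, 4, 3]), (187, [7, 6, 5, 4, 3, 1, 2, 0, 3, 2, 4, 3, 1]), (192,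 [7, 6, 5, 4, 3, 1, 2, 0, 3, 2, 4, 3, 1, 5, 4, 3, 2, 0, 6, 5, 4, 3, 1, 2, 3, 4, 5]), (195, [7, 6, 5, 4, 3, 1, 2, 0, 3, 2, 4, 3, 1, 5, 4, 3, 6]), (198, [7, 6, 5, 4, 3, 1, 2, 0, 3, 2, 4, 3, 1, 5, 4, 3, 2, 0, 6]), (199, [7, 6, 5, 4, 3, 1, 2, 0, 3, 2, 4, 3, 1, 5, 4, 3, 2, 6]), (201, [7, 6, 5, 4, 3, 1, 2, 0, 3, 2, 4, 3, 5, 4, 6]), (203, [7, 6, 5, 4, 3, 1, 2, 0, 3, 2, 4, 3, 1, 5, 4, 6]), (209, [7, 6, 5, 4, 3, 1, 2, 0, 3, 2, 4, 5, 6]), (210, [7]), (212, [7, 6, 5, 4, 3, 1, 2, 3, 4, 5, 6]), (213, [7, 6, 5, 4, 3, 1, 2, 0, 3, 4, 5, 6]), (217, [7, 6, 5, 4, 3, 1, 2, 0, 3, 2, 4, 3, 5, 6]), (219, [7, 6, 5, 4, 3, 1, 2, 0, 3, 2, 4, 3, 1, 5, 6]), (224, [7, 6, 5, 4, 3, 1, 2, 0, 3, 2, 4, 3, 1, 5, 4, 3, 2, 0, 6, 5, 4, 3, 1, 2, 3, 4]), (227, [7, 6, 5, 4, 3, 1,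 2, 0, 3, 2, 4, 3, 1, 5, 4, 3, 6, 5]), (230, [7, 6, 5, 4, 3, 1, 2, 0, 3, 2, 4, 3, 1, 5, 4, 3, 2, 0, 6, 5]), (231, [7, 6, 5, 4, 3, 1, 2, 0, 3, 2, 4, 3, 1, 5, 4, 3, 2, 6, 5]), (233, [7, 6, 5, 4, 3, 1, 2, 0, 3, 2, 4, 3, 5, 4, 6, 5]), (235, [7, 6, 5, 4, 3, 1, 2, 0, 3, 2, 4, 3, 1, 5, 4, 6, 5]), (240, [7, 6, 5, 4, 3, 1, 2, 0, 3, 2, 4, 3, 1, 5, 4, 3, 2, 0, 6, 5, 4, 3, 1, 2, 3]), (243, [7, 6, 5, 4, 3, 1, 2, 0, 3, 2, 4, 3, 1, 5, 4, 3, 6, 5, 4]), (246, [7, 6, 5, 4, 3, 1, 2, 0, 3, 2, 4, 3, 1, 5, 4, 3, 2, 0, 6, 5, 4]), (247, [7, 6, 5, 4, 3, 1, 2, 0, 3, 2, 4, 3, 1, 5, 4, 3, 2, 6, 5, 4]), (248, [7, 6, 5, 4, 3, 1, 2, 0, 3, 2, 4, 3, 1, 5, 4, 3, 2, 0, 6, 5, 4, 3, 1, 2]), (250, [7, 6, 5, 4, 3, 1, 2, 0, 3, 2, 4, 3, 1, 5, 4, 3, 2, 0, 6, 5, 4, 3, 2]), (252, [7,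 6, 5, 4, 3, 1, 2, 0, 3, 2, 4, 3, 1, 5, 4, 3, 2, 0, 6, 5, 4, 3, 1]), (253, [7, 6, 5, 4, 3, 1, 2, 0, 3, 2, 4, 3, 1, 5, 4, 3, 2, 6, 5, 4, 3, 1]), (254, [7, 6, 5, 4, 3, 1, 2, 0, 3, 2, 4, 3, 1, 5, 4, 3, 2, 0, 6, 5, 4, 3]), (255, [7, 6, 5, 4, 3, 1, 2, 0, 3, 2, 4, 3, 1, 5, 4, 3, 2, 6, 5, 4, 3])]


theorem h8e8KP_eq : ∀ i < 8, ∀ r < 240,
    decide (h8K chevE8 (chevE8.simple i) r % 2 = 1) = (h8e8KP.getD i 0).testBit r := by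
  decide +kernel

/-- the parity of the character of the involution with mask `e` on the root `r` -/
def h8e8ParE (e r : ℕ) : Bool :=
  (List.range 8).foldr (fun i acc => (e.testBit i && (h8e8KP.getD i 0).testBit r) != acc) false

/-- the element `∏ h_{p_i}((-1)^{e_i})` of the torus of `E₈` -/
def h8e8Te (hB : H8Base.{u} chevE8) (e : ℕ) : GL chevE8.Idx F :=
  h8stdT chevE8 hB (fun i => (h8sgnB (e.testBit i) : F))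

theorem h8e8Te_mem (hB : H8Base.{u} chevE8) (e : ℕ) :
    (h8e8Te hB e : GL chevE8.Idx F) ∈ chevE8.diagonalSubgroup F :=
  h8stdT_mem chevE8 hB (h8scChk_all chevE8 h8e8_mem) _ (fun _ => h8sgnB_ne _)

theorem h8e8Te_conj (hB : H8Base.{u} chevE8) (e : ℕ) (r : ℕ) (hr : r < chevE8.nroots) (s : F) :
    h8e8Te hB e * h8xU chevE8 hB r s * (h8e8Te hB e)⁻¹ =
      h8xU chevE8 hB r (h8sgnB (h8e8ParE e r) * s) := by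
  have key : (List.range chevE8.rank).foldr (fun i acc =>
      (e.testBit i && decide (h8K chevE8 (chevE8.simple i) r % 2 = 1)) != acc) false =
      h8e8ParE e r := by
    unfold h8e8ParE
    have hl : List.range chevE8.rank = [0, 1, 2, 3, 4, 5, 6, 7] := by decide
    have hl' : List.range 8 = [0, 1, 2, 3, 4, 5, 6, 7] := by decide
    rw [hl, hl']
    simp only [List.foldr_cons, List.foldr_nil]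
    rw [h8e8KP_eq 0 (by decide) r hr, h8e8KP_eq 1 (by decide) r hr, h8e8KP_eq 2 (by decide) r hr,
      h8e8KP_eq 3 (by decide) r hr, h8e8KP_eq 4 (by decide) r hr, h8e8KP_eq 5 (by decide) r hr,
      h8e8KP_eq 6 (by decide) r hr, h8e8KP_eq 7 (by decide) r hr]
  unfold h8e8Te
  rw [h8stdT_conj chevE8 hB (h8scChk_all chevE8 h8e8_mem) _ (fun _ => h8sgnB_ne _) r hr s,
    h8stdChi_sgn, key]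

theorem h8e8_coef : ∀ v < chevE8.nroots, ∀ i < chevE8.rank, chevE8.cartan i v =
    ∑ j ∈ Finset.range chevE8.rank,
      ((chevE8.coroot.getD v #[]).getD j 0) * chevE8.cartan i (chevE8.simple j) := by
  decide +kernel

/-- an element of the torus of `E₈` is determined by its action on the simple root subgroups -/
theorem h8e8_H_ext8 (h h' : GL chevE8.Idx F) (hh : h ∈ chevE8.diagonalSubgroup F)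
    (hh' : h' ∈ chevE8.diagonalSubgroup F)
    (hact : ∀ j < 8, h * h8xU chevE8 (h8base_all.{u} chevE8 h8e8_mem) (chevE8.simple j) 1 * h⁻¹ =
      h' * h8xU chevE8 (h8base_all.{u} chevE8 h8e8_mem) (chevE8.simple j) (1 : F) * h'⁻¹) :
    h = h' := by
  have hB := h8base_all.{u} chevE8 h8e8_mem
  have hA := h8reflAll chevE8 h8e8_mem
  have hW := h8bn2_all chevE8 h8e8_mem
  have hsc := h8scChk_all chevE8 h8e8_mem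
  have hz : h'⁻¹ * h ∈ chevE8.diagonalSubgroup F :=
    Subgroup.mul_mem _ (Subgroup.inv_mem _ hh') hh
  have h1 := h8H_ext_simple chevE8 (h8base_all.{u} chevE8 h8e8_mem) hA hW hsc
    (fun v j => (chevE8.coroot.getD v #[]).getD j 0) h8e8_coef (h'⁻¹ * h) hz (by
      intro j hj
      apply h8chi_unique chevE8 _ hA hW _ hz _ (h8scChk_spec chevE8 hsc j hj).1
      have e : h'⁻¹ * h * h8xU chevE8 (h8base_all.{u} chevE8 h8e8_mem) (chevE8.simple j) 1 *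
          (h'⁻¹ * h)⁻¹ = h'⁻¹ * (h * h8xU chevE8 (h8base_all.{u} chevE8 h8e8_mem)
            (chevE8.simple j) 1 * h⁻¹) * h' := by group
      rw [e, hact j hj]
      group)
  calc h = h' * (h'⁻¹ * h) := by group
    _ = h' := by rw [h1, mul_one]

/-- the Boolean test that the word `w` conjugates the involution with mask `e` to the involution
with parity table `par` -/
def h8e8ConjChk (par : List Bool) (w : List ℕ) (e : ℕ) : Bool :=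
  (w.all fun i => decide (i < 8)) &&
  [162, 141, 135, 130, 126, 123, 121, 120].all fun r =>
    par.getD (h8e8sW w r) false == h8e8ParE e r

theorem h8e8_conj_Te (rep : ℕ) (par : List Bool)
    (hpar : ∀ r < 240, h8e8ParE rep r = par.getD r false)
    (w : List ℕ) (e : ℕ) (hchk : h8e8ConjChk par w e = true) :
    ∃ y ∈ chevE8.group F, y * h8e8Te (h8base_all.{u} chevE8 h8e8_mem) e * y⁻¹ =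
      (h8e8Te (h8base_all.{u} chevE8 h8e8_mem) rep : GL chevE8.Idx F) := by
  have hB := h8base_all.{u} chevE8 h8e8_mem
  have hA := h8reflAll chevE8 h8e8_mem
  have hBN := h8bn_all chevE8 h8e8_mem
  have hW := h8bn2_all chevE8 h8e8_mem
  obtain ⟨_, hO2⟩ := h8ord_all chevE8 h8e8_mem
  have hsc := h8scChk_all chevE8 h8e8_mem
  unfold h8e8ConjChk at hchk
  rw [Bool.and_eq_true, List.all_eq_true, List.all_eq_true] at hchk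
  obtain ⟨hw0, hchk⟩ := hchk
  have hw : ∀ i ∈ w, i < chevE8.rank := by
    intro i hi
    have := hw0 i hi
    rw [decide_eq_true_eq] at this
    exact this
  obtain ⟨dep, parr, horb⟩ := hBN.orb
  have hNperm := h8perm_N (F := F) chevE8 hB hA dep parr horb
  have hnN := h8nWU_mem_N (F := F) chevE8 hB hA w hw
  have ht := h8e8Te_mem (F := F) hB rep
  obtain ⟨hm, hact⟩ := h8conj_char chevE8 hB hA hBN _ ht _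
    (fun r hr s => h8e8Te_conj (F := F) hB rep r hr s) _ hnN (hNperm _ hnN)
  have hperm := h8permOf_nWU (F := F) chevE8 hB hA hBN hW hO2 w hw (hNperm _ hnN)
  refine ⟨h8nWU chevE8 hB w, h8_N_le_group chevE8 hB hnN, ?_⟩
  have key : h8e8Te hB e =
      (h8nWU chevE8 hB w : GL chevE8.Idx F)⁻¹ * h8e8Te hB rep * h8nWU chevE8 hB w := by
    apply h8e8_H_ext8 _ _ (h8e8Te_mem _ e) hm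
    intro j hj
    have hr : chevE8.simple j < chevE8.nroots := (h8scChk_spec chevE8 hsc j hj).1
    have h1 := hchk (chevE8.simple j) (by
      rw [h8e8_simple_val j hj]
      interval_cases j <;> simp)
    rw [beq_iff_eq] at h1
    rw [h8e8Te_conj _ e _ hr, hact ⟨_, hr⟩ 1, hperm, h8e8_wPerm_val hA w hw,
      hpar _ (h8e8sW_lt hA w hw _ hr), h1]
  rw [key]
  group

end Cfsg.Agent.Lib.helper8
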