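import Mathlib
import Cfsg.Prelude.Def_ChevStructure
import Cfsg.Prelude.Def_ChevE8
import Cfsg.Agent.Lib.helper8.ChevInvE8j

set_option autoImplicit false

namespace Cfsg.Agent.Lib.helper8

open Cfsg.Lie Cfsg.Lie.ChevalleyDatum

universe u

variable {F : Type u} [Field F]

theorem h8e8ParS_eq : ∀ r < 240, h8e8ParE 6 r = h8e8ParS.getD r false := by decide +kernel

theorem h8e8ParT_eq : ∀ r < 240, h8e8ParE 82 r = h8e8ParT.getD r false := by decide +kernel

theorem h8e8_conjS : h8e8OrbS.all (fun p => h8e8ConjChk h8e8ParS p.2 p.1) = true := by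
  decide +kernel

theorem h8e8_conjT : h8e8OrbT.all (fun p => h8e8ConjChk h8e8ParT p.2 p.1) = true := by
  decide +kernel

theorem h8e8_orbS : h8e8OrbChk h8e8ParS (h8e8OrbS.map fun p => p.2) = true := by decide +kernel

theorem h8e8_orbT : h8e8OrbChk h8e8ParT (h8e8OrbT.map fun p => p.2) = true := by decide +kernel

theorem h8e8_orb_cover : (List.range 256).all (fun e => e == 0 ||
    (h8e8OrbS.any fun p => p.1 == e) || (h8e8OrbT.any fun p => p.1 == e)) = true := by
  decide +kernel

theorem h8e8_orb_len : h8e8OrbS.length = 135 ∧ h8e8OrbT.length = 120 := by decide +kernel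

end Cfsg.Agent.Lib.helper8
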