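import Mathlib
import Cfsg.Prelude.Def_ChevStructure
import Cfsg.Prelude.Def_ChevF4
import Cfsg.Agent.Lib.helper8.ChevInvF4d

set_option autoImplicit false

namespace Cfsg.Agent.Lib.helper8

open Cfsg.Lie Cfsg.Lie.ChevalleyDatum

universe u

variable {F : Type u} [Field F]

set_option maxRecDepth 100000 in
theorem h8f4_histS : h8dense ((h8f4Words.filter (h8f4FixB h8f4ParS)).map (h8f4LenB h8f4ParS)) =
    h8pmulL ([2, 4, 6, 8].map h8ones) := by decide +kernel

set_option maxRecDepth 100000 in
theorem h8f4_histT : h8dense ((h8f4Words.filter (h8f4FixB h8f4ParT)).map (h8f4LenB h8f4ParT)) =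
    h8pmulL ([2, 2, 4, 6].map h8ones) := by decide +kernel

theorem h8card_toFinset_filter (L : List ℕ) (hL : L.Nodup) (p : ℕ → Bool) :
    Nat.card {r : ↥L.toFinset // p r.val = true} = (L.filter p).length := by
  classical
  rw [Nat.card_congr (Equiv.subtypeSubtypeEquivSubtypeInter (fun a : ℕ => a ∈ L.toFinset)
    (fun a : ℕ => p a = true)),
    Nat.subtype_card ((L.filter p).toFinset) (fun x => by
      rw [List.mem_toFinset, List.mem_filter, List.mem_toFinset]),
    List.toFinset_card_of_nodup (hL.filter _)]

theorem h8f4_posRoots : chevF4.posRoots = List.range' 24 24 := by decide +kernel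

theorem h8f4_Nchi (h2 : (2 : F) ≠ 0) (par : List Bool) :
    Nat.card {r : ↥chevF4.posRoots.toFinset // (h8f4Sgn par r.val : F) = 1} =
      ((List.range' 24 24).filter fun r => !par.getD r false).length := by
  rw [h8f4_posRoots]
  have e : ∀ r : ↥(List.range' 24 24).toFinset, (h8f4Sgn par r.val : F) = 1 ↔
      (!par.getD r.val false) = true := by
    intro r
    rw [h8f4Sgn_eq_one_iff h2]
    simp
  rw [Nat.card_congr (Equiv.subtypeEquivRight e)]
  exact h8card_toFinset_filter (List.range' 24 24) (List.nodup_range' (step := 1) (by omega))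
    (fun r => !par.getD r false)

end Cfsg.Agent.Lib.helper8
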