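import Mathlib
import Cfsg.Prelude.Def_ChevStructure
import Cfsg.Prelude.Def_ChevE8
import Cfsg.Agent.Lib.helper8.ChevInvE8k
import Cfsg.Agent.Lib.helper8.ChevInvF4e
import Cfsg.Agent.Lib.helper8.ChevH5
import Cfsg.Agent.Lib.helper8.ChevCommAll

set_option autoImplicit false

namespace Cfsg.Agent.Lib.helper8

open Cfsg.Lie Cfsg.Lie.ChevalleyDatum

universe u

variable {F : Type u} [Field F]

theorem h8e8_posRoots : chevE8.posRoots = List.range' 120 120 := by decide +kernel

theorem h8e8_Nchi (h2 : (2 : F) ≠ 0) (par : List Bool) :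
    Nat.card {r : ↥chevE8.posRoots.toFinset // (h8sgnB (par.getD r.val false) : F) = 1} =
      ((List.range' 120 120).filter fun r => !par.getD r false).length := by
  rw [h8e8_posRoots]
  have e : ∀ r : ↥(List.range' 120 120).toFinset,
      (h8sgnB (par.getD r.val false) : F) = 1 ↔ (!par.getD r.val false) = true := by
    intro r
    rw [h8sgnB_eq_one_iff h2]
    simp
  rw [Nat.card_congr (Equiv.subtypeEquivRight e)]
  exact h8card_toFinset_filter (List.range' 120 120) (List.nodup_range' (step := 1) (by omega))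
    (fun r => !par.getD r false)

/-- the order of the centralizer of the involution with mask `rep` in `E₈(q)`, `q` odd -/
theorem h8e8_cent_card [Fintype F] (h2 : (2 : F) ≠ 0) (rep : ℕ) (par : List Bool)
    (hpar : ∀ r < 240, h8e8ParE rep r = par.getD r false)
    (G : List (List ℕ)) (hG : h8e8GenChk G par = true)
    (Orb : List (List ℕ)) (hOrb : h8e8OrbChk par Orb = true)
    (N : ℕ) (hN : ((List.range' 120 120).filter fun r => !par.getD r false).length = N)
    (d1 d2 d3 d4 d5 d6 d7 d8 : ℕ)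
    (hsum : ∀ q : ℕ, ∑ π ∈ h8fin (Subgroup.closure
        (h8e8Sk (h8reflAll chevE8 h8e8_mem) G 8)),
        q ^ h8InvM (fun r : Fin chevE8.nroots => 120 ≤ r.val)
          (fun r : Fin chevE8.nroots => par.getD r.val false = false) π =
      h8pe (h8pmulL ([d1, d2, d3, d4, d5, d6, d7, d8].map h8ones)) q)
    (hnum : h8pe (h8pmulL ([d1, d2, d3, d4, d5, d6, d7, d8].map h8ones)) 1 * Orb.length =
      696729600) (hpos : 0 < Orb.length) :
    Nat.card {g : GL chevE8.Idx F // g ∈ chevE8.group F ∧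
      h8e8Te (h8base_all.{u} chevE8 h8e8_mem) rep * g *
        (h8e8Te (h8base_all.{u} chevE8 h8e8_mem) rep)⁻¹ = g} =
      Fintype.card F ^ N * ((Fintype.card F ^ d1 - 1) * ((Fintype.card F ^ d2 - 1) *
        ((Fintype.card F ^ d3 - 1) * ((Fintype.card F ^ d4 - 1) * ((Fintype.card F ^ d5 - 1) *
        ((Fintype.card F ^ d6 - 1) * ((Fintype.card F ^ d7 - 1) *
        (Fintype.card F ^ d8 - 1)))))))) := by
  have hB := h8base_all.{u} chevE8 h8e8_mem
  have hA := h8reflAll chevE8 h8e8_mem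
  have hC := h8commAll.{u} chevE8 h8e8_mem
  have hBN := h8bn_all chevE8 h8e8_mem
  have hW := h8bn2_all chevE8 h8e8_mem
  obtain ⟨hO, hO2⟩ := h8ord_all chevE8 h8e8_mem
  have hsc := h8scChk_all chevE8 h8e8_mem
  have ht := h8e8Te_mem (F := F) (h8base_all.{u} chevE8 h8e8_mem) rep
  have hχ : ∀ r < chevE8.nroots, ∀ s : F,
      h8e8Te (h8base_all.{u} chevE8 h8e8_mem) rep *
        h8xU chevE8 (h8base_all.{u} chevE8 h8e8_mem) r s *
        (h8e8Te (h8base_all.{u} chevE8 h8e8_mem) rep)⁻¹ =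
      h8xU chevE8 (h8base_all.{u} chevE8 h8e8_mem) r
        ((fun r => (h8sgnB (par.getD r false) : F)) r * s) := by
    intro r hr s
    rw [h8e8Te_conj _ rep r hr s, hpar r hr]
  have hq : 1 ≤ Fintype.card F := Fintype.card_pos
  rw [h8cen_card chevE8 hB hA hC hBN hW hO hO2 hsc _ ht _ hχ,
    h8cen_B_card chevE8 hB _ ht, h8cen_U_card chevE8 hB hC hO hO2 _ _ hχ, h8e8_Nchi h2 par, hN,
    h8H_card_E8, h8e8_sum_term h2 hA par,
    h8e8_stab_eq hA G par hG Orb hOrb _ (hsum 1) hnum hpos, hsum, h8pe_pmulL]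
  simp only [List.map_cons, List.map_nil, List.prod_cons, List.prod_nil, mul_one]
  rw [← h8pe_ones_mul d1 _ hq, ← h8pe_ones_mul d2 _ hq, ← h8pe_ones_mul d3 _ hq,
    ← h8pe_ones_mul d4 _ hq, ← h8pe_ones_mul d5 _ hq, ← h8pe_ones_mul d6 _ hq,
    ← h8pe_ones_mul d7 _ hq, ← h8pe_ones_mul d8 _ hq]
  ring

end Cfsg.Agent.Lib.helper8
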