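import Mathlib
import Cfsg.Prelude.Def_ChevStructure
import Cfsg.Prelude.Def_ChevE8
import Cfsg.Agent.Lib.helper8.ChevInvE8l

set_option autoImplicit false

namespace Cfsg.Agent.Lib.helper8

open Cfsg.Lie Cfsg.Lie.ChevalleyDatum

universe u

variable {F : Type u} [Field F]

theorem h8e8_numS : h8pe (h8pmulL ([2, 4, 6, 8, 10, 12, 14, 8].map h8ones)) 1 *
    (h8e8OrbS.map fun p => p.2).length = 696729600 := by decide +kernel

theorem h8e8_numT : h8pe (h8pmulL ([2, 6, 8, 10, 12, 14, 18, 2].map h8ones)) 1 *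
    (h8e8OrbT.map fun p => p.2).length = 696729600 := by decide +kernel

theorem h8e8_NS : ((List.range' 120 120).filter fun r => !h8e8ParS.getD r false).length = 56 := by
  decide +kernel

theorem h8e8_NT : ((List.range' 120 120).filter fun r => !h8e8ParT.getD r false).length = 64 := by
  decide +kernel

theorem h8e8_cent_s [Fintype F] (h2 : (2 : F) ≠ 0) :
    Nat.card {g : GL chevE8.Idx F // g ∈ chevE8.group F ∧
      h8e8Te (h8base_all.{u} chevE8 h8e8_mem) 6 * g *
        (h8e8Te (h8base_all.{u} chevE8 h8e8_mem) 6)⁻¹ = g} =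
      Fintype.card F ^ 56 * ((Fintype.card F ^ 2 - 1) * ((Fintype.card F ^ 4 - 1) *
        ((Fintype.card F ^ 6 - 1) * ((Fintype.card F ^ 8 - 1) * ((Fintype.card F ^ 10 - 1) *
        ((Fintype.card F ^ 12 - 1) * ((Fintype.card F ^ 14 - 1) *
        (Fintype.card F ^ 8 - 1)))))))) := by
  have hpos : 0 < (h8e8OrbS.map fun p => p.2).length := by
    rw [List.length_map, h8e8_orb_len.1]
    norm_num
  have hsum := fun q => (h8e8_chainS (h8reflAll chevE8 h8e8_mem) q).1
  refine h8e8_cent_card h2 6 h8e8ParS ?_ h8e8GS ?_ (h8e8OrbS.map fun p => p.2) ?_ 56 ?_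
    2 4 6 8 10 12 14 8 ?_ ?_ ?_
  · exact h8e8ParS_eq
  · exact h8e8GenChkS
  · exact h8e8_orbS
  · exact h8e8_NS
  · exact hsum
  · exact h8e8_numS
  · exact hpos

theorem h8e8_cent_t [Fintype F] (h2 : (2 : F) ≠ 0) :
    Nat.card {g : GL chevE8.Idx F // g ∈ chevE8.group F ∧
      h8e8Te (h8base_all.{u} chevE8 h8e8_mem) 82 * g *
        (h8e8Te (h8base_all.{u} chevE8 h8e8_mem) 82)⁻¹ = g} =
      Fintype.card F ^ 64 * ((Fintype.card F ^ 2 - 1) * ((Fintype.card F ^ 6 - 1) *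
        ((Fintype.card F ^ 8 - 1) * ((Fintype.card F ^ 10 - 1) * ((Fintype.card F ^ 12 - 1) *
        ((Fintype.card F ^ 14 - 1) * ((Fintype.card F ^ 18 - 1) *
        (Fintype.card F ^ 2 - 1)))))))) := by
  have hpos : 0 < (h8e8OrbT.map fun p => p.2).length := by
    rw [List.length_map, h8e8_orb_len.2]
    norm_num
  have hsum := fun q => (h8e8_chainT (h8reflAll chevE8 h8e8_mem) q).1
  refine h8e8_cent_card h2 82 h8e8ParT ?_ h8e8GT ?_ (h8e8OrbT.map fun p => p.2) ?_ 64 ?_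
    2 6 8 10 12 14 18 2 ?_ ?_ ?_
  · exact h8e8ParT_eq
  · exact h8e8GenChkT
  · exact h8e8_orbT
  · exact h8e8_NT
  · exact hsum
  · exact h8e8_numT
  · exact hpos

end Cfsg.Agent.Lib.helper8
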