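import Mathlib
import Cfsg.Prelude.Def_ChevStructure
import Cfsg.Agent.Lib.helper8.ChevInv3
import Cfsg.Agent.Lib.helper8.ChevTwP1

set_option autoImplicit false

namespace Cfsg.Agent.Lib.helper8

open Cfsg.Lie Cfsg.Lie.ChevalleyDatum Matrix

universe u

variable {F : Type u} [Field F]

/-- the `SL₂` identity behind the general conjugation trick -/
theorem h8iv_trick2 (a d x y : F) (ha : a ≠ 0) (hd : d ≠ 0) (hy : y ≠ 0)
    (hxy : d * (x ^ 2 - a * y ^ 2) = 1) :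
    h8ivU ((x - 1) / (d * y)) * h8ivL (d * y) * h8ivU ((d * x - 1) / (d * y)) =
      h8ivN d⁻¹ (inv_ne_zero hd) * h8ivN (-1 : F) (by simp) *
        (h8ivL (a⁻¹ * ((x - 1) / (d * y))) * h8ivU (a * (d * y)) *
          h8ivL (a⁻¹ * ((d * x - 1) / (d * y)))) := by
  apply Subtype.ext
  simp only [Matrix.SpecialLinearGroup.coe_mul, h8ivU_val, h8ivL_val, h8ivN_val]
  ext i j
  fin_cases i <;> fin_cases j
  · simp [Matrix.mul_apply, Fin.sum_univ_two]
    field_simp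
    ring
  · simp [Matrix.mul_apply, Fin.sum_univ_two]
    field_simp
    linear_combination hxy
  · simp [Matrix.mul_apply, Fin.sum_univ_two]
    field_simp
    left
    linear_combination (-1 : F) * hxy
  · simp [Matrix.mul_apply, Fin.sum_univ_two]
    field_simp
    ring

/-- the conjugation trick: an involution `n` swapping `X_c` and `X_{-c}` is conjugate, under the
image of `SL₂`, to `h_c(d⁻¹) n` for every `d` represented by the form `x² - a y²` with `y ≠ 0` -/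
theorem h8sl_trick (D : ChevalleyDatum) (hB : H8Base.{u} D) (c : ℕ)
    (φ : Matrix.SpecialLinearGroup (Fin 2) F →* GL D.Idx F)
    (hup : ∀ (g : Matrix.SpecialLinearGroup (Fin 2) F) (t : F),
      (g : Matrix (Fin 2) (Fin 2) F) = !![1, t; 0, 1] → φ g = h8xU D hB c t)
    (hlo : ∀ (g : Matrix.SpecialLinearGroup (Fin 2) F) (t : F),
      (g : Matrix (Fin 2) (Fin 2) F) = !![1, 0; t, 1] → φ g = h8xU D hB (D.negIdx.getD c 0) t)
    (n : GL D.Idx F) (hnn : n * n = 1) (a : F) (ha : a ≠ 0)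
    (hnL : ∀ t : F, n * h8xU D hB (D.negIdx.getD c 0) t * n⁻¹ = h8xU D hB c (a * t))
    (d x y : F) (hd : d ≠ 0) (hy : y ≠ 0) (hxy : d * (x ^ 2 - a * y ^ 2) = 1) :
    ∃ M : Matrix.SpecialLinearGroup (Fin 2) F,
      φ M * n * (φ M)⁻¹ = h8hU D hB c d⁻¹ * n := by
  have hninv : n⁻¹ = n := by rw [inv_eq_iff_mul_eq_one]; exact hnn
  have hnU : ∀ t : F, n * h8xU D hB c t * n⁻¹ = h8xU D hB (D.negIdx.getD c 0) (a⁻¹ * t) := by
    intro t
    have h1 := hnL (a⁻¹ * t)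
    rw [← mul_assoc, mul_inv_cancel₀ ha, one_mul] at h1
    rw [← h1, hninv]
    have : n * (n * h8xU D hB (D.negIdx.getD c 0) (a⁻¹ * t) * n) * n =
        (n * n) * h8xU D hB (D.negIdx.getD c 0) (a⁻¹ * t) * (n * n) := by group
    rw [this, hnn, one_mul, mul_one]
  have hU : ∀ t : F, n * φ (h8ivU t) * n⁻¹ = φ (h8ivL (a⁻¹ * t)) := by
    intro t
    rw [hup _ t (h8ivU_val t), hlo _ _ (h8ivL_val _), hnU]
  have hL : ∀ t : F, n * φ (h8ivL t) * n⁻¹ = φ (h8ivU (a * t)) := by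
    intro t
    rw [hlo _ t (h8ivL_val t), hup _ _ (h8ivU_val _), hnL]
  set M := h8ivU ((x - 1) / (d * y)) * h8ivL (d * y) * h8ivU ((d * x - 1) / (d * y)) with hM
  set M' := h8ivL (a⁻¹ * ((x - 1) / (d * y))) * h8ivU (a * (d * y)) *
    h8ivL (a⁻¹ * ((d * x - 1) / (d * y))) with hM'
  have h1 : n * φ M * n⁻¹ = φ M' := by
    rw [hM, hM', map_mul, map_mul, map_mul, map_mul, ← hU, ← hL, ← hU]
    group
  have h2 : φ M = h8hU D hB c d⁻¹ * φ M' := by
    rw [hM, h8iv_trick2 a d x y ha hd hy hxy, map_mul, map_mul,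
      h8inv_phiN D hB c φ hup hlo d⁻¹ (inv_ne_zero hd),
      h8inv_phiN D hB c φ hup hlo (-1) (by simp)]
    have e : h8hU D hB c d⁻¹ = h8nU D hB c d⁻¹ * h8nU D hB c (-1) := by
      unfold h8hU ChevalleyDatum.hWord
      rw [h8wordU_append]
      rfl
    rw [e]
  refine ⟨M, ?_⟩
  have h3 : φ M * n * (φ M)⁻¹ = φ M * (n * φ M * n⁻¹)⁻¹ * n := by
    rw [hninv]
    have : (n * φ M * n)⁻¹ = n⁻¹ * (φ M)⁻¹ * n⁻¹ := by group
    rw [this, hninv]
    have : φ M * (n * (φ M)⁻¹ * n) * n = φ M * n * (φ M)⁻¹ * (n * n) := by group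
    rw [this, hnn, mul_one]
  rw [h3, h1, h2]
  group

end Cfsg.Agent.Lib.helper8
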