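import Mathlib
import Cfsg.Prelude.Def_ChevStructure
import Cfsg.Agent.Lib.helper8.ChevInvF4h
import Cfsg.Agent.Lib.helper8.ChevInvG2i
import Cfsg.Agent.Lib.helper8.ChevTw1
import Cfsg.Agent.Lib.helper8.ChevBNAll2
import Cfsg.Agent.Lib.helper8.ChevOrdAll
import Cfsg.Agent.Lib.helper8.ChevOrbAll

set_option autoImplicit false

namespace Cfsg.Agent.Lib.helper8

open Cfsg.Lie Cfsg.Lie.ChevalleyDatum

universe u

variable {F : Type u} [Field F]

/-- the element is conjugate in the group to an element of the torus -/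
def H8ConjH (D : ChevalleyDatum) (n : GL D.Idx F) : Prop :=
  ∃ y ∈ D.group F, y * n * y⁻¹ ∈ D.diagonalSubgroup F

theorem h8conjH_of_conj (D : ChevalleyDatum) (n n' y : GL D.Idx F) (hy : y ∈ D.group F)
    (e : y * n * y⁻¹ = n') (h : H8ConjH D n') : H8ConjH D n := by
  obtain ⟨z, hz, hm⟩ := h
  refine ⟨z * y, Subgroup.mul_mem _ hz hy, ?_⟩
  have : z * y * n * (z * y)⁻¹ = z * (y * n * y⁻¹) * z⁻¹ := by group
  rw [this, e]
  exact hm

/-- the jump: an involution of `N` which acts on `X_{-p}`, `p` simple, through a square is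
conjugate to an involution of `N` of smaller length -/
theorem h8inv_jump_step (D : ChevalleyDatum)
    (hD : D ∈ [chevG2, chevB2, chevD4, chevF4, chevE6, chevE7, chevE8]) (h2 : (2 : F) ≠ 0)
    (hB : H8Base.{u} D) (hA : H8ReflAll D) (hBN : H8BN D) (hW : H8BN2 D) (hO2 : H8Ord2 D)
    (n : ↥(D.monomialSubgroup F)) (hnn : n.val * n.val = 1) (i : ℕ) (hi : i < D.rank)
    (b : F) (hb : b ≠ 0)
    (hconj : ∀ s : F, n.val * h8xU D hB (D.negIdx.getD (D.simple i) 0) s * n.val⁻¹ =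
      h8xU D hB (D.simple i) (b ^ 2 * s))
    (hneg : ¬ D.IsPosRoot ((h8Pi D hB hA hBN hW hO2 n) (h8simF D hBN ⟨i, hi⟩)).val) :
    ∃ n' : ↥(D.monomialSubgroup F), n'.val * n'.val = 1 ∧
      (∃ y ∈ D.group F, y * n.val * y⁻¹ = n'.val) ∧
      h8Ninv D (h8Pi D hB hA hBN hW hO2 n') + 1 = h8Ninv D (h8Pi D hB hA hBN hW hO2 n) := by
  have hlt : D.simple i < D.nroots := (h8simple_pos D hBN i hi).1
  obtain ⟨h1, y, hy, hyn⟩ := h8inv_jump D hD h2 n.val hnn (D.simple i) hlt b hb hconj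
  have hmem : h8nU D hB (D.simple i) b ∈ D.monomialSubgroup F := h8nU_mem_N' D hB _ hlt b hb
  have e1 : (n * ⟨h8nU D hB (D.simple i) b, hmem⟩ : ↥(D.monomialSubgroup F)).val =
      n.val * h8nU D hB (D.simple i) b := rfl
  refine ⟨n * ⟨h8nU D hB (D.simple i) b, hmem⟩, ?_, ⟨y, hy, ?_⟩, ?_⟩
  · rw [e1]
    exact h1
  · rw [e1]
    exact hyn
  · rw [map_mul, h8Pi_nU D hB hA hBN hW hO2 _ hlt b hb, h8Pi_simple D hB hA hBN hW hO2 i hi]
    exact h8Ninv_mul_simple D (h8base_all.{0} D hD) hA hBN hW hO2 _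
      (h8Pi_mem_W D hB hA hBN hW hO2 n) ⟨i, hi⟩ hneg

/-- solving `d (x² - a y²) = 1` in a finite field of odd order -/
theorem h8quad_solve [Fintype F] (hodd : Fintype.card F % 2 = 1) (a d : F) (ha : a ≠ 0)
    (hd : d ≠ 0) : ∃ x y : F, d * (x ^ 2 - a * y ^ 2) = 1 := by
  classical
  have hf2 : (Polynomial.X ^ 2 - Polynomial.C d⁻¹ : Polynomial F).degree = 2 :=
    Polynomial.degree_X_pow_sub_C (by norm_num) _
  have hg2 : (Polynomial.C (-a) * Polynomial.X ^ 2 : Polynomial F).degree = 2 :=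
    Polynomial.degree_C_mul_X_pow 2 (neg_ne_zero.mpr ha)
  obtain ⟨x, y, hxy⟩ := FiniteField.exists_root_sum_quadratic hf2 hg2 hodd
  refine ⟨x, y, ?_⟩
  simp only [Polynomial.eval_sub, Polynomial.eval_pow, Polynomial.eval_X, Polynomial.eval_C,
    Polynomial.eval_mul] at hxy
  have h1 : x ^ 2 - a * y ^ 2 = d⁻¹ := by linear_combination hxy
  rw [h1, mul_inv_cancel₀ hd]

/-- the trick followed by the jump: if an involution `n` of `N` inverts the simple roots `p_i` and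
`p_j`, where `⟨p_i, p_j^∨⟩ = -1`, then `n` is conjugate to an involution of `N` of smaller length -/
theorem h8inv_trick_step [Fintype F] (hodd : Fintype.card F % 2 = 1) (D : ChevalleyDatum)
    (hD : D ∈ [chevG2, chevB2, chevD4, chevF4, chevE6, chevE7, chevE8]) (h2 : (2 : F) ≠ 0)
    (hB : H8Base.{u} D) (hA : H8ReflAll D) (hBN : H8BN D) (hW : H8BN2 D) (hO2 : H8Ord2 D)
    (n : ↥(D.monomialSubgroup F)) (hnn : n.val * n.val = 1) (i j : ℕ) (hi : i < D.rank)
    (hj : j < D.rank) (hK : h8K D (D.simple j) (D.simple i) = -1)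
    (a a' : F) (ha : a ≠ 0) (ha' : a' ≠ 0)
    (hci : ∀ s : F, n.val * h8xU D hB (D.negIdx.getD (D.simple i) 0) s * n.val⁻¹ =
      h8xU D hB (D.simple i) (a' * s))
    (hcj : ∀ s : F, n.val * h8xU D hB (D.negIdx.getD (D.simple j) 0) s * n.val⁻¹ =
      h8xU D hB (D.simple j) (a * s))
    (hneg : ¬ D.IsPosRoot ((h8Pi D hB hA hBN hW hO2 n) (h8simF D hBN ⟨i, hi⟩)).val) :
    ∃ n' : ↥(D.monomialSubgroup F), n'.val * n'.val = 1 ∧
      (∃ y ∈ D.group F, y * n.val * y⁻¹ = n'.val) ∧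
      h8Ninv D (h8Pi D hB hA hBN hW hO2 n') + 1 = h8Ninv D (h8Pi D hB hA hBN hW hO2 n) := by
  have hlti : D.simple i < D.nroots := (h8simple_pos D hBN i hi).1
  have hltj : D.simple j < D.nroots := (h8simple_pos D hBN j hj).1
  by_cases hsq : IsSquare a'
  · obtain ⟨b, hb⟩ := hsq
    have hb0 : b ≠ 0 := by
      rintro rfl
      rw [mul_zero] at hb
      exact ha' hb
    refine h8inv_jump_step D hD h2 hB hA hBN hW hO2 n hnn i hi b hb0 ?_ hneg
    intro s
    rw [hci s, hb, pow_two]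
  · obtain ⟨x, y, hxy⟩ := h8quad_solve hodd a a' ha ha'
    have hy : y ≠ 0 := by
      rintro rfl
      apply hsq
      refine ⟨x⁻¹, ?_⟩
      have hx : x ≠ 0 := by
        rintro rfl
        simp at hxy
      have h1 : a' * x ^ 2 = 1 := by linear_combination hxy
      field_simp
      linear_combination h1
    have hsc := h8scChk_all D hD
    have hc2 := h8cartan_simple D hD
    obtain ⟨dep, par, horb⟩ := h8orb_chk_all D hD
    obtain ⟨φ, hKφ, hup, hlo⟩ := h8slHom_all (F := F) D hB hA hsc hc2 dep par horb (D.simple j) hltj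
    obtain ⟨M, hM⟩ := h8sl_trick D hB (D.simple j) φ hup hlo n.val hnn a ha hcj a' x y ha' hy hxy
    have hMG : φ M ∈ D.group F := hKφ (D.group F) (fun t => h8xU_mem_group D hB _ t)
      (fun t => h8xU_mem_group D hB _ t) M
    have hhH : h8hU D hB (D.simple j) a'⁻¹ ∈ D.diagonalSubgroup F :=
      h8hU_mem_H D hB _ hltj _ (inv_ne_zero ha')
    set n2 : ↥(D.monomialSubgroup F) := ⟨h8hU D hB (D.simple j) a'⁻¹, h8H_le_N D hhH⟩ * n with hn2
    have en2 : n2.val = h8hU D hB (D.simple j) a'⁻¹ * n.val := rfl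
    have hnn2 : n2.val * n2.val = 1 := by
      rw [en2, ← hM]
      have : φ M * n.val * (φ M)⁻¹ * (φ M * n.val * (φ M)⁻¹) =
          φ M * (n.val * n.val) * (φ M)⁻¹ := by group
      rw [this, hnn]
      group
    have hPi2 : h8Pi D hB hA hBN hW hO2 n2 = h8Pi D hB hA hBN hW hO2 n := by
      rw [hn2, map_mul, h8Pi_H D hB hA hBN hW hO2 _ hhH, one_mul]
    have hneglt : D.negIdx.getD (D.simple i) 0 < D.nroots := hW.neglt _ hlti
    have hci2 : ∀ s : F, n2.val * h8xU D hB (D.negIdx.getD (D.simple i) 0) s * n2.val⁻¹ =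
        h8xU D hB (D.simple i) (a' ^ 2 * s) := by
      intro s
      rw [en2]
      have : h8hU D hB (D.simple j) a'⁻¹ * n.val * h8xU D hB (D.negIdx.getD (D.simple i) 0) s *
          (h8hU D hB (D.simple j) a'⁻¹ * n.val)⁻¹ =
          h8hU D hB (D.simple j) a'⁻¹ *
            (n.val * h8xU D hB (D.negIdx.getD (D.simple i) 0) s * n.val⁻¹) *
            (h8hU D hB (D.simple j) a'⁻¹)⁻¹ := by group
      rw [this, hci s, h8hU_conj D hB _ _ hltj hlti _ (inv_ne_zero ha'), hK]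
      congr 1
      rw [zpow_neg, zpow_one, inv_inv]
      ring
    rw [← hPi2] at hneg ⊢
    obtain ⟨n3, h3, ⟨y3, hy3, e3⟩, hlen⟩ :=
      h8inv_jump_step D hD h2 hB hA hBN hW hO2 n2 hnn2 i hi a' ha' hci2 hneg
    refine ⟨n3, h3, ⟨y3 * φ M, Subgroup.mul_mem _ hy3 hMG, ?_⟩, hlen⟩
    rw [← e3, en2, ← hM]
    group

end Cfsg.Agent.Lib.helper8
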