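import Mathlib
import Cfsg.Prelude.Def_ChevStructure
import Cfsg.Prelude.Def_ChevF4
import Cfsg.Agent.Lib.helper8.ChevInvF4d
import Cfsg.Agent.Lib.helper8.ChevInvF4i
import Cfsg.Agent.Lib.helper8.ChevTw7
import Cfsg.Agent.Lib.helper8.ChevCox3

set_option autoImplicit false

namespace Cfsg.Agent.Lib.helper8

open Cfsg.Lie Cfsg.Lie.ChevalleyDatum

universe u

variable {F : Type u} [Field F]

/-- the length of a word of `W(F₄)`, computed on the packed tables -/
def h8f4Len (w : List ℕ) : ℕ :=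
  ((List.range 48).filter fun r => decide (24 ≤ r ∧ ¬ 24 ≤ h8f4sW w r)).length

theorem h8f4_Ninv (hA : H8ReflAll chevF4) (w : List ℕ) (hw : ∀ i ∈ w, i < chevF4.rank) :
    h8Ninv chevF4 (h8wPerm chevF4 hA w) = h8f4Len w := by
  classical
  unfold h8Ninv
  have hlt : ∀ r : Fin chevF4.nroots, h8f4sW w r.val < 48 := by
    intro r
    rw [← h8f4_wPerm_val hA w hw r]
    exact (h8wPerm chevF4 hA w r).2
  have e : (Finset.univ.filter fun r : Fin chevF4.nroots =>
      chevF4.IsPosRoot r.val ∧ ¬ chevF4.IsPosRoot ((h8wPerm chevF4 hA w) r).val) =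
      Finset.univ.filter fun r : Fin chevF4.nroots => 24 ≤ r.val ∧ ¬ 24 ≤ h8f4sW w r.val := by
    apply Finset.filter_congr
    intro r _
    rw [h8f4_wPerm_val hA w hw r]
    have h1 := h8f4_pos_iff r.val r.2
    have h3 := h8f4_pos_iff (h8f4sW w r.val) (hlt r)
    rw [decide_eq_decide] at h1 h3
    rw [h1, h3]
  rw [e]
  exact h8card_fin_filter chevF4.nroots (fun r => 24 ≤ r ∧ ¬ 24 ≤ h8f4sW w r)

/-- is the word an involution? -/
def h8f4InvB (w : List ℕ) : Bool :=
  (List.range 48).all fun r => h8f4sW w (h8f4sW w r) == r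

/-- does conjugation by some simple reflection shorten the word? -/
def h8f4DescB (w : List ℕ) : Bool :=
  (List.range 4).any fun i => decide (h8f4Len (i :: w ++ [i]) < h8f4Len w)

/-- the involutions of `W(F₄)` which cannot be shortened by conjugation with a simple reflection:
the longest elements of the parabolic subgroups in which they are central -/
def h8f4MinWords : List (List ℕ) :=
  [[], [0], [1], [2], [3], [2, 0], [3, 0], [3, 1], [2, 1, 2, 1], [2, 1, 2, 0, 1, 2, 0, 1, 0],
    [3, 2, 1, 2, 3, 2, 1, 2, 1],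
    [3, 2, 1, 2, 0, 1, 2, 3, 2, 1, 2, 0, 1, 2, 3, 2, 1, 2, 0, 1, 2, 0, 1, 0]]

set_option maxRecDepth 100000 in
theorem h8f4_classify :
    h8f4Words.all (fun w => !h8f4InvB w || h8f4DescB w || h8f4MinWords.contains w) = true := by
  decide +kernel

theorem h8f4_classify' (w : List ℕ) (hw : w ∈ h8f4Words) (hinv : h8f4InvB w = true) :
    (∃ i < 4, h8f4Len (i :: w ++ [i]) < h8f4Len w) ∨ w ∈ h8f4MinWords := by
  have h := h8f4_classify
  rw [List.all_eq_true] at h
  have h1 := h w hw
  rw [hinv] at h1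
  simp only [Bool.not_true, Bool.false_or, Bool.or_eq_true] at h1
  rcases h1 with h1 | h1
  · left
    unfold h8f4DescB at h1
    rw [List.any_eq_true] at h1
    obtain ⟨i, hi, h2⟩ := h1
    exact ⟨i, List.mem_range.mp hi, of_decide_eq_true h2⟩
  · right
    exact List.contains_iff_mem.mp h1

/-- an involution of `W(F₄)` given by a word passes the Boolean test -/
theorem h8f4_invB (hA : H8ReflAll chevF4) (w : List ℕ) (hw : ∀ i ∈ w, i < chevF4.rank)
    (hsq : h8wPerm chevF4 hA w * h8wPerm chevF4 hA w = 1) : h8f4InvB w = true := by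
  unfold h8f4InvB
  rw [List.all_eq_true]
  intro r hr
  have hr' : r < chevF4.nroots := List.mem_range.mp hr
  have h1 := congrArg (fun π : Equiv.Perm (Fin chevF4.nroots) => (π ⟨r, hr'⟩).val) hsq
  simp only [Equiv.Perm.mul_apply, Equiv.Perm.one_apply] at h1
  rw [h8f4_wPerm_val hA w hw, h8f4_wPerm_val hA w hw] at h1
  rw [beq_iff_eq]
  exact h1

/-- conjugating an involution of `N` by the lift of a simple reflection -/
theorem h8inv_desc_step (D : ChevalleyDatum) (hB : H8Base.{u} D) (hA : H8ReflAll D) (hBN : H8BN D)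
    (hW : H8BN2 D) (hO2 : H8Ord2 D) (n : ↥(D.monomialSubgroup F)) (hnn : n.val * n.val = 1)
    (w : List ℕ) (hπ : h8Pi D hB hA hBN hW hO2 n = h8wPerm D hA w) (i : ℕ) (hi : i < D.rank) :
    ∃ n' : ↥(D.monomialSubgroup F), n'.val * n'.val = 1 ∧
      (∃ y ∈ D.group F, y * n.val * y⁻¹ = n'.val) ∧
      h8Pi D hB hA hBN hW hO2 n' = h8wPerm D hA (i :: w ++ [i]) := by
  have hlt : D.simple i < D.nroots := (h8simple_pos D hBN i hi).1
  have hmem : h8nU D hB (D.simple i) (1 : F) ∈ D.monomialSubgroup F := h8nU_mem_N D hB _ hlt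
  set m : ↥(D.monomialSubgroup F) := ⟨h8nU D hB (D.simple i) (1 : F), hmem⟩ with hm
  refine ⟨m * n * m⁻¹, ?_, ⟨m.val, h8_N_le_group D hB hmem, rfl⟩, ?_⟩
  · have e : (m * n * m⁻¹).val = m.val * n.val * m.val⁻¹ := rfl
    rw [e]
    have : m.val * n.val * m.val⁻¹ * (m.val * n.val * m.val⁻¹) =
        m.val * (n.val * n.val) * m.val⁻¹ := by group
    rw [this, hnn]
    group
  · rw [map_mul, map_mul, map_inv, hπ, hm, h8Pi_simple D hB hA hBN hW hO2 i hi,
      h8sPerm_inv, List.cons_append, h8wPerm_cons', h8wPerm_append, h8wPerm_single, mul_assoc]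

end Cfsg.Agent.Lib.helper8
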