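import Mathlib
import Cfsg.Prelude.Def_ChevStructure
import Cfsg.Prelude.Def_ChevF4
import Cfsg.Agent.Lib.helper8.ChevInvF4g
import Cfsg.Agent.Lib.helper8.ChevInvF4j

set_option autoImplicit false

namespace Cfsg.Agent.Lib.helper8

open Cfsg.Lie Cfsg.Lie.ChevalleyDatum

universe u

variable {F : Type u} [Field F]

theorem h8ttChi_ne (D : ChevalleyDatum) (L : List (ℕ × F)) (hL : ∀ p ∈ L, p.2 ≠ 0) (r : ℕ) :
    h8ttChi D L r ≠ 0 := by
  unfold h8ttChi
  apply List.prod_ne_zero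
  intro h0
  rw [List.mem_map] at h0
  obtain ⟨p, hp, e⟩ := h0
  exact zpow_ne_zero _ (hL p hp) e

theorem h8ttChi_add (D : ChevalleyDatum) (L : List (ℕ × F)) (hL : ∀ p ∈ L, p.2 ≠ 0)
    (r s t : ℕ) (h : ∀ p ∈ L, h8K D p.1 t = h8K D p.1 r + h8K D p.1 s) :
    h8ttChi D L t = h8ttChi D L r * h8ttChi D L s := by
  induction L with
  | nil => simp [h8ttChi]
  | cons p L ih =>
    have e : ∀ x, h8ttChi D (p :: L) x = p.2 ^ (h8K D p.1 x) * h8ttChi D L x := by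
      intro x
      unfold h8ttChi
      rw [List.map_cons, List.prod_cons]
    rw [e, e, e, ih (fun q hq => hL q (List.mem_cons_of_mem _ hq))
      (fun q hq => h q (List.mem_cons_of_mem _ hq)), h p List.mem_cons_self,
      zpow_add₀ (hL p List.mem_cons_self)]
    ring

theorem h8stdChi_ne (D : ChevalleyDatum) (c : ℕ → F) (hc : ∀ i, c i ≠ 0) (r : ℕ) :
    h8stdChi D c r ≠ 0 := by
  unfold h8stdChi
  apply h8ttChi_ne
  intro p hp
  rw [List.mem_map] at hp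
  obtain ⟨i, _, rfl⟩ := hp
  exact hc i

theorem h8stdChi_add (D : ChevalleyDatum) (c : ℕ → F) (hc : ∀ i, c i ≠ 0) (r s t : ℕ)
    (h : ∀ i < D.rank, h8K D (D.simple i) t = h8K D (D.simple i) r + h8K D (D.simple i) s) :
    h8stdChi D c t = h8stdChi D c r * h8stdChi D c s := by
  unfold h8stdChi
  apply h8ttChi_add
  · intro p hp
    rw [List.mem_map] at hp
    obtain ⟨i, _, rfl⟩ := hp
    exact hc i
  · intro p hp
    rw [List.mem_map] at hp
    obtain ⟨i, hi, rfl⟩ := hp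
    exact h i (List.mem_range.mp hi)

/-- the data for the square criterion at a simple root `p_i` negated by the word `w`, using the
auxiliary root `r` -/
def h8f4OrthB (w : List ℕ) (i r : ℕ) : Bool :=
  decide (i < 4) && decide (r < 48) &&
  decide (h8f4sW w (chevF4.negIdx.getD (chevF4.simple i) 0) = chevF4.simple i) &&
  decide (h8f4sW w (chevF4.simple i) < 24) &&
  decide (h8f4sW w (h8f4sW w r) = r) &&
  ((List.range 4).all fun k => decide (h8K chevF4 (chevF4.simple k) (h8f4sW w r) =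
    h8K chevF4 (chevF4.simple k) r + h8K chevF4 (chevF4.simple k) (chevF4.simple i))) &&
  decide (h8f4Eps w r * h8f4Eps w (h8f4sW w r) *
    h8f4Eps w (chevF4.negIdx.getD (chevF4.simple i) 0) = 1) &&
  decide (h8f4Eps w (chevF4.negIdx.getD (chevF4.simple i) 0) *
    h8f4Eps w (chevF4.negIdx.getD (chevF4.simple i) 0) = 1)

theorem h8f4_neg_of_lt (hA : H8ReflAll chevF4) (hBN : H8BN chevF4) (w : List ℕ)
    (hw : ∀ i ∈ w, i < chevF4.rank) (i : ℕ) (hi : i < chevF4.rank)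
    (h : h8f4sW w (chevF4.simple i) < 24) :
    ¬ chevF4.IsPosRoot ((h8wPerm chevF4 hA w) (h8simF chevF4 hBN ⟨i, hi⟩)).val := by
  rw [h8f4_wPerm_val hA w hw]
  show ¬ chevF4.IsPosRoot (h8f4sW w (chevF4.simple i))
  have h1 := h8f4_pos_iff (h8f4sW w (chevF4.simple i)) (by omega)
  rw [decide_eq_decide] at h1
  rw [h1]
  omega

/-- the step at a minimal involution with an orthogonal set of negated simple roots -/
theorem h8f4_orth_step (h2 : (2 : F) ≠ 0) (hA : H8ReflAll chevF4) (hBN : H8BN chevF4)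
    (hW : H8BN2 chevF4) (hO2 : H8Ord2 chevF4) (n : ↥(chevF4.monomialSubgroup F))
    (hnn : n.val * n.val = 1) (w : List ℕ) (hw : ∀ i ∈ w, i < chevF4.rank)
    (hπ : h8Pi chevF4 (h8base_all.{u} chevF4 h8f4_mem) hA hBN hW hO2 n = h8wPerm chevF4 hA w)
    (i r : ℕ) (hchk : h8f4OrthB w i r = true) :
    ∃ n' : ↥(chevF4.monomialSubgroup F), n'.val * n'.val = 1 ∧
      (∃ y ∈ chevF4.group F, y * n.val * y⁻¹ = n'.val) ∧
      h8Ninv chevF4 (h8Pi chevF4 (h8base_all.{u} chevF4 h8f4_mem) hA hBN hW hO2 n') + 1 =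
        h8Ninv chevF4 (h8Pi chevF4 (h8base_all.{u} chevF4 h8f4_mem) hA hBN hW hO2 n) := by
  unfold h8f4OrthB at hchk
  simp only [Bool.and_eq_true, decide_eq_true_eq, List.all_eq_true, List.mem_range] at hchk
  obtain ⟨⟨⟨⟨⟨⟨⟨hi, hr⟩, hnp⟩, hlt⟩, hwr⟩, hadd⟩, hE⟩, he3⟩ := hchk
  have hB := h8base_all.{u} chevF4 h8f4_mem
  have hsc := h8scChk_all chevF4 h8f4_mem
  obtain ⟨c, hc, en⟩ := h8std_N_param chevF4 (h8base_all.{u} chevF4 h8f4_mem) hA hBN hW hO2 hsc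
    n w hw hπ
  have hltp : chevF4.simple i < chevF4.nroots := (h8simple_pos chevF4 hBN i hi).1
  have hltnp : chevF4.negIdx.getD (chevF4.simple i) 0 < chevF4.nroots := hW.neglt _ hltp
  have hnn' := hnn
  rw [en] at hnn'
  have hrel := h8f4_inv_rel (h8base_all.{u} chevF4 h8f4_mem) hA hW c hc w hw hnn' r hr hwr
  rw [h8stdChi_add chevF4 c hc r (chevF4.simple i) (h8f4sW w r) hadd] at hrel
  have hX := h8stdChi_ne chevF4 c hc r
  have hEF : ((h8f4Eps w r : ℤ) : F) * ((h8f4Eps w (h8f4sW w r) : ℤ) : F) *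
      ((h8f4Eps w (chevF4.negIdx.getD (chevF4.simple i) 0) : ℤ) : F) = 1 := by
    have := congrArg (fun z : ℤ => (z : F)) hE
    simpa using this
  have he3F : ((h8f4Eps w (chevF4.negIdx.getD (chevF4.simple i) 0) : ℤ) : F) *
      ((h8f4Eps w (chevF4.negIdx.getD (chevF4.simple i) 0) : ℤ) : F) = 1 := by
    have := congrArg (fun z : ℤ => (z : F)) he3
    simpa using this
  have hsq : (h8stdChi chevF4 c r)⁻¹ ^ 2 = h8stdChi chevF4 c (chevF4.simple i) *
      ((h8f4Eps w (chevF4.negIdx.getD (chevF4.simple i) 0) : ℤ) : F) := by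
    have h3 : h8stdChi chevF4 c r ^ 2 * (h8stdChi chevF4 c (chevF4.simple i) *
        ((h8f4Eps w (chevF4.negIdx.getD (chevF4.simple i) 0) : ℤ) : F)) = 1 := by
      linear_combination
        (((h8f4Eps w (chevF4.negIdx.getD (chevF4.simple i) 0) : ℤ) : F)) ^ 2 * hrel -
        h8stdChi chevF4 c r ^ 2 * h8stdChi chevF4 c (chevF4.simple i) *
          ((h8f4Eps w (chevF4.negIdx.getD (chevF4.simple i) 0) : ℤ) : F) * hEF + he3F
    rw [inv_pow]
    exact (eq_inv_of_mul_eq_one_right h3).symm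
  refine h8inv_jump_step chevF4 h8f4_mem h2 (h8base_all.{u} chevF4 h8f4_mem) hA hBN hW hO2 n hnn i
    hi (h8stdChi chevF4 c r)⁻¹ (inv_ne_zero hX) ?_ ?_
  · intro s
    rw [en, h8f4_N_conj (h8base_all.{u} chevF4 h8f4_mem) hA c hc w hw _ hltnp, hnp, hsq]
    congr 1
    ring
  · rw [hπ]
    exact h8f4_neg_of_lt hA hBN w hw i hi hlt

/-- the data for the trick at the simple root `p_j` followed by the jump at `p_i` -/
def h8f4TrickB (w : List ℕ) (i j : ℕ) : Bool :=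
  decide (i < 4) && decide (j < 4) &&
  decide (h8f4sW w (chevF4.negIdx.getD (chevF4.simple i) 0) = chevF4.simple i) &&
  decide (h8f4sW w (chevF4.negIdx.getD (chevF4.simple j) 0) = chevF4.simple j) &&
  decide (h8f4sW w (chevF4.simple i) < 24) &&
  decide (h8K chevF4 (chevF4.simple j) (chevF4.simple i) = -1) &&
  decide (h8f4Eps w (chevF4.negIdx.getD (chevF4.simple i) 0) *
    h8f4Eps w (chevF4.negIdx.getD (chevF4.simple i) 0) = 1) &&
  decide (h8f4Eps w (chevF4.negIdx.getD (chevF4.simple j) 0) *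
    h8f4Eps w (chevF4.negIdx.getD (chevF4.simple j) 0) = 1)

/-- the step at a minimal involution negating two adjacent simple roots -/
theorem h8f4_trick_step [Fintype F] (hodd : Fintype.card F % 2 = 1) (h2 : (2 : F) ≠ 0)
    (hA : H8ReflAll chevF4) (hBN : H8BN chevF4)
    (hW : H8BN2 chevF4) (hO2 : H8Ord2 chevF4) (n : ↥(chevF4.monomialSubgroup F))
    (hnn : n.val * n.val = 1) (w : List ℕ) (hw : ∀ i ∈ w, i < chevF4.rank)
    (hπ : h8Pi chevF4 (h8base_all.{u} chevF4 h8f4_mem) hA hBN hW hO2 n = h8wPerm chevF4 hA w)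
    (i j : ℕ) (hchk : h8f4TrickB w i j = true) :
    ∃ n' : ↥(chevF4.monomialSubgroup F), n'.val * n'.val = 1 ∧
      (∃ y ∈ chevF4.group F, y * n.val * y⁻¹ = n'.val) ∧
      h8Ninv chevF4 (h8Pi chevF4 (h8base_all.{u} chevF4 h8f4_mem) hA hBN hW hO2 n') + 1 =
        h8Ninv chevF4 (h8Pi chevF4 (h8base_all.{u} chevF4 h8f4_mem) hA hBN hW hO2 n) := by
  unfold h8f4TrickB at hchk
  simp only [Bool.and_eq_true, decide_eq_true_eq] at hchk
  obtain ⟨⟨⟨⟨⟨⟨⟨hi, hj⟩, hnpi⟩, hnpj⟩, hlt⟩, hK⟩, hei⟩, hej⟩ := hchk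
  have hsc := h8scChk_all chevF4 h8f4_mem
  obtain ⟨c, hc, en⟩ := h8std_N_param chevF4 (h8base_all.{u} chevF4 h8f4_mem) hA hBN hW hO2 hsc
    n w hw hπ
  have hltpi : chevF4.simple i < chevF4.nroots := (h8simple_pos chevF4 hBN i hi).1
  have hltnpi : chevF4.negIdx.getD (chevF4.simple i) 0 < chevF4.nroots := hW.neglt _ hltpi
  have hltpj : chevF4.simple j < chevF4.nroots := (h8simple_pos chevF4 hBN j hj).1
  have hltnpj : chevF4.negIdx.getD (chevF4.simple j) 0 < chevF4.nroots := hW.neglt _ hltpj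
  have heiF : ((h8f4Eps w (chevF4.negIdx.getD (chevF4.simple i) 0) : ℤ) : F) ≠ 0 := by
    intro h0
    have := congrArg (fun z : ℤ => (z : F)) hei
    simp only [Int.cast_mul, h0, mul_zero, Int.cast_one] at this
    exact zero_ne_one this
  have hejF : ((h8f4Eps w (chevF4.negIdx.getD (chevF4.simple j) 0) : ℤ) : F) ≠ 0 := by
    intro h0
    have := congrArg (fun z : ℤ => (z : F)) hej
    simp only [Int.cast_mul, h0, mul_zero, Int.cast_one] at this
    exact zero_ne_one this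
  refine h8inv_trick_step hodd chevF4 h8f4_mem h2 (h8base_all.{u} chevF4 h8f4_mem) hA hBN hW hO2 n
    hnn i j hi hj hK
    (h8stdChi chevF4 c (chevF4.simple j) *
      ((h8f4Eps w (chevF4.negIdx.getD (chevF4.simple j) 0) : ℤ) : F))
    (h8stdChi chevF4 c (chevF4.simple i) *
      ((h8f4Eps w (chevF4.negIdx.getD (chevF4.simple i) 0) : ℤ) : F))
    (mul_ne_zero (h8stdChi_ne chevF4 c hc _) hejF) (mul_ne_zero (h8stdChi_ne chevF4 c hc _) heiF)
    ?_ ?_ ?_
  · intro s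
    rw [en, h8f4_N_conj (h8base_all.{u} chevF4 h8f4_mem) hA c hc w hw _ hltnpi, hnpi, mul_assoc]
  · intro s
    rw [en, h8f4_N_conj (h8base_all.{u} chevF4 h8f4_mem) hA c hc w hw _ hltnpj, hnpj, mul_assoc]
  · rw [hπ]
    exact h8f4_neg_of_lt hA hBN w hw i hi hlt

theorem h8f4_orth_chk : h8f4OrthB [0] 0 27 = true ∧ h8f4OrthB [1] 1 33 = true ∧
    h8f4OrthB [2] 2 24 = true ∧ h8f4OrthB [3] 3 25 = true ∧ h8f4OrthB [2, 0] 2 24 = true ∧
    h8f4OrthB [3, 0] 0 27 = true ∧ h8f4OrthB [3, 1] 1 33 = true := by decide +kernel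

theorem h8f4_trick_chk : h8f4TrickB [2, 1, 2, 1] 1 2 = true ∧
    h8f4TrickB [2, 1, 2, 0, 1, 2, 0, 1, 0] 0 1 = true ∧
    h8f4TrickB [3, 2, 1, 2, 3, 2, 1, 2, 1] 3 2 = true ∧
    h8f4TrickB [3, 2, 1, 2, 0, 1, 2, 3, 2, 1, 2, 0, 1, 2, 3, 2, 1, 2, 0, 1, 2, 0, 1, 0] 0 1 = true := by
  decide +kernel

/-- the step at a nontrivial minimal involution -/
theorem h8f4_min_step [Fintype F] (hodd : Fintype.card F % 2 = 1) (h2 : (2 : F) ≠ 0)
    (hA : H8ReflAll chevF4) (hBN : H8BN chevF4)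
    (hW : H8BN2 chevF4) (hO2 : H8Ord2 chevF4) (n : ↥(chevF4.monomialSubgroup F))
    (hnn : n.val * n.val = 1) (w : List ℕ) (hw : ∀ i ∈ w, i < chevF4.rank)
    (hπ : h8Pi chevF4 (h8base_all.{u} chevF4 h8f4_mem) hA hBN hW hO2 n = h8wPerm chevF4 hA w)
    (hmin : w ∈ h8f4MinWords) (hne : w ≠ []) :
    ∃ n' : ↥(chevF4.monomialSubgroup F), n'.val * n'.val = 1 ∧
      (∃ y ∈ chevF4.group F, y * n.val * y⁻¹ = n'.val) ∧
      h8Ninv chevF4 (h8Pi chevF4 (h8base_all.{u} chevF4 h8f4_mem) hA hBN hW hO2 n') + 1 =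
        h8Ninv chevF4 (h8Pi chevF4 (h8base_all.{u} chevF4 h8f4_mem) hA hBN hW hO2 n) := by
  obtain ⟨o1, o2, o3, o4, o5, o6, o7⟩ := h8f4_orth_chk
  obtain ⟨t1, t2, t3, t4⟩ := h8f4_trick_chk
  unfold h8f4MinWords at hmin
  simp only [List.mem_cons, List.not_mem_nil, or_false] at hmin
  rcases hmin with rfl | rfl | rfl | rfl | rfl | rfl | rfl | rfl | rfl | rfl | rfl | rfl
  · exact absurd rfl hne
  · exact h8f4_orth_step h2 hA hBN hW hO2 n hnn _ hw hπ _ _ o1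
  · exact h8f4_orth_step h2 hA hBN hW hO2 n hnn _ hw hπ _ _ o2
  · exact h8f4_orth_step h2 hA hBN hW hO2 n hnn _ hw hπ _ _ o3
  · exact h8f4_orth_step h2 hA hBN hW hO2 n hnn _ hw hπ _ _ o4
  · exact h8f4_orth_step h2 hA hBN hW hO2 n hnn _ hw hπ _ _ o5
  · exact h8f4_orth_step h2 hA hBN hW hO2 n hnn _ hw hπ _ _ o6
  · exact h8f4_orth_step h2 hA hBN hW hO2 n hnn _ hw hπ _ _ o7
  · exact h8f4_trick_step hodd h2 hA hBN hW hO2 n hnn _ hw hπ _ _ t1
  · exact h8f4_trick_step hodd h2 hA hBN hW hO2 n hnn _ hw hπ _ _ t2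
  · exact h8f4_trick_step hodd h2 hA hBN hW hO2 n hnn _ hw hπ _ _ t3
  · exact h8f4_trick_step hodd h2 hA hBN hW hO2 n hnn _ hw hπ _ _ t4

end Cfsg.Agent.Lib.helper8
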