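import Mathlib
import Cfsg.Prelude.Def_ChevStructure
import Cfsg.Prelude.Def_ChevE8
import Cfsg.Agent.Lib.helper8.ChevInvE8b
import Cfsg.Agent.Lib.helper8.ChevInvF4k
import Cfsg.Agent.Lib.helper8.ChevTabNE8
import Cfsg.Agent.Lib.helper8.ChevReflDataE8

set_option autoImplicit false

namespace Cfsg.Agent.Lib.helper8

open Cfsg.Lie Cfsg.Lie.ChevalleyDatum

universe u

variable {F : Type u} [Field F]

/-- the sign by which the standard lift of the word `w` acts on the root subgroup `X_r` -/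
def h8e8Eps : List ℕ → ℕ → ℤ
  | [], _ => 1
  | i :: w, r => (h8eta_E8 i).getD (h8e8sW w r) 0 * h8e8Eps w r

theorem h8e8_n_conj (hB : H8Base.{u} chevE8) (i : ℕ) (hi : i < chevE8.rank) (s : ℕ)
    (hs : s < chevE8.nroots) (t : F) :
    h8nU chevE8 hB (chevE8.simple i) (1 : F) * h8xU chevE8 hB s t *
      (h8nU chevE8 hB (chevE8.simple i) (1 : F))⁻¹ =
      h8xU chevE8 hB (chevE8.reflectRoot i s) ((((h8eta_E8 i).getD s 0 : ℤ) : F) * t) := by
  rw [mul_inv_eq_iff_eq_mul]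
  apply Units.ext
  rw [Units.val_mul, Units.val_mul, h8nU_val, h8xU_val, h8xU_val]
  have hr : chevE8.rank = 8 := rfl
  rw [hr] at hi
  interval_cases i
  · exact h8n_simple_conj chevE8 0 (by decide) (h8eta_E8 0) (h8n_E8 0 (by decide)).1
      (h8n_E8 0 (by decide)).2 h8ceChk_E8 h8CAchk_E8 h8reflChk_E8_0 s hs t
  · exact h8n_simple_conj chevE8 1 (by decide) (h8eta_E8 1) (h8n_E8 1 (by decide)).1
      (h8n_E8 1 (by decide)).2 h8ceChk_E8 h8CAchk_E8 h8reflChk_E8_1 s hs t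
  · exact h8n_simple_conj chevE8 2 (by decide) (h8eta_E8 2) (h8n_E8 2 (by decide)).1
      (h8n_E8 2 (by decide)).2 h8ceChk_E8 h8CAchk_E8 h8reflChk_E8_2 s hs t
  · exact h8n_simple_conj chevE8 3 (by decide) (h8eta_E8 3) (h8n_E8 3 (by decide)).1
      (h8n_E8 3 (by decide)).2 h8ceChk_E8 h8CAchk_E8 h8reflChk_E8_3 s hs t
  · exact h8n_simple_conj chevE8 4 (by decide) (h8eta_E8 4) (h8n_E8 4 (by decide)).1
      (h8n_E8 4 (by decide)).2 h8ceChk_E8 h8CAchk_E8 h8reflChk_E8_4 s hs t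
  · exact h8n_simple_conj chevE8 5 (by decide) (h8eta_E8 5) (h8n_E8 5 (by decide)).1
      (h8n_E8 5 (by decide)).2 h8ceChk_E8 h8CAchk_E8 h8reflChk_E8_5 s hs t
  · exact h8n_simple_conj chevE8 6 (by decide) (h8eta_E8 6) (h8n_E8 6 (by decide)).1
      (h8n_E8 6 (by decide)).2 h8ceChk_E8 h8CAchk_E8 h8reflChk_E8_6 s hs t
  · exact h8n_simple_conj chevE8 7 (by decide) (h8eta_E8 7) (h8n_E8 7 (by decide)).1
      (h8n_E8 7 (by decide)).2 h8ceChk_E8 h8CAchk_E8 h8reflChk_E8_7 s hs t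

theorem h8e8_nW_conj (hB : H8Base.{u} chevE8) (hA : H8ReflAll chevE8) (w : List ℕ)
    (hw : ∀ i ∈ w, i < chevE8.rank) (r : ℕ) (hr : r < chevE8.nroots) (t : F) :
    (h8nWU chevE8 hB w : GL chevE8.Idx F) * h8xU chevE8 hB r t * (h8nWU chevE8 hB w)⁻¹ =
      h8xU chevE8 hB (h8e8sW w r) (((h8e8Eps w r : ℤ) : F) * t) := by
  induction w generalizing t with
  | nil =>
    show (1 : GL chevE8.Idx F) * h8xU chevE8 hB r t * 1⁻¹ = h8xU chevE8 hB r (((1 : ℤ) : F) * t)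
    rw [one_mul, inv_one, mul_one, Int.cast_one, one_mul]
  | cons i w ih =>
    have hw' : ∀ j ∈ w, j < chevE8.rank := fun j hj => hw j (List.mem_cons_of_mem _ hj)
    have hi := hw i List.mem_cons_self
    rw [h8nWU_cons]
    have e : h8nU chevE8 hB (chevE8.simple i) 1 * h8nWU chevE8 hB w * h8xU chevE8 hB r t *
        (h8nU chevE8 hB (chevE8.simple i) 1 * h8nWU chevE8 hB w)⁻¹ =
        h8nU chevE8 hB (chevE8.simple i) 1 *
          (h8nWU chevE8 hB w * h8xU chevE8 hB r t * (h8nWU chevE8 hB w)⁻¹) *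
          (h8nU chevE8 hB (chevE8.simple i) (1 : F))⁻¹ := by group
    have hlt : h8e8sW w r < chevE8.nroots := h8e8sW_lt hA w hw' r hr
    rw [e, ih hw', h8e8_n_conj hB i hi _ hlt]
    have e2 : chevE8.reflectRoot i (h8e8sW w r) = h8e8sW (i :: w) r := by
      rw [h8e8sW_eq hA w hw' r hr, h8e8sW_eq hA (i :: w) hw r hr]
      rfl
    rw [e2]
    congr 1
    show _ = (((h8eta_E8 i).getD (h8e8sW w r) 0 * h8e8Eps w r : ℤ) : F) * t
    push_cast
    ring

/-- conjugation of a root element by an element of `N` in standard form -/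
theorem h8e8_N_conj (hB : H8Base.{u} chevE8) (hA : H8ReflAll chevE8) (c : ℕ → F)
    (hc : ∀ i, c i ≠ 0) (w : List ℕ) (hw : ∀ i ∈ w, i < chevE8.rank) (r : ℕ)
    (hr : r < chevE8.nroots) (t : F) :
    (h8stdT chevE8 hB c * h8nWU chevE8 hB w) * h8xU chevE8 hB r t *
      (h8stdT chevE8 hB c * h8nWU chevE8 hB w)⁻¹ =
      h8xU chevE8 hB (h8e8sW w r)
        (h8stdChi chevE8 c (h8e8sW w r) * (((h8e8Eps w r : ℤ) : F) * t)) := by
  have e : (h8stdT chevE8 hB c * h8nWU chevE8 hB w) * h8xU chevE8 hB r t *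
      (h8stdT chevE8 hB c * h8nWU chevE8 hB w)⁻¹ =
      h8stdT chevE8 hB c * (h8nWU chevE8 hB w * h8xU chevE8 hB r t * (h8nWU chevE8 hB w)⁻¹) *
        (h8stdT chevE8 hB c)⁻¹ := by group
  have hlt : h8e8sW w r < chevE8.nroots := h8e8sW_lt hA w hw r hr
  rw [e, h8e8_nW_conj hB hA w hw r hr,
    h8stdT_conj chevE8 hB (h8scChk_all chevE8 h8e8_mem) c hc _ hlt]

/-- the relation satisfied by the parameters of an involution of `N` -/
theorem h8e8_inv_rel (hB : H8Base.{u} chevE8) (hA : H8ReflAll chevE8) (hW : H8BN2 chevE8)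
    (c : ℕ → F) (hc : ∀ i, c i ≠ 0) (w : List ℕ) (hw : ∀ i ∈ w, i < chevE8.rank)
    (hnn : (h8stdT chevE8 hB c * h8nWU chevE8 hB w) * (h8stdT chevE8 hB c * h8nWU chevE8 hB w) = 1)
    (r : ℕ) (hr : r < chevE8.nroots) (hwr : h8e8sW w (h8e8sW w r) = r) :
    h8stdChi chevE8 c r * (((h8e8Eps w (h8e8sW w r) : ℤ) : F) *
      (h8stdChi chevE8 c (h8e8sW w r) * (((h8e8Eps w r : ℤ) : F) * 1))) = 1 := by
  set n := h8stdT chevE8 hB c * h8nWU chevE8 hB w with hn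
  have hninv : n⁻¹ = n := by rw [inv_eq_iff_mul_eq_one]; exact hnn
  have e1 : n * (n * h8xU chevE8 hB r 1 * n⁻¹) * n⁻¹ = h8xU chevE8 hB r (1 : F) := by
    rw [hninv]
    have : n * (n * h8xU chevE8 hB r 1 * n) * n = (n * n) * h8xU chevE8 hB r 1 * (n * n) := by
      group
    rw [this, hnn, one_mul, mul_one]
  have hlt : h8e8sW w r < chevE8.nroots := h8e8sW_lt hA w hw r hr
  rw [h8e8_N_conj hB hA c hc w hw r hr, h8e8_N_conj hB hA c hc w hw _ hlt, hwr] at e1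
  exact h8xU_inj_t chevE8 hB hA hW r hr _ _ e1

end Cfsg.Agent.Lib.helper8
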