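import Mathlib
import Cfsg.Prelude.Def_ChevStructure
import Cfsg.Prelude.Def_ChevE8
import Cfsg.Agent.Lib.helper8.ChevInvE8o
import Cfsg.Agent.Lib.helper8.ChevInvE8n

set_option autoImplicit false

namespace Cfsg.Agent.Lib.helper8

open Cfsg.Lie Cfsg.Lie.ChevalleyDatum

universe u

variable {F : Type u} [Field F]

/-- the data for the square criterion at a simple root `p_i` negated by the word `w`, using the
auxiliary root `r` -/
def h8e8OrthB (w : List ℕ) (i r : ℕ) : Bool :=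
  decide (i < 8) && decide (r < 240) &&
  decide (h8e8sW w (chevE8.negIdx.getD (chevE8.simple i) 0) = chevE8.simple i) &&
  decide (h8e8sW w (chevE8.simple i) < 120) &&
  decide (h8e8sW w (h8e8sW w r) = r) &&
  ((List.range 8).all fun k => decide (h8K chevE8 (chevE8.simple k) (h8e8sW w r) =
    h8K chevE8 (chevE8.simple k) r + h8K chevE8 (chevE8.simple k) (chevE8.simple i))) &&
  decide (h8e8Eps w r * h8e8Eps w (h8e8sW w r) *
    h8e8Eps w (chevE8.negIdx.getD (chevE8.simple i) 0) = 1) &&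
  decide (h8e8Eps w (chevE8.negIdx.getD (chevE8.simple i) 0) *
    h8e8Eps w (chevE8.negIdx.getD (chevE8.simple i) 0) = 1)

theorem h8e8_neg_of_lt (hA : H8ReflAll chevE8) (hBN : H8BN chevE8) (w : List ℕ)
    (hw : ∀ i ∈ w, i < chevE8.rank) (i : ℕ) (hi : i < chevE8.rank)
    (h : h8e8sW w (chevE8.simple i) < 120) :
    ¬ chevE8.IsPosRoot ((h8wPerm chevE8 hA w) (h8simF chevE8 hBN ⟨i, hi⟩)).val := by
  rw [h8e8_wPerm_val hA w hw]
  show ¬ chevE8.IsPosRoot (h8e8sW w (chevE8.simple i))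
  rw [h8e8_pos_iff' _ (by omega)]
  omega

/-- the step at a minimal involution with an orthogonal set of negated simple roots -/
theorem h8e8_orth_step (h2 : (2 : F) ≠ 0) (hA : H8ReflAll chevE8) (hBN : H8BN chevE8)
    (hW : H8BN2 chevE8) (hO2 : H8Ord2 chevE8) (n : ↥(chevE8.monomialSubgroup F))
    (hnn : n.val * n.val = 1) (w : List ℕ) (hw : ∀ i ∈ w, i < chevE8.rank)
    (hπ : h8Pi chevE8 (h8base_all.{u} chevE8 h8e8_mem) hA hBN hW hO2 n = h8wPerm chevE8 hA w)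
    (i r : ℕ) (hchk : h8e8OrthB w i r = true) :
    ∃ n' : ↥(chevE8.monomialSubgroup F), n'.val * n'.val = 1 ∧
      (∃ y ∈ chevE8.group F, y * n.val * y⁻¹ = n'.val) ∧
      h8Ninv chevE8 (h8Pi chevE8 (h8base_all.{u} chevE8 h8e8_mem) hA hBN hW hO2 n') + 1 =
        h8Ninv chevE8 (h8Pi chevE8 (h8base_all.{u} chevE8 h8e8_mem) hA hBN hW hO2 n) := by
  unfold h8e8OrthB at hchk
  simp only [Bool.and_eq_true, decide_eq_true_eq, List.all_eq_true, List.mem_range] at hchk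
  obtain ⟨⟨⟨⟨⟨⟨⟨hi, hr⟩, hnp⟩, hlt⟩, hwr⟩, hadd⟩, hE⟩, he3⟩ := hchk
  have hB := h8base_all.{u} chevE8 h8e8_mem
  have hsc := h8scChk_all chevE8 h8e8_mem
  obtain ⟨c, hc, en⟩ := h8std_N_param chevE8 (h8base_all.{u} chevE8 h8e8_mem) hA hBN hW hO2 hsc
    n w hw hπ
  have hltp : chevE8.simple i < chevE8.nroots := (h8simple_pos chevE8 hBN i hi).1
  have hltnp : chevE8.negIdx.getD (chevE8.simple i) 0 < chevE8.nroots := hW.neglt _ hltp
  have hnn' := hnn
  rw [en] at hnn'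
  have hrel := h8e8_inv_rel (h8base_all.{u} chevE8 h8e8_mem) hA hW c hc w hw hnn' r hr hwr
  rw [h8stdChi_add chevE8 c hc r (chevE8.simple i) (h8e8sW w r) hadd] at hrel
  have hX := h8stdChi_ne chevE8 c hc r
  have hEF : ((h8e8Eps w r : ℤ) : F) * ((h8e8Eps w (h8e8sW w r) : ℤ) : F) *
      ((h8e8Eps w (chevE8.negIdx.getD (chevE8.simple i) 0) : ℤ) : F) = 1 := by
    have := congrArg (fun z : ℤ => (z : F)) hE
    simpa using this
  have he3F : ((h8e8Eps w (chevE8.negIdx.getD (chevE8.simple i) 0) : ℤ) : F) *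
      ((h8e8Eps w (chevE8.negIdx.getD (chevE8.simple i) 0) : ℤ) : F) = 1 := by
    have := congrArg (fun z : ℤ => (z : F)) he3
    simpa using this
  have hsq : (h8stdChi chevE8 c r)⁻¹ ^ 2 = h8stdChi chevE8 c (chevE8.simple i) *
      ((h8e8Eps w (chevE8.negIdx.getD (chevE8.simple i) 0) : ℤ) : F) := by
    have h3 : h8stdChi chevE8 c r ^ 2 * (h8stdChi chevE8 c (chevE8.simple i) *
        ((h8e8Eps w (chevE8.negIdx.getD (chevE8.simple i) 0) : ℤ) : F)) = 1 := by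
      linear_combination
        (((h8e8Eps w (chevE8.negIdx.getD (chevE8.simple i) 0) : ℤ) : F)) ^ 2 * hrel -
        h8stdChi chevE8 c r ^ 2 * h8stdChi chevE8 c (chevE8.simple i) *
          ((h8e8Eps w (chevE8.negIdx.getD (chevE8.simple i) 0) : ℤ) : F) * hEF + he3F
    rw [inv_pow]
    exact (eq_inv_of_mul_eq_one_right h3).symm
  refine h8inv_jump_step chevE8 h8e8_mem h2 (h8base_all.{u} chevE8 h8e8_mem) hA hBN hW hO2 n hnn i
    hi (h8stdChi chevE8 c r)⁻¹ (inv_ne_zero hX) ?_ ?_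
  · intro s
    rw [en, h8e8_N_conj (h8base_all.{u} chevE8 h8e8_mem) hA c hc w hw _ hltnp, hnp, hsq,
      mul_assoc]
  · rw [hπ]
    exact h8e8_neg_of_lt hA hBN w hw i hi hlt

/-- the word of a set of simple reflections given by a mask, in decreasing order -/
def h8e8WordOfMask (m : ℕ) : List ℕ := ((List.range 8).filter fun i => m.testBit i).reverse

/-- the mask describes a set of pairwise orthogonal simple roots -/
def h8e8IndepB (m : ℕ) : Bool :=
  (List.range 8).all fun i => (List.range 8).all fun j =>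
    !(m.testBit i && m.testBit j) ||
      decide (h8K chevE8 (chevE8.simple j) (chevE8.simple i) ≠ -1)

def h8e8OrthTab : List (ℕ × ℕ) := [(8, 0), (0, 135), (1, 130), (0, 135), (2, 162), (8, 0), (2, 162), (8, 0), (3, 141), (3, 141), (8, 0), (8, 0), (8, 0), (8, 0), (8, 0), (8, 0), (4, 130), (0, 135), (4, 123), (0, 135), (2, 162), (8, 0), (2, 162), (8, 0), (8, 0), (8, 0), (8, 0), (8, 0), (8, 0), (8, 0), (8, 0), (8, 0), (5, 126), (0, 135), (1, 130), (0, 135), (2, 162), (8, 0), (2, 162), (8, 0), (3, 141), (3, 141), (8, 0), (8, 0), (8, 0), (8, 0), (8, 0), (8, 0), (8, 0), (8, 0), (8, 0), (8, 0), (8, 0), (8, 0), (8, 0), (8, 0), (8, 0), (8, 0), (8, 0), (8, 0), (8, 0), (8, 0), (8, 0), (8, 0), (6, 123), (0, 135), (1, 130), (0, 135), (2, 162), (8, 0), (2, 162), (8, 0), (3, 141), (3, 141), (8, 0), (8, 0), (8, 0), (8, 0), (8, 0), (8, 0), (4, 130), (0, 135), (6, 120), (0, 135), (2, 162), (8, 0), (2, 162), (8, 0), (8,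 0), (8, 0), (8, 0), (8, 0), (8, 0), (8, 0), (8, 0), (8, 0), (8, 0), (8, 0), (8, 0), (8, 0), (8, 0), (8, 0), (8, 0), (8, 0), (8, 0), (8, 0), (8, 0), (8, 0), (8, 0), (8, 0), (8, 0), (8, 0), (8, 0), (8, 0), (8, 0), (8, 0), (8, 0), (8, 0), (8, 0), (8, 0), (8, 0), (8, 0), (8, 0), (8, 0), (8, 0), (8, 0), (8, 0), (8, 0), (7, 121), (0, 135), (1, 130), (0, 135), (2, 162), (8, 0), (2, 162), (8, 0), (3, 141), (3, 141), (8, 0), (8, 0), (8, 0), (8, 0), (8, 0), (8, 0), (4, 130), (0, 135), (4, 123), (0, 135), (2, 162), (8, 0), (2, 162), (8, 0), (8, 0), (8, 0), (8, 0), (8, 0), (8, 0), (8, 0), (8, 0), (8, 0), (5, 126), (0, 135), (1, 130), (0, 135), (2, 162), (8, 0), (2, 162), (8, 0), (3, 141), (3, 141), (8, 0), (8, 0), (8, 0), (8, 0), (8, 0), (8, 0), (8, 0), (8, 0), (8, 0), (8, 0), (8, 0), (8, 0), (8, 0), (8, 0), (8, 0), (8, 0), (8, 0), (8, 0), (8, 0), (8, 0), (8, 0), (8, 0), (8, 0), (8, 0), (8, 0), (8, 0), (8, 0), (8, 0),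 (8, 0), (8, 0), (8, 0), (8, 0), (8, 0), (8, 0), (8, 0), (8, 0), (8, 0), (8, 0), (8, 0), (8, 0), (8, 0), (8, 0), (8, 0), (8, 0), (8, 0), (8, 0), (8, 0), (8, 0), (8, 0), (8, 0), (8, 0), (8, 0), (8, 0), (8, 0), (8, 0), (8, 0), (8, 0), (8, 0), (8, 0), (8, 0), (8, 0), (8, 0), (8, 0), (8, 0), (8, 0), (8, 0), (8, 0), (8, 0), (8, 0), (8, 0), (8, 0), (8, 0), (8, 0), (8, 0), (8, 0), (8, 0), (8, 0), (8, 0), (8, 0), (8, 0), (8, 0), (8, 0), (8, 0), (8, 0), (8, 0), (8, 0)]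

theorem h8e8_orth_tab : (List.range 256).all (fun m => m == 0 || !h8e8IndepB m ||
    h8e8OrthB (h8e8WordOfMask m) (h8e8OrthTab.getD m (0, 0)).1
      (h8e8OrthTab.getD m (0, 0)).2) = true := by decide +kernel

end Cfsg.Agent.Lib.helper8
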