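import Mathlib
import Cfsg.Prelude.Def_ChevStructure
import Cfsg.Prelude.Def_ChevE8
import Cfsg.Agent.Lib.helper8.ChevInvE8p
import Cfsg.Agent.Lib.helper8.ChevInv1

set_option autoImplicit false

namespace Cfsg.Agent.Lib.helper8

open Cfsg.Lie Cfsg.Lie.ChevalleyDatum

universe u

variable {F : Type u} [Field F]

theorem h8e8_orth_fix : ∀ i < 8, ∀ j < 8, i ≠ j →
    h8K chevE8 (chevE8.simple j) (chevE8.simple i) ≠ -1 →
    h8K chevE8 (chevE8.simple i) (chevE8.simple j) ≠ -1 →
    chevE8.reflectRoot i (chevE8.simple j) = chevE8.simple j := by decide +kernel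

/-- the list of the indices of the bits of a number -/
theorem h8filter_ofBits {n : ℕ} (b : Fin n → Bool) :
    ((List.finRange n).filter fun j => b j).map Fin.val =
      (List.range n).filter fun i => (Nat.ofBits b).testBit i := by
  have h1 : List.range n = (List.finRange n).map Fin.val := by
    rw [List.map_coe_finRange_eq_range]
  rw [h1, List.filter_map]
  congr 1
  apply List.filter_congr
  intro j _
  show b j = (Nat.ofBits b).testBit j.val
  rw [Nat.testBit_ofBits_lt b j.val j.2]

/-- conjugation of an involution of `N` by a simple reflection -/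
theorem h8inv_desc_perm (D : ChevalleyDatum) (hB : H8Base.{u} D) (hA : H8ReflAll D)
    (hBN : H8BN D) (hW : H8BN2 D) (hO2 : H8Ord2 D) (n : ↥(D.monomialSubgroup F))
    (hnn : n.val * n.val = 1) (i : ℕ) (hi : i < D.rank) :
    ∃ n' : ↥(D.monomialSubgroup F), n'.val * n'.val = 1 ∧
      (∃ y ∈ D.group F, y * n.val * y⁻¹ = n'.val) ∧
      h8Pi D hB hA hBN hW hO2 n' =
        h8sPerm D hA i * h8Pi D hB hA hBN hW hO2 n * h8sPerm D hA i := by
  obtain ⟨w, _, hπ⟩ := (h8W_mem_iff D hA _).mp (h8Pi_mem_W D hB hA hBN hW hO2 n)
  obtain ⟨n', h1, h2, h3⟩ := h8inv_desc_step D hB hA hBN hW hO2 n hnn w hπ i hi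
  refine ⟨n', h1, h2, ?_⟩
  rw [h3, hπ, List.cons_append, h8wPerm_consE, h8wPerm_appE, h8wPerm_single, mul_assoc]

/-- the constant by which an involution of `N` maps the root subgroup of a negated simple root -/
theorem h8inv_neg_const (D : ChevalleyDatum) (hB : H8Base.{u} D) (hA : H8ReflAll D)
    (hBN : H8BN D) (hW : H8BN2 D) (hO2 : H8Ord2 D) (n : ↥(D.monomialSubgroup F))
    (i : Fin D.rank)
    (h : h8Pi D hB hA hBN hW hO2 n (h8simF D hBN i) = h8negF D hW (h8simF D hBN i)) :
    ∃ a : F, a ≠ 0 ∧ ∀ s : F, n.val * h8xU D hB (D.negIdx.getD (D.simple i.val) 0) s * n.val⁻¹ =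
      h8xU D hB (D.simple i.val) (a * s) := by
  have h1 := h8Pi_act D hB hA hBN hW hO2 n (h8negF D hW (h8simF D hBN i))
  rw [h8W_negc D hA hW _ (h8Pi_mem_W D hB hA hBN hW hO2 n), h, h8negF_negF D hW hO2] at h1
  exact h1

/-- the table of the orthogonal steps, as a statement -/
theorem h8e8_orth_tab' (m : ℕ) (hm : m < 256) (h0 : m ≠ 0) (hind : h8e8IndepB m = true) :
    h8e8OrthB (h8e8WordOfMask m) (h8e8OrthTab.getD m (0, 0)).1
      (h8e8OrthTab.getD m (0, 0)).2 = true := by
  have h := h8e8_orth_tab
  rw [List.all_eq_true] at h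
  have h1 := h m (List.mem_range.mpr hm)
  rw [Bool.or_eq_true, Bool.or_eq_true] at h1
  rcases h1 with (h1 | h1) | h1
  · rw [beq_iff_eq] at h1
    exact absurd h1 h0
  · rw [hind] at h1
    cases h1
  · exact h1

/-- every involution of `N` in `E₈(q)`, `q` odd, is conjugate to an element of `H` -/
theorem h8e8_N_inv_conjH [Fintype F] (hodd : Fintype.card F % 2 = 1) (h2 : (2 : F) ≠ 0)
    (hA : H8ReflAll chevE8) (hBN : H8BN chevE8) (hW : H8BN2 chevE8) (hO2 : H8Ord2 chevE8) :
    ∀ k : ℕ, ∀ n : ↥(chevE8.monomialSubgroup F), n.val * n.val = 1 →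
      h8Ninv chevE8 (h8Pi chevE8 (h8base_all.{u} chevE8 h8e8_mem) hA hBN hW hO2 n) = k →
      H8ConjH chevE8 n.val := by
  have hB0 := h8base_all.{0} chevE8 h8e8_mem
  intro k
  induction k using Nat.strong_induction_on with
  | _ k ih =>
    intro n hnn hk
    have hπW := h8Pi_mem_W chevE8 (h8base_all.{u} chevE8 h8e8_mem) hA hBN hW hO2 n
    have hππ : h8Pi chevE8 (h8base_all.{u} chevE8 h8e8_mem) hA hBN hW hO2 n *
        h8Pi chevE8 (h8base_all.{u} chevE8 h8e8_mem) hA hBN hW hO2 n = 1 := by
      rw [← map_mul]
      have : n * n = 1 := Subtype.ext hnn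
      rw [this, map_one]
    set π := h8Pi chevE8 (h8base_all.{u} chevE8 h8e8_mem) hA hBN hW hO2 n with hπdef
    have hk' : h8Ninv chevE8
        (h8Pi chevE8 (h8base_all.{u} chevE8 h8e8_mem) hA hBN hW hO2 n) = k := hk
    by_cases hdesc : ∃ j : Fin chevE8.rank, ¬ chevE8.IsPosRoot (π (h8simF chevE8 hBN j)).val ∧
        π (h8simF chevE8 hBN j) ≠ h8negF chevE8 hW (h8simF chevE8 hBN j)
    · -- descent
      obtain ⟨j, hj1, hj2⟩ := hdesc
      obtain ⟨n', hnn', ⟨y, hy, e⟩, hπ'⟩ := h8inv_desc_perm chevE8
        (h8base_all.{u} chevE8 h8e8_mem) hA hBN hW hO2 n hnn j.val j.2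
      apply h8conjH_of_conj chevE8 n.val n'.val y hy e
      refine ih _ ?_ n' hnn' rfl
      rw [hπ']
      have := h8Ninv_conj_desc chevE8 hB0 hA hBN hW hO2 π hπW hππ j hj1 hj2
      show h8Ninv chevE8 (h8sPerm chevE8 hA j.val * π * h8sPerm chevE8 hA j.val) < k
      omega
    · push Not at hdesc
      set b : Fin chevE8.rank → Bool :=
        fun j => decide (π (h8simF chevE8 hBN j) = h8negF chevE8 hW (h8simF chevE8 hBN j)) with hb
      have hbt : ∀ j, b j = true →
          π (h8simF chevE8 hBN j) = h8negF chevE8 hW (h8simF chevE8 hBN j) := by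
        intro j hj
        simpa [hb] using hj
      have hbf : ∀ j, b j = false → chevE8.IsPosRoot (π (h8simF chevE8 hBN j)).val := by
        intro j hj
        by_contra hneg
        have := hdesc j hneg
        have hj' : b j = true := by simp [hb, this]
        rw [hj] at hj'
        cases hj'
      have hnegb : ∀ j, b j = true → ¬ chevE8.IsPosRoot (π (h8simF chevE8 hBN j)).val := by
        intro j hj
        rw [hbt j hj, h8negF_pos chevE8 hB0 hBN hW hO2]
        exact fun h => h (h8simple_pos chevE8 hBN j.val j.2)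
      by_cases htr : ∃ i j : Fin chevE8.rank, b i = true ∧ b j = true ∧
          h8K chevE8 (chevE8.simple j.val) (chevE8.simple i.val) = -1
      · -- the trick
        obtain ⟨i, j, hi, hj, hK⟩ := htr
        obtain ⟨a', ha', hci⟩ := h8inv_neg_const chevE8 (h8base_all.{u} chevE8 h8e8_mem) hA hBN hW
          hO2 n i (hbt i hi)
        obtain ⟨a, ha, hcj⟩ := h8inv_neg_const chevE8 (h8base_all.{u} chevE8 h8e8_mem) hA hBN hW
          hO2 n j (hbt j hj)
        obtain ⟨n', hnn', ⟨y, hy, e⟩, hlen⟩ := h8inv_trick_step hodd chevE8 h8e8_mem h2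
          (h8base_all.{u} chevE8 h8e8_mem) hA hBN hW hO2 n hnn i.val j.val i.2 j.2 hK a a' ha ha'
          hci hcj (hnegb i hi)
        apply h8conjH_of_conj chevE8 n.val n'.val y hy e
        exact ih _ (by omega) n' hnn' rfl
      · push Not at htr
        set J : List (Fin chevE8.rank) := (List.finRange chevE8.rank).filter fun j => b j with hJ
        have hJmem : ∀ j, j ∈ J ↔ b j = true := by
          intro j
          rw [hJ, List.mem_filter]
          simp
        by_cases hJe : J = []
        · -- trivial image in the Weyl group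
          have hπ1 : π = 1 := by
            apply h8W_simple_pos chevE8 hB0 hA hBN hW hO2 π hπW
            intro j
            apply hbf j
            by_contra hne
            have : j ∈ J := (hJmem j).mpr (by simpa using hne)
            rw [hJe] at this
            cases this
          refine ⟨1, Subgroup.one_mem _, ?_⟩
          rw [one_mul, inv_one, mul_one]
          exact h8Pi_ker chevE8 _ hA hBN hW hO2 n hπ1
        · -- pairwise orthogonal negated simple roots
          have hnd : J.Nodup := (List.nodup_finRange _).filter _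
          have horth : ∀ i ∈ J, ∀ j ∈ J, i ≠ j →
              h8sPerm chevE8 hA i.val (h8simF chevE8 hBN j) = h8simF chevE8 hBN j := by
            intro i hi j hj hij
            apply Fin.ext
            rw [h8sPerm_val chevE8 hA i.val i.2]
            exact h8e8_orth_fix i.val i.2 j.val j.2 (fun h => hij (Fin.ext h))
              (htr i j ((hJmem i).mp hi) ((hJmem j).mp hj))
              (htr j i ((hJmem j).mp hj) ((hJmem i).mp hi))
          have hstruct := h8W_indep_struct chevE8 hB0 hA hBN hW hO2 π hπW J hnd horth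
            (fun j hj => hbt j ((hJmem j).mp hj))
            (fun t ht => hbf t (by
              by_contra hne
              exact ht ((hJmem t).mpr (by simpa using hne))))
          have hword : (J.map Fin.val).reverse = h8e8WordOfMask (Nat.ofBits b) := by
            unfold h8e8WordOfMask
            rw [hJ, h8filter_ofBits]
            rfl
          rw [hword] at hstruct
          have hm256 : Nat.ofBits b < 256 := Nat.ofBits_lt_two_pow b
          have hm0 : Nat.ofBits b ≠ 0 := by
            intro h0
            obtain ⟨j, hj⟩ := List.exists_mem_of_ne_nil J hJe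
            have h1 := Nat.testBit_ofBits_lt b j.val j.2
            rw [h0, Nat.zero_testBit] at h1
            have h3 := (hJmem j).mp hj
            have h4 : b ⟨j.val, j.2⟩ = b j := rfl
            rw [h4, h3] at h1
            cases h1
          have hind : h8e8IndepB (Nat.ofBits b) = true := by
            unfold h8e8IndepB
            rw [List.all_eq_true]
            intro i hi
            rw [List.all_eq_true]
            intro j hj
            rw [List.mem_range] at hi hj
            have hi8 : i < chevE8.rank := hi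
            have hj8 : j < chevE8.rank := hj
            rw [Nat.testBit_ofBits_lt b i hi8, Nat.testBit_ofBits_lt b j hj8]
            by_cases h1 : b ⟨i, hi8⟩ = true
            · by_cases h3 : b ⟨j, hj8⟩ = true
              · rw [h1, h3]
                simp only [Bool.and_self, Bool.not_true, Bool.false_or, decide_eq_true_eq]
                exact htr ⟨i, hi8⟩ ⟨j, hj8⟩ h1 h3
              · rw [Bool.not_eq_true] at h3
                rw [h3]
                simp
            · rw [Bool.not_eq_true] at h1
              rw [h1]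
              simp
          have hchk := h8e8_orth_tab' (Nat.ofBits b) hm256 hm0 hind
          have hwlt : ∀ i ∈ h8e8WordOfMask (Nat.ofBits b), i < chevE8.rank := by
            intro i hi
            unfold h8e8WordOfMask at hi
            rw [List.mem_reverse, List.mem_filter, List.mem_range] at hi
            exact hi.1
          obtain ⟨n', hnn', ⟨y, hy, e⟩, hlen⟩ := h8e8_orth_step h2 hA hBN hW hO2 n hnn _ hwlt
            hstruct _ _ hchk
          apply h8conjH_of_conj chevE8 n.val n'.val y hy e
          exact ih _ (by omega) n' hnn' rfl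

/-- every involution of `E₈(q)`, `q` odd, is conjugate to an element of `H` -/
theorem h8e8_inv_conjH [Fintype F] (hodd : Fintype.card F % 2 = 1) (h2 : (2 : F) ≠ 0)
    (g : GL chevE8.Idx F) (hg : g ∈ chevE8.group F) (hgg : g * g = 1) : H8ConjH chevE8 g := by
  have hA := h8reflAll chevE8 h8e8_mem
  have hBN := h8bn_all chevE8 h8e8_mem
  have hW := h8bn2_all chevE8 h8e8_mem
  obtain ⟨_, hO2⟩ := h8ord_all chevE8 h8e8_mem
  obtain ⟨u, hu, n, hn, hnn, e⟩ := h8inv_reduce chevE8 h8e8_mem h2 g hg hgg
  apply h8conjH_of_conj chevE8 g n u (h8_U_le_group chevE8 hu) e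
  exact h8e8_N_inv_conjH hodd h2 hA hBN hW hO2 _ ⟨n, hn⟩ hnn rfl

end Cfsg.Agent.Lib.helper8
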