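import Mathlib
import Cfsg.Prelude.Def_ChevStructure
import Cfsg.Prelude.Def_ChevF4
import Cfsg.Agent.Lib.helper8.ChevInvF4e
import Cfsg.Agent.Lib.helper8.ChevH5
import Cfsg.Agent.Lib.helper8.ChevBNAll2
import Cfsg.Agent.Lib.helper8.ChevOrdAll
import Cfsg.Agent.Lib.helper8.ChevCommAll

set_option autoImplicit false

namespace Cfsg.Agent.Lib.helper8

open Cfsg.Lie Cfsg.Lie.ChevalleyDatum

universe u

variable {F : Type u} [Field F]

/-- the order of the centralizer of `h_c(-1)` in `F₄(q)`, `q` odd, from the histogram of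
relative lengths -/
theorem h8f4_cent_card [Fintype F] (h2 : (2 : F) ≠ 0) (c : ℕ) (hc : c < chevF4.nroots)
    (par : List Bool) (hpar : ∀ r < 48, decide (h8K chevF4 c r % 2 = 1) = par.getD r false)
    (N : ℕ) (hN : ((List.range' 24 24).filter fun r => !par.getD r false).length = N)
    (d1 d2 d3 d4 : ℕ)
    (hist : h8dense ((h8f4Words.filter (h8f4FixB par)).map (h8f4LenB par)) =
      h8pmulL ([d1, d2, d3, d4].map h8ones)) :
    Nat.card {g : GL chevF4.Idx F // g ∈ chevF4.group F ∧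
      h8hU chevF4 (h8base_all.{u} chevF4 h8f4_mem) c (-1 : F) * g *
        (h8hU chevF4 (h8base_all.{u} chevF4 h8f4_mem) c (-1 : F))⁻¹ = g} =
      Fintype.card F ^ N * ((Fintype.card F ^ d1 - 1) * ((Fintype.card F ^ d2 - 1) *
        ((Fintype.card F ^ d3 - 1) * (Fintype.card F ^ d4 - 1)))) := by
  have hB := h8base_all.{u} chevF4 h8f4_mem
  have hA := h8reflAll chevF4 h8f4_mem
  have hC := h8commAll.{u} chevF4 h8f4_mem
  have hBN := h8bn_all chevF4 h8f4_mem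
  have hW := h8bn2_all chevF4 h8f4_mem
  obtain ⟨hO, hO2⟩ := h8ord_all chevF4 h8f4_mem
  have hsc := h8scChk_all chevF4 h8f4_mem
  have ht : h8hU chevF4 (h8base_all.{u} chevF4 h8f4_mem) c (-1 : F) ∈ chevF4.diagonalSubgroup F :=
    h8hU_mem_H chevF4 _ c hc (-1) (by simp)
  have hχ := h8f4_hconj (F := F) (h8base_all.{u} chevF4 h8f4_mem) c hc par hpar
  have hq : 1 ≤ Fintype.card F := Fintype.card_pos
  rw [h8cen_card chevF4 hB hA hC hBN hW hO hO2 hsc _ ht _ hχ,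
    h8cen_B_card chevF4 hB _ ht, h8cen_U_card chevF4 hB hC hO hO2 _ _ hχ, h8f4_Nchi h2 par, hN,
    h8H_card_F4, h8f4_sum_term h2 hA par, hist, h8pe_pmulL]
  simp only [List.map_cons, List.map_nil, List.prod_cons, List.prod_nil, mul_one]
  rw [← h8pe_ones_mul d1 _ hq, ← h8pe_ones_mul d2 _ hq, ← h8pe_ones_mul d3 _ hq,
    ← h8pe_ones_mul d4 _ hq]
  ring

theorem h8f4_cent_s [Fintype F] (h2 : (2 : F) ≠ 0) :
    Nat.card {g : GL chevF4.Idx F // g ∈ chevF4.group F ∧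
      h8hU chevF4 (h8base_all.{u} chevF4 h8f4_mem) 33 (-1 : F) * g *
        (h8hU chevF4 (h8base_all.{u} chevF4 h8f4_mem) 33 (-1 : F))⁻¹ = g} =
      Fintype.card F ^ 16 * ((Fintype.card F ^ 2 - 1) * ((Fintype.card F ^ 4 - 1) *
        ((Fintype.card F ^ 6 - 1) * (Fintype.card F ^ 8 - 1)))) :=
  h8f4_cent_card h2 33 (by decide) h8f4ParS h8f4ParS_eq 16 (by decide) 2 4 6 8 h8f4_histS

theorem h8f4_cent_t [Fintype F] (h2 : (2 : F) ≠ 0) :
    Nat.card {g : GL chevF4.Idx F // g ∈ chevF4.group F ∧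
      h8hU chevF4 (h8base_all.{u} chevF4 h8f4_mem) 24 (-1 : F) * g *
        (h8hU chevF4 (h8base_all.{u} chevF4 h8f4_mem) 24 (-1 : F))⁻¹ = g} =
      Fintype.card F ^ 10 * ((Fintype.card F ^ 2 - 1) * ((Fintype.card F ^ 2 - 1) *
        ((Fintype.card F ^ 4 - 1) * (Fintype.card F ^ 6 - 1)))) :=
  h8f4_cent_card h2 24 (by decide) h8f4ParT h8f4ParT_eq 10 (by decide) 2 2 4 6 h8f4_histT

end Cfsg.Agent.Lib.helper8
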