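import Mathlib
import Cfsg.Prelude.Def_ChevStructure
import Cfsg.Prelude.Def_ChevF4
import Cfsg.Agent.Lib.helper8.ChevInvF4k
import Cfsg.Agent.Lib.helper8.ChevInv1

set_option autoImplicit false

namespace Cfsg.Agent.Lib.helper8

open Cfsg.Lie Cfsg.Lie.ChevalleyDatum

universe u

variable {F : Type u} [Field F]

/-- every involution of `N` in `F₄(q)`, `q` odd, is conjugate to an element of `H` -/
theorem h8f4_N_inv_conjH [Fintype F] (hodd : Fintype.card F % 2 = 1) (h2 : (2 : F) ≠ 0)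
    (hA : H8ReflAll chevF4) (hBN : H8BN chevF4) (hW : H8BN2 chevF4) (hO2 : H8Ord2 chevF4) :
    ∀ k : ℕ, ∀ n : ↥(chevF4.monomialSubgroup F), n.val * n.val = 1 →
      h8Ninv chevF4 (h8Pi chevF4 (h8base_all.{u} chevF4 h8f4_mem) hA hBN hW hO2 n) = k →
      H8ConjH chevF4 n.val := by
  intro k
  induction k using Nat.strong_induction_on with
  | _ k ih =>
    intro n hnn hk
    have hπW := h8Pi_mem_W chevF4 (h8base_all.{u} chevF4 h8f4_mem) hA hBN hW hO2 n
    have hπsq : h8Pi chevF4 (h8base_all.{u} chevF4 h8f4_mem) hA hBN hW hO2 n *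
        h8Pi chevF4 (h8base_all.{u} chevF4 h8f4_mem) hA hBN hW hO2 n = 1 := by
      rw [← map_mul]
      have : n * n = 1 := Subtype.ext hnn
      rw [this, map_one]
    obtain ⟨w, hwW, hπ⟩ := h8f4_W_cases hA _ hπW
    have hw := h8f4Words_lt w hwW
    rw [hπ] at hπsq
    have hinv := h8f4_invB hA w hw hπsq
    rcases h8f4_classify' w hwW hinv with ⟨i, hi, hlen⟩ | hmin
    · -- descent
      obtain ⟨n', hnn', ⟨y, hy, e⟩, hπ'⟩ := h8inv_desc_step chevF4
        (h8base_all.{u} chevF4 h8f4_mem) hA hBN hW hO2 n hnn w hπ i hi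
      apply h8conjH_of_conj chevF4 n.val n'.val y hy e
      have hw' : ∀ j ∈ i :: w ++ [i], j < chevF4.rank := by
        intro j hj
        simp only [List.cons_append, List.mem_cons, List.mem_append, List.not_mem_nil,
          or_false] at hj
        rcases hj with rfl | hj | rfl
        · exact hi
        · exact hw j hj
        · exact hi
      refine ih _ ?_ n' hnn' rfl
      rw [hπ', h8f4_Ninv hA _ hw', ← hk, hπ, h8f4_Ninv hA w hw]
      exact hlen
    · by_cases hne : w = []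
      · subst hne
        refine ⟨1, Subgroup.one_mem _, ?_⟩
        rw [one_mul, inv_one, mul_one]
        have h1 : h8wPerm chevF4 hA [] = 1 := rfl
        rw [h1] at hπ
        exact h8Pi_ker chevF4 _ hA hBN hW hO2 n hπ
      · obtain ⟨n', hnn', ⟨y, hy, e⟩, hlen⟩ :=
          h8f4_min_step hodd h2 hA hBN hW hO2 n hnn w hw hπ hmin hne
        apply h8conjH_of_conj chevF4 n.val n'.val y hy e
        exact ih _ (by omega) n' hnn' rfl

/-- every involution of `F₄(q)`, `q` odd, is conjugate to an element of `H` -/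
theorem h8f4_inv_conjH [Fintype F] (hodd : Fintype.card F % 2 = 1) (h2 : (2 : F) ≠ 0)
    (g : GL chevF4.Idx F) (hg : g ∈ chevF4.group F) (hgg : g * g = 1) : H8ConjH chevF4 g := by
  have hA := h8reflAll chevF4 h8f4_mem
  have hBN := h8bn_all chevF4 h8f4_mem
  have hW := h8bn2_all chevF4 h8f4_mem
  obtain ⟨_, hO2⟩ := h8ord_all chevF4 h8f4_mem
  obtain ⟨u, hu, n, hn, hnn, e⟩ := h8inv_reduce chevF4 h8f4_mem h2 g hg hgg
  apply h8conjH_of_conj chevF4 g n u (h8_U_le_group chevF4 hu) e
  exact h8f4_N_inv_conjH hodd h2 hA hBN hW hO2 _ ⟨n, hn⟩ hnn rfl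

end Cfsg.Agent.Lib.helper8
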