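import Mathlib
import Cfsg.Prelude.Def_ChevStructure
import Cfsg.Prelude.Def_ChevF4
import Cfsg.Agent.Lib.helper8.ChevInvF4f
import Cfsg.Agent.Lib.helper8.ChevInvF4l
import Cfsg.Agent.Lib.helper8.ChevInvF4o
import Cfsg.Agent.Lib.helper8.ChevSt27

set_option autoImplicit false

namespace Cfsg.Agent.Lib.helper8

open Cfsg.Lie Cfsg.Lie.ChevalleyDatum

universe u

variable {F : Type u} [Field F]

/-- the centralizer in the subtype and the set of fixed points of the conjugation -/
theorem h8cent_card_subtype {Γ : Type*} [Group Γ] (G : Subgroup Γ) (t : ↥G) :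
    Nat.card (Subgroup.centralizer ({t} : Set ↥G)) =
      Nat.card {g : Γ // g ∈ G ∧ t.val * g * t.val⁻¹ = g} := by
  apply Nat.card_congr
  refine
    { toFun := fun g => ⟨g.val.val, g.val.2, ?_⟩
      invFun := fun g => ⟨⟨g.val, g.2.1⟩, ?_⟩
      left_inv := fun g => rfl
      right_inv := fun g => rfl }
  · have h := g.2
    rw [Subgroup.mem_centralizer_iff] at h
    have h1 := h t rfl
    have h2 : t.val * g.val.val = g.val.val * t.val := congrArg Subtype.val h1
    rw [h2]
    group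
  · rw [Subgroup.mem_centralizer_iff]
    intro y hy
    rw [Set.mem_singleton_iff] at hy
    subst hy
    apply Subtype.ext
    show y.val * g.val = g.val * y.val
    have h := g.2.2
    calc y.val * g.val = (y.val * g.val * y.val⁻¹) * y.val := by group
      _ = g.val * y.val := by rw [h]

/-- `h_c(-1)` is an involution when its parity table is nontrivial -/
theorem h8f4_h_order (h2 : (2 : F) ≠ 0) (c : ℕ) (hc : c < chevF4.nroots) (par : List Bool)
    (hpar : ∀ r < 48, decide (h8K chevF4 c r % 2 = 1) = par.getD r false)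
    (r : ℕ) (hr : r < 48) (hpr : par.getD r false = true) :
    h8hU chevF4 (h8base_all.{u} chevF4 h8f4_mem) c (-1 : F) *
      h8hU chevF4 (h8base_all.{u} chevF4 h8f4_mem) c (-1 : F) = 1 ∧
    h8hU chevF4 (h8base_all.{u} chevF4 h8f4_mem) c (-1 : F) ≠ 1 := by
  have hA := h8reflAll chevF4 h8f4_mem
  have hW := h8bn2_all chevF4 h8f4_mem
  constructor
  · rw [h8hU_mul chevF4 _ c hc (-1) (-1) (by simp) (by simp)]
    have : (-1 : F) * (-1) = 1 := by ring
    rw [this, h8hU_one]
  · intro h1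
    have h3 := h8f4_hconj (F := F) (h8base_all.{u} chevF4 h8f4_mem) c hc par hpar r hr 1
    rw [h1, one_mul, inv_one, mul_one] at h3
    have h4 := h8xU_inj_t chevF4 (h8base_all.{u} chevF4 h8f4_mem) hA hW r hr _ _ h3
    unfold h8f4Sgn at h4
    rw [hpr] at h4
    simp only [if_true, mul_one] at h4
    apply h2
    have : (2 : F) = 1 - (-1) := by ring
    rw [this, ← h4, sub_self]

theorem h8f4_two_ne_zero [Fintype F] (hF : Odd (Fintype.card F)) : (2 : F) ≠ 0 := by
  apply Ring.two_ne_zero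
  intro h
  rw [FiniteField.even_card_iff_char_two] at h
  rcases hF with ⟨k, hk⟩
  omega

/-- every involution of `F₄(q)`, `q` odd, is conjugate to `h_{33}(-1)` or to `h_{24}(-1)` -/
theorem h8f4_inv_std [Fintype F] (hF : Odd (Fintype.card F)) (u : ↥(chevF4.group F))
    (hu : orderOf u = 2) :
    ∃ y : ↥(chevF4.group F),
      (y * u * y⁻¹).val = h8hU chevF4 (h8base_all.{u} chevF4 h8f4_mem) 33 (-1 : F) ∨
      (y * u * y⁻¹).val = h8hU chevF4 (h8base_all.{u} chevF4 h8f4_mem) 24 (-1 : F) := by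
  have h2 := h8f4_two_ne_zero hF
  have hodd : Fintype.card F % 2 = 1 := Nat.odd_iff.mp hF
  have hq : 1 < Fintype.card F := Fintype.one_lt_card
  have huu : u * u = 1 := by
    rw [← pow_two, ← hu, pow_orderOf_eq_one]
  have hne : u ≠ 1 := by
    intro h
    rw [h, orderOf_one] at hu
    norm_num at hu
  have huu' : u.val * u.val = 1 := congrArg Subtype.val huu
  obtain ⟨y, hy, hyH⟩ := h8f4_inv_conjH hodd h2 u.val u.2 huu'
  have hsq : (y * u.val * y⁻¹) * (y * u.val * y⁻¹) = 1 := by
    have : (y * u.val * y⁻¹) * (y * u.val * y⁻¹) = y * (u.val * u.val) * y⁻¹ := by group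
    rw [this, huu']
    group
  have hne' : y * u.val * y⁻¹ ≠ 1 := by
    intro h
    apply hne
    apply Subtype.ext
    have : u.val = y⁻¹ * (y * u.val * y⁻¹) * y := by group
    rw [this, h]
    show y⁻¹ * 1 * y = 1
    group
  obtain ⟨e0, e1, e2, e3, he⟩ := h8f4_H_inv_Te hq _ hyH hsq
  have hne'' : (e0 || e1 || e2 || e3) = true := by
    by_contra hcon
    apply hne'
    rw [he]
    have : e0 = false ∧ e1 = false ∧ e2 = false ∧ e3 = false := by
      cases e0 <;> cases e1 <;> cases e2 <;> cases e3 <;> simp at hcon ⊢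
    obtain ⟨rfl, rfl, rfl, rfl⟩ := this
    exact h8f4Te_false _
  obtain ⟨z, hz, hzc⟩ := h8f4_Te_conj_std (F := F) e0 e1 e2 e3 hne''
  refine ⟨⟨z * y, Subgroup.mul_mem _ hz hy⟩, ?_⟩
  have e : (⟨z * y, Subgroup.mul_mem _ hz hy⟩ * u * (⟨z * y, Subgroup.mul_mem _ hz hy⟩ :
      ↥(chevF4.group F))⁻¹).val = z * (y * u.val * y⁻¹) * z⁻¹ := by
    show z * y * u.val * (z * y)⁻¹ = _
    group
  rw [e, he]
  exact hzc

end Cfsg.Agent.Lib.helper8
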