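import Mathlib
import Cfsg.Prelude.Def_ChevStructure
import Cfsg.Prelude.Def_ChevE8
import Cfsg.Agent.Lib.helper8.ChevInvE8m
import Cfsg.Agent.Lib.helper8.ChevInvE8q
import Cfsg.Agent.Lib.helper8.ChevInvF4p

set_option autoImplicit false

namespace Cfsg.Agent.Lib.helper8

open Cfsg.Lie Cfsg.Lie.ChevalleyDatum Cfsg.Agent.Lib.helper8.H3

universe u

variable {F : Type u} [Field F]

/-- the parametrizing homomorphism of the torus of `E₈(q)` is injective -/
theorem h8e8_Theta_ker [Fintype F] (hq : 1 < Fintype.card F) (c : Fin chevE8.rank → Fˣ)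
    (hc : (h8Theta (F := F) chevE8) c = 1) : c = 1 := by
  have hB := h8base_all.{u} chevE8 h8e8_mem
  have hsc := h8scChk_all chevE8 h8e8_mem
  have h1 := h8H_card_ker (F := F) chevE8 hB hsc
  rw [h8H_card_E8] at h1
  have hr : chevE8.rank = 8 := rfl
  rw [hr] at h1
  have hpos : 0 < (Fintype.card F - 1) ^ 8 := Nat.pow_pos (by omega)
  have h3 : Nat.card {c : Fin 8 → Fˣ // h8pw c (fun (i : Fin 8) (v : Fin chevE8.nroots) =>
      chevE8.cartan i.val v.val) = fun _ => 1} = 1 := by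
    have : Nat.card {c : Fin 8 → Fˣ // h8pw c (fun (i : Fin 8) (v : Fin chevE8.nroots) =>
        chevE8.cartan i.val v.val) = fun _ => 1} * (Fintype.card F - 1) ^ 8 =
        1 * (Fintype.card F - 1) ^ 8 := by rw [one_mul]; exact h1
    exact Nat.eq_of_mul_eq_mul_right hpos this
  rw [Nat.card_eq_one_iff_unique] at h3
  obtain ⟨hsub, _⟩ := h3
  have hk : c ∈ (h8Theta (F := F) chevE8).ker := hc
  rw [h8Theta_ker] at hk
  have hk1 : (1 : Fin chevE8.rank → Fˣ) ∈ (h8Theta (F := F) chevE8).ker := Subgroup.one_mem _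
  rw [h8Theta_ker] at hk1
  have := hsub.elim ⟨c, hk⟩ ⟨1, hk1⟩
  exact congrArg Subtype.val this

theorem h8e8Te_zero (hB : H8Base.{u} chevE8) : (h8e8Te hB 0 : GL chevE8.Idx F) = 1 := by
  unfold h8e8Te h8stdT h8ttH
  apply List.prod_eq_one
  intro g hg
  rw [List.mem_map] at hg
  obtain ⟨p, hp, rfl⟩ := hg
  rw [List.mem_map] at hp
  obtain ⟨i, _, rfl⟩ := hp
  show h8hU chevE8 hB _ (h8sgnB (Nat.testBit 0 i) : F) = 1
  rw [Nat.zero_testBit]
  unfold h8sgnB
  simp only [Bool.false_eq_true, if_false]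
  exact h8hU_one chevE8 hB _

/-- an involution of the torus of `E₈(q)` is a product of the `h_{p_i}(-1)` -/
theorem h8e8_H_inv_Te [Fintype F] (hq : 1 < Fintype.card F) (h : GL chevE8.Idx F)
    (hh : h ∈ chevE8.diagonalSubgroup F) (hsq : h * h = 1) :
    ∃ e < 256, h = h8e8Te (h8base_all.{u} chevE8 h8e8_mem) e := by
  classical
  have hB := h8base_all.{u} chevE8 h8e8_mem
  have hsc := h8scChk_all chevE8 h8e8_mem
  rw [← h8Theta_range chevE8 hB hsc] at hh
  obtain ⟨c, rfl⟩ := hh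
  have hcc : c * c = 1 := by
    apply h8e8_Theta_ker hq
    rw [map_mul]
    exact hsq
  have hci : ∀ i : Fin chevE8.rank,
      ((c i : Fˣ) : F) = h8sgnB (decide (((c i : Fˣ) : F) = -1)) := by
    intro i
    have h1 : c i * c i = 1 := congrFun hcc i
    have h2 : ((c i : Fˣ) : F) * ((c i : Fˣ) : F) = 1 := by
      rw [← Units.val_mul, h1, Units.val_one]
    unfold h8sgnB
    rcases mul_self_eq_one_iff.mp h2 with h3 | h3
    · by_cases h4 : ((c i : Fˣ) : F) = -1
      · rw [decide_eq_true h4, if_pos rfl]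
        exact h4
      · rw [decide_eq_false h4]
        simp only [Bool.false_eq_true, if_false]
        exact h3
    · rw [decide_eq_true h3, if_pos rfl]
      exact h3
  have hr : chevE8.rank = 8 := rfl
  refine ⟨Nat.ofBits (fun i : Fin chevE8.rank => decide (((c i : Fˣ) : F) = -1)), ?_, ?_⟩
  · calc Nat.ofBits (fun i : Fin chevE8.rank => decide (((c i : Fˣ) : F) = -1))
        < 2 ^ chevE8.rank := Nat.ofBits_lt_two_pow _
      _ = 256 := by rw [hr]; norm_num
  · rw [← h8stdT_eq_Theta chevE8 (h8base_all.{u} chevE8 h8e8_mem) hsc c]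
    have hfun : h8ext chevE8 c = fun i => (h8sgnB ((Nat.ofBits
        (fun i : Fin chevE8.rank => decide (((c i : Fˣ) : F) = -1))).testBit i) : F) := by
      funext i
      by_cases hi : i < chevE8.rank
      · rw [Nat.testBit_ofBits_lt _ i hi]
        unfold h8ext
        rw [dif_pos hi]
        exact hci ⟨i, hi⟩
      · rw [Nat.testBit_ofBits_ge _ i (by omega)]
        unfold h8ext
        rw [dif_neg hi]
        unfold h8sgnB
        simp
    unfold h8e8Te
    rw [hfun]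

/-- every nontrivial involution of the torus is conjugate to one of the two standard ones -/
theorem h8e8_Te_conj_std (e : ℕ) (he : e < 256) (h0 : e ≠ 0) :
    ∃ y ∈ chevE8.group F,
      y * h8e8Te (h8base_all.{u} chevE8 h8e8_mem) e * y⁻¹ =
        (h8e8Te (h8base_all.{u} chevE8 h8e8_mem) 6 : GL chevE8.Idx F) ∨
      y * h8e8Te (h8base_all.{u} chevE8 h8e8_mem) e * y⁻¹ =
        (h8e8Te (h8base_all.{u} chevE8 h8e8_mem) 82 : GL chevE8.Idx F) := by
  have hc := h8e8_orb_cover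
  rw [List.all_eq_true] at hc
  have h1 := hc e (List.mem_range.mpr he)
  rw [Bool.or_eq_true, Bool.or_eq_true] at h1
  rcases h1 with (h1 | h1) | h1
  · exact absurd (beq_iff_eq.mp h1) h0
  · rw [List.any_eq_true] at h1
    obtain ⟨p, hp, hpe⟩ := h1
    rw [beq_iff_eq] at hpe
    have h2 := h8e8_conjS
    rw [List.all_eq_true] at h2
    have h3 := h2 p hp
    rw [hpe] at h3
    obtain ⟨y, hy, hyc⟩ := h8e8_conj_Te (F := F) 6 h8e8ParS h8e8ParS_eq p.2 e h3
    exact ⟨y, hy, Or.inl hyc⟩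
  · rw [List.any_eq_true] at h1
    obtain ⟨p, hp, hpe⟩ := h1
    rw [beq_iff_eq] at hpe
    have h2 := h8e8_conjT
    rw [List.all_eq_true] at h2
    have h3 := h2 p hp
    rw [hpe] at h3
    obtain ⟨y, hy, hyc⟩ := h8e8_conj_Te (F := F) 82 h8e8ParT h8e8ParT_eq p.2 e h3
    exact ⟨y, hy, Or.inr hyc⟩

/-- the standard torus elements are involutions -/
theorem h8e8_h_order (h2 : (2 : F) ≠ 0) (e : ℕ) (r : ℕ) (hr : r < 240)
    (hpr : h8e8ParE e r = true) :
    h8e8Te (h8base_all.{u} chevE8 h8e8_mem) e *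
      (h8e8Te (h8base_all.{u} chevE8 h8e8_mem) e : GL chevE8.Idx F) = 1 ∧
    (h8e8Te (h8base_all.{u} chevE8 h8e8_mem) e : GL chevE8.Idx F) ≠ 1 := by
  have hA := h8reflAll chevE8 h8e8_mem
  have hW := h8bn2_all chevE8 h8e8_mem
  have hsc := h8scChk_all chevE8 h8e8_mem
  constructor
  · apply h8e8_H_ext8 _ _ (Subgroup.mul_mem _ (h8e8Te_mem _ e) (h8e8Te_mem _ e))
      (Subgroup.one_mem _)
    intro j hj
    have hrj : chevE8.simple j < chevE8.nroots := (h8scChk_spec chevE8 hsc j hj).1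
    have e1 : h8e8Te (h8base_all.{u} chevE8 h8e8_mem) e *
        (h8e8Te (h8base_all.{u} chevE8 h8e8_mem) e : GL chevE8.Idx F) *
        h8xU chevE8 (h8base_all.{u} chevE8 h8e8_mem) (chevE8.simple j) 1 *
        (h8e8Te (h8base_all.{u} chevE8 h8e8_mem) e *
          (h8e8Te (h8base_all.{u} chevE8 h8e8_mem) e : GL chevE8.Idx F))⁻¹ =
        h8e8Te (h8base_all.{u} chevE8 h8e8_mem) e *
          (h8e8Te (h8base_all.{u} chevE8 h8e8_mem) e *
            h8xU chevE8 (h8base_all.{u} chevE8 h8e8_mem) (chevE8.simple j) 1 *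
            (h8e8Te (h8base_all.{u} chevE8 h8e8_mem) e)⁻¹) *
          (h8e8Te (h8base_all.{u} chevE8 h8e8_mem) e : GL chevE8.Idx F)⁻¹ := by group
    rw [e1, h8e8Te_conj _ e _ hrj, h8e8Te_conj _ e _ hrj, ← mul_assoc, h8sgnB_mul]
    have : (h8e8ParE e (chevE8.simple j) != h8e8ParE e (chevE8.simple j)) = false := by simp
    rw [this]
    unfold h8sgnB
    simp
  · intro h1
    have h3 := h8e8Te_conj (F := F) (h8base_all.{u} chevE8 h8e8_mem) e r hr 1
    rw [h1, one_mul, inv_one, mul_one, hpr] at h3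
    have h4 := h8xU_inj_t chevE8 (h8base_all.{u} chevE8 h8e8_mem) hA hW r hr _ _ h3
    unfold h8sgnB at h4
    simp only [if_true, mul_one] at h4
    apply h2
    have : (2 : F) = 1 - (-1) := by ring
    rw [this, ← h4, sub_self]

/-- every involution of `E₈(q)`, `q` odd, is conjugate to one of the two standard ones -/
theorem h8e8_inv_std [Fintype F] (hF : Odd (Fintype.card F)) (u : ↥(chevE8.group F))
    (hu : orderOf u = 2) :
    ∃ y : ↥(chevE8.group F),
      (y * u * y⁻¹).val = (h8e8Te (h8base_all.{u} chevE8 h8e8_mem) 6 : GL chevE8.Idx F) ∨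
      (y * u * y⁻¹).val = (h8e8Te (h8base_all.{u} chevE8 h8e8_mem) 82 : GL chevE8.Idx F) := by
  have h2 := h8f4_two_ne_zero hF
  have hodd : Fintype.card F % 2 = 1 := Nat.odd_iff.mp hF
  have hq : 1 < Fintype.card F := Fintype.one_lt_card
  have huu : u * u = 1 := by
    rw [← pow_two, ← hu, pow_orderOf_eq_one]
  have hne : u ≠ 1 := by
    intro h
    rw [h, orderOf_one] at hu
    norm_num at hu
  have huu' : u.val * u.val = 1 := congrArg Subtype.val huu
  obtain ⟨y, hy, hyH⟩ := h8e8_inv_conjH hodd h2 u.val u.2 huu'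
  have hsq : (y * u.val * y⁻¹) * (y * u.val * y⁻¹) = 1 := by
    have : (y * u.val * y⁻¹) * (y * u.val * y⁻¹) = y * (u.val * u.val) * y⁻¹ := by group
    rw [this, huu']
    group
  have hne' : y * u.val * y⁻¹ ≠ 1 := by
    intro h
    apply hne
    apply Subtype.ext
    have : u.val = y⁻¹ * (y * u.val * y⁻¹) * y := by group
    rw [this, h]
    show y⁻¹ * 1 * y = 1
    group
  obtain ⟨e, he, hee⟩ := h8e8_H_inv_Te hq _ hyH hsq
  have hne'' : e ≠ 0 := by
    intro hcon
    apply hne'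
    rw [hee, hcon]
    exact h8e8Te_zero _
  obtain ⟨z, hz, hzc⟩ := h8e8_Te_conj_std (F := F) e he hne''
  refine ⟨⟨z * y, Subgroup.mul_mem _ hz hy⟩, ?_⟩
  have e' : (⟨z * y, Subgroup.mul_mem _ hz hy⟩ * u * (⟨z * y, Subgroup.mul_mem _ hz hy⟩ :
      ↥(chevE8.group F))⁻¹).val = z * (y * u.val * y⁻¹) * z⁻¹ := by
    show z * y * u.val * (z * y)⁻¹ = _
    group
  rw [e', hee]
  exact hzc

end Cfsg.Agent.Lib.helper8
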