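import Mathlib

set_option autoImplicit false

namespace Cfsg.Agent.Lib.helper8

theorem h8_centralizer_conj {G : Type*} [Group G] (t z : G) :
    Subgroup.centralizer ({z * t * z⁻¹} : Set G) =
      (Subgroup.centralizer ({t} : Set G)).map (MulAut.conj z).toMonoidHom := by
  ext x
  rw [Subgroup.mem_map]
  constructor
  · intro hx
    rw [Subgroup.mem_centralizer_iff] at hx
    have hx' := hx (z * t * z⁻¹) rfl
    refine ⟨z⁻¹ * x * z, ?_, ?_⟩
    · rw [Subgroup.mem_centralizer_iff]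
      intro y hy
      rw [Set.mem_singleton_iff] at hy
      subst hy
      have : y * (z⁻¹ * x * z) = z⁻¹ * (z * y * z⁻¹ * x) * z := by group
      rw [this, hx']
      group
    · show z * (z⁻¹ * x * z) * z⁻¹ = x
      group
  · rintro ⟨y, hy, rfl⟩
    rw [Subgroup.mem_centralizer_iff] at hy ⊢
    intro w hw
    rw [Set.mem_singleton_iff] at hw
    subst hw
    have hy' := hy t rfl
    show z * t * z⁻¹ * (z * y * z⁻¹) = z * y * z⁻¹ * (z * t * z⁻¹)
    have e1 : z * t * z⁻¹ * (z * y * z⁻¹) = z * (t * y) * z⁻¹ := by group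
    have e2 : z * y * z⁻¹ * (z * t * z⁻¹) = z * (y * t) * z⁻¹ := by group
    rw [e1, e2, hy']

/-- transport of the structure of an involution centralizer along a conjugation -/
theorem h8_cent_transport {G S : Type*} [Group G] [Group S] (t z : G) (N : ℕ)
    (h : Nat.card (Subgroup.centralizer ({t} : Set G)) = N ∧
      ∃ L₁ L₂ : Subgroup G, Nonempty (L₁ ≃* S) ∧ Nonempty (L₂ ≃* S) ∧
        (∀ x ∈ L₁, ∀ y ∈ L₂, x * y = y * x) ∧ L₁ ⊓ L₂ = Subgroup.zpowers t ∧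
        L₁ ⊔ L₂ ≤ Subgroup.centralizer ({t} : Set G) ∧
        (L₁ ⊔ L₂).relIndex (Subgroup.centralizer ({t} : Set G)) = 2) :
    Nat.card (Subgroup.centralizer ({z * t * z⁻¹} : Set G)) = N ∧
      ∃ L₁ L₂ : Subgroup G, Nonempty (L₁ ≃* S) ∧ Nonempty (L₂ ≃* S) ∧
        (∀ x ∈ L₁, ∀ y ∈ L₂, x * y = y * x) ∧ L₁ ⊓ L₂ = Subgroup.zpowers (z * t * z⁻¹) ∧
        L₁ ⊔ L₂ ≤ Subgroup.centralizer ({z * t * z⁻¹} : Set G) ∧
        (L₁ ⊔ L₂).relIndex (Subgroup.centralizer ({z * t * z⁻¹} : Set G)) = 2 := by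
  obtain ⟨hN, L₁, L₂, ⟨e₁⟩, ⟨e₂⟩, hcomm, hinf, hle, hidx⟩ := h
  set f : G →* G := (MulAut.conj z).toMonoidHom with hf
  have hinj : Function.Injective f := (MulAut.conj z).injective
  have hker : f.ker = ⊥ := (MonoidHom.ker_eq_bot_iff f).mpr hinj
  have hft : f t = z * t * z⁻¹ := rfl
  rw [h8_centralizer_conj t z]
  refine ⟨?_, L₁.map f, L₂.map f, ⟨?_⟩, ⟨?_⟩, ?_, ?_, ?_, ?_⟩
  · rw [← hN]
    exact Nat.card_congr (Subgroup.equivMapOfInjective _ f hinj).symm.toEquiv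
  · exact (Subgroup.equivMapOfInjective L₁ f hinj).symm.trans e₁
  · exact (Subgroup.equivMapOfInjective L₂ f hinj).symm.trans e₂
  · rintro x ⟨x0, hx0, rfl⟩ y ⟨y0, hy0, rfl⟩
    rw [← map_mul, ← map_mul, hcomm x0 hx0 y0 hy0]
  · rw [← Subgroup.map_inf L₁ L₂ f hinj, hinf, MonoidHom.map_zpowers, hft]
  · rw [← Subgroup.map_sup]
    exact Subgroup.map_mono hle
  · rw [← Subgroup.map_sup, Subgroup.relIndex_map_map, hker, sup_bot_eq, sup_bot_eq, hidx]

end Cfsg.Agent.Lib.helper8
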