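import Mathlib
import Cfsg.Prelude.Def_ChevStructure
import Cfsg.Prelude.Def_ChevE8
import Cfsg.Agent.Lib.helper8.ChevInvE8r
import Cfsg.Agent.Lib.helper8.ChevInvG2v

set_option autoImplicit false

namespace Cfsg.Agent.Lib.helper8

open Cfsg.Lie Cfsg.Lie.ChevalleyDatum

universe u

variable {F : Type u} [Field F]

theorem h8e8_card_ne (q : ℕ) (hq : 1 < q) :
    q ^ 56 * ((q ^ 2 - 1) * ((q ^ 4 - 1) * ((q ^ 6 - 1) * ((q ^ 8 - 1) * ((q ^ 10 - 1) *
      ((q ^ 12 - 1) * ((q ^ 14 - 1) * (q ^ 8 - 1)))))))) ≠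
    q ^ 64 * ((q ^ 2 - 1) * ((q ^ 6 - 1) * ((q ^ 8 - 1) * ((q ^ 10 - 1) * ((q ^ 12 - 1) *
      ((q ^ 14 - 1) * ((q ^ 18 - 1) * (q ^ 2 - 1)))))))) := by
  intro h
  have h2 : 1 < q ^ 2 := Nat.one_lt_pow (by norm_num) hq
  have h4 : 1 < q ^ 4 := Nat.one_lt_pow (by norm_num) hq
  have h6 : 1 < q ^ 6 := Nat.one_lt_pow (by norm_num) hq
  have h8 : 1 < q ^ 8 := Nat.one_lt_pow (by norm_num) hq
  have h10 : 1 < q ^ 10 := Nat.one_lt_pow (by norm_num) hq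
  have h12 : 1 < q ^ 12 := Nat.one_lt_pow (by norm_num) hq
  have h14 : 1 < q ^ 14 := Nat.one_lt_pow (by norm_num) hq
  have h418 : q ^ 4 < q ^ 18 := Nat.pow_lt_pow_right hq (by norm_num)
  have hC : 0 < q ^ 56 * ((q ^ 2 - 1) * ((q ^ 6 - 1) * ((q ^ 8 - 1) * ((q ^ 10 - 1) *
      ((q ^ 12 - 1) * (q ^ 14 - 1)))))) := by
    apply Nat.mul_pos (Nat.pow_pos (by omega))
    apply Nat.mul_pos (by omega)
    apply Nat.mul_pos (by omega)
    apply Nat.mul_pos (by omega)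
    apply Nat.mul_pos (by omega)
    apply Nat.mul_pos (by omega) (by omega)
  have e1 : q ^ 56 * ((q ^ 2 - 1) * ((q ^ 4 - 1) * ((q ^ 6 - 1) * ((q ^ 8 - 1) * ((q ^ 10 - 1) *
      ((q ^ 12 - 1) * ((q ^ 14 - 1) * (q ^ 8 - 1)))))))) =
      q ^ 56 * ((q ^ 2 - 1) * ((q ^ 6 - 1) * ((q ^ 8 - 1) * ((q ^ 10 - 1) *
      ((q ^ 12 - 1) * (q ^ 14 - 1)))))) * ((q ^ 4 - 1) * (q ^ 8 - 1)) := by ring
  have e2 : q ^ 64 * ((q ^ 2 - 1) * ((q ^ 6 - 1) * ((q ^ 8 - 1) * ((q ^ 10 - 1) * ((q ^ 12 - 1) *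
      ((q ^ 14 - 1) * ((q ^ 18 - 1) * (q ^ 2 - 1)))))))) =
      q ^ 56 * ((q ^ 2 - 1) * ((q ^ 6 - 1) * ((q ^ 8 - 1) * ((q ^ 10 - 1) *
      ((q ^ 12 - 1) * (q ^ 14 - 1)))))) * (q ^ 8 * ((q ^ 18 - 1) * (q ^ 2 - 1))) := by ring
  rw [e1, e2] at h
  have h3 := Nat.eq_of_mul_eq_mul_left hC h
  have g1 : (q ^ 4 - 1) * (q ^ 8 - 1) ≤ (q ^ 4 - 1) * q ^ 8 :=
    Nat.mul_le_mul_left _ (Nat.sub_le _ _)
  have g2 : (q ^ 4 - 1) * q ^ 8 < q ^ 4 * q ^ 8 :=
    Nat.mul_lt_mul_of_pos_right (by omega) (by omega)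
  have g3 : q ^ 4 * q ^ 8 ≤ (q ^ 18 - 1) * q ^ 8 := Nat.mul_le_mul_right _ (by omega)
  have g4 : (q ^ 18 - 1) * q ^ 8 ≤ q ^ 8 * ((q ^ 18 - 1) * (q ^ 2 - 1)) := by
    rw [mul_comm (q ^ 18 - 1) (q ^ 8)]
    apply Nat.mul_le_mul_left
    exact Nat.le_mul_of_pos_right _ (by omega)
  omega

theorem h8prod_Icc7 (f : ℕ → ℕ) :
    ∏ i ∈ Finset.Icc 1 7, f i = f 1 * (f 2 * (f 3 * (f 4 * (f 5 * (f 6 * f 7))))) := by
  have : Finset.Icc 1 7 = ({1, 2, 3, 4, 5, 6, 7} : Finset ℕ) := by decide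
  rw [this]
  simp

/-- `E₈(q)`, `q` odd, has exactly two classes of involutions, with the given centralizer orders -/
theorem h8e8_main [Fintype F] (hF : Odd (Fintype.card F)) :
    ∃ s t : ↥(chevE8.group F), orderOf s = 2 ∧ orderOf t = 2 ∧ ¬ IsConj s t ∧
      (∀ u : ↥(chevE8.group F), orderOf u = 2 → IsConj u s ∨ IsConj u t) ∧
      Nat.card (Subgroup.centralizer ({s} : Set ↥(chevE8.group F))) =
        Fintype.card F ^ 56 * (Fintype.card F ^ 8 - 1) *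
          ∏ i ∈ Finset.Icc 1 7, (Fintype.card F ^ (2 * i) - 1) ∧
      Nat.card (Subgroup.centralizer ({t} : Set ↥(chevE8.group F))) =
        Fintype.card F ^ 64 * (Fintype.card F ^ 2 - 1) ^ 2 * (Fintype.card F ^ 6 - 1) *
          (Fintype.card F ^ 8 - 1) * (Fintype.card F ^ 10 - 1) * (Fintype.card F ^ 12 - 1) *
          (Fintype.card F ^ 14 - 1) * (Fintype.card F ^ 18 - 1) := by
  have h2 := h8f4_two_ne_zero hF
  have hq : 1 < Fintype.card F := Fintype.one_lt_card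
  have hB := h8base_all.{u} chevE8 h8e8_mem
  have hsm : (h8e8Te (h8base_all.{u} chevE8 h8e8_mem) 6 : GL chevE8.Idx F) ∈ chevE8.group F :=
    h8_H_le_group chevE8 hB (h8e8Te_mem _ 6)
  have htm : (h8e8Te (h8base_all.{u} chevE8 h8e8_mem) 82 : GL chevE8.Idx F) ∈ chevE8.group F :=
    h8_H_le_group chevE8 hB (h8e8Te_mem _ 82)
  obtain ⟨hs1, hs2⟩ := h8e8_h_order h2 6 162 (by decide) (by decide +kernel)
  obtain ⟨ht1, ht2⟩ := h8e8_h_order h2 82 120 (by decide) (by decide +kernel)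
  set s : ↥(chevE8.group F) := ⟨_, hsm⟩ with hs
  set t : ↥(chevE8.group F) := ⟨_, htm⟩ with ht
  have hcs : Nat.card (Subgroup.centralizer ({s} : Set ↥(chevE8.group F))) =
      Fintype.card F ^ 56 * ((Fintype.card F ^ 2 - 1) * ((Fintype.card F ^ 4 - 1) *
        ((Fintype.card F ^ 6 - 1) * ((Fintype.card F ^ 8 - 1) * ((Fintype.card F ^ 10 - 1) *
        ((Fintype.card F ^ 12 - 1) * ((Fintype.card F ^ 14 - 1) *
        (Fintype.card F ^ 8 - 1)))))))) := by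
    rw [h8cent_card_subtype]
    exact h8e8_cent_s h2
  have hct : Nat.card (Subgroup.centralizer ({t} : Set ↥(chevE8.group F))) =
      Fintype.card F ^ 64 * ((Fintype.card F ^ 2 - 1) * ((Fintype.card F ^ 6 - 1) *
        ((Fintype.card F ^ 8 - 1) * ((Fintype.card F ^ 10 - 1) * ((Fintype.card F ^ 12 - 1) *
        ((Fintype.card F ^ 14 - 1) * ((Fintype.card F ^ 18 - 1) *
        (Fintype.card F ^ 2 - 1)))))))) := by
    rw [h8cent_card_subtype]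
    exact h8e8_cent_t h2
  have : Fact (Nat.Prime 2) := ⟨Nat.prime_two⟩
  refine ⟨s, t, ?_, ?_, ?_, ?_, ?_, ?_⟩
  · apply orderOf_eq_prime
    · rw [pow_two]
      exact Subtype.ext hs1
    · intro h
      exact hs2 (congrArg Subtype.val h)
  · apply orderOf_eq_prime
    · rw [pow_two]
      exact Subtype.ext ht1
    · intro h
      exact ht2 (congrArg Subtype.val h)
  · intro hconj
    rw [isConj_iff] at hconj
    obtain ⟨z, hz⟩ := hconj
    have h1 := h8_centralizer_conj s z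
    rw [hz] at h1
    have h3 : Nat.card (Subgroup.centralizer ({t} : Set ↥(chevE8.group F))) =
        Nat.card (Subgroup.centralizer ({s} : Set ↥(chevE8.group F))) := by
      rw [h1]
      exact Nat.card_congr (Subgroup.equivMapOfInjective _ (MulAut.conj z).toMonoidHom
        (MulAut.conj z).injective).symm.toEquiv
    rw [hcs, hct] at h3
    exact h8e8_card_ne _ hq h3.symm
  · intro u hu
    obtain ⟨y, hy | hy⟩ := h8e8_inv_std hF u hu
    · left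
      rw [isConj_iff]
      exact ⟨y, Subtype.ext hy⟩
    · right
      rw [isConj_iff]
      exact ⟨y, Subtype.ext hy⟩
  · rw [hcs, h8prod_Icc7]
    ring
  · rw [hct]
    ring

end Cfsg.Agent.Lib.helper8
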