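import Mathlib
import Cfsg.Prelude.Def_ChevStructure
import Cfsg.Prelude.Def_ChevF4
import Cfsg.Agent.Lib.helper8.ChevInvF4p
import Cfsg.Agent.Lib.helper8.ChevInvG2v

set_option autoImplicit false

namespace Cfsg.Agent.Lib.helper8

open Cfsg.Lie Cfsg.Lie.ChevalleyDatum

universe u

variable {F : Type u} [Field F]

theorem h8f4_card_ne (q : ℕ) (hq : 1 < q) :
    q ^ 16 * ((q ^ 2 - 1) * ((q ^ 4 - 1) * ((q ^ 6 - 1) * (q ^ 8 - 1)))) ≠
      q ^ 10 * ((q ^ 2 - 1) * ((q ^ 2 - 1) * ((q ^ 4 - 1) * (q ^ 6 - 1)))) := by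
  intro h
  have h2 : 1 < q ^ 2 := Nat.one_lt_pow (by norm_num) hq
  have h4 : 1 < q ^ 4 := Nat.one_lt_pow (by norm_num) hq
  have h6 : 1 < q ^ 6 := Nat.one_lt_pow (by norm_num) hq
  have h28 : q ^ 2 < q ^ 8 := Nat.pow_lt_pow_right hq (by norm_num)
  have hA : 0 < q ^ 10 * ((q ^ 2 - 1) * ((q ^ 4 - 1) * (q ^ 6 - 1))) := by
    apply Nat.mul_pos (Nat.pow_pos (by omega))
    apply Nat.mul_pos (by omega)
    apply Nat.mul_pos (by omega) (by omega)
  have e1 : q ^ 16 * ((q ^ 2 - 1) * ((q ^ 4 - 1) * ((q ^ 6 - 1) * (q ^ 8 - 1)))) =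
      q ^ 10 * ((q ^ 2 - 1) * ((q ^ 4 - 1) * (q ^ 6 - 1))) * (q ^ 6 * (q ^ 8 - 1)) := by ring
  have e2 : q ^ 10 * ((q ^ 2 - 1) * ((q ^ 2 - 1) * ((q ^ 4 - 1) * (q ^ 6 - 1)))) =
      q ^ 10 * ((q ^ 2 - 1) * ((q ^ 4 - 1) * (q ^ 6 - 1))) * (q ^ 2 - 1) := by ring
  rw [e1, e2] at h
  have h3 := Nat.eq_of_mul_eq_mul_left hA h
  have h5 : q ^ 8 - 1 ≤ q ^ 6 * (q ^ 8 - 1) := Nat.le_mul_of_pos_left _ (by omega)
  omega

/-- `F₄(q)`, `q` odd, has exactly two classes of involutions, with the given centralizer orders -/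
theorem h8f4_main [Fintype F] (hF : Odd (Fintype.card F)) :
    ∃ s t : ↥(chevF4.group F), orderOf s = 2 ∧ orderOf t = 2 ∧ ¬ IsConj s t ∧
      (∀ u : ↥(chevF4.group F), orderOf u = 2 → IsConj u s ∨ IsConj u t) ∧
      Nat.card (Subgroup.centralizer ({s} : Set ↥(chevF4.group F))) =
        Fintype.card F ^ 16 * (Fintype.card F ^ 2 - 1) * (Fintype.card F ^ 4 - 1) *
          (Fintype.card F ^ 6 - 1) * (Fintype.card F ^ 8 - 1) ∧
      Nat.card (Subgroup.centralizer ({t} : Set ↥(chevF4.group F))) =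
        Fintype.card F ^ 10 * (Fintype.card F ^ 2 - 1) ^ 2 * (Fintype.card F ^ 4 - 1) *
          (Fintype.card F ^ 6 - 1) := by
  have h2 := h8f4_two_ne_zero hF
  have hq : 1 < Fintype.card F := Fintype.one_lt_card
  have hB := h8base_all.{u} chevF4 h8f4_mem
  have hsm : h8hU chevF4 (h8base_all.{u} chevF4 h8f4_mem) 33 (-1 : F) ∈ chevF4.group F :=
    h8_H_le_group chevF4 hB (h8hU_mem_H chevF4 _ 33 (by decide) (-1) (by simp))
  have htm : h8hU chevF4 (h8base_all.{u} chevF4 h8f4_mem) 24 (-1 : F) ∈ chevF4.group F :=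
    h8_H_le_group chevF4 hB (h8hU_mem_H chevF4 _ 24 (by decide) (-1) (by simp))
  obtain ⟨hs1, hs2⟩ := h8f4_h_order h2 33 (by decide) h8f4ParS h8f4ParS_eq 27 (by decide)
    (by decide)
  obtain ⟨ht1, ht2⟩ := h8f4_h_order h2 24 (by decide) h8f4ParT h8f4ParT_eq 0 (by decide)
    (by decide)
  set s : ↥(chevF4.group F) := ⟨_, hsm⟩ with hs
  set t : ↥(chevF4.group F) := ⟨_, htm⟩ with ht
  have hcs : Nat.card (Subgroup.centralizer ({s} : Set ↥(chevF4.group F))) =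
      Fintype.card F ^ 16 * ((Fintype.card F ^ 2 - 1) * ((Fintype.card F ^ 4 - 1) *
        ((Fintype.card F ^ 6 - 1) * (Fintype.card F ^ 8 - 1)))) := by
    rw [h8cent_card_subtype]
    exact h8f4_cent_s h2
  have hct : Nat.card (Subgroup.centralizer ({t} : Set ↥(chevF4.group F))) =
      Fintype.card F ^ 10 * ((Fintype.card F ^ 2 - 1) * ((Fintype.card F ^ 2 - 1) *
        ((Fintype.card F ^ 4 - 1) * (Fintype.card F ^ 6 - 1)))) := by
    rw [h8cent_card_subtype]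
    exact h8f4_cent_t h2
  have : Fact (Nat.Prime 2) := ⟨Nat.prime_two⟩
  refine ⟨s, t, ?_, ?_, ?_, ?_, ?_, ?_⟩
  · apply orderOf_eq_prime
    · rw [pow_two]
      exact Subtype.ext hs1
    · intro h
      exact hs2 (congrArg Subtype.val h)
  · apply orderOf_eq_prime
    · rw [pow_two]
      exact Subtype.ext ht1
    · intro h
      exact ht2 (congrArg Subtype.val h)
  · intro hconj
    rw [isConj_iff] at hconj
    obtain ⟨z, hz⟩ := hconj
    have h1 := h8_centralizer_conj s z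
    rw [hz] at h1
    have h3 : Nat.card (Subgroup.centralizer ({t} : Set ↥(chevF4.group F))) =
        Nat.card (Subgroup.centralizer ({s} : Set ↥(chevF4.group F))) := by
      rw [h1]
      exact Nat.card_congr (Subgroup.equivMapOfInjective _ (MulAut.conj z).toMonoidHom
        (MulAut.conj z).injective).symm.toEquiv
    rw [hcs, hct] at h3
    exact h8f4_card_ne _ hq h3.symm
  · intro u hu
    obtain ⟨y, hy | hy⟩ := h8f4_inv_std hF u hu
    · left
      rw [isConj_iff]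
      exact ⟨y, Subtype.ext hy⟩
    · right
      rw [isConj_iff]
      exact ⟨y, Subtype.ext hy⟩
  · rw [hcs]
    ring
  · rw [hct]
    ring

end Cfsg.Agent.Lib.helper8
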