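import Mathlib
import Cfsg.Prelude.Def_ChevStructure
import Cfsg.Prelude.Def_ChevG2
import Cfsg.Agent.Lib.helper8.ChevInvG2i
import Cfsg.Agent.Lib.helper8.ChevCent2

set_option autoImplicit false

namespace Cfsg.Agent.Lib.helper8

open Cfsg.Lie Cfsg.Lie.ChevalleyDatum

universe u

variable {F : Type u} [Field F]

theorem h8sq_cases [Fintype F] (c0 c1 : F) (h0 : c0 ≠ 0) (h1 : c1 ≠ 0) :
    (∃ b : F, b ≠ 0 ∧ -c1 = b ^ 2) ∨ (∃ b : F, b ≠ 0 ∧ -c0 = b ^ 2) ∨
    (∃ b : F, b ≠ 0 ∧ -(c0 * c1) = b ^ 2) ∨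
    ((¬ IsSquare (-1 : F)) ∧ ∃ x y : F, x ≠ 0 ∧ y ≠ 0 ∧ c0 = x ^ 2 ∧ c1 = y ^ 2) := by
  classical
  have sqof : ∀ z : F, z ≠ 0 → IsSquare z → ∃ b : F, b ≠ 0 ∧ z = b ^ 2 := by
    rintro z hz ⟨b, rfl⟩
    refine ⟨b, ?_, by ring⟩
    rintro rfl
    simp at hz
  by_cases hA : IsSquare (-c1)
  · exact Or.inl (sqof _ (neg_ne_zero.mpr h1) hA)
  by_cases hB : IsSquare (-c0)
  · exact Or.inr (Or.inl (sqof _ (neg_ne_zero.mpr h0) hB))
  by_cases hC : IsSquare (-(c0 * c1))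
  · exact Or.inr (Or.inr (Or.inl (sqof _ (neg_ne_zero.mpr (mul_ne_zero h0 h1)) hC)))
  refine Or.inr (Or.inr (Or.inr ?_))
  rw [← quadraticChar_neg_one_iff_not_isSquare] at hA hB hC
  have e1 : quadraticChar F (-c1) = quadraticChar F (-1) * quadraticChar F c1 := by
    rw [← map_mul]; congr 1; ring
  have e0 : quadraticChar F (-c0) = quadraticChar F (-1) * quadraticChar F c0 := by
    rw [← map_mul]; congr 1; ring
  have e2 : quadraticChar F (-(c0 * c1)) =
      quadraticChar F (-1) * (quadraticChar F c0 * quadraticChar F c1) := by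
    rw [← map_mul, ← map_mul]; congr 1; ring
  rw [e1] at hA
  rw [e0] at hB
  rw [e2] at hC
  have hm1 : (-1 : F) ≠ 0 := by simp
  rcases quadraticChar_dichotomy hm1 with hm | hm
  · rw [hm] at hA hB hC
    rw [one_mul] at hA hB hC
    rw [hA, hB] at hC
    norm_num at hC
  · rw [hm] at hA hB
    have hc0 : quadraticChar F c0 = 1 := by linarith
    have hc1 : quadraticChar F c1 = 1 := by linarith
    refine ⟨?_, ?_⟩
    · rw [← quadraticChar_neg_one_iff_not_isSquare]; exact hm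
    · obtain ⟨x, hx, ex⟩ := sqof c0 h0 ((quadraticChar_one_iff_isSquare h0).mp hc0)
      obtain ⟨y, hy, ey⟩ := sqof c1 h1 ((quadraticChar_one_iff_isSquare h1).mp hc1)
      exact ⟨x, y, hx, hy, ex, ey⟩

/-- the `SL₂` identities behind the conjugation trick -/
theorem h8iv_trick (a b : F) (hb : b ≠ 0) (hab : a ^ 2 + b ^ 2 = -1) :
    h8ivL (-((a - 1) / b)) * h8ivU (-b) * h8ivL (-((-a - 1) / b)) =
      (h8ivN (1 : F) one_ne_zero * h8ivN (1 : F) one_ne_zero) *
        (h8ivU ((a - 1) / b) * h8ivL b * h8ivU ((-a - 1) / b)) ∧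
    h8ivL (-((a - 1) / b)) * h8ivU (-b) * h8ivL (-((-a - 1) / b)) =
      (h8ivU ((a - 1) / b) * h8ivL b * h8ivU ((-a - 1) / b)) *
        (h8ivN (1 : F) one_ne_zero * h8ivN (1 : F) one_ne_zero) := by
  have h1 : a ^ 2 = -1 - b ^ 2 := by linear_combination hab
  constructor
  · apply Subtype.ext
    simp only [Matrix.SpecialLinearGroup.coe_mul, h8ivU_val, h8ivL_val, h8ivN_val]
    ext i j
    fin_cases i <;> fin_cases j <;>
      simp [Matrix.mul_apply, Fin.sum_univ_two] <;> field_simp <;>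
      first | ring1 | linear_combination h1 | linear_combination (-1 : F) * h1
  · apply Subtype.ext
    simp only [Matrix.SpecialLinearGroup.coe_mul, h8ivU_val, h8ivL_val, h8ivN_val]
    ext i j
    fin_cases i <;> fin_cases j <;>
      simp [Matrix.mul_apply, Fin.sum_univ_two] <;> field_simp <;>
      first | ring1 | linear_combination h1 | linear_combination (-1 : F) * h1

/-- the conjugation trick: the standard lift `n₀` of the longest element is conjugate to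
`h_β(-1) n₀` when `-1` is a sum of two squares `a² + b²` with `b ≠ 0` -/
theorem h8g2_w0_trick (hA : H8ReflAll chevG2) (a b : F) (hb : b ≠ 0)
    (hab : a ^ 2 + b ^ 2 = -1) :
    ∃ g ∈ chevG2.group F, g⁻¹ * h8nWU chevG2 (h8base_all.{u} chevG2 h8g2_mem) h8g2w0 * g =
      h8hU chevG2 (h8base_all.{u} chevG2 h8g2_mem) 6 (-1) *
        h8nWU chevG2 (h8base_all.{u} chevG2 h8g2_mem) h8g2w0 := by
  have hsc := h8scChk_all chevG2 h8g2_mem
  have hc2 := h8cartan_simple chevG2 h8g2_mem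
  obtain ⟨dep, par, horb⟩ := h8orb_chk_all chevG2 h8g2_mem
  obtain ⟨φ, hK, hup, hlo⟩ := h8slHom_all (F := F) chevG2 (h8base_all.{u} chevG2 h8g2_mem) hA hsc
    hc2 dep par horb 6 (by decide)
  have hneg : chevG2.negIdx.getD 6 0 = 5 := by decide
  rw [hneg] at hlo
  set n0 : GL chevG2.Idx F := h8nWU chevG2 (h8base_all.{u} chevG2 h8g2_mem) h8g2w0 with hn0
  have hU : ∀ t : F, n0 * φ (h8ivU t) * n0⁻¹ = φ (h8ivL (-t)) := by
    intro t
    rw [hup _ t (h8ivU_val t), hlo _ (-t) (h8ivL_val _), hn0,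
      h8g2_nW_conj _ hA h8g2w0 h8g2w0_lt 6 (by decide), h8g2w0_val 6 (by decide),
      h8g2w0_eps 6 (by decide), hneg]
    congr 1
    push_cast
    ring
  have hL : ∀ t : F, n0 * φ (h8ivL t) * n0⁻¹ = φ (h8ivU (-t)) := by
    intro t
    rw [hlo _ t (h8ivL_val t), hup _ (-t) (h8ivU_val _), hn0,
      h8g2_nW_conj _ hA h8g2w0 h8g2w0_lt 5 (by decide), h8g2w0_val 5 (by decide),
      h8g2w0_eps 5 (by decide)]
    have hneg5 : chevG2.negIdx.getD 5 0 = 6 := by decide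
    rw [hneg5]
    congr 1
    push_cast
    ring
  obtain ⟨e1, e2⟩ := h8iv_trick a b hb hab
  set M := h8ivU ((a - 1) / b) * h8ivL b * h8ivU ((-a - 1) / b) with hM
  have hconj : n0 * φ M * n0⁻¹ =
      φ (h8ivL (-((a - 1) / b)) * h8ivU (-b) * h8ivL (-((-a - 1) / b))) := by
    rw [hM, map_mul, map_mul, map_mul, map_mul, ← hU, ← hL, ← hU]
    group
  have hN1 : φ (h8ivN (1 : F) one_ne_zero * h8ivN (1 : F) one_ne_zero) =
      h8hU chevG2 (h8base_all.{u} chevG2 h8g2_mem) 6 (-1) := by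
    rw [map_mul, h8inv_phiN chevG2 _ 6 φ hup (by rw [hneg]; exact hlo) 1 one_ne_zero,
      h8slp_wsq chevG2 _ 6 (by decide)]
  refine ⟨φ M, ?_, ?_⟩
  · apply hK
    · intro t
      exact h8xU_mem_group chevG2 _ 6 t
    · intro t
      exact h8xU_mem_group chevG2 _ _ t
  · have h1 : n0 * φ M * n0⁻¹ = φ M * h8hU chevG2 (h8base_all.{u} chevG2 h8g2_mem) 6 (-1) := by
      rw [hconj, e2, map_mul, hN1]
    calc (φ M)⁻¹ * n0 * φ M = (φ M)⁻¹ * (n0 * φ M * n0⁻¹) * n0 := by group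
      _ = h8hU chevG2 (h8base_all.{u} chevG2 h8g2_mem) 6 (-1) * n0 := by rw [h1]; group

end Cfsg.Agent.Lib.helper8
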