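import Mathlib
import Cfsg.Prelude.Def_ChevStructure
import Cfsg.Prelude.Def_ChevG2
import Cfsg.Agent.Lib.helper8.ChevInvG2j

set_option autoImplicit false

namespace Cfsg.Agent.Lib.helper8

open Cfsg.Lie Cfsg.Lie.ChevalleyDatum

universe u

variable {F : Type u} [Field F]

theorem h8g2_w0_case7 (h2 : (2 : F) ≠ 0) (hA : H8ReflAll chevG2) (hBN : H8BN chevG2)
    (hW : H8BN2 chevG2) (hO2 : H8Ord2 chevG2) (c0 c1 : F) (h0 : c0 ≠ 0) (h1 : c1 ≠ 0)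
    (hnn : (h8g2T (h8base_all.{u} chevG2 h8g2_mem) c0 c1 *
        h8nWU chevG2 (h8base_all.{u} chevG2 h8g2_mem) h8g2w0) *
      (h8g2T (h8base_all.{u} chevG2 h8g2_mem) c0 c1 *
        h8nWU chevG2 (h8base_all.{u} chevG2 h8g2_mem) h8g2w0) = 1)
    (b : F) (hb : b ≠ 0) (hsq : -c1 = b ^ 2) :
    H8G2ConjH (h8g2T (h8base_all.{u} chevG2 h8g2_mem) c0 c1 *
        h8nWU chevG2 (h8base_all.{u} chevG2 h8g2_mem) h8g2w0) := by
  apply h8g2_w0_good h2 hA hBN hW hO2 c0 c1 h0 h1 hnn 7 (by decide) [0] (by decide)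
    (h8g2_Pi_n7 _ hA hBN hW hO2) [1, 0, 1, 0, 1] (by decide) (by decide +kernel) (c0 / b)
    (div_ne_zero h0 hb)
  rw [h8g2Chi_7, div_pow, ← hsq]
  field_simp

theorem h8g2_w0_case6 (h2 : (2 : F) ≠ 0) (hA : H8ReflAll chevG2) (hBN : H8BN chevG2)
    (hW : H8BN2 chevG2) (hO2 : H8Ord2 chevG2) (c0 c1 : F) (h0 : c0 ≠ 0) (h1 : c1 ≠ 0)
    (hnn : (h8g2T (h8base_all.{u} chevG2 h8g2_mem) c0 c1 *
        h8nWU chevG2 (h8base_all.{u} chevG2 h8g2_mem) h8g2w0) *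
      (h8g2T (h8base_all.{u} chevG2 h8g2_mem) c0 c1 *
        h8nWU chevG2 (h8base_all.{u} chevG2 h8g2_mem) h8g2w0) = 1)
    (b : F) (hb : b ≠ 0) (hsq : -c0 = b ^ 2) :
    H8G2ConjH (h8g2T (h8base_all.{u} chevG2 h8g2_mem) c0 c1 *
        h8nWU chevG2 (h8base_all.{u} chevG2 h8g2_mem) h8g2w0) := by
  apply h8g2_w0_good h2 hA hBN hW hO2 c0 c1 h0 h1 hnn 6 (by decide) [1] (by decide)
    (h8g2_Pi_n6 _ hA hBN hW hO2) [0, 1, 0, 1, 0] (by decide) (by decide +kernel) (c1 / (b * c0))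
    (div_ne_zero h1 (mul_ne_zero hb h0))
  rw [h8g2Chi_6, div_pow, mul_pow, ← hsq]
  field_simp

theorem h8g2_w0_case8 (h2 : (2 : F) ≠ 0) (hA : H8ReflAll chevG2) (hBN : H8BN chevG2)
    (hW : H8BN2 chevG2) (hO2 : H8Ord2 chevG2) (c0 c1 : F) (h0 : c0 ≠ 0) (h1 : c1 ≠ 0)
    (hnn : (h8g2T (h8base_all.{u} chevG2 h8g2_mem) c0 c1 *
        h8nWU chevG2 (h8base_all.{u} chevG2 h8g2_mem) h8g2w0) *
      (h8g2T (h8base_all.{u} chevG2 h8g2_mem) c0 c1 *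
        h8nWU chevG2 (h8base_all.{u} chevG2 h8g2_mem) h8g2w0) = 1)
    (b : F) (hb : b ≠ 0) (hsq : -(c0 * c1) = b ^ 2) :
    H8G2ConjH (h8g2T (h8base_all.{u} chevG2 h8g2_mem) c0 c1 *
        h8nWU chevG2 (h8base_all.{u} chevG2 h8g2_mem) h8g2w0) := by
  apply h8g2_w0_good h2 hA hBN hW hO2 c0 c1 h0 h1 hnn 8 (by decide) [1, 0, 1] (by decide)
    (h8g2_Pi_n8 _ hA hBN hW hO2) [0, 1, 0] (by decide) (by decide +kernel) (b / c0)
    (div_ne_zero hb h0)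
  rw [h8g2Chi_8, div_pow, ← hsq]
  field_simp

/-- the bad case: `-1` is not a square -/
theorem h8g2_w0_bad [Fintype F] (h2 : (2 : F) ≠ 0) (hA : H8ReflAll chevG2) (hBN : H8BN chevG2)
    (hW : H8BN2 chevG2) (hO2 : H8Ord2 chevG2) (hm1 : ¬ IsSquare (-1 : F))
    (hnn : h8nWU chevG2 (h8base_all.{u} chevG2 h8g2_mem) h8g2w0 *
      (h8nWU chevG2 (h8base_all.{u} chevG2 h8g2_mem) h8g2w0 : GL chevG2.Idx F) = 1) :
    H8G2ConjH (h8nWU chevG2 (h8base_all.{u} chevG2 h8g2_mem) h8g2w0 : GL chevG2.Idx F) := by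
  have hp : (ringChar F).Prime := CharP.char_is_prime F (ringChar F)
  have : NeZero (ringChar F) := ⟨hp.ne_zero⟩
  obtain ⟨a, b, hab⟩ := CharP.sq_add_sq F (ringChar F) (-1)
  have hab' : (a : F) ^ 2 + (b : F) ^ 2 = -1 := by
    rw [hab]; push_cast; ring
  have hb : (b : F) ≠ 0 := by
    intro hb0
    apply hm1
    refine ⟨(a : F), ?_⟩
    rw [← hab', hb0]
    ring
  obtain ⟨g, hg, hconj⟩ := h8g2_w0_trick hA (a : F) (b : F) hb hab'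
  have hT : h8g2T (h8base_all.{u} chevG2 h8g2_mem) (1 : F) (-1) =
      h8hU chevG2 (h8base_all.{u} chevG2 h8g2_mem) 6 (-1) := by
    unfold h8g2T h8ttH
    simp only [List.map_cons, List.map_nil, List.prod_cons, List.prod_nil, mul_one]
    rw [h8hU_one, one_mul]
  rw [← hT] at hconj
  have hconj' : g⁻¹ * h8nWU chevG2 (h8base_all.{u} chevG2 h8g2_mem) h8g2w0 * g⁻¹⁻¹ =
      h8g2T (h8base_all.{u} chevG2 h8g2_mem) (1 : F) (-1) *
        h8nWU chevG2 (h8base_all.{u} chevG2 h8g2_mem) h8g2w0 := by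
    rw [inv_inv]; exact hconj
  apply h8g2_conjH_of_conj _ _ g⁻¹ (Subgroup.inv_mem _ hg) hconj'
  have hnn' : (h8g2T (h8base_all.{u} chevG2 h8g2_mem) (1 : F) (-1) *
        h8nWU chevG2 (h8base_all.{u} chevG2 h8g2_mem) h8g2w0) *
      (h8g2T (h8base_all.{u} chevG2 h8g2_mem) (1 : F) (-1) *
        h8nWU chevG2 (h8base_all.{u} chevG2 h8g2_mem) h8g2w0) = 1 := by
    rw [← hconj]
    have : g⁻¹ * h8nWU chevG2 (h8base_all.{u} chevG2 h8g2_mem) h8g2w0 * g *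
        (g⁻¹ * h8nWU chevG2 (h8base_all.{u} chevG2 h8g2_mem) h8g2w0 * g) =
        g⁻¹ * (h8nWU chevG2 (h8base_all.{u} chevG2 h8g2_mem) h8g2w0 *
          h8nWU chevG2 (h8base_all.{u} chevG2 h8g2_mem) h8g2w0) * g := by group
    rw [this, hnn]
    group
  exact h8g2_w0_case7 h2 hA hBN hW hO2 1 (-1) one_ne_zero (by simp) hnn' 1 one_ne_zero (by simp)

/-- an involution of `N` over the longest element is conjugate into `H` -/
theorem h8g2_w0 [Fintype F] (h2 : (2 : F) ≠ 0) (hA : H8ReflAll chevG2) (hBN : H8BN chevG2)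
    (hW : H8BN2 chevG2) (hO2 : H8Ord2 chevG2) (n : ↥(chevG2.monomialSubgroup F))
    (hnn : n.val * n.val = 1)
    (hπ : h8Pi chevG2 (h8base_all.{u} chevG2 h8g2_mem) hA hBN hW hO2 n =
      h8wPerm chevG2 hA h8g2w0) :
    H8G2ConjH n.val := by
  obtain ⟨c0, c1, h0, h1, e⟩ := h8g2_N_param _ hA hBN hW hO2 n h8g2w0 h8g2w0_lt hπ
  rw [e] at hnn ⊢
  rcases h8sq_cases c0 c1 h0 h1 with ⟨b, hb, hsq⟩ | ⟨b, hb, hsq⟩ | ⟨b, hb, hsq⟩ |
    ⟨hm1, x, y, hx, hy, rfl, rfl⟩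
  · exact h8g2_w0_case7 h2 hA hBN hW hO2 c0 c1 h0 h1 hnn b hb hsq
  · exact h8g2_w0_case6 h2 hA hBN hW hO2 c0 c1 h0 h1 hnn b hb hsq
  · exact h8g2_w0_case8 h2 hA hBN hW hO2 c0 c1 h0 h1 hnn b hb hsq
  · have hc := h8g2_w0_conjT (h8base_all.{u} chevG2 h8g2_mem) hA hBN hW hO2 x y hx hy
    have hTG : h8g2T (h8base_all.{u} chevG2 h8g2_mem) x y ∈ chevG2.group F :=
      h8_H_le_group chevG2 (h8base_all.{u} chevG2 h8g2_mem) (h8g2T_mem _ x y hx hy)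
    have hc' : (h8g2T (h8base_all.{u} chevG2 h8g2_mem) x y)⁻¹ *
        (h8g2T (h8base_all.{u} chevG2 h8g2_mem) (x ^ 2) (y ^ 2) *
          h8nWU chevG2 (h8base_all.{u} chevG2 h8g2_mem) h8g2w0) *
        (h8g2T (h8base_all.{u} chevG2 h8g2_mem) x y)⁻¹⁻¹ =
        h8nWU chevG2 (h8base_all.{u} chevG2 h8g2_mem) h8g2w0 := by
      rw [← hc]; group
    apply h8g2_conjH_of_conj _ _ _ (Subgroup.inv_mem _ hTG) hc'
    apply h8g2_w0_bad h2 hA hBN hW hO2 hm1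
    rw [← hc']
    have : (h8g2T (h8base_all.{u} chevG2 h8g2_mem) x y)⁻¹ *
        (h8g2T (h8base_all.{u} chevG2 h8g2_mem) (x ^ 2) (y ^ 2) *
          h8nWU chevG2 (h8base_all.{u} chevG2 h8g2_mem) h8g2w0) *
        (h8g2T (h8base_all.{u} chevG2 h8g2_mem) x y)⁻¹⁻¹ *
        ((h8g2T (h8base_all.{u} chevG2 h8g2_mem) x y)⁻¹ *
        (h8g2T (h8base_all.{u} chevG2 h8g2_mem) (x ^ 2) (y ^ 2) *
          h8nWU chevG2 (h8base_all.{u} chevG2 h8g2_mem) h8g2w0) *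
        (h8g2T (h8base_all.{u} chevG2 h8g2_mem) x y)⁻¹⁻¹) =
        (h8g2T (h8base_all.{u} chevG2 h8g2_mem) x y)⁻¹ *
        ((h8g2T (h8base_all.{u} chevG2 h8g2_mem) (x ^ 2) (y ^ 2) *
          h8nWU chevG2 (h8base_all.{u} chevG2 h8g2_mem) h8g2w0) *
        (h8g2T (h8base_all.{u} chevG2 h8g2_mem) (x ^ 2) (y ^ 2) *
          h8nWU chevG2 (h8base_all.{u} chevG2 h8g2_mem) h8g2w0)) *
        (h8g2T (h8base_all.{u} chevG2 h8g2_mem) x y) := by group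
    rw [this, hnn]
    group

end Cfsg.Agent.Lib.helper8
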