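import Mathlib
import Cfsg.Prelude.Def_ChevStructure
import Cfsg.Prelude.Def_ChevG2
import Cfsg.Agent.Lib.helper8.ChevInvG2k

set_option autoImplicit false

namespace Cfsg.Agent.Lib.helper8

open Cfsg.Lie Cfsg.Lie.ChevalleyDatum

universe u

variable {F : Type u} [Field F]

/-- in odd characteristic every involution of `G₂(F)` is conjugate to an element of `H` -/
theorem h8g2_inv_conjH [Fintype F] (h2 : (2 : F) ≠ 0) (g : GL chevG2.Idx F)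
    (hg : g ∈ chevG2.group F) (hgg : g * g = 1) : H8G2ConjH g := by
  have hB := h8base_all.{u} chevG2 h8g2_mem
  have hA := h8reflAll chevG2 h8g2_mem
  have hBN := h8bn_all chevG2 h8g2_mem
  have hW := h8bn2_all chevG2 h8g2_mem
  obtain ⟨_, hO2⟩ := h8ord_all chevG2 h8g2_mem
  obtain ⟨u, hu, n, hn, hnn, e⟩ := h8inv_reduce chevG2 h8g2_mem h2 g hg hgg
  apply h8g2_conjH_of_conj g n u (h8_U_le_group chevG2 hu) e
  have hπW := h8Pi_mem_W chevG2 (h8base_all.{u} chevG2 h8g2_mem) hA hBN hW hO2 ⟨n, hn⟩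
  have hπsq : h8Pi chevG2 (h8base_all.{u} chevG2 h8g2_mem) hA hBN hW hO2 ⟨n, hn⟩ *
      h8Pi chevG2 (h8base_all.{u} chevG2 h8g2_mem) hA hBN hW hO2 ⟨n, hn⟩ = 1 := by
    rw [← map_mul]
    have : (⟨n, hn⟩ : ↥(chevG2.monomialSubgroup F)) * ⟨n, hn⟩ = 1 := Subtype.ext hnn
    rw [this, map_one]
  obtain ⟨w, hw, hπ⟩ := h8g2_W_inv_cases hA _ hπW hπsq
  simp only [h8g2InvWords, List.mem_cons, List.not_mem_nil, or_false] at hw
  rcases hw with rfl | rfl | rfl | rfl | rfl | rfl | rfl | rfl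
  · refine ⟨1, Subgroup.one_mem _, ?_⟩
    rw [one_mul, inv_one, mul_one]
    have h1 : h8wPerm chevG2 hA [] = 1 := rfl
    rw [h1] at hπ
    exact h8Pi_ker chevG2 _ hA hBN hW hO2 ⟨n, hn⟩ hπ
  · exact h8g2_refl h2 hA hBN hW hO2 ⟨n, hn⟩ hnn _ (by decide) hπ
  · exact h8g2_refl h2 hA hBN hW hO2 ⟨n, hn⟩ hnn _ (by decide) hπ
  · exact h8g2_refl h2 hA hBN hW hO2 ⟨n, hn⟩ hnn _ (by decide) hπ
  · exact h8g2_refl h2 hA hBN hW hO2 ⟨n, hn⟩ hnn _ (by decide) hπ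
  · exact h8g2_refl h2 hA hBN hW hO2 ⟨n, hn⟩ hnn _ (by decide) hπ
  · exact h8g2_refl h2 hA hBN hW hO2 ⟨n, hn⟩ hnn _ (by decide) hπ
  · exact h8g2_w0 h2 hA hBN hW hO2 ⟨n, hn⟩ hnn hπ

end Cfsg.Agent.Lib.helper8
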