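import Mathlib
import Cfsg.Prelude.Def_ChevStructure
import Cfsg.Prelude.Def_ChevG2
import Cfsg.Agent.Lib.helper8.ChevInvG2l

set_option autoImplicit false

namespace Cfsg.Agent.Lib.helper8

open Cfsg.Lie Cfsg.Lie.ChevalleyDatum

universe u

variable {F : Type u} [Field F]

/-- characters of the torus involutions: `s_α` maps `(-1,-1)` to `(1,-1)` -/
theorem h8g2_chi_sa : ∀ r < 12, h8g2Chi (-1 : F) (-1) r =
    h8g2Chi (1 : F) (-1) (chevG2.reflectRoot 0 r) := by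
  have hK : ∀ r < 12, Even (h8K chevG2 7 r + h8K chevG2 6 r - h8K chevG2 6 (chevG2.reflectRoot 0 r)) := by
    decide +kernel
  intro r hr
  unfold h8g2Chi
  rw [one_zpow, one_mul, ← zpow_add₀ (by simp : (-1 : F) ≠ 0)]
  obtain ⟨k, hk⟩ := hK r hr
  have : h8K chevG2 7 r + h8K chevG2 6 r = h8K chevG2 6 (chevG2.reflectRoot 0 r) + (k + k) := by
    omega
  rw [this, zpow_add₀ (by simp : (-1 : F) ≠ 0), ← two_mul, zpow_mul]
  simp

/-- characters of the torus involutions: `s_β` maps `(-1,1)` to `(-1,-1)` -/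
theorem h8g2_chi_sb : ∀ r < 12, h8g2Chi (-1 : F) (1) r =
    h8g2Chi (-1 : F) (-1) (chevG2.reflectRoot 1 r) := by
  have hK : ∀ r < 12, Even (h8K chevG2 7 r - h8K chevG2 7 (chevG2.reflectRoot 1 r)
      - h8K chevG2 6 (chevG2.reflectRoot 1 r)) := by
    decide +kernel
  intro r hr
  unfold h8g2Chi
  rw [one_zpow, mul_one, ← zpow_add₀ (by simp : (-1 : F) ≠ 0)]
  obtain ⟨k, hk⟩ := hK r hr
  have : h8K chevG2 7 r = h8K chevG2 7 (chevG2.reflectRoot 1 r) +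
      h8K chevG2 6 (chevG2.reflectRoot 1 r) + (k + k) := by
    omega
  rw [this, zpow_add₀ (by simp : (-1 : F) ≠ 0) _ (k + k), ← two_mul, zpow_mul]
  simp

/-- moving a torus element past the standard lift of a Weyl group element -/
theorem h8g2_nT_comm (hB : H8Base.{u} chevG2) (hA : H8ReflAll chevG2) (hBN : H8BN chevG2)
    (hW : H8BN2 chevG2) (hO2 : H8Ord2 chevG2) (w : List ℕ) (hw : ∀ i ∈ w, i < chevG2.rank)
    (c0 c1 d0 d1 : F) (hc0 : c0 ≠ 0) (hc1 : c1 ≠ 0) (hd0 : d0 ≠ 0) (hd1 : d1 ≠ 0)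
    (h : ∀ r < 12, h8g2Chi c0 c1 r = h8g2Chi d0 d1 (h8sW chevG2 w r)) :
    h8nWU chevG2 hB w * h8g2T hB c0 c1 = h8g2T hB d0 d1 * h8nWU chevG2 hB w := by
  have hHN : chevG2.diagonalSubgroup F ≤ chevG2.monomialSubgroup F := h8H_le_N chevG2
  have hnw := h8nWU_mem_N (F := F) chevG2 hB hA w hw
  apply h8N_ext chevG2 hB hA hBN hW hO2 (h8scChk_all chevG2 h8g2_mem)
  · exact Subgroup.mul_mem _ hnw (hHN (h8g2T_mem hB c0 c1 hc0 hc1))
  · exact Subgroup.mul_mem _ (hHN (h8g2T_mem hB d0 d1 hd0 hd1)) hnw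
  · intro r hr t
    have e : h8nWU chevG2 hB w * h8g2T hB c0 c1 * h8xU chevG2 hB r t *
        (h8nWU chevG2 hB w * h8g2T hB c0 c1)⁻¹ =
        h8nWU chevG2 hB w * (h8g2T hB c0 c1 * h8xU chevG2 hB r t * (h8g2T hB c0 c1)⁻¹) *
          (h8nWU chevG2 hB w)⁻¹ := by group
    rw [e, h8g2T_conj hB c0 c1 hc0 hc1 r hr, h8g2_nW_conj hB hA w hw r hr,
      h8g2_N_conj hB hA d0 d1 hd0 hd1 w hw r hr, h r hr]
    congr 1
    ring

/-- the central involution of the torus -/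
theorem h8g2T_one (hB : H8Base.{u} chevG2) : h8g2T hB (1 : F) 1 = 1 := by
  unfold h8g2T h8ttH
  simp only [List.map_cons, List.map_nil, List.prod_cons, List.prod_nil, mul_one]
  rw [h8hU_one, h8hU_one, one_mul]

/-- every involution of the torus is conjugate to `h_α(1) h_β(-1)` -/
theorem h8g2_H_inv_conj (hB : H8Base.{u} chevG2) (hA : H8ReflAll chevG2) (hBN : H8BN chevG2)
    (hW : H8BN2 chevG2) (hO2 : H8Ord2 chevG2) (h : GL chevG2.Idx F)
    (hh : h ∈ chevG2.diagonalSubgroup F) (hsq : h * h = 1) (hne : h ≠ 1) :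
    ∃ y ∈ chevG2.group F, y * h * y⁻¹ = h8g2T hB (1 : F) (-1) := by
  obtain ⟨c0, c1, h0, h1, rfl⟩ := h8g2T_param hB h hh
  have hm1 : (-1 : F) ≠ 0 := by simp
  -- the parameters are signs
  have hfix : ∀ r < 12, h8g2Chi c0 c1 r * (h8g2Chi c0 c1 r * 1) = 1 := by
    intro r hr
    have e1 : h8g2T hB c0 c1 * (h8g2T hB c0 c1 * h8xU chevG2 hB r 1 * (h8g2T hB c0 c1)⁻¹) *
        (h8g2T hB c0 c1)⁻¹ = h8xU chevG2 hB r (1 : F) := by
      have : h8g2T hB c0 c1 * (h8g2T hB c0 c1 * h8xU chevG2 hB r 1 * (h8g2T hB c0 c1)⁻¹) *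
          (h8g2T hB c0 c1)⁻¹ = (h8g2T hB c0 c1 * h8g2T hB c0 c1) * h8xU chevG2 hB r 1 *
          (h8g2T hB c0 c1 * h8g2T hB c0 c1)⁻¹ := by group
      rw [this, hsq]
      group
    rw [h8g2T_conj hB c0 c1 h0 h1 r hr, h8g2T_conj hB c0 c1 h0 h1 r hr] at e1
    exact h8xU_inj_t chevG2 hB hA hW r hr _ _ e1
  have hc0 : c0 = 1 ∨ c0 = -1 := by
    have := hfix 9 (by norm_num)
    rw [h8g2Chi_9, mul_one] at this
    exact mul_self_eq_one_iff.mp this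
  have hc1 : c1 = 1 ∨ c1 = -1 := by
    have := hfix 11 (by norm_num)
    rw [h8g2Chi_11, mul_one] at this
    exact mul_self_eq_one_iff.mp this
  have hn0G : (h8nWU chevG2 hB [0] : GL chevG2.Idx F) ∈ chevG2.group F :=
    h8_N_le_group chevG2 hB (h8nWU_mem_N chevG2 hB hA [0] (by decide))
  have hn1G : (h8nWU chevG2 hB [1] : GL chevG2.Idx F) ∈ chevG2.group F :=
    h8_N_le_group chevG2 hB (h8nWU_mem_N chevG2 hB hA [1] (by decide))
  have hA1 : h8nWU chevG2 hB [0] * h8g2T hB (-1 : F) (-1) * (h8nWU chevG2 hB [0])⁻¹ =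
      h8g2T hB (1 : F) (-1) := by
    rw [h8g2_nT_comm hB hA hBN hW hO2 [0] (by decide) (-1) (-1) 1 (-1) hm1 hm1 one_ne_zero hm1
      (fun r hr => h8g2_chi_sa r hr)]
    group
  have hB1 : h8nWU chevG2 hB [1] * h8g2T hB (-1 : F) 1 * (h8nWU chevG2 hB [1])⁻¹ =
      h8g2T hB (-1 : F) (-1) := by
    rw [h8g2_nT_comm hB hA hBN hW hO2 [1] (by decide) (-1) 1 (-1) (-1) hm1 one_ne_zero hm1 hm1
      (fun r hr => h8g2_chi_sb r hr)]
    group
  rcases hc0 with rfl | rfl <;> rcases hc1 with rfl | rfl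
  · exact absurd (h8g2T_one hB) hne
  · exact ⟨1, Subgroup.one_mem _, by group⟩
  · refine ⟨h8nWU chevG2 hB [0] * h8nWU chevG2 hB [1], Subgroup.mul_mem _ hn0G hn1G, ?_⟩
    rw [← hA1, ← hB1]
    group
  · exact ⟨h8nWU chevG2 hB [0], hn0G, hA1⟩

end Cfsg.Agent.Lib.helper8
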