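import Mathlib
import Cfsg.Prelude.Def_ChevStructure
import Cfsg.Prelude.Def_ChevG2
import Cfsg.Agent.Lib.helper8.ChevInvG2m

set_option autoImplicit false

namespace Cfsg.Agent.Lib.helper8

open Cfsg.Lie Cfsg.Lie.ChevalleyDatum

universe u

variable {F : Type u} [Field F]

theorem h8two_ne_zero_of_odd [Fintype F] (hF : Odd (Fintype.card F)) : (2 : F) ≠ 0 := by
  apply Ring.two_ne_zero
  intro h
  rw [FiniteField.even_card_iff_char_two] at h
  rcases hF with ⟨k, hk⟩
  omega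

/-- every involution of `G₂(F)`, `F` finite of odd order, is conjugate to `h_β(-1)` -/
theorem h8g2_inv_std [Fintype F] (hF : Odd (Fintype.card F)) (s : ↥(chevG2.group F))
    (hs : orderOf s = 2) :
    ∃ y : ↥(chevG2.group F), (y * s * y⁻¹).val =
      h8g2T (h8base_all.{u} chevG2 h8g2_mem) (1 : F) (-1) := by
  have h2 := h8two_ne_zero_of_odd hF
  have hB := h8base_all.{u} chevG2 h8g2_mem
  have hA := h8reflAll chevG2 h8g2_mem
  have hBN := h8bn_all chevG2 h8g2_mem
  have hW := h8bn2_all chevG2 h8g2_mem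
  obtain ⟨_, hO2⟩ := h8ord_all chevG2 h8g2_mem
  have hss : s * s = 1 := by
    rw [← pow_two, ← hs, pow_orderOf_eq_one]
  have hne : s ≠ 1 := by
    intro h
    rw [h, orderOf_one] at hs
    norm_num at hs
  have hss' : s.val * s.val = 1 := congrArg Subtype.val hss
  obtain ⟨y, hy, hyH⟩ := h8g2_inv_conjH h2 s.val s.2 hss'
  have hsq : (y * s.val * y⁻¹) * (y * s.val * y⁻¹) = 1 := by
    have : (y * s.val * y⁻¹) * (y * s.val * y⁻¹) = y * (s.val * s.val) * y⁻¹ := by group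
    rw [this, hss']
    group
  have hne' : y * s.val * y⁻¹ ≠ 1 := by
    intro h
    apply hne
    apply Subtype.ext
    have : s.val = y⁻¹ * (y * s.val * y⁻¹) * y := by group
    rw [this, h]
    show y⁻¹ * 1 * y = 1
    group
  obtain ⟨z, hz, hzc⟩ := h8g2_H_inv_conj (h8base_all.{u} chevG2 h8g2_mem) hA hBN hW hO2 _ hyH hsq hne'
  refine ⟨⟨z * y, Subgroup.mul_mem _ hz hy⟩, ?_⟩
  rw [← hzc]
  show z * y * s.val * (z * y)⁻¹ = _
  group

/-- in `G₂(F)`, `F` finite of odd order, any two involutions are conjugate -/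
theorem h8g2_inv_isConj [Fintype F] (hF : Odd (Fintype.card F)) (s t : ↥(chevG2.group F))
    (hs : orderOf s = 2) (ht : orderOf t = 2) : IsConj s t := by
  obtain ⟨y, hy⟩ := h8g2_inv_std hF s hs
  obtain ⟨z, hz⟩ := h8g2_inv_std hF t ht
  rw [isConj_iff]
  refine ⟨z⁻¹ * y, ?_⟩
  have e : y * s * y⁻¹ = z * t * z⁻¹ := Subtype.ext (by rw [hy, hz])
  calc z⁻¹ * y * s * (z⁻¹ * y)⁻¹ = z⁻¹ * (y * s * y⁻¹) * z := by group
    _ = t := by rw [e]; group

end Cfsg.Agent.Lib.helper8
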