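import Mathlib
import Cfsg.Prelude.Def_ChevStructure
import Cfsg.Prelude.Def_ChevG2
import Cfsg.Agent.Lib.helper8.ChevInvG2n
import Cfsg.Agent.Lib.helper8.ChevReeC2
import Cfsg.Agent.Lib.helper8.ChevTG3

set_option autoImplicit false

namespace Cfsg.Agent.Lib.helper8

open Cfsg.Lie Cfsg.Lie.ChevalleyDatum Matrix

universe u

variable {F : Type u} [Field F]

section slimage

variable (hB : H8Base.{u} chevG2) (c : ℕ)
  (φ : SpecialLinearGroup (Fin 2) F →* GL chevG2.Idx F)
  (hU : ∀ t, φ (h8slU t) = h8xU chevG2 hB c t)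
  (hL : ∀ t, φ (h8slL t) = h8xU chevG2 hB (chevG2.negIdx.getD c 0) t)

include hU hL in
theorem h8g2_phiW : φ h8slW = h8nU chevG2 hB c 1 := by
  rw [h8slW_eq, map_mul, map_mul, hU, hL, h8nU_eq]
  congr 2
  simp

include hU hL in
theorem h8g2_phiD (t : F) (ht : t ≠ 0) : φ (h8slD t) = h8hU chevG2 hB c t := by
  have h1 : φ (h8slD t) * φ h8slW = h8nU chevG2 hB c t := by
    rw [← map_mul, h8slD_eq t ht, map_mul, map_mul, hU, hL, h8nU_eq]
  rw [h8g2_phiW hB c φ hU hL, h8nU_eq_hU chevG2 hB c t] at h1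
  exact mul_right_cancel h1

include hU hL in
/-- the homomorphism `SL₂(F) → G₂(F)` attached to a positive root is injective -/
theorem h8g2_sl_inj (hA : H8ReflAll chevG2) (hBN : H8BN chevG2) (hW : H8BN2 chevG2)
    (hc : c < chevG2.nroots) (hpos : chevG2.IsPosRoot c) (r : ℕ) (hr : r < chevG2.nroots)
    (hK : h8K chevG2 c r = 1 ∨ h8K chevG2 c r = -1) : Function.Injective φ := by
  rw [injective_iff_map_eq_one]
  intro g hg
  have hnegc : chevG2.IsNegRoot (chevG2.negIdx.getD c 0) := by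
    have : ∀ c < 12, chevG2.IsPosRoot c → chevG2.IsNegRoot (chevG2.negIdx.getD c 0) := by
      decide +kernel
    exact this c hc hpos
  rcases h8sl_decomp g with ⟨_, h00, e⟩ | ⟨h10, e⟩
  · -- upper triangular
    rw [e, map_mul, hU, h8g2_phiD hB c φ hU hL _ h00] at hg
    have hx : h8xU chevG2 hB c (g 0 0 * g 0 1) = (h8hU chevG2 hB c (g 0 0))⁻¹ :=
      eq_inv_of_mul_eq_one_left hg
    have hmem : h8xU chevG2 hB c (g 0 0 * g 0 1) ∈
        chevG2.posUnipotent F ⊓ chevG2.diagonalSubgroup F := by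
      refine ⟨h8xU_mem_U chevG2 hB c hpos _, ?_⟩
      rw [hx]
      exact Subgroup.inv_mem _ (h8hU_mem_H chevG2 hB c hc _ h00)
    rw [h8_U_inf_H chevG2 hB, Subgroup.mem_bot] at hmem
    have ha : g 0 0 * g 0 1 = 0 := by
      apply h8xU_inj_t chevG2 hB hA hW c hc
      rw [hmem, h8xU_zero]
    rw [hmem, one_mul] at hg
    have hd : g 0 0 = 1 := by
      have h1 := h8tg_hconj chevG2 hB c r hc hr (g 0 0) h00 (1 : F)
      rw [hg, one_mul, inv_one, mul_one] at h1
      have h2 := h8xU_inj_t chevG2 hB hA hW r hr _ _ h1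
      rw [mul_one] at h2
      rcases hK with hK | hK
      · rw [hK, zpow_one] at h2
        exact h2.symm
      · rw [hK, _root_.zpow_neg, zpow_one] at h2
        exact (inv_eq_one.mp h2.symm)
    rw [e, ha, hd, h8slU_zero, h8slD_one, one_mul]
  · -- the big cell: impossible
    exfalso
    have hne : -(g 1 0) ≠ 0 := neg_ne_zero.mpr h10
    rw [e, map_mul, map_mul, map_mul, hU, hU, h8g2_phiW hB c φ hU hL,
      h8g2_phiD hB c φ hU hL _ hne] at hg
    have hn : h8nU chevG2 hB c (1 : F) ∈ chevG2.diagonalSubgroup F := by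
      obtain ⟨dep, par, horb⟩ := hBN.orb
      rw [← h8_B_inf_N chevG2 hB hA dep par horb]
      refine ⟨?_, h8nU_mem_N chevG2 hB c hc⟩
      have : h8nU chevG2 hB c (1 : F) = (h8xU chevG2 hB c (g 0 0 / g 1 0))⁻¹ *
          (h8hU chevG2 hB c (-(g 1 0)) * h8xU chevG2 hB c (g 1 1 / g 1 0))⁻¹ := by
        have e' : h8nU chevG2 hB c (1 : F) = (h8xU chevG2 hB c (g 0 0 / g 1 0))⁻¹ *
            (h8xU chevG2 hB c (g 0 0 / g 1 0) * (h8nU chevG2 hB c 1 *
              (h8hU chevG2 hB c (-(g 1 0)) * h8xU chevG2 hB c (g 1 1 / g 1 0)))) *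
            (h8hU chevG2 hB c (-(g 1 0)) * h8xU chevG2 hB c (g 1 1 / g 1 0))⁻¹ := by group
        rw [e', hg, mul_one]
      rw [this]
      refine Subgroup.mul_mem _ (Subgroup.inv_mem _ (h8U_le_B chevG2
        (h8xU_mem_U chevG2 hB c hpos _))) (Subgroup.inv_mem _ (Subgroup.mul_mem _
        (h8H_le_B chevG2 (h8hU_mem_H chevG2 hB c hc _ hne))
        (h8U_le_B chevG2 (h8xU_mem_U chevG2 hB c hpos _))))
    obtain ⟨k, hk, hact⟩ := h8perm_H_id chevG2 hB _ hn (chevG2.negIdx.getD c 0)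
      (by
        have : ∀ c < 12, chevG2.negIdx.getD c 0 < 12 := by decide
        exact this c hc)
    have h1 := hact 1
    rw [← h8g2_phiW hB c φ hU hL, ← hL, ← map_inv, ← map_mul, ← map_mul] at h1
    have h2 : h8slW * h8slL (1 : F) * h8slW⁻¹ = h8slU (-1) := by
      rw [h8slWL]; group
    rw [h2, hU] at h1
    exact h8x_pos_ne_neg chevG2 hB hBN hW hA c _ hpos hnegc (-1) _ (by simp) h1

end slimage

end Cfsg.Agent.Lib.helper8
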