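import Mathlib
import Cfsg.Prelude.Def_ChevStructure
import Cfsg.Prelude.Def_ChevG2
import Cfsg.Agent.Lib.helper8.ChevInvG2o
import Cfsg.Agent.Lib.helper8.ChevCnt3

set_option autoImplicit false

namespace Cfsg.Agent.Lib.helper8

open Cfsg.Lie Cfsg.Lie.ChevalleyDatum Matrix

universe u

variable {F : Type u} [Field F]

/-- conjugating a word of root elements by a torus element -/
theorem h8g2T_conj_word (hB : H8Base.{u} chevG2) (c0 c1 : F) (h0 : c0 ≠ 0) (h1 : c1 ≠ 0)
    (w : List (ℕ × F)) (hw : ∀ p ∈ w, p.1 < chevG2.nroots) :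
    h8g2T hB c0 c1 * h8wordU chevG2 hB w * (h8g2T hB c0 c1)⁻¹ =
      h8wordU chevG2 hB (w.map fun p => (p.1, h8g2Chi c0 c1 p.1 * p.2)) := by
  induction w with
  | nil =>
    show h8g2T hB c0 c1 * 1 * (h8g2T hB c0 c1)⁻¹ = 1
    group
  | cons p w ih =>
    have hw' : ∀ q ∈ w, q.1 < chevG2.nroots := fun q hq => hw q (List.mem_cons_of_mem _ hq)
    rw [List.map_cons, h8wordU_cons, h8wordU_cons, ← ih hw',
      ← h8g2T_conj hB c0 c1 h0 h1 p.1 (hw p List.mem_cons_self)]
    group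

omit [Field F] in
theorem h8g2_ordQ_all (t : ℕ → F) :
    h8ordQ chevG2 (fun _ => false) 0 t =
      [(11, t 11), (10, t 10), (9, t 9), (8, t 8), (7, t 7), (6, t 6)] := by
  have h : ((h8Lk chevG2 0).filter fun r => !(fun _ => false) r).reverse = [11, 10, 9, 8, 7, 6] := by
    decide +kernel
  unfold h8ordQ
  rw [h]
  rfl

omit [Field F] in
theorem h8g2_ordP_none (t : ℕ → F) : h8ordP chevG2 (fun _ => false) 0 t = [] := by
  unfold h8ordP
  simp

theorem h8g2_Lk_mem : ∀ r, r ∈ [6, 7, 8, 9, 10, 11] → r ∈ h8Lk chevG2 0 := by decide +kernel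

/-- the elements of `U` centralized by the involution `h_α(-1) h_β(-1)` -/
theorem h8g2_CU (h2 : (2 : F) ≠ 0) (hB : H8Base.{u} chevG2) (hC : H8CommAll.{u} chevG2)
    (hO : H8Ord chevG2) (hO2 : H8Ord2 chevG2) (u : GL chevG2.Idx F)
    (hu : u ∈ chevG2.posUnipotent F)
    (hcomm : h8g2T hB (-1 : F) (-1) * u * (h8g2T hB (-1 : F) (-1))⁻¹ = u) :
    ∃ a b : F, u = h8xU chevG2 hB 10 a * h8xU chevG2 hB 8 b := by
  have hm1 : (-1 : F) ≠ 0 := by simp
  obtain ⟨t, ht⟩ := h8split_main chevG2 hB hC hO (fun _ => false) u hu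
  rw [h8g2_ordP_none] at ht
  have e1 : h8wordU chevG2 hB ([] : List (ℕ × F)) = 1 := rfl
  rw [e1, one_mul] at ht
  have hconj := h8g2T_conj_word hB (-1 : F) (-1) hm1 hm1
    (h8ordQ chevG2 (fun _ => false) 0 t) (by
      rw [h8g2_ordQ_all]
      intro p hp
      simp only [List.mem_cons, List.not_mem_nil, or_false] at hp
      rcases hp with rfl | rfl | rfl | rfl | rfl | rfl <;> (dsimp only; decide))
  rw [← ht, hcomm] at hconj
  have hmap : (h8ordQ chevG2 (fun _ => false) 0 t).map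
      (fun p => (p.1, h8g2Chi (-1 : F) (-1) p.1 * p.2)) =
      h8ordQ chevG2 (fun _ => false) 0 (fun r => h8g2Chi (-1 : F) (-1) r * t r) := by
    rw [h8g2_ordQ_all, h8g2_ordQ_all]
    rfl
  rw [hmap, ht] at hconj
  have hun := h8ordQ_unique chevG2 hB hO2 (fun _ => false) chevG2.nroots 0 (by omega) _ _ hconj
  have hz : ∀ r ∈ [6, 7, 9, 11], t r = 0 := by
    have hchi : ∀ r ∈ [6, 7, 9, 11], h8g2Chi (-1 : F) (-1) r = -1 := by
      intro r hr
      simp only [List.mem_cons, List.not_mem_nil, or_false] at hr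
      rcases hr with rfl | rfl | rfl | rfl
      · rw [h8g2Chi_6]; norm_num
      · rw [h8g2Chi_7]; norm_num
      · rw [h8g2Chi_9]
      · rw [h8g2Chi_11]
    intro r hr
    have hr' : r ∈ [6, 7, 8, 9, 10, 11] := by
      simp only [List.mem_cons, List.not_mem_nil, or_false] at hr ⊢
      rcases hr with rfl | rfl | rfl | rfl <;> simp
    have h3 := hun r (h8g2_Lk_mem r hr') rfl
    rw [hchi r hr] at h3
    have h4 : (2 : F) * t r = 0 := by linear_combination h3
    rcases mul_eq_zero.mp h4 with h5 | h5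
    · exact absurd h5 h2
    · exact h5
  refine ⟨t 10, t 8, ?_⟩
  rw [ht, h8g2_ordQ_all, hz 6 (by simp), hz 7 (by simp), hz 9 (by simp), hz 11 (by simp)]
  simp only [h8wordU_cons, h8xU_zero]
  rw [e1]
  group

end Cfsg.Agent.Lib.helper8
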