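import Mathlib
import Cfsg.Prelude.Def_ChevStructure
import Cfsg.Prelude.Def_ChevG2
import Cfsg.Agent.Lib.helper8.ChevInvG2p

set_option autoImplicit false

namespace Cfsg.Agent.Lib.helper8

open Cfsg.Lie Cfsg.Lie.ChevalleyDatum Matrix

universe u

variable {F : Type u} [Field F]

theorem h8g2Chi_mul (a b c d : F) (r : ℕ) :
    h8g2Chi (a * c) (b * d) r = h8g2Chi a b r * h8g2Chi c d r := by
  unfold h8g2Chi
  rw [mul_zpow, mul_zpow]
  ring

/-- the torus parametrization is multiplicative -/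
theorem h8g2T_mul (hB : H8Base.{u} chevG2) (hA : H8ReflAll chevG2) (hW : H8BN2 chevG2)
    (a b c d : F) (ha : a ≠ 0) (hb : b ≠ 0) (hc : c ≠ 0) (hd : d ≠ 0) :
    h8g2T hB a b * h8g2T hB c d = h8g2T hB (a * c) (b * d) := by
  apply h8H_ext chevG2 hB hA hW (h8scChk_all chevG2 h8g2_mem)
  · exact Subgroup.mul_mem _ (h8g2T_mem hB a b ha hb) (h8g2T_mem hB c d hc hd)
  · exact h8g2T_mem hB _ _ (mul_ne_zero ha hc) (mul_ne_zero hb hd)
  · intro r hr
    have e : (h8g2T hB a b * h8g2T hB c d) * h8xU chevG2 hB r 1 *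
        (h8g2T hB a b * h8g2T hB c d)⁻¹ =
        h8g2T hB a b * (h8g2T hB c d * h8xU chevG2 hB r 1 * (h8g2T hB c d)⁻¹) *
          (h8g2T hB a b)⁻¹ := by group
    rw [e, h8g2T_conj hB c d hc hd r hr, h8g2T_conj hB a b ha hb r hr,
      h8g2T_conj hB _ _ (mul_ne_zero ha hc) (mul_ne_zero hb hd) r hr, h8g2Chi_mul]
    congr 1
    ring

theorem h8g2K_10 : ∀ r < 12, h8K chevG2 10 r = h8K chevG2 7 r + h8K chevG2 6 r := by
  decide +kernel

theorem h8g2K_8 : ∀ r < 12, h8K chevG2 8 r = h8K chevG2 7 r + 3 * h8K chevG2 6 r := by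
  decide +kernel

/-- the coroot of `3α+β` -/
theorem h8g2_hU10 (hB : H8Base.{u} chevG2) (hA : H8ReflAll chevG2) (hW : H8BN2 chevG2)
    (a : F) (ha : a ≠ 0) : h8hU chevG2 hB 10 a = h8g2T hB a a := by
  apply h8H_ext chevG2 hB hA hW (h8scChk_all chevG2 h8g2_mem)
  · exact h8hU_mem_H chevG2 hB 10 (by decide) a ha
  · exact h8g2T_mem hB a a ha ha
  · intro r hr
    rw [h8tg_hconj chevG2 hB 10 r (by decide) hr a ha, h8g2T_conj hB a a ha ha r hr]
    congr 1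
    unfold h8g2Chi
    rw [h8g2K_10 r hr, zpow_add₀ ha]

/-- the coroot of `α+β` -/
theorem h8g2_hU8 (hB : H8Base.{u} chevG2) (hA : H8ReflAll chevG2) (hW : H8BN2 chevG2)
    (b : F) (hb : b ≠ 0) : h8hU chevG2 hB 8 b = h8g2T hB b (b ^ 3) := by
  apply h8H_ext chevG2 hB hA hW (h8scChk_all chevG2 h8g2_mem)
  · exact h8hU_mem_H chevG2 hB 8 (by decide) b hb
  · exact h8g2T_mem hB b (b ^ 3) hb (pow_ne_zero _ hb)
  · intro r hr
    rw [h8tg_hconj chevG2 hB 8 r (by decide) hr b hb,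
      h8g2T_conj hB b (b ^ 3) hb (pow_ne_zero _ hb) r hr]
    congr 1
    unfold h8g2Chi
    have e3 : (b ^ 3 : F) = b ^ ((3 : ℕ) : ℤ) := (zpow_natCast b 3).symm
    rw [h8g2K_8 r hr, zpow_add₀ hb, e3, ← _root_.zpow_mul]
    rfl

section homs

variable (hB : H8Base.{u} chevG2)
  (φ φ' : SpecialLinearGroup (Fin 2) F →* GL chevG2.Idx F)
  (hU : ∀ t, φ (h8slU t) = h8xU chevG2 hB 10 t)
  (hL : ∀ t, φ (h8slL t) = h8xU chevG2 hB 1 t)
  (hU' : ∀ t, φ' (h8slU t) = h8xU chevG2 hB 8 t)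
  (hL' : ∀ t, φ' (h8slL t) = h8xU chevG2 hB 3 t)

include hU hL in
theorem h8g2_phi_inj (hA : H8ReflAll chevG2) (hBN : H8BN chevG2) (hW : H8BN2 chevG2) :
    Function.Injective φ :=
  h8g2_sl_inj hB 10 φ hU hL hA hBN hW (by decide) (by decide) 0 (by decide)
    (Or.inr (by decide +kernel))

include hU' hL' in
theorem h8g2_phi'_inj (hA : H8ReflAll chevG2) (hBN : H8BN chevG2) (hW : H8BN2 chevG2) :
    Function.Injective φ' :=
  h8g2_sl_inj hB 8 φ' hU' hL' hA hBN hW (by decide) (by decide) 2 (by decide)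
    (Or.inr (by decide +kernel))

include hU hL in
theorem h8g2_phi_neg (hA : H8ReflAll chevG2) (hW : H8BN2 chevG2) :
    φ (-1) = h8g2T hB (-1 : F) (-1) := by
  have hm1 : (-1 : F) ≠ 0 := by simp
  rw [← h8slD_neg_one, h8g2_phiD hB 10 φ hU hL (-1) hm1, h8g2_hU10 hB hA hW (-1) hm1]

include hU' hL' in
theorem h8g2_phi'_neg (hA : H8ReflAll chevG2) (hW : H8BN2 chevG2) :
    φ' (-1) = h8g2T hB (-1 : F) (-1) := by
  have hm1 : (-1 : F) ≠ 0 := by simp
  rw [← h8slD_neg_one, h8g2_phiD hB 8 φ' hU' hL' (-1) hm1, h8g2_hU8 hB hA hW (-1) hm1]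
  norm_num

include hU hL in
theorem h8g2_phi_mem (g : SpecialLinearGroup (Fin 2) F) : φ g ∈ chevG2.group F := by
  have h := h8sl_gen ((chevG2.group F).comap φ)
    (fun t => by
      rw [Subgroup.mem_comap, hU]
      exact h8xU_mem_group chevG2 hB 10 t)
    (fun t => by
      rw [Subgroup.mem_comap, hL]
      exact h8xU_mem_group chevG2 hB 1 t) g
  exact h

end homs

end Cfsg.Agent.Lib.helper8
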