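import Mathlib
import Cfsg.Agent.Lib.helper8.ChevReeD4

set_option autoImplicit false

namespace Cfsg.Agent.Lib.helper8

open Matrix

variable {F : Type*} [Field F]

theorem h8slU_entries (t : F) : (h8slU t) 0 0 = 1 ∧ (h8slU t) 0 1 = t ∧ (h8slU t) 1 0 = 0 ∧
    (h8slU t) 1 1 = 1 := by
  refine ⟨?_, ?_, ?_, ?_⟩ <;> simp [h8slU_val]

theorem h8slL_entries (t : F) : (h8slL t) 0 0 = 1 ∧ (h8slL t) 0 1 = 0 ∧ (h8slL t) 1 0 = t ∧
    (h8slL t) 1 1 = 1 := by
  refine ⟨?_, ?_, ?_, ?_⟩ <;> simp [h8slL_val]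

/-- an element of `SL₂` commuting with the two elementary unipotent matrices is `±1` -/
theorem h8sl_central (g : SpecialLinearGroup (Fin 2) F) (hU : g * h8slU 1 = h8slU 1 * g)
    (hL : g * h8slL 1 = h8slL 1 * g) : g = 1 ∨ g = -1 := by
  have hdet := h8sl_det g
  obtain ⟨u00, u01, u10, u11⟩ := h8slU_entries (1 : F)
  obtain ⟨l00, l01, l10, l11⟩ := h8slL_entries (1 : F)
  have eU := h8sl_entries_mul g (h8slU 1)
  have eU' := h8sl_entries_mul (h8slU 1) g
  have eL := h8sl_entries_mul g (h8slL 1)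
  have eL' := h8sl_entries_mul (h8slL 1) g
  rw [u00, u01, u10, u11] at eU eU'
  rw [l00, l01, l10, l11] at eL eL'
  have h00 : ((g * h8slU 1 : SpecialLinearGroup (Fin 2) F)) 0 0 = ((h8slU 1 * g : SpecialLinearGroup (Fin 2) F)) 0 0 := by rw [hU]
  have h01 : ((g * h8slU 1 : SpecialLinearGroup (Fin 2) F)) 0 1 = ((h8slU 1 * g : SpecialLinearGroup (Fin 2) F)) 0 1 := by rw [hU]
  have k00 : ((g * h8slL 1 : SpecialLinearGroup (Fin 2) F)) 0 0 = ((h8slL 1 * g : SpecialLinearGroup (Fin 2) F)) 0 0 := by rw [hL]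
  rw [eU.1, eU'.1] at h00
  rw [eU.2.1, eU'.2.1] at h01
  rw [eL.1, eL'.1] at k00
  have hc : g 1 0 = 0 := by linear_combination (-1 : F) * h00
  have had : g 0 0 = g 1 1 := by linear_combination h01
  have hb : g 0 1 = 0 := by linear_combination k00
  rw [hc, hb, ← had] at hdet
  have hsq : g 0 0 * g 0 0 = 1 := by linear_combination hdet
  rcases mul_self_eq_one_iff.mp hsq with h1 | h1
  · left
    apply h8sl_ext
    · rw [h1]; simp
    · rw [hb]; simp
    · rw [hc]; simp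
    · rw [← had, h1]; simp
  · right
    apply h8sl_ext
    · rw [h8sl_entries_neg, h1]; simp
    · rw [h8sl_entries_neg, hb]; simp
    · rw [h8sl_entries_neg, hc]; simp
    · rw [h8sl_entries_neg, ← had, h1]; simp

/-- conjugating the elementary unipotent matrix: the parameter changes by a square -/
theorem h8sl_conjU (g : SpecialLinearGroup (Fin 2) F) (χ : F)
    (h : g * h8slU 1 = h8slU χ * g) : χ = (g 0 0) ^ 2 := by
  have hdet := h8sl_det g
  obtain ⟨u00, u01, u10, u11⟩ := h8slU_entries (1 : F)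
  obtain ⟨v00, v01, v10, v11⟩ := h8slU_entries χ
  have eU := h8sl_entries_mul g (h8slU 1)
  have eU' := h8sl_entries_mul (h8slU χ) g
  rw [u00, u01, u10, u11] at eU
  rw [v00, v01, v10, v11] at eU'
  have h01 : ((g * h8slU 1 : SpecialLinearGroup (Fin 2) F)) 0 1 = ((h8slU χ * g : SpecialLinearGroup (Fin 2) F)) 0 1 := by rw [h]
  have h11 : ((g * h8slU 1 : SpecialLinearGroup (Fin 2) F)) 1 1 = ((h8slU χ * g : SpecialLinearGroup (Fin 2) F)) 1 1 := by rw [h]
  rw [eU.2.1, eU'.2.1] at h01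
  rw [eU.2.2.2, eU'.2.2.2] at h11
  have hc : g 1 0 = 0 := by linear_combination h11
  have ha : g 0 0 = χ * g 1 1 := by linear_combination h01
  rw [hc] at hdet
  have hdet' : g 0 0 * g 1 1 = 1 := by linear_combination hdet
  calc χ = χ * (g 0 0 * g 1 1) := by rw [hdet', mul_one]
    _ = g 0 0 * (χ * g 1 1) := by ring
    _ = g 0 0 ^ 2 := by rw [← ha]; ring

/-- two commuting injective images of `SL₂` meet in the image of the centre -/
theorem h8sl_inter {Γ : Type*} [Group Γ] (φ φ' : SpecialLinearGroup (Fin 2) F →* Γ)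
    (hinj : Function.Injective φ) (hinj' : Function.Injective φ')
    (hc : ∀ g g', Commute (φ g) (φ' g')) (hneg : φ (-1) = φ' (-1))
    (g₁ g₂ : SpecialLinearGroup (Fin 2) F) (h : φ g₁ = φ' g₂) :
    (g₁ = 1 ∧ g₂ = 1) ∨ (g₁ = -1 ∧ g₂ = -1) := by
  have hcen : ∀ g', g₂ * g' = g' * g₂ := by
    intro g'
    apply hinj'
    rw [map_mul, map_mul, ← h]
    exact (hc g₁ g').eq
  rcases h8sl_central g₂ (hcen _) (hcen _) with h2 | h2
  · left
    refine ⟨?_, h2⟩
    apply hinj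
    rw [h, h2, map_one, map_one]
  · right
    refine ⟨?_, h2⟩
    apply hinj
    rw [h, h2, hneg]

end Cfsg.Agent.Lib.helper8
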