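import Mathlib
import Cfsg.Prelude.Def_ChevStructure
import Cfsg.Prelude.Def_ChevG2
import Cfsg.Agent.Lib.helper8.ChevInvG2q

set_option autoImplicit false

namespace Cfsg.Agent.Lib.helper8

open Cfsg.Lie Cfsg.Lie.ChevalleyDatum Matrix

universe u

variable {F : Type u} [Field F]

/-- the roots on which the central involution of the torus is trivial -/
theorem h8g2Chi_m1_good : ∀ r ∈ [1, 3, 8, 10], h8g2Chi (-1 : F) (-1) r = 1 := by
  intro r hr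
  simp only [List.mem_cons, List.not_mem_nil, or_false] at hr
  rcases hr with rfl | rfl | rfl | rfl
  · rw [h8g2Chi_1]; norm_num
  · rw [h8g2Chi_3]; norm_num
  · rw [h8g2Chi_8]; norm_num
  · rw [h8g2Chi_10]; norm_num

theorem h8g2Chi_m1_bad : ∀ r ∈ [0, 2, 4, 5, 6, 7, 9, 11], h8g2Chi (-1 : F) (-1) r = -1 := by
  intro r hr
  simp only [List.mem_cons, List.not_mem_nil, or_false] at hr
  rcases hr with rfl | rfl | rfl | rfl | rfl | rfl | rfl | rfl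
  · rw [h8g2Chi_0]; norm_num
  · rw [h8g2Chi_2]; norm_num
  · rw [h8g2Chi_4]; norm_num
  · rw [h8g2Chi_5]; norm_num
  · rw [h8g2Chi_6]; norm_num
  · rw [h8g2Chi_7]; norm_num
  · rw [h8g2Chi_9]
  · rw [h8g2Chi_11]

theorem h8g2_word_good : ∀ w ∈ h8g2Words,
    w ∈ [[], [0, 1, 0], [1, 0, 1], [0, 1, 0, 1, 0, 1]] ∨
      ∃ r ∈ [1, 3, 8, 10], h8sW chevG2 w r ∈ [0, 2, 4, 5, 6, 7, 9, 11] := by
  decide +kernel

theorem h8g2_eps_pm : ∀ w ∈ h8g2Words, ∀ r < 12, h8g2Eps w r = 1 ∨ h8g2Eps w r = -1 := by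
  decide +kernel

theorem h8g2_good_lt : ∀ r ∈ [1, 3, 8, 10], r < chevG2.nroots := by decide

theorem h8g2_same_Pi (hB : H8Base.{u} chevG2) (hA : H8ReflAll chevG2) (hBN : H8BN chevG2)
    (hW : H8BN2 chevG2) (hO2 : H8Ord2 chevG2) (n m : ↥(chevG2.monomialSubgroup F))
    (h : h8Pi chevG2 hB hA hBN hW hO2 n = h8Pi chevG2 hB hA hBN hW hO2 m) :
    m.val⁻¹ * n.val ∈ chevG2.diagonalSubgroup F := by
  have := h8Pi_ker chevG2 hB hA hBN hW hO2 (m⁻¹ * n) (by rw [map_mul, map_inv, h, inv_mul_cancel])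
  exact this

theorem h8g2_Pi_n10 (hB : H8Base.{u} chevG2) (hA : H8ReflAll chevG2) (hBN : H8BN chevG2)
    (hW : H8BN2 chevG2) (hO2 : H8Ord2 chevG2) :
    h8Pi chevG2 hB hA hBN hW hO2 ⟨h8nU chevG2 hB 10 (1 : F), h8nU_mem_N chevG2 hB 10 (by decide)⟩ =
      h8wPerm chevG2 hA [0, 1, 0] := by
  have h := h8Pi_conj (F := F) chevG2 hB hA hBN hW hO2 [0] (by decide) 6 (by decide)
  rw [h8g2_Pi_n6 hB hA hBN hW hO2, h8wPerm_inv] at h
  have e : (⟨h8nU chevG2 hB (h8sW chevG2 [0] 6) (1 : F),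
      h8nU_mem_N chevG2 hB _ (h8sW_lt chevG2 hA [0] (by decide) 6 (by decide))⟩ :
      ↥(chevG2.monomialSubgroup F)) =
      ⟨h8nU chevG2 hB 10 (1 : F), h8nU_mem_N chevG2 hB 10 (by decide)⟩ := by
    apply Subtype.ext
    exact congrArg (fun c => h8nU chevG2 hB c (1 : F)) (by decide : h8sW chevG2 [0] 6 = 10)
  rw [e] at h
  rw [← h, ← h8wPerm_append, ← h8wPerm_append]
  rfl

/-- the elements of `N` centralized by the central involution of the torus -/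
theorem h8g2_CN (h2 : (2 : F) ≠ 0) (hB : H8Base.{u} chevG2) (hA : H8ReflAll chevG2)
    (hBN : H8BN chevG2) (hW : H8BN2 chevG2) (hO2 : H8Ord2 chevG2) (n : GL chevG2.Idx F)
    (hn : n ∈ chevG2.monomialSubgroup F)
    (hcomm : h8g2T hB (-1 : F) (-1) * n * (h8g2T hB (-1 : F) (-1))⁻¹ = n) :
    ∃ m : GL chevG2.Idx F, (m = 1 ∨ m = h8nU chevG2 hB 10 1 ∨ m = h8nU chevG2 hB 8 1 ∨
      m = h8nU chevG2 hB 10 1 * h8nU chevG2 hB 8 1) ∧ m⁻¹ * n ∈ chevG2.diagonalSubgroup F := by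
  have hm1 : (-1 : F) ≠ 0 := by simp
  obtain ⟨w, hw, hπ⟩ := h8g2_W_cases hA (h8Pi chevG2 hB hA hBN hW hO2 ⟨n, hn⟩)
    (h8Pi_mem_W chevG2 hB hA hBN hW hO2 ⟨n, hn⟩)
  have hwlt := h8g2Words_lt w hw
  obtain ⟨c0, c1, h0, h1, e⟩ := h8g2_N_param hB hA hBN hW hO2 ⟨n, hn⟩ w hwlt hπ
  have e' : n = h8g2T hB c0 c1 * h8nWU chevG2 hB w := e
  have hn10 : h8nU chevG2 hB 10 (1 : F) ∈ chevG2.monomialSubgroup F :=
    h8nU_mem_N chevG2 hB 10 (by decide)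
  have hn8 : h8nU chevG2 hB 8 (1 : F) ∈ chevG2.monomialSubgroup F :=
    h8nU_mem_N chevG2 hB 8 (by decide)
  rcases h8g2_word_good w hw with hg | ⟨r, hr, hbad⟩
  · simp only [List.mem_cons, List.not_mem_nil, or_false] at hg
    rcases hg with rfl | rfl | rfl | rfl
    · refine ⟨1, Or.inl rfl, ?_⟩
      have := h8g2_same_Pi hB hA hBN hW hO2 ⟨n, hn⟩ 1 (by rw [hπ, map_one]; rfl)
      exact this
    · refine ⟨_, Or.inr (Or.inl rfl), ?_⟩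
      exact h8g2_same_Pi hB hA hBN hW hO2 ⟨n, hn⟩ ⟨_, hn10⟩
        (by rw [hπ, h8g2_Pi_n10 hB hA hBN hW hO2])
    · refine ⟨_, Or.inr (Or.inr (Or.inl rfl)), ?_⟩
      exact h8g2_same_Pi hB hA hBN hW hO2 ⟨n, hn⟩ ⟨_, hn8⟩
        (by rw [hπ, h8g2_Pi_n8 hB hA hBN hW hO2])
    · refine ⟨_, Or.inr (Or.inr (Or.inr rfl)), ?_⟩
      have hmul : (⟨h8nU chevG2 hB 10 (1 : F) * h8nU chevG2 hB 8 (1 : F),
          Subgroup.mul_mem _ hn10 hn8⟩ : ↥(chevG2.monomialSubgroup F)) =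
          ⟨_, hn10⟩ * ⟨_, hn8⟩ := rfl
      exact h8g2_same_Pi hB hA hBN hW hO2 ⟨n, hn⟩ ⟨_, Subgroup.mul_mem _ hn10 hn8⟩
        (by rw [hπ, hmul, map_mul, h8g2_Pi_n10 hB hA hBN hW hO2, h8g2_Pi_n8 hB hA hBN hW hO2,
          ← h8wPerm_append]; rfl)
  · exfalso
    have hrlt := h8g2_good_lt r hr
    have hwr : h8sW chevG2 w r < chevG2.nroots := h8sW_lt chevG2 hA w hwlt r hrlt
    have e1 : h8g2T hB (-1 : F) (-1) * (n * h8xU chevG2 hB r 1 * n⁻¹) *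
        (h8g2T hB (-1 : F) (-1))⁻¹ =
        n * (h8g2T hB (-1 : F) (-1) * h8xU chevG2 hB r 1 * (h8g2T hB (-1 : F) (-1))⁻¹) * n⁻¹ := by
      have : h8g2T hB (-1 : F) (-1) * (n * h8xU chevG2 hB r 1 * n⁻¹) *
          (h8g2T hB (-1 : F) (-1))⁻¹ =
          (h8g2T hB (-1 : F) (-1) * n * (h8g2T hB (-1 : F) (-1))⁻¹) *
            (h8g2T hB (-1 : F) (-1) * h8xU chevG2 hB r 1 * (h8g2T hB (-1 : F) (-1))⁻¹) *
            (h8g2T hB (-1 : F) (-1) * n * (h8g2T hB (-1 : F) (-1))⁻¹)⁻¹ := by group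
      rw [this, hcomm]
    rw [h8g2T_conj hB (-1) (-1) hm1 hm1 r hrlt, e', h8g2_N_conj hB hA c0 c1 h0 h1 w hwlt r hrlt,
      h8g2_N_conj hB hA c0 c1 h0 h1 w hwlt r hrlt,
      h8g2T_conj hB (-1) (-1) hm1 hm1 _ hwr, h8g2Chi_m1_good r hr, h8g2Chi_m1_bad _ hbad] at e1
    have e2 := h8xU_inj_t chevG2 hB hA hW _ hwr _ _ e1
    have hchi := h8g2Chi_ne c0 c1 h0 h1 (h8sW chevG2 w r)
    have heps : ((h8g2Eps w r : ℤ) : F) ≠ 0 := by
      rcases h8g2_eps_pm w hw r hrlt with h | h <;> rw [h] <;> simp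
    have e3 : (2 : F) * (h8g2Chi c0 c1 (h8sW chevG2 w r) * ((h8g2Eps w r : ℤ) : F)) = 0 := by
      linear_combination (-1 : F) * e2
    rcases mul_eq_zero.mp e3 with h | h
    · exact h2 h
    · rcases mul_eq_zero.mp h with h | h
      · exact hchi h
      · exact heps h

end Cfsg.Agent.Lib.helper8
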