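import Mathlib
import Cfsg.Prelude.Def_ChevStructure
import Cfsg.Prelude.Def_ChevG2
import Cfsg.Agent.Lib.helper8.ChevInvG2s

set_option autoImplicit false

namespace Cfsg.Agent.Lib.helper8

open Cfsg.Lie Cfsg.Lie.ChevalleyDatum Matrix

universe u

variable {F : Type u} [Field F]

section homs

variable (hB : H8Base.{u} chevG2)
  (φ φ' : SpecialLinearGroup (Fin 2) F →* GL chevG2.Idx F)
  (hU : ∀ t, φ (h8slU t) = h8xU chevG2 hB 10 t)
  (hL : ∀ t, φ (h8slL t) = h8xU chevG2 hB 1 t)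
  (hU' : ∀ t, φ' (h8slU t) = h8xU chevG2 hB 8 t)
  (hL' : ∀ t, φ' (h8slL t) = h8xU chevG2 hB 3 t)
  (M : Subgroup (GL chevG2.Idx F)) (hφM : ∀ g, φ g ∈ M) (hφM' : ∀ g, φ' g ∈ M)

include hU hL hU' hL' hφM hφM' in
/-- the centralizer of the central involution of the torus is `M H` -/
theorem h8g2_struct (h2 : (2 : F) ≠ 0) (hA : H8ReflAll chevG2) (hC : H8CommAll.{u} chevG2)
    (hBN : H8BN chevG2) (hW : H8BN2 chevG2) (hO : H8Ord chevG2) (hO2 : H8Ord2 chevG2)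
    (g : GL chevG2.Idx F) (hg : g ∈ chevG2.group F)
    (hcomm : h8g2T hB (-1 : F) (-1) * g * (h8g2T hB (-1 : F) (-1))⁻¹ = g) :
    ∃ m ∈ M, ∃ h ∈ chevG2.diagonalSubgroup F, g = m * h := by
  have hm1 : (-1 : F) ≠ 0 := by simp
  set t := h8g2T hB (-1 : F) (-1) with htdef
  have htH : t ∈ chevG2.diagonalSubgroup F := h8g2T_mem hB _ _ hm1 hm1
  have htinvH : t⁻¹ ∈ chevG2.diagonalSubgroup F := Subgroup.inv_mem _ htH
  have hHN : chevG2.diagonalSubgroup F ≤ chevG2.monomialSubgroup F := h8H_le_N chevG2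
  obtain ⟨b, hb, n0, hn0, u, hu, rfl⟩ := h8normal_exists chevG2 hB hA hC hBN hW hO g hg
  have hmemB : b ∈ ((chevG2.posUnipotent F ⊔ chevG2.diagonalSubgroup F :
      Subgroup (GL chevG2.Idx F)) : Set (GL chevG2.Idx F)) := hb
  rw [Subgroup.coe_mul_of_right_le_normalizer_left _ _ (h8_H_le_normalizer_U chevG2 hB)] at hmemB
  obtain ⟨u0, hu0, h, hh, rfl⟩ := hmemB
  have hn : h * n0 ∈ chevG2.monomialSubgroup F := Subgroup.mul_mem _ (hHN hh) hn0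
  have hu' : u ∈ Subgroup.closure (h8UmSet chevG2 F (h * n0)) := by
    have hsub := h8UmSet_mono_H chevG2 hB n0 h 1 hh (Subgroup.one_mem _)
    rw [mul_one] at hsub
    exact Subgroup.closure_mono hsub hu
  set n := h * n0 with hndef
  -- conjugate the normal form by `t`
  have hu0t : t * u0 * t⁻¹ ∈ chevG2.posUnipotent F :=
    (Subgroup.mem_normalizer_iff.mp (h8_H_le_normalizer_U chevG2 hB htH) u0).mp hu0
  have hnt : t * n * t⁻¹ ∈ chevG2.monomialSubgroup F :=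
    Subgroup.mul_mem _ (Subgroup.mul_mem _ (hHN htH) hn) (hHN htinvH)
  have hut : t * u * t⁻¹ ∈ Subgroup.closure (h8UmSet chevG2 F (t * n * t⁻¹)) :=
    Subgroup.closure_mono (h8UmSet_mono_H chevG2 hB n t t⁻¹ htH htinvH)
      (h8Um_conj_H chevG2 hB n t htH u hu')
  have e : u0 * n * u = (t * u0 * t⁻¹) * (t * n * t⁻¹) * (t * u * t⁻¹) := by
    have : (t * u0 * t⁻¹) * (t * n * t⁻¹) * (t * u * t⁻¹) = t * (u0 * h * n0 * u) * t⁻¹ := by
      rw [hndef]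
      group
    rw [this, hcomm, hndef]
    group
  obtain ⟨e1, e2, e3⟩ := h8normal_unique_strong chevG2 hB hA hC hBN u0 (t * u0 * t⁻¹) n
    (t * n * t⁻¹) u (t * u * t⁻¹) hu0 hu0t hn hnt hu' hut e
  -- the three parts
  obtain ⟨a, b, hab⟩ := h8g2_CU h2 hB hC hO hO2 u0 hu0 e2.symm
  obtain ⟨a', b', hab'⟩ := h8g2_CU h2 hB hC hO hO2 u (h8Um_le_U chevG2 n0 hu) e3.symm
  obtain ⟨m', hm', hmn⟩ := h8g2_CN h2 hB hA hBN hW hO2 n hn e1.symm
  obtain ⟨c0, c1, h0, h1, hT⟩ := h8g2T_param hB _ hmn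
  have hx10 : ∀ s : F, h8xU chevG2 hB 10 s ∈ M := fun s => hU s ▸ hφM _
  have hx8 : ∀ s : F, h8xU chevG2 hB 8 s ∈ M := fun s => hU' s ▸ hφM' _
  have hn10 : h8nU chevG2 hB 10 (1 : F) ∈ M := by
    rw [← h8g2_phiW hB 10 φ hU hL]
    exact hφM _
  have hn8 : h8nU chevG2 hB 8 (1 : F) ∈ M := by
    rw [← h8g2_phiW hB 8 φ' hU' hL']
    exact hφM' _
  have hm'M : m' ∈ M := by
    rcases hm' with rfl | rfl | rfl | rfl
    · exact Subgroup.one_mem _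
    · exact hn10
    · exact hn8
    · exact Subgroup.mul_mem _ hn10 hn8
  have hconj : h8g2T hB c0 c1 * u * (h8g2T hB c0 c1)⁻¹ ∈ M := by
    rw [hab']
    have : h8g2T hB c0 c1 * (h8xU chevG2 hB 10 a' * h8xU chevG2 hB 8 b') *
        (h8g2T hB c0 c1)⁻¹ =
        (h8g2T hB c0 c1 * h8xU chevG2 hB 10 a' * (h8g2T hB c0 c1)⁻¹) *
          (h8g2T hB c0 c1 * h8xU chevG2 hB 8 b' * (h8g2T hB c0 c1)⁻¹) := by group
    rw [this, h8g2T_conj hB c0 c1 h0 h1 10 (by decide), h8g2T_conj hB c0 c1 h0 h1 8 (by decide)]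
    exact Subgroup.mul_mem _ (hx10 _) (hx8 _)
  refine ⟨u0 * m' * (h8g2T hB c0 c1 * u * (h8g2T hB c0 c1)⁻¹), ?_, h8g2T hB c0 c1, ?_, ?_⟩
  · refine Subgroup.mul_mem _ (Subgroup.mul_mem _ ?_ hm'M) hconj
    rw [hab]
    exact Subgroup.mul_mem _ (hx10 _) (hx8 _)
  · exact h8g2T_mem hB c0 c1 h0 h1
  · rw [← hT, hndef]
    group

end homs

end Cfsg.Agent.Lib.helper8
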