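import Mathlib
import Cfsg.Prelude.Def_ChevStructure
import Cfsg.Prelude.Def_ChevG2
import Cfsg.Agent.Lib.helper8.ChevInvG2t
import Cfsg.Agent.Lib.helper8.ChevInvG2r

set_option autoImplicit false

namespace Cfsg.Agent.Lib.helper8

open Cfsg.Lie Cfsg.Lie.ChevalleyDatum Matrix

universe u

variable {F : Type u} [Field F]

section homs

variable (hB : H8Base.{u} chevG2)
  (φ φ' : SpecialLinearGroup (Fin 2) F →* GL chevG2.Idx F)
  (hc : ∀ g g', Commute (φ g) (φ' g'))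
  (hU : ∀ t, φ (h8slU t) = h8xU chevG2 hB 10 t)
  (hL : ∀ t, φ (h8slL t) = h8xU chevG2 hB 1 t)
  (hU' : ∀ t, φ' (h8slU t) = h8xU chevG2 hB 8 t)
  (hL' : ∀ t, φ' (h8slL t) = h8xU chevG2 hB 3 t)

include hc hU' hL' in
/-- a torus element in the product of the two `SL₂` has a square value on the root `α+β` -/
theorem h8g2_T_in_M_sq (hA : H8ReflAll chevG2) (hBN : H8BN chevG2) (hW : H8BN2 chevG2)
    (c0 c1 : F) (h0 : c0 ≠ 0) (h1 : c1 ≠ 0) (g₁ g₂ : SpecialLinearGroup (Fin 2) F)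
    (h : h8g2T hB c0 c1 = φ g₁ * φ' g₂) : c0⁻¹ * c1 = (g₂ 0 0) ^ 2 := by
  have hinj' := h8g2_phi'_inj hB φ' hU' hL' hA hBN hW
  have e1 := h8g2T_conj hB c0 c1 h0 h1 8 (by decide) (1 : F)
  rw [h8g2Chi_8, mul_one, h, ← hU', ← hU'] at e1
  have e2 : φ g₁ * φ' g₂ * φ' (h8slU 1) * (φ g₁ * φ' g₂)⁻¹ = φ' (g₂ * h8slU 1 * g₂⁻¹) := by
    have hcm : φ g₁ * φ' (g₂ * h8slU 1 * g₂⁻¹) = φ' (g₂ * h8slU 1 * g₂⁻¹) * φ g₁ :=
      (hc g₁ _).eq
    have : φ g₁ * φ' g₂ * φ' (h8slU 1) * (φ g₁ * φ' g₂)⁻¹ =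
        φ g₁ * φ' (g₂ * h8slU 1 * g₂⁻¹) * (φ g₁)⁻¹ := by
      rw [map_mul, map_mul, map_inv]
      group
    rw [this, hcm]
    group
  rw [e2] at e1
  have e3 := hinj' e1
  have e4 : g₂ * h8slU 1 = h8slU (c0⁻¹ * c1) * g₂ := by
    rw [← e3]
    group
  exact h8sl_conjU g₂ _ e4

include hU hL hU' hL' in
/-- a torus element with a square value on the root `α+β` is in the product of the two `SL₂` -/
theorem h8g2_T_sq_in_M (hA : H8ReflAll chevG2) (hW : H8BN2 chevG2)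
    (c0 b : F) (h0 : c0 ≠ 0) (hb : b ≠ 0) :
    h8g2T hB c0 (c0 * b ^ 2) = φ (h8slD (c0 / b)) * φ' (h8slD b) := by
  have hcb : c0 / b ≠ 0 := div_ne_zero h0 hb
  rw [h8g2_phiD hB 10 φ hU hL _ hcb, h8g2_phiD hB 8 φ' hU' hL' _ hb,
    h8g2_hU10 hB hA hW _ hcb, h8g2_hU8 hB hA hW _ hb,
    h8g2T_mul hB hA hW _ _ _ _ hcb hcb hb (pow_ne_zero _ hb)]
  congr 1
  · field_simp
  · field_simp

end homs

/-- multiplying by a non-square exchanges squares and non-squares -/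
theorem h8_xor_sq [Fintype F] [DecidableEq F] (ν x : F) (hν : quadraticChar F ν = -1)
    (hx : x ≠ 0) : Xor (IsSquare (x * ν)) (IsSquare x) := by
  have hν0 : ν ≠ 0 := by
    rintro rfl
    rw [quadraticChar_zero] at hν
    norm_num at hν
  have hxν : x * ν ≠ 0 := mul_ne_zero hx hν0
  have hmul : quadraticChar F (x * ν) = -quadraticChar F x := by
    rw [map_mul, hν, mul_neg_one]
  rcases quadraticChar_dichotomy hx with h | h
  · right
    refine ⟨(quadraticChar_one_iff_isSquare hx).mp h, ?_⟩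
    intro hsq
    have := (quadraticChar_one_iff_isSquare hxν).mpr hsq
    rw [hmul, h] at this
    norm_num at this
  · left
    refine ⟨(quadraticChar_one_iff_isSquare hxν).mp (by rw [hmul, h]; norm_num), ?_⟩
    intro hsq
    have := (quadraticChar_one_iff_isSquare hx).mpr hsq
    rw [h] at this
    norm_num at this

end Cfsg.Agent.Lib.helper8
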