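import Mathlib
import Cfsg.Agent.Lib.helper8.ChevInvG2r
import Cfsg.Agent.Lib.helper8.ChevReeD1

set_option autoImplicit false

namespace Cfsg.Agent.Lib.helper8

open Matrix

variable {F : Type*} [Field F]

theorem h8sl_neg_one_ne (h2 : (2 : F) ≠ 0) : (-1 : SpecialLinearGroup (Fin 2) F) ≠ 1 := by
  intro h
  have h00 : (-1 : SpecialLinearGroup (Fin 2) F) 0 0 = (1 : SpecialLinearGroup (Fin 2) F) 0 0 := by
    rw [h]
  rw [h8sl_entries_neg] at h00
  simp at h00
  apply h2
  linear_combination (-1 : F) * h00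

theorem h8sl_neg_one_mul_self : (-1 : SpecialLinearGroup (Fin 2) F) * -1 = 1 := by
  rw [neg_mul_neg, one_mul]

/-- the order of the central product of two commuting copies of `SL₂` -/
theorem h8sl_coprod_card [Fintype F] {Γ : Type*} [Group Γ] (h2 : (2 : F) ≠ 0)
    (φ φ' : SpecialLinearGroup (Fin 2) F →* Γ)
    (hinj : Function.Injective φ) (hinj' : Function.Injective φ')
    (hc : ∀ g g', Commute (φ g) (φ' g')) (hneg : φ (-1) = φ' (-1)) :
    2 * Nat.card ↥(φ.range ⊔ φ'.range) =
      (Fintype.card F * (Fintype.card F ^ 2 - 1)) ^ 2 := by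
  classical
  set ψ := MonoidHom.noncommCoprod φ φ' hc with hψ
  have hrange : ψ.range = φ.range ⊔ φ'.range := MonoidHom.noncommCoprod_range φ φ' hc
  have hker : Nat.card ↥ψ.ker = 2 := by
    have hmem : ((-1, -1) : SpecialLinearGroup (Fin 2) F × SpecialLinearGroup (Fin 2) F) ∈
        ψ.ker := by
      rw [MonoidHom.mem_ker]
      show φ (-1) * φ' (-1) = 1
      rw [← hneg, ← map_mul, h8sl_neg_one_mul_self, map_one]
    rw [Nat.card_eq_two_iff]
    refine ⟨1, ⟨(-1, -1), hmem⟩, ?_, ?_⟩
    · intro h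
      have h1 := congrArg (fun k : ↥ψ.ker => k.val.1) h
      exact h8sl_neg_one_ne h2 h1.symm
    · rw [Set.eq_univ_iff_forall]
      rintro ⟨⟨g₁, g₂⟩, hk⟩
      rw [MonoidHom.mem_ker] at hk
      have hk' : φ g₁ * φ' g₂ = 1 := hk
      have e : φ g₁ = φ' g₂⁻¹ := by
        rw [map_inv]
        exact eq_inv_of_mul_eq_one_left hk'
      rcases h8sl_inter φ φ' hinj hinj' hc hneg g₁ g₂⁻¹ e with ⟨h1, h3⟩ | ⟨h1, h3⟩
      · left
        apply Subtype.ext
        show (g₁, g₂) = (1, 1)
        rw [h1, inv_eq_one.mp h3]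
      · right
        rw [Set.mem_singleton_iff]
        apply Subtype.ext
        show (g₁, g₂) = (-1, -1)
        have : g₂ = -1 := by
          have h4 : g₂ = (g₂⁻¹)⁻¹ := (inv_inv g₂).symm
          rw [h4, h3]
          exact inv_eq_of_mul_eq_one_left h8sl_neg_one_mul_self
        rw [h1, this]
  have h1 := Subgroup.card_mul_index ψ.ker
  rw [Subgroup.index_ker, hker, Nat.card_prod, h8card_sl2, hrange] at h1
  rw [h1]
  ring

/-- order of a subgroup of index two -/
theorem h8_card_of_relIndex_two {G : Type*} [Group G] (M C : Subgroup G) (hMC : M ≤ C)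
    (hidx : M.relIndex C = 2) : Nat.card C = Nat.card M * 2 := by
  have h := Subgroup.relIndex_mul_relIndex ⊥ M C bot_le hMC
  rw [Subgroup.relIndex_bot_left, Subgroup.relIndex_bot_left, hidx] at h
  exact h.symm

end Cfsg.Agent.Lib.helper8
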