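import Mathlib
import Cfsg.Prelude.Def_ChevStructure
import Cfsg.Prelude.Def_ChevG2
import Cfsg.Agent.Lib.helper8.ChevInvG2u
import Cfsg.Agent.Lib.helper8.ChevInvG2v
import Cfsg.Agent.Lib.helper8.ChevInvG2w
import Cfsg.Agent.Lib.helper8.ChevInvG2n

set_option autoImplicit false

namespace Cfsg.Agent.Lib.helper8

open Cfsg.Lie Cfsg.Lie.ChevalleyDatum Matrix

universe u

variable {F : Type u} [Field F]

theorem h8g2_hom_mem (hB : H8Base.{u} chevG2) (c c' : ℕ)
    (φ : SpecialLinearGroup (Fin 2) F →* GL chevG2.Idx F)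
    (hU : ∀ t, φ (h8slU t) = h8xU chevG2 hB c t)
    (hL : ∀ t, φ (h8slL t) = h8xU chevG2 hB c' t)
    (g : SpecialLinearGroup (Fin 2) F) : φ g ∈ chevG2.group F := by
  have h := h8sl_gen ((chevG2.group F).comap φ)
    (fun t => by
      rw [Subgroup.mem_comap, hU]
      exact h8xU_mem_group chevG2 hB c t)
    (fun t => by
      rw [Subgroup.mem_comap, hL]
      exact h8xU_mem_group chevG2 hB c' t) g
  exact h

theorem h8_ringChar_ne_two [Fintype F] (hF : Odd (Fintype.card F)) : ringChar F ≠ 2 := by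
  intro h
  have := FiniteField.even_card_iff_char_two.mp h
  rw [Nat.odd_iff] at hF
  omega

/-- the structure of the centralizer of the standard involution of `G₂(F)` -/
theorem h8g2_cent_std [Fintype F] (hF : Odd (Fintype.card F)) :
    ∃ t₀ : ↥(chevG2.group F), orderOf t₀ = 2 ∧
      (Nat.card (Subgroup.centralizer ({t₀} : Set ↥(chevG2.group F))) =
        Fintype.card F ^ 2 * (Fintype.card F ^ 2 - 1) ^ 2 ∧
      ∃ L₁ L₂ : Subgroup ↥(chevG2.group F),
        Nonempty (L₁ ≃* SpecialLinearGroup (Fin 2) F) ∧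
        Nonempty (L₂ ≃* SpecialLinearGroup (Fin 2) F) ∧
        (∀ x ∈ L₁, ∀ y ∈ L₂, x * y = y * x) ∧ L₁ ⊓ L₂ = Subgroup.zpowers t₀ ∧
        L₁ ⊔ L₂ ≤ Subgroup.centralizer ({t₀} : Set ↥(chevG2.group F)) ∧
        (L₁ ⊔ L₂).relIndex (Subgroup.centralizer ({t₀} : Set ↥(chevG2.group F))) = 2) := by
  classical
  have h2 : (2 : F) ≠ 0 := h8two_ne_zero_of_odd hF
  have hm1 : (-1 : F) ≠ 0 := by simp
  have hB := h8base_all.{u} chevG2 h8g2_mem
  have hA := h8reflAll chevG2 h8g2_mem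
  have hC := h8commAll.{u} chevG2 h8g2_mem
  have hBN := h8bn_all chevG2 h8g2_mem
  have hW := h8bn2_all chevG2 h8g2_mem
  obtain ⟨hO, hO2⟩ := h8ord_all chevG2 h8g2_mem
  obtain ⟨φ, φ', hc, hU, hL, hU', hL'⟩ := h8reeC_homs (K := F) hB
  have hinj := h8g2_phi_inj hB φ hU hL hA hBN hW
  have hinj' := h8g2_phi'_inj hB φ' hU' hL' hA hBN hW
  have hneg := h8g2_phi_neg hB φ hU hL hA hW
  have hneg' := h8g2_phi'_neg hB φ' hU' hL' hA hW
  have hmem := h8g2_hom_mem hB 10 1 φ hU hL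
  have hmem' := h8g2_hom_mem hB 8 3 φ' hU' hL'
  -- the homomorphisms into the group
  set φs : SpecialLinearGroup (Fin 2) F →* ↥(chevG2.group F) :=
    φ.codRestrict (chevG2.group F) hmem with hφs
  set φs' : SpecialLinearGroup (Fin 2) F →* ↥(chevG2.group F) :=
    φ'.codRestrict (chevG2.group F) hmem' with hφs'
  have hval : ∀ g, (φs g).val = φ g := fun g => rfl
  have hval' : ∀ g, (φs' g).val = φ' g := fun g => rfl
  have hcs : ∀ g g', Commute (φs g) (φs' g') := fun g g' => Subtype.ext (hc g g').eq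
  have hinjs : Function.Injective φs := fun a b hab => hinj (congrArg Subtype.val hab)
  have hinjs' : Function.Injective φs' := fun a b hab => hinj' (congrArg Subtype.val hab)
  have hnegs : φs (-1) = φs' (-1) := Subtype.ext (hneg.trans hneg'.symm)
  set t₀ : ↥(chevG2.group F) := φs (-1) with ht₀
  have ht₀val : t₀.val = h8g2T hB (-1 : F) (-1) := hneg
  have hcent : ∀ x : ↥(chevG2.group F),
      x ∈ Subgroup.centralizer ({t₀} : Set ↥(chevG2.group F)) ↔ t₀ * x = x * t₀ := by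
    intro x
    rw [Subgroup.mem_centralizer_iff]
    constructor
    · intro h
      exact h t₀ rfl
    · intro h y hy
      rw [Set.mem_singleton_iff] at hy
      rw [hy]
      exact h
  refine ⟨t₀, ?_, ?_⟩
  · -- the order
    have : Fact (Nat.Prime 2) := ⟨Nat.prime_two⟩
    apply orderOf_eq_prime
    · rw [ht₀, ← map_pow, sq, h8sl_neg_one_mul_self, map_one]
    · intro h
      rw [ht₀, ← map_one φs] at h
      exact h8sl_neg_one_ne h2 (hinjs h)
  -- the two subgroups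
  have hsup : φs.range ⊔ φs'.range ≤
      Subgroup.centralizer ({t₀} : Set ↥(chevG2.group F)) := by
    apply sup_le
    · rintro x ⟨g, rfl⟩
      rw [hcent, ht₀, ← map_mul, ← map_mul]
      congr 1
      rw [neg_one_mul, mul_neg_one]
    · rintro x ⟨g, rfl⟩
      rw [hcent]
      exact (hcs (-1) g).eq
  have hMmem : ∀ x : ↥(chevG2.group F), x ∈ φs.range ⊔ φs'.range ↔
      ∃ g₁ g₂, x.val = φ g₁ * φ' g₂ := by
    intro x
    rw [← MonoidHom.noncommCoprod_range φs φs' hcs, MonoidHom.mem_range]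
    constructor
    · rintro ⟨⟨g₁, g₂⟩, rfl⟩
      exact ⟨g₁, g₂, rfl⟩
    · rintro ⟨g₁, g₂, h⟩
      exact ⟨(g₁, g₂), Subtype.ext h.symm⟩
  -- torus elements of the product
  have hkey : ∀ (d0 d1 : F), d0 ≠ 0 → d1 ≠ 0 → ∀ x : ↥(chevG2.group F),
      x.val = h8g2T hB d0 d1 → (x ∈ φs.range ⊔ φs'.range ↔ IsSquare (d0⁻¹ * d1)) := by
    intro d0 d1 hd0 hd1 x hx
    rw [hMmem, hx]
    constructor
    · rintro ⟨g₁, g₂, h⟩
      have := h8g2_T_in_M_sq hB φ φ' hc hU' hL' hA hBN hW d0 d1 hd0 hd1 g₁ g₂ h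
      exact ⟨g₂ 0 0, by rw [this, sq]⟩
    · rintro ⟨b, hb⟩
      have hb0 : b ≠ 0 := by
        rintro rfl
        rw [mul_zero] at hb
        exact mul_ne_zero (inv_ne_zero hd0) hd1 hb
      have hd1' : d1 = d0 * b ^ 2 := by
        calc d1 = d0 * (d0⁻¹ * d1) := by rw [← mul_assoc, mul_inv_cancel₀ hd0, one_mul]
          _ = d0 * b ^ 2 := by rw [hb, sq]
      refine ⟨h8slD (d0 / b), h8slD b, ?_⟩
      rw [hd1']
      exact h8g2_T_sq_in_M hB φ φ' hU hL hU' hL' hA hW d0 b hd0 hb0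
  -- the index
  have hidx : (φs.range ⊔ φs'.range).relIndex
      (Subgroup.centralizer ({t₀} : Set ↥(chevG2.group F))) = 2 := by
    obtain ⟨ν, hν⟩ := quadraticChar_exists_neg_one (h8_ringChar_ne_two hF)
    have hν0 : ν ≠ 0 := by
      rintro rfl
      rw [quadraticChar_zero] at hν
      norm_num at hν
    rw [Subgroup.relIndex_eq_two_iff]
    refine ⟨⟨h8g2T hB 1 ν, h8_H_le_group chevG2 hB (h8g2T_mem hB 1 ν one_ne_zero hν0)⟩, ?_, ?_⟩
    · rw [hcent]
      apply Subtype.ext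
      show t₀.val * h8g2T hB 1 ν = h8g2T hB 1 ν * t₀.val
      rw [ht₀val, h8g2T_mul hB hA hW _ _ _ _ hm1 hm1 one_ne_zero hν0,
        h8g2T_mul hB hA hW _ _ _ _ one_ne_zero hν0 hm1 hm1, mul_comm (-1 : F) 1,
        mul_comm (-1 : F) ν]
    · intro b hb
      rw [hcent] at hb
      have hb' : h8g2T hB (-1 : F) (-1) * b.val * (h8g2T hB (-1 : F) (-1))⁻¹ = b.val := by
        rw [← ht₀val, mul_inv_eq_iff_eq_mul]
        exact congrArg Subtype.val hb
      obtain ⟨m, hm, h, hh, hbm⟩ := h8g2_struct hB φ φ' hU hL hU' hL'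
        ((φs.range ⊔ φs'.range).map (chevG2.group F).subtype)
        (fun g => ⟨φs g, Subgroup.mem_sup_left ⟨g, rfl⟩, rfl⟩)
        (fun g => ⟨φs' g, Subgroup.mem_sup_right ⟨g, rfl⟩, rfl⟩)
        h2 hA hC hBN hW hO hO2 b.val b.2 hb'
      obtain ⟨m', hm', rfl⟩ := hm
      obtain ⟨c0, c1, h0, h1, rfl⟩ := h8g2T_param hB h hh
      set h' : ↥(chevG2.group F) :=
        ⟨h8g2T hB c0 c1, h8_H_le_group chevG2 hB (h8g2T_mem hB c0 c1 h0 h1)⟩ with hh'
      have hbeq : b = m' * h' := Subtype.ext hbm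
      rw [hbeq, mul_assoc, Subgroup.mul_mem_cancel_left _ hm', Subgroup.mul_mem_cancel_left _ hm']
      rw [hkey c0 c1 h0 h1 h' rfl,
        hkey (c0 * 1) (c1 * ν) (mul_ne_zero h0 one_ne_zero) (mul_ne_zero h1 hν0) _
          (h8g2T_mul hB hA hW c0 c1 1 ν h0 h1 one_ne_zero hν0)]
      have e : (c0 * 1)⁻¹ * (c1 * ν) = c0⁻¹ * c1 * ν := by
        rw [mul_one, mul_assoc]
      rw [e]
      exact h8_xor_sq ν (c0⁻¹ * c1) hν (mul_ne_zero (inv_ne_zero h0) h1)
  refine ⟨?_, φs.range, φs'.range, ⟨(MonoidHom.ofInjective hinjs).symm⟩,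
    ⟨(MonoidHom.ofInjective hinjs').symm⟩, ?_, ?_, hsup, hidx⟩
  · -- the order
    rw [h8_card_of_relIndex_two _ _ hsup hidx, mul_comm,
      h8sl_coprod_card h2 φs φs' hinjs hinjs' hcs hnegs, mul_pow]
  · rintro x ⟨g, rfl⟩ y ⟨g', rfl⟩
    exact (hcs g g').eq
  · apply le_antisymm
    · rintro x ⟨⟨g₁, rfl⟩, ⟨g₂, h⟩⟩
      rcases h8sl_inter φs φs' hinjs hinjs' hcs hnegs g₁ g₂ h.symm with ⟨rfl, _⟩ | ⟨rfl, _⟩
      · rw [map_one]
        exact Subgroup.one_mem _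
      · exact Subgroup.mem_zpowers t₀
    · rw [Subgroup.zpowers_le]
      exact ⟨⟨-1, rfl⟩, ⟨-1, hnegs.symm⟩⟩

/-- the centralizer of an involution of `G₂(F)`, `F` finite of odd order -/
theorem h8g2_cent_all [Fintype F] (hF : Odd (Fintype.card F)) (t : ↥(chevG2.group F))
    (ht : orderOf t = 2) :
    Nat.card (Subgroup.centralizer ({t} : Set ↥(chevG2.group F))) =
        Fintype.card F ^ 2 * (Fintype.card F ^ 2 - 1) ^ 2 ∧
      ∃ L₁ L₂ : Subgroup ↥(chevG2.group F),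
        Nonempty (L₁ ≃* SpecialLinearGroup (Fin 2) F) ∧
        Nonempty (L₂ ≃* SpecialLinearGroup (Fin 2) F) ∧
        (∀ x ∈ L₁, ∀ y ∈ L₂, x * y = y * x) ∧ L₁ ⊓ L₂ = Subgroup.zpowers t ∧
        L₁ ⊔ L₂ ≤ Subgroup.centralizer ({t} : Set ↥(chevG2.group F)) ∧
        (L₁ ⊔ L₂).relIndex (Subgroup.centralizer ({t} : Set ↥(chevG2.group F))) = 2 := by
  obtain ⟨t₀, ht₀, h⟩ := h8g2_cent_std hF
  obtain ⟨z, hz⟩ := isConj_iff.mp (h8g2_inv_isConj hF t₀ t ht₀ ht)
  rw [← hz]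
  exact h8_cent_transport t₀ z _ h

end Cfsg.Agent.Lib.helper8
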