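import Mathlib
import Cfsg.Prelude.Def_ChevStructure
import Cfsg.Agent.Lib.helper8.ChevN
import Cfsg.Agent.Lib.helper8.ChevSimple

set_option autoImplicit false

namespace Cfsg.Agent.Lib.helper8

open Cfsg.Lie Cfsg.Lie.ChevalleyDatum

variable {F : Type*} [Field F]

theorem h8_mono_diag_comm {ι : Type*} [Fintype ι] [DecidableEq ι] (N : Matrix ι ι F) (d1 d2 : ι → F)
    (h : ∀ row col, N row col ≠ 0 → d1 col = d2 row) :
    N * Matrix.diagonal d1 = Matrix.diagonal d2 * N := by
  ext row col
  rw [Matrix.mul_diagonal, Matrix.diagonal_mul]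
  by_cases h0 : N row col = 0
  · rw [h0, zero_mul, mul_zero]
  · rw [h row col h0, mul_comm]

def h8nhChkSL (D : ChevalleyDatum) : Bool :=
  (List.range D.rank).all fun i => (List.range D.rank).all fun j =>
    decide (D.reflectRoot i (D.simple j) < D.nroots) &&
    (List.range D.nroots).all fun v =>
      decide (D.cartan j v = h8hexpR D (D.reflectRoot i (D.simple j)) (D.reflectRoot i v))

def h8nhChkRefl (D : ChevalleyDatum) : Bool :=
  (List.range D.rank).all fun i => (List.range D.rank).all fun j =>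
    decide (D.reflectRoot i (D.simple j) < D.nroots) &&
    ((List.range D.rank).all fun j' =>
      decide (h8diagExp (h8hCol D (D.reflectRoot i (D.simple j)) j') j' = some 0)) &&
    (List.range D.nroots).all fun v =>
      decide (D.reflectRoot i v < D.nroots) &&
      decide (h8diagExp (h8hCol D (D.reflectRoot i (D.simple j)) (D.rank + D.reflectRoot i v))
        (D.rank + D.reflectRoot i v) = some (D.cartan j v))

theorem h8nh_core (D : ChevalleyDatum) (i j : ℕ) (hi : i < D.rank) (t : F)
    (eta : List ℤ) (hn : h8nChk D i eta = true) (k : D.Idx → ℤ)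
    (hk0 : ∀ j' : Fin D.rank, k (Sum.inl j') = 0)
    (hk : ∀ v : Fin D.nroots, ∀ hv : D.reflectRoot i v.val < D.nroots,
      k (Sum.inr ⟨D.reflectRoot i v.val, hv⟩) = D.cartan j v.val)
    (hd1 : D.hMat F (D.simple j) t =
      Matrix.diagonal (Sum.elim (fun _ => (1 : F)) (fun s : Fin D.nroots => t ^ (D.cartan j s))))
    (hd2 : D.hMat F (D.reflectRoot i (D.simple j)) t = Matrix.diagonal (fun c => t ^ k c)) :
    D.nMat F (D.simple i) 1 * D.hMat F (D.simple j) t =
      D.hMat F (D.reflectRoot i (D.simple j)) t * D.nMat F (D.simple i) 1 := by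
  rw [hd1, hd2]
  apply h8_mono_diag_comm
  intro row col hne
  rw [h8nMat_of_chk D i hi eta hn, Matrix.of_apply] at hne
  rcases row with j' | s'
  · rcases col with j0 | s
    · simp [hk0]
    · simp at hne
  · rcases col with j0 | s
    · simp at hne
    · simp only [Sum.elim_inr] at hne
      have hs' : s'.val = D.reflectRoot i s.val := by
        by_contra hh
        rw [if_neg hh] at hne
        exact hne rfl
      have hv : D.reflectRoot i s.val < D.nroots := hs' ▸ s'.2
      have : s' = ⟨D.reflectRoot i s.val, hv⟩ := Fin.ext hs'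
      simp only [Sum.elim_inr]
      rw [this, hk s hv]

theorem h8nh_SL (D : ChevalleyDatum) (hD : H8SL D) (hS : h8simpleChkSL D = true)
    (hC : h8nhChkSL D = true) (i j : ℕ) (hi : i < D.rank) (hj : j < D.rank) (t : F) (ht : t ≠ 0)
    (eta : List ℤ) (hn : h8nChk D i eta = true) :
    D.nMat F (D.simple i) 1 * D.hMat F (D.simple j) t =
      D.hMat F (D.reflectRoot i (D.simple j)) t * D.nMat F (D.simple i) 1 := by
  unfold h8nhChkSL at hC
  simp only [List.all_eq_true, List.mem_range, Bool.and_eq_true, decide_eq_true_eq] at hC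
  obtain ⟨h1, h2⟩ := hC i hi j hj
  refine h8nh_core D i j hi t eta hn (h8hexp D (D.reflectRoot i (D.simple j))) (fun _ => rfl) ?_
    (h8hMat_simple_SL D hD hS j hj t ht) (h8hMat_diag D hD _ h1 t ht)
  intro v hv
  show h8hexpR D _ (D.reflectRoot i v.val) = _
  rw [← h2 v.val v.2]

theorem h8nh_refl (D : ChevalleyDatum) (hD : h8hDiagChk D = true) (hS : h8simpleChkRefl D = true)
    (hC : h8nhChkRefl D = true) (i j : ℕ) (hi : i < D.rank) (hj : j < D.rank) (t : F) (ht : t ≠ 0)
    (eta : List ℤ) (hn : h8nChk D i eta = true) :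
    D.nMat F (D.simple i) 1 * D.hMat F (D.simple j) t =
      D.hMat F (D.reflectRoot i (D.simple j)) t * D.nMat F (D.simple i) 1 := by
  unfold h8nhChkRefl at hC
  simp only [List.all_eq_true, List.mem_range, Bool.and_eq_true, decide_eq_true_eq] at hC
  obtain ⟨⟨h1, h0⟩, h2⟩ := hC i hi j hj
  refine h8nh_core D i j hi t eta hn (h8hexpRefl D (D.reflectRoot i (D.simple j))) ?_ ?_
    (h8hMat_simple_refl D hD hS j hj t ht) (h8hMat_diag_refl D hD _ h1 t ht)
  · intro j'
    unfold h8hexpRefl
    have : h8code D (Sum.inl j') = j'.val := rfl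
    rw [this, h0 j'.val j'.2]
    rfl
  · intro v hv
    obtain ⟨_, h3⟩ := h2 v.val v.2
    unfold h8hexpRefl
    have : h8code D (Sum.inr ⟨D.reflectRoot i v.val, hv⟩) = D.rank + D.reflectRoot i v.val := rfl
    rw [this, h3]
    rfl

end Cfsg.Agent.Lib.helper8
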