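import Mathlib
import Cfsg.Prelude.Def_ChevAutomorphisms
import Cfsg.Prelude.Def_KGroupFacts
import Cfsg.Agent.Lib.helper8.ChevOD2
import Cfsg.Agent.Lib.Helper29.RuGroupS4

/-! The outer automorphism group of `D₄(q)`: the isomorphism type. -/

set_option autoImplicit false

namespace Cfsg.Agent.Lib.helper8

open Cfsg.Lie Cfsg.Lie.ChevalleyDatum

universe u

variable {F : Type u} [Field F]

theorem h8oq_refl_map (u : Fˣ) : Units.map ((RingEquiv.refl F : F ≃+* F) : F →* F) u = u :=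
  Units.ext rfl

theorem h8oq_std_congr (θ : MulAut ↥(chevD4.group F)) (ρ ρ' : Equiv.Perm (Fin chevD4.rank))
    (c c' : Fin chevD4.rank → Fˣ) (σ σ' : F ≃+* F)
    (h : H8Std chevD4 (h8base_all.{u} chevD4 h8oq_hD4) θ ρ c σ) (h1 : ρ = ρ') (h2 : c = c')
    (h3 : σ = σ') : H8Std chevD4 (h8base_all.{u} chevD4 h8oq_hD4) θ ρ' c' σ' := by
  subst h1 h2 h3
  exact h

section
variable (F) [Finite F]

/-- the classes of the diagonal automorphisms are self-centralizing when `q` is odd -/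
theorem h8oq_cent (ν : Fˣ) (hν : ¬ IsSquare (ν : F)) (a : ↥(h8oqA F))
    (hcomm : ∀ v ∈ h8oqV F, a * v = v * a) : a ∈ h8oqV F := by
  classical
  by_contra hna
  obtain ⟨θ, ρ, c, hθ, hstd, hmk⟩ := h8oq_A_rep F a.val a.2
  have hRA : h8oqRA F a = ρ := by
    have := h8oq_RA_mk F θ ρ c hθ hstd
    rw [← this]
    congr 1
    exact Subtype.ext hmk.symm
  have hρ1 : ρ ≠ 1 := by
    intro h
    apply hna
    unfold h8oqV
    rw [MonoidHom.mem_ker, hRA, h]
  have hsym := h8av_std_sym chevD4 h8oq_hD4 θ ρ c _ hstd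
  have hfix := (h8oq_sym_fix ρ).1 hsym
  obtain ⟨x, hx⟩ : ∃ x, ρ x ≠ x := by
    by_contra h
    push Not at h
    exact hρ1 (Equiv.ext h)
  have hx1 : x.val ≠ 1 := by
    intro h
    have : x = ⟨1, by decide⟩ := Fin.ext h
    rw [this] at hx
    exact hx hfix
  have hρx1 : (ρ x).val ≠ 1 := by
    intro h
    have h' : ρ x = ⟨1, by decide⟩ := Fin.ext h
    rw [← hfix] at h'
    have := ρ.injective h'
    exact hx1 (by rw [this])
  obtain ⟨y, hy1, hyx, hyρ⟩ := h8oq_third x (ρ x) hx hx1 hρx1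
  let c' : Fin chevD4.rank → Fˣ := fun i => if i = x then ν else 1
  obtain ⟨δ, hδ, hδstd⟩ := h8oq_diag_exists F c'
  have hvV : (⟨_, h8oq_mk_mem_A F δ 1 c' hδ hδstd⟩ : ↥(h8oqA F)) ∈ h8oqV F := by
    unfold h8oqV
    rw [MonoidHom.mem_ker]
    exact h8oq_RA_mk F δ 1 c' hδ hδstd
  have h1 := congrArg Subtype.val (hcomm _ hvV)
  have h2 : QuotientGroup.mk' (Cfsg.Inn ↥(chevD4.group F)) (θ * δ) =
      QuotientGroup.mk' (Cfsg.Inn ↥(chevD4.group F)) (δ * θ) := by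
    rw [map_mul, map_mul, hmk]
    exact h1
  have h3 : θ * δ * (δ * θ)⁻¹ ∈ Cfsg.Inn ↥(chevD4.group F) := by
    apply (QuotientGroup.eq_one_iff _).1
    show QuotientGroup.mk' (Cfsg.Inn ↥(chevD4.group F)) (θ * δ * (δ * θ)⁻¹) = 1
    rw [map_mul, map_inv, h2, mul_inv_cancel]
  obtain ⟨k, hk⟩ := h3
  have hkA0 : MulAut.conj k ∈ h8A0 chevD4 F := by
    rw [hk]
    exact Subgroup.mul_mem _ (Subgroup.mul_mem _ hθ hδ)
      (Subgroup.inv_mem _ (Subgroup.mul_mem _ hδ hθ))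
  have hkH := h8av_inner_UV chevD4 h8oq_hD4 k hkA0
  obtain ⟨κ, hκ, hκstd⟩ := h8od_std_conjH chevD4 h8oq_hD4 k hkH
  have f1 := h8od_std_mul chevD4 h8oq_hD4 (h8oq_hexp4 F) θ δ ρ 1 c c' _ _ hstd hδstd
  have f2 := h8od_std_mul chevD4 h8oq_hD4 (h8oq_hexp4 F) δ θ 1 ρ c' c _ _ hδstd hstd
  have f3 := h8od_std_mul chevD4 h8oq_hD4 (h8oq_hexp4 F) _ _ _ _ _ _ _ _ hκstd f2
  have e : MulAut.conj k * (δ * θ) = θ * δ := by rw [hk, inv_mul_cancel_right]
  rw [e] at f3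
  have hu := (h8av_std_unique chevD4 h8oq_hD4 _ _ _ _ _ _ _ f1 f3).2.1
  have hux := congrFun hu x
  have huy := congrFun hu (ρ⁻¹ y)
  have hinvy : ρ (ρ⁻¹ y) = y := ρ.apply_symm_apply y
  simp only [h8oq_refl_map, Equiv.Perm.coe_one, id_eq, Equiv.Perm.coe_mul, Function.comp_apply,
    hinvy] at hux huy
  have hc1 : c' x = ν := if_pos rfl
  have hc2 : c' (ρ x) = 1 := if_neg hx
  have hc3 : c' y = 1 := if_neg hyx
  have hc4 : c' (ρ⁻¹ y) = 1 := by
    apply if_neg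
    intro h
    apply hyρ
    rw [← h, hinvy]
  rw [hc1, hc2, one_mul, mul_comm] at hux
  rw [hc3, hc4, one_mul, mul_one] at huy
  have hκx : κ (ρ x) = ν := (mul_right_cancel hux).symm
  have hκy : κ y = 1 := by
    have : (1 : Fˣ) * c (ρ⁻¹ y) = κ y * c (ρ⁻¹ y) := by rw [one_mul]; exact huy
    exact (mul_right_cancel this).symm
  have hinv := h8oq_D4_inv (k : GL chevD4.Idx F) hkH (ρ x) y hρx1 hy1
  rw [← hκ, ← hκ, hκx, hκy, Units.val_one, mul_one] at hinv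
  exact hν hinv

end

section
variable (F) [Fintype F] (p f : ℕ) [Fact p.Prime] [CharP F p] (hF : Fintype.card F = p ^ f)

omit [Field F] [Fintype F] [CharP F p] in
theorem h8oq_gcd_odd (hp : p ≠ 2) : Nat.gcd 2 (p ^ f - 1) = 2 := by
  have hodd : Odd p := (Fact.out : p.Prime).odd_of_ne_two hp
  have h1 : Odd (p ^ f) := hodd.pow
  have h2 : 0 < p ^ f := Nat.pos_of_ne_zero (pow_ne_zero _ (Fact.out : p.Prime).ne_zero)
  obtain ⟨m, hm⟩ := h1
  apply Nat.gcd_eq_left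
  exact ⟨m, by omega⟩

include hF in
/-- the classes with trivial field part form a symmetric group of degree four when `q` is odd -/
theorem h8oq_A_S4 (hp : p ≠ 2) : Nonempty (↥(h8oqA F) ≃* Equiv.Perm (Fin 4)) := by
  have hA := h8oq_A_card F p f hF
  have hV := h8oq_V_card F p f hF
  rw [h8oq_gcd_odd p f hp] at hA hV
  have hchar : ringChar F ≠ 2 := by
    rw [ringChar.eq F p]
    exact hp
  obtain ⟨ν0, hν0⟩ := FiniteField.exists_nonsquare hchar
  have hne : ν0 ≠ 0 := by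
    rintro rfl
    exact hν0 ⟨0, by simp⟩
  exact Cfsg.Agent.Lib.Helper29.ru_lemmaS4 (hA.trans (by norm_num)) (h8oqV F) (hV.trans (by norm_num))
    (fun a ha => h8oq_cent F (Units.mk0 ν0 hne) hν0 a ha)

end

theorem h8oq_s4_exp : ∀ x : Equiv.Perm (Fin 4), x ^ 4 = 1 → x ^ 2 ≠ 1 →
    5 ≤ (Finset.univ.image (fun g : Equiv.Perm (Fin 4) => g * x * g⁻¹)).card := by
  decide +kernel

/-- a normal subgroup of order four of the symmetric group of degree four has exponent two -/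
theorem h8oq_s4_klein (N : Subgroup (Equiv.Perm (Fin 4))) [hN : N.Normal] (hc : Nat.card ↥N = 4)
    (x : Equiv.Perm (Fin 4)) (hx : x ∈ N) : x ^ 2 = 1 := by
  by_contra h2
  have h4 : x ^ 4 = 1 := by
    have : (⟨x, hx⟩ : ↥N) ^ Nat.card ↥N = 1 := pow_card_eq_one'
    rw [hc] at this
    exact congrArg Subtype.val this
  have h5 := h8oq_s4_exp x h4 h2
  have hsub : ((Finset.univ.image (fun g : Equiv.Perm (Fin 4) => g * x * g⁻¹) :
      Finset (Equiv.Perm (Fin 4))) : Set (Equiv.Perm (Fin 4))) ⊆ (N : Set (Equiv.Perm (Fin 4))) := by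
    intro s hs
    rw [Finset.mem_coe, Finset.mem_image] at hs
    obtain ⟨g, -, rfl⟩ := hs
    exact hN.conj_mem x hx g
  have h6 := Set.ncard_le_ncard hsub (Set.toFinite _)
  rw [Set.ncard_coe_finset, ← Nat.card_coe_set_eq] at h6
  have : Nat.card ↥(N : Set (Equiv.Perm (Fin 4))) = 4 := hc
  omega

end Cfsg.Agent.Lib.helper8
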