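import Mathlib
import Cfsg.Prelude.Def_ChevAutomorphisms
import Cfsg.Prelude.Def_KGroupFacts
import Cfsg.Agent.Lib.helper8.ChevOD3

/-! The outer automorphism group of `D₄(q)`: the direct decomposition. -/

set_option autoImplicit false

namespace Cfsg.Agent.Lib.helper8

open Cfsg.Lie Cfsg.Lie.ChevalleyDatum

universe u

variable {F : Type u} [Field F]

theorem h8oq_trans_refl_map (τ : F ≃+* F) (u : Fˣ) :
    Units.map ((τ.trans (RingEquiv.refl F) : F ≃+* F) : F →* F) u = Units.map (τ : F →* F) u :=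
  Units.ext rfl

/-- a unit divided by its image under a field automorphism is a square -/
theorem h8oq_sq_quot [Finite F] (τ : F ≃+* F) (u : Fˣ) :
    ∃ w : Fˣ, u / Units.map (τ : F →* F) u = w * w := by
  classical
  have := Fintype.ofFinite F
  have hu : (u : F) ≠ 0 := u.ne_zero
  have hτu : τ (u : F) ≠ 0 := (map_ne_zero τ).2 hu
  have hsq : IsSquare ((u : F) * τ u) := by
    by_cases h : IsSquare (u : F)
    · obtain ⟨s, hs⟩ := h
      refine ⟨s * τ s, ?_⟩
      rw [hs, map_mul]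
      ring
    · have h' : ¬ IsSquare (τ (u : F)) := by
        rintro ⟨r, hr⟩
        apply h
        refine ⟨τ.symm r, ?_⟩
        rw [← map_mul, ← hr, RingEquiv.symm_apply_apply]
      rw [← quadraticChar_one_iff_isSquare (mul_ne_zero hu hτu), map_mul,
        quadraticChar_neg_one_iff_not_isSquare.2 h, quadraticChar_neg_one_iff_not_isSquare.2 h']
      norm_num
  obtain ⟨s, hs⟩ := hsq
  have hs0 : s ≠ 0 := by
    rintro rfl
    rw [mul_zero] at hs
    exact mul_ne_zero hu hτu hs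
  refine ⟨Units.mk0 s hs0 * (Units.map (τ : F →* F) u)⁻¹, ?_⟩
  apply Units.ext
  simp only [Units.val_div_eq_div_val, Units.val_mul, Units.val_mk0, Units.val_inv_eq_inv_val,
    Units.coe_map, MonoidHom.coe_coe]
  field_simp
  rw [hs]
  ring

section
variable (F) [Finite F]

/-- the field automorphisms commute with the classes with trivial field part, if the
quotients `u / τ u` give inner diagonal automorphisms -/
theorem h8oq_field_comm
    (hsq : ∀ (δ : MulAut ↥(chevD4.group F)) (u : Fin chevD4.rank → Fˣ) (τ : F ≃+* F),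
      δ ∈ h8A0 chevD4 F →
      H8Std chevD4 (h8base_all.{u} chevD4 h8oq_hD4) δ 1
        (fun j => u j / Units.map (τ : F →* F) (u j)) (RingEquiv.refl F) →
      δ ∈ Cfsg.Inn ↥(chevD4.group F))
    (a : Cfsg.Out ↥(chevD4.group F)) (ha : a ∈ h8oqA F) (τ : RingAut F) :
    QuotientGroup.mk' (Cfsg.Inn ↥(chevD4.group F)) (h8fieldHom chevD4 h8oq_hD4 τ) * a =
      a * QuotientGroup.mk' (Cfsg.Inn ↥(chevD4.group F)) (h8fieldHom chevD4 h8oq_hD4 τ) := by
  obtain ⟨θ, ρ, c, hθ, hstd, rfl⟩ := h8oq_A_rep F a ha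
  have hφstd : H8Std chevD4 (h8base_all.{u} chevD4 h8oq_hD4) (h8fieldHom chevD4 h8oq_hD4 τ) 1
      (fun _ => 1) (RingEquiv.trans τ (RingEquiv.refl F)) := by
    have h := h8av_std_mul_field chevD4 h8oq_hD4 1 1 (fun _ => 1) (RingEquiv.refl F) τ
      (h8av_std_one chevD4 h8oq_hD4)
    rwa [one_mul] at h
  have g1 : H8Std chevD4 (h8base_all.{u} chevD4 h8oq_hD4) (θ * h8fieldHom chevD4 h8oq_hD4 τ) ρ c
      (RingEquiv.trans τ (RingEquiv.refl F)) :=
    h8av_std_mul_field chevD4 h8oq_hD4 θ ρ c (RingEquiv.refl F) τ hstd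
  have g2 := h8od_std_mul chevD4 h8oq_hD4 (h8oq_hexp4 F) _ θ 1 ρ (fun _ => 1) c _ _ hφstd hstd
  obtain ⟨δ, hδ, hδstd⟩ := h8oq_diag_exists F
    (fun j => c (ρ⁻¹ j) / Units.map ((τ : F ≃+* F) : F →* F) (c (ρ⁻¹ j)))
  have g3 := h8od_std_mul chevD4 h8oq_hD4 (h8oq_hexp4 F) δ _ 1 _ _ _ _ _ hδstd g2
  have hinv : ∀ i, ρ⁻¹ (ρ i) = i := fun i => ρ.symm_apply_apply i
  have g3' := h8oq_std_congr _ _ ρ _ c _ (RingEquiv.trans τ (RingEquiv.refl F)) g3
    (by rw [one_mul, one_mul])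
    (by
      funext i
      simp only [hinv, h8oq_refl_map, h8oq_trans_refl_map, one_mul]
      exact div_mul_cancel _ _)
    (by ext t; rfl)
  have e := h8av_std_ext chevD4 h8oq_hD4 _ _ ρ c _ g1 g3'
  have hin : QuotientGroup.mk' (Cfsg.Inn ↥(chevD4.group F)) δ = 1 :=
    (QuotientGroup.eq_one_iff _).2 (hsq δ (fun j => c (ρ⁻¹ j)) τ hδ hδstd)
  calc QuotientGroup.mk' (Cfsg.Inn ↥(chevD4.group F)) (h8fieldHom chevD4 h8oq_hD4 τ) *
        QuotientGroup.mk' (Cfsg.Inn ↥(chevD4.group F)) θ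
      = QuotientGroup.mk' (Cfsg.Inn ↥(chevD4.group F)) (h8fieldHom chevD4 h8oq_hD4 τ * θ) :=
        (map_mul _ _ _).symm
    _ = QuotientGroup.mk' (Cfsg.Inn ↥(chevD4.group F)) δ *
          QuotientGroup.mk' (Cfsg.Inn ↥(chevD4.group F)) (h8fieldHom chevD4 h8oq_hD4 τ * θ) := by
        rw [hin, one_mul]
    _ = QuotientGroup.mk' (Cfsg.Inn ↥(chevD4.group F))
          (δ * (h8fieldHom chevD4 h8oq_hD4 τ * θ)) := (map_mul _ _ _).symm
    _ = QuotientGroup.mk' (Cfsg.Inn ↥(chevD4.group F)) (θ * h8fieldHom chevD4 h8oq_hD4 τ) := by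
        rw [e]
    _ = _ := map_mul _ _ _

end

section
variable (F) [Fintype F] (p f : ℕ) [Fact p.Prime] [CharP F p] (hF : Fintype.card F = p ^ f)

include hF in
/-- the classes of the diagonal automorphisms have exponent two when `q` is odd -/
theorem h8oq_V_exp (hp : p ≠ 2) (v : ↥(h8oqA F)) (hv : v ∈ h8oqV F) : v * v = 1 := by
  obtain ⟨e⟩ := h8oq_A_S4 F p f hF hp
  have hV := h8oq_V_card F p f hF
  rw [h8oq_gcd_odd p f hp] at hV
  have hn : ((h8oqV F).map e.toMonoidHom).Normal :=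
    Subgroup.Normal.map inferInstance _ e.surjective
  have hc : Nat.card ↥((h8oqV F).map e.toMonoidHom) = 4 := by
    rw [Subgroup.card_map_of_injective e.injective, hV]
    norm_num
  have h2 := h8oq_s4_klein _ hc (e v) (Subgroup.mem_map_of_mem _ hv)
  apply e.injective
  rw [map_mul, map_one, ← pow_two]
  exact h2

include hF in
/-- the decomposition of the outer automorphism group of `D₄(q)` -/
theorem h8oq_prod
    (hcomm : ∀ a ∈ h8oqA F, ∀ τ : RingAut F,
      QuotientGroup.mk' (Cfsg.Inn ↥(chevD4.group F)) (h8fieldHom chevD4 h8oq_hD4 τ) * a =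
        a * QuotientGroup.mk' (Cfsg.Inn ↥(chevD4.group F)) (h8fieldHom chevD4 h8oq_hD4 τ)) :
    Nonempty (Cfsg.Out ↥(chevD4.group F) ≃* ↥(h8oqA F) × Multiplicative (ZMod f)) := by
  let g : RingAut F →* Cfsg.Out ↥(chevD4.group F) :=
    (QuotientGroup.mk' (Cfsg.Inn ↥(chevD4.group F))).comp (h8fieldHom chevD4 h8oq_hD4)
  let ψ : ↥(h8oqA F) × RingAut F →* Cfsg.Out ↥(chevD4.group F) :=
    MonoidHom.noncommCoprod (h8oqA F).subtype g (fun a τ => (hcomm a.val a.2 τ).symm)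
  have hψ : ∀ a τ, ψ (a, τ) = a.val * g τ := fun a τ => MonoidHom.noncommCoprod_apply _ _ _ _
  have hg : ∀ τ, h8odSbar chevD4 h8oq_hD4 (h8oq_hexp4 F) (g τ) = τ := by
    intro τ
    show h8odSbar chevD4 h8oq_hD4 (h8oq_hexp4 F) (QuotientGroup.mk' _ _) = τ
    rw [h8odSbar_mk, h8odS_field]
  have hinj : Function.Injective ψ := by
    rw [injective_iff_map_eq_one]
    rintro ⟨a, τ⟩ h
    rw [hψ] at h
    have h1 := congrArg (h8odSbar chevD4 h8oq_hD4 (h8oq_hexp4 F)) h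
    have ha : h8odSbar chevD4 h8oq_hD4 (h8oq_hexp4 F) a.val = 1 := a.2
    rw [map_mul, ha, one_mul, hg, map_one] at h1
    subst h1
    rw [map_one, mul_one] at h
    have : a = 1 := Subtype.ext h
    rw [this]
    rfl
  have hcard : Nat.card (Cfsg.Out ↥(chevD4.group F)) ≤ Nat.card (↥(h8oqA F) × RingAut F) := by
    rw [Nat.card_prod, h8oq_A_card F p f hF, h8out_D4 (F := F) p f hF]
    have : Nat.card (RingAut F) = f := h8av_ringAut_card p f hF
    rw [this]
  have hbij : Function.Bijective ψ := hinj.bijective_of_nat_card_le hcard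
  have e1 : ↥(h8oqA F) × RingAut F ≃* Cfsg.Out ↥(chevD4.group F) := MulEquiv.ofBijective ψ hbij
  have e2 := zmodCyclicMulEquiv (h8ax_ringAut_cyclic (F := F))
  have hc : Nat.card (RingAut F) = f := h8av_ringAut_card p f hF
  rw [hc] at e2
  exact ⟨e1.symm.trans (MulEquiv.prodCongr (MulEquiv.refl _) e2.symm)⟩

include hF in
/-- the inner diagonal automorphisms, `q` odd -/
theorem h8oq_hsq_odd (hp : p ≠ 2) (δ : MulAut ↥(chevD4.group F)) (u : Fin chevD4.rank → Fˣ)
    (τ : F ≃+* F) (_hδ : δ ∈ h8A0 chevD4 F)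
    (hstd : H8Std chevD4 (h8base_all.{u} chevD4 h8oq_hD4) δ 1
        (fun j => u j / Units.map (τ : F →* F) (u j)) (RingEquiv.refl F)) :
    δ ∈ Cfsg.Inn ↥(chevD4.group F) := by
  choose w hw using fun j => h8oq_sq_quot τ (u j)
  obtain ⟨δ', hδ', hstd'⟩ := h8oq_diag_exists F w
  have g := h8od_std_mul chevD4 h8oq_hD4 (h8oq_hexp4 F) δ' δ' 1 1 w w _ _ hstd' hstd'
  have g' := h8oq_std_congr _ _ 1 _ (fun j => u j / Units.map (τ : F →* F) (u j)) _
    (RingEquiv.refl F) g (one_mul 1)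
    (by
      funext j
      simp only [Equiv.Perm.coe_one, id_eq, h8oq_refl_map]
      exact (hw j).symm)
    (by ext t; rfl)
  have e := h8av_std_ext chevD4 h8oq_hD4 _ _ _ _ _ hstd g'
  have hv : (⟨_, h8oq_mk_mem_A F δ' 1 w hδ' hstd'⟩ : ↥(h8oqA F)) ∈ h8oqV F := by
    unfold h8oqV
    rw [MonoidHom.mem_ker]
    exact h8oq_RA_mk F δ' 1 w hδ' hstd'
  have h2 := congrArg Subtype.val (h8oq_V_exp F p f hF hp _ hv)
  apply (QuotientGroup.eq_one_iff _).1
  show QuotientGroup.mk' (Cfsg.Inn ↥(chevD4.group F)) δ = 1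
  rw [e, map_mul]
  exact h2

include hF in
/-- the outer automorphism group of `D₄(q)`, `q` odd -/
theorem h8out_D4_odd (hp : p ≠ 2) :
    Nonempty (Cfsg.Out ↥(chevD4.group F) ≃* Equiv.Perm (Fin 4) × Multiplicative (ZMod f)) := by
  obtain ⟨e1⟩ := h8oq_prod F p f hF
    (h8oq_field_comm F (fun δ u τ hδ hstd => h8oq_hsq_odd F p f hF hp δ u τ hδ hstd))
  obtain ⟨e2⟩ := h8oq_A_S4 F p f hF hp
  exact ⟨e1.trans (MulEquiv.prodCongr e2 (MulEquiv.refl _))⟩

include hF in
theorem h8oq_V_bot (hp : p = 2) : h8oqV F = ⊥ := by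
  have hV := h8oq_V_card F p f hF
  have hf := h8oq_f_pos F p f hF
  have hodd : Nat.gcd 2 (p ^ f - 1) = 1 := by
    subst hp
    obtain ⟨k, rfl⟩ : ∃ k, f = k + 1 := ⟨f - 1, by omega⟩
    have h1 : 0 < 2 ^ k := Nat.pos_of_ne_zero (pow_ne_zero _ (by norm_num))
    have h2 : 2 ^ (k + 1) - 1 = 2 * (2 ^ k - 1) + 1 := by rw [pow_succ]; omega
    rw [h2]
    simp
  rw [hodd, one_pow] at hV
  exact Subgroup.card_eq_one.1 hV

include hF in
/-- the inner diagonal automorphisms, `q` even -/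
theorem h8oq_hsq_two (hp : p = 2) (δ : MulAut ↥(chevD4.group F)) (e : Fin chevD4.rank → Fˣ)
    (hδ : δ ∈ h8A0 chevD4 F)
    (hstd : H8Std chevD4 (h8base_all.{u} chevD4 h8oq_hD4) δ 1 e (RingEquiv.refl F)) :
    δ ∈ Cfsg.Inn ↥(chevD4.group F) := by
  have hv : (⟨_, h8oq_mk_mem_A F δ 1 e hδ hstd⟩ : ↥(h8oqA F)) ∈ h8oqV F := by
    unfold h8oqV
    rw [MonoidHom.mem_ker]
    exact h8oq_RA_mk F δ 1 e hδ hstd
  rw [h8oq_V_bot F p f hF hp, Subgroup.mem_bot] at hv
  apply (QuotientGroup.eq_one_iff _).1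
  exact congrArg Subtype.val hv

include hF in
/-- the classes with trivial field part form a symmetric group of degree three when `q` is even -/
theorem h8oq_A_S3 (hp : p = 2) : Nonempty (↥(h8oqA F) ≃* Equiv.Perm (Fin 3)) := by
  have hinj : Function.Injective (h8oqRA F) := by
    rw [← MonoidHom.ker_eq_bot_iff]
    exact h8oq_V_bot F p f hF hp
  let ι : Fin 3 ↪ Fin chevD4.rank := Fin.succAboveEmb (1 : Fin 4)
  have hι : (⟨1, by decide⟩ : Fin chevD4.rank) ∉ Set.range ι := by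
    rintro ⟨i, hi⟩
    exact Fin.succAbove_ne (1 : Fin 4) i hi
  have hle : (Equiv.Perm.viaEmbeddingHom ι).range ≤ (h8oqRA F).range := by
    rintro _ ⟨τ, rfl⟩
    rw [h8oq_RA_range]
    apply h8ax_D4_realized h8oq_hD4
    rw [h8oq_sym_fix]
    exact Equiv.Perm.viaEmbedding_apply_of_notMem τ ι _ hι
  have hc1 : Nat.card ↥(h8oqRA F).range = 6 := by
    rw [h8oq_RA_range]
    exact h8ax_D4_card h8oq_hD4
  have hc2 : Nat.card ↥(Equiv.Perm.viaEmbeddingHom ι).range = 6 := by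
    rw [← Nat.card_congr
      (MonoidHom.ofInjective (Equiv.Perm.viaEmbeddingHom_injective ι)).toEquiv, Nat.card_perm,
      Nat.card_fin]
    rfl
  have heq := Subgroup.eq_of_le_of_card_ge hle (by rw [hc1, hc2])
  exact ⟨(MonoidHom.ofInjective hinj).trans ((MulEquiv.subgroupCongr heq.symm).trans
    (MonoidHom.ofInjective (Equiv.Perm.viaEmbeddingHom_injective ι)).symm)⟩

include hF in
/-- the outer automorphism group of `D₄(q)`, `q` even -/
theorem h8out_D4_two (hp : p = 2) :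
    Nonempty (Cfsg.Out ↥(chevD4.group F) ≃* Equiv.Perm (Fin 3) × Multiplicative (ZMod f)) := by
  obtain ⟨e1⟩ := h8oq_prod F p f hF
    (h8oq_field_comm F (fun δ u τ hδ hstd => h8oq_hsq_two F p f hF hp δ _ hδ hstd))
  obtain ⟨e2⟩ := h8oq_A_S3 F p f hF hp
  exact ⟨e1.trans (MulEquiv.prodCongr e2 (MulEquiv.refl _))⟩

end

/-- the characteristic of a finite field of order `p ^ f` -/
theorem h8oq_charP (F : Type u) [Field F] [Fintype F] (p f : ℕ) [hp : Fact p.Prime]
    (hF : Fintype.card F = p ^ f) : CharP F p := by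
  obtain ⟨r, hr⟩ := CharP.exists F
  obtain ⟨n, hrp, hn⟩ := FiniteField.card F r
  have hf : f ≠ 0 := by
    rintro rfl
    have := Fintype.one_lt_card (α := F)
    rw [hF, pow_zero] at this
    omega
  have h1 : p ∣ (r : ℕ) ^ (n : ℕ) := by
    rw [← hn, hF]
    exact dvd_pow_self p hf
  have h2 : p = r := (Nat.prime_dvd_prime_iff_eq hp.out hrp).1 (hp.out.dvd_of_dvd_pow h1)
  rw [h2]
  exact hr

/-- **PPA-D4c**: the outer automorphism group of `D₄(q)`, `q` odd -/
theorem h8out_D4_odd' (F : Type u) [Field F] [Fintype F] (p f : ℕ) [Fact p.Prime]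
    (hF : Fintype.card F = p ^ f) (hp : p ≠ 2) :
    Nonempty (Cfsg.Out ↥(chevD4.group F) ≃* Equiv.Perm (Fin 4) × Multiplicative (ZMod f)) := by
  have := h8oq_charP F p f hF
  exact h8out_D4_odd F p f hF hp

/-- **PPA-D4b**: the outer automorphism group of `D₄(q)`, `q` even -/
theorem h8out_D4_two' (F : Type u) [Field F] [Fintype F] (f : ℕ)
    (hF : Fintype.card F = 2 ^ f) :
    Nonempty (Cfsg.Out ↥(chevD4.group F) ≃* Equiv.Perm (Fin 3) × Multiplicative (ZMod f)) := by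
  have : Fact (Nat.Prime 2) := ⟨Nat.prime_two⟩
  have := h8oq_charP F 2 f hF
  exact h8out_D4_two F 2 f hF rfl

end Cfsg.Agent.Lib.helper8
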