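import Mathlib
import Cfsg.Prelude.Def_ChevStructure
import Cfsg.Agent.Lib.helper8.ChevPair

set_option autoImplicit false

namespace Cfsg.Agent.Lib.helper8

open Cfsg.Lie Cfsg.Lie.ChevalleyDatum

def h8pairWs_G2 : List (List ℕ) := [[], [0, 1, 0], [0, 1]]

def h8pairCert_G2 : List ℕ := [0, 1, 1, 2, 1, 2, 0, 0, 0, 0, 0, 0]

theorem h8pairChk_G2 : h8pairChk chevG2 h8pairWs_G2 h8pairCert_G2 = true := by decide +kernel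

def h8pairWs_D4 : List (List ℕ) := [[], [2, 1, 3, 1, 2, 1, 0], [1, 3, 2, 1]]

def h8pairCert_D4 : List ℕ := [0, 1, 1, 1, 1, 1, 2, 2, 2, 2, 1, 1, 0, 0, 0, 0, 0, 0, 0, 0, 0, 0, 0, 0]

theorem h8pairChk_D4 : h8pairChk chevD4 h8pairWs_D4 h8pairCert_D4 = true := by decide +kernel

def h8pairWs_E6 : List (List ℕ) := [[], [3, 4, 2, 3, 0, 2, 1, 3, 4, 2, 3, 0, 2, 1, 3, 0, 2, 1, 0], [2, 3, 4, 5, 1, 3, 4, 2, 3, 0, 2, 1, 3, 4, 5, 4]]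

def h8pairCert_E6 : List ℕ := [0, 2, 2, 2, 1, 2, 2, 1, 2, 1, 1, 2, 1, 1, 1, 1, 2, 2, 1, 2, 1, 1, 2, 1, 1, 1, 2, 1, 1, 1, 2, 1, 1, 2, 2, 2, 0, 0, 0, 0, 0, 0, 0, 0, 0, 0, 0, 0, 0, 0, 0, 0, 0, 0, 0, 0, 0, 0, 0, 0, 0, 0, 0, 0, 0, 0, 0, 0, 0, 0, 0, 0]

theorem h8pairChk_E6 : h8pairChk chevE6 h8pairWs_E6 h8pairCert_E6 = true := by decide +kernel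

def h8pairWs_E7 : List (List ℕ) := [[], [0, 2, 3, 4, 5, 6, 1, 3, 4, 5, 2, 3, 4, 1, 3, 2], [0, 2, 3, 4, 5, 6, 1, 3, 4, 5], [0, 2, 3, 4, 1, 3], [0, 2, 3, 4, 1], [0, 2, 3, 4, 5, 6], [0], [0, 2], [0, 2, 3], [0, 2, 3, 1], [0, 2, 3, 4], [0, 2, 3, 4, 5], [0, 2, 3, 4, 5, 1], [0, 2, 3, 4, 1, 3, 2], [0, 2, 3, 4, 5, 1, 3], [0, 2, 3, 4, 5, 6, 1], [0, 2, 3, 4, 5, 1, 3, 2], [0, 2, 3, 4, 5, 1, 3, 4], [0, 2, 3, 4, 5, 6, 1, 3], [0, 2, 3, 4, 5, 1, 3, 4, 2], [0, 2, 3, 4, 5, 6, 1, 3, 2], [0, 2, 3, 4, 5, 6, 1, 3, 4], [0, 2, 3, 4, 5, 1, 3, 4, 2, 3], [0, 2, 3, 4, 5, 6, 1, 3, 4, 2], [0, 2, 3, 4, 5, 1, 3, 4, 2, 3, 1], [0, 2, 3, 4, 5, 6, 1, 3, 4, 2, 3], [0, 2, 3, 4, 5, 6, 1, 3, 4, 5, 2], [0,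 2, 3, 4, 5, 6, 1, 3, 4, 2, 3, 1], [0, 2, 3, 4, 5, 6, 1, 3, 4, 5, 2, 3], [0, 2, 3, 4, 5, 6, 1, 3, 4, 5, 2, 3, 1], [0, 2, 3, 4, 5, 6, 1, 3, 4, 5, 2, 3, 4], [0, 2, 3, 4, 5, 6, 1, 3, 4, 5, 2, 3, 4, 1], [0, 2, 3, 4, 5, 6, 1, 3, 4, 5, 2, 3, 4, 1, 3]]

def h8pairCert_E7 : List ℕ := [0, 1, 32, 31, 29, 27, 24, 30, 28, 25, 22, 26, 23, 19, 20, 16, 13, 2, 21, 17, 18, 14, 3, 15, 12, 4, 9, 5, 11, 10, 8, 7, 6, 1, 1, 1, 1, 1, 1, 1, 1, 1, 1, 2, 2, 3, 3, 4, 1, 1, 1, 1, 1, 2, 2, 3, 3, 2, 2, 4, 2, 2, 5, 0, 0, 0, 0, 0, 0, 0, 0, 0, 0, 0, 0, 0, 0, 0, 0, 0, 0, 0, 0, 0, 0, 0, 0, 0, 0, 0, 0, 0, 0, 0, 0, 0, 0, 0, 0, 0, 0, 0, 0, 0, 0, 0, 0, 0, 0, 0, 0, 0, 0, 0, 0, 0, 0, 0, 0, 0, 0, 0, 0, 0, 0,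 0]

theorem h8pairChk_E7 : h8pairChk chevE7 h8pairWs_E7 h8pairCert_E7 = true := by decide +kernel

def h8pairWs_E8 : List (List ℕ) := [[], [7, 6, 5, 4, 3, 2, 1, 3, 4, 5, 6, 0, 2, 3, 4, 5, 1, 3, 4, 2, 3, 0, 2, 1, 3, 4, 5, 6], [7, 6, 5, 4, 3, 2, 1, 3, 4, 5, 0, 2, 3, 4, 1, 3, 2, 0], [7, 6, 5, 4, 3, 2, 1, 3, 4, 5, 0, 2, 3, 4, 1, 3, 2], [7, 6, 5, 4, 3, 2, 1, 3, 4, 5, 0, 2, 3, 4, 1, 3], [7, 6, 5, 4, 3, 2, 1, 3, 4, 5, 0, 2, 3, 4, 1], [7, 6, 5], [7], [7, 6], [7, 6, 5, 4], [7, 6, 5, 4, 3], [7, 6, 5, 4, 3, 1], [7, 6, 5, 4, 3, 2], [7, 6, 5, 4, 3, 2, 0], [7, 6, 5, 4, 3, 2, 1], [7, 6, 5, 4, 3, 2, 1, 0], [7, 6, 5, 4, 3, 2, 1, 3], [7, 6, 5, 4, 3, 2, 1, 3, 0], [7, 6, 5, 4, 3, 2, 1,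 3, 4], [7, 6, 5, 4, 3, 2, 1, 3, 0, 2], [7, 6, 5, 4, 3, 2, 1, 3, 4, 0], [7, 6, 5, 4, 3, 2, 1, 3, 4, 5], [7, 6, 5, 4, 3, 2, 1, 3, 4, 0, 2], [7, 6, 5, 4, 3, 2, 1, 3, 4, 5, 0], [7, 6, 5, 4, 3, 2, 1, 3, 4, 5, 6], [7, 6, 5, 4, 3, 2, 1, 3, 4, 0, 2, 3], [7, 6, 5, 4, 3, 2, 1, 3, 4, 5, 0, 2], [7, 6, 5, 4, 3, 2, 1, 3, 4, 5, 6, 0], [7, 6, 5, 4, 3, 2, 1, 3, 4, 0, 2, 3, 1], [7, 6, 5, 4, 3, 2, 1, 3, 4, 5, 0, 2, 3], [7, 6, 5, 4, 3, 2, 1, 3, 4, 5, 6, 0, 2], [7, 6, 5, 4, 3, 2, 1, 3, 4, 5, 0, 2, 3, 1], [7, 6, 5, 4, 3, 2, 1, 3, 4, 5, 0, 2, 3, 4], [7, 6, 5, 4, 3, 2, 1, 3, 4, 5, 6, 0, 2, 3], [7, 6, 5, 4, 3, 2, 1, 3, 4, 5, 6, 0, 2, 3, 1], [7, 6, 5, 4, 3, 2, 1, 3, 4, 5, 6, 0, 2, 3, 4], [7,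 6, 5, 4, 3, 2, 1, 3, 4, 5, 6, 0, 2, 3, 4, 1], [7, 6, 5, 4, 3, 2, 1, 3, 4, 5, 6, 0, 2, 3, 4, 5], [7, 6, 5, 4, 3, 2, 1, 3, 4, 5, 6, 0, 2, 3, 4, 1, 3], [7, 6, 5, 4, 3, 2, 1, 3, 4, 5, 6, 0, 2, 3, 4, 5, 1], [7, 6, 5, 4, 3, 2, 1, 3, 4, 5, 6, 0, 2, 3, 4, 1, 3, 2], [7, 6, 5, 4, 3, 2, 1, 3, 4, 5, 6, 0, 2, 3, 4, 5, 1, 3], [7, 6, 5, 4, 3, 2, 1, 3, 4, 5, 6, 0, 2, 3, 4, 1, 3, 2, 0], [7, 6, 5, 4, 3, 2, 1, 3, 4, 5, 6, 0, 2, 3, 4, 5, 1, 3, 2], [7, 6, 5, 4, 3, 2, 1, 3, 4, 5, 6, 0, 2, 3, 4, 5, 1, 3, 4], [7, 6, 5, 4, 3, 2, 1, 3, 4, 5, 6, 0, 2, 3, 4, 5, 1, 3, 2, 0], [7, 6, 5, 4, 3, 2, 1, 3, 4, 5, 6, 0, 2, 3, 4, 5, 1, 3, 4, 2], [7, 6, 5, 4, 3, 2, 1, 3, 4, 5, 6, 0, 2, 3, 4, 5, 1, 3, 4, 2,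 0], [7, 6, 5, 4, 3, 2, 1, 3, 4, 5, 6, 0, 2, 3, 4, 5, 1, 3, 4, 2, 3], [7, 6, 5, 4, 3, 2, 1, 3, 4, 5, 6, 0, 2, 3, 4, 5, 1, 3, 4, 2, 3, 0], [7, 6, 5, 4, 3, 2, 1, 3, 4, 5, 6, 0, 2, 3, 4, 5, 1, 3, 4, 2, 3, 1], [7, 6, 5, 4, 3, 2, 1, 3, 4, 5, 6, 0, 2, 3, 4, 5, 1, 3, 4, 2, 3, 1, 0], [7, 6, 5, 4, 3, 2, 1, 3, 4, 5, 6, 0, 2, 3, 4, 5, 1, 3, 4, 2, 3, 0, 2], [7, 6, 5, 4, 3, 2, 1, 3, 4, 5, 6, 0, 2, 3, 4, 5, 1, 3, 4, 2, 3, 0, 2, 1], [7, 6, 5, 4, 3, 2, 1, 3, 4, 5, 6, 0, 2, 3, 4, 5, 1, 3, 4, 2, 3, 0, 2, 1, 3], [7, 6, 5, 4, 3, 2, 1, 3, 4, 5, 6, 0, 2, 3, 4, 5, 1, 3, 4, 2, 3, 0, 2, 1, 3, 4], [7, 6, 5, 4, 3, 2, 1, 3, 4, 5, 6, 0, 2, 3, 4, 5, 1, 3, 4, 2, 3, 0, 2, 1, 3, 4, 5]]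

def h8pairCert_E8 : List ℕ := [0, 1, 56, 55, 54, 53, 51, 52, 49, 47, 45, 42, 2, 1, 50, 48, 46, 43, 40, 3, 1, 44, 41, 38, 4, 1, 39, 36, 5, 1, 34, 31, 1, 28, 1, 2, 37, 35, 32, 1, 33, 29, 1, 25, 1, 2, 30, 26, 1, 22, 1, 2, 19, 1, 2, 2, 27, 23, 1, 20, 1, 2, 17, 1, 2, 2, 15, 1, 2, 2, 2, 13, 1, 2, 2, 2, 2, 2, 24, 21, 1, 18, 1, 3, 16, 1, 3, 3, 14, 1, 3, 3, 3, 11, 1, 4, 4, 4, 5, 12, 1, 3, 3, 3, 3, 10, 1, 4, 4, 4, 9, 1, 5, 5, 6, 1, 6, 8, 1, 7, 0, 0, 0, 0, 0, 0, 0, 0, 0, 0, 0, 0, 0, 0, 0, 0, 0, 0, 0, 0, 0, 0, 0, 0, 0, 0, 0, 0, 0, 0, 0, 0, 0, 0, 0, 0, 0, 0, 0, 0, 0, 0, 0, 0, 0, 0, 0, 0, 0, 0, 0, 0, 0, 0, 0, 0, 0, 0, 0, 0, 0, 0, 0, 0, 0, 0, 0, 0, 0, 0, 0, 0, 0, 0, 0, 0, 0, 0, 0,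 0, 0, 0, 0, 0, 0, 0, 0, 0, 0, 0, 0, 0, 0, 0, 0, 0, 0, 0, 0, 0, 0, 0, 0, 0, 0, 0, 0, 0, 0, 0, 0, 0, 0, 0, 0, 0, 0, 0, 0, 0]

theorem h8pairChk_E8 : h8pairChk chevE8 h8pairWs_E8 h8pairCert_E8 = true := by decide +kernel

end Cfsg.Agent.Lib.helper8
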