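import Mathlib
import Cfsg.Prelude.Def_ChevStructure
import Cfsg.Prelude.Def_ChevG2
import Cfsg.Prelude.Def_LieTwisted
import Cfsg.Agent.Lib.helper8.ChevRee37

set_option autoImplicit false

namespace Cfsg.Agent.Lib.helper8

open Cfsg.Lie Cfsg.Lie.ChevalleyDatum

universe u

variable {K : Type u} [Field K] [Fintype K] {m : ℕ}

/-- the three-point stabilizers of the Ree group on the cosets of `B ∩ ²G₂(q)` -/
theorem h8ree_three_point (hK : Fintype.card K = 3 ^ (2 * m + 1)) :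
    (∀ x y z : ↥(twistedG2 K (3 ^ m)) ⧸
        (chevG2.borelSubgroup K ⊓ twistedG2 K (3 ^ m)).subgroupOf (twistedG2 K (3 ^ m)),
        x ≠ y → x ≠ z → y ≠ z →
        Nat.card ↥(MulAction.stabilizer ↥(twistedG2 K (3 ^ m)) x ⊓
          MulAction.stabilizer ↥(twistedG2 K (3 ^ m)) y ⊓
          MulAction.stabilizer ↥(twistedG2 K (3 ^ m)) z) ≤ 2) ∧
      ∃ x y z : ↥(twistedG2 K (3 ^ m)) ⧸
        (chevG2.borelSubgroup K ⊓ twistedG2 K (3 ^ m)).subgroupOf (twistedG2 K (3 ^ m)),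
        x ≠ y ∧ x ≠ z ∧ y ≠ z ∧
        Nat.card ↥(MulAction.stabilizer ↥(twistedG2 K (3 ^ m)) x ⊓
          MulAction.stabilizer ↥(twistedG2 K (3 ^ m)) y ⊓
          MulAction.stabilizer ↥(twistedG2 K (3 ^ m)) z) = 2 := by
  classical
  have hD : chevG2 ∈ [chevG2, chevB2, chevD4, chevF4, chevE6, chevE7, chevE8] := by simp
  have hB := h8base_all.{u} chevG2 hD
  have hC := h8commAll.{u} chevG2 hD
  obtain ⟨hO, hO2⟩ := h8ord_all chevG2 hD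
  haveI := h8ree_char3 hK
  obtain ⟨R, hfe⟩ := h8ree_setup hK hB
  -- the hypotheses of the abstract statement
  have hBd : ∀ b ∈ (chevG2.borelSubgroup K ⊓ twistedG2 K (3 ^ m)).subgroupOf (twistedG2 K (3 ^ m)),
      ∃ u ∈ (chevG2.posUnipotent K ⊓ twistedG2 K (3 ^ m)).subgroupOf (twistedG2 K (3 ^ m)),
      ∃ h ∈ (chevG2.diagonalSubgroup K ⊓ twistedG2 K (3 ^ m)).subgroupOf (twistedG2 K (3 ^ m)),
        b = u * h := by
    intro b hb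
    rw [Subgroup.mem_subgroupOf] at hb
    obtain ⟨u, hu, k, hk, e⟩ := h8ree_B1_decomp hK hB b.1 hb.1 hb.2
    refine ⟨⟨u, hu.2⟩, Subgroup.mem_subgroupOf.mpr hu, ⟨k, hk.2⟩, Subgroup.mem_subgroupOf.mpr hk, ?_⟩
    exact Subtype.ext e
  have hUB : (chevG2.posUnipotent K ⊓ twistedG2 K (3 ^ m)).subgroupOf (twistedG2 K (3 ^ m)) ≤
      (chevG2.borelSubgroup K ⊓ twistedG2 K (3 ^ m)).subgroupOf (twistedG2 K (3 ^ m)) := by
    intro x hx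
    rw [Subgroup.mem_subgroupOf] at hx ⊢
    exact ⟨h8U_le_B chevG2 hx.1, hx.2⟩
  have hHB : (chevG2.diagonalSubgroup K ⊓ twistedG2 K (3 ^ m)).subgroupOf (twistedG2 K (3 ^ m)) ≤
      (chevG2.borelSubgroup K ⊓ twistedG2 K (3 ^ m)).subgroupOf (twistedG2 K (3 ^ m)) := by
    intro x hx
    rw [Subgroup.mem_subgroupOf] at hx ⊢
    exact ⟨h8H_le_B chevG2 hx.1, hx.2⟩
  have hG : ∀ g : ↥(twistedG2 K (3 ^ m)),
      g ∈ (chevG2.borelSubgroup K ⊓ twistedG2 K (3 ^ m)).subgroupOf (twistedG2 K (3 ^ m)) ∨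
      ∃ u ∈ (chevG2.posUnipotent K ⊓ twistedG2 K (3 ^ m)).subgroupOf (twistedG2 K (3 ^ m)),
      ∃ h ∈ (chevG2.diagonalSubgroup K ⊓ twistedG2 K (3 ^ m)).subgroupOf (twistedG2 K (3 ^ m)),
      ∃ b ∈ (chevG2.borelSubgroup K ⊓ twistedG2 K (3 ^ m)).subgroupOf (twistedG2 K (3 ^ m)),
        g = u * (h * (⟨h8reeN0 hB (3 ^ m), h8reeN0_mem _⟩ : ↥(twistedG2 K (3 ^ m)))) * b := by
    intro g
    rcases h8ree_G1_normal hK hB g.1 g.2 with ⟨u, hu, k, hk, e⟩ | ⟨u1, hu1, k, hk, u, hu, e⟩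
    · left
      rw [Subgroup.mem_subgroupOf]
      refine ⟨?_, g.2⟩
      rw [e]
      exact Subgroup.mul_mem _ (h8U_le_B chevG2 hu.1) (h8H_le_B chevG2 hk.1)
    · right
      refine ⟨⟨u1, hu1.2⟩, Subgroup.mem_subgroupOf.mpr hu1, ⟨k, hk.2⟩,
        Subgroup.mem_subgroupOf.mpr hk, ⟨u, hu.2⟩,
        Subgroup.mem_subgroupOf.mpr ⟨h8U_le_B chevG2 hu.1, hu.2⟩, ?_⟩
      exact Subtype.ext e
  have huniq : ∀ x ∈ (chevG2.posUnipotent K ⊓ twistedG2 K (3 ^ m)).subgroupOf (twistedG2 K (3 ^ m)),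
      (⟨h8reeN0 hB (3 ^ m), h8reeN0_mem _⟩ : ↥(twistedG2 K (3 ^ m)))⁻¹ * x *
        ⟨h8reeN0 hB (3 ^ m), h8reeN0_mem _⟩ ∈
        (chevG2.borelSubgroup K ⊓ twistedG2 K (3 ^ m)).subgroupOf (twistedG2 K (3 ^ m)) →
      x = 1 := by
    intro x hx hb
    rw [Subgroup.mem_subgroupOf] at hx hb
    exact Subtype.ext (h8ree_uniq hK hB x.1 hx.1 hb.1)
  have hnH : ∀ h ∈ (chevG2.diagonalSubgroup K ⊓ twistedG2 K (3 ^ m)).subgroupOf
      (twistedG2 K (3 ^ m)),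
      (⟨h8reeN0 hB (3 ^ m), h8reeN0_mem _⟩ : ↥(twistedG2 K (3 ^ m)))⁻¹ * h *
        ⟨h8reeN0 hB (3 ^ m), h8reeN0_mem _⟩ ∈
        (chevG2.borelSubgroup K ⊓ twistedG2 K (3 ^ m)).subgroupOf (twistedG2 K (3 ^ m)) := by
    intro h hh
    rw [Subgroup.mem_subgroupOf] at hh ⊢
    exact ⟨h8H_le_B chevG2 (h8reeN0_conj_H hK hB h.1 hh.1), Subtype.property _⟩
  have hHU : ∀ h ∈ (chevG2.diagonalSubgroup K ⊓ twistedG2 K (3 ^ m)).subgroupOf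
      (twistedG2 K (3 ^ m)),
      ∀ x ∈ (chevG2.posUnipotent K ⊓ twistedG2 K (3 ^ m)).subgroupOf (twistedG2 K (3 ^ m)),
      h * x * h⁻¹ ∈ (chevG2.posUnipotent K ⊓ twistedG2 K (3 ^ m)).subgroupOf
        (twistedG2 K (3 ^ m)) := by
    intro h hh x hx
    rw [Subgroup.mem_subgroupOf] at hh hx ⊢
    refine ⟨?_, Subtype.property _⟩
    exact ((Subgroup.mem_normalizer_iff (H := chevG2.posUnipotent K)).mp
      (h8_H_le_normalizer_U chevG2 hB hh.1) _).mp hx.1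
  have hn : (⟨h8reeN0 hB (3 ^ m), h8reeN0_mem _⟩ : ↥(twistedG2 K (3 ^ m))) ∉
      (chevG2.borelSubgroup K ⊓ twistedG2 K (3 ^ m)).subgroupOf (twistedG2 K (3 ^ m)) := by
    intro h
    rw [Subgroup.mem_subgroupOf] at h
    exact h8reeN0_not_B hK hB h.1
  have hle := h8_three_point_le
    ((chevG2.borelSubgroup K ⊓ twistedG2 K (3 ^ m)).subgroupOf (twistedG2 K (3 ^ m)))
    ((chevG2.posUnipotent K ⊓ twistedG2 K (3 ^ m)).subgroupOf (twistedG2 K (3 ^ m)))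
    ((chevG2.diagonalSubgroup K ⊓ twistedG2 K (3 ^ m)).subgroupOf (twistedG2 K (3 ^ m)))
    ⟨h8reeN0 hB (3 ^ m), h8reeN0_mem _⟩ 2 hBd hUB hHB hG huniq hnH hHU
    (fun w hw hw1 => h8ree_cent_card_le hK w hw hw1)
  refine ⟨hle, ?_⟩
  -- the triple with stabilizer of order two
  obtain ⟨h₀, hh₀, hh1, hc⟩ := h8ree_invol_exists hK hB
  have hwU : h8wordU chevG2 hB (reeWordU (3 ^ m) (0 : K) 1 0) ∈
      chevG2.posUnipotent K ⊓ twistedG2 K (3 ^ m) := (h8ree_U_iff hK hB _).mpr ⟨0, 1, 0, rfl⟩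
  have h10 : h8wordU chevG2 hB (reeWordU (3 ^ m) (0 : K) 0 0) = 1 := by
    rw [h8reeWordU_zero R hC (3 ^ m) hfe, map_zero]
    exact h8reeQ4_zero
  have hw1 : h8wordU chevG2 hB (reeWordU (3 ^ m) (0 : K) 1 0) ≠ 1 := by
    intro h
    rw [← h10] at h
    obtain ⟨_, h2, _⟩ := h8reeWordU_inj R hC hO2 (3 ^ m) hfe _ _ _ _ _ _ h
    exact one_ne_zero h2
  obtain ⟨x, y, z, hxy, hxz, hyz, hge⟩ := h8_three_point_ge
    ((chevG2.borelSubgroup K ⊓ twistedG2 K (3 ^ m)).subgroupOf (twistedG2 K (3 ^ m)))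
    ((chevG2.posUnipotent K ⊓ twistedG2 K (3 ^ m)).subgroupOf (twistedG2 K (3 ^ m)))
    ((chevG2.diagonalSubgroup K ⊓ twistedG2 K (3 ^ m)).subgroupOf (twistedG2 K (3 ^ m)))
    ⟨h8reeN0 hB (3 ^ m), h8reeN0_mem _⟩ hHB huniq hnH hn
    ⟨h8wordU chevG2 hB (reeWordU (3 ^ m) (0 : K) 1 0), hwU.2⟩
    (Subgroup.mem_subgroupOf.mpr hwU) hUB (fun h => hw1 (congrArg Subtype.val h))
    ⟨h₀, hh₀.2⟩ (Subgroup.mem_subgroupOf.mpr hh₀) (fun h => hh1 (congrArg Subtype.val h))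
    (by
      apply Subtype.ext
      rw [Subgroup.coe_mul, Subgroup.coe_mul]
      calc h₀ * h8wordU chevG2 hB (reeWordU (3 ^ m) (0 : K) 1 0)
          = (h₀ * h8wordU chevG2 hB (reeWordU (3 ^ m) (0 : K) 1 0) * h₀⁻¹) * h₀ := by group
        _ = h8wordU chevG2 hB (reeWordU (3 ^ m) (0 : K) 1 0) * h₀ := by rw [hc])
  exact ⟨x, y, z, hxy, hxz, hyz, le_antisymm (hle x y z hxy hxz hyz) hge⟩

end Cfsg.Agent.Lib.helper8
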