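import Mathlib

set_option autoImplicit false

namespace Cfsg.Agent.Lib.helper8

/-- in a split BN-pair of rank one with trivial core, generated by the conjugates of `U`, a
non-trivial normal subgroup together with `U` generates the group -/
theorem h8_rank_one_normal {G : Type*} [Group G] (B U H : Subgroup G) (n : G)
    (hBd : ∀ b ∈ B, ∃ u ∈ U, ∃ h ∈ H, b = u * h)
    (hUB : U ≤ B) (hHB : H ≤ B)
    (hG : ∀ g : G, g ∈ B ∨ ∃ u ∈ U, ∃ h ∈ H, ∃ b ∈ B, g = u * (h * n) * b)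
    (hHU : ∀ h ∈ H, ∀ u ∈ U, h * u * h⁻¹ ∈ U)
    (hcore : B.normalCore = ⊥)
    (hgen : ∀ T : Subgroup G, T.Normal → U ≤ T → T = ⊤)
    (M : Subgroup G) [hMn : M.Normal] (hM : M ≠ ⊥) : M ⊔ U = ⊤ := by
  -- `M` is not contained in `B`
  have hMB : ¬ M ≤ B := by
    intro h
    apply hM
    rw [eq_bot_iff, ← hcore]
    exact Subgroup.normal_le_normalCore.mpr h
  obtain ⟨g, hgM, hgB⟩ := SetLike.not_le_iff_exists.mp hMB
  -- `M B = G`
  have hn : n ∈ M ⊔ B := by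
    rcases hG g with h | ⟨u, hu, h, hh, b, hb, e⟩
    · exact absurd h hgB
    · have e' : n = h⁻¹ * (u⁻¹ * g * b⁻¹) := by
        rw [e]
        group
      rw [e']
      have hBle : B ≤ M ⊔ B := le_sup_right
      have hMle : M ≤ M ⊔ B := le_sup_left
      exact Subgroup.mul_mem _ (hBle (B.inv_mem (hHB hh)))
        (Subgroup.mul_mem _ (Subgroup.mul_mem _ (hBle (B.inv_mem (hUB hu))) (hMle hgM))
          (hBle (B.inv_mem hb)))
  have hMBtop : M ⊔ B = ⊤ := by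
    rw [eq_top_iff]
    intro x _
    have hBle : B ≤ M ⊔ B := le_sup_right
    rcases hG x with h | ⟨u, hu, h, hh, b, hb, e⟩
    · exact hBle h
    · rw [e]
      exact Subgroup.mul_mem _ (Subgroup.mul_mem _ (hBle (hUB hu))
        (Subgroup.mul_mem _ (hBle (hHB hh)) hn)) (hBle hb)
  -- `B` normalizes `U`
  have hBU : ∀ b ∈ B, ∀ u ∈ U, b * u * b⁻¹ ∈ U := by
    intro b hb u hu
    obtain ⟨u1, hu1, h, hh, rfl⟩ := hBd b hb
    have e : u1 * h * u * (u1 * h)⁻¹ = u1 * (h * u * h⁻¹) * u1⁻¹ := by group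
    rw [e]
    exact U.mul_mem (U.mul_mem hu1 (hHU h hh u hu)) (U.inv_mem hu1)
  -- `M U` is normal
  have hmem : ∀ x : G, x ∈ M ⊔ U ↔ ∃ a ∈ M, ∃ u ∈ U, x = a * u := by
    intro x
    rw [← SetLike.mem_coe, Subgroup.normal_mul, Set.mem_mul]
    constructor
    · rintro ⟨a, ha, u, hu, rfl⟩
      exact ⟨a, ha, u, hu, rfl⟩
    · rintro ⟨a, ha, u, hu, rfl⟩
      exact ⟨a, ha, u, hu, rfl⟩
  have hnorm : (M ⊔ U).Normal := by
    refine ⟨fun x hx g => ?_⟩
    obtain ⟨a, ha, u, hu, rfl⟩ := (hmem x).mp hx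
    have hgtop : g ∈ M ⊔ B := by
      rw [hMBtop]
      exact Subgroup.mem_top _
    rw [← SetLike.mem_coe, Subgroup.normal_mul, Set.mem_mul] at hgtop
    obtain ⟨c, hc, b, hb, rfl⟩ := hgtop
    have e : c * b * (a * u) * (c * b)⁻¹ =
        (c * (b * a * b⁻¹)) * (b * u * b⁻¹) * c⁻¹ := by group
    rw [e]
    have hMle : M ≤ M ⊔ U := le_sup_left
    have hUle : U ≤ M ⊔ U := le_sup_right
    exact Subgroup.mul_mem _ (Subgroup.mul_mem _
      (hMle (M.mul_mem hc (hMn.conj_mem a ha b))) (hUle (hBU b hb u hu)))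
      (hMle (M.inv_mem hc))
  exact hgen _ hnorm le_sup_right

end Cfsg.Agent.Lib.helper8
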