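import Mathlib
import Cfsg.Prelude.Def_ChevStructure
import Cfsg.Prelude.Def_ChevG2
import Cfsg.Prelude.Def_LieTwisted
import Cfsg.Agent.Lib.helper8.ChevRee42
import Cfsg.Agent.Lib.helper8.RankOneNormal

set_option autoImplicit false

namespace Cfsg.Agent.Lib.helper8

open Cfsg.Lie Cfsg.Lie.ChevalleyDatum

universe u

variable {K : Type u} [Field K] [Fintype K]

/-- a non-trivial normal subgroup of the Ree group together with `U ∩ ²G₂(q)` generates it -/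
theorem h8ree_normal_sup {m : ℕ} (hK : Fintype.card K = 3 ^ (2 * m + 1))
    (M : Subgroup ↥(twistedG2 K (3 ^ m))) [M.Normal] (hM : M ≠ ⊥) :
    M ⊔ (chevG2.posUnipotent K ⊓ twistedG2 K (3 ^ m)).subgroupOf (twistedG2 K (3 ^ m)) = ⊤ := by
  have hD : chevG2 ∈ [chevG2, chevB2, chevD4, chevF4, chevE6, chevE7, chevE8] := by simp
  have hB := h8base_all.{u} chevG2 hD
  have hBd : ∀ b ∈ (chevG2.borelSubgroup K ⊓ twistedG2 K (3 ^ m)).subgroupOf (twistedG2 K (3 ^ m)),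
      ∃ u ∈ (chevG2.posUnipotent K ⊓ twistedG2 K (3 ^ m)).subgroupOf (twistedG2 K (3 ^ m)),
      ∃ h ∈ (chevG2.diagonalSubgroup K ⊓ twistedG2 K (3 ^ m)).subgroupOf (twistedG2 K (3 ^ m)),
        b = u * h := by
    intro b hb
    rw [Subgroup.mem_subgroupOf] at hb
    obtain ⟨u, hu, k, hk, e⟩ := h8ree_B1_decomp hK hB b.1 hb.1 hb.2
    refine ⟨⟨u, hu.2⟩, Subgroup.mem_subgroupOf.mpr hu, ⟨k, hk.2⟩, Subgroup.mem_subgroupOf.mpr hk, ?_⟩
    exact Subtype.ext e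
  have hUB : (chevG2.posUnipotent K ⊓ twistedG2 K (3 ^ m)).subgroupOf (twistedG2 K (3 ^ m)) ≤
      (chevG2.borelSubgroup K ⊓ twistedG2 K (3 ^ m)).subgroupOf (twistedG2 K (3 ^ m)) := by
    intro x hx
    rw [Subgroup.mem_subgroupOf] at hx ⊢
    exact ⟨h8U_le_B chevG2 hx.1, hx.2⟩
  have hHB : (chevG2.diagonalSubgroup K ⊓ twistedG2 K (3 ^ m)).subgroupOf (twistedG2 K (3 ^ m)) ≤
      (chevG2.borelSubgroup K ⊓ twistedG2 K (3 ^ m)).subgroupOf (twistedG2 K (3 ^ m)) := by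
    intro x hx
    rw [Subgroup.mem_subgroupOf] at hx ⊢
    exact ⟨h8H_le_B chevG2 hx.1, hx.2⟩
  have hG : ∀ g : ↥(twistedG2 K (3 ^ m)),
      g ∈ (chevG2.borelSubgroup K ⊓ twistedG2 K (3 ^ m)).subgroupOf (twistedG2 K (3 ^ m)) ∨
      ∃ u ∈ (chevG2.posUnipotent K ⊓ twistedG2 K (3 ^ m)).subgroupOf (twistedG2 K (3 ^ m)),
      ∃ h ∈ (chevG2.diagonalSubgroup K ⊓ twistedG2 K (3 ^ m)).subgroupOf (twistedG2 K (3 ^ m)),
      ∃ b ∈ (chevG2.borelSubgroup K ⊓ twistedG2 K (3 ^ m)).subgroupOf (twistedG2 K (3 ^ m)),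
        g = u * (h * (⟨h8reeN0 hB (3 ^ m), h8reeN0_mem _⟩ : ↥(twistedG2 K (3 ^ m)))) * b := by
    intro g
    rcases h8ree_G1_normal hK hB g.1 g.2 with ⟨u, hu, k, hk, e⟩ | ⟨u1, hu1, k, hk, u, hu, e⟩
    · left
      rw [Subgroup.mem_subgroupOf]
      refine ⟨?_, g.2⟩
      rw [e]
      exact Subgroup.mul_mem _ (h8U_le_B chevG2 hu.1) (h8H_le_B chevG2 hk.1)
    · right
      refine ⟨⟨u1, hu1.2⟩, Subgroup.mem_subgroupOf.mpr hu1, ⟨k, hk.2⟩,
        Subgroup.mem_subgroupOf.mpr hk, ⟨u, hu.2⟩,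
        Subgroup.mem_subgroupOf.mpr ⟨h8U_le_B chevG2 hu.1, hu.2⟩, ?_⟩
      exact Subtype.ext e
  have hHU : ∀ h ∈ (chevG2.diagonalSubgroup K ⊓ twistedG2 K (3 ^ m)).subgroupOf
      (twistedG2 K (3 ^ m)),
      ∀ x ∈ (chevG2.posUnipotent K ⊓ twistedG2 K (3 ^ m)).subgroupOf (twistedG2 K (3 ^ m)),
      h * x * h⁻¹ ∈ (chevG2.posUnipotent K ⊓ twistedG2 K (3 ^ m)).subgroupOf
        (twistedG2 K (3 ^ m)) := by
    intro h hh x hx
    rw [Subgroup.mem_subgroupOf] at hh hx ⊢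
    refine ⟨?_, Subtype.property _⟩
    exact ((Subgroup.mem_normalizer_iff (H := chevG2.posUnipotent K)).mp
      (h8_H_le_normalizer_U chevG2 hB hh.1) _).mp hx.1
  exact h8_rank_one_normal
    ((chevG2.borelSubgroup K ⊓ twistedG2 K (3 ^ m)).subgroupOf (twistedG2 K (3 ^ m)))
    ((chevG2.posUnipotent K ⊓ twistedG2 K (3 ^ m)).subgroupOf (twistedG2 K (3 ^ m)))
    ((chevG2.diagonalSubgroup K ⊓ twistedG2 K (3 ^ m)).subgroupOf (twistedG2 K (3 ^ m)))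
    ⟨h8reeN0 hB (3 ^ m), h8reeN0_mem _⟩ hBd hUB hHB hG hHU (h8ree_core hK)
    (fun T hT hU => @h8ree_gen_normal K _ _ m hK T hT hU) M hM

/-- the non-trivial normal subgroups of `²G₂(3)` have index one or three -/
theorem h8ree3_normal_index (hK : Fintype.card K = 3 ^ (2 * 0 + 1))
    (M : Subgroup ↥(twistedG2 K (3 ^ 0))) [hMn : M.Normal] (hM : M ≠ ⊥) :
    M.index = 1 ∨ M.index = 3 := by
  classical
  have hD : chevG2 ∈ [chevG2, chevB2, chevD4, chevF4, chevE6, chevE7, chevE8] := by simp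
  have hB := h8base_all.{u} chevG2 hD
  have hC := h8commAll.{u} chevG2 hD
  obtain ⟨hO, hO2⟩ := h8ord_all chevG2 hD
  haveI := h8ree_char3 hK
  have h3 : (3 : K) = 0 := h8ree_three
  obtain ⟨R, hfe⟩ := h8ree_setup hK hB
  have hsup := h8ree_normal_sup hK M hM
  -- the index of `M` is the index of `M ∩ U` in `U`
  have hidx : M.index = (M.subgroupOf ((chevG2.posUnipotent K ⊓ twistedG2 K (3 ^ 0)).subgroupOf
      (twistedG2 K (3 ^ 0)))).index := by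
    have h1 := Subgroup.relIndex_sup_left (K := M)
      (H := (chevG2.posUnipotent K ⊓ twistedG2 K (3 ^ 0)).subgroupOf (twistedG2 K (3 ^ 0)))
    rw [hsup, Subgroup.relIndex_top_right] at h1
    exact h1
  have hle : chevG2.posUnipotent K ⊓ twistedG2 K (3 ^ 0) ≤ twistedG2 K (3 ^ 0) := inf_le_right
  have hcardU : Nat.card ↥((chevG2.posUnipotent K ⊓ twistedG2 K (3 ^ 0)).subgroupOf
      (twistedG2 K (3 ^ 0))) = 27 := by
    rw [Nat.card_congr (Subgroup.subgroupOfEquivOfLe hle).toEquiv, h8ree_U_card hK]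
    norm_num
  have hmul := Subgroup.card_mul_index (M.subgroupOf
    ((chevG2.posUnipotent K ⊓ twistedG2 K (3 ^ 0)).subgroupOf (twistedG2 K (3 ^ 0))))
  rw [hcardU, ← hidx] at hmul
  -- the index is odd, so the involution of `H` lies in `M`
  have hodd : Odd M.index := by
    have hd : M.index ∣ 27 := Dvd.intro_left _ hmul
    exact Odd.of_dvd_nat (by decide) hd
  obtain ⟨h₀, hh₀, hh1, hhsq, hact⟩ := h8ree_invol_act hK hB
  have hh₀M : (⟨h₀, hh₀.2⟩ : ↥(twistedG2 K (3 ^ 0))) ∈ M := by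
    have hp := Subgroup.pow_index_mem M (⟨h₀, hh₀.2⟩ : ↥(twistedG2 K (3 ^ 0)))
    obtain ⟨j, hj⟩ := hodd
    have hsq : (⟨h₀, hh₀.2⟩ : ↥(twistedG2 K (3 ^ 0))) ^ 2 = 1 := by
      apply Subtype.ext
      rw [Subgroup.coe_pow, pow_two]
      exact hhsq
    rw [hj, pow_succ, pow_mul, hsq, one_pow, one_mul] at hp
    exact hp
  -- a commutator with the involution
  have hxU : h8wordU chevG2 hB (reeWordU (3 ^ 0) (1 : K) 0 0) ∈
      chevG2.posUnipotent K ⊓ twistedG2 K (3 ^ 0) := (h8ree_U_iff hK hB _).mpr ⟨1, 0, 0, rfl⟩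
  have hx'U : h8wordU chevG2 hB (reeWordU (3 ^ 0) (-1 : K) 0 0) ∈
      chevG2.posUnipotent K ⊓ twistedG2 K (3 ^ 0) := (h8ree_U_iff hK hB _).mpr ⟨-1, 0, 0, rfl⟩
  have hyU : h8wordU chevG2 hB (reeWordU (3 ^ 0) (-1 : K) 0 0) *
      (h8wordU chevG2 hB (reeWordU (3 ^ 0) (1 : K) 0 0))⁻¹ ∈
      chevG2.posUnipotent K ⊓ twistedG2 K (3 ^ 0) :=
    Subgroup.mul_mem _ hx'U (Subgroup.inv_mem _ hxU)
  have hyM : (⟨h8wordU chevG2 hB (reeWordU (3 ^ 0) (-1 : K) 0 0) *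
      (h8wordU chevG2 hB (reeWordU (3 ^ 0) (1 : K) 0 0))⁻¹, hyU.2⟩ :
      ↥(twistedG2 K (3 ^ 0))) ∈ M := by
    have e : (⟨h8wordU chevG2 hB (reeWordU (3 ^ 0) (-1 : K) 0 0) *
        (h8wordU chevG2 hB (reeWordU (3 ^ 0) (1 : K) 0 0))⁻¹, hyU.2⟩ :
        ↥(twistedG2 K (3 ^ 0))) =
        ⟨h₀, hh₀.2⟩ * (⟨h8wordU chevG2 hB (reeWordU (3 ^ 0) (1 : K) 0 0), hxU.2⟩ *
          (⟨h₀, hh₀.2⟩ : ↥(twistedG2 K (3 ^ 0)))⁻¹ *
          (⟨h8wordU chevG2 hB (reeWordU (3 ^ 0) (1 : K) 0 0), hxU.2⟩ :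
            ↥(twistedG2 K (3 ^ 0)))⁻¹) := by
      apply Subtype.ext
      simp only [Subgroup.coe_mul, Subgroup.coe_inv]
      have := hact 1 0 0
      rw [neg_zero] at this
      rw [← this]
      group
    rw [e]
    exact M.mul_mem hh₀M (hMn.conj_mem _ (M.inv_mem hh₀M) _)
  -- its parameters
  obtain ⟨a, b, c, e⟩ := (h8ree_U_iff hK hB _).mp hyU
  have ha : a ≠ 0 := by
    obtain ⟨c', e2⟩ := h8ree3_mul hK hB a b c 1 0 0
    rw [← e, inv_mul_cancel_right] at e2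
    obtain ⟨e3, _, _⟩ := h8reeWordU_inj R hC hO2 (3 ^ 0) hfe _ _ _ _ _ _ e2
    intro ha0
    rw [ha0, zero_add] at e3
    have : (2 : K) = 0 := by linear_combination (-1 : K) * e3
    have h1 : (1 : K) = 0 := by linear_combination h3 - this
    exact one_ne_zero h1
  have hycube : (h8wordU chevG2 hB (reeWordU (3 ^ 0) (-1 : K) 0 0) *
      (h8wordU chevG2 hB (reeWordU (3 ^ 0) (1 : K) 0 0))⁻¹) ^ 3 ≠ 1 := by
    rw [e]
    intro h
    exact ha ((h8reeWordU_cube_iff R hC hO2 (3 ^ 0) hfe a b c).mp h)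
  -- the order of the commutator
  set y' : ↥((chevG2.posUnipotent K ⊓ twistedG2 K (3 ^ 0)).subgroupOf (twistedG2 K (3 ^ 0))) :=
    ⟨⟨h8wordU chevG2 hB (reeWordU (3 ^ 0) (-1 : K) 0 0) *
      (h8wordU chevG2 hB (reeWordU (3 ^ 0) (1 : K) 0 0))⁻¹, hyU.2⟩,
      Subgroup.mem_subgroupOf.mpr hyU⟩ with hy'
  have hy'S : y' ∈ M.subgroupOf ((chevG2.posUnipotent K ⊓ twistedG2 K (3 ^ 0)).subgroupOf
      (twistedG2 K (3 ^ 0))) := Subgroup.mem_subgroupOf.mpr hyM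
  have hy'cube : y' ^ 3 ≠ 1 := by
    intro h
    apply hycube
    have := congrArg (fun z : ↥((chevG2.posUnipotent K ⊓ twistedG2 K (3 ^ 0)).subgroupOf
      (twistedG2 K (3 ^ 0))) => (z.val.val : GL chevG2.Idx K)) h
    simp only [Subgroup.coe_pow, Subgroup.coe_one] at this
    exact this
  have hord27 : orderOf y' ∣ 27 := by
    rw [← hcardU]
    exact orderOf_dvd_natCard y'
  have hord3 : ¬ orderOf y' ∣ 3 := fun h => hy'cube (orderOf_dvd_iff_pow_eq_one.mp h)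
  have hordS : orderOf y' ∣ Nat.card ↥(M.subgroupOf
      ((chevG2.posUnipotent K ⊓ twistedG2 K (3 ^ 0)).subgroupOf (twistedG2 K (3 ^ 0)))) := by
    have := orderOf_dvd_natCard (⟨y', hy'S⟩ : ↥(M.subgroupOf
      ((chevG2.posUnipotent K ⊓ twistedG2 K (3 ^ 0)).subgroupOf (twistedG2 K (3 ^ 0)))))
    rwa [Subgroup.orderOf_mk] at this
  have h9 : 9 ∣ orderOf y' := by
    have hpos : 0 < orderOf y' := Nat.pos_of_dvd_of_pos hord27 (by norm_num)
    have hle27 : orderOf y' ≤ 27 := Nat.le_of_dvd (by norm_num) hord27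
    interval_cases (orderOf y') <;> omega
  have h9S : 9 ∣ Nat.card ↥(M.subgroupOf
      ((chevG2.posUnipotent K ⊓ twistedG2 K (3 ^ 0)).subgroupOf (twistedG2 K (3 ^ 0)))) :=
    dvd_trans h9 hordS
  obtain ⟨j, hj⟩ := h9S
  rw [hj] at hmul
  have h27 : 9 * (j * M.index) = 27 := by rw [← mul_assoc]; exact hmul
  have : j * M.index = 3 := by omega
  have hd : M.index ∣ 3 := Dvd.intro_left _ this
  rcases (Nat.dvd_prime Nat.prime_three).mp hd with h | h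
  · exact Or.inl h
  · exact Or.inr h

end Cfsg.Agent.Lib.helper8
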