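import Mathlib

set_option autoImplicit false

namespace Cfsg.Agent.Lib.helper8

open scoped commutatorElement

/-- the join of two subgroups of orders prime to `p`, one of them normal -/
theorem h8_coprime_sup {G : Type*} [Group G] [Finite G] (p : ℕ) (A B : Subgroup G) [B.Normal]
    (hA : (Nat.card A).Coprime p) (hB : (Nat.card B).Coprime p) :
    (Nat.card ↥(A ⊔ B)).Coprime p := by
  have h1 := Subgroup.relIndex_mul_relIndex (⊥ : Subgroup G) B (A ⊔ B) bot_le le_sup_right
  rw [Subgroup.relIndex_bot_left, Subgroup.relIndex_bot_left, Subgroup.relIndex_sup_right] at h1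
  rw [← h1]
  exact Nat.Coprime.mul_left hB (Nat.Coprime.coprime_dvd_left (Subgroup.relIndex_dvd_card B A) hA)

/-- the join of a finite family of normal subgroups of orders prime to `p` -/
theorem h8_coprime_iSup {G : Type*} [Group G] [Finite G] (p : ℕ) {ι : Type*} [Finite ι]
    (A : ι → Subgroup G) (hn : ∀ i, (A i).Normal) (hA : ∀ i, (Nat.card (A i)).Coprime p) :
    (Nat.card ↥(⨆ i, A i)).Coprime p := by
  classical
  cases nonempty_fintype ι
  have key : ∀ s : Finset ι, (s.sup A).Normal ∧ (Nat.card ↥(s.sup A)).Coprime p := by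
    intro s
    induction s using Finset.induction_on with
    | empty =>
      rw [Finset.sup_empty]
      refine ⟨Subgroup.normal_bot, ?_⟩
      simp
    | insert i s hi ih =>
      rw [Finset.sup_insert]
      haveI := ih.1
      haveI := hn i
      exact ⟨inferInstance, h8_coprime_sup p _ _ (hA i) ih.2⟩
  have := (key Finset.univ).2
  rwa [Finset.sup_univ_eq_iSup] at this

/-- an element of prime order `p` lies in each normal subgroup of index prime to `p` -/
theorem h8_mem_of_coprime_index {G : Type*} [Group G] (p : ℕ) (hp : p.Prime) (N : Subgroup G)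
    [N.Normal] (hN : ¬ p ∣ N.index) (x : G) (hx : orderOf x = p) : x ∈ N := by
  have h1 : x ^ N.index ∈ N := Subgroup.pow_index_mem N x
  have hc : Nat.Coprime N.index p := ((Nat.Prime.coprime_iff_not_dvd hp).mpr hN).symm
  obtain ⟨m, -, hm⟩ := Nat.exists_mul_mod_eq_one_of_coprime hc hp.one_lt
  have h2 : x ^ (N.index * m) = x := by
    rw [← pow_mod_orderOf, hx, hm, pow_one]
  rw [← h2, pow_mul]
  exact N.pow_mem h1 m

/-- a subgroup of a normal subgroup `D` fixed by the conjugations of the whole group -/
theorem h8_map_subtype_normal {G : Type*} [Group G] (D : Subgroup G) [D.Normal]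
    (T : Subgroup ↥D)
    (hT : ∀ h : G, T.map (MulAut.conjNormal h : ↥D ≃* ↥D).toMonoidHom ≤ T) :
    (T.map D.subtype).Normal := by
  refine ⟨fun x hx h => ?_⟩
  obtain ⟨y, hy, rfl⟩ := hx
  refine ⟨MulAut.conjNormal h y, hT h ⟨y, hy, rfl⟩, ?_⟩
  simp [MulAut.conjNormal_apply]

/-- a group of order `1512` whose proper non-trivial normal subgroups all have index three and
which is not perfect: its derived subgroup is simple of order `504` -/
theorem h8_ord1512 {G : Type*} [Group G] [Finite G] (hcard : Nat.card G = 1512)
    (hN : ∀ M : Subgroup G, M.Normal → M ≠ ⊥ → M.index = 1 ∨ M.index = 3)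
    (hD : commutator G ≠ ⊤) :
    Nat.card ↥(commutator G) = 504 ∧ IsSimpleGroup ↥(commutator G) := by
  classical
  haveI : Fact (Nat.Prime 7) := ⟨by norm_num⟩
  -- the derived subgroup is not trivial
  have hD0 : commutator G ≠ ⊥ := by
    intro h0
    have hcomm : ∀ a b : G, a * b = b * a := by
      intro a b
      have : ⁅a, b⁆ ∈ commutator G :=
        Subgroup.commutator_mem_commutator (Subgroup.mem_top a) (Subgroup.mem_top b)
      rw [h0, Subgroup.mem_bot] at this
      exact commutatorElement_eq_one_iff_mul_comm.mp this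
    obtain ⟨x, hx⟩ := exists_prime_orderOf_dvd_card' (G := G) 7 (by rw [hcard]; norm_num)
    have hn : (Subgroup.zpowers x).Normal := by
      refine ⟨fun n hn g => ?_⟩
      rw [hcomm g n, mul_inv_cancel_right]
      exact hn
    have hne : Subgroup.zpowers x ≠ ⊥ := by
      intro hb
      rw [Subgroup.zpowers_eq_bot] at hb
      rw [hb, orderOf_one] at hx
      omega
    have hc : Nat.card ↥(Subgroup.zpowers x) = 7 := by rw [Nat.card_zpowers, hx]
    have hm := Subgroup.card_mul_index (Subgroup.zpowers x)
    rw [hc, hcard] at hm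
    rcases hN _ hn hne with h | h <;> rw [h] at hm <;> omega
  -- its order
  have hidx : (commutator G).index = 3 := by
    rcases hN _ inferInstance hD0 with h | h
    · exact absurd (Subgroup.index_eq_one.mp h) hD
    · exact h
  have hcD : Nat.card ↥(commutator G) = 504 := by
    have hm := Subgroup.card_mul_index (commutator G)
    rw [hidx, hcard] at hm
    omega
  refine ⟨hcD, ?_⟩
  haveI : Nontrivial ↥(commutator G) := by
    rw [← Finite.one_lt_card_iff_nontrivial, hcD]
    norm_num
  refine ⟨fun N hNn => ?_⟩
  by_contra hcon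
  push Not at hcon
  obtain ⟨hN0, hN1⟩ := hcon
  -- the conjugates of `N`
  set C : G → Subgroup ↥(commutator G) := fun g =>
    N.map (MulAut.conjNormal g : ↥(commutator G) ≃* ↥(commutator G)).toMonoidHom with hC
  have hC1 : C 1 = N := by
    rw [hC]
    ext y
    simp
  have hCn : ∀ g, (C g).Normal := fun g =>
    Subgroup.Normal.map hNn _ (MulEquiv.surjective _)
  have hCcard : ∀ g, Nat.card ↥(C g) = Nat.card ↥N := fun g =>
    Subgroup.card_map_of_injective (MulEquiv.injective _)
  have hCidx : ∀ g, (C g).index = N.index := fun g =>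
    Subgroup.index_map_equiv N (MulAut.conjNormal g : ↥(commutator G) ≃* ↥(commutator G))
  have hCmap : ∀ h g, (C g).map
      (MulAut.conjNormal h : ↥(commutator G) ≃* ↥(commutator G)).toMonoidHom = C (h * g) := by
    intro h g
    rw [hC]
    simp only
    rw [Subgroup.map_map]
    congr 1
    ext y
    simp [map_mul]
  -- numerical facts on `N`
  have hNm := Subgroup.card_mul_index N
  rw [hcD] at hNm
  have hNidx : N.index ≠ 1 := fun h => hN1 (Subgroup.index_eq_one.mp h)
  -- the core of `N` is trivial
  have hI : (⨅ g, C g) = ⊥ := by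
    by_contra hI0
    have hIn : ((⨅ g, C g).map (commutator G).subtype).Normal := by
      apply h8_map_subtype_normal
      intro h
      rw [Subgroup.map_iInf _ (MulEquiv.injective _)]
      simp only [hCmap]
      refine le_iInf fun g => ?_
      have := iInf_le (fun g => C (h * g)) (h⁻¹ * g)
      simpa using this
    have hne : (⨅ g, C g).map (commutator G).subtype ≠ ⊥ := by
      rw [Ne, Subgroup.map_eq_bot_iff_of_injective _ (Subgroup.subtype_injective _)]
      exact hI0
    have hc : Nat.card ↥((⨅ g, C g).map (commutator G).subtype) = Nat.card ↥(⨅ g, C g) :=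
      Subgroup.card_map_of_injective (Subgroup.subtype_injective _)
    have hm := Subgroup.card_mul_index ((⨅ g, C g).map (commutator G).subtype)
    rw [hc, hcard] at hm
    have hd : Nat.card ↥(⨅ g, C g) ∣ Nat.card ↥N := by
      apply Subgroup.card_dvd_of_le
      rw [← hC1]
      exact iInf_le _ 1
    obtain ⟨k, hk⟩ := hd
    have hkpos : k ≠ 0 := by
      rintro rfl
      rw [mul_zero] at hk
      rw [hk] at hNm
      omega
    rcases hN _ hIn hne with h | h
    · rw [h] at hm
      have : 1512 * k * N.index = 504 := by rw [← hNm, hk]; ring_nf; rw [← hm]; ring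
      have hk1 : 1 ≤ k := Nat.one_le_iff_ne_zero.mpr hkpos
      have hi1 : 1 ≤ N.index := by
        rcases Nat.eq_zero_or_pos N.index with h0 | h0
        · rw [h0] at hNm; omega
        · exact h0
      nlinarith
    · rw [h] at hm
      have hI504 : Nat.card ↥(⨅ g, C g) = 504 := by omega
      rw [hI504] at hk
      rw [hk] at hNm
      have hk1 : 1 ≤ k := Nat.one_le_iff_ne_zero.mpr hkpos
      have hi1 : 2 ≤ N.index := by
        rcases Nat.eq_zero_or_pos N.index with h0 | h0
        · rw [h0] at hNm; omega
        · omega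
      nlinarith
  -- the normal closure of `N` is everything
  have hS : (⨆ g, C g) = ⊤ := by
    have hSn : ((⨆ g, C g).map (commutator G).subtype).Normal := by
      apply h8_map_subtype_normal
      intro h
      rw [Subgroup.map_iSup]
      simp only [hCmap]
      exact iSup_le fun g => le_iSup C (h * g)
    have hS0 : (⨆ g, C g) ≠ ⊥ := by
      intro h
      apply hN0
      rw [eq_bot_iff, ← h, ← hC1]
      exact le_iSup C 1
    have hne : (⨆ g, C g).map (commutator G).subtype ≠ ⊥ := by
      rw [Ne, Subgroup.map_eq_bot_iff_of_injective _ (Subgroup.subtype_injective _)]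
      exact hS0
    have hc : Nat.card ↥((⨆ g, C g).map (commutator G).subtype) = Nat.card ↥(⨆ g, C g) :=
      Subgroup.card_map_of_injective (Subgroup.subtype_injective _)
    have hm := Subgroup.card_mul_index ((⨆ g, C g).map (commutator G).subtype)
    rw [hc, hcard] at hm
    have hd : Nat.card ↥(⨆ g, C g) ∣ 504 := by
      rw [← hcD]
      exact Subgroup.card_subgroup_dvd_card _
    have hle : Nat.card ↥(⨆ g, C g) ≤ 504 := Nat.le_of_dvd (by norm_num) hd
    apply Subgroup.eq_top_of_card_eq
    rw [hcD]
    rcases hN _ hSn hne with h | h <;> rw [h] at hm <;> omega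
  -- the prime seven
  by_cases h7 : 7 ∣ N.index
  · have h7N : ¬ 7 ∣ Nat.card ↥N := by
      intro h
      obtain ⟨a, ha⟩ := h
      obtain ⟨b, hb⟩ := h7
      rw [ha, hb] at hNm
      have : 49 * (a * b) = 504 := by rw [← hNm]; ring
      omega
    have hcop : ∀ g, (Nat.card ↥(C g)).Coprime 7 := by
      intro g
      rw [hCcard g]
      exact ((Nat.Prime.coprime_iff_not_dvd (by norm_num)).mpr h7N).symm
    have := h8_coprime_iSup 7 C hCn hcop
    rw [hS, Subgroup.card_top, hcD] at this
    revert this
    decide
  · obtain ⟨x, hx⟩ := exists_prime_orderOf_dvd_card' (G := ↥(commutator G)) 7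
      (by rw [hcD]; norm_num)
    have hxI : x ∈ ⨅ g, C g := by
      rw [Subgroup.mem_iInf]
      intro g
      haveI := hCn g
      exact h8_mem_of_coprime_index 7 (by norm_num) (C g) (by rw [hCidx g]; exact h7) x hx
    rw [hI, Subgroup.mem_bot] at hxI
    rw [hxI, orderOf_one] at hx
    omega

end Cfsg.Agent.Lib.helper8
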