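import Mathlib
import Cfsg.Prelude.Def_ChevStructure
import Cfsg.Prelude.Def_ChevG2
import Cfsg.Prelude.Def_LieTwisted
import Cfsg.Agent.Lib.helper8.ChevRee43
import Cfsg.Agent.Lib.helper8.ChevRee22
import Cfsg.Agent.Lib.helper8.Ord1512

set_option autoImplicit false

namespace Cfsg.Agent.Lib.helper8

open Cfsg.Lie Cfsg.Lie.ChevalleyDatum

universe u

variable {K : Type u} [Field K] [Fintype K]

/-- the derived subgroup of `²G₂(3)` is simple of order `504` -/
theorem h8ree3_derived (hK : Fintype.card K = 3 ^ (2 * 0 + 1)) :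
    Nat.card ↥(commutator ↥(twistedG2 K (3 ^ 0))) = 504 ∧
      IsSimpleGroup ↥(commutator ↥(twistedG2 K (3 ^ 0))) := by
  classical
  have hcard : Nat.card ↥(twistedG2 K (3 ^ 0)) = 1512 := by
    rw [h8ree_card hK]
    norm_num
  haveI : Finite ↥(twistedG2 K (3 ^ 0)) := Nat.finite_of_card_ne_zero (by rw [hcard]; norm_num)
  exact h8_ord1512 hcard (fun M hMn hM => @h8ree3_normal_index K _ _ hK M hMn hM)
    (h8ree3_not_perfect hK)

/-- the derived subgroup of `²G₂(3)`, over `ZMod 3` -/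
theorem h8ree3_derived_zmod :
    Nat.card ↥(commutator ↥(twistedG2 (ZMod 3) 1)) = 504 ∧
      IsSimpleGroup ↥(commutator ↥(twistedG2 (ZMod 3) 1)) := by
  haveI : Fact (Nat.Prime 3) := ⟨Nat.prime_three⟩
  have hK : Fintype.card (ZMod 3) = 3 ^ (2 * 0 + 1) := by
    rw [ZMod.card]
    norm_num
  exact h8ree3_derived hK

end Cfsg.Agent.Lib.helper8
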