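import Mathlib
import Cfsg.Prelude.Def_ChevStructure
import Cfsg.Prelude.Def_ChevF4
import Cfsg.Prelude.Def_LieTwisted
import Cfsg.Agent.Lib.helper8.ChevTF17

set_option autoImplicit false

namespace Cfsg.Agent.Lib.helper8

open Cfsg.Lie Cfsg.Lie.ChevalleyDatum

universe u

variable {K : Type u} [Field K]

/-- the twisted Weyl group of `²F₄` is dihedral of order 16 -/
theorem h8tf_weyl [Fintype K] {m : ℕ} (hK : Fintype.card K = 2 ^ (2 * m + 1)) :
    ∃ φ : ↥(chevF4.monomialSubgroup K ⊓ twistedF4 K (2 ^ m)) →* DihedralGroup 8,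
      Function.Surjective φ ∧
      φ.ker = (chevF4.diagonalSubgroup K ⊓ twistedF4 K (2 ^ m)).subgroupOf
        (chevF4.monomialSubgroup K ⊓ twistedF4 K (2 ^ m)) := by
  have hD : chevF4 ∈ [chevG2, chevB2, chevD4, chevF4, chevE6, chevE7, chevE8] := by simp
  have hB := h8base_all.{u} chevF4 hD
  have hB0 := h8base_all.{0} chevF4 hD
  have hA := h8reflAll chevF4 hD
  have hC := h8commAll.{u} chevF4 hD
  have hBN := h8bn_all chevF4 hD
  have hW := h8bn2_all chevF4 hD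
  obtain ⟨hO, hO2⟩ := h8ord_all chevF4 hD
  have := h8tf_char2 hK
  obtain ⟨R, hfe⟩ := h8tf_setup hK hB
  -- the permutation representation restricted to `N¹`
  let ι : ↥(chevF4.monomialSubgroup K ⊓ twistedF4 K (2 ^ m)) →* ↥(chevF4.monomialSubgroup K) :=
    Subgroup.inclusion inf_le_left
  let ψ : ↥(chevF4.monomialSubgroup K ⊓ twistedF4 K (2 ^ m)) →* Equiv.Perm (Fin chevF4.nroots) :=
    (h8Pi chevF4 hB hA hBN hW hO2).comp ι
  have hψrange : ∀ n, ψ n ∈ (h8tfDih hA).range := by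
    intro n
    rw [h8tfDih_range]
    have hfix := (h8tf_G1_fix R hC (2 ^ m) hfe n.val n.2.2).2
    refine h8tf_cent hB0 hA hBN hW hO2 _ (ψ n) (h8Pi_mem_W chevF4 hB hA hBN hW hO2 _) ?_ rfl
    intro r
    exact h8tf_Pi_comm R hA hBN hW hO2 (ι n) hfix r
  let e := MonoidHom.ofInjective (h8tfDih_injective hA)
  let ψ' : ↥(chevF4.monomialSubgroup K ⊓ twistedF4 K (2 ^ m)) →* ↥(h8tfDih hA).range :=
    ψ.codRestrict _ hψrange
  refine ⟨e.symm.toMonoidHom.comp ψ', ?_, ?_⟩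
  · -- surjectivity
    have hw1 : ∀ j ∈ [0, 3], j < chevF4.rank := by decide
    have hw2 : ∀ j ∈ [1, 2, 1, 2], j < chevF4.rank := by decide
    have hn1 := h8tf_n1_mem R hC (2 ^ m) hfe
    have hn2 := h8tf_n2_mem R hA hC hBN hO2 (2 ^ m) hfe
    have hle : Subgroup.closure {h8tfW1 hA, h8tfW2 hA} ≤ ψ.range := by
      rw [Subgroup.closure_le]
      rintro x (rfl | rfl)
      · refine ⟨⟨h8nWU chevF4 hB [0, 3], ⟨h8nWU_mem_N chevF4 hB hA _ hw1, hn1⟩⟩, ?_⟩
        exact h8Pi_nWU chevF4 hB hA hBN hW hO2 _ hw1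
      · refine ⟨⟨h8nWU chevF4 hB [1, 2, 1, 2], ⟨h8nWU_mem_N chevF4 hB hA _ hw2, hn2⟩⟩, ?_⟩
        exact h8Pi_nWU chevF4 hB hA hBN hW hO2 _ hw2
    intro d
    have hd : h8tfDih hA d ∈ Subgroup.closure {h8tfW1 hA, h8tfW2 hA} := by
      rw [← h8tfDih_range]
      exact ⟨d, rfl⟩
    obtain ⟨n, hn⟩ := hle hd
    refine ⟨n, ?_⟩
    show e.symm (ψ' n) = d
    rw [MulEquiv.symm_apply_eq]
    apply Subtype.ext
    exact hn
  · -- kernel
    ext n
    rw [MonoidHom.mem_ker, Subgroup.mem_subgroupOf, Subgroup.mem_inf]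
    show e.symm (ψ' n) = 1 ↔ _
    rw [MulEquiv.symm_apply_eq, map_one]
    constructor
    · intro h
      have h1 : ψ n = 1 := congrArg Subtype.val h
      exact ⟨h8Pi_ker chevF4 hB hA hBN hW hO2 (ι n) h1, n.2.2⟩
    · intro h
      apply Subtype.ext
      exact h8Pi_H chevF4 hB hA hBN hW hO2 (ι n) h.1

end Cfsg.Agent.Lib.helper8
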