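import Mathlib
import Cfsg.Prelude.Def_ChevStructure
import Cfsg.Agent.Lib.helper8.ChevTG5

/-! Two-generation of Chevalley groups over the field with two elements. -/

set_option autoImplicit false

namespace Cfsg.Agent.Lib.helper8

open Cfsg.Lie Cfsg.Lie.ChevalleyDatum

universe u

variable {F : Type u} [Field F]

theorem h8tg_two (h2 : ∀ t : F, t = 0 ∨ t = 1) : (2 : F) = 0 := by
  have := h8tg_neg_one h2
  have h : (1 : F) + 1 = 0 := by
    calc (1 : F) + 1 = 1 + (-1) := by rw [this]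
      _ = 0 := by ring
  rw [← h]
  norm_num

/-- reaching a root -/
def h8tgReach (D : ChevalleyDatum) (coefs : List ℤ) (seeds : List ℕ) (ws : List (List ℕ))
    (cs : List ℕ) (steps : List H8tgStep) (r : ℕ) : Bool :=
  match h8tgRun D coefs ⟨seeds, ws, cs⟩ steps with
  | some st => decide (r ∈ st.R)
  | none => false

theorem h8tg_reach_sound (D : ChevalleyDatum) (hB : H8Base.{u} D) (hA : H8ReflAll D)
    (hC : H8CommAll.{u} D) (M : Subgroup (GL D.Idx F)) (coefs : List ℤ)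
    (hco : ∀ c ∈ coefs, ((c : ℤ) : F) ≠ 0) (seeds : List ℕ) (ws : List (List ℕ))
    (cs : List ℕ) (steps : List H8tgStep)
    (hseeds : ∀ r ∈ seeds, r < D.nroots ∧ H8InR D hB M r)
    (hws : ∀ w ∈ ws, (∀ i ∈ w, i < D.rank) ∧ (h8nWU D hB w : GL D.Idx F) ∈ M)
    (hcs : ∀ c ∈ cs, c < D.nroots ∧ h8tgT D hB F c ∈ M)
    (h2 : cs = [] ∨ ∀ t : F, t = 0 ∨ t = 1) (r : ℕ)
    (hchk : h8tgReach D coefs seeds ws cs steps r = true) : H8InR D hB M r := by
  unfold h8tgReach at hchk
  split at hchk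
  · rename_i st hst
    have hI := h8tgRun_inv D hB hA hC M coefs hco steps ⟨seeds, ws, cs⟩ st hst
      ⟨hseeds, hws, hcs, h2⟩
    exact (hI.R r (of_decide_eq_true hchk)).2
  · exact absurd hchk (by simp)

/-- one seed over the field with two elements: generators `x_a(1)` and `n_w` -/
theorem h8tg_mainA2 (D : ChevalleyDatum) (hB : H8Base.{u} D) (hA : H8ReflAll D)
    (hC : H8CommAll.{u} D) (hBN : H8BN D) (h2 : ∀ t : F, t = 0 ∨ t = 1)
    (w : List ℕ) (hw : ∀ i ∈ w, i < D.rank) (a : ℕ) (ha : a < D.nroots)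
    (steps : List H8tgStep) (hchk : h8tgChk D [1, -1] [a] [w] [] steps = true) :
    ∃ x y : ↥(D.group F), Subgroup.closure ({x, y} : Set ↥(D.group F)) = ⊤ := by
  apply h8tg_top (D.group F) (h8xU D hB a (1 : F)) (h8nWU D hB w)
    (h8xU_mem_group D hB a 1) (h8nWU_mem_group D hB hA w hw)
  set M := Subgroup.closure ({h8xU D hB a (1 : F), h8nWU D hB w} : Set (GL D.Idx F)) with hM
  have hx : h8xU D hB a (1 : F) ∈ M := Subgroup.subset_closure (by simp)
  have hn : (h8nWU D hB w : GL D.Idx F) ∈ M := Subgroup.subset_closure (by simp)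
  apply h8tg_sound D hB hA hC hBN M [1, -1] ?_ [a] [w] [] steps
  · intro r hr
    rw [List.mem_singleton] at hr
    subst hr
    exact ⟨ha, h8tg_inR_two D hB M h2 r hx⟩
  · intro w' hw'
    rw [List.mem_singleton] at hw'
    subst hw'
    exact ⟨hw, hn⟩
  · intro c' hc'
    simp at hc'
  · exact Or.inl rfl
  · exact hchk
  · intro c hc
    simp only [List.mem_cons, List.not_mem_nil, or_false] at hc
    rcases hc with rfl | rfl
    · simp
    · simp [h8tg_neg_one h2]

/-- `x_c(1) x_{-c}(1)` has order dividing three over the field with two elements -/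
theorem h8tg_T_cube (D : ChevalleyDatum)
    (hD : D ∈ [chevG2, chevB2, chevD4, chevF4, chevE6, chevE7, chevE8]) (hB : H8Base.{u} D)
    (h2 : ∀ t : F, t = 0 ∨ t = 1) (c : ℕ) (hc : c < D.nroots) :
    h8tgT D hB F c ^ 3 = 1 := by
  obtain ⟨φ, _, hφ⟩ := h8sl2_main (F := F) D hD c hc
  have h20 : (2 : F) = 0 := h8tg_two h2
  let U : Matrix.SpecialLinearGroup (Fin 2) F := ⟨!![1, 1; 0, 1], by simp [Matrix.det_fin_two]⟩
  let L : Matrix.SpecialLinearGroup (Fin 2) F := ⟨!![1, 0; 1, 1], by simp [Matrix.det_fin_two]⟩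
  have hU : φ U = h8xU D hB c 1 := by
    apply Units.ext
    rw [h8xU_val]
    exact (hφ U 1).1 rfl
  have hL : φ L = h8xU D hB (D.negIdx.getD c 0) 1 := by
    apply Units.ext
    rw [h8xU_val]
    exact (hφ L 1).2 rfl
  have hUL : (U * L) ^ 3 = 1 := by
    apply Subtype.ext
    have e : ((U * L : Matrix.SpecialLinearGroup (Fin 2) F) : Matrix (Fin 2) (Fin 2) F) =
        !![2, 1; 1, 1] := by
      show (!![1, 1; 0, 1] : Matrix (Fin 2) (Fin 2) F) * !![1, 0; 1, 1] = _
      ext i j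
      fin_cases i <;> fin_cases j <;> simp [Matrix.mul_apply, Fin.sum_univ_two] <;> norm_num
    rw [Matrix.SpecialLinearGroup.coe_pow, e, Matrix.SpecialLinearGroup.coe_one]
    ext i j
    fin_cases i <;> fin_cases j <;>
      simp [pow_succ, Matrix.mul_apply, Fin.sum_univ_two] <;> first | linear_combination 6 * h20 | linear_combination 4 * h20 | linear_combination 2 * h20
  unfold h8tgT
  rw [← hU, ← hL, ← map_mul, ← map_pow, hUL, map_one]

/-- two root elements with trivial commutator formula commute -/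
theorem h8tg_commute (D : ChevalleyDatum) (hB : H8Base.{u} D) (hC : H8CommAll.{u} D) (r s : ℕ)
    (hr : r < D.nroots) (hs : s < D.nroots) (hsr : s ≠ r) (hsn : s ≠ D.negIdx.getD r 0)
    (hct : D.commTerms r s = []) (t v : F) :
    Commute (h8xU D hB r t) (h8xU D hB s v) := by
  have e := hC.all r hr s hs hsr hsn F t v
  unfold ChevalleyDatum.commWord at e
  rw [hct] at e
  unfold ChevalleyDatum.wordMat at e
  simp only [List.map_nil, List.prod_nil, mul_one] at e
  show h8xU D hB r t * h8xU D hB s v = h8xU D hB s v * h8xU D hB r t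
  apply Units.ext
  simp only [Units.val_mul, h8xU_val]
  exact e.symm

/-- the key identity of rule T -/
theorem h8tg_tri_key (D : ChevalleyDatum) (hB : H8Base.{u} D) (hC : H8CommAll.{u} D)
    (h2 : ∀ t : F, t = 0 ∨ t = 1) (c r k : ℕ) (cc : ℤ)
    (hc : c < D.nroots) (hnc : D.negIdx.getD c 0 < D.nroots) (hr : r < D.nroots)
    (hk : k < D.nroots)
    (h1 : c ≠ r) (h1' : c ≠ D.negIdx.getD r 0)
    (h3 : D.negIdx.getD c 0 ≠ r) (h3' : D.negIdx.getD c 0 ≠ D.negIdx.getD r 0)
    (h4 : c ≠ k) (h4' : c ≠ D.negIdx.getD k 0)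
    (hct : D.commTerms r c = [(k, cc, 1, 1)]) (hcc : cc = 1 ∨ cc = -1)
    (hct2 : D.commTerms r (D.negIdx.getD c 0) = [])
    (hct3 : D.commTerms k c = []) :
    h8tgT D hB F c * h8xU D hB r (1 : F) * (h8tgT D hB F c)⁻¹ =
      h8xU D hB r 1 * h8xU D hB k 1 := by
  have e1 := hC.all r hr c hc h1 h1' F 1 1
  unfold ChevalleyDatum.commWord at e1
  rw [hct] at e1
  simp only [List.map_cons, List.map_nil, pow_one, mul_one] at e1
  have hcc' : ((cc : ℤ) : F) * -1 = 1 := by
    rw [h8tg_neg_one h2, mul_one]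
    exact h8tg_int_cast h2 cc hcc
  rw [hcc'] at e1
  unfold ChevalleyDatum.wordMat at e1
  simp only [List.map_cons, List.map_nil, List.prod_cons, List.prod_nil, mul_one] at e1
  have u1 : h8xU D hB c (1 : F) * h8xU D hB r 1 = h8xU D hB r 1 * h8xU D hB c 1 * h8xU D hB k 1 := by
    apply Units.ext
    simp only [Units.val_mul, h8xU_val]
    exact e1
  have u2 : h8xU D hB (D.negIdx.getD c 0) (1 : F) * h8xU D hB r 1 =
      h8xU D hB r 1 * h8xU D hB (D.negIdx.getD c 0) 1 :=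
    (h8tg_commute D hB hC r _ hr hnc h3 h3' hct2 1 1).symm.eq
  have u3 : h8xU D hB c (1 : F) * h8xU D hB k 1 = h8xU D hB k 1 * h8xU D hB c 1 :=
    (h8tg_commute D hB hC k c hk hc h4 h4' hct3 1 1).symm.eq
  unfold h8tgT
  rw [mul_inv_eq_iff_eq_mul]
  calc h8xU D hB c 1 * h8xU D hB (D.negIdx.getD c 0) 1 * h8xU D hB r 1
      = h8xU D hB c 1 * (h8xU D hB (D.negIdx.getD c 0) 1 * h8xU D hB r 1) := by group
    _ = h8xU D hB c 1 * (h8xU D hB r 1 * h8xU D hB (D.negIdx.getD c 0) 1) := by rw [u2]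
    _ = (h8xU D hB c 1 * h8xU D hB r 1) * h8xU D hB (D.negIdx.getD c 0) 1 := by group
    _ = (h8xU D hB r 1 * h8xU D hB c 1 * h8xU D hB k 1) * h8xU D hB (D.negIdx.getD c 0) 1 := by
        rw [u1]
    _ = h8xU D hB r 1 * (h8xU D hB c 1 * h8xU D hB k 1) * h8xU D hB (D.negIdx.getD c 0) 1 := by
        group
    _ = h8xU D hB r 1 * (h8xU D hB k 1 * h8xU D hB c 1) * h8xU D hB (D.negIdx.getD c 0) 1 := by
        rw [u3]
    _ = h8xU D hB r 1 * h8xU D hB k 1 * (h8xU D hB c 1 * h8xU D hB (D.negIdx.getD c 0) 1) := by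
        group

/-- powers of a root element over the field with two elements -/
theorem h8tg_x_sq (D : ChevalleyDatum) (hB : H8Base.{u} D) (h2 : ∀ t : F, t = 0 ∨ t = 1) (r : ℕ)
    (hr : r < D.nroots) : h8xU D hB r (1 : F) * h8xU D hB r 1 = 1 := by
  rw [h8xU_add D hB r hr, show (1 : F) + 1 = 2 by norm_num, h8tg_two h2, h8xU_zero]

/-- the type `D₄`-like case over the field with two elements: generators `x_a(1) t_c` and `n_w` -/
theorem h8tg_mainD2 (D : ChevalleyDatum)
    (hD : D ∈ [chevG2, chevB2, chevD4, chevF4, chevE6, chevE7, chevE8])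
    (hB : H8Base.{u} D) (hA : H8ReflAll D)
    (hC : H8CommAll.{u} D) (hBN : H8BN D) (h2 : ∀ t : F, t = 0 ∨ t = 1)
    (w : List ℕ) (hw : ∀ i ∈ w, i < D.rank) (a c : ℕ) (ha : a < D.nroots) (hc : c < D.nroots)
    (hnc : D.negIdx.getD c 0 < D.nroots)
    (hd1 : c ≠ a) (hd2 : c ≠ D.negIdx.getD a 0) (hd3 : D.negIdx.getD c 0 ≠ a)
    (hd4 : D.negIdx.getD c 0 ≠ D.negIdx.getD a 0)
    (hct1 : D.commTerms a c = []) (hct2 : D.commTerms a (D.negIdx.getD c 0) = [])
    (steps : List H8tgStep) (hchk : h8tgChk D [1, -1] [a] [w] [c] steps = true) :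
    ∃ x y : ↥(D.group F), Subgroup.closure ({x, y} : Set ↥(D.group F)) = ⊤ := by
  apply h8tg_top (D.group F) (h8xU D hB a (1 : F) * h8tgT D hB F c) (h8nWU D hB w)
    (Subgroup.mul_mem _ (h8xU_mem_group D hB a 1)
      (Subgroup.mul_mem _ (h8xU_mem_group D hB c 1) (h8xU_mem_group D hB _ 1)))
    (h8nWU_mem_group D hB hA w hw)
  set M := Subgroup.closure ({h8xU D hB a (1 : F) * h8tgT D hB F c, h8nWU D hB w} :
    Set (GL D.Idx F)) with hM
  have hg : h8xU D hB a (1 : F) * h8tgT D hB F c ∈ M := Subgroup.subset_closure (by simp)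
  have hn : (h8nWU D hB w : GL D.Idx F) ∈ M := Subgroup.subset_closure (by simp)
  have hcomm : Commute (h8xU D hB a (1 : F)) (h8tgT D hB F c) := by
    unfold h8tgT
    exact (h8tg_commute D hB hC a c ha hc hd1 hd2 hct1 1 1).mul_right
      (h8tg_commute D hB hC a _ ha hnc hd3 hd4 hct2 1 1)
  have hT3 := h8tg_T_cube D hD hB h2 c hc
  have hx2 := h8tg_x_sq D hB h2 a ha
  have e3 : (h8xU D hB a (1 : F) * h8tgT D hB F c) ^ 3 = h8xU D hB a 1 := by
    rw [hcomm.mul_pow, hT3, mul_one, pow_succ, pow_two, hx2, one_mul]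
  have e4 : (h8xU D hB a (1 : F) * h8tgT D hB F c) ^ 4 = h8tgT D hB F c := by
    rw [hcomm.mul_pow, show (4 : ℕ) = 3 + 1 by norm_num, pow_succ (h8tgT D hB F c), hT3, one_mul,
      show (3 + 1 : ℕ) = 2 + 2 by norm_num, pow_add, pow_two, hx2, one_mul, one_mul]
  have hx : h8xU D hB a (1 : F) ∈ M := by
    rw [← e3]; exact Subgroup.pow_mem _ hg _
  have hT : h8tgT D hB F c ∈ M := by
    rw [← e4]; exact Subgroup.pow_mem _ hg _
  apply h8tg_sound D hB hA hC hBN M [1, -1] ?_ [a] [w] [c] steps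
  · intro r hr
    rw [List.mem_singleton] at hr
    subst hr
    exact ⟨ha, h8tg_inR_two D hB M h2 r hx⟩
  · intro w' hw'
    rw [List.mem_singleton] at hw'
    subst hw'
    exact ⟨hw, hn⟩
  · intro c' hc'
    rw [List.mem_singleton] at hc'
    subst hc'
    exact ⟨hc, hT⟩
  · exact Or.inr h2
  · exact hchk
  · intro z hz
    simp only [List.mem_cons, List.not_mem_nil, or_false] at hz
    rcases hz with rfl | rfl
    · simp
    · simp [h8tg_neg_one h2]

end Cfsg.Agent.Lib.helper8
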