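import Mathlib
import Cfsg.Prelude.Def_ChevStructure
import Cfsg.Agent.Lib.helper8.ChevTG6

/-! Two-generation over the field with two elements: the case of type `F₄`. -/

set_option autoImplicit false

namespace Cfsg.Agent.Lib.helper8

open Cfsg.Lie Cfsg.Lie.ChevalleyDatum

universe u

variable {F : Type u} [Field F]

/-- the root elements of `r` and `s` commute for table reasons -/
def H8tgCom (D : ChevalleyDatum) (r s : ℕ) : Prop :=
  r < D.nroots ∧ s < D.nroots ∧ s ≠ r ∧ s ≠ D.negIdx.getD r 0 ∧ D.commTerms r s = []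

instance h8tgComDec (D : ChevalleyDatum) (r s : ℕ) : Decidable (H8tgCom D r s) := by
  unfold H8tgCom
  infer_instance

theorem h8tg_commute' (D : ChevalleyDatum) (hB : H8Base.{u} D) (hC : H8CommAll.{u} D) (r s : ℕ)
    (h : H8tgCom D r s) (t v : F) : Commute (h8xU D hB r t) (h8xU D hB s v) :=
  h8tg_commute D hB hC r s h.1 h.2.1 h.2.2.1 h.2.2.2.1 h.2.2.2.2 t v

/-- the type `F₄`-like case over the field with two elements:
generators `x_a(1) x_b(1) t_c` and `n_w` -/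
theorem h8tg_mainF2 (D : ChevalleyDatum)
    (hD : D ∈ [chevG2, chevB2, chevD4, chevF4, chevE6, chevE7, chevE8])
    (hB : H8Base.{u} D) (hA : H8ReflAll D)
    (hC : H8CommAll.{u} D) (hBN : H8BN D) (h2 : ∀ t : F, t = 0 ∨ t = 1)
    (w : List ℕ) (hw : ∀ i ∈ w, i < D.rank) (a b c k : ℕ) (cc : ℤ)
    (hnc : D.negIdx.getD c 0 < D.nroots)
    (hab : H8tgCom D a b) (hac : H8tgCom D a c) (hac' : H8tgCom D a (D.negIdx.getD c 0))
    (hbc : H8tgCom D b c) (hbc' : H8tgCom D b (D.negIdx.getD c 0))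
    (hneg : h8sW D w (D.negIdx.getD c 0) = D.negIdx.getD (h8sW D w c) 0)
    (hnc1 : D.negIdx.getD (h8sW D w c) 0 < D.nroots)
    (hk : k < D.nroots)
    (hf1 : h8sW D w c ≠ a) (hf1' : h8sW D w c ≠ D.negIdx.getD a 0)
    (hf3 : D.negIdx.getD (h8sW D w c) 0 ≠ a)
    (hf3' : D.negIdx.getD (h8sW D w c) 0 ≠ D.negIdx.getD a 0)
    (hf4 : h8sW D w c ≠ k) (hf4' : h8sW D w c ≠ D.negIdx.getD k 0)
    (hft : D.commTerms a (h8sW D w c) = [(k, cc, 1, 1)]) (hcc : cc = 1 ∨ cc = -1)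
    (hft2 : D.commTerms a (D.negIdx.getD (h8sW D w c) 0) = [])
    (hft3 : D.commTerms k (h8sW D w c) = [])
    (hbc1 : H8tgCom D b (h8sW D w c))
    (hbc1' : H8tgCom D b (D.negIdx.getD (h8sW D w c) 0))
    (hkb : H8tgCom D k b)
    (steps1 steps2 : List H8tgStep)
    (hchk1 : h8tgReach D [1, -1] [k] [w] [h8sW D w c, c] steps1 a = true)
    (hchk2 : h8tgChk D [1, -1] [a, b, k] [w] [h8sW D w c, c] steps2 = true) :
    ∃ x y : ↥(D.group F), Subgroup.closure ({x, y} : Set ↥(D.group F)) = ⊤ := by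
  have ha : a < D.nroots := hab.1
  have hb : b < D.nroots := hab.2.1
  have hc : c < D.nroots := hac.2.1
  have hc1 : h8sW D w c < D.nroots := hbc1.2.1
  apply h8tg_top (D.group F) (h8xU D hB a (1 : F) * h8xU D hB b 1 * h8tgT D hB F c)
    (h8nWU D hB w)
    (Subgroup.mul_mem _ (Subgroup.mul_mem _ (h8xU_mem_group D hB a 1) (h8xU_mem_group D hB b 1))
      (Subgroup.mul_mem _ (h8xU_mem_group D hB c 1) (h8xU_mem_group D hB _ 1)))
    (h8nWU_mem_group D hB hA w hw)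
  set M := Subgroup.closure ({h8xU D hB a (1 : F) * h8xU D hB b 1 * h8tgT D hB F c,
    h8nWU D hB w} : Set (GL D.Idx F)) with hM
  have hg : h8xU D hB a (1 : F) * h8xU D hB b 1 * h8tgT D hB F c ∈ M :=
    Subgroup.subset_closure (by simp)
  have hn : (h8nWU D hB w : GL D.Idx F) ∈ M := Subgroup.subset_closure (by simp)
  have hcab : Commute (h8xU D hB a (1 : F)) (h8xU D hB b 1) := h8tg_commute' D hB hC a b hab 1 1
  have hcomm : Commute (h8xU D hB a (1 : F) * h8xU D hB b 1) (h8tgT D hB F c) := by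
    unfold h8tgT
    exact ((h8tg_commute' D hB hC a c hac 1 1).mul_right
      (h8tg_commute' D hB hC a _ hac' 1 1)).mul_left
      ((h8tg_commute' D hB hC b c hbc 1 1).mul_right (h8tg_commute' D hB hC b _ hbc' 1 1))
  have hT3 := h8tg_T_cube D hD hB h2 c hc
  have hxa2 := h8tg_x_sq D hB h2 a ha
  have hxb2 := h8tg_x_sq D hB h2 b hb
  have hy2 : (h8xU D hB a (1 : F) * h8xU D hB b 1) * (h8xU D hB a (1 : F) * h8xU D hB b 1) = 1 := by
    calc (h8xU D hB a (1 : F) * h8xU D hB b 1) * (h8xU D hB a (1 : F) * h8xU D hB b 1)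
        = h8xU D hB a (1 : F) * (h8xU D hB b 1 * h8xU D hB a (1 : F)) * h8xU D hB b 1 := by group
      _ = h8xU D hB a (1 : F) * (h8xU D hB a 1 * h8xU D hB b (1 : F)) * h8xU D hB b 1 := by
          rw [hcab.eq]
      _ = (h8xU D hB a (1 : F) * h8xU D hB a 1) * (h8xU D hB b (1 : F) * h8xU D hB b 1) := by
          group
      _ = 1 := by rw [hxa2, hxb2, one_mul]
  have e3 : (h8xU D hB a (1 : F) * h8xU D hB b 1 * h8tgT D hB F c) ^ 3 =
      h8xU D hB a 1 * h8xU D hB b 1 := by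
    rw [hcomm.mul_pow, hT3, mul_one, pow_succ, pow_two, hy2, one_mul]
  have e4 : (h8xU D hB a (1 : F) * h8xU D hB b 1 * h8tgT D hB F c) ^ 4 = h8tgT D hB F c := by
    rw [hcomm.mul_pow, show (4 : ℕ) = 3 + 1 by norm_num, pow_succ (h8tgT D hB F c), hT3, one_mul,
      show (3 + 1 : ℕ) = 2 + 2 by norm_num, pow_add, pow_two, hy2, one_mul, one_mul]
  have hy : h8xU D hB a (1 : F) * h8xU D hB b 1 ∈ M := by
    rw [← e3]; exact Subgroup.pow_mem _ hg _
  have hT : h8tgT D hB F c ∈ M := by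
    rw [← e4]; exact Subgroup.pow_mem _ hg _
  have hT1 : h8tgT D hB F (h8sW D w c) ∈ M :=
    h8tg_triw D hB hA M h2 w hw hn c hc hnc hneg hT
  have key := h8tg_tri_key (F := F) D hB hC h2 (h8sW D w c) a k cc hc1 hnc1 ha hk hf1 hf1' hf3 hf3'
    hf4 hf4' hft hcc hft2 hft3
  have hbT : Commute (h8xU D hB b (1 : F)) (h8tgT D hB F (h8sW D w c)) := by
    unfold h8tgT
    exact (h8tg_commute' D hB hC b _ hbc1 1 1).mul_right (h8tg_commute' D hB hC b _ hbc1' 1 1)
  have hkbc : Commute (h8xU D hB k (1 : F)) (h8xU D hB b 1) := h8tg_commute' D hB hC k b hkb 1 1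
  have hkx : h8xU D hB k (1 : F) = (h8xU D hB a (1 : F) * h8xU D hB b 1)⁻¹ *
      (h8tgT D hB F (h8sW D w c) * (h8xU D hB a (1 : F) * h8xU D hB b 1) *
        (h8tgT D hB F (h8sW D w c))⁻¹) := by
    have e1 : h8tgT D hB F (h8sW D w c) * (h8xU D hB a (1 : F) * h8xU D hB b 1) *
        (h8tgT D hB F (h8sW D w c))⁻¹ =
        (h8tgT D hB F (h8sW D w c) * h8xU D hB a (1 : F) * (h8tgT D hB F (h8sW D w c))⁻¹) *
        (h8tgT D hB F (h8sW D w c) * h8xU D hB b (1 : F) * (h8tgT D hB F (h8sW D w c))⁻¹) := by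
      group
    have e2 : h8tgT D hB F (h8sW D w c) * h8xU D hB b (1 : F) * (h8tgT D hB F (h8sW D w c))⁻¹ =
        h8xU D hB b 1 := by
      rw [← hbT.eq, mul_inv_cancel_right]
    rw [e1, key, e2, mul_assoc (h8xU D hB a (1 : F)), hkbc.eq]
    group
  have hxk : h8xU D hB k (1 : F) ∈ M := by
    rw [hkx]
    exact Subgroup.mul_mem _ (Subgroup.inv_mem _ hy)
      (Subgroup.mul_mem _ (Subgroup.mul_mem _ hT1 hy) (Subgroup.inv_mem _ hT1))
  have hIk : H8InR D hB M k := h8tg_inR_two D hB M h2 k hxk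
  have hcs : ∀ c' ∈ [h8sW D w c, c], c' < D.nroots ∧ h8tgT D hB F c' ∈ M := by
    intro c' hc'
    simp only [List.mem_cons, List.not_mem_nil, or_false] at hc'
    rcases hc' with rfl | rfl
    · exact ⟨hc1, hT1⟩
    · exact ⟨hc, hT⟩
  have hws : ∀ w' ∈ [w], (∀ i ∈ w', i < D.rank) ∧ (h8nWU D hB w' : GL D.Idx F) ∈ M := by
    intro w' hw'
    rw [List.mem_singleton] at hw'
    subst hw'
    exact ⟨hw, hn⟩
  have hco : ∀ z ∈ ([1, -1] : List ℤ), ((z : ℤ) : F) ≠ 0 := by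
    intro z hz
    simp only [List.mem_cons, List.not_mem_nil, or_false] at hz
    rcases hz with rfl | rfl
    · simp
    · simp [h8tg_neg_one h2]
  have hIa : H8InR D hB M a := by
    apply h8tg_reach_sound D hB hA hC M [1, -1] hco [k] [w] [h8sW D w c, c] steps1 ?_ hws hcs
      (Or.inr h2) a hchk1
    intro r hr
    rw [List.mem_singleton] at hr
    subst hr
    exact ⟨hk, hIk⟩
  have hxb : h8xU D hB b (1 : F) ∈ M := by
    have : h8xU D hB b (1 : F) = (h8xU D hB a (1 : F))⁻¹ * (h8xU D hB a (1 : F) * h8xU D hB b 1) := by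
      group
    rw [this]
    exact Subgroup.mul_mem _ (Subgroup.inv_mem _ (hIa 1)) hy
  have hIb : H8InR D hB M b := h8tg_inR_two D hB M h2 b hxb
  apply h8tg_sound D hB hA hC hBN M [1, -1] hco [a, b, k] [w] [h8sW D w c, c] steps2 ?_ hws hcs
    (Or.inr h2) hchk2
  intro r hr
  simp only [List.mem_cons, List.not_mem_nil, or_false] at hr
  rcases hr with rfl | rfl | rfl
  · exact ⟨ha, hIa⟩
  · exact ⟨hb, hIb⟩
  · exact ⟨hk, hIk⟩

end Cfsg.Agent.Lib.helper8
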