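import Mathlib
import Cfsg.Prelude.Def_ChevStructure
import Cfsg.Agent.Lib.helper8.ChevTG5

/-! Two-generation: discharging the hypotheses on the exponents. -/

set_option autoImplicit false

namespace Cfsg.Agent.Lib.helper8

open Cfsg.Lie Cfsg.Lie.ChevalleyDatum

universe u

variable {F : Type u} [Field F]

/-- a generator is not `1` if the field has an element other than `0` and `1` -/
theorem h8tg_gen_ne_one' (hne : ∃ x : F, x ≠ 0 ∧ x ≠ 1) (k : F)
    (hgen : ∀ u : F, u ≠ 0 → ∃ j : ℕ, u = k ^ j) : k ≠ 1 := by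
  rintro rfl
  obtain ⟨x, hx0, hx1⟩ := hne
  obtain ⟨j, hj⟩ := hgen x hx0
  rw [one_pow] at hj
  exact hx1 hj

/-- exponents `e` for which the power `k ^ e` of a generator `k` is a generator other than `1` -/
def H8tgGood (F : Type u) [Field F] (e : ℤ) : Prop :=
  ∀ k : F, k ≠ 0 → (∀ u : F, u ≠ 0 → ∃ j : ℕ, u = k ^ j) →
    k ^ e ≠ 1 ∧ ∀ u : F, u ≠ 0 → ∃ j : ℕ, u = (k ^ e) ^ j

theorem h8tg_good_one (hne : ∃ x : F, x ≠ 0 ∧ x ≠ 1) : H8tgGood F 1 := by
  intro k _ hgen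
  refine ⟨?_, h8tg_gen_one k hgen⟩
  rw [zpow_one]
  exact h8tg_gen_ne_one' hne k hgen

theorem h8tg_good_neg (e : ℤ) (h : H8tgGood F e) : H8tgGood F (-e) := by
  intro k hk hgen
  obtain ⟨h1, h2⟩ := h k hk hgen
  constructor
  · rw [zpow_neg]
    intro h
    apply h1
    rw [inv_eq_one] at h
    exact h
  · intro u hu
    obtain ⟨j, hj⟩ := h2 u⁻¹ (inv_ne_zero hu)
    refine ⟨j, ?_⟩
    rw [zpow_neg, inv_pow, ← hj, inv_inv]

theorem h8tg_good_neg_one (hne : ∃ x : F, x ≠ 0 ∧ x ≠ 1) : H8tgGood F (-1) :=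
  h8tg_good_neg 1 (h8tg_good_one hne)

theorem h8tg_good_two [Finite F] (hne : ∃ x : F, x ≠ 0 ∧ x ≠ 1) (h20 : (2 : F) = 0) :
    H8tgGood F 2 := by
  intro k _ hgen
  have hk1 := h8tg_gen_ne_one' hne k hgen
  have hinj : Function.Injective (fun v : F => v ^ 2) := by
    intro v w hvw
    have hvw' : v ^ 2 = w ^ 2 := hvw
    have h0 : (v - w) ^ 2 = 0 := by
      linear_combination hvw' + (w ^ 2 - v * w) * h20
    exact sub_eq_zero.mp ((pow_eq_zero_iff (two_ne_zero)).mp h0)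
  have e : k ^ (2 : ℤ) = k ^ (2 : ℕ) := by norm_cast
  rw [e]
  constructor
  · intro h
    apply hk1
    apply hinj
    show k ^ 2 = 1 ^ 2
    rw [h, one_pow]
  · intro u hu
    obtain ⟨v, hv⟩ := (Finite.injective_iff_surjective.mp hinj) u
    have hv' : v ^ 2 = u := hv
    have hv0 : v ≠ 0 := by
      rintro rfl
      apply hu
      rw [← hv']
      norm_num
    obtain ⟨j, hj⟩ := hgen v hv0
    refine ⟨j, ?_⟩
    rw [← hv', hj, ← pow_mul, ← pow_mul, mul_comm]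

theorem h8tg_good_neg_two [Finite F] (hne : ∃ x : F, x ≠ 0 ∧ x ≠ 1) (h20 : (2 : F) = 0) :
    H8tgGood F (-2) :=
  h8tg_good_neg 2 (h8tg_good_two hne h20)

/-- one seed, with the conditions on the exponents packaged -/
theorem h8tg_mainA' [Fintype F] (D : ChevalleyDatum) (hB : H8Base.{u} D) (hA : H8ReflAll D)
    (hC : H8CommAll.{u} D) (hBN : H8BN D) (w : List ℕ) (hw : ∀ i ∈ w, i < D.rank) (a c : ℕ)
    (ha : a < D.nroots) (hc : c < D.nroots)
    (h1 : H8tgGood F (h8K D c a)) (h2 : H8tgGood F (h8K D (h8sW D w c) a))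
    (coefs : List ℤ) (hco : ∀ z ∈ coefs, ((z : ℤ) : F) ≠ 0) (steps : List H8tgStep)
    (hchk : h8tgChk D coefs [a] [w] [] steps = true) :
    ∃ x y : ↥(D.group F), Subgroup.closure ({x, y} : Set ↥(D.group F)) = ⊤ := by
  obtain ⟨k, hk, hgen⟩ := h8tg_gen (F := F)
  exact h8tg_mainA D hB hA hC hBN w hw a c ha hc k hk (h1 k hk hgen).1 (h2 k hk hgen).1
    (h1 k hk hgen).2 coefs hco steps hchk

/-- two seeds, with the conditions on the exponents packaged -/
theorem h8tg_mainB' [Fintype F] (D : ChevalleyDatum) (hB : H8Base.{u} D) (hA : H8ReflAll D)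
    (hC : H8CommAll.{u} D) (hBN : H8BN D) (w : List ℕ) (hw : ∀ i ∈ w, i < D.rank) (a b c : ℕ)
    (i : ℕ) (ha : a < D.nroots) (hb : b < D.nroots) (hc : c < D.nroots)
    (h0 : h8K D c b = 0)
    (h1 : H8tgGood F (h8K D c a)) (h2 : H8tgGood F (h8K D (h8sW D w c) a))
    (h3 : H8tgGood F (h8K D ((h8sW D w)^[i] c) b))
    (coefs : List ℤ) (hco : ∀ z ∈ coefs, ((z : ℤ) : F) ≠ 0) (steps : List H8tgStep)
    (hchk : h8tgChk D coefs [a, b] [w] [] steps = true) :
    ∃ x y : ↥(D.group F), Subgroup.closure ({x, y} : Set ↥(D.group F)) = ⊤ := by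
  obtain ⟨k, hk, hgen⟩ := h8tg_gen (F := F)
  exact h8tg_mainB D hB hA hC hBN w hw a b c i ha hb hc k hk h0 (h1 k hk hgen).1
    (h2 k hk hgen).1 (h1 k hk hgen).2 (h3 k hk hgen).2 coefs hco steps hchk

/-- the coefficients `1` and `-1` are never zero -/
theorem h8tg_coefs_one : ∀ z ∈ ([1, -1] : List ℤ), ((z : ℤ) : F) ≠ 0 := by
  intro z hz
  simp only [List.mem_cons, List.not_mem_nil, or_false] at hz
  rcases hz with rfl | rfl <;> simp

/-- the coefficients `1`, `-1`, `2`, `-2` are not zero in odd characteristic -/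
theorem h8tg_coefs_two (h20 : (2 : F) ≠ 0) :
    ∀ z ∈ ([1, -1, 2, -2] : List ℤ), ((z : ℤ) : F) ≠ 0 := by
  intro z hz
  simp only [List.mem_cons, List.not_mem_nil, or_false] at hz
  rcases hz with rfl | rfl | rfl | rfl <;> simp [h20]

/-- a field in which not every element is `0` or `1` -/
theorem h8tg_not_two (h : ¬ ∀ t : F, t = 0 ∨ t = 1) : ∃ x : F, x ≠ 0 ∧ x ≠ 1 := by
  push Not at h
  exact h

end Cfsg.Agent.Lib.helper8
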