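import Mathlib
import Cfsg.Prelude.Def_ChevStructure
import Cfsg.Agent.Lib.helper8.ChevTG7
import Cfsg.Agent.Lib.helper8.ChevTG8
import Cfsg.Agent.Lib.helper8.ChevBaseAll
import Cfsg.Agent.Lib.helper8.ChevReflAll
import Cfsg.Agent.Lib.helper8.ChevCommAll
import Cfsg.Agent.Lib.helper8.ChevBNAll

/-! Two-generation of the Chevalley groups of type `B2` over finite fields: certificates. -/

set_option autoImplicit false

namespace Cfsg.Agent.Lib.helper8

open Cfsg.Lie Cfsg.Lie.ChevalleyDatum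

universe u

def h8tgStepsB2odd : List H8tgStep :=
  [.word 0 1, .comm 1 5, .word 0 5, .word 0 3, .word 0 6, .word 0 7]

theorem h8tg_chk_B2_odd :
    h8tgChk chevB2 [1, -1, 2, -2] [1] [[0, 1]] [] h8tgStepsB2odd = true := by
  decide +kernel

def h8tgStepsB2even : List H8tgStep :=
  [.word 0 0, .word 0 1, .word 0 3, .word 0 5, .word 0 7, .word 0 6]

theorem h8tg_chk_B2_even :
    h8tgChk chevB2 [1, -1] [0, 1] [[0, 1]] [] h8tgStepsB2even = true := by
  decide +kernel

theorem h8tg_B2 {F : Type u} [Field F] [Finite F] (hne : ∃ x : F, x ≠ 0 ∧ x ≠ 1) :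
    ∃ x y : ↥(chevB2.group F), Subgroup.closure ({x, y} : Set ↥(chevB2.group F)) = ⊤ := by
  have hD : chevB2 ∈ [chevG2, chevB2, chevD4, chevF4, chevE6, chevE7, chevE8] := by simp
  have := Fintype.ofFinite F
  by_cases h20 : (2 : F) = 0
  · have e0 : h8K chevB2 2 1 = 0 := by decide +kernel
    have e1 : h8K chevB2 2 0 = 2 := by decide +kernel
    have e2 : h8K chevB2 (h8sW chevB2 [0, 1] 2) 0 = 2 := by decide +kernel
    have e3 : h8K chevB2 ((h8sW chevB2 [0, 1])^[1] 2) 1 = 2 := by decide +kernel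
    apply h8tg_mainB' chevB2 (h8base_all _ hD) (h8reflAll _ hD) (h8commAll _ hD) (h8bn_all _ hD) [0, 1] (by decide) 0 1 2 1
      (by decide) (by decide) (by decide) e0 ?_ ?_ ?_ [1, -1] h8tg_coefs_one h8tgStepsB2even h8tg_chk_B2_even
    · rw [e1]; exact h8tg_good_two hne h20
    · rw [e2]; exact h8tg_good_two hne h20
    · rw [e3]; exact h8tg_good_two hne h20
  · have e1 : h8K chevB2 0 1 = 1 := by decide +kernel
    have e2 : h8K chevB2 (h8sW chevB2 [0, 1] 0) 1 = 1 := by decide +kernel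
    apply h8tg_mainA' chevB2 (h8base_all _ hD) (h8reflAll _ hD) (h8commAll _ hD) (h8bn_all _ hD) [0, 1] (by decide) 1 0
      (by decide) (by decide) ?_ ?_ [1, -1, 2, -2] (h8tg_coefs_two h20) h8tgStepsB2odd h8tg_chk_B2_odd
    · rw [e1]; exact h8tg_good_one hne
    · rw [e2]; exact h8tg_good_one hne

end Cfsg.Agent.Lib.helper8
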