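import Mathlib
import Cfsg.Prelude.Def_ChevStructure
import Cfsg.Agent.Lib.helper8.ChevTG7
import Cfsg.Agent.Lib.helper8.ChevTG8
import Cfsg.Agent.Lib.helper8.ChevBaseAll
import Cfsg.Agent.Lib.helper8.ChevReflAll
import Cfsg.Agent.Lib.helper8.ChevCommAll
import Cfsg.Agent.Lib.helper8.ChevBNAll

/-! Two-generation of the Chevalley groups of type `D4` over finite fields: certificates. -/

set_option autoImplicit false

namespace Cfsg.Agent.Lib.helper8

open Cfsg.Lie Cfsg.Lie.ChevalleyDatum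

universe u

def h8tgStepsD4 : List H8tgStep :=
  [.word 0 1, .word 0 10, .comm 1 21, .comm 10 21, .word 0 18, .word 0 21, .word 0 11,
   .word 0 19, .word 0 15, .word 0 20, .word 0 23, .comm 1 17, .word 0 16, .word 0 5]

theorem h8tg_chk_D4 :
    h8tgChk chevD4 [1, -1] [1, 10] [[0, 1, 2, 3]] [] h8tgStepsD4 = true := by
  decide +kernel

def h8tgStepsD4q2 : List H8tgStep :=
  [.word 0 1, .comm 1 18, .word 0 18, .word 0 6, .tri 0 14, .word 0 14, .word 0 19, .word 0 10,
   .comm 1 21, .word 0 22, .word 0 23, .word 0 21, .tri 0 17, .word 0 5, .word 0 15]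

theorem h8tg_chk_D4_q2 :
    h8tgChk chevD4 [1, -1] [1] [[0, 1, 2, 3]] [7] h8tgStepsD4q2 = true := by
  decide +kernel

theorem h8tg_D4 {F : Type u} [Field F] [Finite F] :
    ∃ x y : ↥(chevD4.group F), Subgroup.closure ({x, y} : Set ↥(chevD4.group F)) = ⊤ := by
  have hD : chevD4 ∈ [chevG2, chevB2, chevD4, chevF4, chevE6, chevE7, chevE8] := by simp
  have := Fintype.ofFinite F
  by_cases h2 : ∀ t : F, t = 0 ∨ t = 1
  · exact h8tg_mainD2 chevD4 hD (h8base_all _ hD) (h8reflAll _ hD) (h8commAll _ hD) (h8bn_all _ hD) h2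
      [0, 1, 2, 3] (by decide) 1 7 (by decide) (by decide) (by decide +kernel)
      (by decide +kernel) (by decide +kernel) (by decide +kernel) (by decide +kernel)
      (by decide +kernel) (by decide +kernel) h8tgStepsD4q2 h8tg_chk_D4_q2
  · have hne := h8tg_not_two h2
    have e0 : h8K chevD4 0 10 = 0 := by decide +kernel
    have e1 : h8K chevD4 0 1 = 1 := by decide +kernel
    have e2 : h8K chevD4 (h8sW chevD4 [0, 1, 2, 3] 0) 1 = 1 := by decide +kernel
    have e3 : h8K chevD4 ((h8sW chevD4 [0, 1, 2, 3])^[1] 0) 10 = 1 := by decide +kernel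
    apply h8tg_mainB' chevD4 (h8base_all _ hD) (h8reflAll _ hD) (h8commAll _ hD) (h8bn_all _ hD) [0, 1, 2, 3] (by decide) 1 10 0 1
      (by decide) (by decide) (by decide) e0 ?_ ?_ ?_ [1, -1] h8tg_coefs_one h8tgStepsD4 h8tg_chk_D4
    · rw [e1]; exact h8tg_good_one hne
    · rw [e2]; exact h8tg_good_one hne
    · rw [e3]; exact h8tg_good_one hne

end Cfsg.Agent.Lib.helper8
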