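import Mathlib
import Cfsg.Prelude.Def_ChevStructure
import Cfsg.Agent.Lib.helper8.ChevTG7
import Cfsg.Agent.Lib.helper8.ChevTG8
import Cfsg.Agent.Lib.helper8.ChevBaseAll
import Cfsg.Agent.Lib.helper8.ChevReflAll
import Cfsg.Agent.Lib.helper8.ChevCommAll
import Cfsg.Agent.Lib.helper8.ChevBNAll

/-! Two-generation of the Chevalley groups of type `E6` over finite fields: certificates. -/

set_option autoImplicit false

namespace Cfsg.Agent.Lib.helper8

open Cfsg.Lie Cfsg.Lie.ChevalleyDatum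

universe u

def h8tgStepsE6 : List H8tgStep :=
  [.word 0 2, .word 0 17, .word 0 31, .word 0 33, .comm 2 62, .word 0 62, .word 0 26, .comm 2 68,
   .comm 62 34, .word 0 68, .word 0 34, .word 0 61, .word 0 53, .word 0 35, .word 0 67,
   .comm 2 66, .comm 2 63, .comm 2 71, .comm 57 29, .word 0 66, .word 0 71, .word 0 29,
   .word 0 27, .word 0 47, .word 0 56, .comm 2 45, .comm 2 70, .comm 2 24, .comm 2 59,
   .comm 68 0, .comm 66 23, .comm 63 9, .comm 45 19, .word 0 22, .word 0 39, .word 0 19,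
   .word 0 60]

theorem h8tg_chk_E6 :
    h8tgChk chevE6 [1, -1] [2] [[0, 1, 2, 3, 4, 5]] [] h8tgStepsE6 = true := by
  decide +kernel

theorem h8tg_E6 {F : Type u} [Field F] [Finite F] :
    ∃ x y : ↥(chevE6.group F), Subgroup.closure ({x, y} : Set ↥(chevE6.group F)) = ⊤ := by
  have hD : chevE6 ∈ [chevG2, chevB2, chevD4, chevF4, chevE6, chevE7, chevE8] := by simp
  have := Fintype.ofFinite F
  by_cases h2 : ∀ t : F, t = 0 ∨ t = 1
  · exact h8tg_mainA2 chevE6 (h8base_all _ hD) (h8reflAll _ hD) (h8commAll _ hD) (h8bn_all _ hD) h2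
      [0, 1, 2, 3, 4, 5] (by decide) 2 (by decide) h8tgStepsE6 h8tg_chk_E6
  · have hne := h8tg_not_two h2
    have e1 : h8K chevE6 0 2 = 1 := by decide +kernel
    have e2 : h8K chevE6 (h8sW chevE6 [0, 1, 2, 3, 4, 5] 0) 2 = 1 := by decide +kernel
    apply h8tg_mainA' chevE6 (h8base_all _ hD) (h8reflAll _ hD) (h8commAll _ hD) (h8bn_all _ hD) [0, 1, 2, 3, 4, 5] (by decide) 2 0
      (by decide) (by decide) ?_ ?_ [1, -1] h8tg_coefs_one h8tgStepsE6 h8tg_chk_E6
    · rw [e1]; exact h8tg_good_one hne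
    · rw [e2]; exact h8tg_good_one hne

end Cfsg.Agent.Lib.helper8
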