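import Mathlib
import Cfsg.Prelude.Def_ChevStructure
import Cfsg.Agent.Lib.helper8.ChevTG7
import Cfsg.Agent.Lib.helper8.ChevTG8
import Cfsg.Agent.Lib.helper8.ChevBaseAll
import Cfsg.Agent.Lib.helper8.ChevReflAll
import Cfsg.Agent.Lib.helper8.ChevCommAll
import Cfsg.Agent.Lib.helper8.ChevBNAll

/-! Two-generation of the Chevalley groups of type `E7` over finite fields: certificates. -/

set_option autoImplicit false

namespace Cfsg.Agent.Lib.helper8

open Cfsg.Lie Cfsg.Lie.ChevalleyDatum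

universe u

def h8tgStepsE7 : List H8tgStep :=
  [.word 0 3, .word 0 8, .word 0 34, .word 0 54, .word 0 57, .comm 3 100, .word 0 100,
   .word 0 33, .word 0 110, .word 0 53, .comm 3 120, .word 0 120, .word 0 99, .word 0 58,
   .word 0 115, .word 0 109, .word 0 60, .word 0 122, .word 0 119, .word 0 101, .word 0 117,
   .word 0 125, .word 0 111, .comm 3 91, .comm 100 24, .comm 117 61, .word 0 91, .word 0 124,
   .word 0 87, .word 0 61, .word 0 116, .comm 3 123, .comm 3 106, .comm 3 90, .comm 100 69,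
   .word 0 71, .word 0 123, .word 0 90, .word 0 69, .word 0 39, .word 0 23, .word 0 103,
   .comm 3 68, .comm 3 118, .comm 3 108, .comm 3 56, .comm 3 51, .comm 3 112, .comm 100 6,
   .comm 100 41, .comm 120 6, .comm 120 1, .comm 117 37, .comm 124 2, .comm 71 49, .word 0 66,
   .word 0 56, .word 0 43, .word 0 98]

theorem h8tg_chk_E7 :
    h8tgChk chevE7 [1, -1] [3] [[0, 1, 2, 3, 4, 5, 6]] [] h8tgStepsE7 = true := by
  decide +kernel

theorem h8tg_E7 {F : Type u} [Field F] [Finite F] :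
    ∃ x y : ↥(chevE7.group F), Subgroup.closure ({x, y} : Set ↥(chevE7.group F)) = ⊤ := by
  have hD : chevE7 ∈ [chevG2, chevB2, chevD4, chevF4, chevE6, chevE7, chevE8] := by simp
  have := Fintype.ofFinite F
  by_cases h2 : ∀ t : F, t = 0 ∨ t = 1
  · exact h8tg_mainA2 chevE7 (h8base_all _ hD) (h8reflAll _ hD) (h8commAll _ hD) (h8bn_all _ hD) h2
      [0, 1, 2, 3, 4, 5, 6] (by decide) 3 (by decide) h8tgStepsE7 h8tg_chk_E7
  · have hne := h8tg_not_two h2
    have e1 : h8K chevE7 0 3 = 1 := by decide +kernel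
    have e2 : h8K chevE7 (h8sW chevE7 [0, 1, 2, 3, 4, 5, 6] 0) 3 = 1 := by decide +kernel
    apply h8tg_mainA' chevE7 (h8base_all _ hD) (h8reflAll _ hD) (h8commAll _ hD) (h8bn_all _ hD) [0, 1, 2, 3, 4, 5, 6] (by decide) 3 0
      (by decide) (by decide) ?_ ?_ [1, -1] h8tg_coefs_one h8tgStepsE7 h8tg_chk_E7
    · rw [e1]; exact h8tg_good_one hne
    · rw [e2]; exact h8tg_good_one hne

end Cfsg.Agent.Lib.helper8
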