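import Mathlib
import Cfsg.Prelude.Def_ChevStructure
import Cfsg.Agent.Lib.helper8.ChevTG7
import Cfsg.Agent.Lib.helper8.ChevTG8
import Cfsg.Agent.Lib.helper8.ChevBaseAll
import Cfsg.Agent.Lib.helper8.ChevReflAll
import Cfsg.Agent.Lib.helper8.ChevCommAll
import Cfsg.Agent.Lib.helper8.ChevBNAll

/-! Two-generation of the Chevalley groups of type `E8` over finite fields: certificates. -/

set_option autoImplicit false

namespace Cfsg.Agent.Lib.helper8

open Cfsg.Lie Cfsg.Lie.ChevalleyDatum

universe u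

def h8tgStepsE8 : List H8tgStep :=
  [.word 0 0, .word 0 15, .word 0 21, .word 0 36, .word 0 78, .word 0 105, .word 0 169,
   .word 0 184, .word 0 204, .word 0 226, .word 0 234, .comm 0 235, .word 0 235, .word 0 110,
   .comm 0 236, .word 0 236, .word 0 170, .word 0 114, .comm 0 237, .word 0 237, .word 0 185,
   .word 0 171, .word 0 117, .comm 0 238, .word 0 238, .word 0 205, .word 0 186, .word 0 172,
   .word 0 119, .word 0 239, .word 0 227, .word 0 206, .word 0 187, .word 0 173, .word 0 224,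
   .word 0 219, .word 0 194, .word 0 152, .word 0 136, .word 0 218, .word 0 233, .word 0 210,
   .word 0 178, .word 0 143, .comm 0 232, .comm 0 229, .comm 218 81, .word 0 203, .word 0 232,
   .word 0 191, .word 0 166, .word 0 93, .word 0 181, .comm 0 225, .comm 0 209, .comm 0 193,
   .comm 218 38, .comm 218 24, .comm 203 38, .word 0 161, .word 0 225, .word 0 150, .word 0 71,
   .word 0 145, .word 0 128, .word 0 124, .comm 0 134, .comm 0 231, .comm 0 177, .comm 0 168,
   .comm 0 125, .comm 0 122, .comm 235 5, .comm 235 3, .comm 236 2, .comm 237 3, .comm 238 2,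
   .comm 224 14, .comm 218 16, .word 0 162, .word 0 168, .word 0 88, .word 0 130, .word 0 116,
   .word 0 121]

theorem h8tg_chk_E8 :
    h8tgChk chevE8 [1, -1] [0] [[0, 1, 2, 3, 4, 5, 6, 7]] [] h8tgStepsE8 = true := by
  decide +kernel

theorem h8tg_E8 {F : Type u} [Field F] [Finite F] :
    ∃ x y : ↥(chevE8.group F), Subgroup.closure ({x, y} : Set ↥(chevE8.group F)) = ⊤ := by
  have hD : chevE8 ∈ [chevG2, chevB2, chevD4, chevF4, chevE6, chevE7, chevE8] := by simp
  have := Fintype.ofFinite F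
  by_cases h2 : ∀ t : F, t = 0 ∨ t = 1
  · exact h8tg_mainA2 chevE8 (h8base_all _ hD) (h8reflAll _ hD) (h8commAll _ hD) (h8bn_all _ hD) h2
      [0, 1, 2, 3, 4, 5, 6, 7] (by decide) 0 (by decide) h8tgStepsE8 h8tg_chk_E8
  · have hne := h8tg_not_two h2
    have e1 : h8K chevE8 2 0 = 1 := by decide +kernel
    have e2 : h8K chevE8 (h8sW chevE8 [0, 1, 2, 3, 4, 5, 6, 7] 2) 0 = 1 := by decide +kernel
    apply h8tg_mainA' chevE8 (h8base_all _ hD) (h8reflAll _ hD) (h8commAll _ hD) (h8bn_all _ hD) [0, 1, 2, 3, 4, 5, 6, 7] (by decide) 0 2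
      (by decide) (by decide) ?_ ?_ [1, -1] h8tg_coefs_one h8tgStepsE8 h8tg_chk_E8
    · rw [e1]; exact h8tg_good_one hne
    · rw [e2]; exact h8tg_good_one hne

end Cfsg.Agent.Lib.helper8
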