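import Mathlib
import Cfsg.Prelude.Def_ChevStructure
import Cfsg.Agent.Lib.helper8.ChevTG7
import Cfsg.Agent.Lib.helper8.ChevTG8
import Cfsg.Agent.Lib.helper8.ChevBaseAll
import Cfsg.Agent.Lib.helper8.ChevReflAll
import Cfsg.Agent.Lib.helper8.ChevCommAll
import Cfsg.Agent.Lib.helper8.ChevBNAll

/-! Two-generation of the Chevalley groups of type `F4` over finite fields: certificates. -/

set_option autoImplicit false

namespace Cfsg.Agent.Lib.helper8

open Cfsg.Lie Cfsg.Lie.ChevalleyDatum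

universe u

def h8tgStepsF4 : List H8tgStep :=
  [.word 0 0, .word 0 3, .word 0 15, .word 0 7, .word 0 21, .word 0 8, .word 0 41, .word 0 18,
   .word 0 45, .word 0 34, .comm 0 46, .comm 3 37, .word 0 46, .word 0 37, .word 0 23,
   .word 0 11, .word 0 47, .word 0 44, .word 0 42, .word 0 33, .comm 3 40, .word 0 32,
   .word 0 30, .word 0 14, .comm 0 26, .comm 0 43, .comm 46 2, .word 0 16, .word 0 25]

theorem h8tg_chk_F4 :
    h8tgChk chevF4 [1, -1] [0, 3] [[0, 1, 2, 3]] [] h8tgStepsF4 = true := by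
  decide +kernel

def h8tgStepsF4q2a : List H8tgStep :=
  [.word 0 1]

theorem h8tg_chk_F4_q2a :
    h8tgReach chevF4 [1, -1] [1] [[0, 1, 2, 3]] [h8sW chevF4 [0, 1, 2, 3] 25, 25] h8tgStepsF4q2a 0 = true := by
  decide +kernel

def h8tgStepsF4q2b : List H8tgStep :=
  [.word 0 0, .word 0 3, .triw 0 0, .tri 2 15, .tri 1 16, .word 0 15, .word 0 7, .word 0 16,
   .word 0 17, .tri 2 21, .tri 2 4, .tri 1 5, .word 0 8, .word 0 23, .comm 6 42, .tri 2 42,
   .tri 0 43, .word 0 18, .refl 2, .refl 3, .word 2 34, .word 1 8, .word 1 34, .word 0 37,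
   .word 0 35, .comm 3 38, .comm 18 36, .comm 37 12, .comm 9 36, .word 2 36]

theorem h8tg_chk_F4_q2b :
    h8tgChk chevF4 [1, -1] [0, 3, 1] [[0, 1, 2, 3]] [h8sW chevF4 [0, 1, 2, 3] 25, 25] h8tgStepsF4q2b = true := by
  decide +kernel

theorem h8tg_F4 {F : Type u} [Field F] [Finite F] :
    ∃ x y : ↥(chevF4.group F), Subgroup.closure ({x, y} : Set ↥(chevF4.group F)) = ⊤ := by
  have hD : chevF4 ∈ [chevG2, chevB2, chevD4, chevF4, chevE6, chevE7, chevE8] := by simp
  have := Fintype.ofFinite F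
  by_cases h2 : ∀ t : F, t = 0 ∨ t = 1
  · exact h8tg_mainF2 chevF4 hD (h8base_all _ hD) (h8reflAll _ hD) (h8commAll _ hD) (h8bn_all _ hD) h2
      [0, 1, 2, 3] (by decide) 0 3 25 1 (1)
      (by decide +kernel) (by decide +kernel) (by decide +kernel) (by decide +kernel)
      (by decide +kernel) (by decide +kernel) (by decide +kernel) (by decide +kernel)
      (by decide +kernel) (by decide +kernel) (by decide +kernel) (by decide +kernel)
      (by decide +kernel) (by decide +kernel) (by decide +kernel) (by decide +kernel)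
      (by decide) (by decide +kernel) (by decide +kernel) (by decide +kernel)
      (by decide +kernel) (by decide +kernel) h8tgStepsF4q2a h8tgStepsF4q2b
      h8tg_chk_F4_q2a h8tg_chk_F4_q2b
  · have hne := h8tg_not_two h2
    have e0 : h8K chevF4 23 3 = 0 := by decide +kernel
    have e1 : h8K chevF4 23 0 = 1 := by decide +kernel
    have e2 : h8K chevF4 (h8sW chevF4 [0, 1, 2, 3] 23) 0 = -1 := by decide +kernel
    have e3 : h8K chevF4 ((h8sW chevF4 [0, 1, 2, 3])^[1] 23) 3 = -1 := by decide +kernel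
    apply h8tg_mainB' chevF4 (h8base_all _ hD) (h8reflAll _ hD) (h8commAll _ hD) (h8bn_all _ hD) [0, 1, 2, 3] (by decide) 0 3 23 1
      (by decide) (by decide) (by decide) e0 ?_ ?_ ?_ [1, -1] h8tg_coefs_one h8tgStepsF4 h8tg_chk_F4
    · rw [e1]; exact h8tg_good_one hne
    · rw [e2]; exact h8tg_good_neg_one hne
    · rw [e3]; exact h8tg_good_neg_one hne

end Cfsg.Agent.Lib.helper8
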