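import Mathlib
import Cfsg.Prelude.Def_ChevStructure
import Cfsg.Agent.Lib.helper8.ChevTG7
import Cfsg.Agent.Lib.helper8.ChevTG8
import Cfsg.Agent.Lib.helper8.ChevBaseAll
import Cfsg.Agent.Lib.helper8.ChevReflAll
import Cfsg.Agent.Lib.helper8.ChevCommAll
import Cfsg.Agent.Lib.helper8.ChevBNAll

/-! Two-generation of the Chevalley groups of type `G2` over finite fields: certificates. -/

set_option autoImplicit false

namespace Cfsg.Agent.Lib.helper8

open Cfsg.Lie Cfsg.Lie.ChevalleyDatum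

universe u

def h8tgStepsG2 : List H8tgStep :=
  [.word 0 0, .word 0 2, .word 0 5, .word 0 3, .word 0 10, .word 0 7, .word 0 11, .word 0 9,
   .word 0 8]

theorem h8tg_chk_G2 :
    h8tgChk chevG2 [1, -1] [0, 2] [[0, 1]] [] h8tgStepsG2 = true := by
  decide +kernel

theorem h8tg_G2 {F : Type u} [Field F] [Finite F] (hne : ∃ x : F, x ≠ 0 ∧ x ≠ 1) :
    ∃ x y : ↥(chevG2.group F), Subgroup.closure ({x, y} : Set ↥(chevG2.group F)) = ⊤ := by
  have hD : chevG2 ∈ [chevG2, chevB2, chevD4, chevF4, chevE6, chevE7, chevE8] := by simp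
  have := Fintype.ofFinite F
  have e0 : h8K chevG2 5 2 = 0 := by decide +kernel
  have e1 : h8K chevG2 5 0 = 1 := by decide +kernel
  have e2 : h8K chevG2 (h8sW chevG2 [0, 1] 5) 0 = -1 := by decide +kernel
  have e3 : h8K chevG2 ((h8sW chevG2 [0, 1])^[1] 5) 2 = -1 := by decide +kernel
  apply h8tg_mainB' chevG2 (h8base_all _ hD) (h8reflAll _ hD) (h8commAll _ hD) (h8bn_all _ hD) [0, 1] (by decide) 0 2 5 1
    (by decide) (by decide) (by decide) e0 ?_ ?_ ?_ [1, -1] h8tg_coefs_one h8tgStepsG2 h8tg_chk_G2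
  · rw [e1]; exact h8tg_good_one hne
  · rw [e2]; exact h8tg_good_neg_one hne
  · rw [e3]; exact h8tg_good_neg_one hne

end Cfsg.Agent.Lib.helper8
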