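import Mathlib
import Cfsg.Prelude.Def_ChevStructure
import Cfsg.Agent.Lib.helper8.ChevTGDG2
import Cfsg.Agent.Lib.helper8.ChevTGDB2
import Cfsg.Agent.Lib.helper8.ChevTGDD4
import Cfsg.Agent.Lib.helper8.ChevTGDF4
import Cfsg.Agent.Lib.helper8.ChevTGDE6
import Cfsg.Agent.Lib.helper8.ChevTGDE7
import Cfsg.Agent.Lib.helper8.ChevTGDE8

/-! Two-generation of the Chevalley groups over finite fields. -/

set_option autoImplicit false

namespace Cfsg.Agent.Lib.helper8

open Cfsg.Lie Cfsg.Lie.ChevalleyDatum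

universe u

theorem h8tg_all {F : Type u} [Field F] [Finite F] (D : ChevalleyDatum)
    (hD : D ∈ [chevG2, chevB2, chevD4, chevF4, chevE6, chevE7, chevE8])
    (hF : D ∈ [chevB2, chevG2] → ∃ x : F, x ≠ 0 ∧ x ≠ 1) :
    ∃ a b : ↥(D.group F), Subgroup.closure ({a, b} : Set ↥(D.group F)) = ⊤ := by
  simp only [List.mem_cons, List.not_mem_nil, or_false] at hD
  rcases hD with rfl | rfl | rfl | rfl | rfl | rfl | rfl
  · exact h8tg_G2 (hF (by simp))
  · exact h8tg_B2 (hF (by simp))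
  · exact h8tg_D4
  · exact h8tg_F4
  · exact h8tg_E6
  · exact h8tg_E7
  · exact h8tg_E8

end Cfsg.Agent.Lib.helper8
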