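import Mathlib
import Cfsg.Prelude.Def_ChevStructure
import Cfsg.Prelude.Def_ChevWords
import Cfsg.Agent.Lib.helper8.ChevTT5

/-! The generic two-generator theorem for twisted groups. -/

set_option autoImplicit false

namespace Cfsg.Agent.Lib.helper8

open Cfsg.Lie Cfsg.Lie.ChevalleyDatum

universe u

variable {K : Type u} [Field K]

theorem h8tt_x_inj (D : ChevalleyDatum) (hB : H8Base.{u} D) (hA : H8ReflAll D) (hW : H8BN2 D)
    (s : ℕ) (hs : s < D.nroots) (t t' : K) (h : h8xU D hB s t = h8xU D hB s t') : t = t' := by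
  obtain ⟨w, hw⟩ := hW.w0
  obtain ⟨_, _, _, hne⟩ := h8w0Chk_spec D hA w hw
  have h1 : h8xU D hB s (t + -t') = 1 := by
    rw [← h8xU_add D hB s hs, ← h8xU_inv, h, mul_inv_cancel]
  have h2 := h8x_eq_one D (fun s hs => ⟨hW.neglt s hs, hne s hs⟩) s hs (t + -t') (by
    rw [← h8xU_val D hB, h1]
    rfl)
  exact add_neg_eq_zero.mp h2

theorem h8ttChi_ne_zero (D : ChevalleyDatum) (L : List (ℕ × K)) (hL : ∀ p ∈ L, p.2 ≠ 0)
    (r : ℕ) : h8ttChi D L r ≠ 0 := by
  induction L with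
  | nil => simp [h8ttChi]
  | cons p L ih =>
    have e2 : h8ttChi D (p :: L) r = p.2 ^ (h8K D p.1 r) * h8ttChi D L r := by
      unfold h8ttChi
      rw [List.map_cons, List.prod_cons]
    rw [e2]
    exact mul_ne_zero (zpow_ne_zero _ (hL p List.mem_cons_self))
      (ih fun p' hp' => hL p' (List.mem_cons_of_mem _ hp'))

section
variable (D : ChevalleyDatum) (σ τ π ϖ : ℕ → ℕ) (η : ℕ → ℤ) (hAut : H8Aut D σ τ π ϖ η)
  (f : K ≃+* K) (hB : H8Base.{u} D)

/-- the generic two-generator theorem -/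
theorem h8tt_main [Fintype K] (hA : H8ReflAll D) (hC : H8CommAll.{u} D) (hW : H8BN2 D)
    (G1 : Subgroup (GL D.Idx K))
    (hfixG : ∀ g ∈ G1, h8Sig D σ τ π ϖ η hAut f g = g)
    (orbs : List (List ℕ))
    (hrefl : ∀ M : Subgroup (GL D.Idx K), M ≤ G1 → ∀ J ∈ orbs, (∀ i ∈ J, i < D.rank) ∧
      (H8InT D σ τ π ϖ η hAut f hB M (D.simple (J.headD 0)) →
        H8InT D σ τ π ϖ η hAut f hB M (D.negIdx.getD (D.simple (J.headD 0)) 0) →
        (h8nWU D hB J : GL D.Idx K) ∈ M))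
    (hwords : ∀ M : Subgroup (GL D.Idx K), M ≤ G1 →
      (∀ J ∈ orbs, H8InT D σ τ π ϖ η hAut f hB M (D.simple (J.headD 0)) ∧
        H8InT D σ τ π ϖ η hAut f hB M (D.negIdx.getD (D.simple (J.headD 0)) 0)) → G1 ≤ M)
    (L : List (ℕ × K)) (hL : ∀ p ∈ L, p.1 < D.nroots ∧ p.2 ≠ 0) (hLG : h8ttH D hB L ∈ G1)
    (w : List ℕ) (hw : ∀ i ∈ w, i < D.rank) (hwG : (h8nWU D hB w : GL D.Idx K) ∈ G1)
    (s : ℕ) (hs : s < D.nroots) (hrot : h8ttRotOK D σ s = true)
    (hsG : h8ttN (h8Sig D σ τ π ϖ η hAut f) (h8ttM σ s) (h8xU D hB s (1 : K)) ∈ G1)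
    (R : ℕ) (hR : R < D.nroots) (hσR : σ R = R) (hηR : η R = 1)
    (hRG : h8xU D hB R (1 : K) ∈ G1)
    (hχ : h8ttChi D L s ≠ 1)
    (hχ' : h8ttChi D (L.map fun p => (h8sW D w p.1, p.2)) s ≠ 1)
    (hgen : ∀ u : K, u ≠ 0 → ∃ j : ℕ, u = (h8ttChi D L s) ^ j)
    (hχR : h8ttChi D L R = 1)
    (hgenR : ∀ u : K, f u = u → u ≠ 0 →
      ∃ j : ℕ, u = (h8ttChi D (L.map fun p => (h8sW D w p.1, p.2)) R) ^ j)
    (steps : List H8ttStep) (hchk : h8ttChk D σ orbs [s, R] [w] steps = true) :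
    ∃ a b : ↥G1, Subgroup.closure ({a, b} : Set ↥G1) = ⊤ := by
  set Sg := h8Sig D σ τ π ϖ η hAut f with hSg
  set h := h8ttH D hB L with hh
  set n := (h8nWU D hB w : GL D.Idx K) with hn
  set X : K → GL D.Idx K := fun t => h8ttN Sg (h8ttM σ s) (h8xU D hB s t) with hX
  apply h8tg_top G1 (h * h8xU D hB R (1 : K)) (X 1 * n)
    (Subgroup.mul_mem _ hLG hRG) (Subgroup.mul_mem _ hsG hwG)
  set M := Subgroup.closure ({h * h8xU D hB R (1 : K), X 1 * n} : Set (GL D.Idx K)) with hM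
  have hg1 : h * h8xU D hB R (1 : K) ∈ M := Subgroup.subset_closure (by simp)
  have hg2 : X 1 * n ∈ M := Subgroup.subset_closure (by simp)
  have hMG : M ≤ G1 := by
    rw [hM, Subgroup.closure_le]
    intro g hg
    simp only [Set.mem_insert_iff, Set.mem_singleton_iff] at hg
    rcases hg with rfl | rfl
    · exact Subgroup.mul_mem _ hLG hRG
    · exact Subgroup.mul_mem _ hsG hwG
  have hfixM : ∀ g ∈ M, Sg g = g := fun g hg => hfixG g (hMG hg)
  -- the images of the torus element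
  set L' := L.map fun p => (h8sW D w p.1, p.2) with hL'def
  have hL' : ∀ p ∈ L', p.1 < D.nroots ∧ p.2 ≠ 0 := by
    intro p hp
    rw [hL'def, List.mem_map] at hp
    obtain ⟨p0, hp0, rfl⟩ := hp
    exact ⟨h8sW_lt D hA w hw p0.1 (hL p0 hp0).1, (hL p0 hp0).2⟩
  have hnh : n * h * n⁻¹ = h8ttH D hB L' := h8ttH_nw D hB hA w hw L hL
  -- step 1: splitting
  have hcomm1 : Commute h (h8xU D hB R (1 : K)) := by
    have := h8ttH_conj D hB L hL R hR 1
    rw [hχR, one_mul, mul_inv_eq_iff_eq_mul] at this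
    exact this
  obtain ⟨hhM, hxR⟩ := h8tt_split M h (h8xU D hB R (1 : K)) hcomm1 (Fintype.card K)
    (by rw [h8tg_x_pow D hB R hR, FiniteField.cast_card_eq_zero, zero_mul, h8xU_zero])
    (h8ttH_pow_card D hB L hL) hg1
  -- step 2: the trick
  have hadd : ∀ a b, X (a + b) = X a * X b := fun a b =>
    h8tt_X_add D σ τ π ϖ η hAut f hB hC s hs hrot a b
  have hconj : ∀ t, h * X t * h⁻¹ = X (h8ttChi D L s * t) := fun t =>
    h8tt_h_conj D σ τ π ϖ η hAut f hB h (hfixG h hLG) s _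
      (fun t => h8ttH_conj D hB L hL s hs t) _ t
  have hnhG : n * h * n⁻¹ ∈ G1 :=
    Subgroup.mul_mem _ (Subgroup.mul_mem _ hwG hLG) (Subgroup.inv_mem _ hwG)
  have hconj' : ∀ t, (n * h * n⁻¹) * X t * (n * h * n⁻¹)⁻¹ = X (h8ttChi D L' s * t) := fun t =>
    h8tt_h_conj D σ τ π ϖ η hAut f hB (n * h * n⁻¹) (hfixG _ hnhG) s _
      (fun t => by rw [hnh]; exact h8ttH_conj D hB L' hL' s hs t) _ t
  have hcomm2 : Commute h (n * h * n⁻¹) := by
    rw [hnh]
    exact h8ttH_commute D hB L L' hL hL'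
  obtain ⟨hXall, hnM⟩ := h8tt_trick M X hadd h n hhM hg2 (h8ttChi D L s) (h8ttChi D L' s)
    hconj hconj' hcomm2 hχ hχ' (h8ttChi_ne_zero D L' (fun p hp => (hL' p hp).2) s) hgen
  -- step 3: filling the fixed root
  have hh'M : h8ttH D hB L' ∈ M := by
    rw [← hnh]
    exact Subgroup.mul_mem _ (Subgroup.mul_mem _ hnM hhM) (Subgroup.inv_mem _ hnM)
  have hRall : ∀ t ∈ {t : K | f t = t}, h8xU D hB R t ∈ M := by
    apply h8tt_fill M (fun t => h8xU D hB R t) {t : K | f t = t} (h8ttH D hB L') hh'M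
      (h8ttChi D L' R) (fun t => h8ttH_conj D hB L' hL' R hR t) 1 hxR (h8xU_zero D hB R)
    intro t ht ht0
    obtain ⟨j, hj⟩ := hgenR t ht ht0
    exact ⟨j, by rw [mul_one]; exact hj⟩
  have hmR : h8ttM σ R = 1 := by
    unfold h8ttM
    rw [if_pos hσR]
  have hInR : H8InT D σ τ π ϖ η hAut f hB M R := by
    intro t ht
    rw [hmR] at ht ⊢
    rw [h8ttN_one]
    apply hRall
    rw [Function.iterate_one, h8Sig_xU D σ τ π ϖ η hAut f hB R hR, hσR, hηR, Int.cast_one,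
      one_mul] at ht
    exact h8tt_x_inj D hB hA hW R hR _ _ ht
  have hInS : H8InT D σ τ π ϖ η hAut f hB M s := fun t _ => hXall t
  -- the checker
  have key := h8tt_sound D σ τ π ϖ η hAut f hB hA hC M hfixM orbs (hrefl M hMG) [s, R] [w] steps
    (by
      intro r hr
      simp only [List.mem_cons, List.not_mem_nil, or_false] at hr
      rcases hr with rfl | rfl
      · exact ⟨hs, hInS⟩
      · exact ⟨hR, hInR⟩)
    (by
      intro w' hw'
      rw [List.mem_singleton] at hw'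
      subst hw'
      exact ⟨hw, hnM⟩) hchk
  exact hwords M hMG key

end

end Cfsg.Agent.Lib.helper8
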