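import Mathlib
import Cfsg.Prelude.Def_ChevStructure
import Cfsg.Prelude.Def_ChevWords
import Cfsg.Agent.Lib.helper8.ChevTT6

/-! Auxiliary lemmas on twisted root elements. -/

set_option autoImplicit false

namespace Cfsg.Agent.Lib.helper8

open Cfsg.Lie Cfsg.Lie.ChevalleyDatum

universe u

variable {K : Type u} [Field K]

section
variable (D : ChevalleyDatum) (σ τ π ϖ : ℕ → ℕ) (η : ℕ → ℤ) (hAut : H8Aut D σ τ π ϖ η)
  (f : K ≃+* K) (hB : H8Base.{u} D)

/-- a twisted root element is fixed by the twisting endomorphism -/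
theorem h8tt_N_fix (hC : H8CommAll.{u} D) (r : ℕ) (hr : r < D.nroots)
    (hrot : h8ttRotOK D σ r = true) (t : K)
    (hfix : (h8Sig D σ τ π ϖ η hAut f)^[h8ttM σ r] (h8xU D hB r t) = h8xU D hB r t) :
    h8Sig D σ τ π ϖ η hAut f (h8ttN (h8Sig D σ τ π ϖ η hAut f) (h8ttM σ r) (h8xU D hB r t)) =
      h8ttN (h8Sig D σ τ π ϖ η hAut f) (h8ttM σ r) (h8xU D hB r t) := by
  have hsp := h8ttRotOK_spec D σ τ π ϖ η hAut f hB hC r hr hrot
  rw [← h8ttN_map]
  exact h8ttN_rot _ _ _ hfix (h8ttN_commute _ _ _ _ fun i hi => hsp i hi t t)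

/-- a twisted root element of a positive orbit lies in `U` -/
theorem h8tt_N_mem_U (r : ℕ) (hr : r < D.nroots) (hp : D.IsPosRoot r) (hp' : D.IsPosRoot (σ r))
    (hp'' : D.IsPosRoot (σ (σ r))) (t : K) :
    h8ttN (h8Sig D σ τ π ϖ η hAut f) (h8ttM σ r) (h8xU D hB r t) ∈ D.posUnipotent K := by
  have hr' : σ r < D.nroots := hAut.lt r hr
  unfold h8ttM
  split_ifs
  · rw [h8ttN_one]
    exact h8xU_mem_U D hB r hp t
  · rw [h8ttN_two, h8Sig_xU D σ τ π ϖ η hAut f hB r hr]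
    exact Subgroup.mul_mem _ (h8xU_mem_U D hB r hp t) (h8xU_mem_U D hB _ hp' _)
  · rw [h8ttN_three, h8Sig_xU D σ τ π ϖ η hAut f hB r hr,
      h8Sig_xU D σ τ π ϖ η hAut f hB _ hr']
    exact Subgroup.mul_mem _ (Subgroup.mul_mem _ (h8xU_mem_U D hB r hp t)
      (h8xU_mem_U D hB _ hp' _)) (h8xU_mem_U D hB _ hp'' _)

/-- orbits of size one -/
theorem h8tt_in1 (M : Subgroup (GL D.Idx K)) (r : ℕ) (hr : r < D.nroots) (hσ : σ r = r)
    (hη : η r = 1) (h : H8InT D σ τ π ϖ η hAut f hB M r) (t : K) (ht : f t = t) :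
    h8xU D hB r t ∈ M := by
  have hm : h8ttM σ r = 1 := by
    unfold h8ttM
    rw [if_pos hσ]
  have := h t (by
    rw [hm, Function.iterate_one]
    exact h8Sig_fix1 D σ τ π ϖ η hAut f hB r hr hσ hη t ht)
  rw [hm, h8ttN_one] at this
  exact this

/-- orbits of size two -/
theorem h8tt_in2 (M : Subgroup (GL D.Idx K)) (r r' : ℕ) (hr : r < D.nroots)
    (hr' : r' < D.nroots) (hne : r' ≠ r) (hσ : σ r = r') (hσ' : σ r' = r) (hη : η r = 1)
    (hη' : η r' = 1) (h : H8InT D σ τ π ϖ η hAut f hB M r) (t : K) (ht : f (f t) = t) :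
    h8xU D hB r t * h8xU D hB r' (f t) ∈ M := by
  have hm : h8ttM σ r = 2 := by
    unfold h8ttM
    rw [if_neg (by rw [hσ]; exact hne), if_pos (by rw [hσ, hσ'])]
  have := h t (by
    rw [hm, Function.iterate_succ_apply', Function.iterate_one,
      h8Sig_xU D σ τ π ϖ η hAut f hB r hr, hσ, hη, Int.cast_one, one_mul,
      h8Sig_xU D σ τ π ϖ η hAut f hB r' hr', hσ', hη', Int.cast_one, one_mul, ht])
  rw [hm, h8ttN_two, h8Sig_xU D σ τ π ϖ η hAut f hB r hr, hσ, hη, Int.cast_one, one_mul] at this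
  exact this

/-- orbits of size three -/
theorem h8tt_in3 (M : Subgroup (GL D.Idx K)) (r r' r'' : ℕ) (hr : r < D.nroots)
    (hr' : r' < D.nroots) (hr'' : r'' < D.nroots) (hne : r' ≠ r) (hne' : r'' ≠ r)
    (hσ : σ r = r') (hσ' : σ r' = r'') (hσ'' : σ r'' = r) (hη : η r = 1)
    (hη' : η r' = 1) (hη'' : η r'' = 1) (h : H8InT D σ τ π ϖ η hAut f hB M r) (t : K)
    (ht : f (f (f t)) = t) :
    h8xU D hB r t * h8xU D hB r' (f t) * h8xU D hB r'' (f (f t)) ∈ M := by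
  have hm : h8ttM σ r = 3 := by
    unfold h8ttM
    rw [if_neg (by rw [hσ]; exact hne), if_neg (by rw [hσ, hσ']; exact hne')]
  have := h t (by
    rw [hm, Function.iterate_succ_apply', Function.iterate_succ_apply', Function.iterate_one,
      h8Sig_xU D σ τ π ϖ η hAut f hB r hr, hσ, hη, Int.cast_one, one_mul,
      h8Sig_xU D σ τ π ϖ η hAut f hB r' hr', hσ', hη', Int.cast_one, one_mul,
      h8Sig_xU D σ τ π ϖ η hAut f hB r'' hr'', hσ'', hη'', Int.cast_one, one_mul, ht])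
  rw [hm, h8ttN_three, h8Sig_xU D σ τ π ϖ η hAut f hB r hr, hσ, hη, Int.cast_one, one_mul,
    h8Sig_xU D σ τ π ϖ η hAut f hB r' hr', hσ', hη', Int.cast_one, one_mul] at this
  exact this

end

end Cfsg.Agent.Lib.helper8
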