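import Mathlib
import Cfsg.Prelude.Def_ChevStructure
import Cfsg.Prelude.Def_ChevWords
import Cfsg.Prelude.Def_LieTwisted
import Cfsg.Agent.Lib.helper8.ChevTT7
import Cfsg.Agent.Lib.helper8.ChevTwD4H

/-! `³D₄(q)` is generated by two elements. -/

set_option autoImplicit false

namespace Cfsg.Agent.Lib.helper8

open Cfsg.Lie Cfsg.Lie.ChevalleyDatum

universe u

variable {K : Type u} [Field K]

/-- a generator different from `1` witnesses that a generating element is not `1` -/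
theorem h8tt_ne_one_of_gen (x : K) (hgen : ∀ u : K, u ≠ 0 → ∃ j : ℕ, u = x ^ j) (k : K)
    (hk : k ≠ 0) (hk1 : k ≠ 1) : x ≠ 1 := by
  intro h
  obtain ⟨j, hj⟩ := hgen k hk
  rw [h, one_pow] at hj
  exact hk1 hj

def h8ttStepsD4 : List H8ttStep :=
  [.word 0 19, .word 0 23, .word 0 17, .word 0 22, .word 0 18, .word 0 9, .word 0 4, .word 0 0,
   .word 0 6, .word 0 1]

theorem h8tt_chk_D4 :
    h8ttChk chevD4 h8sD4 [[1], [0, 2, 3]] [19, 23] [[1, 0, 2, 3]] h8ttStepsD4 = true := by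
  decide +kernel

theorem h8ttD4_data : h8sD4 19 = 16 ∧ h8sD4 16 = 15 ∧ h8sD4 15 = 19 ∧ h8eD4 19 = -1 ∧
    h8eD4 16 = 1 ∧ h8eD4 15 = -1 ∧ h8sD4 23 = 23 ∧ h8eD4 23 = 1 ∧ chevD4.IsPosRoot 19 ∧
    chevD4.IsPosRoot 16 ∧ chevD4.IsPosRoot 15 ∧ chevD4.IsPosRoot 23 ∧
    h8ttRotOK chevD4 h8sD4 19 = true ∧ h8ttM h8sD4 19 = 3 := by decide +kernel

theorem h8ttD4_kdata : h8K chevD4 18 19 = 1 ∧ h8K chevD4 13 19 = -1 ∧ h8K chevD4 12 19 = -1 ∧
    h8K chevD4 (h8sW chevD4 [1, 0, 2, 3] 18) 19 = -2 ∧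
    h8K chevD4 (h8sW chevD4 [1, 0, 2, 3] 13) 19 = 0 ∧
    h8K chevD4 (h8sW chevD4 [1, 0, 2, 3] 12) 19 = 0 ∧
    h8K chevD4 18 23 = 0 ∧ h8K chevD4 13 23 = 0 ∧ h8K chevD4 12 23 = 0 ∧
    h8K chevD4 (h8sW chevD4 [1, 0, 2, 3] 18) 23 = -1 ∧
    h8K chevD4 (h8sW chevD4 [1, 0, 2, 3] 13) 23 = -1 ∧
    h8K chevD4 (h8sW chevD4 [1, 0, 2, 3] 12) 23 = -1 := by decide +kernel


section
variable (hB : H8Base.{u} chevD4) (hA : H8ReflAll chevD4) (f : K ≃+* K)

/-- explicit forms of the membership of the simple twisted root elements: the fixed orbit -/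
theorem h8ttD4_inA (M : Subgroup (GL chevD4.Idx K))
    (h : H8InT chevD4 h8sD4 h8tD4 h8pD4 h8qD4 h8eD4 (h8autD4 hA) f hB M
        (chevD4.simple (([1] : List ℕ).headD 0)) ∧
      H8InT chevD4 h8sD4 h8tD4 h8pD4 h8qD4 h8eD4 (h8autD4 hA) f hB M
        (chevD4.negIdx.getD (chevD4.simple (([1] : List ℕ).headD 0)) 0)) :
    ∀ r ∈ [14, 9], ∀ t : K, f t = t → h8xU chevD4 hB r t ∈ M := by
  obtain ⟨s0, s1, s2, s3, n0, n1, n2, n3⟩ := h8twD4_simdata
  obtain ⟨_, _, _, _, n18, _, _, n14, _⟩ := h8hD4_data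
  obtain ⟨h14, h9⟩ := h
  rw [show chevD4.simple (([1] : List ℕ).headD 0) = 14 from s1] at h14 h9
  rw [n14] at h9
  intro r hr t ht
  obtain ⟨l, hs, he⟩ := h8twD4_fixdata.1 r hr
  simp only [List.mem_cons, List.not_mem_nil, or_false] at hr
  rcases hr with rfl | rfl
  · exact h8tt_in1 chevD4 _ _ _ _ _ (h8autD4 hA) f hB M 14 l hs he h14 t ht
  · exact h8tt_in1 chevD4 _ _ _ _ _ (h8autD4 hA) f hB M 9 l hs he h9 t ht

/-- explicit forms of the membership of the simple twisted root elements: the orbit of size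
three -/
theorem h8ttD4_inB (hfff : ∀ t, f (f (f t)) = t) (M : Subgroup (GL chevD4.Idx K))
    (h : H8InT chevD4 h8sD4 h8tD4 h8pD4 h8qD4 h8eD4 (h8autD4 hA) f hB M
        (chevD4.simple (([0, 2, 3] : List ℕ).headD 0)) ∧
      H8InT chevD4 h8sD4 h8tD4 h8pD4 h8qD4 h8eD4 (h8autD4 hA) f hB M
        (chevD4.negIdx.getD (chevD4.simple (([0, 2, 3] : List ℕ).headD 0)) 0)) :
    ∀ p ∈ [(18, 13, 12), (5, 10, 11)], ∀ t : K,
      h8xU chevD4 hB p.1 t * h8xU chevD4 hB p.2.1 (f t) * h8xU chevD4 hB p.2.2 (f (f t)) ∈ M := by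
  obtain ⟨s0, s1, s2, s3, n0, n1, n2, n3⟩ := h8twD4_simdata
  obtain ⟨_, _, _, _, n18, _, _, n14, _⟩ := h8hD4_data
  obtain ⟨h18, h5⟩ := h
  rw [show chevD4.simple (([0, 2, 3] : List ℕ).headD 0) = 18 from s0] at h18 h5
  rw [n18] at h5
  intro p hp t
  obtain ⟨l1, l2, l3, hs1, hs2, hs3, he1, he2, he3⟩ := h8twD4_fixdata.2 p hp
  simp only [List.mem_cons, List.not_mem_nil, or_false] at hp
  rcases hp with rfl | rfl
  · exact h8tt_in3 chevD4 _ _ _ _ _ (h8autD4 hA) f hB M 18 13 12 l1 l2 l3 (by decide) (by decide)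
      hs1 hs2 hs3 he1 he2 he3 h18 t (hfff t)
  · exact h8tt_in3 chevD4 _ _ _ _ _ (h8autD4 hA) f hB M 5 10 11 l1 l2 l3 (by decide) (by decide)
      hs1 hs2 hs3 he1 he2 he3 h5 t (hfff t)

/-- the representative of the fixed simple orbit -/
theorem h8ttD4_nJA (M : Subgroup (GL chevD4.Idx K))
    (h1 : ∀ r ∈ [14, 9], ∀ t : K, f t = t → h8xU chevD4 hB r t ∈ M) :
    (h8nWU chevD4 hB [1] : GL chevD4.Idx K) ∈ M := by
  obtain ⟨s0, s1, s2, s3, n0, n1, n2, n3⟩ := h8twD4_simdata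
  have f1 : f 1 = 1 := map_one f
  have fm1 : f (-1) = -1 := by rw [map_neg, map_one]
  rw [h8nWU_single, h8nU_one_eq, s1, n1]
  exact Subgroup.mul_mem _ (Subgroup.mul_mem _ (h1 14 (by simp) 1 f1)
    (h1 9 (by simp) (-1) fm1)) (h1 14 (by simp) 1 f1)

/-- the representative of the simple orbit of size three -/
theorem h8ttD4_nJB (hC : H8CommAll.{u} chevD4) (M : Subgroup (GL chevD4.Idx K))
    (h3 : ∀ p ∈ [(18, 13, 12), (5, 10, 11)], ∀ t : K,
      h8xU chevD4 hB p.1 t * h8xU chevD4 hB p.2.1 (f t) * h8xU chevD4 hB p.2.2 (f (f t)) ∈ M) :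
    (h8nWU chevD4 hB [0, 2, 3] : GL chevD4.Idx K) ∈ M := by
  obtain ⟨s0, s1, s2, s3, n0, n1, n2, n3⟩ := h8twD4_simdata
  have f1 : f 1 = 1 := map_one f
  have fm1 : f (-1) = -1 := by rw [map_neg, map_one]
  rw [h8nWU_triple, h8nU_one_eq, h8nU_one_eq, h8nU_one_eq, s0, s2, s3, n0, n2, n3,
    h8rearr3 _ _ _ _ _ _ _ _ _ (h8twD4_commute hB hC 13 18 (by simp) _ _)
      (h8twD4_commute hB hC 13 5 (by simp) _ _) (h8twD4_commute hB hC 10 18 (by simp) _ _)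
      ((h8twD4_commute hB hC 12 18 (by simp) _ _).mul_right
        (h8twD4_commute hB hC 12 13 (by simp) _ _))
      ((h8twD4_commute hB hC 12 5 (by simp) _ _).mul_right
        (h8twD4_commute hB hC 12 10 (by simp) _ _))
      ((h8twD4_commute hB hC 11 18 (by simp) _ _).mul_right
        (h8twD4_commute hB hC 11 13 (by simp) _ _))]
  have a1 := h3 (18, 13, 12) (by simp) 1
  have a2 := h3 (5, 10, 11) (by simp) (-1)
  dsimp only at a1 a2
  rw [f1, f1] at a1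
  rw [fm1, fm1] at a2
  exact Subgroup.mul_mem _ (Subgroup.mul_mem _ a1 a2) a1

end


theorem h8ttD4_chi1 (k : K) (hk : k ≠ 0) (q : ℕ) (hq : 1 ≤ q) :
    k ^ (1 : ℤ) * ((k ^ q) ^ (-1 : ℤ) * (((k ^ q) ^ q) ^ (-1 : ℤ) * 1)) =
      (k ^ (q ^ 2 + q - 1))⁻¹ := by
  have h1 : k ^ (q ^ 2 + q - 1) * k = (k ^ q) ^ q * k ^ q := by
    rw [← pow_succ, ← pow_mul, ← pow_add]
    congr 1
    have : 1 ≤ q ^ 2 + q := by nlinarith
    have h2 : q ^ 2 = q * q := sq q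
    omega
  have hkq : k ^ q ≠ 0 := pow_ne_zero _ hk
  have hkqq : (k ^ q) ^ q ≠ 0 := pow_ne_zero _ hkq
  rw [zpow_one, zpow_neg_one, zpow_neg_one, mul_one]
  apply eq_inv_of_mul_eq_one_left
  have : k ^ (q ^ 2 + q - 1) = (k ^ q) ^ q * k ^ q * k⁻¹ := by
    rw [← h1, mul_assoc, mul_inv_cancel₀ hk, mul_one]
  rw [this]
  field_simp

theorem h8ttD4_chi2 (k : K) (q : ℕ) :
    k ^ (-1 : ℤ) * ((k ^ q) ^ (-1 : ℤ) * (((k ^ q) ^ q) ^ (-1 : ℤ) * 1)) =
      (k ^ (q ^ 2 + q + 1))⁻¹ := by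
  have h1 : k ^ (q ^ 2 + q + 1) = (k ^ q) ^ q * k ^ q * k := by
    rw [← pow_mul, ← pow_add, ← pow_succ, sq]
  rw [h1, zpow_neg_one, zpow_neg_one, zpow_neg_one, mul_one, mul_inv, mul_inv]
  ring

theorem h8ttD4_chi3 (k : K) (a b : K) :
    k ^ (-2 : ℤ) * (a ^ (0 : ℤ) * (b ^ (0 : ℤ) * 1)) = (k ^ 2)⁻¹ := by
  rw [zpow_zero, zpow_zero, mul_one, mul_one, mul_one, zpow_neg]
  norm_cast

theorem h8ttD4_chi4 (k : K) (a b : K) :
    k ^ (0 : ℤ) * (a ^ (0 : ℤ) * (b ^ (0 : ℤ) * 1)) = 1 := by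
  simp

/-- `³D₄(q)` is generated by two elements -/
theorem h8tt_D4 [Fintype K] {q : ℕ} (hq : IsPrimePow q) (hKc : Fintype.card K = q ^ 3) :
    ∃ a b : ↥(twistedD4 K q), Subgroup.closure ({a, b} : Set ↥(twistedD4 K q)) = ⊤ := by
  classical
  have hD : chevD4 ∈ [chevG2, chevB2, chevD4, chevF4, chevE6, chevE7, chevE8] := by simp
  have hB := h8base_all.{u} chevD4 hD
  have hA := h8reflAll chevD4 hD
  have hC := h8commAll.{u} chevD4 hD
  have hW := h8bn2_all chevD4 hD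
  have hBN := h8bn_all chevD4 hD
  obtain ⟨hO, hO2⟩ := h8ord_all chevD4 hD
  obtain ⟨f, hf, hfff3, hneg⟩ := h8frob_exists hq 3 (by norm_num) hKc
  have hfff : ∀ t, f (f (f t)) = t := fun t => hfff3 t
  have hq1 : 1 < q := hq.one_lt
  have hfixG := h8twD4_fix hB hC hA q f hf hfff
  have hUfix := h8twD4_U_fix hB hC hA hBN hO2 q f hf hfff hneg
  have hf2 : ∀ t : K, t ^ (q ^ 2) = f (f t) := fun t => by rw [hf, hf, ← pow_mul, sq]
  obtain ⟨k, hk0, hkord⟩ := h8tt_gen (K := K)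
  have hfk0 : f k ≠ 0 := (map_ne_zero f).mpr hk0
  have hffk0 : f (f k) ≠ 0 := (map_ne_zero f).mpr hfk0
  have hq3 : 8 ≤ q ^ 3 := by
    have : 2 ^ 3 ≤ q ^ 3 := Nat.pow_le_pow_left hq1 3
    omega
  have hk1 : k ≠ 1 := by
    intro h
    rw [h, orderOf_one, hKc] at hkord
    omega
  obtain ⟨s19, s16, s15, e19, e16, e15, s23, e23, p19, p16, p15, p23, hrot, hm19⟩ := h8ttD4_data
  obtain ⟨k1, k2, k3, k4, k5, k6, k7, k8, k9, k10, k11, k12⟩ := h8ttD4_kdata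
  have l19 : 19 < chevD4.nroots := by decide
  have l16 : 16 < chevD4.nroots := by decide
  have l15 : 15 < chevD4.nroots := by decide
  have l23 : 23 < chevD4.nroots := by decide
  -- generators
  have hx1 : ∀ r ∈ [14, 9], ∀ t : K, f t = t → h8xU chevD4 hB r t ∈ twistedD4 K q :=
    fun r hr t ht => h8twD4_x1 hB q r hr t (by rw [← hf, ht])
  have hx3 : ∀ p ∈ [(18, 13, 12), (5, 10, 11)], ∀ t : K,
      h8xU chevD4 hB p.1 t * h8xU chevD4 hB p.2.1 (f t) * h8xU chevD4 hB p.2.2 (f (f t)) ∈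
        twistedD4 K q := by
    intro p hp t
    rw [← hf2, hf]
    exact h8twD4_x3 hB q p.1 p.2.1 p.2.2 hp t
  -- the torus element
  have hhJ : ∀ c : K, c ≠ 0 → h8hU chevD4 hB 18 c * h8hU chevD4 hB 13 (f c) *
      h8hU chevD4 hB 12 (f (f c)) ∈ twistedD4 K q := by
    obtain ⟨h1, h2, h3, h4, h5, h6, h7⟩ := h8pD4_tor (18, 13, 12) (by simp)
    dsimp only at h1 h2 h3 h4 h5 h6 h7
    have hcm : ∀ x ∈ [(18, 13), (18, 12), (13, 12)],
        ∀ a ∈ [x.1, chevD4.negIdx.getD x.1 0], ∀ b ∈ [x.2, chevD4.negIdx.getD x.2 0],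
        ∀ t u : K, Commute (h8xU chevD4 hB a t) (h8xU chevD4 hB b u) := by
      intro x hx a ha b hb t u
      obtain ⟨k1, k2, k3, k4, k5⟩ := h4 x hx a ha b hb
      exact h8xU_commute chevD4 hB hC a b k2 k3 k4 k5 k1 t u
    have c12 := hcm (18, 13) (by simp)
    have c13 := hcm (18, 12) (by simp)
    have c23 := hcm (13, 12) (by simp)
    dsimp only at c12 c13 c23
    have hP := hx3 (18, 13, 12) (by simp)
    have hM := hx3 _ h7
    dsimp only at hP hM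
    exact h8tw_hJ3_mem chevD4 hB (twistedD4 K q) f 18 13 12 c12 c13 c23 hP hM
  -- the characters
  have eχ : h8ttChi chevD4 [(18, k), (13, f k), (12, f (f k))] 19 =
      (k ^ (q ^ 2 + q - 1))⁻¹ := by
    simp only [h8ttChi, List.map_cons, List.map_nil, List.prod_cons, List.prod_nil]
    rw [k1, k2, k3]
    simp only [hf]
    exact h8ttD4_chi1 k hk0 q (by omega)
  have eχ' : h8ttChi chevD4 (List.map (fun p => (h8sW chevD4 [1, 0, 2, 3] p.1, p.2))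
      [(18, k), (13, f k), (12, f (f k))]) 19 = (k ^ 2)⁻¹ := by
    simp only [h8ttChi, List.map_cons, List.map_nil, List.prod_cons, List.prod_nil]
    rw [k4, k5, k6]
    exact h8ttD4_chi3 k _ _
  have eL : h8ttChi chevD4 (List.map (fun p => (h8sW chevD4 [1, 0, 2, 3] p.1, p.2))
      [(18, k), (13, f k), (12, f (f k))]) 23 = (k ^ (q ^ 2 + q + 1))⁻¹ := by
    simp only [h8ttChi, List.map_cons, List.map_nil, List.prod_cons, List.prod_nil]
    rw [k10, k11, k12]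
    simp only [hf]
    exact h8ttD4_chi2 k q
  have hgen0 := h8tt_gen_inv _ (h8tt_gen_pow k hk0 hkord (q ^ 2 + q - 1)
    (by rw [hKc]; exact h8tt_coprime3 q hq1))
  apply h8tt_main chevD4 h8sD4 h8tD4 h8pD4 h8qD4 h8eD4 (h8autD4 hA) f hB hA hC hW (twistedD4 K q)
    hfixG [[1], [0, 2, 3]] ?_ ?_ [(18, k), (13, f k), (12, f (f k))] ?_ ?_ [1, 0, 2, 3]
    (by decide) ?_ 19 l19 hrot ?_ 23 l23 s23 e23 ?_ ?_ ?_ ?_ ?_ ?_ h8ttStepsD4 h8tt_chk_D4
  · -- hrefl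
    intro M _ J hJ
    refine ⟨?_, ?_⟩
    · revert J
      decide
    · simp only [List.mem_cons, List.not_mem_nil, or_false] at hJ
      rcases hJ with rfl | rfl
      · intro h1 h2
        exact h8ttD4_nJA hB f M (h8ttD4_inA hB hA f M ⟨h1, h2⟩)
      · intro h1 h2
        exact h8ttD4_nJB hB f hC M (h8ttD4_inB hB hA f hfff M ⟨h1, h2⟩)
  · -- hwords
    intro M _ hall
    have h1 := h8ttD4_inA hB hA f M (hall [1] (by simp))
    have h3 := h8ttD4_inB hB hA f hfff M (hall [0, 2, 3] (by simp))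
    unfold twistedD4
    apply h8tt_gen_le chevD4 hB (d4Words K q) M
    intro w hw
    rcases hw with ⟨t, ht, r, hr, rfl⟩ | ⟨t, rs, hrs, rfl⟩
    · rw [h8wordU_one]
      exact h1 r (by simpa only [d4p2, d4m2] using hr) t (by rw [hf, ht])
    · rw [h8wordU_three, ← hf, hf2]
      exact h3 (rs.1, rs.2.1, rs.2.2)
        (by simpa only [d4p1, d4p3, d4p4, d4m1, d4m3, d4m4] using hrs) t
  · -- hL
    intro p hp
    simp only [List.mem_cons, List.not_mem_nil, or_false] at hp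
    rcases hp with rfl | rfl | rfl
    · exact ⟨show 18 < chevD4.nroots by decide, hk0⟩
    · exact ⟨show 13 < chevD4.nroots by decide, hfk0⟩
    · exact ⟨show 12 < chevD4.nroots by decide, hffk0⟩
  · -- hLG
    have : h8ttH chevD4 hB [(18, k), (13, f k), (12, f (f k))] =
        h8hU chevD4 hB 18 k * h8hU chevD4 hB 13 (f k) * h8hU chevD4 hB 12 (f (f k)) := by
      simp [h8ttH, mul_assoc]
    rw [this]
    exact hhJ k hk0
  · -- hwG
    have e : ([1, 0, 2, 3] : List ℕ) = [1] ++ [0, 2, 3] := rfl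
    rw [e, h8nWU_append]
    exact Subgroup.mul_mem _ (h8twD4_nJ hB hC q hneg [⟨1, by decide⟩] (by simp [h8orbsD4]))
      (h8twD4_nJ hB hC q hneg [⟨0, by decide⟩, ⟨2, by decide⟩, ⟨3, by decide⟩]
        (by simp [h8orbsD4]))
  · -- hsG
    have hfix : (h8Sig chevD4 h8sD4 h8tD4 h8pD4 h8qD4 h8eD4 (h8autD4 hA) f)^[h8ttM h8sD4 19]
        (h8xU chevD4 hB 19 (1 : K)) = h8xU chevD4 hB 19 1 := by
      rw [hm19, Function.iterate_succ_apply', Function.iterate_succ_apply', Function.iterate_one,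
        h8Sig_xU chevD4 _ _ _ _ _ (h8autD4 hA) f hB 19 l19, s19, e19,
        h8Sig_xU chevD4 _ _ _ _ _ (h8autD4 hA) f hB 16 l16, s16, e16,
        h8Sig_xU chevD4 _ _ _ _ _ (h8autD4 hA) f hB 15 l15, s15, e15]
      congr 1
      simp
    apply hUfix _ (h8tt_N_mem_U chevD4 _ _ _ _ _ (h8autD4 hA) f hB 19 l19 p19
      (by rw [s19]; exact p16) (by rw [s19, s16]; exact p15) 1)
    exact h8tt_N_fix chevD4 _ _ _ _ _ (h8autD4 hA) f hB hC 19 l19 hrot 1 hfix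
  · -- hRG
    exact hUfix _ (h8xU_mem_U chevD4 hB 23 p23 1)
      (h8Sig_fix1 chevD4 _ _ _ _ _ (h8autD4 hA) f hB 23 l23 s23 e23 1 (map_one f))
  · -- hχ
    rw [eχ]
    exact h8tt_ne_one_of_gen _ hgen0 k hk0 hk1
  · -- hχ'
    rw [eχ']
    intro h
    exact h8tt_pow_ne_one k _ hkord 2 (by norm_num) (by rw [hKc]; omega) (inv_eq_one.mp h)
  · -- hgen
    rw [eχ]
    exact hgen0
  · -- hχR
    simp only [h8ttChi, List.map_cons, List.map_nil, List.prod_cons, List.prod_nil]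
    rw [k7, k8, k9]
    exact h8ttD4_chi4 k _ _
  · -- hgenR
    intro u hu hu0
    rw [eL]
    have hord' : orderOf k = (q - 1) * (q ^ 2 + q + 1) := by
      rw [hkord, hKc]
      have h1 : 1 ≤ q := by omega
      have h3 : 1 ≤ q ^ 3 := by omega
      zify [h1, h3]
      ring
    obtain ⟨e, he⟩ := h8tt_gen_of_order k hk0 hkord u⁻¹ (inv_ne_zero hu0)
    have hfix : (u⁻¹) ^ q = u⁻¹ := by rw [← hf, map_inv₀, hu]
    obtain ⟨j, hj⟩ := h8tt_gen_fix k hk0 q (q ^ 2 + q + 1) hq1 hord' u⁻¹ e he hfix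
    exact ⟨j, by rw [inv_pow, ← hj, inv_inv]⟩

end Cfsg.Agent.Lib.helper8
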