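import Mathlib
import Cfsg.Prelude.Def_ChevStructure
import Cfsg.Prelude.Def_ChevWords
import Cfsg.Prelude.Def_LieTwisted
import Cfsg.Agent.Lib.helper8.ChevTTD4
import Cfsg.Agent.Lib.helper8.ChevTwE6H11

/-! `²E₆(q)` is generated by two elements. -/

set_option autoImplicit false

namespace Cfsg.Agent.Lib.helper8

open Cfsg.Lie Cfsg.Lie.ChevalleyDatum

universe u

variable {K : Type u} [Field K]

def h8ttStepsE6 : List H8ttStep :=
  [.word 0 37, .word 0 46, .rot 37, .rot 36, .word 0 36, .word 0 39, .word 0 22, .word 0 51,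
   .word 0 28, .word 0 65, .word 0 9, .word 0 44, .word 0 30, .word 0 63, .word 0 29, .word 0 25]

theorem h8tt_chk_E6 :
    h8ttChk chevE6 h8sE6 [[1], [3], [2, 4], [0, 5]] [37, 46] [[1, 3, 2, 4, 0, 5]] h8ttStepsE6 =
      true := by
  decide +kernel

theorem h8ttE6_data : h8sE6 37 = 42 ∧ h8eE6 37 = 1 ∧ h8sE6 46 = 46 ∧ h8eE6 46 = 1 ∧
    h8ttRotOK chevE6 h8sE6 37 = true ∧ h8ttM h8sE6 37 = 2 := by decide +kernel

theorem h8ttE6_kdata : h8K chevE6 56 37 = 0 ∧ h8K chevE6 36 37 = -1 ∧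
    h8K chevE6 (h8sW chevE6 [1, 3, 2, 4, 0, 5] 56) 37 = 1 ∧
    h8K chevE6 (h8sW chevE6 [1, 3, 2, 4, 0, 5] 36) 37 = 0 ∧
    h8K chevE6 56 46 = 0 ∧ h8K chevE6 36 46 = 0 ∧
    h8K chevE6 (h8sW chevE6 [1, 3, 2, 4, 0, 5] 56) 46 = -1 ∧
    h8K chevE6 (h8sW chevE6 [1, 3, 2, 4, 0, 5] 36) 46 = -1 := by decide +kernel


section
variable (hB : H8Base.{u} chevE6) (hA : H8ReflAll chevE6) (f : K ≃+* K)

/-- explicit forms of the membership of the simple twisted root elements: fixed orbits -/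
theorem h8ttE6_inA (M : Subgroup (GL chevE6.Idx K)) (j r r' : ℕ)
    (hjr : (j, r, r') ∈ [(1, 46, 25), (3, 39, 32)])
    (h : H8InT chevE6 h8sE6 h8tE6 h8pE6 h8qE6 h8eE6 (h8autE6 hA) f hB M
        (chevE6.simple (([j] : List ℕ).headD 0)) ∧
      H8InT chevE6 h8sE6 h8tE6 h8pE6 h8qE6 h8eE6 (h8autE6 hA) f hB M
        (chevE6.negIdx.getD (chevE6.simple (([j] : List ℕ).headD 0)) 0)) :
    ∀ x ∈ [r, r'], ∀ t : K, f t = t → h8xU chevE6 hB x t ∈ M := by
  obtain ⟨s0, s1, s2, s3, s4, s5, _⟩ := h8twE6_simdata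
  obtain ⟨n46, n39, n56, n36, n42, n37⟩ := h8negE6_vals
  obtain ⟨ha, hb⟩ := h
  simp only [List.mem_cons, List.not_mem_nil, or_false, Prod.mk.injEq] at hjr
  rcases hjr with ⟨rfl, rfl, rfl⟩ | ⟨rfl, rfl, rfl⟩
  · rw [show chevE6.simple (([1] : List ℕ).headD 0) = 46 from s1] at ha hb
    rw [n46] at hb
    intro x hx t ht
    simp only [List.mem_cons, List.not_mem_nil, or_false] at hx
    rcases hx with rfl | rfl
    · obtain ⟨l, hs, he⟩ := h8twE6_fixdata.1 46 (by simp)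
      exact h8tt_in1 chevE6 _ _ _ _ _ (h8autE6 hA) f hB M 46 l hs he ha t ht
    · obtain ⟨l, hs, he⟩ := h8twE6_fixdata.1 25 (by simp)
      exact h8tt_in1 chevE6 _ _ _ _ _ (h8autE6 hA) f hB M 25 l hs he hb t ht
  · rw [show chevE6.simple (([3] : List ℕ).headD 0) = 39 from s3] at ha hb
    rw [n39] at hb
    intro x hx t ht
    simp only [List.mem_cons, List.not_mem_nil, or_false] at hx
    rcases hx with rfl | rfl
    · obtain ⟨l, hs, he⟩ := h8twE6_fixdata.1 39 (by simp)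
      exact h8tt_in1 chevE6 _ _ _ _ _ (h8autE6 hA) f hB M 39 l hs he ha t ht
    · obtain ⟨l, hs, he⟩ := h8twE6_fixdata.1 32 (by simp)
      exact h8tt_in1 chevE6 _ _ _ _ _ (h8autE6 hA) f hB M 32 l hs he hb t ht

/-- explicit forms of the membership of the simple twisted root elements: orbits of size two -/
theorem h8ttE6_inB (hff : ∀ t, f (f t) = t) (M : Subgroup (GL chevE6.Idx K)) (J : List ℕ)
    (p p' : ℕ × ℕ)
    (hJ : (J, p, p') ∈ [([2, 4], (42, 37), (29, 34)), ([0, 5], (56, 36), (15, 35))])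
    (h : H8InT chevE6 h8sE6 h8tE6 h8pE6 h8qE6 h8eE6 (h8autE6 hA) f hB M
        (chevE6.simple (J.headD 0)) ∧
      H8InT chevE6 h8sE6 h8tE6 h8pE6 h8qE6 h8eE6 (h8autE6 hA) f hB M
        (chevE6.negIdx.getD (chevE6.simple (J.headD 0)) 0)) :
    ∀ x ∈ [p, p'], ∀ t : K, h8xU chevE6 hB x.1 t * h8xU chevE6 hB x.2 (f t) ∈ M := by
  obtain ⟨s0, s1, s2, s3, s4, s5, _⟩ := h8twE6_simdata
  obtain ⟨n46, n39, n56, n36, n42, n37⟩ := h8negE6_vals
  obtain ⟨ha, hb⟩ := h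
  simp only [List.mem_cons, List.not_mem_nil, or_false, Prod.mk.injEq] at hJ
  rcases hJ with ⟨rfl, rfl, rfl⟩ | ⟨rfl, rfl, rfl⟩
  · rw [show chevE6.simple (([2, 4] : List ℕ).headD 0) = 42 from s2] at ha hb
    rw [n42] at hb
    intro x hx t
    simp only [List.mem_cons, List.not_mem_nil, or_false] at hx
    rcases hx with rfl | rfl
    · obtain ⟨l1, l2, hs1, hs2, he1, he2⟩ := h8twE6_fixdata.2 (42, 37) (by simp)
      exact h8tt_in2 chevE6 _ _ _ _ _ (h8autE6 hA) f hB M 42 37 l1 l2 (by decide) hs1 hs2 he1 he2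
        ha t (hff t)
    · obtain ⟨l1, l2, hs1, hs2, he1, he2⟩ := h8twE6_fixdata.2 (29, 34) (by simp)
      exact h8tt_in2 chevE6 _ _ _ _ _ (h8autE6 hA) f hB M 29 34 l1 l2 (by decide) hs1 hs2 he1 he2
        hb t (hff t)
  · rw [show chevE6.simple (([0, 5] : List ℕ).headD 0) = 56 from s0] at ha hb
    rw [n56] at hb
    intro x hx t
    simp only [List.mem_cons, List.not_mem_nil, or_false] at hx
    rcases hx with rfl | rfl
    · obtain ⟨l1, l2, hs1, hs2, he1, he2⟩ := h8twE6_fixdata.2 (56, 36) (by simp)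
      exact h8tt_in2 chevE6 _ _ _ _ _ (h8autE6 hA) f hB M 56 36 l1 l2 (by decide) hs1 hs2 he1 he2
        ha t (hff t)
    · obtain ⟨l1, l2, hs1, hs2, he1, he2⟩ := h8twE6_fixdata.2 (15, 35) (by simp)
      exact h8tt_in2 chevE6 _ _ _ _ _ (h8autE6 hA) f hB M 15 35 l1 l2 (by decide) hs1 hs2 he1 he2
        hb t (hff t)

/-- the representatives of the fixed simple orbits -/
theorem h8ttE6_nJA (M : Subgroup (GL chevE6.Idx K)) (j r r' : ℕ)
    (hjr : (j, r, r') ∈ [(1, 46, 25), (3, 39, 32)])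
    (h1 : ∀ x ∈ [r, r'], ∀ t : K, f t = t → h8xU chevE6 hB x t ∈ M) :
    (h8nWU chevE6 hB [j] : GL chevE6.Idx K) ∈ M := by
  obtain ⟨s0, s1, s2, s3, s4, s5, n0, n1, n2, n3, n4, n5⟩ := h8twE6_simdata
  have f1 : f 1 = 1 := map_one f
  have fm1 : f (-1) = -1 := by rw [map_neg, map_one]
  simp only [List.mem_cons, List.not_mem_nil, or_false, Prod.mk.injEq] at hjr
  rcases hjr with ⟨rfl, rfl, rfl⟩ | ⟨rfl, rfl, rfl⟩
  · rw [h8nWU_single, h8nU_one_eq, s1, n1]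
    exact Subgroup.mul_mem _ (Subgroup.mul_mem _ (h1 46 (by simp) 1 f1)
      (h1 25 (by simp) (-1) fm1)) (h1 46 (by simp) 1 f1)
  · rw [h8nWU_single, h8nU_one_eq, s3, n3]
    exact Subgroup.mul_mem _ (Subgroup.mul_mem _ (h1 39 (by simp) 1 f1)
      (h1 32 (by simp) (-1) fm1)) (h1 39 (by simp) 1 f1)

/-- the representatives of the simple orbits of size two -/
theorem h8ttE6_nJB (hC : H8CommAll.{u} chevE6) (M : Subgroup (GL chevE6.Idx K)) (J : List ℕ)
    (p p' : ℕ × ℕ)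
    (hJ : (J, p, p') ∈ [([2, 4], (42, 37), (29, 34)), ([0, 5], (56, 36), (15, 35))])
    (h2 : ∀ x ∈ [p, p'], ∀ t : K, h8xU chevE6 hB x.1 t * h8xU chevE6 hB x.2 (f t) ∈ M) :
    (h8nWU chevE6 hB J : GL chevE6.Idx K) ∈ M := by
  obtain ⟨s0, s1, s2, s3, s4, s5, n0, n1, n2, n3, n4, n5⟩ := h8twE6_simdata
  have f1 : f 1 = 1 := map_one f
  have fm1 : f (-1) = -1 := by rw [map_neg, map_one]
  simp only [List.mem_cons, List.not_mem_nil, or_false, Prod.mk.injEq] at hJ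
  rcases hJ with ⟨rfl, rfl, rfl⟩ | ⟨rfl, rfl, rfl⟩
  · rw [h8nWU_pair, h8nU_one_eq, h8nU_one_eq, s2, s4, n2, n4,
      h8rearr2 _ _ _ _ _ _ (h8twE6_commute hB hC 37 42 (by simp) _ _)
        (h8twE6_commute hB hC 37 29 (by simp) _ _) (h8twE6_commute hB hC 34 42 (by simp) _ _)]
    have a1 := h2 (42, 37) (by simp) 1
    have a2 := h2 (29, 34) (by simp) (-1)
    dsimp only at a1 a2
    rw [f1] at a1
    rw [fm1] at a2
    exact Subgroup.mul_mem _ (Subgroup.mul_mem _ a1 a2) a1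
  · rw [h8nWU_pair, h8nU_one_eq, h8nU_one_eq, s0, s5, n0, n5,
      h8rearr2 _ _ _ _ _ _ (h8twE6_commute hB hC 36 56 (by simp) _ _)
        (h8twE6_commute hB hC 36 15 (by simp) _ _) (h8twE6_commute hB hC 35 56 (by simp) _ _)]
    have a1 := h2 (56, 36) (by simp) 1
    have a2 := h2 (15, 35) (by simp) (-1)
    dsimp only at a1 a2
    rw [f1] at a1
    rw [fm1] at a2
    exact Subgroup.mul_mem _ (Subgroup.mul_mem _ a1 a2) a1

end


theorem h8tt_coprime2 (q : ℕ) (hq : 1 ≤ q) : Nat.Coprime (q ^ 2 - 1) q := by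
  rw [Nat.coprime_iff_gcd_eq_one]
  set g := Nat.gcd (q ^ 2 - 1) q with hg
  have hg1 : g ∣ q ^ 2 - 1 := Nat.gcd_dvd_left _ _
  have hg2 : g ∣ q := Nat.gcd_dvd_right _ _
  have h1 : 1 ≤ q ^ 2 := Nat.one_le_pow _ _ hq
  have hg3 : g ∣ q ^ 2 := Dvd.dvd.mul_left hg2 q |> fun h => by rw [sq]; exact h
  have hg4 : g ∣ 1 := by
    have : q ^ 2 = (q ^ 2 - 1) + 1 := by omega
    rw [this] at hg3
    exact (Nat.dvd_add_right hg1).mp hg3
  exact Nat.dvd_one.mp hg4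

theorem h8ttE6_chi1 (k a : K) : k ^ (0 : ℤ) * (a ^ (-1 : ℤ) * 1) = a⁻¹ := by
  rw [zpow_zero, zpow_neg_one, mul_one, one_mul]

theorem h8ttE6_chi2 (k : K) (q : ℕ) :
    k ^ (-1 : ℤ) * ((k ^ q) ^ (-1 : ℤ) * 1) = (k ^ (q + 1))⁻¹ := by
  rw [zpow_neg_one, zpow_neg_one, mul_one, pow_succ, mul_inv, mul_comm]

theorem h8ttE6_chi3 (k a : K) : k ^ (1 : ℤ) * (a ^ (0 : ℤ) * 1) = k := by
  rw [zpow_zero, zpow_one, mul_one, mul_one]

theorem h8ttE6_chi4 (k a : K) : k ^ (0 : ℤ) * (a ^ (0 : ℤ) * 1) = 1 := by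
  simp

/-- `²E₆(q)` is generated by two elements -/
theorem h8tt_E6 [Fintype K] {q : ℕ} (hq : IsPrimePow q) (hKc : Fintype.card K = q ^ 2) :
    ∃ a b : ↥(twistedE6 K q), Subgroup.closure ({a, b} : Set ↥(twistedE6 K q)) = ⊤ := by
  classical
  have hD : chevE6 ∈ [chevG2, chevB2, chevD4, chevF4, chevE6, chevE7, chevE8] := by simp
  have hB := h8base_all.{u} chevE6 hD
  have hA := h8reflAll chevE6 hD
  have hC := h8commAll.{u} chevE6 hD
  have hW := h8bn2_all chevE6 hD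
  obtain ⟨f, hf, hff2, hneg⟩ := h8frob_exists hq 2 (by norm_num) hKc
  have hff : ∀ t, f (f t) = t := fun t => hff2 t
  have hq1 : 1 < q := hq.one_lt
  have hfixG := h8twE6_fix hB hC hA q f hf hff
  obtain ⟨k, hk0, hkord⟩ := h8tt_gen (K := K)
  have hfk0 : f k ≠ 0 := (map_ne_zero f).mpr hk0
  have hq2 : 4 ≤ q ^ 2 := by
    have : 2 ^ 2 ≤ q ^ 2 := Nat.pow_le_pow_left hq1 2
    omega
  have hk1 : k ≠ 1 := by
    intro h
    rw [h, orderOf_one, hKc] at hkord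
    omega
  obtain ⟨s37, e37, s46, e46, hrot, hm37⟩ := h8ttE6_data
  obtain ⟨k1, k2, k3, k4, k5, k6, k7, k8⟩ := h8ttE6_kdata
  obtain ⟨n46, n39, n56, n36, n42, n37⟩ := h8negE6_vals
  obtain ⟨so1, so2⟩ := h8SO_E6 (K := K) hB hC
  have l37 : 37 < chevE6.nroots := by decide
  have l46 : 46 < chevE6.nroots := by decide
  -- generators
  have hx1 : ∀ r ∈ [46, 25, 39, 32], ∀ t : K, f t = t → h8xU chevE6 hB r t ∈ twistedE6 K q :=
    fun r hr t ht => h8twE6_x1 hB q r hr t (by rw [← hf, ht])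
  have hx2 : ∀ p ∈ [(56, 36), (15, 35), (42, 37), (29, 34)], ∀ t : K,
      h8xU chevE6 hB p.1 t * h8xU chevE6 hB p.2 (f t) ∈ twistedE6 K q := by
    intro p hp t
    rw [hf]
    exact h8twE6_x2 hB q p.1 p.2 hp t
  -- the torus element
  have hhJ : ∀ c : K, c ≠ 0 → h8hU chevE6 hB 56 c * h8hU chevE6 hB 36 (f c) ∈ twistedE6 K q := by
    apply h8tw_hJ2_mem chevE6 hB (twistedE6 K q) f 56 36 so2 (hx2 (56, 36) (by simp))
    rw [n56, n36]
    exact hx2 (15, 35) (by simp)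
  -- the characters
  have eχ : h8ttChi chevE6 [(56, k), (36, f k)] 37 = (k ^ q)⁻¹ := by
    simp only [h8ttChi, List.map_cons, List.map_nil, List.prod_cons, List.prod_nil]
    rw [k1, k2, hf]
    exact h8ttE6_chi1 k _
  have eχ' : h8ttChi chevE6 (List.map (fun p => (h8sW chevE6 [1, 3, 2, 4, 0, 5] p.1, p.2))
      [(56, k), (36, f k)]) 37 = k := by
    simp only [h8ttChi, List.map_cons, List.map_nil, List.prod_cons, List.prod_nil]
    rw [k3, k4]
    exact h8ttE6_chi3 k _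
  have eL : h8ttChi chevE6 (List.map (fun p => (h8sW chevE6 [1, 3, 2, 4, 0, 5] p.1, p.2))
      [(56, k), (36, f k)]) 46 = (k ^ (q + 1))⁻¹ := by
    simp only [h8ttChi, List.map_cons, List.map_nil, List.prod_cons, List.prod_nil]
    rw [k7, k8, hf]
    exact h8ttE6_chi2 k q
  have hgen0 := h8tt_gen_inv _ (h8tt_gen_pow k hk0 hkord q
    (by rw [hKc]; exact h8tt_coprime2 q (by omega)))
  apply h8tt_main chevE6 h8sE6 h8tE6 h8pE6 h8qE6 h8eE6 (h8autE6 hA) f hB hA hC hW (twistedE6 K q)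
    hfixG [[1], [3], [2, 4], [0, 5]] ?_ ?_ [(56, k), (36, f k)] ?_ ?_ [1, 3, 2, 4, 0, 5]
    (by decide) ?_ 37 l37 hrot ?_ 46 l46 s46 e46 ?_ ?_ ?_ ?_ ?_ ?_ h8ttStepsE6 h8tt_chk_E6
  · -- hrefl
    intro M _ J hJ
    refine ⟨?_, ?_⟩
    · revert J
      decide
    · simp only [List.mem_cons, List.not_mem_nil, or_false] at hJ
      rcases hJ with rfl | rfl | rfl | rfl
      · intro h1 h2
        exact h8ttE6_nJA hB f M 1 46 25 (by simp)
          (h8ttE6_inA hB hA f M 1 46 25 (by simp) ⟨h1, h2⟩)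
      · intro h1 h2
        exact h8ttE6_nJA hB f M 3 39 32 (by simp)
          (h8ttE6_inA hB hA f M 3 39 32 (by simp) ⟨h1, h2⟩)
      · intro h1 h2
        exact h8ttE6_nJB hB f hC M [2, 4] (42, 37) (29, 34) (by simp)
          (h8ttE6_inB hB hA f hff M [2, 4] (42, 37) (29, 34) (by simp) ⟨h1, h2⟩)
      · intro h1 h2
        exact h8ttE6_nJB hB f hC M [0, 5] (56, 36) (15, 35) (by simp)
          (h8ttE6_inB hB hA f hff M [0, 5] (56, 36) (15, 35) (by simp) ⟨h1, h2⟩)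
  · -- hwords
    intro M _ hall
    have h1a := h8ttE6_inA hB hA f M 1 46 25 (by simp) (hall [1] (by simp))
    have h1b := h8ttE6_inA hB hA f M 3 39 32 (by simp) (hall [3] (by simp))
    have h2a := h8ttE6_inB hB hA f hff M [2, 4] (42, 37) (29, 34) (by simp)
      (hall [2, 4] (by simp))
    have h2b := h8ttE6_inB hB hA f hff M [0, 5] (56, 36) (15, 35) (by simp)
      (hall [0, 5] (by simp))
    unfold twistedE6
    apply h8tt_gen_le chevE6 hB (e6Words K q) M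
    intro w hw
    rcases hw with ⟨t, ht, r, hr, rfl⟩ | ⟨t, rs, hrs, rfl⟩
    · rw [h8wordU_one]
      have ht' : f t = t := by rw [hf, ht]
      simp only [e6p2, e6m2, e6p4, e6m4, List.mem_cons, List.not_mem_nil, or_false] at hr
      rcases hr with rfl | rfl | rfl | rfl
      · exact h1a 46 (by simp) t ht'
      · exact h1a 25 (by simp) t ht'
      · exact h1b 39 (by simp) t ht'
      · exact h1b 32 (by simp) t ht'
    · rw [h8wordU_two, ← hf]
      simp only [e6p1, e6p6, e6m1, e6m6, e6p3, e6p5, e6m3, e6m5, List.mem_cons, List.not_mem_nil,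
        or_false] at hrs
      rcases hrs with rfl | rfl | rfl | rfl
      · exact h2b (56, 36) (by simp) t
      · exact h2b (15, 35) (by simp) t
      · exact h2a (42, 37) (by simp) t
      · exact h2a (29, 34) (by simp) t
  · -- hL
    intro p hp
    simp only [List.mem_cons, List.not_mem_nil, or_false] at hp
    rcases hp with rfl | rfl
    · exact ⟨show 56 < chevE6.nroots by decide, hk0⟩
    · exact ⟨show 36 < chevE6.nroots by decide, hfk0⟩
  · -- hLG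
    have : h8ttH chevE6 hB [(56, k), (36, f k)] =
        h8hU chevE6 hB 56 k * h8hU chevE6 hB 36 (f k) := by
      simp [h8ttH]
    rw [this]
    exact hhJ k hk0
  · -- hwG
    have e : ([1, 3, 2, 4, 0, 5] : List ℕ) = [1] ++ ([3] ++ ([2, 4] ++ [0, 5])) := rfl
    rw [e, h8nWU_append, h8nWU_append, h8nWU_append]
    have hnJ := h8twE6_nJ (K := K) hB hC q hneg
    exact Subgroup.mul_mem _ (hnJ [⟨1, by decide⟩] (by simp [h8orbsE6]))
      (Subgroup.mul_mem _ (hnJ [⟨3, by decide⟩] (by simp [h8orbsE6]))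
        (Subgroup.mul_mem _ (hnJ [⟨2, by decide⟩, ⟨4, by decide⟩] (by simp [h8orbsE6]))
          (hnJ [⟨0, by decide⟩, ⟨5, by decide⟩] (by simp [h8orbsE6]))))
  · -- hsG
    rw [hm37, h8ttN_two, h8Sig_xU chevE6 _ _ _ _ _ (h8autE6 hA) f hB 37 l37, s37, e37,
      Int.cast_one, one_mul, map_one, (h8twE6_commute hB hC 37 42 (by simp) 1 1).eq]
    have := hx2 (42, 37) (by simp) 1
    rw [map_one] at this
    exact this
  · -- hRG
    exact hx1 46 (by simp) 1 (map_one f)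
  · -- hχ
    rw [eχ]
    exact h8tt_ne_one_of_gen _ hgen0 k hk0 hk1
  · -- hχ'
    rw [eχ']
    exact hk1
  · -- hgen
    rw [eχ]
    exact hgen0
  · -- hχR
    simp only [h8ttChi, List.map_cons, List.map_nil, List.prod_cons, List.prod_nil]
    rw [k5, k6]
    exact h8ttE6_chi4 k _
  · -- hgenR
    intro u hu hu0
    rw [eL]
    have hord' : orderOf k = (q - 1) * (q + 1) := by
      rw [hkord, hKc]
      have h1 : 1 ≤ q := by omega
      have h3 : 1 ≤ q ^ 2 := by omega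
      zify [h1, h3]
      ring
    obtain ⟨e, he⟩ := h8tt_gen_of_order k hk0 hkord u⁻¹ (inv_ne_zero hu0)
    have hfix : (u⁻¹) ^ q = u⁻¹ := by rw [← hf, map_inv₀, hu]
    obtain ⟨j, hj⟩ := h8tt_gen_fix k hk0 q (q + 1) hq1 hord' u⁻¹ e he hfix
    exact ⟨j, by rw [inv_pow, ← hj, inv_inv]⟩

end Cfsg.Agent.Lib.helper8
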