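import Mathlib
import Cfsg.Prelude.Def_ChevStructure
import Cfsg.Prelude.Def_ChevF4
import Cfsg.Prelude.Def_LieTwisted
import Cfsg.Agent.Lib.helper8.ChevTT7
import Cfsg.Agent.Lib.helper8.ChevTF28

/-! `²F₄(q)` is generated by two elements: auxiliary lemmas. -/

set_option autoImplicit false

namespace Cfsg.Agent.Lib.helper8

open Cfsg.Lie Cfsg.Lie.ChevalleyDatum

universe u

variable {K : Type u} [Field K] {hB : H8Base.{u} chevF4}

section
variable [CharP K 2] (R : H8TF K hB) (hC : H8CommAll.{u} chevF4)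

include hC in
/-- the fixed elements of the class of type `A₁ × A₁` form a one-parameter group -/
theorem h8tf2_pair_add (a b : K) :
    h8tfPair R 33 24 (a + b) = h8tfPair R 33 24 a * h8tfPair R 33 24 b := by
  unfold h8tfPair
  rw [map_add, ← h8xU_add chevF4 hB 33 (by decide), ← h8xU_add chevF4 hB 24 (by decide)]
  have hc := (h8tf_comm_33_24 hB hC (R.f b) a).eq
  calc h8xU chevF4 hB 33 (R.f a) * h8xU chevF4 hB 33 (R.f b) *
        (h8xU chevF4 hB 24 a * h8xU chevF4 hB 24 b)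
      = h8xU chevF4 hB 33 (R.f a) * (h8xU chevF4 hB 33 (R.f b) * h8xU chevF4 hB 24 a) *
        h8xU chevF4 hB 24 b := by group
    _ = h8xU chevF4 hB 33 (R.f a) * (h8xU chevF4 hB 24 a * h8xU chevF4 hB 33 (R.f b)) *
        h8xU chevF4 hB 24 b := by rw [hc]
    _ = _ := by group

/-- conjugation of the fixed elements of the class of type `A₁ × A₁` by a fixed element
normalising the long root subgroup -/
theorem h8tf2_pair_conj (g : GL chevF4.Idx K) (hg : g ∈ chevF4.group K)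
    (hfix : h8tfS R g = g) (c : K)
    (hc : ∀ t, g * h8xU chevF4 hB 24 t * g⁻¹ = h8xU chevF4 hB 24 (c * t)) (t : K) :
    g * h8tfPair R 33 24 t * g⁻¹ = h8tfPair R 33 24 (c * t) := by
  have e : ∀ s, h8xU chevF4 hB 33 (R.f s) = h8tfS R (h8xU chevF4 hB 24 s) := by
    intro s
    rw [h8tfS_xU R 24 (by decide) s, h8tfE_long R 24 rfl]
    rfl
  unfold h8tfPair
  rw [e t, e (c * t)]
  have h1 : g * (h8tfS R (h8xU chevF4 hB 24 t) * h8xU chevF4 hB 24 t) * g⁻¹ =
      (g * h8tfS R (h8xU chevF4 hB 24 t) * g⁻¹) * (g * h8xU chevF4 hB 24 t * g⁻¹) := by group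
  rw [h1, hc]
  congr 1
  have hx : h8xU chevF4 hB 24 t ∈ chevF4.group K := h8xU_mem_group chevF4 hB _ _
  rw [← hc, h8tfS_mul R _ _ (Subgroup.mul_mem _ hg hx) (Subgroup.inv_mem _ hg),
    h8tfS_mul R _ _ hg hx, h8tfS_inv R g hg, hfix]

include hC in
/-- the multiplication of the standard forms -/
theorem h8tf2_Std2_mul (b a c d b' a' c' d' : K) :
    h8tfStd2 hB b a c d * h8tfStd2 hB b' a' c' d' =
      h8tfStd2 hB (b + b') (a + a') (a * b' + c + c') (a ^ 2 * b' + d + d') := by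
  have e : ∀ X : GL chevF4.Idx K, h8tfStd2 hB b a c d * X =
      h8xU chevF4 hB 25 b * (h8xU chevF4 hB 27 a * (h8xU chevF4 hB 28 c *
        (h8xU chevF4 hB 30 d * X))) := by
    intro X
    unfold h8tfStd2
    simp only [mul_assoc]
  rw [e, h8tfStd2_mul30 hC, h8tfStd2_mul28 hC, h8tfStd2_mul27 hC, h8tfStd2_mul25 hC]
  congr 1 <;> ring

omit [CharP K 2] in
/-- conjugation of the standard forms by torus elements -/
theorem h8tf2_Std2_conj (L : List (ℕ × K)) (hL : ∀ p ∈ L, p.1 < chevF4.nroots ∧ p.2 ≠ 0)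
    (b a c d : K) :
    h8ttH chevF4 hB L * h8tfStd2 hB b a c d * (h8ttH chevF4 hB L)⁻¹ =
      h8tfStd2 hB (h8ttChi chevF4 L 25 * b) (h8ttChi chevF4 L 27 * a)
        (h8ttChi chevF4 L 28 * c) (h8ttChi chevF4 L 30 * d) := by
  unfold h8tfStd2
  rw [← h8ttH_conj chevF4 hB L hL 25 (by decide), ← h8ttH_conj chevF4 hB L hL 27 (by decide),
    ← h8ttH_conj chevF4 hB L hL 28 (by decide), ← h8ttH_conj chevF4 hB L hL 30 (by decide)]
  group

omit [CharP K 2] in
theorem h8tf2_Std2_mem_XL (b a c d : K) :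
    h8tfStd2 hB b a c d ∈ Subgroup.closure (h8XLSet chevF4 K [25, 27, 28, 30]) := by
  unfold h8tfStd2
  exact Subgroup.mul_mem _ (Subgroup.mul_mem _ (Subgroup.mul_mem _
    (h8xU_mem_XL chevF4 hB _ 25 (by simp) _) (h8xU_mem_XL chevF4 hB _ 27 (by simp) _))
    (h8xU_mem_XL chevF4 hB _ 28 (by simp) _)) (h8xU_mem_XL chevF4 hB _ 30 (by simp) _)


include hC in
/-- the fixed elements of the class of type `B₂` with trivial first coordinate -/
theorem h8tf2_Cls_zero (u : K) :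
    h8tfCls R 27 25 28 30 0 u = h8tfStd2 hB 0 0 u ((R.f u) ^ 2) := by
  rw [h8tfCls_eq_Std2 R hC, map_zero]
  congr 1
  ring

include hC in
/-- squares in the class of type `B₂` -/
theorem h8tf2_Cls_sq (t v : K) :
    h8tfCls R 27 25 28 30 t v * h8tfCls R 27 25 28 30 t v =
      h8tfCls R 27 25 28 30 0 (t * R.f t) := by
  rw [h8tf2_Cls_zero R hC, h8tfCls_eq_Std2 R hC, h8tf2_Std2_mul hC]
  have e1 : t + t = 0 := CharTwo.add_self_eq_zero t
  have e2 : R.f t + R.f t = 0 := CharTwo.add_self_eq_zero _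
  have e3 : R.f t * t + v + v = t * R.f t := by
    rw [add_assoc, CharTwo.add_self_eq_zero, add_zero, mul_comm]
  have e4 : R.f t ^ 2 * t + (R.f t ^ 2 * t + R.f v ^ 2) + (R.f t ^ 2 * t + R.f v ^ 2) =
      (R.f (t * R.f t)) ^ 2 := by
    rw [add_assoc, CharTwo.add_self_eq_zero, add_zero, map_mul, mul_pow, R.hf t, mul_comm]
  rw [e1, e2, e3, e4]

include hC in
/-- multiplication by central elements in the class of type `B₂` -/
theorem h8tf2_Cls_mul_zero (t v u : K) :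
    h8tfCls R 27 25 28 30 t v * h8tfCls R 27 25 28 30 0 u =
      h8tfCls R 27 25 28 30 t (v + u) := by
  rw [h8tf2_Cls_zero R hC, h8tfCls_eq_Std2 R hC, h8tfCls_eq_Std2 R hC, h8tf2_Std2_mul hC]
  have e4 : R.f t ^ 2 * 0 + (R.f t ^ 2 * t + R.f v ^ 2) + R.f u ^ 2 =
      R.f t ^ 2 * t + R.f (v + u) ^ 2 := by
    rw [map_add, CharTwo.add_sq]
    ring
  rw [e4]
  congr 1 <;> ring

include hC in
/-- filling the class of type `B₂` from one element, a torus element and the squares -/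
theorem h8tf2_fill (hO2 : H8Ord2 chevF4) (e : ℕ) (hfe : ∀ t : K, R.f t = t ^ e)
    (M : Subgroup (GL chevF4.Idx K)) (hM : M ≤ twistedF4 K e)
    (L' : List (ℕ × K)) (hL' : ∀ p ∈ L', p.1 < chevF4.nroots ∧ p.2 ≠ 0)
    (hh' : h8ttH chevF4 hB L' ∈ M)
    (hgen : ∀ u : K, u ≠ 0 → ∃ j : ℕ, u = (h8ttChi chevF4 L' 25) ^ j)
    (hsurj : ∀ u : K, ∃ t : K, t * R.f t = u)
    (hz : h8tfCls R 27 25 28 30 1 0 ∈ M) : ∀ t v, h8tfCls R 27 25 28 30 t v ∈ M := by
  -- (a) the orbit of the first coordinate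
  have ha : ∀ j : ℕ, ∃ a c d : K, h8tfStd2 hB ((h8ttChi chevF4 L' 25) ^ j) a c d ∈ M := by
    intro j
    induction j with
    | zero =>
      rw [h8tfCls_eq_Std2 R hC] at hz
      exact ⟨_, _, _, by rw [pow_zero]; exact hz⟩
    | succ j ih =>
      obtain ⟨a, c, d, h⟩ := ih
      have := Subgroup.mul_mem _ (Subgroup.mul_mem _ hh' h) (Subgroup.inv_mem _ hh')
      rw [h8tf2_Std2_conj L' hL'] at this
      exact ⟨_, _, _, by rw [pow_succ, mul_comm]; exact this⟩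
  -- (b) all first coordinates
  have hb : ∀ t : K, ∃ v : K, h8tfCls R 27 25 28 30 t v ∈ M := by
    intro t
    by_cases ht : t = 0
    · refine ⟨0, ?_⟩
      rw [ht, h8tf2_Cls_zero R hC, map_zero]
      have : (0 : K) ^ 2 = 0 := by norm_num
      rw [this, h8tfStd2_zero]
      exact Subgroup.one_mem _
    · obtain ⟨j, hj⟩ := hgen t ht
      obtain ⟨a, c, d, h⟩ := ha j
      rw [← hj] at h
      have hfix := (h8tf_G1_fix R hC e hfe _ (hM h)).2
      obtain ⟨t', v', hg⟩ := h8tf_X2_fix R hC hO2 _ (h8tf2_Std2_mem_XL t a c d) hfix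
      have hg' := hg
      rw [h8tfCls_eq_Std2 R hC] at hg'
      obtain ⟨h1, _⟩ := h8tfStd2_inj hO2 _ _ _ _ _ _ _ _ hg'
      refine ⟨v', ?_⟩
      rw [h1, ← hg]
      exact h
  -- (c) the central elements
  have hc : ∀ u : K, h8tfCls R 27 25 28 30 0 u ∈ M := by
    intro u
    obtain ⟨t, rfl⟩ := hsurj u
    obtain ⟨v, hv⟩ := hb t
    rw [← h8tf2_Cls_sq R hC t v]
    exact Subgroup.mul_mem _ hv hv
  -- (d) all elements
  intro t v
  obtain ⟨v0, hv0⟩ := hb t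
  have := Subgroup.mul_mem _ hv0 (hc (v0 + v))
  rw [h8tf2_Cls_mul_zero R hC, ← add_assoc, CharTwo.add_self_eq_zero, zero_add] at this
  exact this


include hC in
/-- the negative class of type `A₁ × A₁` from the positive one -/
theorem h8tf2_neg1 (hO2 : H8Ord2 chevF4) (e : ℕ) (hfe : ∀ t : K, R.f t = t ^ e)
    (M : Subgroup (GL chevF4.Idx K)) (hM : M ≤ twistedF4 K e) (n : GL chevF4.Idx K)
    (hn : n ∈ M) (h14 : H8Act chevF4 hB n 14 33) (h23 : H8Act chevF4 hB n 23 24)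
    (h1 : ∀ t, h8tfPair R 33 24 t ∈ M) : ∀ t, h8tfPair R 14 23 t ∈ M := by
  intro t
  obtain ⟨c1, _, hc1⟩ := h14
  obtain ⟨c2, _, hc2⟩ := h23
  set g := n * h8tfPair R 14 23 t * n⁻¹ with hg
  have hgG : g ∈ twistedF4 K e :=
    Subgroup.mul_mem _ (Subgroup.mul_mem _ (hM hn) (h8tfPair_mem' R e hfe t))
      (Subgroup.inv_mem _ (hM hn))
  have hfix := (h8tf_G1_fix R hC e hfe g hgG).2
  have hgX : g ∈ Subgroup.closure (h8XLSet chevF4 K [24, 33]) := by
    have : g = (n * h8xU chevF4 hB 14 (R.f t) * n⁻¹) * (n * h8xU chevF4 hB 23 t * n⁻¹) := by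
      rw [hg]
      unfold h8tfPair
      group
    rw [this, hc1, hc2]
    exact Subgroup.mul_mem _ (h8xU_mem_XL chevF4 hB _ 33 (by simp) _)
      (h8xU_mem_XL chevF4 hB _ 24 (by simp) _)
  obtain ⟨t', ht'⟩ := h8tf_X1_fix R hC hO2 g hgX hfix
  have hgM : g ∈ M := by rw [ht']; exact h1 t'
  have : h8tfPair R 14 23 t = n⁻¹ * g * n := by rw [hg]; group
  rw [this]
  exact Subgroup.mul_mem _ (Subgroup.mul_mem _ (Subgroup.inv_mem _ hn) hgM) hn

include hC in
/-- the negative class of type `B₂` from the positive one -/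
theorem h8tf2_neg2 (hO2 : H8Ord2 chevF4) (e : ℕ) (hfe : ∀ t : K, R.f t = t ^ e)
    (M : Subgroup (GL chevF4.Idx K)) (hM : M ≤ twistedF4 K e) (n : GL chevF4.Idx K)
    (hn : n ∈ M) (h20 : H8Act chevF4 hB n 20 27) (h22 : H8Act chevF4 hB n 22 25)
    (h19 : H8Act chevF4 hB n 19 28) (h17 : H8Act chevF4 hB n 17 30)
    (h2 : ∀ t v, h8tfCls R 27 25 28 30 t v ∈ M) : ∀ t v, h8tfCls R 20 22 19 17 t v ∈ M := by
  intro t v
  obtain ⟨c1, _, hc1⟩ := h20
  obtain ⟨c2, _, hc2⟩ := h22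
  obtain ⟨c3, _, hc3⟩ := h19
  obtain ⟨c4, _, hc4⟩ := h17
  set g := n * h8tfCls R 20 22 19 17 t v * n⁻¹ with hg
  have hgG : g ∈ twistedF4 K e :=
    Subgroup.mul_mem _ (Subgroup.mul_mem _ (hM hn) (h8tfCls_mem' R e hfe t v))
      (Subgroup.inv_mem _ (hM hn))
  have hfix := (h8tf_G1_fix R hC e hfe g hgG).2
  have hgX : g ∈ Subgroup.closure (h8XLSet chevF4 K [25, 27, 28, 30]) := by
    have : g = (n * h8xU chevF4 hB 20 (R.f t) * n⁻¹) * (n * h8xU chevF4 hB 22 t * n⁻¹) *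
        (n * h8xU chevF4 hB 19 (R.f t * t + v) * n⁻¹) *
        (n * h8xU chevF4 hB 17 ((R.f v) ^ 2) * n⁻¹) := by
      rw [hg]
      unfold h8tfCls
      group
    rw [this, hc1, hc2, hc3, hc4]
    exact Subgroup.mul_mem _ (Subgroup.mul_mem _ (Subgroup.mul_mem _
      (h8xU_mem_XL chevF4 hB _ 27 (by simp) _) (h8xU_mem_XL chevF4 hB _ 25 (by simp) _))
      (h8xU_mem_XL chevF4 hB _ 28 (by simp) _)) (h8xU_mem_XL chevF4 hB _ 30 (by simp) _)
  obtain ⟨t', v', ht'⟩ := h8tf_X2_fix R hC hO2 g hgX hfix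
  have hgM : g ∈ M := by rw [ht']; exact h2 t' v'
  have : h8tfCls R 20 22 19 17 t v = n⁻¹ * g * n := by rw [hg]; group
  rw [this]
  exact Subgroup.mul_mem _ (Subgroup.mul_mem _ (Subgroup.inv_mem _ hn) hgM) hn

end

end Cfsg.Agent.Lib.helper8
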