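import Mathlib
import Cfsg.Prelude.Def_ChevStructure
import Cfsg.Prelude.Def_ChevF4
import Cfsg.Prelude.Def_LieTwisted
import Cfsg.Agent.Lib.helper8.ChevTTF4

/-! `²F₄(q)` is generated by two elements. -/

set_option autoImplicit false

namespace Cfsg.Agent.Lib.helper8

open Cfsg.Lie Cfsg.Lie.ChevalleyDatum

universe u

variable {K : Type u} [Field K]

theorem h8tf2_c24 (a b : K) (ha : a ≠ 0) (hb : b ≠ 0) :
    (b ^ 2 * a⁻¹) ^ (0 : ℤ) * ((a ^ 2 * (b ^ 2)⁻¹) ^ (2 : ℤ) * (b ^ (0 : ℤ) * (a ^ (-1 : ℤ) * 1))) =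
      a ^ 3 * (b ^ 4)⁻¹ := by
  simp only [zpow_neg, zpow_ofNat]
  field_simp

theorem h8tf2_c25 (a b : K) (ha : a ≠ 0) (hb : b ≠ 0) :
    (b ^ 2 * a⁻¹) ^ (0 : ℤ) * ((a ^ 2 * (b ^ 2)⁻¹) ^ (-1 : ℤ) * (b ^ (-2 : ℤ) * (a ^ (2 : ℤ) * 1))) =
      1 := by
  simp only [zpow_neg, zpow_ofNat]
  field_simp

theorem h8tf2_c27 (a b : K) (ha : a ≠ 0) (hb : b ≠ 0) :
    (b ^ 2 * a⁻¹) ^ (-1 : ℤ) * ((a ^ 2 * (b ^ 2)⁻¹) ^ (0 : ℤ) * (b ^ (2 : ℤ) * (a ^ (-1 : ℤ) * 1))) =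
      1 := by
  simp only [zpow_neg, zpow_ofNat]
  field_simp

theorem h8tf2_c28 (a b : K) (ha : a ≠ 0) (hb : b ≠ 0) :
    (b ^ 2 * a⁻¹) ^ (-1 : ℤ) * ((a ^ 2 * (b ^ 2)⁻¹) ^ (-1 : ℤ) * (b ^ (0 : ℤ) * (a ^ (1 : ℤ) * 1))) =
      1 := by
  simp only [zpow_neg, zpow_ofNat]
  field_simp

theorem h8tf2_c30 (a b : K) (ha : a ≠ 0) (hb : b ≠ 0) :
    (b ^ 2 * a⁻¹) ^ (-2 : ℤ) * ((a ^ 2 * (b ^ 2)⁻¹) ^ (-1 : ℤ) * (b ^ (2 : ℤ) * (a ^ (0 : ℤ) * 1))) =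
      1 := by
  simp only [zpow_neg, zpow_ofNat]
  field_simp

theorem h8tf2_c24' (a b : K) (ha : a ≠ 0) (hb : b ≠ 0) :
    (b ^ 2 * a⁻¹) ^ (2 : ℤ) * ((a ^ 2 * (b ^ 2)⁻¹) ^ (0 : ℤ) * (b ^ (0 : ℤ) * (a ^ (-1 : ℤ) * 1))) =
      b ^ 4 * (a ^ 3)⁻¹ := by
  simp only [zpow_neg, zpow_ofNat]
  field_simp

theorem h8tf2_c25' (a b : K) (ha : a ≠ 0) (hb : b ≠ 0) :
    (b ^ 2 * a⁻¹) ^ (-2 : ℤ) * ((a ^ 2 * (b ^ 2)⁻¹) ^ (1 : ℤ) * (b ^ (2 : ℤ) * (a ^ (-1 : ℤ) * 1))) =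
      a ^ 3 * (b ^ 4)⁻¹ := by
  simp only [zpow_neg, zpow_ofNat]
  field_simp

theorem h8tf2_cop (x : ℕ) (hx : 1 ≤ x) : Nat.Coprime (2 * x ^ 2 - 1) (4 * x - 3) := by
  have h1 : 1 ≤ 2 * x ^ 2 := by nlinarith
  have h2 : 3 ≤ 4 * x := by omega
  have key : 8 * (2 * x ^ 2 - 1) = (4 * x - 3) * (4 * x + 3) + 1 := by
    zify [h1, h2]
    ring
  rw [Nat.coprime_iff_gcd_eq_one]
  set g := Nat.gcd (2 * x ^ 2 - 1) (4 * x - 3) with hg
  have hg1 : g ∣ 2 * x ^ 2 - 1 := Nat.gcd_dvd_left _ _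
  have hg2 : g ∣ 4 * x - 3 := Nat.gcd_dvd_right _ _
  have ha : g ∣ 8 * (2 * x ^ 2 - 1) := Dvd.dvd.mul_left hg1 _
  have hb : g ∣ (4 * x - 3) * (4 * x + 3) := Dvd.dvd.mul_right hg2 _
  rw [key] at ha
  exact Nat.dvd_one.mp ((Nat.dvd_add_right hb).mp ha)

theorem h8tf2_cop2 (x : ℕ) (hx : 1 ≤ x) : Nat.Coprime (2 * x ^ 2 - 1) (x + 1) := by
  have h1 : 1 ≤ 2 * x ^ 2 := by nlinarith
  have key : 2 * x ^ 2 - 1 = (x + 1) * (2 * (x - 1)) + 1 := by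
    have h2 : 1 ≤ x := hx
    zify [h1, h2]
    ring
  rw [Nat.coprime_iff_gcd_eq_one]
  set g := Nat.gcd (2 * x ^ 2 - 1) (x + 1) with hg
  have hg1 : g ∣ 2 * x ^ 2 - 1 := Nat.gcd_dvd_left _ _
  have hg2 : g ∣ x + 1 := Nat.gcd_dvd_right _ _
  have hb : g ∣ (x + 1) * (2 * (x - 1)) := Dvd.dvd.mul_right hg2 _
  rw [key] at hg1
  exact Nat.dvd_one.mp ((Nat.dvd_add_right hb).mp hg1)

/-- the Coxeter word of `²F₄` and its fourth power -/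
def h8tf2W : List ℕ := [0, 3, 1, 2, 1, 2]

def h8tf2W4 : List ℕ := h8tf2W ++ (h8tf2W ++ (h8tf2W ++ h8tf2W))

theorem h8tf2_kdata :
    (h8K chevF4 33 24 = 0 ∧ h8K chevF4 24 24 = 2 ∧ h8K chevF4 27 24 = 0 ∧ h8K chevF4 25 24 = -1) ∧
    (h8K chevF4 33 25 = 0 ∧ h8K chevF4 24 25 = -1 ∧ h8K chevF4 27 25 = -2 ∧ h8K chevF4 25 25 = 2) ∧
    (h8K chevF4 33 27 = -1 ∧ h8K chevF4 24 27 = 0 ∧ h8K chevF4 27 27 = 2 ∧ h8K chevF4 25 27 = -1) ∧
    (h8K chevF4 33 28 = -1 ∧ h8K chevF4 24 28 = -1 ∧ h8K chevF4 27 28 = 0 ∧ h8K chevF4 25 28 = 1) ∧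
    (h8K chevF4 33 30 = -2 ∧ h8K chevF4 24 30 = -1 ∧ h8K chevF4 27 30 = 2 ∧ h8K chevF4 25 30 = 0) ∧
    (h8K chevF4 (h8sW chevF4 h8tf2W 33) 24 = 2 ∧ h8K chevF4 (h8sW chevF4 h8tf2W 24) 24 = 0 ∧ h8K chevF4 (h8sW chevF4 h8tf2W 27) 24 = 0 ∧ h8K chevF4 (h8sW chevF4 h8tf2W 25) 24 = -1) ∧
    (h8K chevF4 (h8sW chevF4 h8tf2W 33) 25 = -2 ∧ h8K chevF4 (h8sW chevF4 h8tf2W 24) 25 = 1 ∧ h8K chevF4 (h8sW chevF4 h8tf2W 27) 25 = 2 ∧ h8K chevF4 (h8sW chevF4 h8tf2W 25) 25 = -1) := by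
  decide +kernel

theorem h8tf2_wdata : (∀ i ∈ h8tf2W, i < chevF4.rank) ∧ (∀ i ∈ h8tf2W4, i < chevF4.rank) ∧
    h8sW chevF4 h8tf2W4 14 = 33 ∧ h8sW chevF4 h8tf2W4 23 = 24 ∧ h8sW chevF4 h8tf2W4 20 = 27 ∧
    h8sW chevF4 h8tf2W4 22 = 25 ∧ h8sW chevF4 h8tf2W4 19 = 28 ∧ h8sW chevF4 h8tf2W4 17 = 30 := by
  decide +kernel

/-- power maps with exponent prime to the order of the multiplicative group are surjective -/
theorem h8tf2_pow_surj [Fintype K] (n : ℕ) (hn : 0 < n)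
    (hcop : Nat.Coprime (Fintype.card K - 1) n) (u : K) : ∃ t : K, t ^ n = u := by
  by_cases hu : u = 0
  · exact ⟨0, by rw [hu, zero_pow hn.ne']⟩
  · obtain ⟨k, hk0, hkord⟩ := h8tt_gen (K := K)
    obtain ⟨j, hj⟩ := h8tt_gen_pow k hk0 hkord n hcop u hu
    exact ⟨k ^ j, by rw [hj, ← pow_mul, ← pow_mul, mul_comm]⟩

/-- `²F₄(q)` is generated by two elements -/
theorem h8tt_F4 [Fintype K] {m : ℕ} (hm : 1 ≤ m) (hK : Fintype.card K = 2 ^ (2 * m + 1)) :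
    ∃ a b : ↥(twistedF4 K (2 ^ m)),
      Subgroup.closure ({a, b} : Set ↥(twistedF4 K (2 ^ m))) = ⊤ := by
  classical
  have hD : chevF4 ∈ [chevG2, chevB2, chevD4, chevF4, chevE6, chevE7, chevE8] := by simp
  have hB := h8base_all.{u} chevF4 hD
  have hA := h8reflAll chevF4 hD
  have hC := h8commAll.{u} chevF4 hD
  have hBN := h8bn_all chevF4 hD
  obtain ⟨hO, hO2⟩ := h8ord_all chevF4 hD
  have := h8tf_char2 hK
  obtain ⟨R, hfe⟩ := h8tf_setup hK hB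
  set e := 2 ^ m with he
  have he1 : 2 ≤ e := by
    have : 2 ^ 1 ≤ 2 ^ m := Nat.pow_le_pow_right (by norm_num) hm
    omega
  have hcard : Fintype.card K - 1 = 2 * e ^ 2 - 1 := by
    rw [hK, he, pow_succ, mul_comm 2 m, pow_mul, mul_comm]
  have hG1 : ∀ g ∈ twistedF4 K e, g ∈ chevF4.group K ∧ h8tfS R g = g :=
    fun g hg => h8tf_G1_fix R hC e hfe g hg
  obtain ⟨k, hk0, hkord⟩ := h8tt_gen (K := K)
  have hk1 : k ≠ 1 := by
    intro h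
    rw [h, orderOf_one, hcard] at hkord
    have : 4 ≤ e ^ 2 := by nlinarith
    omega
  set b := R.f k with hb
  have hb0 : b ≠ 0 := (map_ne_zero R.f).mpr hk0
  have hbk : b = k ^ e := hfe k
  obtain ⟨kd24, kd25, kd27, kd28, kd30, kd24', kd25'⟩ := h8tf2_kdata
  obtain ⟨hw, hw4, w14, w23, w20, w22, w19, w17⟩ := h8tf2_wdata
  -- the torus element
  have hft0 : R.f (k ^ 2 * (b ^ 2)⁻¹) = b ^ 2 * k⁻¹ := by
    rw [map_mul, map_pow, map_inv₀, map_pow, hb, R.hf k]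
  set L : List (ℕ × K) := [(33, b ^ 2 * k⁻¹), (24, k ^ 2 * (b ^ 2)⁻¹), (27, b), (25, k)] with hLdef
  have hL : ∀ p ∈ L, p.1 < chevF4.nroots ∧ p.2 ≠ 0 := by
    intro p hp
    simp only [hLdef, List.mem_cons, List.not_mem_nil, or_false] at hp
    rcases hp with rfl | rfl | rfl | rfl
    · exact ⟨show 33 < chevF4.nroots by decide,
        mul_ne_zero (pow_ne_zero _ hb0) (inv_ne_zero hk0)⟩
    · exact ⟨show 24 < chevF4.nroots by decide,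
        mul_ne_zero (pow_ne_zero _ hk0) (inv_ne_zero (pow_ne_zero _ hb0))⟩
    · exact ⟨show 27 < chevF4.nroots by decide, hb0⟩
    · exact ⟨show 25 < chevF4.nroots by decide, hk0⟩
  have hLG : h8ttH chevF4 hB L ∈ twistedF4 K e := by
    have : h8ttH chevF4 hB L = (h8hU chevF4 hB 33 (b ^ 2 * k⁻¹) *
        h8hU chevF4 hB 24 (k ^ 2 * (b ^ 2)⁻¹)) * (h8hU chevF4 hB 27 b * h8hU chevF4 hB 25 k) := by
      simp [h8ttH, hLdef, mul_assoc]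
    rw [this]
    refine Subgroup.mul_mem _ ?_ (h8tf_torus2_mem R hA hC hBN hO2 e hfe k hk0)
    rw [← hft0]
    exact h8tf_torus1_mem R hC e hfe _
  set L' : List (ℕ × K) := L.map fun p => (h8sW chevF4 h8tf2W p.1, p.2) with hL'def
  have hL' : ∀ p ∈ L', p.1 < chevF4.nroots ∧ p.2 ≠ 0 := by
    intro p hp
    rw [hL'def, List.mem_map] at hp
    obtain ⟨p0, hp0, rfl⟩ := hp
    exact ⟨h8sW_lt chevF4 hA h8tf2W hw p0.1 (hL p0 hp0).1, (hL p0 hp0).2⟩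
  -- the characters
  have e24 : h8ttChi chevF4 L 24 = k ^ 3 * (b ^ 4)⁻¹ := by
    simp only [h8ttChi, hLdef, List.map_cons, List.map_nil, List.prod_cons, List.prod_nil]
    rw [kd24.1, kd24.2.1, kd24.2.2.1, kd24.2.2.2]
    exact h8tf2_c24 k b hk0 hb0
  have e25 : h8ttChi chevF4 L 25 = 1 := by
    simp only [h8ttChi, hLdef, List.map_cons, List.map_nil, List.prod_cons, List.prod_nil]
    rw [kd25.1, kd25.2.1, kd25.2.2.1, kd25.2.2.2]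
    exact h8tf2_c25 k b hk0 hb0
  have e27 : h8ttChi chevF4 L 27 = 1 := by
    simp only [h8ttChi, hLdef, List.map_cons, List.map_nil, List.prod_cons, List.prod_nil]
    rw [kd27.1, kd27.2.1, kd27.2.2.1, kd27.2.2.2]
    exact h8tf2_c27 k b hk0 hb0
  have e28 : h8ttChi chevF4 L 28 = 1 := by
    simp only [h8ttChi, hLdef, List.map_cons, List.map_nil, List.prod_cons, List.prod_nil]
    rw [kd28.1, kd28.2.1, kd28.2.2.1, kd28.2.2.2]
    exact h8tf2_c28 k b hk0 hb0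
  have e30 : h8ttChi chevF4 L 30 = 1 := by
    simp only [h8ttChi, hLdef, List.map_cons, List.map_nil, List.prod_cons, List.prod_nil]
    rw [kd30.1, kd30.2.1, kd30.2.2.1, kd30.2.2.2]
    exact h8tf2_c30 k b hk0 hb0
  have e24' : h8ttChi chevF4 L' 24 = b ^ 4 * (k ^ 3)⁻¹ := by
    simp only [h8ttChi, hL'def, hLdef, List.map_cons, List.map_nil, List.prod_cons,
      List.prod_nil]
    rw [kd24'.1, kd24'.2.1, kd24'.2.2.1, kd24'.2.2.2]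
    exact h8tf2_c24' k b hk0 hb0
  have e25' : h8ttChi chevF4 L' 25 = k ^ 3 * (b ^ 4)⁻¹ := by
    simp only [h8ttChi, hL'def, hLdef, List.map_cons, List.map_nil, List.prod_cons,
      List.prod_nil]
    rw [kd25'.1, kd25'.2.1, kd25'.2.2.1, kd25'.2.2.2]
    exact h8tf2_c25' k b hk0 hb0
  -- the generator
  have hb4 : b ^ 4 = k ^ (4 * e - 3) * k ^ 3 := by
    rw [hbk, ← pow_mul, ← pow_add]
    congr 1
    omega
  have hgen0 : ∀ u : K, u ≠ 0 → ∃ j : ℕ, u = (k ^ (4 * e - 3)) ^ j :=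
    h8tt_gen_pow k hk0 hkord (4 * e - 3) (by rw [hcard]; exact h8tf2_cop e (by omega))
  have hg0 : k ^ (4 * e - 3) ≠ 0 := pow_ne_zero _ hk0
  have hk3 : k ^ 3 ≠ 0 := pow_ne_zero _ hk0
  have ex1 : k ^ 3 * (b ^ 4)⁻¹ = (k ^ (4 * e - 3))⁻¹ := by
    rw [hb4]
    field_simp
  have ex2 : b ^ 4 * (k ^ 3)⁻¹ = k ^ (4 * e - 3) := by
    rw [hb4]
    field_simp
  have hgen1 := h8tt_gen_inv _ hgen0
  have hne0 : k ^ (4 * e - 3) ≠ 1 := by
    intro h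
    obtain ⟨j, hj⟩ := hgen0 k hk0
    rw [h, one_pow] at hj
    exact hk1 hj
  have hne1 : (k ^ (4 * e - 3))⁻¹ ≠ 1 := by
    intro h
    exact hne0 (inv_eq_one.mp h)
  -- the generators
  set h := h8ttH chevF4 hB L with hh
  set z := h8tfCls R 27 25 28 30 1 0 with hz
  set n := (h8nWU chevF4 hB h8tf2W : GL chevF4.Idx K) with hn
  have hzG : z ∈ twistedF4 K e := h8tfCls_mem R e hfe 1 0
  have hX1G : h8tfPair R 33 24 1 ∈ twistedF4 K e := h8tfPair_mem R e hfe 1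
  have hnG : n ∈ twistedF4 K e := by
    have e0 : h8tf2W = [0, 3] ++ [1, 2, 1, 2] := rfl
    rw [hn, e0, h8nWU_append]
    exact Subgroup.mul_mem _ (h8tf_n1_mem R hC e hfe) (h8tf_n2_mem R hA hC hBN hO2 e hfe)
  apply h8tg_top (twistedF4 K e) (h * z) (h8tfPair R 33 24 1 * n)
    (Subgroup.mul_mem _ hLG hzG) (Subgroup.mul_mem _ hX1G hnG)
  set M := Subgroup.closure ({h * z, h8tfPair R 33 24 1 * n} : Set (GL chevF4.Idx K)) with hM
  have hg1 : h * z ∈ M := Subgroup.subset_closure (by simp)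
  have hg2 : h8tfPair R 33 24 1 * n ∈ M := Subgroup.subset_closure (by simp)
  have hMG : M ≤ twistedF4 K e := by
    rw [hM, Subgroup.closure_le]
    intro g hg
    simp only [Set.mem_insert_iff, Set.mem_singleton_iff] at hg
    rcases hg with rfl | rfl
    · exact Subgroup.mul_mem _ hLG hzG
    · exact Subgroup.mul_mem _ hX1G hnG
  -- step 1: splitting
  have hzStd : z = h8tfStd2 hB 1 (R.f 1) 0 ((R.f 1) ^ 2 * 1 + (R.f 0) ^ 2) := by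
    rw [hz, h8tfCls_eq_Std2 R hC]
  have hcomm1 : Commute h z := by
    have := h8tf2_Std2_conj (hB := hB) L hL 1 (R.f 1) 0 ((R.f 1) ^ 2 * 1 + (R.f 0) ^ 2)
    rw [e25, e27, e28, e30, one_mul, one_mul, one_mul, one_mul, ← hzStd,
      mul_inv_eq_iff_eq_mul] at this
    exact this
  have hz2 : z * z = h8tfCls R 27 25 28 30 0 1 := by
    rw [hz, h8tf2_Cls_sq R hC, map_one, mul_one]
  have hz4 : z ^ 4 = 1 := by
    have e4 : z ^ 4 = (z * z) * (z * z) := by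
      rw [show (4 : ℕ) = 2 + 2 from rfl, pow_add, pow_two]
    rw [e4, hz2, h8tf2_Cls_sq R hC, zero_mul, h8tf2_Cls_zero R hC, map_zero]
    have : (0 : K) ^ 2 = 0 := by norm_num
    rw [this, h8tfStd2_zero]
  have hzN : z ^ Fintype.card K = 1 := by
    have : Fintype.card K = 4 * 2 ^ (2 * m - 1) := by
      rw [hK]
      have : 2 * m + 1 = 2 + (2 * m - 1) := by omega
      rw [this, pow_add]
      norm_num
    rw [this, pow_mul, hz4, one_pow]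
  obtain ⟨hhM, hzM⟩ := h8tt_split M h z hcomm1 (Fintype.card K) hzN
    (h8ttH_pow_card chevF4 hB L hL) hg1
  -- step 2: the trick
  have hnh : n * h * n⁻¹ = h8ttH chevF4 hB L' := h8ttH_nw chevF4 hB hA h8tf2W hw L hL
  have hnhG : n * h * n⁻¹ ∈ twistedF4 K e :=
    Subgroup.mul_mem _ (Subgroup.mul_mem _ hnG hLG) (Subgroup.inv_mem _ hnG)
  have hconj : ∀ t, h * h8tfPair R 33 24 t * h⁻¹ =
      h8tfPair R 33 24 (h8ttChi chevF4 L 24 * t) := fun t =>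
    h8tf2_pair_conj R h (hG1 h hLG).1 (hG1 h hLG).2 _
      (fun t => h8ttH_conj chevF4 hB L hL 24 (by decide) t) t
  have hconj' : ∀ t, (n * h * n⁻¹) * h8tfPair R 33 24 t * (n * h * n⁻¹)⁻¹ =
      h8tfPair R 33 24 (h8ttChi chevF4 L' 24 * t) := fun t =>
    h8tf2_pair_conj R (n * h * n⁻¹) (hG1 _ hnhG).1 (hG1 _ hnhG).2 _
      (fun t => by rw [hnh]; exact h8ttH_conj chevF4 hB L' hL' 24 (by decide) t) t
  have hcomm2 : Commute h (n * h * n⁻¹) := by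
    rw [hnh]
    exact h8ttH_commute chevF4 hB L L' hL hL'
  obtain ⟨hXall, hnM⟩ := h8tt_trick M (fun t => h8tfPair R 33 24 t) (h8tf2_pair_add R hC) h n hhM
    hg2 (h8ttChi chevF4 L 24) (h8ttChi chevF4 L' 24) hconj hconj' hcomm2
    (by rw [e24, ex1]; exact hne1) (by rw [e24', ex2]; exact hne0)
    (by rw [e24', ex2]; exact hg0) (by rw [e24, ex1]; exact hgen1)
  -- step 3: the class of type `B₂`
  have hh'M : h8ttH chevF4 hB L' ∈ M := by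
    rw [← hnh]
    exact Subgroup.mul_mem _ (Subgroup.mul_mem _ hnM hhM) (Subgroup.inv_mem _ hnM)
  have hsurj : ∀ u : K, ∃ t : K, t * R.f t = u := by
    intro u
    obtain ⟨t, ht⟩ := h8tf2_pow_surj (K := K) (e + 1) (by omega)
      (by rw [hcard]; exact h8tf2_cop2 e (by omega)) u
    exact ⟨t, by rw [hfe, ← pow_succ', ht]⟩
  have hCls := h8tf2_fill R hC hO2 e hfe M hMG L' hL' hh'M (by rw [e25', ex1]; exact hgen1)
    hsurj hzM
  -- step 4: the negative classes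
  set n4 := (h8nWU chevF4 hB h8tf2W4 : GL chevF4.Idx K) with hn4
  have hn4M : n4 ∈ M := by
    rw [hn4]
    unfold h8tf2W4
    rw [h8nWU_append, h8nWU_append, h8nWU_append]
    exact Subgroup.mul_mem _ hnM (Subgroup.mul_mem _ hnM (Subgroup.mul_mem _ hnM hnM))
  have hact : ∀ r < chevF4.nroots, H8Act chevF4 hB n4 r (h8sW chevF4 h8tf2W4 r) := fun r hr =>
    h8actN_act chevF4 hB _ _ _ (h8actN_word (F := K) chevF4 hB hA h8tf2W4 hw4 r hr)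
  have a14 := hact 14 (by decide)
  have a23 := hact 23 (by decide)
  have a20 := hact 20 (by decide)
  have a22 := hact 22 (by decide)
  have a19 := hact 19 (by decide)
  have a17 := hact 17 (by decide)
  rw [w14] at a14
  rw [w23] at a23
  rw [w20] at a20
  rw [w22] at a22
  rw [w19] at a19
  rw [w17] at a17
  have hP' := h8tf2_neg1 R hC hO2 e hfe M hMG n4 hn4M a14 a23 hXall
  have hC' := h8tf2_neg2 R hC hO2 e hfe M hMG n4 hn4M a20 a22 a19 a17 hCls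
  exact h8tf_gen_le R e hfe M hXall hP' hCls hC'

end Cfsg.Agent.Lib.helper8
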