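import Mathlib
import Cfsg.Prelude.Def_ChevB2
import Cfsg.Agent.Lib.helper8.ChevNH

set_option autoImplicit false

namespace Cfsg.Agent.Lib.helper8

open Cfsg.Lie

set_option maxRecDepth 100000 in
theorem h8nhChkRefl_B2 : h8nhChkRefl chevB2 = true := by decide +kernel

end Cfsg.Agent.Lib.helper8
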