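import Mathlib

set_option autoImplicit false

namespace Cfsg.Agent.Lib.helper8

open Finset

/-- from an order formula `d * n = q ^ N * M` to the `p`-part and the two bounds -/
theorem h8lo_core (p : ℕ) (hp : p.Prime) (f : ℕ) (N E n M d : ℕ)
    (hn : 0 < n) (hd : d * n = (p ^ f) ^ N * M) (hdp : Nat.Coprime d p) (hMp : Nat.Coprime M p)
    (hM : M < (p ^ f) ^ E) (hE1 : E ≤ 2 * N) :
    n.factorization p = f * N ∧ n < p ^ (3 * n.factorization p) ∧
      (3 * E ≤ 5 * N → n ^ 3 < p ^ (8 * n.factorization p)) := by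
  have hp1 : 1 < p := hp.one_lt
  have hd0 : d ≠ 0 := by
    rintro rfl
    rw [Nat.coprime_zero_left] at hdp
    omega
  have hM0 : M ≠ 0 := by
    rintro rfl
    rw [Nat.coprime_zero_left] at hMp
    omega
  have hpd : ¬ p ∣ d := fun h => by
    have := Nat.Coprime.eq_one_of_dvd hdp.symm h
    omega
  have hpM : ¬ p ∣ M := fun h => by
    have := Nat.Coprime.eq_one_of_dvd hMp.symm h
    omega
  have hq0 : (p ^ f) ^ N ≠ 0 := pow_ne_zero _ (pow_ne_zero _ hp.ne_zero)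
  have hk : n.factorization p = f * N := by
    have h1 := congrArg (fun x => x.factorization p) hd
    beta_reduce at h1
    rw [Nat.factorization_mul hd0 hn.ne', Nat.factorization_mul hq0 hM0,
      Finsupp.add_apply, Finsupp.add_apply, Nat.factorization_eq_zero_of_not_dvd hpd,
      Nat.factorization_eq_zero_of_not_dvd hpM, ← pow_mul, Nat.factorization_pow,
      Finsupp.smul_apply, hp.factorization_self] at h1
    simpa using h1
  have hlt : n < (p ^ f) ^ (N + E) := by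
    have h1 : n ≤ d * n := Nat.le_mul_of_pos_left _ (Nat.pos_of_ne_zero hd0)
    have h2 : (p ^ f) ^ N * M < (p ^ f) ^ N * (p ^ f) ^ E :=
      Nat.mul_lt_mul_of_pos_left hM (Nat.pos_of_ne_zero hq0)
    rw [pow_add]
    omega
  refine ⟨hk, ?_, ?_⟩
  · rw [hk]
    have h3 : (p ^ f) ^ (N + E) ≤ p ^ (3 * (f * N)) := by
      rw [← pow_mul]
      apply Nat.pow_le_pow_right hp.pos
      nlinarith
    omega
  · intro hE2
    rw [hk]
    have h4 : n ^ 3 < ((p ^ f) ^ (N + E)) ^ 3 := Nat.pow_lt_pow_left hlt (by norm_num)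
    have h5 : ((p ^ f) ^ (N + E)) ^ 3 ≤ p ^ (8 * (f * N)) := by
      rw [← pow_mul, ← pow_mul]
      apply Nat.pow_le_pow_right hp.pos
      nlinarith
    omega

theorem h8lo_cop_sub_one {p x : ℕ} (hp : p.Prime) (hx : p ∣ x) (hx0 : 0 < x) :
    Nat.Coprime (x - 1) p := by
  rw [Nat.coprime_comm, hp.coprime_iff_not_dvd]
  intro h
  have h1 : p ∣ x - (x - 1) := Nat.dvd_sub hx h
  have h2 : x - (x - 1) = 1 := by omega
  rw [h2, Nat.dvd_one] at h1
  exact hp.one_lt.ne' h1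

theorem h8lo_cop_add_one {p x : ℕ} (hp : p.Prime) (hx : p ∣ x) : Nat.Coprime (x + 1) p := by
  rw [Nat.coprime_comm, hp.coprime_iff_not_dvd]
  intro h
  have h1 : p ∣ (x + 1) - x := Nat.dvd_sub h hx
  have h2 : (x + 1) - x = 1 := by omega
  rw [h2, Nat.dvd_one] at h1
  exact hp.one_lt.ne' h1

theorem h8lo_dvd_pow {p f a : ℕ} (hf : 1 ≤ f) (ha : 1 ≤ a) : p ∣ (p ^ f) ^ a := by
  rw [← pow_mul]
  exact dvd_pow_self p (by positivity)

theorem h8lo_sub_one_lt {q a : ℕ} (hq : 2 ≤ q) : q ^ a - 1 < q ^ a := by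
  have : 0 < q ^ a := by positivity
  omega

theorem h8lo_add_one_lt {q a : ℕ} (hq : 2 ≤ q) (ha : 1 ≤ a) : q ^ a + 1 < q ^ (a + 1) := by
  have h1 : 2 ≤ q ^ a := by
    calc 2 ≤ q := hq
      _ = q ^ 1 := (pow_one q).symm
      _ ≤ q ^ a := Nat.pow_le_pow_right (by omega) ha
  have h2 : q ^ (a + 1) = q ^ a * q := pow_succ q a
  nlinarith

theorem h8lo_mul_lt {q a b α β : ℕ} (ha : a < q ^ α) (hb : b < q ^ β) :
    a * b < q ^ (α + β) := by
  rw [pow_add]
  exact Nat.mul_lt_mul'' ha hb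

/-- the product `∏ (q ^ (2 (i + 1)) - 1)` is smaller than `q ^ (m (m + 1))` -/
theorem h8lo_prod_even_lt (q m : ℕ) (hq : 2 ≤ q) (hm : 1 ≤ m) :
    ∏ i ∈ range m, (q ^ (2 * (i + 1)) - 1) < q ^ (m * (m + 1)) := by
  induction m, hm using Nat.le_induction with
  | base =>
    simp only [range_one, prod_singleton]
    exact h8lo_sub_one_lt hq
  | succ m hm ih =>
    rw [prod_range_succ]
    have e : (m + 1) * (m + 1 + 1) = m * (m + 1) + 2 * (m + 1) := by ring
    rw [e]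
    exact h8lo_mul_lt ih (h8lo_sub_one_lt hq)

theorem h8lo_prod_even_cop (p f m : ℕ) (hp : p.Prime) (hf : 1 ≤ f) :
    Nat.Coprime (∏ i ∈ range m, ((p ^ f) ^ (2 * (i + 1)) - 1)) p := by
  apply Nat.Coprime.prod_left
  intro i _
  exact h8lo_cop_sub_one hp (h8lo_dvd_pow hf (by omega)) (pow_pos (pow_pos hp.pos _) _)

end Cfsg.Agent.Lib.helper8
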