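import Mathlib
import Cfsg.Agent.Lib.helper8.LieOrd1

set_option autoImplicit false

namespace Cfsg.Agent.Lib.helper8

open Finset

theorem h8lo_pair_lt (q a : ℕ) (hq : 2 ≤ q) :
    (q ^ a - 1) * (q ^ (a + 1) + 1) < q ^ (a + (a + 1)) := by
  have hx : 1 ≤ q ^ a := Nat.one_le_pow _ _ (by omega)
  have e1 : q ^ (a + 1) = q ^ a * q := pow_succ q a
  have e2 : q ^ (a + (a + 1)) = q ^ a * (q ^ a * q) := by rw [pow_add, pow_succ]
  rw [e2, e1]
  generalize q ^ a = y at hx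
  obtain ⟨x, rfl⟩ : ∃ x, y = x + 1 := ⟨y - 1, by omega⟩
  simp only [Nat.add_sub_cancel]
  nlinarith

/-- the factors of the order formula of the unitary groups -/
def h8loT (q j : ℕ) : ℕ := if Even (j + 1) then q ^ (j + 2) + 1 else q ^ (j + 2) - 1

theorem h8loT_even (q i : ℕ) : h8loT q (2 * i) = q ^ (2 * i + 2) - 1 := by
  unfold h8loT
  rw [if_neg]
  rw [Nat.not_even_iff_odd]
  exact ⟨i, rfl⟩

theorem h8loT_odd (q i : ℕ) : h8loT q (2 * i + 1) = q ^ (2 * i + 3) + 1 := by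
  unfold h8loT
  rw [if_pos]
  exact ⟨i + 1, by ring⟩

theorem h8lo_unitary_step (q i : ℕ) :
    ∏ j ∈ range (2 * (i + 1)), h8loT q j =
      (∏ j ∈ range (2 * i), h8loT q j) *
        ((q ^ (2 * i + 2) - 1) * (q ^ (2 * i + 2 + 1) + 1)) := by
  have e : 2 * (i + 1) = 2 * i + 1 + 1 := by ring
  rw [e, prod_range_succ, prod_range_succ, h8loT_even, h8loT_odd, mul_assoc]

theorem h8lo_unitary_sum (i : ℕ) :
    ∑ j ∈ range (2 * (i + 1)), (j + 2) =
      (∑ j ∈ range (2 * i), (j + 2)) + ((2 * i + 2) + (2 * i + 2 + 1)) := by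
  have e : 2 * (i + 1) = 2 * i + 1 + 1 := by ring
  rw [e, sum_range_succ, sum_range_succ]
  ring

theorem h8lo_unitary_even (q i : ℕ) (hq : 2 ≤ q) :
    ∏ j ∈ range (2 * i), h8loT q j ≤ q ^ (∑ j ∈ range (2 * i), (j + 2)) := by
  induction i with
  | zero => simp
  | succ i ih =>
    calc ∏ j ∈ range (2 * (i + 1)), h8loT q j
        = (∏ j ∈ range (2 * i), h8loT q j) *
          ((q ^ (2 * i + 2) - 1) * (q ^ (2 * i + 2 + 1) + 1)) := h8lo_unitary_step q i
      _ ≤ q ^ (∑ j ∈ range (2 * i), (j + 2)) * q ^ ((2 * i + 2) + (2 * i + 2 + 1)) :=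
        Nat.mul_le_mul ih (h8lo_pair_lt q (2 * i + 2) hq).le
      _ = q ^ ((∑ j ∈ range (2 * i), (j + 2)) + ((2 * i + 2) + (2 * i + 2 + 1))) :=
        (pow_add _ _ _).symm
      _ = _ := by rw [h8lo_unitary_sum]

/-- the product of the factors of the unitary order formula is smaller than the power of `q` -/
theorem h8lo_unitary_lt (q k : ℕ) (hq : 2 ≤ q) (hk : 1 ≤ k) :
    ∏ j ∈ range k, h8loT q j < q ^ (∑ j ∈ range k, (j + 2)) := by
  have hqpos : ∀ s : ℕ, 0 < q ^ s := fun s => pow_pos (by omega) s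
  rcases Nat.even_or_odd' k with ⟨i, rfl | rfl⟩
  · obtain ⟨i, rfl⟩ : ∃ i', i = i' + 1 := ⟨i - 1, by omega⟩
    calc ∏ j ∈ range (2 * (i + 1)), h8loT q j
        = (∏ j ∈ range (2 * i), h8loT q j) *
          ((q ^ (2 * i + 2) - 1) * (q ^ (2 * i + 2 + 1) + 1)) := h8lo_unitary_step q i
      _ < q ^ (∑ j ∈ range (2 * i), (j + 2)) * q ^ ((2 * i + 2) + (2 * i + 2 + 1)) :=
        Nat.mul_lt_mul_of_le_of_lt (h8lo_unitary_even q i hq) (h8lo_pair_lt q (2 * i + 2) hq)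
          (hqpos _)
      _ = q ^ ((∑ j ∈ range (2 * i), (j + 2)) + ((2 * i + 2) + (2 * i + 2 + 1))) :=
        (pow_add _ _ _).symm
      _ = _ := by rw [h8lo_unitary_sum]
  · calc ∏ j ∈ range (2 * i + 1), h8loT q j
        = (∏ j ∈ range (2 * i), h8loT q j) * (q ^ (2 * i + 2) - 1) := by
          rw [prod_range_succ, h8loT_even]
      _ < q ^ (∑ j ∈ range (2 * i), (j + 2)) * q ^ (2 * i + 2) :=
        Nat.mul_lt_mul_of_le_of_lt (h8lo_unitary_even q i hq) (h8lo_sub_one_lt hq) (hqpos _)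
      _ = q ^ ((∑ j ∈ range (2 * i), (j + 2)) + (2 * i + 2)) := (pow_add _ _ _).symm
      _ = _ := by rw [sum_range_succ]

theorem h8lo_unitary_cop (p f k : ℕ) (hp : p.Prime) (hf : 1 ≤ f) :
    Nat.Coprime (∏ j ∈ range k, h8loT (p ^ f) j) p := by
  apply Nat.Coprime.prod_left
  intro i _
  unfold h8loT
  split_ifs
  · exact h8lo_cop_add_one hp (h8lo_dvd_pow hf (by omega))
  · exact h8lo_cop_sub_one hp (h8lo_dvd_pow hf (by omega)) (pow_pos (pow_pos hp.pos _) _)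

/-- the product in the order formula of `PSL` -/
theorem h8lo_psl_prod (q n : ℕ) (hn : 1 ≤ n) :
    ∏ i : Fin n, (q ^ n - q ^ (i : ℕ)) =
      q ^ (∑ i ∈ range n, i) * ((q - 1) * ∏ j ∈ range (n - 1), (q ^ (j + 2) - 1)) := by
  rw [Fin.prod_univ_eq_prod_range (fun i => q ^ n - q ^ i) n]
  have h1 : ∀ i ∈ range n, q ^ n - q ^ i = q ^ i * (q ^ (n - 1 - i + 1) - 1) := by
    intro i hi
    rw [mem_range] at hi
    have e : n - 1 - i + 1 = n - i := by omega
    rw [e, Nat.mul_sub, mul_one, ← pow_add]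
    congr 2
    omega
  rw [prod_congr rfl h1, prod_mul_distrib, prod_pow_eq_pow_sum,
    prod_range_reflect (fun j => q ^ (j + 1) - 1) n]
  congr 1
  obtain ⟨k, rfl⟩ : ∃ k, n = k + 1 := ⟨n - 1, by omega⟩
  rw [prod_range_succ', Nat.add_sub_cancel, mul_comm]
  simp

theorem h8lo_prod_succ_lt (q k : ℕ) (hq : 2 ≤ q) (hk : 1 ≤ k) :
    ∏ j ∈ range k, (q ^ (j + 2) - 1) < q ^ (∑ j ∈ range k, (j + 2)) := by
  induction k, hk using Nat.le_induction with
  | base =>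
    simp only [range_one, prod_singleton, sum_singleton]
    exact h8lo_sub_one_lt hq
  | succ m hm ih =>
    rw [prod_range_succ, sum_range_succ]
    exact h8lo_mul_lt ih (h8lo_sub_one_lt hq)

theorem h8lo_prod_succ_cop (p f k : ℕ) (hp : p.Prime) (hf : 1 ≤ f) :
    Nat.Coprime (∏ j ∈ range k, ((p ^ f) ^ (j + 2) - 1)) p := by
  apply Nat.Coprime.prod_left
  intro i _
  exact h8lo_cop_sub_one hp (h8lo_dvd_pow hf (by omega)) (pow_pos (pow_pos hp.pos _) _)

/-- the exponent inequalities for the linear and unitary groups -/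
theorem h8lo_exp_lin (k : ℕ) (hk : 1 ≤ k) :
    (∑ j ∈ range k, (j + 2)) ≤ 2 * (∑ i ∈ range (k + 1), i) ∧
    (2 ≤ k → 3 * (∑ j ∈ range k, (j + 2)) ≤ 5 * (∑ i ∈ range (k + 1), i)) := by
  have h1 := Finset.sum_range_id_mul_two (k + 1)
  have h2 : (∑ j ∈ range k, (j + 2)) = (∑ j ∈ range k, j) + 2 * k := by
    rw [sum_add_distrib]
    simp [mul_comm]
  have h3 := Finset.sum_range_id_mul_two k
  obtain ⟨k', rfl⟩ : ∃ k', k = k' + 1 := ⟨k - 1, by omega⟩
  simp only [Nat.add_sub_cancel] at h1 h3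
  constructor
  · nlinarith
  · intro hk2
    nlinarith

end Cfsg.Agent.Lib.helper8
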