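import Mathlib
import Cfsg.Prelude.Def_LieTypeChar
import Cfsg.Agent.Lib.helper8.LieOrd2
import Cfsg.Agent.S1059
import Cfsg.Agent.S1062
import Cfsg.Agent.S1063
import Cfsg.Agent.S1064
import Cfsg.Agent.S1065
import Cfsg.Agent.S1066
import Cfsg.Agent.S1067
import Cfsg.Agent.S1068
import Cfsg.Agent.S1069

set_option autoImplicit false

namespace Cfsg.Agent.Lib.helper8

open Finset

/-- the two bounds on the order of a group of Lie type in terms of its `p`-part -/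
def H8LoGoal (p n : ℕ) : Prop :=
  n < p ^ (3 * n.factorization p) ∧ n ^ 3 < p ^ (8 * n.factorization p)

theorem h8lo_apply (p : ℕ) (hp : p.Prime) (f : ℕ) (N E n M d : ℕ)
    (hn : 0 < n) (hd : d * n = (p ^ f) ^ N * M) (hdp : Nat.Coprime d p) (hMp : Nat.Coprime M p)
    (hM : M < (p ^ f) ^ E) (hE1 : E ≤ 2 * N) (hE2 : 3 * E ≤ 5 * N) : H8LoGoal p n := by
  obtain ⟨_, h1, h2⟩ := h8lo_core p hp f N E n M d hn hd hdp hMp hM hE1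
  exact ⟨h1, h2 hE2⟩

/-- the cardinality of a finite field of characteristic `p` -/
theorem h8lo_field (F : Type*) [Field F] [Fintype F] (p : ℕ) [CharP F p] :
    p.Prime ∧ ∃ f : ℕ, 1 ≤ f ∧ Fintype.card F = p ^ f := by
  obtain ⟨n, hp, hn⟩ := FiniteField.card F p
  exact ⟨hp, n, n.pos, hn⟩

theorem h8lo_two_le {p f : ℕ} (hp : p.Prime) (hf : 1 ≤ f) : 2 ≤ p ^ f :=
  calc 2 ≤ p := hp.two_le
    _ = p ^ 1 := (pow_one p).symm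
    _ ≤ p ^ f := Nat.pow_le_pow_right hp.pos hf

section
variable {p f : ℕ} (hp : p.Prime) (hf : 1 ≤ f)

include hp hf in
theorem h8lo_cs (a : ℕ) (ha : 1 ≤ a) : Nat.Coprime ((p ^ f) ^ a - 1) p :=
  h8lo_cop_sub_one hp (h8lo_dvd_pow hf ha) (pow_pos (pow_pos hp.pos _) _)

include hp hf in
theorem h8lo_ca (a : ℕ) (ha : 1 ≤ a) : Nat.Coprime ((p ^ f) ^ a + 1) p :=
  h8lo_cop_add_one hp (h8lo_dvd_pow hf ha)

include hp hf in
theorem h8lo_bs (a : ℕ) : (p ^ f) ^ a - 1 < (p ^ f) ^ a := h8lo_sub_one_lt (h8lo_two_le hp hf)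

include hp hf in
theorem h8lo_ba (a : ℕ) (ha : 1 ≤ a) : (p ^ f) ^ a + 1 < (p ^ f) ^ (a + 1) :=
  h8lo_add_one_lt (h8lo_two_le hp hf) ha

include hp hf in
theorem h8lo_gcd_sub (c a : ℕ) (ha : 1 ≤ a) : Nat.Coprime (Nat.gcd c ((p ^ f) ^ a - 1)) p :=
  Nat.Coprime.coprime_dvd_left (Nat.gcd_dvd_right _ _) (h8lo_cs hp hf a ha)

include hp hf in
theorem h8lo_gcd_add (c a : ℕ) (ha : 1 ≤ a) : Nat.Coprime (Nat.gcd c ((p ^ f) ^ a + 1)) p :=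
  Nat.Coprime.coprime_dvd_left (Nat.gcd_dvd_right _ _) (h8lo_ca hp hf a ha)

include hp hf in
theorem h8lo_G2 (n : ℕ) (hn : 0 < n)
    (h : n = (p ^ f) ^ 6 * ((p ^ f) ^ 2 - 1) * ((p ^ f) ^ 6 - 1)) : H8LoGoal p n := by
  apply h8lo_apply p hp f 6 (2 + 6) n (((p ^ f) ^ 2 - 1) * ((p ^ f) ^ 6 - 1)) 1 hn
  · rw [one_mul, h, mul_assoc]
  · exact Nat.coprime_one_left _
  · exact Nat.Coprime.mul_left (h8lo_cs hp hf 2 (by norm_num)) (h8lo_cs hp hf 6 (by norm_num))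
  · exact h8lo_mul_lt (h8lo_bs hp hf 2) (h8lo_bs hp hf 6)
  · norm_num
  · norm_num

include hp hf in
theorem h8lo_F4 (n : ℕ) (hn : 0 < n)
    (h : n = (p ^ f) ^ 24 * ((p ^ f) ^ 2 - 1) * ((p ^ f) ^ 6 - 1) * ((p ^ f) ^ 8 - 1) *
      ((p ^ f) ^ 12 - 1)) : H8LoGoal p n := by
  apply h8lo_apply p hp f 24 (2 + 6 + 8 + 12) n
    (((p ^ f) ^ 2 - 1) * ((p ^ f) ^ 6 - 1) * ((p ^ f) ^ 8 - 1) * ((p ^ f) ^ 12 - 1)) 1 hn
  · rw [one_mul, h]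
    simp only [mul_assoc]
  · exact Nat.coprime_one_left _
  · exact Nat.Coprime.mul_left (Nat.Coprime.mul_left (Nat.Coprime.mul_left
      (h8lo_cs hp hf 2 (by norm_num)) (h8lo_cs hp hf 6 (by norm_num)))
      (h8lo_cs hp hf 8 (by norm_num))) (h8lo_cs hp hf 12 (by norm_num))
  · exact h8lo_mul_lt (h8lo_mul_lt (h8lo_mul_lt (h8lo_bs hp hf 2) (h8lo_bs hp hf 6))
      (h8lo_bs hp hf 8)) (h8lo_bs hp hf 12)
  · norm_num
  · norm_num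

include hp hf in
theorem h8lo_E6 (n d : ℕ) (hn : 0 < n) (hd : Nat.Coprime d p)
    (h : d * n = (p ^ f) ^ 36 * ((p ^ f) ^ 2 - 1) * ((p ^ f) ^ 5 - 1) * ((p ^ f) ^ 6 - 1) *
      ((p ^ f) ^ 8 - 1) * ((p ^ f) ^ 9 - 1) * ((p ^ f) ^ 12 - 1)) : H8LoGoal p n := by
  apply h8lo_apply p hp f 36 (2 + 5 + 6 + 8 + 9 + 12) n
    (((p ^ f) ^ 2 - 1) * ((p ^ f) ^ 5 - 1) * ((p ^ f) ^ 6 - 1) * ((p ^ f) ^ 8 - 1) *
      ((p ^ f) ^ 9 - 1) * ((p ^ f) ^ 12 - 1)) d hn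
  · rw [h]
    simp only [mul_assoc]
  · exact hd
  · exact Nat.Coprime.mul_left (Nat.Coprime.mul_left (Nat.Coprime.mul_left
      (Nat.Coprime.mul_left (Nat.Coprime.mul_left
      (h8lo_cs hp hf 2 (by norm_num)) (h8lo_cs hp hf 5 (by norm_num)))
      (h8lo_cs hp hf 6 (by norm_num))) (h8lo_cs hp hf 8 (by norm_num)))
      (h8lo_cs hp hf 9 (by norm_num))) (h8lo_cs hp hf 12 (by norm_num))
  · exact h8lo_mul_lt (h8lo_mul_lt (h8lo_mul_lt (h8lo_mul_lt (h8lo_mul_lt (h8lo_bs hp hf 2)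
      (h8lo_bs hp hf 5)) (h8lo_bs hp hf 6)) (h8lo_bs hp hf 8)) (h8lo_bs hp hf 9))
      (h8lo_bs hp hf 12)
  · norm_num
  · norm_num

include hp hf in
theorem h8lo_E7 (n d : ℕ) (hn : 0 < n) (hd : Nat.Coprime d p)
    (h : d * n = (p ^ f) ^ 63 * ((p ^ f) ^ 2 - 1) * ((p ^ f) ^ 6 - 1) * ((p ^ f) ^ 8 - 1) *
      ((p ^ f) ^ 10 - 1) * ((p ^ f) ^ 12 - 1) * ((p ^ f) ^ 14 - 1) * ((p ^ f) ^ 18 - 1)) :
    H8LoGoal p n := by
  apply h8lo_apply p hp f 63 (2 + 6 + 8 + 10 + 12 + 14 + 18) n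
    (((p ^ f) ^ 2 - 1) * ((p ^ f) ^ 6 - 1) * ((p ^ f) ^ 8 - 1) *
      ((p ^ f) ^ 10 - 1) * ((p ^ f) ^ 12 - 1) * ((p ^ f) ^ 14 - 1) * ((p ^ f) ^ 18 - 1)) d hn
  · rw [h]
    simp only [mul_assoc]
  · exact hd
  · exact Nat.Coprime.mul_left (Nat.Coprime.mul_left (Nat.Coprime.mul_left
      (Nat.Coprime.mul_left (Nat.Coprime.mul_left (Nat.Coprime.mul_left
      (h8lo_cs hp hf 2 (by norm_num)) (h8lo_cs hp hf 6 (by norm_num)))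
      (h8lo_cs hp hf 8 (by norm_num))) (h8lo_cs hp hf 10 (by norm_num)))
      (h8lo_cs hp hf 12 (by norm_num))) (h8lo_cs hp hf 14 (by norm_num)))
      (h8lo_cs hp hf 18 (by norm_num))
  · exact h8lo_mul_lt (h8lo_mul_lt (h8lo_mul_lt (h8lo_mul_lt (h8lo_mul_lt (h8lo_mul_lt
      (h8lo_bs hp hf 2) (h8lo_bs hp hf 6)) (h8lo_bs hp hf 8)) (h8lo_bs hp hf 10))
      (h8lo_bs hp hf 12)) (h8lo_bs hp hf 14)) (h8lo_bs hp hf 18)
  · norm_num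
  · norm_num

include hp hf in
theorem h8lo_E8 (n : ℕ) (hn : 0 < n)
    (h : n = (p ^ f) ^ 120 * ((p ^ f) ^ 2 - 1) * ((p ^ f) ^ 8 - 1) * ((p ^ f) ^ 12 - 1) *
      ((p ^ f) ^ 14 - 1) * ((p ^ f) ^ 18 - 1) * ((p ^ f) ^ 20 - 1) * ((p ^ f) ^ 24 - 1) *
      ((p ^ f) ^ 30 - 1)) : H8LoGoal p n := by
  apply h8lo_apply p hp f 120 (2 + 8 + 12 + 14 + 18 + 20 + 24 + 30) n
    (((p ^ f) ^ 2 - 1) * ((p ^ f) ^ 8 - 1) * ((p ^ f) ^ 12 - 1) *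
      ((p ^ f) ^ 14 - 1) * ((p ^ f) ^ 18 - 1) * ((p ^ f) ^ 20 - 1) * ((p ^ f) ^ 24 - 1) *
      ((p ^ f) ^ 30 - 1)) 1 hn
  · rw [one_mul, h]
    simp only [mul_assoc]
  · exact Nat.coprime_one_left _
  · exact Nat.Coprime.mul_left (Nat.Coprime.mul_left (Nat.Coprime.mul_left
      (Nat.Coprime.mul_left (Nat.Coprime.mul_left (Nat.Coprime.mul_left (Nat.Coprime.mul_left
      (h8lo_cs hp hf 2 (by norm_num)) (h8lo_cs hp hf 8 (by norm_num)))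
      (h8lo_cs hp hf 12 (by norm_num))) (h8lo_cs hp hf 14 (by norm_num)))
      (h8lo_cs hp hf 18 (by norm_num))) (h8lo_cs hp hf 20 (by norm_num)))
      (h8lo_cs hp hf 24 (by norm_num))) (h8lo_cs hp hf 30 (by norm_num))
  · exact h8lo_mul_lt (h8lo_mul_lt (h8lo_mul_lt (h8lo_mul_lt (h8lo_mul_lt (h8lo_mul_lt
      (h8lo_mul_lt (h8lo_bs hp hf 2) (h8lo_bs hp hf 8)) (h8lo_bs hp hf 12)) (h8lo_bs hp hf 14))
      (h8lo_bs hp hf 18)) (h8lo_bs hp hf 20)) (h8lo_bs hp hf 24)) (h8lo_bs hp hf 30)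
  · norm_num
  · norm_num

include hp hf in
theorem h8lo_2E6 (n d : ℕ) (hn : 0 < n) (hd : Nat.Coprime d p)
    (h : d * n = (p ^ f) ^ 36 * ((p ^ f) ^ 2 - 1) * ((p ^ f) ^ 5 + 1) * ((p ^ f) ^ 6 - 1) *
      ((p ^ f) ^ 8 - 1) * ((p ^ f) ^ 9 + 1) * ((p ^ f) ^ 12 - 1)) : H8LoGoal p n := by
  apply h8lo_apply p hp f 36 (2 + (5 + 1) + 6 + 8 + (9 + 1) + 12) n
    (((p ^ f) ^ 2 - 1) * ((p ^ f) ^ 5 + 1) * ((p ^ f) ^ 6 - 1) * ((p ^ f) ^ 8 - 1) *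
      ((p ^ f) ^ 9 + 1) * ((p ^ f) ^ 12 - 1)) d hn
  · rw [h]
    simp only [mul_assoc]
  · exact hd
  · exact Nat.Coprime.mul_left (Nat.Coprime.mul_left (Nat.Coprime.mul_left
      (Nat.Coprime.mul_left (Nat.Coprime.mul_left
      (h8lo_cs hp hf 2 (by norm_num)) (h8lo_ca hp hf 5 (by norm_num)))
      (h8lo_cs hp hf 6 (by norm_num))) (h8lo_cs hp hf 8 (by norm_num)))
      (h8lo_ca hp hf 9 (by norm_num))) (h8lo_cs hp hf 12 (by norm_num))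
  · exact h8lo_mul_lt (h8lo_mul_lt (h8lo_mul_lt (h8lo_mul_lt (h8lo_mul_lt (h8lo_bs hp hf 2)
      (h8lo_ba hp hf 5 (by norm_num))) (h8lo_bs hp hf 6)) (h8lo_bs hp hf 8))
      (h8lo_ba hp hf 9 (by norm_num))) (h8lo_bs hp hf 12)
  · norm_num
  · norm_num

include hp hf in
theorem h8lo_3D4 (n : ℕ) (hn : 0 < n)
    (h : n = (p ^ f) ^ 12 * ((p ^ f) ^ 2 - 1) * ((p ^ f) ^ 6 - 1) *
      ((p ^ f) ^ 8 + (p ^ f) ^ 4 + 1)) : H8LoGoal p n := by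
  have hq := h8lo_two_le hp hf
  apply h8lo_apply p hp f 12 (2 + 6 + 9) n
    (((p ^ f) ^ 2 - 1) * ((p ^ f) ^ 6 - 1) * ((p ^ f) ^ 8 + (p ^ f) ^ 4 + 1)) 1 hn
  · rw [one_mul, h]
    simp only [mul_assoc]
  · exact Nat.coprime_one_left _
  · refine Nat.Coprime.mul_left (Nat.Coprime.mul_left
      (h8lo_cs hp hf 2 (by norm_num)) (h8lo_cs hp hf 6 (by norm_num))) ?_
    apply h8lo_cop_add_one hp
    exact dvd_add (h8lo_dvd_pow hf (by norm_num)) (h8lo_dvd_pow hf (by norm_num))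
  · refine h8lo_mul_lt (h8lo_mul_lt (h8lo_bs hp hf 2) (h8lo_bs hp hf 6)) ?_
    have h4 : 2 ≤ (p ^ f) ^ 4 := by
      calc 2 ≤ p ^ f := hq
        _ = (p ^ f) ^ 1 := (pow_one _).symm
        _ ≤ (p ^ f) ^ 4 := Nat.pow_le_pow_right (by omega) (by norm_num)
    have h84 : (p ^ f) ^ 4 ≤ (p ^ f) ^ 8 := Nat.pow_le_pow_right (by omega) (by norm_num)
    have h9 : (p ^ f) ^ 9 = (p ^ f) ^ 8 * (p ^ f) := pow_succ _ 8
    nlinarith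
  · norm_num
  · norm_num

include hp hf in
theorem h8lo_2B2 (n : ℕ) (hn : 0 < n)
    (h : n = (p ^ f) ^ 2 * ((p ^ f) - 1) * ((p ^ f) ^ 2 + 1)) : H8LoGoal p n := by
  have hq := h8lo_two_le hp hf
  apply h8lo_apply p hp f 2 3 n (((p ^ f) - 1) * ((p ^ f) ^ 2 + 1)) 1 hn
  · rw [one_mul, h, mul_assoc]
  · exact Nat.coprime_one_left _
  · refine Nat.Coprime.mul_left ?_ (h8lo_ca hp hf 2 (by norm_num))
    have := h8lo_cs hp hf 1 (by norm_num)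
    rwa [pow_one] at this
  · have := h8lo_pair_lt (p ^ f) 1 hq
    rw [pow_one] at this
    exact this
  · norm_num
  · norm_num

include hp hf in
theorem h8lo_2F4 (n : ℕ) (hn : 0 < n)
    (h : n = (p ^ f) ^ 12 * ((p ^ f) - 1) * ((p ^ f) ^ 3 + 1) * ((p ^ f) ^ 4 - 1) *
      ((p ^ f) ^ 6 + 1)) : H8LoGoal p n := by
  have hq := h8lo_two_le hp hf
  have hc1 : Nat.Coprime ((p ^ f) - 1) p := by
    have := h8lo_cs hp hf 1 (by norm_num)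
    rwa [pow_one] at this
  have hb1 : (p ^ f) - 1 < (p ^ f) ^ 1 := by
    have := h8lo_bs hp hf 1
    rwa [pow_one] at this ⊢
  apply h8lo_apply p hp f 12 (1 + (3 + 1) + 4 + (6 + 1)) n
    (((p ^ f) - 1) * ((p ^ f) ^ 3 + 1) * ((p ^ f) ^ 4 - 1) * ((p ^ f) ^ 6 + 1)) 1 hn
  · rw [one_mul, h]
    simp only [mul_assoc]
  · exact Nat.coprime_one_left _
  · exact Nat.Coprime.mul_left (Nat.Coprime.mul_left (Nat.Coprime.mul_left hc1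
      (h8lo_ca hp hf 3 (by norm_num))) (h8lo_cs hp hf 4 (by norm_num)))
      (h8lo_ca hp hf 6 (by norm_num))
  · exact h8lo_mul_lt (h8lo_mul_lt (h8lo_mul_lt hb1 (h8lo_ba hp hf 3 (by norm_num)))
      (h8lo_bs hp hf 4)) (h8lo_ba hp hf 6 (by norm_num))
  · norm_num
  · norm_num

include hp hf in
theorem h8lo_2G2 (n : ℕ) (hn : 0 < n)
    (h : n = (p ^ f) ^ 3 * ((p ^ f) - 1) * ((p ^ f) ^ 3 + 1)) : H8LoGoal p n := by
  have hc1 : Nat.Coprime ((p ^ f) - 1) p := by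
    have := h8lo_cs hp hf 1 (by norm_num)
    rwa [pow_one] at this
  have hb1 : (p ^ f) - 1 < (p ^ f) ^ 1 := by
    have := h8lo_bs hp hf 1
    rwa [pow_one] at this ⊢
  apply h8lo_apply p hp f 3 (1 + (3 + 1)) n (((p ^ f) - 1) * ((p ^ f) ^ 3 + 1)) 1 hn
  · rw [one_mul, h, mul_assoc]
  · exact Nat.coprime_one_left _
  · exact Nat.Coprime.mul_left hc1 (h8lo_ca hp hf 3 (by norm_num))
  · exact h8lo_mul_lt hb1 (h8lo_ba hp hf 3 (by norm_num))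
  · norm_num
  · norm_num

end

end Cfsg.Agent.Lib.helper8
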