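import Mathlib
import Cfsg.Prelude.Def_LieTypeChar
import Cfsg.Agent.Lib.helper8.LieOrd3

set_option autoImplicit false

namespace Cfsg.Agent.Lib.helper8

open Finset

/-- a root of a prime power is a power of the prime -/
theorem h8lo_root {p q c f' : ℕ} (hp : p.Prime) (hq : q ^ c = p ^ f') (hc : 1 ≤ c) (hq1 : 1 < q) :
    ∃ j : ℕ, 1 ≤ j ∧ q = p ^ j := by
  have hdvd : q ∣ p ^ f' := by
    rw [← hq]
    exact dvd_pow_self q (by omega)
  obtain ⟨j, _, hj⟩ := (Nat.dvd_prime_pow hp).mp hdvd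
  refine ⟨j, ?_, hj⟩
  by_contra h
  have : j = 0 := by omega
  rw [this, pow_zero] at hj
  omega

/-- the exceptional Chevalley groups -/
theorem h8lo_exc (p : ℕ) (G : Type*) [Group G] [Finite G] (hG : Cfsg.IsExceptionalChevChar p G) :
    H8LoGoal p (Nat.card G) := by
  obtain ⟨F, _, _, _, h⟩ := hG
  obtain ⟨hp, f, hf, hF⟩ := h8lo_field F p
  have hpos : 0 < Nat.card G := Nat.card_pos
  rcases h with ⟨_, ⟨e⟩⟩ | ⟨⟨e⟩⟩ | ⟨⟨e⟩⟩ | ⟨⟨e⟩⟩ | ⟨⟨e⟩⟩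
  · apply h8lo_G2 hp hf _ hpos
    rw [Nat.card_congr e.toEquiv, Cfsg.Agent.S1059.result hF]
  · apply h8lo_F4 hp hf _ hpos
    rw [Nat.card_congr e.toEquiv, Cfsg.Agent.S1062.result hF]
  · apply h8lo_E6 hp hf _ (Nat.gcd 3 (p ^ f - 1)) hpos
    · have := h8lo_gcd_sub hp hf 3 1 (by norm_num)
      rwa [pow_one] at this
    · rw [Nat.card_congr e.toEquiv, Cfsg.Agent.S1063.result hF]
  · apply h8lo_E7 hp hf _ (Nat.gcd 2 (p ^ f - 1)) hpos
    · have := h8lo_gcd_sub hp hf 2 1 (by norm_num)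
      rwa [pow_one] at this
    · rw [Nat.card_congr e.toEquiv, Cfsg.Agent.S1064.result hF]
  · apply h8lo_E8 hp hf _ hpos
    rw [Nat.card_congr e.toEquiv, Cfsg.Agent.S1065.result hF]

/-- the twisted groups `²E₆` and `³D₄` -/
theorem h8lo_tw (p : ℕ) (G : Type*) [Group G] [Finite G] (hG : Cfsg.IsTwistedE6D4Char p G) :
    H8LoGoal p (Nat.card G) := by
  obtain ⟨K, _, _, _, q, hq, h⟩ := hG
  obtain ⟨hp, f', hf', hK⟩ := h8lo_field K p
  have hpos : 0 < Nat.card G := Nat.card_pos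
  rcases h with ⟨hK2, ⟨e⟩⟩ | ⟨hK3, ⟨e⟩⟩
  · obtain ⟨j, hj, rfl⟩ := h8lo_root hp (hK2.symm.trans hK) (by norm_num) hq.one_lt
    apply h8lo_2E6 hp hj _ (Nat.gcd 3 (p ^ j + 1)) hpos
    · have := h8lo_gcd_add hp hj 3 1 (by norm_num)
      rwa [pow_one] at this
    · rw [Nat.card_congr e.toEquiv, Cfsg.Agent.S1066.result hq hK2]
  · obtain ⟨j, hj, rfl⟩ := h8lo_root hp (hK3.symm.trans hK) (by norm_num) hq.one_lt
    apply h8lo_3D4 hp hj _ hpos
    rw [Nat.card_congr e.toEquiv, Cfsg.Agent.S1067.result hq hK3]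

/-- the large Ree groups -/
theorem h8lo_f4tw (G : Type*) [Group G] [Finite G] (hG : Cfsg.Lie.Iso2F4 G) :
    H8LoGoal 2 (Nat.card G) := by
  obtain ⟨K, _, _, m, hm, hK, ⟨e⟩⟩ := hG
  have hpos : 0 < Nat.card G := Nat.card_pos
  apply h8lo_2F4 Nat.prime_two (f := 2 * m + 1) (by omega) _ hpos
  rw [Nat.card_congr e.toEquiv, Cfsg.Agent.S1068.result hK]

/-- the small Ree groups -/
theorem h8lo_ree (G : Type*) [Group G] [Finite G] (hG : Cfsg.Lie.IsoRee G) :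
    H8LoGoal 3 (Nat.card G) := by
  obtain ⟨K, _, _, m, hm, hK, ⟨e⟩⟩ := hG
  have hpos : 0 < Nat.card G := Nat.card_pos
  apply h8lo_2G2 Nat.prime_three (f := 2 * m + 1) (by omega) _ hpos
  rw [Nat.card_congr e.toEquiv, Cfsg.Agent.S1069.result hK]

end Cfsg.Agent.Lib.helper8
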