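import Mathlib
import Cfsg.Prelude.Def_LieTypeChar
import Cfsg.Agent.Lib.helper8.LieOrd4
import Cfsg.Agent.S0243
import Cfsg.Agent.S0245
import Cfsg.Agent.S0246
import Cfsg.Agent.S0280
import Cfsg.Agent.S0292
import Cfsg.Agent.S0293
import Cfsg.Agent.S0294
import Cfsg.Agent.S1163

set_option autoImplicit false

namespace Cfsg.Agent.Lib.helper8

open Finset

/-- the projective special linear groups -/
theorem h8lo_psl (p : ℕ) (G : Type*) [Group G] [Finite G] (hG : Cfsg.IsPSLChar p G) :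
    Nat.card G < p ^ (3 * (Nat.card G).factorization p) ∧
      ((¬ ∃ (F : Type) (_ : Field F) (_ : Fintype F),
          Fintype.card F = p ^ (Nat.card G).factorization p ∧
          Nonempty (G ≃* Matrix.ProjectiveSpecialLinearGroup (Fin 2) F)) →
        Nat.card G ^ 3 < p ^ (8 * (Nat.card G).factorization p)) := by
  obtain ⟨F, _, _, _, n, hn, _, ⟨e⟩⟩ := hG
  obtain ⟨hp, f, hf, hF⟩ := h8lo_field F p
  have hq := h8lo_two_le hp hf
  have hpos : 0 < Nat.card G := Nat.card_pos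
  have h1 := Cfsg.Agent.S0243.result hF n hn
  rw [h8lo_psl_prod (p ^ f) n (by omega), ← Nat.card_congr e.toEquiv] at h1
  have h2 : Nat.gcd n (p ^ f - 1) * Nat.card G =
      (p ^ f) ^ (∑ i ∈ range n, i) * ∏ j ∈ range (n - 1), ((p ^ f) ^ (j + 2) - 1) := by
    have hq1 : 0 < p ^ f - 1 := by omega
    apply Nat.eq_of_mul_eq_mul_left hq1
    rw [mul_left_comm, h1, mul_left_comm]
  obtain ⟨k, rfl⟩ : ∃ k, n = k + 1 := ⟨n - 1, by omega⟩
  rw [Nat.add_sub_cancel] at h2
  have hk : 1 ≤ k := by omega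
  obtain ⟨hE1, hE2⟩ := h8lo_exp_lin k hk
  have hdp : Nat.Coprime (Nat.gcd (k + 1) (p ^ f - 1)) p := by
    have := h8lo_gcd_sub hp hf (k + 1) 1 (by norm_num)
    rwa [pow_one] at this
  obtain ⟨hfac, hb1, hb2⟩ := h8lo_core p hp f (∑ i ∈ range (k + 1), i) (∑ j ∈ range k, (j + 2))
    (Nat.card G) _ _ hpos h2 hdp (h8lo_prod_succ_cop p f k hp hf)
    (h8lo_prod_succ_lt (p ^ f) k hq hk) hE1
  refine ⟨hb1, ?_⟩
  intro hne
  by_cases hk2 : 2 ≤ k
  · exact hb2 (hE2 hk2)
  · exfalso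
    have hk1 : k = 1 := by omega
    subst hk1
    apply hne
    refine ⟨F, inferInstance, inferInstance, ?_, ⟨e⟩⟩
    rw [hfac, hF]
    simp [Finset.sum_range_succ]

/-- the projective symplectic groups -/
theorem h8lo_psp (p : ℕ) (G : Type*) [Group G] [Finite G] (hG : Cfsg.IsPSpChar p G) :
    H8LoGoal p (Nat.card G) := by
  obtain ⟨F, _, _, _, m, hm, _, ⟨e⟩⟩ := hG
  obtain ⟨hp, f, hf, hF⟩ := h8lo_field F p
  have hq := h8lo_two_le hp hf
  have hpos : 0 < Nat.card G := Nat.card_pos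
  have h1 := Cfsg.Agent.S0245.result hF m
  have h2 := Cfsg.Agent.S0246.result hF m (by omega)
  have h3 := Subgroup.card_eq_card_quotient_mul_card_subgroup
    (Subgroup.center (Matrix.symplecticGroup (Fin m) F))
  rw [h1, h2] at h3
  have h4 : Nat.gcd 2 (p ^ f - 1) * Nat.card G =
      (p ^ f) ^ (m ^ 2) * ∏ i ∈ range m, ((p ^ f) ^ (2 * (i + 1)) - 1) := by
    rw [Nat.card_congr e.toEquiv, h3, mul_comm]
  have hdp : Nat.Coprime (Nat.gcd 2 (p ^ f - 1)) p := by
    have := h8lo_gcd_sub hp hf 2 1 (by norm_num)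
    rwa [pow_one] at this
  exact h8lo_apply p hp f (m ^ 2) (m * (m + 1)) (Nat.card G) _ _ hpos h4 hdp
    (h8lo_prod_even_cop p f m hp hf) (h8lo_prod_even_lt (p ^ f) m hq (by omega))
    (by nlinarith) (by nlinarith)

/-- the odd-dimensional orthogonal groups -/
theorem h8lo_pomega_odd (p : ℕ) (G : Type*) [Group G] [Finite G]
    (hG : Cfsg.IsPOmegaOddChar p G) : H8LoGoal p (Nat.card G) := by
  obtain ⟨F, _, _, _, m, hm, hodd, ⟨e⟩⟩ := hG
  obtain ⟨hp, f, hf, hF⟩ := h8lo_field F p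
  have hq := h8lo_two_le hp hf
  have hpos : 0 < Nat.card G := Nat.card_pos
  rw [hF] at hodd
  have h1 := Cfsg.Agent.S0292.result hF hodd m hm
  rw [← Nat.card_congr e.toEquiv] at h1
  have hdp : Nat.Coprime 2 p := by
    rw [Nat.coprime_two_left]
    exact Nat.Odd.of_mul_right (by
      have : p ^ f = p ^ (f - 1) * p := by rw [← pow_succ]; congr 1; omega
      rwa [this] at hodd)
  exact h8lo_apply p hp f (m ^ 2) (m * (m + 1)) (Nat.card G) _ _ hpos h1 hdp
    (h8lo_prod_even_cop p f m hp hf) (h8lo_prod_even_lt (p ^ f) m hq (by omega))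
    (by nlinarith) (by nlinarith)

/-- the projective special unitary groups -/
theorem h8lo_psu (p : ℕ) (G : Type*) [Group G] [Finite G] (hG : Cfsg.IsPSUChar p G) :
    H8LoGoal p (Nat.card G) := by
  obtain ⟨F, _, _, _, n, q, hFq, hn, _, ⟨e⟩⟩ := hG
  obtain ⟨hp, f', hf', hF⟩ := h8lo_field F p
  have hq1 : 1 < q := by
    by_contra h
    have h2 : q ^ 2 ≤ 1 := by
      have : q ≤ 1 := by omega
      calc q ^ 2 ≤ 1 ^ 2 := Nat.pow_le_pow_left this 2
        _ = 1 := one_pow 2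
    have h3 : 2 ≤ p ^ f' := h8lo_two_le hp hf'
    rw [← hF, hFq] at h3
    omega
  obtain ⟨j, hj, rfl⟩ := h8lo_root hp (hFq.symm.trans hF) (by norm_num) hq1
  have hq := h8lo_two_le hp hj
  have hpos : 0 < Nat.card G := Nat.card_pos
  have h1 := Cfsg.Agent.S0280.result hFq n (by omega)
  rw [← Nat.card_congr e.toEquiv, ← Finset.sum_range_id] at h1
  obtain ⟨k, rfl⟩ : ∃ k, n = k + 1 := ⟨n - 1, by omega⟩
  have hk : 2 ≤ k := by omega
  rw [Finset.prod_range_succ'] at h1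
  have hT : ∀ i : ℕ, (if Even (i + 1) then (p ^ j) ^ (i + 1 + 1) + 1 else (p ^ j) ^ (i + 1 + 1) - 1) =
      h8loT (p ^ j) i := fun i => rfl
  simp only [hT] at h1
  have h0 : (if Even 0 then (p ^ j) ^ (0 + 1) + 1 else (p ^ j) ^ (0 + 1) - 1) = p ^ j + 1 := by
    simp
  rw [h0] at h1
  have h2 : Nat.gcd (k + 1) (p ^ j + 1) * Nat.card G =
      (p ^ j) ^ (∑ i ∈ range (k + 1), i) * ∏ i ∈ range k, h8loT (p ^ j) i := by
    have hq1 : 0 < p ^ j + 1 := by omega
    apply Nat.eq_of_mul_eq_mul_left hq1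
    rw [← mul_assoc, mul_comm (p ^ j + 1) (Nat.gcd _ _), mul_assoc, h1]
    ring
  obtain ⟨hE1, hE2⟩ := h8lo_exp_lin k (by omega)
  have hdp : Nat.Coprime (Nat.gcd (k + 1) (p ^ j + 1)) p := by
    have := h8lo_gcd_add hp hj (k + 1) 1 (by norm_num)
    rwa [pow_one] at this
  exact h8lo_apply p hp j (∑ i ∈ range (k + 1), i) (∑ i ∈ range k, (i + 2)) (Nat.card G) _ _
    hpos h2 hdp (h8lo_unitary_cop p j k hp hj) (h8lo_unitary_lt (p ^ j) k hq (by omega))
    hE1 (hE2 hk)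

/-- the orthogonal groups of plus type -/
theorem h8lo_pomega_plus (p : ℕ) (G : Type*) [Group G] [Finite G]
    (hG : Cfsg.IsPOmegaPlusChar p G) : H8LoGoal p (Nat.card G) := by
  obtain ⟨F, _, _, _, m, hm, ⟨e⟩⟩ := hG
  obtain ⟨hp, f, hf, hF⟩ := h8lo_field F p
  have hq := h8lo_two_le hp hf
  have hpos : 0 < Nat.card G := Nat.card_pos
  have h1 := Cfsg.Agent.S0293.result hF m hm
  rw [← Nat.card_congr e.toEquiv, mul_assoc] at h1
  obtain ⟨k, rfl⟩ : ∃ k, m = k + 1 := ⟨m - 1, by omega⟩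
  rw [Nat.add_sub_cancel] at h1
  exact h8lo_apply p hp f ((k + 1) * k) ((k + 1) + k * (k + 1)) (Nat.card G) _ _ hpos h1
    (h8lo_gcd_sub hp hf 4 (k + 1) (by omega))
    (Nat.Coprime.mul_left (h8lo_cs hp hf (k + 1) (by omega)) (h8lo_prod_even_cop p f k hp hf))
    (h8lo_mul_lt (h8lo_bs hp hf (k + 1)) (h8lo_prod_even_lt (p ^ f) k hq (by omega)))
    (by nlinarith) (by nlinarith)

/-- the orthogonal groups of minus type -/
theorem h8lo_pomega_minus (p : ℕ) (G : Type*) [Group G] [Finite G]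
    (hG : Cfsg.IsPOmegaMinusChar p G) : H8LoGoal p (Nat.card G) := by
  obtain ⟨F, _, _, _, m, a, b, hm, hab, ⟨e⟩⟩ := hG
  obtain ⟨hp, f, hf, hF⟩ := h8lo_field F p
  have hq := h8lo_two_le hp hf
  have hpos : 0 < Nat.card G := Nat.card_pos
  have h1 := Cfsg.Agent.S0294.result hF m hm a b hab
  rw [← Nat.card_congr e.toEquiv, mul_assoc] at h1
  obtain ⟨k, rfl⟩ : ∃ k, m = k + 1 := ⟨m - 1, by omega⟩
  rw [Nat.add_sub_cancel] at h1
  exact h8lo_apply p hp f ((k + 1) * k) ((k + 1 + 1) + k * (k + 1)) (Nat.card G) _ _ hpos h1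
    (h8lo_gcd_add hp hf 4 (k + 1) (by omega))
    (Nat.Coprime.mul_left (h8lo_ca hp hf (k + 1) (by omega)) (h8lo_prod_even_cop p f k hp hf))
    (h8lo_mul_lt (h8lo_ba hp hf (k + 1) (by omega))
      (h8lo_prod_even_lt (p ^ f) k hq (by omega)))
    (by nlinarith) (by nlinarith)

/-- the Suzuki groups -/
theorem h8lo_suz (G : Type*) [Group G] [Finite G] (hG : Cfsg.Lie.IsoSuzuki G) :
    H8LoGoal 2 (Nat.card G) := by
  obtain ⟨F, _, _, m, hm, hF, ⟨e⟩⟩ := hG
  have hpos : 0 < Nat.card G := Nat.card_pos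
  apply h8lo_2B2 Nat.prime_two (f := 2 * m + 1) (by omega) _ hpos
  rw [Nat.card_congr e.toEquiv, (Cfsg.Agent.S1163.result hm hF).1]

/-- the order of a group of Lie type is bounded by powers of its `p`-part -/
theorem h8lo_main (p : ℕ) (G : Type*) [Group G] [Finite G] (hG : Cfsg.IsLieTypeChar p G) :
    Nat.card G < p ^ (3 * (Nat.card G).factorization p) ∧
      ((¬ ∃ (F : Type) (_ : Field F) (_ : Fintype F),
          Fintype.card F = p ^ (Nat.card G).factorization p ∧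
          Nonempty (G ≃* Matrix.ProjectiveSpecialLinearGroup (Fin 2) F)) →
        Nat.card G ^ 3 < p ^ (8 * (Nat.card G).factorization p)) := by
  have key : H8LoGoal p (Nat.card G) →
      (Nat.card G < p ^ (3 * (Nat.card G).factorization p) ∧
      ((¬ ∃ (F : Type) (_ : Field F) (_ : Fintype F),
          Fintype.card F = p ^ (Nat.card G).factorization p ∧
          Nonempty (G ≃* Matrix.ProjectiveSpecialLinearGroup (Fin 2) F)) →
        Nat.card G ^ 3 < p ^ (8 * (Nat.card G).factorization p))) :=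
    fun h => ⟨h.1, fun _ => h.2⟩
  rcases hG with h | h | h | h | h | h | h | h | ⟨rfl, h⟩ | ⟨rfl, h⟩ | ⟨rfl, h⟩
  · exact h8lo_psl p G h
  · exact key (h8lo_psp p G h)
  · exact key (h8lo_psu p G h)
  · exact key (h8lo_pomega_odd p G h)
  · exact key (h8lo_pomega_plus p G h)
  · exact key (h8lo_pomega_minus p G h)
  · exact key (h8lo_exc p G h)
  · exact key (h8lo_tw p G h)
  · exact key (h8lo_suz G h)
  · exact key (h8lo_f4tw G h)
  · exact key (h8lo_ree G h)

end Cfsg.Agent.Lib.helper8
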