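import Mathlib
import Cfsg.Prelude.Def_ChevStructure
import Cfsg.Prelude.Def_ChevF4
import Cfsg.Prelude.Def_LieTwisted
import Cfsg.Agent.Lib.helper8.ChevTF32
import Cfsg.Agent.Lib.helper8.ChevTwO2

/-!
# Project OCT (S2369), concrete side: `U ∩ ⁿU ≤ U_J` when the reduced word of `n` begins with `w_J`
-/

set_option autoImplicit false

namespace Cfsg.Agent.Lib.helper8.OCT

open Cfsg.Lie Cfsg.Lie.ChevalleyDatum Cfsg.Agent.Lib.helper8

universe u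

variable {K : Type u} [Field K]

/-- PC, generic form over the data of a twisted fundamental class -/
theorem octi_pc_gen [Fintype K] {m : ℕ} (hK : Fintype.card K = 2 ^ (2 * m + 1))
    (hB : H8Base.{u} chevF4) {J : Set ℕ} {L Lm wJ : List ℕ} (C : H8TFC J L Lm wJ)
    (wk : List ℕ) (hwk : ∀ i ∈ wk, i < chevF4.rank) (hpos : h8posW chevF4 wJ wk = true)
    (hne : ∃ r < chevF4.nroots, h8sW chevF4 wJ r ≠ r)
    (hnJG : (h8nWU chevF4 hB wJ : GL chevF4.Idx K) ∈ twistedF4 K (2 ^ m))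
    (hnJsq : (h8nWU chevF4 hB wJ : GL chevF4.Idx K) * h8nWU chevF4 hB wJ = 1)
    (u : GL chevF4.Idx K) (hu : u ∈ chevF4.posUnipotent K) (huG : u ∈ twistedF4 K (2 ^ m))
    (hconj : (h8nWU chevF4 hB wJ * h8nWU chevF4 hB wk : GL chevF4.Idx K)⁻¹ * u *
      (h8nWU chevF4 hB wJ * h8nWU chevF4 hB wk) ∈ chevF4.posUnipotent K) :
    u ∈ chevF4.unipotentRadical K J := by
  have hD : chevF4 ∈ [chevG2, chevB2, chevD4, chevF4, chevE6, chevE7, chevE8] := by simp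
  have hB0 := h8base_all.{0} chevF4 hD
  have hA := h8reflAll chevF4 hD
  have hC := h8commAll.{u} chevF4 hD
  have hBN := h8bn_all chevF4 hD
  have hW := h8bn2_all chevF4 hD
  obtain ⟨hO, hO2⟩ := h8ord_all chevF4 hD
  have := h8tf_char2 hK
  obtain ⟨R, hfe⟩ := h8tf_setup hK hB
  set G1 := twistedF4 K (2 ^ m) with hG1def
  have hG1 : ∀ g ∈ G1, g ∈ chevF4.group K ∧ h8tfS R g = g :=
    fun g hg => h8tf_G1_fix R hC (2 ^ m) hfe g hg
  have hwJ : ∀ i ∈ wJ, i < chevF4.rank := h8tfC_w_lt C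
  set nJ : GL chevF4.Idx K := h8nWU chevF4 hB wJ with hnJ
  set nk : GL chevF4.Idx K := h8nWU chevF4 hB wk with hnk
  have hnJinv : nJ⁻¹ = nJ := inv_eq_of_mul_eq_one_left hnJsq
  have hnJN : nJ ∈ chevF4.monomialSubgroup K := h8nWU_mem_N chevF4 hB hA wJ hwJ
  have hnkN : nk ∈ chevF4.monomialSubgroup K := h8nWU_mem_N chevF4 hB hA wk hwk
  have hnJP : nJ ∈ chevF4.parabolicSubgroup K J :=
    h8tf_LJ_le_PJ (h8tf_nWU_mem_LJ hB wJ C.wJlt)
  obtain ⟨y, hy, x, hx, rfl, fy, fx⟩ := h8tf_U_decomp_fix C.hJ R u hu (hG1 u huG).2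
  by_cases hx1 : x = 1
  · rw [hx1, mul_one]
    exact hy
  exfalso
  -- `v = n_J x n_J⁻¹`
  set v : GL chevF4.Idx K := nJ * x * nJ⁻¹ with hv
  have hvLm : v ∈ Subgroup.closure (h8XLSet chevF4 K Lm) := h8tfC_conj_s (hB := hB) C hA x hx
  have hxG : x ∈ chevF4.group K := h8_U_le_group chevF4 (h8tf_XL_le_U C.hJ hx)
  have hnJgrp : nJ ∈ chevF4.group K := (hG1 nJ hnJG).1
  have hvfix : h8tfS R v = v := by
    rw [hv, h8tfS_mul R _ _ (Subgroup.mul_mem _ hnJgrp hxG) (Subgroup.inv_mem _ hnJgrp),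
      h8tfS_mul R _ _ hnJgrp hxG, h8tfS_inv R _ hnJgrp, (hG1 nJ hnJG).2, fx]
  have hv1 : v ≠ 1 := by
    intro h
    apply hx1
    have : x = nJ⁻¹ * v * nJ := by rw [hv]; group
    rw [this, h]
    group
  obtain ⟨x₁, hx₁, mm, x₂, hx₂, -, -, -, hveq, hPi⟩ := h8tf_rank1 C.hJ R hB0 hA hC hBN hW hO
    hO2 wJ C.wJlt C.norm Lm C.hLm v hvLm hvfix hv1
  -- `y' = n_J y n_J⁻¹ ∈ U_J`
  have hy' : nJ * y * nJ⁻¹ ∈ chevF4.unipotentRadical K J :=
    (Subgroup.mem_normalizer_iff.mp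
      ((Cfsg.Agent.S1048.result (F := K) chevF4 h8tf_F4_mem J).1 hnJP) y).mp hy
  -- `n_J⁻¹ m ∈ H`
  have hmH : nJ⁻¹ * mm.val ∈ chevF4.diagonalSubgroup K := by
    have e1 := h8Pi_nWU (F := K) chevF4 hB hA hBN hW hO2 wJ hwJ
    have : h8Pi chevF4 hB hA hBN hW hO2
        ((⟨nJ, hnJN⟩ : ↥(chevF4.monomialSubgroup K))⁻¹ * mm) = 1 := by
      rw [map_mul, map_inv, hPi, e1, inv_mul_cancel]
    exact h8Pi_ker chevF4 hB hA hBN hW hO2 _ this
  -- the two cells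
  set u2 : GL chevF4.Idx K := (nJ * nk)⁻¹ * (y * x) * (nJ * nk) with hu2
  have hx₁U := h8tf_XL_le_U C.hJ hx₁
  have hx₂U := h8tf_XL_le_U C.hJ hx₂
  have hbB : nJ⁻¹ * mm.val * x₂ ∈ chevF4.borelSubgroup K :=
    Subgroup.mul_mem _ (h8H_le_B chevF4 hmH) (h8U_le_B chevF4 hx₂U)
  obtain ⟨b1, hb1, b2, hb2, e⟩ := h8bn_pos_word chevF4 hB hA hC hBN wk hwk wJ hwJ hpos _ hbB
  have hkey : nk * u2 = (nJ * y * nJ⁻¹ * x₁ * b1) * h8nWU chevF4 hB (wJ ++ wk) * b2 := by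
    have e0 : nk * u2 = (nJ⁻¹ * y * nJ) * (nJ⁻¹ * x * nJ) * nk := by rw [hu2]; group
    have a1 : nJ⁻¹ * y * nJ = nJ * y * nJ⁻¹ := by rw [hnJinv]
    have a2 : nJ⁻¹ * x * nJ = v := by rw [hv, hnJinv]
    have e2 : nJ * y * nJ⁻¹ * v * nk =
        nJ * y * nJ⁻¹ * x₁ * (nJ * (nJ⁻¹ * mm.val * x₂) * nk) := by
      rw [hveq]
      group
    rw [e0, a1, a2, e2, e]
    group
  -- disjointness of the cells
  have hcell : ∃ d1 ∈ chevF4.borelSubgroup K, ∃ d2 ∈ chevF4.borelSubgroup K,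
      nk = d1 * h8nWU chevF4 hB (wJ ++ wk) * d2 := by
    refine ⟨nJ * y * nJ⁻¹ * x₁ * b1, ?_, b2 * u2⁻¹, ?_, ?_⟩
    · exact Subgroup.mul_mem _ (Subgroup.mul_mem _
        (h8U_le_B chevF4 (h8tf_UJ_le_U hy')) (h8U_le_B chevF4 hx₁U)) hb1
    · exact Subgroup.mul_mem _ hb2 (Subgroup.inv_mem _ (h8U_le_B chevF4 hconj))
    · have : nk = nk * u2 * u2⁻¹ := by group
      rw [this, hkey]
      group
  have happ : ∀ i ∈ wJ ++ wk, i < chevF4.rank := by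
    intro i hi
    rw [List.mem_append] at hi
    rcases hi with hi | hi
    · exact hwJ i hi
    · exact hwk i hi
  have hH := h8cell_disjoint chevF4 hB hA hC hBN nk (h8nWU chevF4 hB (wJ ++ wk)) hnkN
    (h8nWU_mem_N chevF4 hB hA _ happ) hcell
  have hsame := h8nWU_H_same (K := K) chevF4 hB hA hBN hW hO2 wk (wJ ++ wk) hwk happ hH
  obtain ⟨r, hr, hrne⟩ := hne
  -- `w_J` moves `r`, so the two words differ at the preimage of `r` under `wk`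
  have hrev : ∀ i ∈ wk.reverse, i < chevF4.rank := fun i hi => hwk i (List.mem_reverse.mp hi)
  have hr' := h8sW_lt chevF4 hA wk.reverse hrev r hr
  have h1 := hsame _ hr'
  rw [h8sW_append, h8sW_reverse chevF4 hA wk hwk r hr] at h1
  exact hrne h1.symm

end Cfsg.Agent.Lib.helper8.OCT
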