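import Mathlib
import Cfsg.Prelude.Def_ChevStructure
import Cfsg.Prelude.Def_ChevF4
import Cfsg.Prelude.Def_LieTwisted
import Cfsg.Prelude.Def_LieExceptional
import Cfsg.Agent.Lib.helper8.OCT.Defs
import Cfsg.Agent.Lib.helper8.OCTI1
import Cfsg.Agent.Lib.helper8.OCTI2
import Cfsg.Agent.Lib.helper8.TWIF4A

/-!
# Project OCT (S2369), concrete side: the cell system of `²F₄(q)`
-/

set_option autoImplicit false

namespace Cfsg.Agent.Lib.helper8.OCT

open Cfsg.Lie Cfsg.Lie.ChevalleyDatum H3 Cfsg.Agent.Lib.helper8 Cfsg.Agent.Lib.helper8.TWIF4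

universe u

variable {K : Type u} [Field K]

/-- `B¹` as a subgroup of `²F₄` -/
def octB (K : Type u) [Field K] (m : ℕ) : Subgroup ↥(twistedF4 K (2 ^ m)) :=
  (chevF4.borelSubgroup K ⊓ twistedF4 K (2 ^ m)).subgroupOf (twistedF4 K (2 ^ m))

/-- `U¹` as a subgroup of `²F₄` -/
def octU (K : Type u) [Field K] (m : ℕ) : Subgroup ↥(twistedF4 K (2 ^ m)) :=
  (chevF4.posUnipotent K ⊓ twistedF4 K (2 ^ m)).subgroupOf (twistedF4 K (2 ^ m))

/-- the two orbits of nodes -/
def octJ (j : ℕ) : Set ℕ := if j = 0 then {0, 3} else {1, 2}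

/-- the unipotent radicals of the two minimal parabolic subgroups -/
def octUj (K : Type u) [Field K] (m : ℕ) (j : ℕ) : Subgroup ↥(twistedF4 K (2 ^ m)) :=
  (chevF4.unipotentRadical K (octJ j) ⊓ twistedF4 K (2 ^ m)).subgroupOf (twistedF4 K (2 ^ m))


theorem octi_tabP : ∀ j < 2, ∀ k < 16, oLen (oMt j k) = oLen k + 1 →
    h8posW chevF4 (h8ofJ j) (h8ofW k) = true := by decide +kernel

theorem octi_tabI : h8ofW 3 = h8ofW 1 ++ h8ofW 2 ∧ h8ofW 4 = h8ofW 2 ++ h8ofW 1 ∧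
    h8ofW 7 = h8ofW 3 ++ h8ofW 3 ∧ h8ofW 8 = h8ofW 4 ++ h8ofW 4 ∧
    h8ofW 11 = h8ofW 3 ++ h8ofW 7 ∧ h8ofW 12 = h8ofW 8 ++ h8ofW 4 := by decide

theorem octi_tabN : ∀ j < 2, ∃ r < chevF4.nroots, h8sW chevF4 (h8ofJ j) r ≠ r := by
  decide +kernel

theorem octi_cell_eq {G : Type*} [Group G] (P : Cfsg.BNPair G) (B : Subgroup G) (hPB : P.B = B)
    (n : ℕ → G) (k : ℕ) : cell B n k = dc P (n k) := by
  ext x
  rw [mem_dc, hPB]
  rfl

/-- the inverse of a representative is a representative -/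
theorem octi_inv [CharP K 2] (hB : H8Base.{u} chevF4) : ∀ k < 16,
    (h8nWU chevF4 hB (h8ofW k) : GL chevF4.Idx K)⁻¹ = h8nWU chevF4 hB (h8ofW (oInv k)) := by
  have hsq : ∀ k ∈ [1, 2, 5, 6, 9, 10, 13, 14, 15],
      (h8nWU chevF4 hB (h8ofW k) : GL chevF4.Idx K)⁻¹ = h8nWU chevF4 hB (h8ofW k) :=
    fun k hk => inv_eq_of_mul_eq_one_left (f4_nsq hB k hk)
  obtain ⟨e3, e4, e7, e8, e11, e12⟩ := octi_tabI
  have h1 := hsq 1 (by simp)
  have h2 := hsq 2 (by simp)
  have i3 : (h8nWU chevF4 hB (h8ofW 3) : GL chevF4.Idx K)⁻¹ = h8nWU chevF4 hB (h8ofW 4) := by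
    rw [e3, e4, h8nWU_append, h8nWU_append, mul_inv_rev, h1, h2]
  have i4 : (h8nWU chevF4 hB (h8ofW 4) : GL chevF4.Idx K)⁻¹ = h8nWU chevF4 hB (h8ofW 3) := by
    rw [← i3, inv_inv]
  have i7 : (h8nWU chevF4 hB (h8ofW 7) : GL chevF4.Idx K)⁻¹ = h8nWU chevF4 hB (h8ofW 8) := by
    rw [e7, e8, h8nWU_append, h8nWU_append, mul_inv_rev, i3]
  have i8 : (h8nWU chevF4 hB (h8ofW 8) : GL chevF4.Idx K)⁻¹ = h8nWU chevF4 hB (h8ofW 7) := by
    rw [← i7, inv_inv]
  have i11 : (h8nWU chevF4 hB (h8ofW 11) : GL chevF4.Idx K)⁻¹ = h8nWU chevF4 hB (h8ofW 12) := by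
    rw [e11, e12, h8nWU_append, h8nWU_append, mul_inv_rev, i3, i7]
  have i12 : (h8nWU chevF4 hB (h8ofW 12) : GL chevF4.Idx K)⁻¹ = h8nWU chevF4 hB (h8ofW 11) := by
    rw [← i11, inv_inv]
  intro k hk
  interval_cases k
  · show (h8nWU chevF4 hB [] : GL chevF4.Idx K)⁻¹ = h8nWU chevF4 hB []
    unfold h8nWU
    simp
  · exact h1
  · exact h2
  · exact i3
  · exact i4
  · exact hsq 5 (by simp)
  · exact hsq 6 (by simp)
  · exact i7
  · exact i8
  · exact hsq 9 (by simp)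
  · exact hsq 10 (by simp)
  · exact i11
  · exact i12
  · exact hsq 13 (by simp)
  · exact hsq 14 (by simp)
  · exact hsq 15 (by simp)

theorem octi_tabW : h8ofW 0 = [] ∧ h8ofW 1 = h8ofJ 0 ∧ h8ofW 2 = h8ofJ 1 ∧ h8ofJ 0 = [0, 3] ∧
    h8ofJ 1 = [1, 2, 1, 2] := by decide

theorem octi_tabE : (oFl = h8ofFl) ∧ (oPar = h8ofPar) ∧ (oMt = h8ofMt) := ⟨rfl, rfl, rfl⟩

theorem octi_B_le_PJ (J : Set ℕ) : chevF4.borelSubgroup K ≤ chevF4.parabolicSubgroup K J := by
  unfold ChevalleyDatum.parabolicSubgroup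
  exact le_sup_left

theorem octi_B_le_normU (hB : H8Base.{u} chevF4) :
    chevF4.borelSubgroup K ≤ Subgroup.normalizer (chevF4.posUnipotent K : Set (GL chevF4.Idx K)) := by
  unfold ChevalleyDatum.borelSubgroup
  exact sup_le Subgroup.le_normalizer (h8_H_le_normalizer_U chevF4 hB)

/-- the cell system of `²F₄(q)` -/
theorem octi_sys [Fintype K] {m : ℕ} (hK : Fintype.card K = 2 ^ (2 * m + 1))
    (hB : H8Base.{u} chevF4) :
    OctSys (octB K m) (octU K m) (octUj K m) (octN hK hB) := by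
  classical
  have hD : chevF4 ∈ [chevG2, chevB2, chevD4, chevF4, chevE6, chevE7, chevE8] := by simp
  have hA := h8reflAll chevF4 hD
  have hBN := h8bn_all chevF4 hD
  have := h8tf_char2 hK
  obtain ⟨P, hPB, hN, hS, hmt, hstep, _, hcov, hdis, _, hPp⟩ := octi_facts hK hB
  have hPB' : P.B = octB K m := hPB
  have hcell : ∀ k, cell (octB K m) (octN hK hB) k = dc P (octN hK hB k) :=
    fun k => octi_cell_eq P _ hPB' _ k
  obtain ⟨eFl, ePar, eMt⟩ := octi_tabE
  obtain ⟨eW0, eW1, eW2, eJ0, eJ1⟩ := octi_tabW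
  have hn0 : octN hK hB 0 = 1 := by
    apply Subtype.ext
    show h8nWU chevF4 hB (h8ofW 0) = 1
    rw [eW0]
    unfold h8nWU
    simp
  have hval : ∀ k, (octN hK hB k).val = h8nWU chevF4 hB (h8ofW k) := fun _ => rfl
  have hnsq : ∀ j < 2, (h8nWU chevF4 hB (h8ofW (j + 1)) : GL chevF4.Idx K) *
      h8nWU chevF4 hB (h8ofW (j + 1)) = 1 := by
    intro j hj
    interval_cases j
    · exact f4_nsq hB 1 (by simp)
    · exact f4_nsq hB 2 (by simp)
  refine ⟨?_, ?_, hn0, ?_, ?_, ?_, ?_, ?_, ?_, ?_, ?_, ?_⟩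
  · -- cov
    intro g
    obtain ⟨k, hk, hg⟩ := hcov g
    exact ⟨k, hk, by rw [hcell]; exact hg⟩
  · -- dis
    intro k hk k' hk' g hg hg'
    rw [hcell] at hg hg'
    exact hdis k hk k' hk' g hg hg'
  · -- step
    intro k hk hk1
    rw [eFl, ePar]
    exact hstep k hk hk1
  · -- mul
    intro j hj k hk b hb
    rw [hcell, hcell, eMt, ← hmt j hj k hk]
    exact t3 (hS j hj) (hN k) (by rw [hPB']; exact hb)
  · -- mulL
    intro j hj k hk hlen b hb
    have hp := hPp j hj k (octi_tabP j hj k hk hlen)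
    rw [hcell, eMt, ← hmt j hj k hk]
    exact hp b (by rw [hPB']; exact hb)
  · -- inv
    intro k hk
    have e : (octN hK hB k)⁻¹ = octN hK hB (oInv k) := by
      apply Subtype.ext
      show ((octN hK hB k).val)⁻¹ = _
      rw [hval, hval]
      exact octi_inv hB k hk
    rw [e]
    exact ⟨1, Subgroup.one_mem _, 1, Subgroup.one_mem _, by simp⟩
  · -- UB
    intro x hx
    unfold octU at hx
    unfold octB
    rw [Subgroup.mem_subgroupOf, Subgroup.mem_inf] at hx ⊢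
    exact ⟨h8U_le_B chevF4 hx.1, hx.2⟩
  · -- Unorm
    intro b hb x hx
    unfold octU at hx ⊢
    unfold octB at hb
    rw [Subgroup.mem_subgroupOf, Subgroup.mem_inf] at hx hb ⊢
    refine ⟨?_, (b * x * b⁻¹).2⟩
    show b.val * x.val * (b.val)⁻¹ ∈ chevF4.posUnipotent K
    exact (Subgroup.mem_normalizer_iff.mp (octi_B_le_normU hB hb.1) x.val).mp hx.1
  · -- Ujn
    intro j hj y hy x hx
    unfold octUj at hx
    unfold octU
    rw [Subgroup.mem_subgroupOf, Subgroup.mem_inf] at hx ⊢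
    refine ⟨?_, (y⁻¹ * x * y).2⟩
    have hyP : y.val ∈ chevF4.parabolicSubgroup K (octJ j) := by
      have hbP : ∀ b ∈ octB K m, b.val ∈ chevF4.parabolicSubgroup K (octJ j) := by
        intro b hb
        unfold octB at hb
        rw [Subgroup.mem_subgroupOf, Subgroup.mem_inf] at hb
        exact octi_B_le_PJ _ hb.1
      rcases hy with ⟨b, hb, b', hb', e⟩ | ⟨b, hb, b', hb', e⟩
      · rw [e, hn0]
        exact Subgroup.mul_mem _ (Subgroup.mul_mem _ (hbP b hb) (Subgroup.one_mem _)) (hbP b' hb')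
      · rw [e]
        refine Subgroup.mul_mem _ (Subgroup.mul_mem _ (hbP b hb) ?_) (hbP b' hb')
        show h8nWU chevF4 hB (h8ofW (j + 1)) ∈ chevF4.parabolicSubgroup K (octJ j)
        apply h8tf_LJ_le_PJ
        apply h8tf_nWU_mem_LJ
        interval_cases j
        · rw [eW1, eJ0]
          intro i hi
          simp only [List.mem_cons, List.not_mem_nil, or_false] at hi
          unfold octJ
          rcases hi with rfl | rfl <;> simp [chevF4]
        · rw [eW2, eJ1]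
          intro i hi
          simp only [List.mem_cons, List.not_mem_nil, or_false] at hi
          unfold octJ
          rcases hi with rfl | rfl | rfl | rfl <;> simp [chevF4]
    have hyinv : (y.val)⁻¹ ∈ chevF4.parabolicSubgroup K (octJ j) := Subgroup.inv_mem _ hyP
    have h1 := (Subgroup.mem_normalizer_iff.mp
      ((Cfsg.Agent.S1048.result (F := K) chevF4 h8tf_F4_mem (octJ j)).1 hyinv) x.val).mp hx.1
    rw [inv_inv] at h1
    exact h8tf_UJ_le_U h1
  · -- pc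
    intro j hj k hk hlen x hx hc
    unfold octU at hx hc
    unfold octUj
    rw [Subgroup.mem_subgroupOf, Subgroup.mem_inf] at hx hc ⊢
    refine ⟨?_, x.2⟩
    have hpos := octi_tabP j hj k hk hlen
    have hne := octi_tabN j hj
    have hc1 : (h8nWU chevF4 hB (h8ofW (j + 1)) * h8nWU chevF4 hB (h8ofW k) : GL chevF4.Idx K)⁻¹ *
        x.val * (h8nWU chevF4 hB (h8ofW (j + 1)) * h8nWU chevF4 hB (h8ofW k)) ∈
        chevF4.posUnipotent K := hc.1
    have hmem := h8tf_nk_mem hK hB (j + 1)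
    have hsq := hnsq j hj
    interval_cases j
    · rw [eW1] at hc1 hmem hsq
      have := octi_pc_gen hK hB h8tfC1 (h8ofW k) (h8of_F2 k) (by rw [← eJ0]; exact hpos)
        (by rw [← eJ0]; exact hne) (by rw [← eJ0]; exact hmem) (by rw [← eJ0]; exact hsq)
        x.val hx.1 hx.2 (by rw [← eJ0]; exact hc1)
      unfold octJ
      simpa using this
    · rw [eW2] at hc1 hmem hsq
      have := octi_pc_gen hK hB h8tfC2 (h8ofW k) (h8of_F2 k) (by rw [← eJ1]; exact hpos)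
        (by rw [← eJ1]; exact hne) (by rw [← eJ1]; exact hmem) (by rw [← eJ1]; exact hsq)
        x.val hx.1 hx.2 (by rw [← eJ1]; exact hc1)
      unfold octJ
      simpa using this
  · -- opp
    intro x hx hc
    unfold octU at hx hc
    rw [Subgroup.mem_subgroupOf, Subgroup.mem_inf] at hx hc
    have hsq := f4_nsq (K := K) hB 15 (by simp)
    set n15 : GL chevF4.Idx K := h8nWU chevF4 hB (h8ofW 15) with hn15
    have hinv : n15⁻¹ = n15 := inv_eq_of_mul_eq_one_left hsq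
    have hc1 : n15⁻¹ * x.val * n15 ∈ chevF4.posUnipotent K := hc.1
    have hV : n15⁻¹ * x.val * n15 ∈ chevF4.negUnipotent K := by
      rw [← h8_conj_U_eq_V chevF4 hB hA (h8ofW 15) h8of_w0chk]
      refine ⟨x.val, hx.1, ?_⟩
      show n15 * x.val * n15⁻¹ = _
      rw [hinv]
    have h1 : n15⁻¹ * x.val * n15 ∈ chevF4.borelSubgroup K ⊓ chevF4.negUnipotent K :=
      ⟨h8U_le_B chevF4 hc1, hV⟩
    rw [h8_B_inf_V chevF4 hB hBN.negOK, Subgroup.mem_bot] at h1
    apply Subtype.ext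
    show x.val = 1
    have : x.val = n15 * (n15⁻¹ * x.val * n15) * n15⁻¹ := by group
    rw [this, h1]
    group

end Cfsg.Agent.Lib.helper8.OCT
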