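import Mathlib
import Cfsg.Prelude.Def_ChevStructure
import Cfsg.Prelude.Def_ChevF4
import Cfsg.Prelude.Def_LieTwisted
import Cfsg.Prelude.Def_LieExceptional
import Cfsg.Agent.Lib.helper8.OCT.Defs
import Cfsg.Agent.Lib.helper8.OCTI3
import Cfsg.Agent.Lib.helper8.SylowConj

/-!
# Project OCT (S2369), concrete side: the Sylow step, the order of the minimal parabolic subgroups, the arithmetic
-/

set_option autoImplicit false

namespace Cfsg.Agent.Lib.helper8.OCT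

open Cfsg.Lie Cfsg.Lie.ChevalleyDatum H3 Cfsg.Agent.Lib.helper8

universe u

/-- an element of order `p` is conjugate into a subgroup of order the full power of `p` -/
theorem octf_conj_into {G : Type*} [Group G] [Finite G] (p e r : ℕ) [hp : Fact p.Prime]
    (U : Subgroup G) (hU : Nat.card U = p ^ e) (hG : Nat.card G = p ^ e * r) (hr : ¬ p ∣ r)
    (a : G) (ha : orderOf a = p) : ∃ g : G, g⁻¹ * a * g ∈ U := by
  have hf : (Nat.card G).factorization p = e := h8_factorization_of_eq p e r _ hp.out hG hr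
  let P : Sylow p G := Sylow.ofCard U (by rw [hU, hf])
  have hPU : (P : Subgroup G) = U := Sylow.coe_ofCard U _
  have hz : IsPGroup p (Subgroup.zpowers a) := by
    apply IsPGroup.of_card (n := 1)
    rw [Nat.card_zpowers, ha, pow_one]
  obtain ⟨Q, hQ⟩ := hz.exists_le_sylow
  obtain ⟨g, hg⟩ := MulAction.exists_smul_eq G P Q
  refine ⟨g, ?_⟩
  rw [← hPU, ← h8_mem_smul_sylow, hg]
  exact hQ (Subgroup.mem_zpowers a)

/-- the arithmetic -/
theorem octf_arith (q N : ℕ) (hq : 2 ≤ q)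
    (hN : N = q ^ 12 * (q - 1) ^ 2 ∨ N = q ^ 12 * (q - 1) ^ 2 * (1 + q) ∨
      N = q ^ 12 * (q - 1) ^ 2 * (1 + q ^ 2)) :
    N ≠ 0 ∧ N ∣ (q * (q ^ 4 - 1)) ^ 13 := by
  obtain ⟨t, rfl⟩ : ∃ t, q = t + 2 := ⟨q - 2, by omega⟩
  have e1 : t + 2 - 1 = t + 1 := by omega
  have e4 : (t + 2) ^ 4 - 1 = (t + 1) * (t + 3) * ((t + 2) ^ 2 + 1) := by
    have : (t + 2) ^ 4 = (t + 1) * (t + 3) * ((t + 2) ^ 2 + 1) + 1 := by ring
    omega
  rw [e1] at hN
  rw [e4]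
  rcases hN with rfl | rfl | rfl
  · refine ⟨by positivity, ?_⟩
    exact ⟨(t + 2) * (t + 1) ^ 11 * ((t + 3) * ((t + 2) ^ 2 + 1)) ^ 13, by ring⟩
  · refine ⟨by positivity, ?_⟩
    exact ⟨(t + 2) * (t + 1) ^ 11 * (t + 3) ^ 12 * ((t + 2) ^ 2 + 1) ^ 13, by ring⟩
  · refine ⟨by positivity, ?_⟩
    exact ⟨(t + 2) * (t + 1) ^ 11 * (t + 3) ^ 13 * ((t + 2) ^ 2 + 1) ^ 12, by ring⟩

variable {K : Type u} [Field K]

/-- the order of `B ∪ B s_J B` -/
theorem octf_card [Fintype K] {m : ℕ} (hK : Fintype.card K = 2 ^ (2 * m + 1))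
    (hB : H8Base.{u} chevF4) (J : ℕ) (hJ : J < 3) (Q : Subgroup ↥(twistedF4 K (2 ^ m)))
    (hQ : (Q : Set ↥(twistedF4 K (2 ^ m))) =
      cell (octB K m) (octN hK hB) 0 ∪ cell (octB K m) (octN hK hB) J) :
    Nat.card ↥Q = (2 ^ (2 * m + 1)) ^ 12 * (2 ^ (2 * m + 1) - 1) ^ 2 ∨
    Nat.card ↥Q = (2 ^ (2 * m + 1)) ^ 12 * (2 ^ (2 * m + 1) - 1) ^ 2 * (1 + 2 ^ (2 * m + 1)) ∨
    Nat.card ↥Q = (2 ^ (2 * m + 1)) ^ 12 * (2 ^ (2 * m + 1) - 1) ^ 2 *
      (1 + (2 ^ (2 * m + 1)) ^ 2) := by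
  classical
  obtain ⟨P, hPB, hN, hS, hmt, hstep, _, hcov, hdis, hsize, hPp⟩ := octi_facts hK hB
  have hPB' : P.B = octB K m := hPB
  have hcell : ∀ k, cell (octB K m) (octN hK hB) k = dc P (octN hK hB k) :=
    fun k => octi_cell_eq P _ hPB' _ k
  have hBc : Nat.card ↥P.B = (2 ^ (2 * m + 1)) ^ 12 * (2 ^ (2 * m + 1) - 1) ^ 2 := by
    rw [h8tf_B_card hK P hPB, (h8tf_card_both hK).1, h8tf_H_card hK]
  have hQc : Nat.card ↥Q = Nat.card ↥(Q : Set ↥(twistedF4 K (2 ^ m))) := rfl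
  rw [hQc, hQ, hcell, hcell]
  have hL : h8ofLen 0 = 0 ∧ h8ofLen 1 = 1 ∧ h8ofLen 2 = 2 := ⟨rfl, rfl, rfl⟩
  have hfin : ∀ s : Set ↥(twistedF4 K (2 ^ m)), s.Finite := fun s => Set.toFinite s
  have hunion : ∀ k < 16, k ≠ 0 → Nat.card ↥(dc P (octN hK hB 0) ∪ dc P (octN hK hB k)) =
      Nat.card ↥(dc P (octN hK hB 0)) + Nat.card ↥(dc P (octN hK hB k)) := by
    intro k hk hk0
    rw [Nat.card_coe_set_eq, Nat.card_coe_set_eq, Nat.card_coe_set_eq]
    apply Set.ncard_union_eq _ (hfin _) (hfin _)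
    rw [Set.disjoint_left]
    intro g hg hg'
    exact hk0 (hdis 0 (by norm_num) k hk g hg hg').symm
  interval_cases J
  · left
    rw [Set.union_self, hsize 0 (by norm_num), hL.1, pow_zero, mul_one, hBc]
  · right; left
    rw [hunion 1 (by norm_num) (by norm_num), hsize 0 (by norm_num), hsize 1 (by norm_num),
      hL.1, hL.2.1, hBc]
    ring
  · right; right
    rw [hunion 2 (by norm_num) (by norm_num), hsize 0 (by norm_num), hsize 2 (by norm_num),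
      hL.1, hL.2.2, hBc]
    ring

/-- S2369 from the centre-of-the-tree theorem -/
theorem octf_final [Fintype K] {m : ℕ} (hK : Fintype.card K = 2 ^ (2 * m + 1))
    (hB : H8Base.{u} chevF4)
    (hmain : ∀ a : ↥(twistedF4 K (2 ^ m)), a ≠ 1 → (∃ g, g⁻¹ * a * g ∈ octU K m) →
      ∃ g0 : ↥(twistedF4 K (2 ^ m)), ∃ J < 3, ∃ Q : Subgroup ↥(twistedF4 K (2 ^ m)),
        (Q : Set ↥(twistedF4 K (2 ^ m))) =
          cell (octB K m) (octN hK hB) 0 ∪ cell (octB K m) (octN hK hB) J ∧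
        ∀ x : ↥(twistedF4 K (2 ^ m)), x * a = a * x → g0⁻¹ * x * g0 ∈ Q)
    (a b : ↥(twistedF4 K (2 ^ m))) (ha : orderOf a = 2) (hab : Commute a b) :
    (orderOf b).primeFactors ⊆
      (2 ^ (2 * m + 1) * ((2 ^ (2 * m + 1)) ^ 4 - 1)).primeFactors := by
  classical
  have ha1 : a ≠ 1 := by
    intro h
    rw [h, orderOf_one] at ha
    omega
  have : Fact (Nat.Prime 2) := ⟨Nat.prime_two⟩
  -- the Sylow step
  have hX : ∃ g, g⁻¹ * a * g ∈ octU K m := by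
    obtain ⟨hU, hG⟩ := h8tf_card_both hK
    have hUc : Nat.card ↥(octU K m) = 2 ^ ((2 * m + 1) * 12) := by
      unfold octU
      rw [Nat.card_congr (Subgroup.subgroupOfEquivOfLe inf_le_right).toEquiv, hU, ← pow_mul]
    apply octf_conj_into 2 ((2 * m + 1) * 12)
      ((2 ^ (2 * m + 1) - 1) * ((2 ^ (2 * m + 1)) ^ 3 + 1) *
        ((2 ^ (2 * m + 1)) ^ 4 - 1) * ((2 ^ (2 * m + 1)) ^ 6 + 1)) (octU K m) hUc
      (by rw [hG, pow_mul]; ring) ?_ a ha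
    have hq : 2 ∣ 2 ^ (2 * m + 1) := dvd_pow_self 2 (by omega)
    obtain ⟨c, hc⟩ := hq
    have hc1 : 1 ≤ c := by
      rcases Nat.eq_zero_or_pos c with h | h
      · rw [h, mul_zero] at hc
        exact absurd hc (pow_ne_zero _ (by norm_num))
      · exact h
    rw [hc]
    intro hdvd
    have h1 : ¬ 2 ∣ 2 * c - 1 := by omega
    have h2 : ¬ 2 ∣ (2 * c) ^ 3 + 1 := by
      rw [show (2 * c) ^ 3 = 2 * (4 * c ^ 3) by ring]
      omega
    have h3 : ¬ 2 ∣ (2 * c) ^ 4 - 1 := by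
      have : 1 ≤ 8 * c ^ 4 := Nat.one_le_iff_ne_zero.mpr (by positivity)
      rw [show (2 * c) ^ 4 = 2 * (8 * c ^ 4) by ring]
      omega
    have h4 : ¬ 2 ∣ (2 * c) ^ 6 + 1 := by
      rw [show (2 * c) ^ 6 = 2 * (32 * c ^ 6) by ring]
      omega
    rcases (Nat.Prime.dvd_mul Nat.prime_two).mp hdvd with h | h
    · rcases (Nat.Prime.dvd_mul Nat.prime_two).mp h with h | h
      · rcases (Nat.Prime.dvd_mul Nat.prime_two).mp h with h | h
        · exact h1 h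
        · exact h2 h
      · exact h3 h
    · exact h4 h
  obtain ⟨g0, J, hJ, Q, hQ, hcent⟩ := hmain a ha1 hX
  have hbQ : g0⁻¹ * b * g0 ∈ Q := hcent b hab.eq.symm
  have hdvd : orderOf b ∣ Nat.card ↥Q := by
    rw [← h8_orderOf_conj g0 b]
    exact Subgroup.orderOf_dvd_natCard Q hbQ
  have hq2 : 2 ≤ 2 ^ (2 * m + 1) := by
    calc 2 = 2 ^ 1 := by norm_num
      _ ≤ 2 ^ (2 * m + 1) := Nat.pow_le_pow_right (by norm_num) (by omega)
  obtain ⟨hne, hd2⟩ := octf_arith (2 ^ (2 * m + 1)) (Nat.card ↥Q) hq2 (octf_card hK hB J hJ Q hQ)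
  have h1 : (orderOf b).primeFactors ⊆ (Nat.card ↥Q).primeFactors :=
    Nat.primeFactors_mono hdvd hne
  have h2 : (Nat.card ↥Q).primeFactors ⊆
      ((2 ^ (2 * m + 1) * ((2 ^ (2 * m + 1)) ^ 4 - 1)) ^ 13).primeFactors := by
    apply Nat.primeFactors_mono hd2
    apply pow_ne_zero
    have : 1 < (2 ^ (2 * m + 1)) ^ 4 := Nat.one_lt_pow (by norm_num) (by omega)
    have : 0 < (2 ^ (2 * m + 1)) ^ 4 - 1 := by omega
    positivity
  rw [Nat.primeFactors_pow _ (by norm_num)] at h2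
  exact h1.trans h2

end Cfsg.Agent.Lib.helper8.OCT
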