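import Mathlib
import Cfsg.Agent.Lib.helper6.P4T.Defs

set_option autoImplicit false

/-! # P4T row TA2 (t3_lower): core with the cited rows TS2, SL6, SL7, SL8 as hypotheses -/

namespace Cfsg.Agent.Lib.helper23.P4S

open Matrix
open scoped Kronecker

/-- `g^k = 1 ↔ 2 m ∣ 2 k` for all `k` gives `orderOf g = m` -/
theorem p4tta2_order {M : Type*} [Monoid M] (g : M) (r m : ℕ) (hr : r = 2 * m)
    (h : ∀ k : ℕ, g ^ k = 1 ↔ r ∣ 2 * k) : orderOf g = m := by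
  have h' : ∀ k : ℕ, g ^ k = 1 ↔ m ∣ k := by
    intro k
    rw [h k, hr]
    exact Nat.mul_dvd_mul_iff_left (by norm_num)
  apply Nat.dvd_antisymm
  · exact orderOf_dvd_of_pow_eq_one ((h' m).mpr dvd_rfl)
  · exact (h' (orderOf g)).mp (pow_orderOf_eq_one g)

/-- arithmetic of `q = 3^(2t)` -/
theorem p4tta2_arith (t : ℕ) (ht : 1 ≤ t) :
    9 ≤ 3 ^ (2 * t) ∧ Odd (3 ^ (2 * t)) := by
  constructor
  · calc 9 = 3 ^ 2 := by norm_num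
      _ ≤ 3 ^ (2 * t) := Nat.pow_le_pow_right (by norm_num) (by omega)
  · exact Odd.pow (by decide)

/-- TA2 core -/
theorem p4tta2_core {E : Type} [Field E] [Fintype E] [CharP E 3] (t : ℕ) (ht : 1 ≤ t)
    (hss : ∀ A : Matrix.SpecialLinearGroup (Fin 2) E, A.1.trace ^ 2 ≠ 4 →
      ∃ r : ℕ, 0 < r ∧ ¬ r ∣ 2 ∧ orderOf A = r ∧ (r ∣ (3 ^ (2 * t)) ^ 2 - 1 ∨ r ∣ (3 ^ (2 * t)) ^ 2 + 1) ∧
      (∀ k : ℕ, (rho12 (frq E 3 (2 * t)) (frq E 3 (2 * t + 1)) A) ^ k = 1 ↔ r ∣ 2 * k) ∧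
      (gsum ((rho12 (frq E 3 (2 * t)) (frq E 3 (2 * t + 1)) A : GL (Fin 3 × (Fin 2 × Fin 2)) E) :
            Matrix (Fin 3 × (Fin 2 × Fin 2)) (Fin 3 × (Fin 2 × Fin 2)) E)
          (orderOf (rho12 (frq E 3 (2 * t)) (frq E 3 (2 * t + 1)) A)) ≠ 0 ↔
        (r ∣ 2 * (3 ^ (2 * t) + 1) ∨ r ∣ 2 * (3 ^ (2 * t) - 1))))
    (hSL6 : ∀ A : Matrix.SpecialLinearGroup (Fin 2) E, A.1.trace ^ 2 = 4 → orderOf A ∣ 2 * 3)
    (hSL7 : ∀ r : ℕ, r ∣ (3 ^ (2 * t)) ^ 2 - 1 → ¬ r ∣ 2 →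
      ∃ a : Eˣ, orderOf a = r ∧ ∃ A : Matrix.SpecialLinearGroup (Fin 2) E,
        A.1 = Matrix.diagonal ![(a : E), ((a⁻¹ : Eˣ) : E)] ∧ orderOf A = r ∧ A.1.trace ^ 2 ≠ 4)
    (hSL8 : ∃ A : Matrix.SpecialLinearGroup (Fin 2) E, orderOf A = (3 ^ (2 * t)) ^ 2 + 1) :
    (∃ g ∈ H12 (frq E 3 (2 * t)) (frq E 3 (2 * t + 1)), orderOf g = ((3 ^ (2 * t)) ^ 2 + 1) / 2) ∧
    (∃ g ∈ H12 (frq E 3 (2 * t)) (frq E 3 (2 * t + 1)), orderOf g = ((3 ^ (2 * t)) ^ 2 - 1) / 2) ∧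
    (∃ g ∈ H12 (frq E 3 (2 * t)) (frq E 3 (2 * t + 1)), orderOf g = 3 ^ (2 * t) + 1 ∧
      gsum ((g : GL (Fin 3 × (Fin 2 × Fin 2)) E) : Matrix (Fin 3 × (Fin 2 × Fin 2)) (Fin 3 × (Fin 2 × Fin 2)) E)
        (orderOf g) ≠ 0) ∧
    (∃ g ∈ H12 (frq E 3 (2 * t)) (frq E 3 (2 * t + 1)), orderOf g = 3 ^ (2 * t) - 1 ∧
      gsum ((g : GL (Fin 3 × (Fin 2 × Fin 2)) E) : Matrix (Fin 3 × (Fin 2 × Fin 2)) (Fin 3 × (Fin 2 × Fin 2)) E)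
        (orderOf g) ≠ 0) := by
  obtain ⟨hq9, hqodd⟩ := p4tta2_arith t ht
  obtain ⟨q, hq⟩ : ∃ q : ℕ, q = 3 ^ (2 * t) := ⟨_, rfl⟩
  rw [← hq] at hss hSL7 hSL8 hq9 hqodd ⊢
  obtain ⟨c, hc⟩ := hqodd
  have hqq : q ^ 2 = 4 * (c * c + c) + 1 := by rw [hc]; ring
  have hc4 : 4 ≤ c := by omega
  have hcc : 16 ≤ c * c := Nat.mul_le_mul hc4 hc4
  have hmem : ∀ A, rho12 (frq E 3 (2 * t)) (frq E 3 (2 * t + 1)) A ∈ H12 (frq E 3 (2 * t)) (frq E 3 (2 * t + 1)) :=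
    fun A => ⟨A, rfl⟩
  refine ⟨?_, ?_, ?_, ?_⟩
  · -- (q^2+1)/2
    obtain ⟨A, hA⟩ := hSL8
    have htr : A.1.trace ^ 2 ≠ 4 := by
      intro h4
      have hd := hSL6 A h4
      rw [hA] at hd
      have := Nat.le_of_dvd (by norm_num) hd
      omega
    obtain ⟨r, _, _, hr, _, hpow, _⟩ := hss A htr
    refine ⟨_, hmem A, ?_⟩
    have hr' : r = 2 * ((q ^ 2 + 1) / 2) := by
      rw [← hr, hA]; omega
    exact p4tta2_order _ r _ hr' hpow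
  · -- (q^2-1)/2
    have hd : q ^ 2 - 1 ∣ q ^ 2 - 1 := dvd_rfl
    have h2 : ¬ q ^ 2 - 1 ∣ 2 := by
      intro h
      have := Nat.le_of_dvd (by norm_num) h
      omega
    obtain ⟨a, _, A, _, hA, htr⟩ := hSL7 _ hd h2
    obtain ⟨r, _, _, hr, _, hpow, _⟩ := hss A htr
    refine ⟨_, hmem A, ?_⟩
    have hr' : r = 2 * ((q ^ 2 - 1) / 2) := by
      rw [← hr, hA]; omega
    exact p4tta2_order _ r _ hr' hpow
  · -- q + 1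
    have hd : 2 * (q + 1) ∣ q ^ 2 - 1 := by
      refine ⟨c, ?_⟩
      rw [hqq, hc]
      have : 4 * (c * c + c) + 1 - 1 = 4 * (c * c + c) := by omega
      rw [this]; ring
    have h2 : ¬ 2 * (q + 1) ∣ 2 := by
      intro h
      have := Nat.le_of_dvd (by norm_num) h
      omega
    obtain ⟨a, _, A, _, hA, htr⟩ := hSL7 _ hd h2
    obtain ⟨r, _, _, hr, _, hpow, hg⟩ := hss A htr
    have hr' : r = 2 * (q + 1) := by rw [← hr, hA]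
    have hord := p4tta2_order _ r _ hr' hpow
    refine ⟨_, hmem A, hord, ?_⟩
    rw [hg]
    left
    rw [hr']
  · -- q - 1
    have hd : 2 * (q - 1) ∣ q ^ 2 - 1 := by
      refine ⟨c + 1, ?_⟩
      rw [hqq, hc]
      have h1 : 4 * (c * c + c) + 1 - 1 = 4 * (c * c + c) := by omega
      have h2 : 2 * c + 1 - 1 = 2 * c := by omega
      rw [h1, h2]; ring
    have h2 : ¬ 2 * (q - 1) ∣ 2 := by
      intro h
      have := Nat.le_of_dvd (by norm_num) h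
      omega
    obtain ⟨a, _, A, _, hA, htr⟩ := hSL7 _ hd h2
    obtain ⟨r, _, _, hr, _, hpow, hg⟩ := hss A htr
    have hr' : r = 2 * (q - 1) := by rw [← hr, hA]
    have hord := p4tta2_order _ r _ hr' hpow
    refine ⟨_, hmem A, hord, ?_⟩
    rw [hg]
    right
    rw [hr']

end Cfsg.Agent.Lib.helper23.P4S
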