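import Mathlib
import Cfsg.Agent.Lib.helper6.P4T.Defs
import Cfsg.Agent.Lib.helper8.P4TTA2core
import Cfsg.Agent.Lib.Helper24.P4CSL6
import Cfsg.Agent.Lib.Helper22.P4CSL7
import Cfsg.Agent.Lib.Helper20.P4CSL8
import Cfsg.Agent.Lib.helper6.P4TTS2

set_option autoImplicit false

namespace Cfsg.Agent.Lib.helper23.P4S

open Matrix
open scoped Kronecker

theorem t3_lower_h8 {E : Type} [Field E] [Fintype E] [CharP E 3] (t : ℕ) (ht : 1 ≤ t)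
    (hE : Fintype.card E = 3 ^ (2 * (2 * t))) :
    (∃ g ∈ H12 (frq E 3 (2 * t)) (frq E 3 (2 * t + 1)), orderOf g = ((3 ^ (2 * t)) ^ 2 + 1) / 2) ∧
    (∃ g ∈ H12 (frq E 3 (2 * t)) (frq E 3 (2 * t + 1)), orderOf g = ((3 ^ (2 * t)) ^ 2 - 1) / 2) ∧
    (∃ g ∈ H12 (frq E 3 (2 * t)) (frq E 3 (2 * t + 1)), orderOf g = 3 ^ (2 * t) + 1 ∧
      gsum ((g : GL (Fin 3 × (Fin 2 × Fin 2)) E) : Matrix (Fin 3 × (Fin 2 × Fin 2)) (Fin 3 × (Fin 2 × Fin 2)) E)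
        (orderOf g) ≠ 0) ∧
    (∃ g ∈ H12 (frq E 3 (2 * t)) (frq E 3 (2 * t + 1)), orderOf g = 3 ^ (2 * t) - 1 ∧
      gsum ((g : GL (Fin 3 × (Fin 2 × Fin 2)) E) : Matrix (Fin 3 × (Fin 2 × Fin 2)) (Fin 3 × (Fin 2 × Fin 2)) E)
        (orderOf g) ≠ 0) := by
  have hn : 1 ≤ 2 * t := by omega
  exact p4tta2_core t ht (fun A htr => rho12_ss t ht hE A htr)
    (fun A htr => sl2_uni_order 3 A htr)
    (fun r hr h2 => exists_split 3 (2 * t) hn hE r hr h2)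
    (exists_nonsplit 3 (2 * t) hn hE)

end Cfsg.Agent.Lib.helper23.P4S
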