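import Mathlib
import Cfsg.Prelude.Def_Classical

/-! O5 coordinates: vectors, matrices given by rows, root matrices for the quadratic form
`x0^2 + x1*y1 + x2*y2`. -/

namespace Cfsg.Agent.Lib.helper8

open Matrix

set_option linter.unusedSectionVars false

variable {F : Type*} [Field F]

abbrev H8I5 : Type := Unit ⊕ (Fin 2 ⊕ Fin 2)

/-- vector with coordinates (v0; x1, x2; y1, y2) -/
def h8v5 (a x1 x2 y1 y2 : F) : H8I5 → F :=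
  Sum.elim (fun _ => a) (Sum.elim ![x1, x2] ![y1, y2])

@[simp] theorem h8v5_0 (a x1 x2 y1 y2 : F) : h8v5 a x1 x2 y1 y2 (Sum.inl ()) = a := rfl
@[simp] theorem h8v5_x1 (a x1 x2 y1 y2 : F) : h8v5 a x1 x2 y1 y2 (Sum.inr (Sum.inl 0)) = x1 := rfl
@[simp] theorem h8v5_x2 (a x1 x2 y1 y2 : F) : h8v5 a x1 x2 y1 y2 (Sum.inr (Sum.inl 1)) = x2 := rfl
@[simp] theorem h8v5_y1 (a x1 x2 y1 y2 : F) : h8v5 a x1 x2 y1 y2 (Sum.inr (Sum.inr 0)) = y1 := rfl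
@[simp] theorem h8v5_y2 (a x1 x2 y1 y2 : F) : h8v5 a x1 x2 y1 y2 (Sum.inr (Sum.inr 1)) = y2 := rfl

theorem h8v5_eta (v : H8I5 → F) :
    v = h8v5 (v (Sum.inl ())) (v (Sum.inr (Sum.inl 0))) (v (Sum.inr (Sum.inl 1)))
      (v (Sum.inr (Sum.inr 0))) (v (Sum.inr (Sum.inr 1))) := by
  funext i
  rcases i with ⟨⟩ | i | i
  · rfl
  · fin_cases i <;> rfl
  · fin_cases i <;> rfl

theorem h8v5_ext {a x1 x2 y1 y2 a' x1' x2' y1' y2' : F} (h0 : a = a') (h1 : x1 = x1')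
    (h2 : x2 = x2') (h3 : y1 = y1') (h4 : y2 = y2') :
    h8v5 a x1 x2 y1 y2 = h8v5 a' x1' x2' y1' y2' := by
  rw [h0, h1, h2, h3, h4]

theorem h8v5_inj {a x1 x2 y1 y2 a' x1' x2' y1' y2' : F}
    (h : h8v5 a x1 x2 y1 y2 = h8v5 a' x1' x2' y1' y2') :
    a = a' ∧ x1 = x1' ∧ x2 = x2' ∧ y1 = y1' ∧ y2 = y2' := by
  refine ⟨?_, ?_, ?_, ?_, ?_⟩
  · simpa using congrFun h (Sum.inl ())
  · simpa using congrFun h (Sum.inr (Sum.inl 0))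
  · simpa using congrFun h (Sum.inr (Sum.inl 1))
  · simpa using congrFun h (Sum.inr (Sum.inr 0))
  · simpa using congrFun h (Sum.inr (Sum.inr 1))

theorem h8v5_dot (a x1 x2 y1 y2 a' x1' x2' y1' y2' : F) :
    h8v5 a x1 x2 y1 y2 ⬝ᵥ h8v5 a' x1' x2' y1' y2' =
      a * a' + x1 * x1' + x2 * x2' + y1 * y1' + y2 * y2' := by
  simp [dotProduct, Fintype.sum_sum_type, h8v5, Fin.sum_univ_two]
  ring

theorem h8v5_add (a x1 x2 y1 y2 a' x1' x2' y1' y2' : F) :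
    h8v5 a x1 x2 y1 y2 + h8v5 a' x1' x2' y1' y2' =
      h8v5 (a + a') (x1 + x1') (x2 + x2') (y1 + y1') (y2 + y2') := by
  funext i
  rcases i with ⟨⟩ | i | i
  · rfl
  · fin_cases i <;> rfl
  · fin_cases i <;> rfl

theorem h8v5_smul (c a x1 x2 y1 y2 : F) :
    c • h8v5 a x1 x2 y1 y2 = h8v5 (c * a) (c * x1) (c * x2) (c * y1) (c * y2) := by
  funext i
  rcases i with ⟨⟩ | i | i
  · rfl
  · fin_cases i <;> rfl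
  · fin_cases i <;> rfl

/-- matrix given by its five rows -/
def h8M5 (r0 r1 r2 r3 r4 : H8I5 → F) : Matrix H8I5 H8I5 F :=
  Matrix.of (Sum.elim (fun _ => r0) (Sum.elim ![r1, r2] ![r3, r4]))

theorem h8M5_mulVec (r0 r1 r2 r3 r4 v : H8I5 → F) :
    h8M5 r0 r1 r2 r3 r4 *ᵥ v = h8v5 (r0 ⬝ᵥ v) (r1 ⬝ᵥ v) (r2 ⬝ᵥ v) (r3 ⬝ᵥ v) (r4 ⬝ᵥ v) := by
  funext i
  rcases i with ⟨⟩ | i | i
  · rfl
  · fin_cases i <;> rfl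
  · fin_cases i <;> rfl

theorem h8mat5_ext {A B : Matrix H8I5 H8I5 F}
    (h : ∀ a x1 x2 y1 y2 : F, A *ᵥ h8v5 a x1 x2 y1 y2 = B *ᵥ h8v5 a x1 x2 y1 y2) : A = B := by
  ext i j
  have hj : ∀ v : H8I5 → F, A *ᵥ v = B *ᵥ v := by
    intro v
    rw [h8v5_eta v]
    exact h _ _ _ _ _
  have := congrFun (hj (Pi.single j 1)) i
  simpa using this

/-- the quadratic form in coordinates -/
theorem h8q5 (a x1 x2 y1 y2 : F) :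
    Cfsg.quadFormOdd 2 F (h8v5 a x1 x2 y1 y2) = a ^ 2 + x1 * y1 + x2 * y2 := by
  simp [Cfsg.quadFormOdd, Fin.sum_univ_two, h8v5]
  ring

/-- the root matrices, with the signs matching the structure constants of `chevB2` -/
def h8R5 (r : ℕ) (t : F) : Matrix H8I5 H8I5 F :=
  match r with
  | 0 => h8M5 (h8v5 1 0 0 0 0) (h8v5 0 1 0 0 0) (h8v5 0 0 1 0 0) (h8v5 0 0 (-t) 1 0) (h8v5 0 t 0 0 1)
  | 1 => h8M5 (h8v5 1 (-t) 0 0 0) (h8v5 0 1 0 0 0) (h8v5 0 0 1 0 0) (h8v5 (2 * t) (-t ^ 2) 0 1 0) (h8v5 0 0 0 0 1)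
  | 2 => h8M5 (h8v5 1 0 (-t) 0 0) (h8v5 0 1 0 0 0) (h8v5 0 0 1 0 0) (h8v5 0 0 0 1 0) (h8v5 (2 * t) 0 (-t ^ 2) 0 1)
  | 3 => h8M5 (h8v5 1 0 0 0 0) (h8v5 0 1 0 0 0) (h8v5 0 t 1 0 0) (h8v5 0 0 0 1 (-t)) (h8v5 0 0 0 0 1)
  | 4 => h8M5 (h8v5 1 0 0 0 0) (h8v5 0 1 t 0 0) (h8v5 0 0 1 0 0) (h8v5 0 0 0 1 0) (h8v5 0 0 0 (-t) 1)
  | 5 => h8M5 (h8v5 1 0 0 0 t) (h8v5 0 1 0 0 0) (h8v5 (-(2 * t)) 0 1 0 (-t ^ 2)) (h8v5 0 0 0 1 0) (h8v5 0 0 0 0 1)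
  | 6 => h8M5 (h8v5 1 0 0 t 0) (h8v5 (-(2 * t)) 1 0 (-t ^ 2) 0) (h8v5 0 0 1 0 0) (h8v5 0 0 0 1 0) (h8v5 0 0 0 0 1)
  | 7 => h8M5 (h8v5 1 0 0 0 0) (h8v5 0 1 0 0 t) (h8v5 0 0 1 (-t) 0) (h8v5 0 0 0 1 0) (h8v5 0 0 0 0 1)
  | _ => 1

theorem h8R5_mv0 (t a x1 x2 y1 y2 : F) : h8R5 0 t *ᵥ h8v5 a x1 x2 y1 y2 =
    h8v5 a x1 x2 (y1 - t * x2) (y2 + t * x1) := by
  simp only [h8R5, h8M5_mulVec, h8v5_dot]; apply h8v5_ext <;> ring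
theorem h8R5_mv1 (t a x1 x2 y1 y2 : F) : h8R5 1 t *ᵥ h8v5 a x1 x2 y1 y2 =
    h8v5 (a - t * x1) x1 x2 (y1 + 2 * t * a - t ^ 2 * x1) y2 := by
  simp only [h8R5, h8M5_mulVec, h8v5_dot]; apply h8v5_ext <;> ring
theorem h8R5_mv2 (t a x1 x2 y1 y2 : F) : h8R5 2 t *ᵥ h8v5 a x1 x2 y1 y2 =
    h8v5 (a - t * x2) x1 x2 y1 (y2 + 2 * t * a - t ^ 2 * x2) := by
  simp only [h8R5, h8M5_mulVec, h8v5_dot]; apply h8v5_ext <;> ring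
theorem h8R5_mv3 (t a x1 x2 y1 y2 : F) : h8R5 3 t *ᵥ h8v5 a x1 x2 y1 y2 =
    h8v5 a x1 (x2 + t * x1) (y1 - t * y2) y2 := by
  simp only [h8R5, h8M5_mulVec, h8v5_dot]; apply h8v5_ext <;> ring
theorem h8R5_mv4 (t a x1 x2 y1 y2 : F) : h8R5 4 t *ᵥ h8v5 a x1 x2 y1 y2 =
    h8v5 a (x1 + t * x2) x2 y1 (y2 - t * y1) := by
  simp only [h8R5, h8M5_mulVec, h8v5_dot]; apply h8v5_ext <;> ring
theorem h8R5_mv5 (t a x1 x2 y1 y2 : F) : h8R5 5 t *ᵥ h8v5 a x1 x2 y1 y2 =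
    h8v5 (a + t * y2) x1 (x2 - 2 * t * a - t ^ 2 * y2) y1 y2 := by
  simp only [h8R5, h8M5_mulVec, h8v5_dot]; apply h8v5_ext <;> ring
theorem h8R5_mv6 (t a x1 x2 y1 y2 : F) : h8R5 6 t *ᵥ h8v5 a x1 x2 y1 y2 =
    h8v5 (a + t * y1) (x1 - 2 * t * a - t ^ 2 * y1) x2 y1 y2 := by
  simp only [h8R5, h8M5_mulVec, h8v5_dot]; apply h8v5_ext <;> ring
theorem h8R5_mv7 (t a x1 x2 y1 y2 : F) : h8R5 7 t *ᵥ h8v5 a x1 x2 y1 y2 =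
    h8v5 a (x1 + t * y2) (x2 - t * y1) y1 y2 := by
  simp only [h8R5, h8M5_mulVec, h8v5_dot]; apply h8v5_ext <;> ring

theorem h8R5_big (r : ℕ) (hr : 8 ≤ r) (t : F) : h8R5 r t = 1 := by
  unfold h8R5
  split <;> first | omega | rfl

end Cfsg.Agent.Lib.helper8
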