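import Cfsg.Agent.Lib.helper8.PoB1
import Cfsg.Agent.Lib.helper8.ChevUC12

/-! O5 root elements as isometries; Steinberg relations of type B2. -/

namespace Cfsg.Agent.Lib.helper8

open Matrix Cfsg.Lie Cfsg.Lie.ChevalleyDatum

set_option linter.unusedSectionVars false
set_option linter.unusedVariables false
set_option linter.unusedSimpArgs false
set_option linter.unusedTactic false

variable {F : Type*} [Field F]

theorem h8R5_mv_one (a x1 x2 y1 y2 : F) :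
    (1 : Matrix H8I5 H8I5 F) *ᵥ h8v5 a x1 x2 y1 y2 = h8v5 a x1 x2 y1 y2 := Matrix.one_mulVec _

theorem h8R5_add (r : ℕ) (t u : F) : h8R5 r t * h8R5 r u = h8R5 r (t + u) := by
  apply h8mat5_ext
  intro a x1 x2 y1 y2
  rw [← Matrix.mulVec_mulVec]
  match r with
  | 0 => simp only [h8R5_mv0]; apply h8v5_ext <;> ring
  | 1 => simp only [h8R5_mv1]; apply h8v5_ext <;> ring
  | 2 => simp only [h8R5_mv2]; apply h8v5_ext <;> ring
  | 3 => simp only [h8R5_mv3]; apply h8v5_ext <;> ring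
  | 4 => simp only [h8R5_mv4]; apply h8v5_ext <;> ring
  | 5 => simp only [h8R5_mv5]; apply h8v5_ext <;> ring
  | 6 => simp only [h8R5_mv6]; apply h8v5_ext <;> ring
  | 7 => simp only [h8R5_mv7]; apply h8v5_ext <;> ring
  | (n + 8) => simp only [h8R5_big (n + 8) (by omega), Matrix.one_mulVec]

theorem h8R5_zero (r : ℕ) : h8R5 r (0 : F) = 1 := by
  apply h8mat5_ext
  intro a x1 x2 y1 y2
  match r with
  | 0 => simp only [h8R5_mv0, Matrix.one_mulVec]; apply h8v5_ext <;> ring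
  | 1 => simp only [h8R5_mv1, Matrix.one_mulVec]; apply h8v5_ext <;> ring
  | 2 => simp only [h8R5_mv2, Matrix.one_mulVec]; apply h8v5_ext <;> ring
  | 3 => simp only [h8R5_mv3, Matrix.one_mulVec]; apply h8v5_ext <;> ring
  | 4 => simp only [h8R5_mv4, Matrix.one_mulVec]; apply h8v5_ext <;> ring
  | 5 => simp only [h8R5_mv5, Matrix.one_mulVec]; apply h8v5_ext <;> ring
  | 6 => simp only [h8R5_mv6, Matrix.one_mulVec]; apply h8v5_ext <;> ring
  | 7 => simp only [h8R5_mv7, Matrix.one_mulVec]; apply h8v5_ext <;> ring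
  | (n + 8) => simp only [h8R5_big (n + 8) (by omega)]

/-- the root elements as invertible matrices -/
def h8G5 (r : ℕ) (t : F) : GL H8I5 F :=
  ⟨h8R5 r t, h8R5 r (-t), by rw [h8R5_add, add_neg_cancel, h8R5_zero],
    by rw [h8R5_add, neg_add_cancel, h8R5_zero]⟩

theorem h8R5_isom (r : ℕ) (t : F) (v : H8I5 → F) :
    Cfsg.quadFormOdd 2 F (h8R5 r t *ᵥ v) = Cfsg.quadFormOdd 2 F v := by
  rw [h8v5_eta v]
  generalize v (Sum.inl ()) = a
  generalize v (Sum.inr (Sum.inl 0)) = x1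
  generalize v (Sum.inr (Sum.inl 1)) = x2
  generalize v (Sum.inr (Sum.inr 0)) = y1
  generalize v (Sum.inr (Sum.inr 1)) = y2
  match r with
  | 0 => simp only [h8R5_mv0, h8q5]; ring
  | 1 => simp only [h8R5_mv1, h8q5]; ring
  | 2 => simp only [h8R5_mv2, h8q5]; ring
  | 3 => simp only [h8R5_mv3, h8q5]; ring
  | 4 => simp only [h8R5_mv4, h8q5]; ring
  | 5 => simp only [h8R5_mv5, h8q5]; ring
  | 6 => simp only [h8R5_mv6, h8q5]; ring
  | 7 => simp only [h8R5_mv7, h8q5]; ring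
  | (n + 8) => simp only [h8R5_big (n + 8) (by omega), Matrix.one_mulVec]

/-- the orthogonal group of the five-dimensional form -/
abbrev H8O5 (F : Type*) [Field F] : Subgroup (GL H8I5 F) :=
  Cfsg.isometryGroup F (Cfsg.quadFormOdd 2 F)

theorem h8O5_mem (g : GL H8I5 F) :
    g ∈ H8O5 F ↔ ∀ v : H8I5 → F,
      Cfsg.quadFormOdd 2 F ((g : Matrix H8I5 H8I5 F) *ᵥ v) = Cfsg.quadFormOdd 2 F v := by
  constructor
  · intro h v
    exact h v v
  · intro h u v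
    exact h u

/-- the root elements in the orthogonal group -/
def h8Y5 (r : ℕ) (t : F) : ↥(H8O5 F) :=
  ⟨h8G5 r t, (h8O5_mem _).2 (fun v => h8R5_isom r t v)⟩

/-- coercion to matrices -/
def h8c5 : ↥(H8O5 F) →* Matrix H8I5 H8I5 F :=
  (Units.coeHom _).comp (Subgroup.subtype _)

theorem h8c5_inj : Function.Injective (h8c5 (F := F)) := by
  intro a b h
  apply Subtype.ext
  apply Units.ext
  exact h

theorem h8c5_Y (r : ℕ) (t : F) : h8c5 (h8Y5 r t) = h8R5 r t := rfl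

theorem h8c5_word (w : List (ℕ × F)) :
    h8c5 (h8wX h8Y5 w) = (w.map fun p => h8R5 p.1 p.2).prod := by
  induction w with
  | nil => simp [h8wX_nil]
  | cons p w ih => rw [h8wX_cons, map_mul, ih, h8c5_Y, List.map_cons, List.prod_cons]


theorem h8Y5_c_0_1 (t u : F) :
    h8Y5 1 u * h8Y5 0 t = h8Y5 0 t * h8Y5 1 u * h8wX h8Y5 (chevB2.commWord F 0 1 t u) := by
  have h : chevB2.commTerms 0 1 = [] := by decide
  apply h8c5_inj
  rw [map_mul, map_mul, map_mul, h8c5_word, h8c5_Y, h8c5_Y]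
  simp only [ChevalleyDatum.commWord, h, List.map_cons, List.map_nil, List.prod_cons, List.prod_nil]
  apply h8mat5_ext
  intro a x1 x2 y1 y2
  simp only [← Matrix.mulVec_mulVec, h8R5_mv0, h8R5_mv1, h8R5_mv2, h8R5_mv3, h8R5_mv4, h8R5_mv5, h8R5_mv6, h8R5_mv7, Matrix.one_mulVec]
  apply h8v5_ext <;> (push_cast; ring)

theorem h8Y5_c_0_2 (t u : F) :
    h8Y5 2 u * h8Y5 0 t = h8Y5 0 t * h8Y5 2 u * h8wX h8Y5 (chevB2.commWord F 0 2 t u) := by
  have h : chevB2.commTerms 0 2 = [] := by decide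
  apply h8c5_inj
  rw [map_mul, map_mul, map_mul, h8c5_word, h8c5_Y, h8c5_Y]
  simp only [ChevalleyDatum.commWord, h, List.map_cons, List.map_nil, List.prod_cons, List.prod_nil]
  apply h8mat5_ext
  intro a x1 x2 y1 y2
  simp only [← Matrix.mulVec_mulVec, h8R5_mv0, h8R5_mv1, h8R5_mv2, h8R5_mv3, h8R5_mv4, h8R5_mv5, h8R5_mv6, h8R5_mv7, Matrix.one_mulVec]
  apply h8v5_ext <;> (push_cast; ring)

theorem h8Y5_c_0_3 (t u : F) :
    h8Y5 3 u * h8Y5 0 t = h8Y5 0 t * h8Y5 3 u * h8wX h8Y5 (chevB2.commWord F 0 3 t u) := by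
  have h : chevB2.commTerms 0 3 = [] := by decide
  apply h8c5_inj
  rw [map_mul, map_mul, map_mul, h8c5_word, h8c5_Y, h8c5_Y]
  simp only [ChevalleyDatum.commWord, h, List.map_cons, List.map_nil, List.prod_cons, List.prod_nil]
  apply h8mat5_ext
  intro a x1 x2 y1 y2
  simp only [← Matrix.mulVec_mulVec, h8R5_mv0, h8R5_mv1, h8R5_mv2, h8R5_mv3, h8R5_mv4, h8R5_mv5, h8R5_mv6, h8R5_mv7, Matrix.one_mulVec]
  apply h8v5_ext <;> (push_cast; ring)

theorem h8Y5_c_0_4 (t u : F) :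
    h8Y5 4 u * h8Y5 0 t = h8Y5 0 t * h8Y5 4 u * h8wX h8Y5 (chevB2.commWord F 0 4 t u) := by
  have h : chevB2.commTerms 0 4 = [] := by decide
  apply h8c5_inj
  rw [map_mul, map_mul, map_mul, h8c5_word, h8c5_Y, h8c5_Y]
  simp only [ChevalleyDatum.commWord, h, List.map_cons, List.map_nil, List.prod_cons, List.prod_nil]
  apply h8mat5_ext
  intro a x1 x2 y1 y2
  simp only [← Matrix.mulVec_mulVec, h8R5_mv0, h8R5_mv1, h8R5_mv2, h8R5_mv3, h8R5_mv4, h8R5_mv5, h8R5_mv6, h8R5_mv7, Matrix.one_mulVec]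
  apply h8v5_ext <;> (push_cast; ring)

theorem h8Y5_c_0_5 (t u : F) :
    h8Y5 5 u * h8Y5 0 t = h8Y5 0 t * h8Y5 5 u * h8wX h8Y5 (chevB2.commWord F 0 5 t u) := by
  have h : chevB2.commTerms 0 5 = [(1, 1, 1, 1), (3, -1, 1, 2)] := by decide
  apply h8c5_inj
  rw [map_mul, map_mul, map_mul, h8c5_word, h8c5_Y, h8c5_Y]
  simp only [ChevalleyDatum.commWord, h, List.map_cons, List.map_nil, List.prod_cons, List.prod_nil]
  apply h8mat5_ext
  intro a x1 x2 y1 y2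
  simp only [← Matrix.mulVec_mulVec, h8R5_mv0, h8R5_mv1, h8R5_mv2, h8R5_mv3, h8R5_mv4, h8R5_mv5, h8R5_mv6, h8R5_mv7, Matrix.one_mulVec]
  apply h8v5_ext <;> (push_cast; ring)

theorem h8Y5_c_0_6 (t u : F) :
    h8Y5 6 u * h8Y5 0 t = h8Y5 0 t * h8Y5 6 u * h8wX h8Y5 (chevB2.commWord F 0 6 t u) := by
  have h : chevB2.commTerms 0 6 = [(2, -1, 1, 1), (4, 1, 1, 2)] := by decide
  apply h8c5_inj
  rw [map_mul, map_mul, map_mul, h8c5_word, h8c5_Y, h8c5_Y]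
  simp only [ChevalleyDatum.commWord, h, List.map_cons, List.map_nil, List.prod_cons, List.prod_nil]
  apply h8mat5_ext
  intro a x1 x2 y1 y2
  simp only [← Matrix.mulVec_mulVec, h8R5_mv0, h8R5_mv1, h8R5_mv2, h8R5_mv3, h8R5_mv4, h8R5_mv5, h8R5_mv6, h8R5_mv7, Matrix.one_mulVec]
  apply h8v5_ext <;> (push_cast; ring)

theorem h8Y5_c_1_0 (t u : F) :
    h8Y5 0 u * h8Y5 1 t = h8Y5 1 t * h8Y5 0 u * h8wX h8Y5 (chevB2.commWord F 1 0 t u) := by
  have h : chevB2.commTerms 1 0 = [] := by decide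
  apply h8c5_inj
  rw [map_mul, map_mul, map_mul, h8c5_word, h8c5_Y, h8c5_Y]
  simp only [ChevalleyDatum.commWord, h, List.map_cons, List.map_nil, List.prod_cons, List.prod_nil]
  apply h8mat5_ext
  intro a x1 x2 y1 y2
  simp only [← Matrix.mulVec_mulVec, h8R5_mv0, h8R5_mv1, h8R5_mv2, h8R5_mv3, h8R5_mv4, h8R5_mv5, h8R5_mv6, h8R5_mv7, Matrix.one_mulVec]
  apply h8v5_ext <;> (push_cast; ring)

theorem h8Y5_c_1_2 (t u : F) :
    h8Y5 2 u * h8Y5 1 t = h8Y5 1 t * h8Y5 2 u * h8wX h8Y5 (chevB2.commWord F 1 2 t u) := by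
  have h : chevB2.commTerms 1 2 = [(0, 2, 1, 1)] := by decide
  apply h8c5_inj
  rw [map_mul, map_mul, map_mul, h8c5_word, h8c5_Y, h8c5_Y]
  simp only [ChevalleyDatum.commWord, h, List.map_cons, List.map_nil, List.prod_cons, List.prod_nil]
  apply h8mat5_ext
  intro a x1 x2 y1 y2
  simp only [← Matrix.mulVec_mulVec, h8R5_mv0, h8R5_mv1, h8R5_mv2, h8R5_mv3, h8R5_mv4, h8R5_mv5, h8R5_mv6, h8R5_mv7, Matrix.one_mulVec]
  apply h8v5_ext <;> (push_cast; ring)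

theorem h8Y5_c_1_3 (t u : F) :
    h8Y5 3 u * h8Y5 1 t = h8Y5 1 t * h8Y5 3 u * h8wX h8Y5 (chevB2.commWord F 1 3 t u) := by
  have h : chevB2.commTerms 1 3 = [] := by decide
  apply h8c5_inj
  rw [map_mul, map_mul, map_mul, h8c5_word, h8c5_Y, h8c5_Y]
  simp only [ChevalleyDatum.commWord, h, List.map_cons, List.map_nil, List.prod_cons, List.prod_nil]
  apply h8mat5_ext
  intro a x1 x2 y1 y2
  simp only [← Matrix.mulVec_mulVec, h8R5_mv0, h8R5_mv1, h8R5_mv2, h8R5_mv3, h8R5_mv4, h8R5_mv5, h8R5_mv6, h8R5_mv7, Matrix.one_mulVec]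
  apply h8v5_ext <;> (push_cast; ring)

theorem h8Y5_c_1_4 (t u : F) :
    h8Y5 4 u * h8Y5 1 t = h8Y5 1 t * h8Y5 4 u * h8wX h8Y5 (chevB2.commWord F 1 4 t u) := by
  have h : chevB2.commTerms 1 4 = [(2, 1, 1, 1), (0, 1, 2, 1)] := by decide
  apply h8c5_inj
  rw [map_mul, map_mul, map_mul, h8c5_word, h8c5_Y, h8c5_Y]
  simp only [ChevalleyDatum.commWord, h, List.map_cons, List.map_nil, List.prod_cons, List.prod_nil]
  apply h8mat5_ext
  intro a x1 x2 y1 y2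
  simp only [← Matrix.mulVec_mulVec, h8R5_mv0, h8R5_mv1, h8R5_mv2, h8R5_mv3, h8R5_mv4, h8R5_mv5, h8R5_mv6, h8R5_mv7, Matrix.one_mulVec]
  apply h8v5_ext <;> (push_cast; ring)

theorem h8Y5_c_1_5 (t u : F) :
    h8Y5 5 u * h8Y5 1 t = h8Y5 1 t * h8Y5 5 u * h8wX h8Y5 (chevB2.commWord F 1 5 t u) := by
  have h : chevB2.commTerms 1 5 = [(3, -2, 1, 1)] := by decide
  apply h8c5_inj
  rw [map_mul, map_mul, map_mul, h8c5_word, h8c5_Y, h8c5_Y]
  simp only [ChevalleyDatum.commWord, h, List.map_cons, List.map_nil, List.prod_cons, List.prod_nil]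
  apply h8mat5_ext
  intro a x1 x2 y1 y2
  simp only [← Matrix.mulVec_mulVec, h8R5_mv0, h8R5_mv1, h8R5_mv2, h8R5_mv3, h8R5_mv4, h8R5_mv5, h8R5_mv6, h8R5_mv7, Matrix.one_mulVec]
  apply h8v5_ext <;> (push_cast; ring)

theorem h8Y5_c_1_7 (t u : F) :
    h8Y5 7 u * h8Y5 1 t = h8Y5 1 t * h8Y5 7 u * h8wX h8Y5 (chevB2.commWord F 1 7 t u) := by
  have h : chevB2.commTerms 1 7 = [(5, -1, 1, 1), (3, 1, 2, 1)] := by decide
  apply h8c5_inj
  rw [map_mul, map_mul, map_mul, h8c5_word, h8c5_Y, h8c5_Y]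
  simp only [ChevalleyDatum.commWord, h, List.map_cons, List.map_nil, List.prod_cons, List.prod_nil]
  apply h8mat5_ext
  intro a x1 x2 y1 y2
  simp only [← Matrix.mulVec_mulVec, h8R5_mv0, h8R5_mv1, h8R5_mv2, h8R5_mv3, h8R5_mv4, h8R5_mv5, h8R5_mv6, h8R5_mv7, Matrix.one_mulVec]
  apply h8v5_ext <;> (push_cast; ring)

theorem h8Y5_c_2_0 (t u : F) :
    h8Y5 0 u * h8Y5 2 t = h8Y5 2 t * h8Y5 0 u * h8wX h8Y5 (chevB2.commWord F 2 0 t u) := by
  have h : chevB2.commTerms 2 0 = [] := by decide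
  apply h8c5_inj
  rw [map_mul, map_mul, map_mul, h8c5_word, h8c5_Y, h8c5_Y]
  simp only [ChevalleyDatum.commWord, h, List.map_cons, List.map_nil, List.prod_cons, List.prod_nil]
  apply h8mat5_ext
  intro a x1 x2 y1 y2
  simp only [← Matrix.mulVec_mulVec, h8R5_mv0, h8R5_mv1, h8R5_mv2, h8R5_mv3, h8R5_mv4, h8R5_mv5, h8R5_mv6, h8R5_mv7, Matrix.one_mulVec]
  apply h8v5_ext <;> (push_cast; ring)

theorem h8Y5_c_2_1 (t u : F) :
    h8Y5 1 u * h8Y5 2 t = h8Y5 2 t * h8Y5 1 u * h8wX h8Y5 (chevB2.commWord F 2 1 t u) := by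
  have h : chevB2.commTerms 2 1 = [(0, -2, 1, 1)] := by decide
  apply h8c5_inj
  rw [map_mul, map_mul, map_mul, h8c5_word, h8c5_Y, h8c5_Y]
  simp only [ChevalleyDatum.commWord, h, List.map_cons, List.map_nil, List.prod_cons, List.prod_nil]
  apply h8mat5_ext
  intro a x1 x2 y1 y2
  simp only [← Matrix.mulVec_mulVec, h8R5_mv0, h8R5_mv1, h8R5_mv2, h8R5_mv3, h8R5_mv4, h8R5_mv5, h8R5_mv6, h8R5_mv7, Matrix.one_mulVec]
  apply h8v5_ext <;> (push_cast; ring)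

theorem h8Y5_c_2_3 (t u : F) :
    h8Y5 3 u * h8Y5 2 t = h8Y5 2 t * h8Y5 3 u * h8wX h8Y5 (chevB2.commWord F 2 3 t u) := by
  have h : chevB2.commTerms 2 3 = [(1, 1, 1, 1), (0, -1, 2, 1)] := by decide
  apply h8c5_inj
  rw [map_mul, map_mul, map_mul, h8c5_word, h8c5_Y, h8c5_Y]
  simp only [ChevalleyDatum.commWord, h, List.map_cons, List.map_nil, List.prod_cons, List.prod_nil]
  apply h8mat5_ext
  intro a x1 x2 y1 y2
  simp only [← Matrix.mulVec_mulVec, h8R5_mv0, h8R5_mv1, h8R5_mv2, h8R5_mv3, h8R5_mv4, h8R5_mv5, h8R5_mv6, h8R5_mv7, Matrix.one_mulVec]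
  apply h8v5_ext <;> (push_cast; ring)

theorem h8Y5_c_2_4 (t u : F) :
    h8Y5 4 u * h8Y5 2 t = h8Y5 2 t * h8Y5 4 u * h8wX h8Y5 (chevB2.commWord F 2 4 t u) := by
  have h : chevB2.commTerms 2 4 = [] := by decide
  apply h8c5_inj
  rw [map_mul, map_mul, map_mul, h8c5_word, h8c5_Y, h8c5_Y]
  simp only [ChevalleyDatum.commWord, h, List.map_cons, List.map_nil, List.prod_cons, List.prod_nil]
  apply h8mat5_ext
  intro a x1 x2 y1 y2
  simp only [← Matrix.mulVec_mulVec, h8R5_mv0, h8R5_mv1, h8R5_mv2, h8R5_mv3, h8R5_mv4, h8R5_mv5, h8R5_mv6, h8R5_mv7, Matrix.one_mulVec]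
  apply h8v5_ext <;> (push_cast; ring)

theorem h8Y5_c_2_6 (t u : F) :
    h8Y5 6 u * h8Y5 2 t = h8Y5 2 t * h8Y5 6 u * h8wX h8Y5 (chevB2.commWord F 2 6 t u) := by
  have h : chevB2.commTerms 2 6 = [(4, -2, 1, 1)] := by decide
  apply h8c5_inj
  rw [map_mul, map_mul, map_mul, h8c5_word, h8c5_Y, h8c5_Y]
  simp only [ChevalleyDatum.commWord, h, List.map_cons, List.map_nil, List.prod_cons, List.prod_nil]
  apply h8mat5_ext
  intro a x1 x2 y1 y2
  simp only [← Matrix.mulVec_mulVec, h8R5_mv0, h8R5_mv1, h8R5_mv2, h8R5_mv3, h8R5_mv4, h8R5_mv5, h8R5_mv6, h8R5_mv7, Matrix.one_mulVec]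
  apply h8v5_ext <;> (push_cast; ring)

theorem h8Y5_c_2_7 (t u : F) :
    h8Y5 7 u * h8Y5 2 t = h8Y5 2 t * h8Y5 7 u * h8wX h8Y5 (chevB2.commWord F 2 7 t u) := by
  have h : chevB2.commTerms 2 7 = [(6, 1, 1, 1), (4, -1, 2, 1)] := by decide
  apply h8c5_inj
  rw [map_mul, map_mul, map_mul, h8c5_word, h8c5_Y, h8c5_Y]
  simp only [ChevalleyDatum.commWord, h, List.map_cons, List.map_nil, List.prod_cons, List.prod_nil]
  apply h8mat5_ext
  intro a x1 x2 y1 y2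
  simp only [← Matrix.mulVec_mulVec, h8R5_mv0, h8R5_mv1, h8R5_mv2, h8R5_mv3, h8R5_mv4, h8R5_mv5, h8R5_mv6, h8R5_mv7, Matrix.one_mulVec]
  apply h8v5_ext <;> (push_cast; ring)

theorem h8Y5_c_3_0 (t u : F) :
    h8Y5 0 u * h8Y5 3 t = h8Y5 3 t * h8Y5 0 u * h8wX h8Y5 (chevB2.commWord F 3 0 t u) := by
  have h : chevB2.commTerms 3 0 = [] := by decide
  apply h8c5_inj
  rw [map_mul, map_mul, map_mul, h8c5_word, h8c5_Y, h8c5_Y]
  simp only [ChevalleyDatum.commWord, h, List.map_cons, List.map_nil, List.prod_cons, List.prod_nil]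
  apply h8mat5_ext
  intro a x1 x2 y1 y2
  simp only [← Matrix.mulVec_mulVec, h8R5_mv0, h8R5_mv1, h8R5_mv2, h8R5_mv3, h8R5_mv4, h8R5_mv5, h8R5_mv6, h8R5_mv7, Matrix.one_mulVec]
  apply h8v5_ext <;> (push_cast; ring)

theorem h8Y5_c_3_1 (t u : F) :
    h8Y5 1 u * h8Y5 3 t = h8Y5 3 t * h8Y5 1 u * h8wX h8Y5 (chevB2.commWord F 3 1 t u) := by
  have h : chevB2.commTerms 3 1 = [] := by decide
  apply h8c5_inj
  rw [map_mul, map_mul, map_mul, h8c5_word, h8c5_Y, h8c5_Y]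
  simp only [ChevalleyDatum.commWord, h, List.map_cons, List.map_nil, List.prod_cons, List.prod_nil]
  apply h8mat5_ext
  intro a x1 x2 y1 y2
  simp only [← Matrix.mulVec_mulVec, h8R5_mv0, h8R5_mv1, h8R5_mv2, h8R5_mv3, h8R5_mv4, h8R5_mv5, h8R5_mv6, h8R5_mv7, Matrix.one_mulVec]
  apply h8v5_ext <;> (push_cast; ring)

theorem h8Y5_c_3_2 (t u : F) :
    h8Y5 2 u * h8Y5 3 t = h8Y5 3 t * h8Y5 2 u * h8wX h8Y5 (chevB2.commWord F 3 2 t u) := by
  have h : chevB2.commTerms 3 2 = [(1, -1, 1, 1), (0, -1, 1, 2)] := by decide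
  apply h8c5_inj
  rw [map_mul, map_mul, map_mul, h8c5_word, h8c5_Y, h8c5_Y]
  simp only [ChevalleyDatum.commWord, h, List.map_cons, List.map_nil, List.prod_cons, List.prod_nil]
  apply h8mat5_ext
  intro a x1 x2 y1 y2
  simp only [← Matrix.mulVec_mulVec, h8R5_mv0, h8R5_mv1, h8R5_mv2, h8R5_mv3, h8R5_mv4, h8R5_mv5, h8R5_mv6, h8R5_mv7, Matrix.one_mulVec]
  apply h8v5_ext <;> (push_cast; ring)

theorem h8Y5_c_3_5 (t u : F) :
    h8Y5 5 u * h8Y5 3 t = h8Y5 3 t * h8Y5 5 u * h8wX h8Y5 (chevB2.commWord F 3 5 t u) := by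
  have h : chevB2.commTerms 3 5 = [] := by decide
  apply h8c5_inj
  rw [map_mul, map_mul, map_mul, h8c5_word, h8c5_Y, h8c5_Y]
  simp only [ChevalleyDatum.commWord, h, List.map_cons, List.map_nil, List.prod_cons, List.prod_nil]
  apply h8mat5_ext
  intro a x1 x2 y1 y2
  simp only [← Matrix.mulVec_mulVec, h8R5_mv0, h8R5_mv1, h8R5_mv2, h8R5_mv3, h8R5_mv4, h8R5_mv5, h8R5_mv6, h8R5_mv7, Matrix.one_mulVec]
  apply h8v5_ext <;> (push_cast; ring)

theorem h8Y5_c_3_6 (t u : F) :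
    h8Y5 6 u * h8Y5 3 t = h8Y5 3 t * h8Y5 6 u * h8wX h8Y5 (chevB2.commWord F 3 6 t u) := by
  have h : chevB2.commTerms 3 6 = [(5, 1, 1, 1), (7, 1, 1, 2)] := by decide
  apply h8c5_inj
  rw [map_mul, map_mul, map_mul, h8c5_word, h8c5_Y, h8c5_Y]
  simp only [ChevalleyDatum.commWord, h, List.map_cons, List.map_nil, List.prod_cons, List.prod_nil]
  apply h8mat5_ext
  intro a x1 x2 y1 y2
  simp only [← Matrix.mulVec_mulVec, h8R5_mv0, h8R5_mv1, h8R5_mv2, h8R5_mv3, h8R5_mv4, h8R5_mv5, h8R5_mv6, h8R5_mv7, Matrix.one_mulVec]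
  apply h8v5_ext <;> (push_cast; ring)

theorem h8Y5_c_3_7 (t u : F) :
    h8Y5 7 u * h8Y5 3 t = h8Y5 3 t * h8Y5 7 u * h8wX h8Y5 (chevB2.commWord F 3 7 t u) := by
  have h : chevB2.commTerms 3 7 = [] := by decide
  apply h8c5_inj
  rw [map_mul, map_mul, map_mul, h8c5_word, h8c5_Y, h8c5_Y]
  simp only [ChevalleyDatum.commWord, h, List.map_cons, List.map_nil, List.prod_cons, List.prod_nil]
  apply h8mat5_ext
  intro a x1 x2 y1 y2
  simp only [← Matrix.mulVec_mulVec, h8R5_mv0, h8R5_mv1, h8R5_mv2, h8R5_mv3, h8R5_mv4, h8R5_mv5, h8R5_mv6, h8R5_mv7, Matrix.one_mulVec]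
  apply h8v5_ext <;> (push_cast; ring)

theorem h8Y5_c_4_0 (t u : F) :
    h8Y5 0 u * h8Y5 4 t = h8Y5 4 t * h8Y5 0 u * h8wX h8Y5 (chevB2.commWord F 4 0 t u) := by
  have h : chevB2.commTerms 4 0 = [] := by decide
  apply h8c5_inj
  rw [map_mul, map_mul, map_mul, h8c5_word, h8c5_Y, h8c5_Y]
  simp only [ChevalleyDatum.commWord, h, List.map_cons, List.map_nil, List.prod_cons, List.prod_nil]
  apply h8mat5_ext
  intro a x1 x2 y1 y2
  simp only [← Matrix.mulVec_mulVec, h8R5_mv0, h8R5_mv1, h8R5_mv2, h8R5_mv3, h8R5_mv4, h8R5_mv5, h8R5_mv6, h8R5_mv7, Matrix.one_mulVec]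
  apply h8v5_ext <;> (push_cast; ring)

theorem h8Y5_c_4_1 (t u : F) :
    h8Y5 1 u * h8Y5 4 t = h8Y5 4 t * h8Y5 1 u * h8wX h8Y5 (chevB2.commWord F 4 1 t u) := by
  have h : chevB2.commTerms 4 1 = [(2, -1, 1, 1), (0, 1, 1, 2)] := by decide
  apply h8c5_inj
  rw [map_mul, map_mul, map_mul, h8c5_word, h8c5_Y, h8c5_Y]
  simp only [ChevalleyDatum.commWord, h, List.map_cons, List.map_nil, List.prod_cons, List.prod_nil]
  apply h8mat5_ext
  intro a x1 x2 y1 y2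
  simp only [← Matrix.mulVec_mulVec, h8R5_mv0, h8R5_mv1, h8R5_mv2, h8R5_mv3, h8R5_mv4, h8R5_mv5, h8R5_mv6, h8R5_mv7, Matrix.one_mulVec]
  apply h8v5_ext <;> (push_cast; ring)

theorem h8Y5_c_4_2 (t u : F) :
    h8Y5 2 u * h8Y5 4 t = h8Y5 4 t * h8Y5 2 u * h8wX h8Y5 (chevB2.commWord F 4 2 t u) := by
  have h : chevB2.commTerms 4 2 = [] := by decide
  apply h8c5_inj
  rw [map_mul, map_mul, map_mul, h8c5_word, h8c5_Y, h8c5_Y]
  simp only [ChevalleyDatum.commWord, h, List.map_cons, List.map_nil, List.prod_cons, List.prod_nil]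
  apply h8mat5_ext
  intro a x1 x2 y1 y2
  simp only [← Matrix.mulVec_mulVec, h8R5_mv0, h8R5_mv1, h8R5_mv2, h8R5_mv3, h8R5_mv4, h8R5_mv5, h8R5_mv6, h8R5_mv7, Matrix.one_mulVec]
  apply h8v5_ext <;> (push_cast; ring)

theorem h8Y5_c_4_5 (t u : F) :
    h8Y5 5 u * h8Y5 4 t = h8Y5 4 t * h8Y5 5 u * h8wX h8Y5 (chevB2.commWord F 4 5 t u) := by
  have h : chevB2.commTerms 4 5 = [(6, 1, 1, 1), (7, -1, 1, 2)] := by decide
  apply h8c5_inj
  rw [map_mul, map_mul, map_mul, h8c5_word, h8c5_Y, h8c5_Y]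
  simp only [ChevalleyDatum.commWord, h, List.map_cons, List.map_nil, List.prod_cons, List.prod_nil]
  apply h8mat5_ext
  intro a x1 x2 y1 y2
  simp only [← Matrix.mulVec_mulVec, h8R5_mv0, h8R5_mv1, h8R5_mv2, h8R5_mv3, h8R5_mv4, h8R5_mv5, h8R5_mv6, h8R5_mv7, Matrix.one_mulVec]
  apply h8v5_ext <;> (push_cast; ring)

theorem h8Y5_c_4_6 (t u : F) :
    h8Y5 6 u * h8Y5 4 t = h8Y5 4 t * h8Y5 6 u * h8wX h8Y5 (chevB2.commWord F 4 6 t u) := by
  have h : chevB2.commTerms 4 6 = [] := by decide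
  apply h8c5_inj
  rw [map_mul, map_mul, map_mul, h8c5_word, h8c5_Y, h8c5_Y]
  simp only [ChevalleyDatum.commWord, h, List.map_cons, List.map_nil, List.prod_cons, List.prod_nil]
  apply h8mat5_ext
  intro a x1 x2 y1 y2
  simp only [← Matrix.mulVec_mulVec, h8R5_mv0, h8R5_mv1, h8R5_mv2, h8R5_mv3, h8R5_mv4, h8R5_mv5, h8R5_mv6, h8R5_mv7, Matrix.one_mulVec]
  apply h8v5_ext <;> (push_cast; ring)

theorem h8Y5_c_4_7 (t u : F) :
    h8Y5 7 u * h8Y5 4 t = h8Y5 4 t * h8Y5 7 u * h8wX h8Y5 (chevB2.commWord F 4 7 t u) := by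
  have h : chevB2.commTerms 4 7 = [] := by decide
  apply h8c5_inj
  rw [map_mul, map_mul, map_mul, h8c5_word, h8c5_Y, h8c5_Y]
  simp only [ChevalleyDatum.commWord, h, List.map_cons, List.map_nil, List.prod_cons, List.prod_nil]
  apply h8mat5_ext
  intro a x1 x2 y1 y2
  simp only [← Matrix.mulVec_mulVec, h8R5_mv0, h8R5_mv1, h8R5_mv2, h8R5_mv3, h8R5_mv4, h8R5_mv5, h8R5_mv6, h8R5_mv7, Matrix.one_mulVec]
  apply h8v5_ext <;> (push_cast; ring)

theorem h8Y5_c_5_0 (t u : F) :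
    h8Y5 0 u * h8Y5 5 t = h8Y5 5 t * h8Y5 0 u * h8wX h8Y5 (chevB2.commWord F 5 0 t u) := by
  have h : chevB2.commTerms 5 0 = [(1, -1, 1, 1), (3, -1, 2, 1)] := by decide
  apply h8c5_inj
  rw [map_mul, map_mul, map_mul, h8c5_word, h8c5_Y, h8c5_Y]
  simp only [ChevalleyDatum.commWord, h, List.map_cons, List.map_nil, List.prod_cons, List.prod_nil]
  apply h8mat5_ext
  intro a x1 x2 y1 y2
  simp only [← Matrix.mulVec_mulVec, h8R5_mv0, h8R5_mv1, h8R5_mv2, h8R5_mv3, h8R5_mv4, h8R5_mv5, h8R5_mv6, h8R5_mv7, Matrix.one_mulVec]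
  apply h8v5_ext <;> (push_cast; ring)

theorem h8Y5_c_5_1 (t u : F) :
    h8Y5 1 u * h8Y5 5 t = h8Y5 5 t * h8Y5 1 u * h8wX h8Y5 (chevB2.commWord F 5 1 t u) := by
  have h : chevB2.commTerms 5 1 = [(3, 2, 1, 1)] := by decide
  apply h8c5_inj
  rw [map_mul, map_mul, map_mul, h8c5_word, h8c5_Y, h8c5_Y]
  simp only [ChevalleyDatum.commWord, h, List.map_cons, List.map_nil, List.prod_cons, List.prod_nil]
  apply h8mat5_ext
  intro a x1 x2 y1 y2
  simp only [← Matrix.mulVec_mulVec, h8R5_mv0, h8R5_mv1, h8R5_mv2, h8R5_mv3, h8R5_mv4, h8R5_mv5, h8R5_mv6, h8R5_mv7, Matrix.one_mulVec]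
  apply h8v5_ext <;> (push_cast; ring)

theorem h8Y5_c_5_3 (t u : F) :
    h8Y5 3 u * h8Y5 5 t = h8Y5 5 t * h8Y5 3 u * h8wX h8Y5 (chevB2.commWord F 5 3 t u) := by
  have h : chevB2.commTerms 5 3 = [] := by decide
  apply h8c5_inj
  rw [map_mul, map_mul, map_mul, h8c5_word, h8c5_Y, h8c5_Y]
  simp only [ChevalleyDatum.commWord, h, List.map_cons, List.map_nil, List.prod_cons, List.prod_nil]
  apply h8mat5_ext
  intro a x1 x2 y1 y2
  simp only [← Matrix.mulVec_mulVec, h8R5_mv0, h8R5_mv1, h8R5_mv2, h8R5_mv3, h8R5_mv4, h8R5_mv5, h8R5_mv6, h8R5_mv7, Matrix.one_mulVec]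
  apply h8v5_ext <;> (push_cast; ring)

theorem h8Y5_c_5_4 (t u : F) :
    h8Y5 4 u * h8Y5 5 t = h8Y5 5 t * h8Y5 4 u * h8wX h8Y5 (chevB2.commWord F 5 4 t u) := by
  have h : chevB2.commTerms 5 4 = [(6, -1, 1, 1), (7, -1, 2, 1)] := by decide
  apply h8c5_inj
  rw [map_mul, map_mul, map_mul, h8c5_word, h8c5_Y, h8c5_Y]
  simp only [ChevalleyDatum.commWord, h, List.map_cons, List.map_nil, List.prod_cons, List.prod_nil]
  apply h8mat5_ext
  intro a x1 x2 y1 y2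
  simp only [← Matrix.mulVec_mulVec, h8R5_mv0, h8R5_mv1, h8R5_mv2, h8R5_mv3, h8R5_mv4, h8R5_mv5, h8R5_mv6, h8R5_mv7, Matrix.one_mulVec]
  apply h8v5_ext <;> (push_cast; ring)

theorem h8Y5_c_5_6 (t u : F) :
    h8Y5 6 u * h8Y5 5 t = h8Y5 5 t * h8Y5 6 u * h8wX h8Y5 (chevB2.commWord F 5 6 t u) := by
  have h : chevB2.commTerms 5 6 = [(7, 2, 1, 1)] := by decide
  apply h8c5_inj
  rw [map_mul, map_mul, map_mul, h8c5_word, h8c5_Y, h8c5_Y]
  simp only [ChevalleyDatum.commWord, h, List.map_cons, List.map_nil, List.prod_cons, List.prod_nil]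
  apply h8mat5_ext
  intro a x1 x2 y1 y2
  simp only [← Matrix.mulVec_mulVec, h8R5_mv0, h8R5_mv1, h8R5_mv2, h8R5_mv3, h8R5_mv4, h8R5_mv5, h8R5_mv6, h8R5_mv7, Matrix.one_mulVec]
  apply h8v5_ext <;> (push_cast; ring)

theorem h8Y5_c_5_7 (t u : F) :
    h8Y5 7 u * h8Y5 5 t = h8Y5 5 t * h8Y5 7 u * h8wX h8Y5 (chevB2.commWord F 5 7 t u) := by
  have h : chevB2.commTerms 5 7 = [] := by decide
  apply h8c5_inj
  rw [map_mul, map_mul, map_mul, h8c5_word, h8c5_Y, h8c5_Y]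
  simp only [ChevalleyDatum.commWord, h, List.map_cons, List.map_nil, List.prod_cons, List.prod_nil]
  apply h8mat5_ext
  intro a x1 x2 y1 y2
  simp only [← Matrix.mulVec_mulVec, h8R5_mv0, h8R5_mv1, h8R5_mv2, h8R5_mv3, h8R5_mv4, h8R5_mv5, h8R5_mv6, h8R5_mv7, Matrix.one_mulVec]
  apply h8v5_ext <;> (push_cast; ring)

theorem h8Y5_c_6_0 (t u : F) :
    h8Y5 0 u * h8Y5 6 t = h8Y5 6 t * h8Y5 0 u * h8wX h8Y5 (chevB2.commWord F 6 0 t u) := by
  have h : chevB2.commTerms 6 0 = [(2, 1, 1, 1), (4, 1, 2, 1)] := by decide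
  apply h8c5_inj
  rw [map_mul, map_mul, map_mul, h8c5_word, h8c5_Y, h8c5_Y]
  simp only [ChevalleyDatum.commWord, h, List.map_cons, List.map_nil, List.prod_cons, List.prod_nil]
  apply h8mat5_ext
  intro a x1 x2 y1 y2
  simp only [← Matrix.mulVec_mulVec, h8R5_mv0, h8R5_mv1, h8R5_mv2, h8R5_mv3, h8R5_mv4, h8R5_mv5, h8R5_mv6, h8R5_mv7, Matrix.one_mulVec]
  apply h8v5_ext <;> (push_cast; ring)

theorem h8Y5_c_6_2 (t u : F) :
    h8Y5 2 u * h8Y5 6 t = h8Y5 6 t * h8Y5 2 u * h8wX h8Y5 (chevB2.commWord F 6 2 t u) := by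
  have h : chevB2.commTerms 6 2 = [(4, 2, 1, 1)] := by decide
  apply h8c5_inj
  rw [map_mul, map_mul, map_mul, h8c5_word, h8c5_Y, h8c5_Y]
  simp only [ChevalleyDatum.commWord, h, List.map_cons, List.map_nil, List.prod_cons, List.prod_nil]
  apply h8mat5_ext
  intro a x1 x2 y1 y2
  simp only [← Matrix.mulVec_mulVec, h8R5_mv0, h8R5_mv1, h8R5_mv2, h8R5_mv3, h8R5_mv4, h8R5_mv5, h8R5_mv6, h8R5_mv7, Matrix.one_mulVec]
  apply h8v5_ext <;> (push_cast; ring)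

theorem h8Y5_c_6_3 (t u : F) :
    h8Y5 3 u * h8Y5 6 t = h8Y5 6 t * h8Y5 3 u * h8wX h8Y5 (chevB2.commWord F 6 3 t u) := by
  have h : chevB2.commTerms 6 3 = [(5, -1, 1, 1), (7, 1, 2, 1)] := by decide
  apply h8c5_inj
  rw [map_mul, map_mul, map_mul, h8c5_word, h8c5_Y, h8c5_Y]
  simp only [ChevalleyDatum.commWord, h, List.map_cons, List.map_nil, List.prod_cons, List.prod_nil]
  apply h8mat5_ext
  intro a x1 x2 y1 y2
  simp only [← Matrix.mulVec_mulVec, h8R5_mv0, h8R5_mv1, h8R5_mv2, h8R5_mv3, h8R5_mv4, h8R5_mv5, h8R5_mv6, h8R5_mv7, Matrix.one_mulVec]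
  apply h8v5_ext <;> (push_cast; ring)

theorem h8Y5_c_6_4 (t u : F) :
    h8Y5 4 u * h8Y5 6 t = h8Y5 6 t * h8Y5 4 u * h8wX h8Y5 (chevB2.commWord F 6 4 t u) := by
  have h : chevB2.commTerms 6 4 = [] := by decide
  apply h8c5_inj
  rw [map_mul, map_mul, map_mul, h8c5_word, h8c5_Y, h8c5_Y]
  simp only [ChevalleyDatum.commWord, h, List.map_cons, List.map_nil, List.prod_cons, List.prod_nil]
  apply h8mat5_ext
  intro a x1 x2 y1 y2
  simp only [← Matrix.mulVec_mulVec, h8R5_mv0, h8R5_mv1, h8R5_mv2, h8R5_mv3, h8R5_mv4, h8R5_mv5, h8R5_mv6, h8R5_mv7, Matrix.one_mulVec]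
  apply h8v5_ext <;> (push_cast; ring)

theorem h8Y5_c_6_5 (t u : F) :
    h8Y5 5 u * h8Y5 6 t = h8Y5 6 t * h8Y5 5 u * h8wX h8Y5 (chevB2.commWord F 6 5 t u) := by
  have h : chevB2.commTerms 6 5 = [(7, -2, 1, 1)] := by decide
  apply h8c5_inj
  rw [map_mul, map_mul, map_mul, h8c5_word, h8c5_Y, h8c5_Y]
  simp only [ChevalleyDatum.commWord, h, List.map_cons, List.map_nil, List.prod_cons, List.prod_nil]
  apply h8mat5_ext
  intro a x1 x2 y1 y2
  simp only [← Matrix.mulVec_mulVec, h8R5_mv0, h8R5_mv1, h8R5_mv2, h8R5_mv3, h8R5_mv4, h8R5_mv5, h8R5_mv6, h8R5_mv7, Matrix.one_mulVec]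
  apply h8v5_ext <;> (push_cast; ring)

theorem h8Y5_c_6_7 (t u : F) :
    h8Y5 7 u * h8Y5 6 t = h8Y5 6 t * h8Y5 7 u * h8wX h8Y5 (chevB2.commWord F 6 7 t u) := by
  have h : chevB2.commTerms 6 7 = [] := by decide
  apply h8c5_inj
  rw [map_mul, map_mul, map_mul, h8c5_word, h8c5_Y, h8c5_Y]
  simp only [ChevalleyDatum.commWord, h, List.map_cons, List.map_nil, List.prod_cons, List.prod_nil]
  apply h8mat5_ext
  intro a x1 x2 y1 y2
  simp only [← Matrix.mulVec_mulVec, h8R5_mv0, h8R5_mv1, h8R5_mv2, h8R5_mv3, h8R5_mv4, h8R5_mv5, h8R5_mv6, h8R5_mv7, Matrix.one_mulVec]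
  apply h8v5_ext <;> (push_cast; ring)

theorem h8Y5_c_7_1 (t u : F) :
    h8Y5 1 u * h8Y5 7 t = h8Y5 7 t * h8Y5 1 u * h8wX h8Y5 (chevB2.commWord F 7 1 t u) := by
  have h : chevB2.commTerms 7 1 = [(5, 1, 1, 1), (3, 1, 1, 2)] := by decide
  apply h8c5_inj
  rw [map_mul, map_mul, map_mul, h8c5_word, h8c5_Y, h8c5_Y]
  simp only [ChevalleyDatum.commWord, h, List.map_cons, List.map_nil, List.prod_cons, List.prod_nil]
  apply h8mat5_ext
  intro a x1 x2 y1 y2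
  simp only [← Matrix.mulVec_mulVec, h8R5_mv0, h8R5_mv1, h8R5_mv2, h8R5_mv3, h8R5_mv4, h8R5_mv5, h8R5_mv6, h8R5_mv7, Matrix.one_mulVec]
  apply h8v5_ext <;> (push_cast; ring)

theorem h8Y5_c_7_2 (t u : F) :
    h8Y5 2 u * h8Y5 7 t = h8Y5 7 t * h8Y5 2 u * h8wX h8Y5 (chevB2.commWord F 7 2 t u) := by
  have h : chevB2.commTerms 7 2 = [(6, -1, 1, 1), (4, -1, 1, 2)] := by decide
  apply h8c5_inj
  rw [map_mul, map_mul, map_mul, h8c5_word, h8c5_Y, h8c5_Y]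
  simp only [ChevalleyDatum.commWord, h, List.map_cons, List.map_nil, List.prod_cons, List.prod_nil]
  apply h8mat5_ext
  intro a x1 x2 y1 y2
  simp only [← Matrix.mulVec_mulVec, h8R5_mv0, h8R5_mv1, h8R5_mv2, h8R5_mv3, h8R5_mv4, h8R5_mv5, h8R5_mv6, h8R5_mv7, Matrix.one_mulVec]
  apply h8v5_ext <;> (push_cast; ring)

theorem h8Y5_c_7_3 (t u : F) :
    h8Y5 3 u * h8Y5 7 t = h8Y5 7 t * h8Y5 3 u * h8wX h8Y5 (chevB2.commWord F 7 3 t u) := by
  have h : chevB2.commTerms 7 3 = [] := by decide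
  apply h8c5_inj
  rw [map_mul, map_mul, map_mul, h8c5_word, h8c5_Y, h8c5_Y]
  simp only [ChevalleyDatum.commWord, h, List.map_cons, List.map_nil, List.prod_cons, List.prod_nil]
  apply h8mat5_ext
  intro a x1 x2 y1 y2
  simp only [← Matrix.mulVec_mulVec, h8R5_mv0, h8R5_mv1, h8R5_mv2, h8R5_mv3, h8R5_mv4, h8R5_mv5, h8R5_mv6, h8R5_mv7, Matrix.one_mulVec]
  apply h8v5_ext <;> (push_cast; ring)

theorem h8Y5_c_7_4 (t u : F) :
    h8Y5 4 u * h8Y5 7 t = h8Y5 7 t * h8Y5 4 u * h8wX h8Y5 (chevB2.commWord F 7 4 t u) := by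
  have h : chevB2.commTerms 7 4 = [] := by decide
  apply h8c5_inj
  rw [map_mul, map_mul, map_mul, h8c5_word, h8c5_Y, h8c5_Y]
  simp only [ChevalleyDatum.commWord, h, List.map_cons, List.map_nil, List.prod_cons, List.prod_nil]
  apply h8mat5_ext
  intro a x1 x2 y1 y2
  simp only [← Matrix.mulVec_mulVec, h8R5_mv0, h8R5_mv1, h8R5_mv2, h8R5_mv3, h8R5_mv4, h8R5_mv5, h8R5_mv6, h8R5_mv7, Matrix.one_mulVec]
  apply h8v5_ext <;> (push_cast; ring)

theorem h8Y5_c_7_5 (t u : F) :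
    h8Y5 5 u * h8Y5 7 t = h8Y5 7 t * h8Y5 5 u * h8wX h8Y5 (chevB2.commWord F 7 5 t u) := by
  have h : chevB2.commTerms 7 5 = [] := by decide
  apply h8c5_inj
  rw [map_mul, map_mul, map_mul, h8c5_word, h8c5_Y, h8c5_Y]
  simp only [ChevalleyDatum.commWord, h, List.map_cons, List.map_nil, List.prod_cons, List.prod_nil]
  apply h8mat5_ext
  intro a x1 x2 y1 y2
  simp only [← Matrix.mulVec_mulVec, h8R5_mv0, h8R5_mv1, h8R5_mv2, h8R5_mv3, h8R5_mv4, h8R5_mv5, h8R5_mv6, h8R5_mv7, Matrix.one_mulVec]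
  apply h8v5_ext <;> (push_cast; ring)

theorem h8Y5_c_7_6 (t u : F) :
    h8Y5 6 u * h8Y5 7 t = h8Y5 7 t * h8Y5 6 u * h8wX h8Y5 (chevB2.commWord F 7 6 t u) := by
  have h : chevB2.commTerms 7 6 = [] := by decide
  apply h8c5_inj
  rw [map_mul, map_mul, map_mul, h8c5_word, h8c5_Y, h8c5_Y]
  simp only [ChevalleyDatum.commWord, h, List.map_cons, List.map_nil, List.prod_cons, List.prod_nil]
  apply h8mat5_ext
  intro a x1 x2 y1 y2
  simp only [← Matrix.mulVec_mulVec, h8R5_mv0, h8R5_mv1, h8R5_mv2, h8R5_mv3, h8R5_mv4, h8R5_mv5, h8R5_mv6, h8R5_mv7, Matrix.one_mulVec]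
  apply h8v5_ext <;> (push_cast; ring)

theorem h8Y5_sys : H8Sys chevB2 (h8Y5 (F := F)) := by
  refine ⟨?_, ?_⟩
  · intro r hr t u
    apply h8c5_inj
    rw [map_mul, h8c5_Y, h8c5_Y, h8c5_Y, h8R5_add]
  · intro r hr s hs h1 h2 t u
    have hr' : r < 8 := hr
    have hs' : s < 8 := hs
    interval_cases r
    · interval_cases s
      · exact absurd rfl h1
      · exact h8Y5_c_0_1 t u
      · exact h8Y5_c_0_2 t u
      · exact h8Y5_c_0_3 t u
      · exact h8Y5_c_0_4 t u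
      · exact h8Y5_c_0_5 t u
      · exact h8Y5_c_0_6 t u
      · exact absurd (by decide) h2
    · interval_cases s
      · exact h8Y5_c_1_0 t u
      · exact absurd rfl h1
      · exact h8Y5_c_1_2 t u
      · exact h8Y5_c_1_3 t u
      · exact h8Y5_c_1_4 t u
      · exact h8Y5_c_1_5 t u
      · exact absurd (by decide) h2
      · exact h8Y5_c_1_7 t u
    · interval_cases s
      · exact h8Y5_c_2_0 t u
      · exact h8Y5_c_2_1 t u
      · exact absurd rfl h1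
      · exact h8Y5_c_2_3 t u
      · exact h8Y5_c_2_4 t u
      · exact absurd (by decide) h2
      · exact h8Y5_c_2_6 t u
      · exact h8Y5_c_2_7 t u
    · interval_cases s
      · exact h8Y5_c_3_0 t u
      · exact h8Y5_c_3_1 t u
      · exact h8Y5_c_3_2 t u
      · exact absurd rfl h1
      · exact absurd (by decide) h2
      · exact h8Y5_c_3_5 t u
      · exact h8Y5_c_3_6 t u
      · exact h8Y5_c_3_7 t u
    · interval_cases s
      · exact h8Y5_c_4_0 t u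
      · exact h8Y5_c_4_1 t u
      · exact h8Y5_c_4_2 t u
      · exact absurd (by decide) h2
      · exact absurd rfl h1
      · exact h8Y5_c_4_5 t u
      · exact h8Y5_c_4_6 t u
      · exact h8Y5_c_4_7 t u
    · interval_cases s
      · exact h8Y5_c_5_0 t u
      · exact h8Y5_c_5_1 t u
      · exact absurd (by decide) h2
      · exact h8Y5_c_5_3 t u
      · exact h8Y5_c_5_4 t u
      · exact absurd rfl h1
      · exact h8Y5_c_5_6 t u
      · exact h8Y5_c_5_7 t u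
    · interval_cases s
      · exact h8Y5_c_6_0 t u
      · exact absurd (by decide) h2
      · exact h8Y5_c_6_2 t u
      · exact h8Y5_c_6_3 t u
      · exact h8Y5_c_6_4 t u
      · exact h8Y5_c_6_5 t u
      · exact absurd rfl h1
      · exact h8Y5_c_6_7 t u
    · interval_cases s
      · exact absurd (by decide) h2
      · exact h8Y5_c_7_1 t u
      · exact h8Y5_c_7_2 t u
      · exact h8Y5_c_7_3 t u
      · exact h8Y5_c_7_4 t u
      · exact h8Y5_c_7_5 t u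
      · exact h8Y5_c_7_6 t u
      · exact absurd rfl h1

theorem h8Y5_big (q : ℕ) (hq : chevB2.nroots ≤ q) (v : F) : h8Y5 q v = 1 := by
  apply h8c5_inj
  rw [h8c5_Y, map_one]
  exact h8R5_big q hq v

end Cfsg.Agent.Lib.helper8
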