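import Cfsg.Agent.Lib.helper8.PoB2

/-! O5: diagonal isometries, the subgroup generated by the root elements, and its inclusion in
the commutator subgroup. -/

namespace Cfsg.Agent.Lib.helper8

open Matrix Cfsg.Lie Cfsg.Lie.ChevalleyDatum
open scoped commutatorElement

set_option linter.unusedSectionVars false
set_option linter.unusedVariables false
set_option linter.unusedSimpArgs false
set_option linter.unnecessarySeqFocus false

variable {F : Type*} [Field F]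

/-- diagonal matrix diag(e; a, b, a', b') -/
def h8D5m (e a b a' b' : F) : Matrix H8I5 H8I5 F :=
  h8M5 (h8v5 e 0 0 0 0) (h8v5 0 a 0 0 0) (h8v5 0 0 b 0 0) (h8v5 0 0 0 a' 0) (h8v5 0 0 0 0 b')

theorem h8D5m_mv (e a b a' b' v0 x1 x2 y1 y2 : F) :
    h8D5m e a b a' b' *ᵥ h8v5 v0 x1 x2 y1 y2 = h8v5 (e * v0) (a * x1) (b * x2) (a' * y1) (b' * y2) := by
  simp only [h8D5m, h8M5_mulVec, h8v5_dot]; apply h8v5_ext <;> ring

theorem h8D5m_mul (e a b a' b' e2 a2 b2 a2' b2' : F) :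
    h8D5m e a b a' b' * h8D5m e2 a2 b2 a2' b2' =
      h8D5m (e * e2) (a * a2) (b * b2) (a' * a2') (b' * b2') := by
  apply h8mat5_ext
  intro v0 x1 x2 y1 y2
  simp only [← Matrix.mulVec_mulVec, h8D5m_mv]
  apply h8v5_ext <;> ring

theorem h8D5m_one : h8D5m (1 : F) 1 1 1 1 = 1 := by
  apply h8mat5_ext
  intro v0 x1 x2 y1 y2
  simp only [h8D5m_mv, Matrix.one_mulVec]
  apply h8v5_ext <;> ring

/-- the diagonal isometry diag(e; a, b, a⁻¹, b⁻¹) with e² = 1 -/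
def h8T5 (e a b : F) (he : e * e = 1) (ha : a ≠ 0) (hb : b ≠ 0) : ↥(H8O5 F) :=
  ⟨⟨h8D5m e a b a⁻¹ b⁻¹, h8D5m e a⁻¹ b⁻¹ a b,
    by rw [h8D5m_mul, he, mul_inv_cancel₀ ha, mul_inv_cancel₀ hb, inv_mul_cancel₀ ha,
      inv_mul_cancel₀ hb, h8D5m_one],
    by rw [h8D5m_mul, he, mul_inv_cancel₀ ha, mul_inv_cancel₀ hb, inv_mul_cancel₀ ha,
      inv_mul_cancel₀ hb, h8D5m_one]⟩,
   (h8O5_mem _).2 (by
    intro v
    rw [h8v5_eta v]
    generalize v (Sum.inl ()) = v0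
    generalize v (Sum.inr (Sum.inl 0)) = x1
    generalize v (Sum.inr (Sum.inl 1)) = x2
    generalize v (Sum.inr (Sum.inr 0)) = y1
    generalize v (Sum.inr (Sum.inr 1)) = y2
    show Cfsg.quadFormOdd 2 F (h8D5m e a b a⁻¹ b⁻¹ *ᵥ _) = _
    rw [h8D5m_mv, h8q5, h8q5]
    have h1 : a * x1 * (a⁻¹ * y1) = x1 * y1 := by field_simp
    have h2 : b * x2 * (b⁻¹ * y2) = x2 * y2 := by field_simp
    have h3 : (e * v0) ^ 2 = v0 ^ 2 := by
      calc (e * v0) ^ 2 = (e * e) * v0 ^ 2 := by ring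
        _ = v0 ^ 2 := by rw [he, one_mul]
    rw [h1, h2, h3])⟩

theorem h8c5_T (e a b : F) (he : e * e = 1) (ha : a ≠ 0) (hb : b ≠ 0) :
    h8c5 (h8T5 e a b he ha hb) = h8D5m e a b a⁻¹ b⁻¹ := rfl

/-- the characters of the diagonal isometries on the eight roots -/
def h8chi5 (r : ℕ) (e a b : F) : F :=
  match r with
  | 0 => a⁻¹ * b⁻¹
  | 1 => e * a⁻¹
  | 2 => e * b⁻¹
  | 3 => b * a⁻¹
  | 4 => a * b⁻¹
  | 5 => e * b
  | 6 => e * a
  | 7 => a * b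
  | _ => 1

theorem h8T5_conj (r : ℕ) (e a b : F) (he : e * e = 1) (ha : a ≠ 0) (hb : b ≠ 0) (t : F) :
    h8T5 e a b he ha hb * h8Y5 r t = h8Y5 r (h8chi5 r e a b * t) * h8T5 e a b he ha hb := by
  apply h8c5_inj
  rw [map_mul, map_mul, h8c5_T, h8c5_Y, h8c5_Y]
  apply h8mat5_ext
  intro v0 x1 x2 y1 y2
  rcases mul_self_eq_one_iff.mp he with rfl | rfl
  · match r with
    | 0 => simp only [← Matrix.mulVec_mulVec, h8D5m_mv, h8R5_mv0, h8chi5]; apply h8v5_ext <;> field_simp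
    | 1 => simp only [← Matrix.mulVec_mulVec, h8D5m_mv, h8R5_mv1, h8chi5]; apply h8v5_ext <;> field_simp
    | 2 => simp only [← Matrix.mulVec_mulVec, h8D5m_mv, h8R5_mv2, h8chi5]; apply h8v5_ext <;> field_simp
    | 3 => simp only [← Matrix.mulVec_mulVec, h8D5m_mv, h8R5_mv3, h8chi5]; apply h8v5_ext <;> field_simp
    | 4 => simp only [← Matrix.mulVec_mulVec, h8D5m_mv, h8R5_mv4, h8chi5]; apply h8v5_ext <;> field_simp
    | 5 => simp only [← Matrix.mulVec_mulVec, h8D5m_mv, h8R5_mv5, h8chi5]; apply h8v5_ext <;> field_simp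
    | 6 => simp only [← Matrix.mulVec_mulVec, h8D5m_mv, h8R5_mv6, h8chi5]; apply h8v5_ext <;> field_simp
    | 7 => simp only [← Matrix.mulVec_mulVec, h8D5m_mv, h8R5_mv7, h8chi5]; apply h8v5_ext <;> field_simp
    | (n + 8) =>
      simp only [h8R5_big (n + 8) (by omega), Matrix.one_mul, Matrix.mul_one]
  · match r with
    | 0 => simp only [← Matrix.mulVec_mulVec, h8D5m_mv, h8R5_mv0, h8chi5]; apply h8v5_ext <;> field_simp
    | 1 => simp only [← Matrix.mulVec_mulVec, h8D5m_mv, h8R5_mv1, h8chi5]; apply h8v5_ext <;> field_simp <;> ring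
    | 2 => simp only [← Matrix.mulVec_mulVec, h8D5m_mv, h8R5_mv2, h8chi5]; apply h8v5_ext <;> field_simp <;> ring
    | 3 => simp only [← Matrix.mulVec_mulVec, h8D5m_mv, h8R5_mv3, h8chi5]; apply h8v5_ext <;> field_simp
    | 4 => simp only [← Matrix.mulVec_mulVec, h8D5m_mv, h8R5_mv4, h8chi5]; apply h8v5_ext <;> field_simp
    | 5 => simp only [← Matrix.mulVec_mulVec, h8D5m_mv, h8R5_mv5, h8chi5]; apply h8v5_ext <;> field_simp <;> ring
    | 6 => simp only [← Matrix.mulVec_mulVec, h8D5m_mv, h8R5_mv6, h8chi5]; apply h8v5_ext <;> field_simp <;> ring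
    | 7 => simp only [← Matrix.mulVec_mulVec, h8D5m_mv, h8R5_mv7, h8chi5]; apply h8v5_ext <;> field_simp
    | (n + 8) =>
      simp only [h8R5_big (n + 8) (by omega), Matrix.one_mul, Matrix.mul_one]

/-- the subgroup generated by the root elements -/
def h8E5 (F : Type*) [Field F] : Subgroup ↥(H8O5 F) :=
  Subgroup.closure {g | ∃ (r : ℕ) (t : F), g = h8Y5 r t}

theorem h8Y5_mem_E5 (r : ℕ) (t : F) : h8Y5 r t ∈ h8E5 F :=
  Subgroup.subset_closure ⟨r, t, rfl⟩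

theorem h8Y5_add (r : ℕ) (t u : F) : h8Y5 r t * h8Y5 r u = h8Y5 r (t + u) := by
  apply h8c5_inj
  rw [map_mul, h8c5_Y, h8c5_Y, h8c5_Y, h8R5_add]

theorem h8Y5_zero (r : ℕ) : h8Y5 r (0 : F) = 1 := by
  apply h8c5_inj
  rw [h8c5_Y, map_one, h8R5_zero]

theorem h8Y5_inv (r : ℕ) (t : F) : (h8Y5 r t)⁻¹ = h8Y5 r (-t) := by
  rw [inv_eq_iff_mul_eq_one, h8Y5_add, add_neg_cancel, h8Y5_zero]

theorem h8Y5_mem_comm_of_chi (r : ℕ) (e a b : F) (he : e * e = 1) (ha : a ≠ 0) (hb : b ≠ 0)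
    (hchi : h8chi5 r e a b ≠ 1) (t : F) : h8Y5 r t ∈ commutator ↥(H8O5 F) := by
  have hne : h8chi5 r e a b - 1 ≠ 0 := sub_ne_zero.mpr hchi
  set s : F := t / (h8chi5 r e a b - 1) with hs
  have h1 : ⁅h8T5 e a b he ha hb, h8Y5 r s⁆ = h8Y5 r t := by
    rw [commutatorElement_def, h8T5_conj, mul_assoc (h8Y5 r _), mul_inv_cancel, mul_one,
      h8Y5_inv, h8Y5_add]
    congr 1
    rw [hs]
    field_simp
    ring
  rw [← h1]
  exact Subgroup.commutator_mem_commutator (Subgroup.mem_top _) (Subgroup.mem_top _)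

theorem h8Y5_mem_comm (hF : ∃ a : F, a ≠ 0 ∧ a ≠ 1) (r : ℕ) (t : F) :
    h8Y5 r t ∈ commutator ↥(H8O5 F) := by
  obtain ⟨a, ha0, ha1⟩ := hF
  have hai : a⁻¹ ≠ 0 := inv_ne_zero ha0
  have h11 : (1 : F) * 1 = 1 := one_mul 1
  have h10 : (1 : F) ≠ 0 := one_ne_zero
  match r with
  | 0 => exact h8Y5_mem_comm_of_chi 0 1 a⁻¹ 1 h11 hai h10 (by simpa [h8chi5] using ha1) t
  | 1 => exact h8Y5_mem_comm_of_chi 1 1 a⁻¹ 1 h11 hai h10 (by simpa [h8chi5] using ha1) t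
  | 2 => exact h8Y5_mem_comm_of_chi 2 1 1 a⁻¹ h11 h10 hai (by simpa [h8chi5] using ha1) t
  | 3 => exact h8Y5_mem_comm_of_chi 3 1 1 a h11 h10 ha0 (by simpa [h8chi5] using ha1) t
  | 4 => exact h8Y5_mem_comm_of_chi 4 1 a 1 h11 ha0 h10 (by simpa [h8chi5] using ha1) t
  | 5 => exact h8Y5_mem_comm_of_chi 5 1 1 a h11 h10 ha0 (by simpa [h8chi5] using ha1) t
  | 6 => exact h8Y5_mem_comm_of_chi 6 1 a 1 h11 ha0 h10 (by simpa [h8chi5] using ha1) t
  | 7 => exact h8Y5_mem_comm_of_chi 7 1 a 1 h11 ha0 h10 (by simpa [h8chi5] using ha1) t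
  | (n + 8) =>
    rw [h8Y5_big (n + 8) (by show 8 ≤ n + 8; omega)]
    exact Subgroup.one_mem _

theorem h8E5_le_comm (hF : ∃ a : F, a ≠ 0 ∧ a ≠ 1) : h8E5 F ≤ commutator ↥(H8O5 F) := by
  unfold h8E5
  rw [Subgroup.closure_le]
  rintro g ⟨r, t, rfl⟩
  exact h8Y5_mem_comm hF r t

/-- the diagonal isometries normalize the subgroup generated by the root elements -/
theorem h8T5_normalizes (e a b : F) (he : e * e = 1) (ha : a ≠ 0) (hb : b ≠ 0) (x : ↥(H8O5 F))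
    (hx : x ∈ h8E5 F) : h8T5 e a b he ha hb * x * (h8T5 e a b he ha hb)⁻¹ ∈ h8E5 F := by
  unfold h8E5 at hx
  induction hx using Subgroup.closure_induction with
  | mem g hg =>
    obtain ⟨r, t, rfl⟩ := hg
    rw [h8T5_conj, mul_assoc, mul_inv_cancel, mul_one]
    exact h8Y5_mem_E5 _ _
  | one => rw [mul_one, mul_inv_cancel]; exact Subgroup.one_mem _
  | mul x y _ _ ihx ihy =>
    have : h8T5 e a b he ha hb * (x * y) * (h8T5 e a b he ha hb)⁻¹ =
        (h8T5 e a b he ha hb * x * (h8T5 e a b he ha hb)⁻¹) *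
          (h8T5 e a b he ha hb * y * (h8T5 e a b he ha hb)⁻¹) := by group
    rw [this]
    exact Subgroup.mul_mem _ ihx ihy
  | inv x _ ih =>
    have : h8T5 e a b he ha hb * x⁻¹ * (h8T5 e a b he ha hb)⁻¹ =
        (h8T5 e a b he ha hb * x * (h8T5 e a b he ha hb)⁻¹)⁻¹ := by group
    rw [this]
    exact Subgroup.inv_mem _ ih

end Cfsg.Agent.Lib.helper8
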