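import Cfsg.Agent.Lib.helper8.PoB3

/-! O5: transitivity properties of the subgroup generated by the root elements. -/

namespace Cfsg.Agent.Lib.helper8

open Matrix Cfsg.Lie Cfsg.Lie.ChevalleyDatum

set_option linter.unusedSectionVars false
set_option linter.unusedVariables false
set_option linter.unusedSimpArgs false
set_option linter.unnecessarySeqFocus false
set_option linter.unreachableTactic false
set_option linter.unusedTactic false

variable {F : Type*} [Field F]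

/-- two vectors are in the same orbit of the group generated by the root elements -/
def h8Orb5 (v w : H8I5 → F) : Prop := ∃ x ∈ h8E5 F, h8c5 x *ᵥ v = w

theorem h8Orb5_refl (v : H8I5 → F) : h8Orb5 v v :=
  ⟨1, Subgroup.one_mem _, by rw [map_one, Matrix.one_mulVec]⟩

theorem h8Orb5_trans {u v w : H8I5 → F} (h1 : h8Orb5 u v) (h2 : h8Orb5 v w) : h8Orb5 u w := by
  obtain ⟨x, hx, rfl⟩ := h1
  obtain ⟨y, hy, rfl⟩ := h2
  exact ⟨y * x, Subgroup.mul_mem _ hy hx, by rw [map_mul, Matrix.mulVec_mulVec]⟩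

theorem h8Orb5_step (r : ℕ) (s : F) (v w : H8I5 → F) (h : h8R5 r s *ᵥ v = w) : h8Orb5 v w :=
  ⟨h8Y5 r s, h8Y5_mem_E5 r s, by rw [h8c5_Y, h]⟩

theorem h8c5_isom (x : ↥(H8O5 F)) (v : H8I5 → F) :
    Cfsg.quadFormOdd 2 F (h8c5 x *ᵥ v) = Cfsg.quadFormOdd 2 F v :=
  (h8O5_mem _).1 x.2 v

theorem h8Orb5_q {v w : H8I5 → F} (h : h8Orb5 v w) :
    Cfsg.quadFormOdd 2 F w = Cfsg.quadFormOdd 2 F v := by
  obtain ⟨x, hx, rfl⟩ := h
  exact h8c5_isom x v

/-- a singular vector with nonzero `x1`-coordinate can be moved to `e1` -/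
theorem h8Orb5_A1 (a x1 x2 y1 y2 : F) (hx : x1 ≠ 0) (hq : a ^ 2 + x1 * y1 + x2 * y2 = 0) :
    h8Orb5 (h8v5 a x1 x2 y1 y2) (h8v5 0 1 0 0 0) := by
  -- kill the first coordinate
  have s1 : h8Orb5 (h8v5 a x1 x2 y1 y2)
      (h8v5 0 x1 x2 (y1 + 2 * (a / x1) * a - (a / x1) ^ 2 * x1) y2) := by
    apply h8Orb5_step 1 (a / x1)
    rw [h8R5_mv1]
    apply h8v5_ext <;> first | rfl | ring1 | (field_simp; ring1) | field_simp
  generalize y1 + 2 * (a / x1) * a - (a / x1) ^ 2 * x1 = y1' at s1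
  have s2 : h8Orb5 (h8v5 0 x1 x2 y1' y2) (h8v5 0 x1 0 (y1' - (-x2 / x1) * y2) y2) := by
    apply h8Orb5_step 3 (-x2 / x1)
    rw [h8R5_mv3]
    apply h8v5_ext <;> first | rfl | ring1 | (field_simp; ring1) | field_simp
  generalize y1' - (-x2 / x1) * y2 = y1'' at s2
  have s3 : h8Orb5 (h8v5 0 x1 0 y1'' y2) (h8v5 0 x1 0 y1'' 0) := by
    apply h8Orb5_step 0 (-y2 / x1)
    rw [h8R5_mv0]
    apply h8v5_ext <;> first | rfl | ring1 | (field_simp; ring1) | field_simp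
  have s123 := h8Orb5_trans (h8Orb5_trans s1 s2) s3
  have hq' := h8Orb5_q s123
  rw [h8q5, h8q5, hq] at hq'
  have hy : y1'' = 0 := by
    have : x1 * y1'' = 0 := by linear_combination hq'
    rcases mul_eq_zero.mp this with h | h
    · exact absurd h hx
    · exact h
  subst hy
  have s4 : h8Orb5 (h8v5 0 x1 0 0 0) (h8v5 0 x1 1 0 0) := by
    apply h8Orb5_step 3 (1 / x1)
    rw [h8R5_mv3]
    apply h8v5_ext <;> first | rfl | ring1 | (field_simp; ring1) | field_simp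
  have s5 : h8Orb5 (h8v5 0 x1 1 0 0) (h8v5 0 1 1 0 0) := by
    apply h8Orb5_step 4 (1 - x1)
    rw [h8R5_mv4]
    apply h8v5_ext <;> first | rfl | ring1 | (field_simp; ring1) | field_simp
  have s6 : h8Orb5 (h8v5 0 1 1 0 0) (h8v5 (0 : F) 1 0 0 0) := by
    apply h8Orb5_step 3 (-1)
    rw [h8R5_mv3]
    apply h8v5_ext <;> first | rfl | ring1 | (field_simp; ring1) | field_simp
  exact h8Orb5_trans (h8Orb5_trans (h8Orb5_trans s123 s4) s5) s6

/-- a nonzero singular vector can be moved to `e1` -/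
theorem h8Orb5_A (a x1 x2 y1 y2 : F) (hne : h8v5 a x1 x2 y1 y2 ≠ 0)
    (hq : a ^ 2 + x1 * y1 + x2 * y2 = 0) :
    h8Orb5 (h8v5 a x1 x2 y1 y2) (h8v5 0 1 0 0 0) := by
  by_cases hx1 : x1 = 0
  · subst hx1
    by_cases hx2 : x2 = 0
    · subst hx2
      by_cases hy2 : y2 = 0
      · subst hy2
        have ha : a = 0 := by
          have : a ^ 2 = 0 := by linear_combination hq
          exact pow_eq_zero_iff (by norm_num) |>.mp this
        subst ha
        have hy1 : y1 ≠ 0 := by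
          intro h
          apply hne
          subst h
          funext i
          rcases i with ⟨⟩ | i | i
          · rfl
          · fin_cases i <;> rfl
          · fin_cases i <;> rfl
        -- move y1 f1 to a vector with x2 ≠ 0, then x1 ≠ 0
        have s1 : h8Orb5 (h8v5 0 0 0 y1 0) (h8v5 0 0 y1 y1 0) := by
          apply h8Orb5_step 7 (-1)
          rw [h8R5_mv7]
          apply h8v5_ext <;> first | rfl | ring1 | (field_simp; ring1) | field_simp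
        have s2 : h8Orb5 (h8v5 0 0 y1 y1 0) (h8v5 0 y1 y1 y1 (-y1)) := by
          apply h8Orb5_step 4 1
          rw [h8R5_mv4]
          apply h8v5_ext <;> first | rfl | ring1 | (field_simp; ring1) | field_simp
        refine h8Orb5_trans (h8Orb5_trans s1 s2) (h8Orb5_A1 _ _ _ _ _ hy1 ?_)
        ring
      · have s1 : h8Orb5 (h8v5 a 0 0 y1 y2) (h8v5 a y2 (-y1) y1 y2) := by
          apply h8Orb5_step 7 1
          rw [h8R5_mv7]
          apply h8v5_ext <;> first | rfl | ring1 | (field_simp; ring1) | field_simp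
        refine h8Orb5_trans s1 (h8Orb5_A1 _ _ _ _ _ hy2 ?_)
        linear_combination hq
    · have s1 : h8Orb5 (h8v5 a 0 x2 y1 y2) (h8v5 a x2 x2 y1 (y2 - y1)) := by
        apply h8Orb5_step 4 1
        rw [h8R5_mv4]
        apply h8v5_ext <;> first | rfl | ring1 | (field_simp; ring1) | field_simp
      refine h8Orb5_trans s1 (h8Orb5_A1 _ _ _ _ _ hx2 ?_)
      linear_combination hq
  · exact h8Orb5_A1 _ _ _ _ _ hx1 hq

/-- Lemma B: a singular vector with `y1 = 1` is moved to `f1` by an element fixing `e1` -/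
theorem h8po5_B (a x1 x2 y2 : F) (hq : a ^ 2 + x1 * 1 + x2 * y2 = 0) :
    ∃ x ∈ h8E5 F, h8c5 x *ᵥ h8v5 0 1 0 0 0 = h8v5 0 1 0 0 0 ∧
      h8c5 x *ᵥ h8v5 a x1 x2 1 y2 = h8v5 0 0 0 1 0 := by
  refine ⟨h8Y5 6 (-a) * (h8Y5 7 x2 * h8Y5 4 y2),
    Subgroup.mul_mem _ (h8Y5_mem_E5 _ _) (Subgroup.mul_mem _ (h8Y5_mem_E5 _ _) (h8Y5_mem_E5 _ _)),
    ?_, ?_⟩
  · simp only [map_mul, h8c5_Y, ← Matrix.mulVec_mulVec, h8R5_mv4, h8R5_mv7, h8R5_mv6]
    apply h8v5_ext <;> ring1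
  · simp only [map_mul, h8c5_Y, ← Matrix.mulVec_mulVec, h8R5_mv4, h8R5_mv7, h8R5_mv6]
    apply h8v5_ext
    · ring1
    · linear_combination hq
    · ring1
    · ring1
    · ring1

/-- Lemma C: a nonzero singular vector orthogonal to `e1`, `f1` is moved to a multiple of `e2`
by an element fixing `e1` and `f1` -/
theorem h8po5_C (a x2 y2 : F) (hne : h8v5 a 0 x2 0 y2 ≠ 0) (hq : a ^ 2 + x2 * y2 = 0) :
    ∃ x ∈ h8E5 F, h8c5 x *ᵥ h8v5 0 1 0 0 0 = h8v5 0 1 0 0 0 ∧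
      h8c5 x *ᵥ h8v5 0 0 0 1 0 = h8v5 0 0 0 1 0 ∧
      ∃ c : F, c ≠ 0 ∧ h8c5 x *ᵥ h8v5 a 0 x2 0 y2 = h8v5 0 0 c 0 0 := by
  have key : ∀ a x2 y2 : F, x2 ≠ 0 → a ^ 2 + x2 * y2 = 0 →
      h8R5 2 (a / x2) *ᵥ h8v5 a 0 x2 0 y2 = h8v5 0 0 x2 0 0 := by
    intro a x2 y2 hx hq
    rw [h8R5_mv2]
    apply h8v5_ext
    · field_simp; ring1
    · rfl
    · rfl
    · rfl
    · field_simp
      linear_combination hq
  by_cases hx2 : x2 = 0
  · subst hx2
    have ha : a = 0 := by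
      have : a ^ 2 = 0 := by linear_combination hq
      exact pow_eq_zero_iff (by norm_num) |>.mp this
    subst ha
    have hy2 : y2 ≠ 0 := by
      intro h
      apply hne
      subst h
      funext i
      rcases i with ⟨⟩ | i | i
      · rfl
      · fin_cases i <;> rfl
      · fin_cases i <;> rfl
    have hny : -y2 ≠ 0 := neg_ne_zero.mpr hy2
    refine ⟨h8Y5 2 (y2 / (-y2)) * h8Y5 5 1,
      Subgroup.mul_mem _ (h8Y5_mem_E5 _ _) (h8Y5_mem_E5 _ _), ?_, ?_, -y2, hny, ?_⟩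
    · simp only [map_mul, h8c5_Y, ← Matrix.mulVec_mulVec, h8R5_mv5, h8R5_mv2]
      apply h8v5_ext <;> ring1
    · simp only [map_mul, h8c5_Y, ← Matrix.mulVec_mulVec, h8R5_mv5, h8R5_mv2]
      apply h8v5_ext <;> ring1
    · have h5 : h8R5 5 (1 : F) *ᵥ h8v5 0 0 0 0 y2 = h8v5 y2 0 (-y2) 0 y2 := by
        rw [h8R5_mv5]
        apply h8v5_ext <;> ring1
      rw [map_mul, h8c5_Y, h8c5_Y, ← Matrix.mulVec_mulVec, h5]
      exact key y2 (-y2) y2 hny (by ring)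
  · refine ⟨h8Y5 2 (a / x2), h8Y5_mem_E5 _ _, ?_, ?_, x2, hx2, ?_⟩
    · rw [h8c5_Y, h8R5_mv2]
      apply h8v5_ext <;> ring1
    · rw [h8c5_Y, h8R5_mv2]
      apply h8v5_ext <;> ring1
    · rw [h8c5_Y]
      exact key a x2 y2 hx2 hq

/-- Lemma D: a singular vector orthogonal to `e1`, `f1` with nonzero `y2` is moved to a multiple
of `f2` by an element fixing `e1`, `f1`, `e2` -/
theorem h8po5_D (a x2 y2 : F) (hy : y2 ≠ 0) (hq : a ^ 2 + x2 * y2 = 0) :
    ∃ x ∈ h8E5 F, h8c5 x *ᵥ h8v5 0 1 0 0 0 = h8v5 0 1 0 0 0 ∧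
      h8c5 x *ᵥ h8v5 0 0 0 1 0 = h8v5 0 0 0 1 0 ∧
      h8c5 x *ᵥ h8v5 0 0 1 0 0 = h8v5 0 0 1 0 0 ∧
      h8c5 x *ᵥ h8v5 a 0 x2 0 y2 = h8v5 0 0 0 0 y2 := by
  refine ⟨h8Y5 5 (-a / y2), h8Y5_mem_E5 _ _, ?_, ?_, ?_, ?_⟩
  · rw [h8c5_Y, h8R5_mv5]
    apply h8v5_ext <;> ring1
  · rw [h8c5_Y, h8R5_mv5]
    apply h8v5_ext <;> ring1
  · rw [h8c5_Y, h8R5_mv5]
    apply h8v5_ext <;> ring1
  · rw [h8c5_Y, h8R5_mv5]
    apply h8v5_ext
    · field_simp; ring1
    · rfl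
    · field_simp
      linear_combination hq
    · rfl
    · rfl

end Cfsg.Agent.Lib.helper8
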