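import Cfsg.Agent.Lib.helper8.PoB4

/-! O5: every isometry is a product of an element generated by root elements and a diagonal
isometry; consequently the commutator subgroup is generated by the root elements. -/

namespace Cfsg.Agent.Lib.helper8

open Matrix Cfsg.Lie Cfsg.Lie.ChevalleyDatum

set_option linter.unusedSectionVars false
set_option linter.unusedVariables false
set_option linter.unusedSimpArgs false
set_option linter.unnecessarySeqFocus false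
set_option linter.unreachableTactic false
set_option linter.unusedTactic false

variable {F : Type*} [Field F]

/-- the polar form of the quadratic form -/
def h8B5 (u v : H8I5 → F) : F :=
  Cfsg.quadFormOdd 2 F (u + v) - Cfsg.quadFormOdd 2 F u - Cfsg.quadFormOdd 2 F v

theorem h8B5_coord (a x1 x2 y1 y2 a' x1' x2' y1' y2' : F) :
    h8B5 (h8v5 a x1 x2 y1 y2) (h8v5 a' x1' x2' y1' y2') =
      2 * a * a' + x1 * y1' + x1' * y1 + x2 * y2' + x2' * y2 := by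
  unfold h8B5
  rw [h8v5_add, h8q5, h8q5, h8q5]
  ring

theorem h8B5_isom (x : ↥(H8O5 F)) (u v : H8I5 → F) :
    h8B5 (h8c5 x *ᵥ u) (h8c5 x *ᵥ v) = h8B5 u v := by
  unfold h8B5
  rw [← Matrix.mulVec_add, h8c5_isom, h8c5_isom, h8c5_isom]

theorem h8c5_ne_zero (x : ↥(H8O5 F)) (v : H8I5 → F) (h : h8c5 x *ᵥ v = 0) : v = 0 := by
  have : h8c5 x⁻¹ *ᵥ (h8c5 x *ᵥ v) = v := by
    rw [Matrix.mulVec_mulVec, ← map_mul, inv_mul_cancel, map_one, Matrix.one_mulVec]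
  rw [← this, h, Matrix.mulVec_zero]

theorem h8v5_ne_zero_of {a x1 x2 y1 y2 : F} (h : x1 ≠ 0 ∨ x2 ≠ 0 ∨ y1 ≠ 0 ∨ y2 ≠ 0 ∨ a ≠ 0) :
    h8v5 a x1 x2 y1 y2 ≠ 0 := by
  intro h0
  have e0 := congrFun h0 (Sum.inl ())
  have e1 := congrFun h0 (Sum.inr (Sum.inl 0))
  have e2 := congrFun h0 (Sum.inr (Sum.inl 1))
  have e3 := congrFun h0 (Sum.inr (Sum.inr 0))
  have e4 := congrFun h0 (Sum.inr (Sum.inr 1))
  simp only [h8v5_0, h8v5_x1, h8v5_x2, h8v5_y1, h8v5_y2, Pi.zero_apply] at e0 e1 e2 e3 e4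
  rcases h with h | h | h | h | h
  · exact h e1
  · exact h e2
  · exact h e3
  · exact h e4
  · exact h e0

theorem h8v5_decomp (a x1 x2 y1 y2 : F) :
    h8v5 a x1 x2 y1 y2 = a • h8v5 1 0 0 0 0 + x1 • h8v5 0 1 0 0 0 + x2 • h8v5 0 0 1 0 0 +
      y1 • h8v5 0 0 0 1 0 + y2 • h8v5 0 0 0 0 1 := by
  simp only [h8v5_smul, h8v5_add]
  apply h8v5_ext <;> ring1

theorem h8v5_exists (v : H8I5 → F) : ∃ a x1 x2 y1 y2 : F, v = h8v5 a x1 x2 y1 y2 :=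
  ⟨_, _, _, _, _, h8v5_eta v⟩

/-- every isometry is the product of an element of the group generated by the root elements and
a diagonal isometry -/
theorem h8O5_decomp (g : ↥(H8O5 F)) :
    ∃ x ∈ h8E5 F, ∃ (e c : F) (he : e * e = 1) (hc : c ≠ 0),
      x * g = h8T5 e 1 c he one_ne_zero hc := by
  -- Step 1: move g e1 to e1
  obtain ⟨x1, hx1, h1⟩ : ∃ x ∈ h8E5 F, h8c5 (x * g) *ᵥ h8v5 0 1 0 0 0 = h8v5 0 1 0 0 0 := by
    have hne : h8c5 g *ᵥ h8v5 (0 : F) 1 0 0 0 ≠ 0 := by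
      intro h
      exact h8v5_ne_zero_of (Or.inl one_ne_zero) (h8c5_ne_zero g _ h)
    have hq : Cfsg.quadFormOdd 2 F (h8c5 g *ᵥ h8v5 (0 : F) 1 0 0 0) = 0 := by
      rw [h8c5_isom, h8q5]; ring
    obtain ⟨A, X1, X2, Y1, Y2, hw⟩ := h8v5_exists (h8c5 g *ᵥ h8v5 (0 : F) 1 0 0 0)
    rw [hw] at hne hq
    rw [h8q5] at hq
    obtain ⟨x, hx, hxv⟩ := h8Orb5_A A X1 X2 Y1 Y2 hne hq
    refine ⟨x, hx, ?_⟩
    rw [map_mul, ← Matrix.mulVec_mulVec, hw]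
    exact hxv
  -- Step 2: move g f1 to f1
  obtain ⟨x2, hx2, h2e, h2f⟩ : ∃ x ∈ h8E5 F,
      h8c5 (x * g) *ᵥ h8v5 0 1 0 0 0 = h8v5 0 1 0 0 0 ∧
      h8c5 (x * g) *ᵥ h8v5 0 0 0 1 0 = h8v5 0 0 0 1 0 := by
    have hq : Cfsg.quadFormOdd 2 F (h8c5 (x1 * g) *ᵥ h8v5 (0 : F) 0 0 1 0) = 0 := by
      rw [h8c5_isom, h8q5]; ring
    have hb : h8B5 (h8c5 (x1 * g) *ᵥ h8v5 (0 : F) 0 0 1 0)
        (h8c5 (x1 * g) *ᵥ h8v5 (0 : F) 1 0 0 0) = 1 := by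
      rw [h8B5_isom, h8B5_coord]; ring
    rw [h1] at hb
    obtain ⟨A, X1, X2, Y1, Y2, hw⟩ := h8v5_exists (h8c5 (x1 * g) *ᵥ h8v5 (0 : F) 0 0 1 0)
    rw [hw] at hq hb
    rw [h8B5_coord] at hb
    rw [h8q5] at hq
    have hy1 : Y1 = 1 := by linear_combination hb
    subst hy1
    obtain ⟨x, hx, hxe, hxf⟩ := h8po5_B A X1 X2 Y2 hq
    refine ⟨x * x1, Subgroup.mul_mem _ hx hx1, ?_, ?_⟩
    · rw [mul_assoc, map_mul, ← Matrix.mulVec_mulVec, h1, hxe]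
    · rw [mul_assoc, map_mul, ← Matrix.mulVec_mulVec, hw]
      exact hxf
  -- Step 3: move g e2 to a multiple of e2
  obtain ⟨x3, hx3, h3e, h3f, c, hc, h3c⟩ : ∃ x ∈ h8E5 F,
      h8c5 (x * g) *ᵥ h8v5 0 1 0 0 0 = h8v5 0 1 0 0 0 ∧
      h8c5 (x * g) *ᵥ h8v5 0 0 0 1 0 = h8v5 0 0 0 1 0 ∧
      ∃ c : F, c ≠ 0 ∧ h8c5 (x * g) *ᵥ h8v5 0 0 1 0 0 = h8v5 0 0 c 0 0 := by
    have hne : h8c5 (x2 * g) *ᵥ h8v5 (0 : F) 0 1 0 0 ≠ 0 := by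
      intro h
      exact h8v5_ne_zero_of (Or.inr (Or.inl one_ne_zero)) (h8c5_ne_zero (x2 * g) _ h)
    have hq : Cfsg.quadFormOdd 2 F (h8c5 (x2 * g) *ᵥ h8v5 (0 : F) 0 1 0 0) = 0 := by
      rw [h8c5_isom, h8q5]; ring
    have hb1 : h8B5 (h8c5 (x2 * g) *ᵥ h8v5 (0 : F) 0 1 0 0)
        (h8c5 (x2 * g) *ᵥ h8v5 (0 : F) 1 0 0 0) = 0 := by
      rw [h8B5_isom, h8B5_coord]; ring
    have hb2 : h8B5 (h8c5 (x2 * g) *ᵥ h8v5 (0 : F) 0 1 0 0)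
        (h8c5 (x2 * g) *ᵥ h8v5 (0 : F) 0 0 1 0) = 0 := by
      rw [h8B5_isom, h8B5_coord]; ring
    rw [h2e] at hb1
    rw [h2f] at hb2
    obtain ⟨A, X1, X2, Y1, Y2, hw⟩ := h8v5_exists (h8c5 (x2 * g) *ᵥ h8v5 (0 : F) 0 1 0 0)
    rw [hw] at hq hb1 hb2 hne
    rw [h8B5_coord] at hb1 hb2
    rw [h8q5] at hq
    have hy1 : Y1 = 0 := by linear_combination hb1
    have hx1' : X1 = 0 := by linear_combination hb2
    subst hy1 hx1'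
    obtain ⟨x, hx, hxe, hxf, c, hc, hxc⟩ := h8po5_C A X2 Y2 hne (by linear_combination hq)
    refine ⟨x * x2, Subgroup.mul_mem _ hx hx2, ?_, ?_, c, hc, ?_⟩
    · rw [mul_assoc, map_mul, ← Matrix.mulVec_mulVec, h2e, hxe]
    · rw [mul_assoc, map_mul, ← Matrix.mulVec_mulVec, h2f, hxf]
    · rw [mul_assoc, map_mul, ← Matrix.mulVec_mulVec, hw]
      exact hxc
  -- Step 4: move g f2 to a multiple of f2
  obtain ⟨x4, hx4, h4e, h4f, h4c, h4d⟩ : ∃ x ∈ h8E5 F,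
      h8c5 (x * g) *ᵥ h8v5 0 1 0 0 0 = h8v5 0 1 0 0 0 ∧
      h8c5 (x * g) *ᵥ h8v5 0 0 0 1 0 = h8v5 0 0 0 1 0 ∧
      h8c5 (x * g) *ᵥ h8v5 0 0 1 0 0 = h8v5 0 0 c 0 0 ∧
      h8c5 (x * g) *ᵥ h8v5 0 0 0 0 1 = h8v5 0 0 0 0 c⁻¹ := by
    have hq : Cfsg.quadFormOdd 2 F (h8c5 (x3 * g) *ᵥ h8v5 (0 : F) 0 0 0 1) = 0 := by
      rw [h8c5_isom, h8q5]; ring
    have hb1 : h8B5 (h8c5 (x3 * g) *ᵥ h8v5 (0 : F) 0 0 0 1)
        (h8c5 (x3 * g) *ᵥ h8v5 (0 : F) 1 0 0 0) = 0 := by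
      rw [h8B5_isom, h8B5_coord]; ring
    have hb2 : h8B5 (h8c5 (x3 * g) *ᵥ h8v5 (0 : F) 0 0 0 1)
        (h8c5 (x3 * g) *ᵥ h8v5 (0 : F) 0 0 1 0) = 0 := by
      rw [h8B5_isom, h8B5_coord]; ring
    have hb3 : h8B5 (h8c5 (x3 * g) *ᵥ h8v5 (0 : F) 0 0 0 1)
        (h8c5 (x3 * g) *ᵥ h8v5 (0 : F) 0 1 0 0) = 1 := by
      rw [h8B5_isom, h8B5_coord]; ring
    rw [h3e] at hb1
    rw [h3f] at hb2
    rw [h3c] at hb3
    obtain ⟨A, X1, X2, Y1, Y2, hw⟩ := h8v5_exists (h8c5 (x3 * g) *ᵥ h8v5 (0 : F) 0 0 0 1)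
    rw [hw] at hq hb1 hb2 hb3
    rw [h8B5_coord] at hb1 hb2 hb3
    rw [h8q5] at hq
    have hy1 : Y1 = 0 := by linear_combination hb1
    have hx1' : X1 = 0 := by linear_combination hb2
    have hy2 : Y2 = c⁻¹ := by
      have : c * Y2 = 1 := by linear_combination hb3
      field_simp
      linear_combination this
    subst hy1 hx1' hy2
    obtain ⟨x, hx, hxe, hxf, hxe2, hxd⟩ := h8po5_D A X2 c⁻¹ (inv_ne_zero hc)
      (by linear_combination hq)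
    refine ⟨x * x3, Subgroup.mul_mem _ hx hx3, ?_, ?_, ?_, ?_⟩
    · rw [mul_assoc, map_mul, ← Matrix.mulVec_mulVec, h3e, hxe]
    · rw [mul_assoc, map_mul, ← Matrix.mulVec_mulVec, h3f, hxf]
    · rw [mul_assoc, map_mul, ← Matrix.mulVec_mulVec, h3c]
      have : h8v5 (0 : F) 0 c 0 0 = c • h8v5 0 0 1 0 0 := by
        rw [h8v5_smul]; apply h8v5_ext <;> ring1
      rw [this, Matrix.mulVec_smul, hxe2]
    · rw [mul_assoc, map_mul, ← Matrix.mulVec_mulVec, hw]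
      exact hxd
  -- Step 5: the image of the anisotropic vector
  have hq : Cfsg.quadFormOdd 2 F (h8c5 (x4 * g) *ᵥ h8v5 (1 : F) 0 0 0 0) = 1 := by
    rw [h8c5_isom, h8q5]; ring
  have hb1 : h8B5 (h8c5 (x4 * g) *ᵥ h8v5 (1 : F) 0 0 0 0)
      (h8c5 (x4 * g) *ᵥ h8v5 (0 : F) 1 0 0 0) = 0 := by
    rw [h8B5_isom, h8B5_coord]; ring
  have hb2 : h8B5 (h8c5 (x4 * g) *ᵥ h8v5 (1 : F) 0 0 0 0)
      (h8c5 (x4 * g) *ᵥ h8v5 (0 : F) 0 0 1 0) = 0 := by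
    rw [h8B5_isom, h8B5_coord]; ring
  have hb3 : h8B5 (h8c5 (x4 * g) *ᵥ h8v5 (1 : F) 0 0 0 0)
      (h8c5 (x4 * g) *ᵥ h8v5 (0 : F) 0 1 0 0) = 0 := by
    rw [h8B5_isom, h8B5_coord]; ring
  have hb4 : h8B5 (h8c5 (x4 * g) *ᵥ h8v5 (1 : F) 0 0 0 0)
      (h8c5 (x4 * g) *ᵥ h8v5 (0 : F) 0 0 0 1) = 0 := by
    rw [h8B5_isom, h8B5_coord]; ring
  rw [h4e] at hb1
  rw [h4f] at hb2
  rw [h4c] at hb3
  rw [h4d] at hb4
  obtain ⟨e, X1, X2, Y1, Y2, hw⟩ := h8v5_exists (h8c5 (x4 * g) *ᵥ h8v5 (1 : F) 0 0 0 0)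
  rw [hw] at hq hb1 hb2 hb3 hb4
  rw [h8B5_coord] at hb1 hb2 hb3 hb4
  rw [h8q5] at hq
  have hy1 : Y1 = 0 := by linear_combination hb1
  have hx1' : X1 = 0 := by linear_combination hb2
  have hy2 : Y2 = 0 := by
    have : c * Y2 = 0 := by linear_combination hb3
    rcases mul_eq_zero.mp this with h | h
    · exact absurd h hc
    · exact h
  have hx2' : X2 = 0 := by
    have : X2 * c⁻¹ = 0 := by linear_combination hb4
    rcases mul_eq_zero.mp this with h | h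
    · exact h
    · exact absurd h (inv_ne_zero hc)
  subst hy1 hx1' hy2 hx2'
  have he : e * e = 1 := by linear_combination hq
  refine ⟨x4, hx4, e, c, he, hc, ?_⟩
  apply h8c5_inj
  rw [h8c5_T]
  apply h8mat5_ext
  intro a x1 x2 y1 y2
  rw [h8D5m_mv, h8v5_decomp a x1 x2 y1 y2]
  simp only [Matrix.mulVec_add, Matrix.mulVec_smul, hw, h4e, h4f, h4c, h4d]
  simp only [h8v5_smul, h8v5_add]
  apply h8v5_ext <;> first | ring1 | (field_simp; ring1) | field_simp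

end Cfsg.Agent.Lib.helper8
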