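import Mathlib

/-! A perfect central extension of a simple group and a second quotient of it. -/

namespace Cfsg.Agent.Lib.helper8

open scoped commutatorElement

theorem h8cov_center_bot {G : Type*} [Group G] [IsSimpleGroup G] (hG : ¬ IsMulCommutative G) :
    Subgroup.center G = ⊥ := by
  rcases (inferInstance : IsSimpleGroup G).eq_bot_or_eq_top_of_normal (Subgroup.center G) inferInstance with h | h
  · exact h
  · exfalso
    apply hG
    refine ⟨⟨fun a b => ?_⟩⟩
    have : a ∈ Subgroup.center G := by rw [h]; exact Subgroup.mem_top _
    exact (Subgroup.mem_center_iff.mp this b).symm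

theorem h8cov_map_center {S T : Type*} [Group S] [Group T] (f : S →* T)
    (hf : Function.Surjective f) (z : S) (hz : z ∈ Subgroup.center S) :
    f z ∈ Subgroup.center T := by
  rw [Subgroup.mem_center_iff]
  intro t
  obtain ⟨s, rfl⟩ := hf t
  rw [← map_mul, ← map_mul, Subgroup.mem_center_iff.mp hz s]

/-- normal subgroups of a perfect central extension of a simple group are central or everything -/
theorem h8cov_normal {S G : Type*} [Group S] [Group G] [IsSimpleGroup G]
    (hS : commutator S = ⊤) (θ : S →* G) (hθ : Function.Surjective θ)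
    (hker : θ.ker ≤ Subgroup.center S) (K : Subgroup S) [hK : K.Normal] :
    K ≤ Subgroup.center S ∨ K = ⊤ := by
  have hKn : (K.map θ).Normal := hK.map θ hθ
  rcases (inferInstance : IsSimpleGroup G).eq_bot_or_eq_top_of_normal (K.map θ) hKn with h | h
  · left
    intro k hk
    apply hker
    rw [MonoidHom.mem_ker]
    have : θ k ∈ K.map θ := Subgroup.mem_map_of_mem θ hk
    rw [h] at this
    exact Subgroup.mem_bot.mp this
  · right
    -- every element is a product of an element of K and a central element
    have hdec : ∀ s : S, ∃ k ∈ K, ∃ z ∈ Subgroup.center S, s = k * z := by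
      intro s
      have : θ s ∈ K.map θ := by rw [h]; exact Subgroup.mem_top _
      obtain ⟨k, hk, hks⟩ := Subgroup.mem_map.mp this
      refine ⟨k, hk, k⁻¹ * s, ?_, by group⟩
      apply hker
      rw [MonoidHom.mem_ker, map_mul, map_inv, hks, inv_mul_cancel]
    have hcomm : commutator S ≤ K := by
      rw [commutator_def, Subgroup.commutator_le]
      intro s1 _ s2 _
      obtain ⟨k1, hk1, z1, hz1, rfl⟩ := hdec s1
      obtain ⟨k2, hk2, z2, hz2, rfl⟩ := hdec s2
      rw [← QuotientGroup.eq_one_iff, ← QuotientGroup.mk'_apply, map_commutatorElement, map_mul,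
        map_mul]
      have q1 : QuotientGroup.mk' K k1 = 1 := by
        rw [QuotientGroup.mk'_apply, QuotientGroup.eq_one_iff]; exact hk1
      have q2 : QuotientGroup.mk' K k2 = 1 := by
        rw [QuotientGroup.mk'_apply, QuotientGroup.eq_one_iff]; exact hk2
      rw [q1, q2, one_mul, one_mul, ← map_commutatorElement]
      have : ⁅z1, z2⁆ = 1 := by
        rw [commutatorElement_eq_one_iff_commute]
        exact (Subgroup.mem_center_iff.mp hz1 z2).symm
      rw [this, map_one]
    rw [hS] at hcomm
    exact top_le_iff.mp hcomm

/-- a perfect central extension `S` of a simple nonabelian group `G`, and another nontrivial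
quotient `Ω` of `S`: then `Ω` modulo its centre is isomorphic to `G` -/
theorem h8cov_iso {S G Ω : Type*} [Group S] [Group G] [Group Ω] [IsSimpleGroup G]
    (hG : ¬ IsMulCommutative G) (hS : commutator S = ⊤) (θ : S →* G)
    (hθ : Function.Surjective θ) (hker : θ.ker ≤ Subgroup.center S) (ψ : S →* Ω)
    (hψ : Function.Surjective ψ) (hΩ : ∃ x : Ω, x ≠ 1) :
    Nonempty (G ≃* Ω ⧸ Subgroup.center Ω) := by
  -- the kernel of θ is the centre
  have hkerθ : θ.ker = Subgroup.center S := by
    apply le_antisymm hker
    intro z hz
    rw [MonoidHom.mem_ker]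
    have := h8cov_map_center θ hθ z hz
    rw [h8cov_center_bot hG] at this
    exact Subgroup.mem_bot.mp this
  let φ : S →* Ω ⧸ Subgroup.center Ω := (QuotientGroup.mk' (Subgroup.center Ω)).comp ψ
  have hφ : Function.Surjective φ :=
    (QuotientGroup.mk'_surjective (Subgroup.center Ω)).comp hψ
  have hkerφ : φ.ker = Subgroup.center S := by
    apply le_antisymm
    · rcases h8cov_normal hS θ hθ hker φ.ker with h | h
      · exact h
      · exfalso
        -- then Ω is commutative, hence trivial since S is perfect
        have hcen : ∀ x : Ω, x ∈ Subgroup.center Ω := by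
          intro x
          obtain ⟨s, rfl⟩ := hψ x
          have : s ∈ φ.ker := by rw [h]; exact Subgroup.mem_top _
          rw [MonoidHom.mem_ker] at this
          exact (QuotientGroup.eq_one_iff _).mp this
        have hab : ∀ x y : Ω, x * y = y * x := fun x y =>
          (Subgroup.mem_center_iff.mp (hcen x) y).symm
        have htriv : ∀ s : S, ψ s = 1 := by
          have : commutator S ≤ ψ.ker := by
            rw [commutator_def, Subgroup.commutator_le]
            intro s1 _ s2 _
            rw [MonoidHom.mem_ker, map_commutatorElement, commutatorElement_def,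
              hab (ψ s1) (ψ s2)]
            group
          intro s
          have hs : s ∈ commutator S := by rw [hS]; exact Subgroup.mem_top _
          exact MonoidHom.mem_ker.mp (this hs)
        obtain ⟨x, hx⟩ := hΩ
        obtain ⟨s, rfl⟩ := hψ x
        exact hx (htriv s)
    · intro z hz
      rw [MonoidHom.mem_ker]
      show QuotientGroup.mk' (Subgroup.center Ω) (ψ z) = 1
      rw [QuotientGroup.mk'_apply, QuotientGroup.eq_one_iff]
      exact h8cov_map_center ψ hψ z hz
  have e1 : S ⧸ θ.ker ≃* G := QuotientGroup.quotientKerEquivOfSurjective θ hθ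
  have e2 : S ⧸ φ.ker ≃* Ω ⧸ Subgroup.center Ω := QuotientGroup.quotientKerEquivOfSurjective φ hφ
  have e3 : S ⧸ θ.ker ≃* S ⧸ φ.ker := QuotientGroup.quotientMulEquivOfEq (by rw [hkerθ, hkerφ])
  exact ⟨e1.symm.trans (e3.trans e2)⟩

end Cfsg.Agent.Lib.helper8
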