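import Cfsg.Agent.Lib.helper8.PoB5
import Cfsg.Agent.Lib.helper8.PoGen
import Cfsg.Agent.S1056
import Cfsg.Agent.S2395
import Cfsg.Agent.S2396

/-! The Chevalley group of type B2 is isomorphic to PΩ5. -/

namespace Cfsg.Agent.Lib.helper8

open Matrix Cfsg.Lie Cfsg.Lie.ChevalleyDatum
open scoped commutatorElement

set_option linter.unusedSectionVars false
set_option linter.unusedVariables false

variable {F : Type*} [Field F]

theorem h8T5_comm (e a b e' a' b' : F) (he : e * e = 1) (ha : a ≠ 0) (hb : b ≠ 0)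
    (he' : e' * e' = 1) (ha' : a' ≠ 0) (hb' : b' ≠ 0) :
    h8T5 e a b he ha hb * h8T5 e' a' b' he' ha' hb' =
      h8T5 e' a' b' he' ha' hb' * h8T5 e a b he ha hb := by
  apply h8c5_inj
  rw [map_mul, map_mul, h8c5_T, h8c5_T, h8D5m_mul, h8D5m_mul]
  congr 1 <;> ring

instance h8E5_normal : (h8E5 F).Normal := by
  constructor
  intro y hy g
  obtain ⟨x, hx, e, c, he, hc, hxg⟩ := h8O5_decomp g
  have hg : g = x⁻¹ * h8T5 e 1 c he one_ne_zero hc := by rw [← hxg]; group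
  have : g * y * g⁻¹ = x⁻¹ * (h8T5 e 1 c he one_ne_zero hc * y *
      (h8T5 e 1 c he one_ne_zero hc)⁻¹) * x := by rw [hg]; group
  rw [this]
  exact Subgroup.mul_mem _ (Subgroup.mul_mem _ (Subgroup.inv_mem _ hx)
    (h8T5_normalizes e 1 c he one_ne_zero hc y hy)) hx

theorem h8comm_le_E5 : commutator ↥(H8O5 F) ≤ h8E5 F := by
  rw [commutator_def, Subgroup.commutator_le]
  intro g1 _ g2 _
  obtain ⟨x1, hx1, e1, c1, he1, hc1, hxg1⟩ := h8O5_decomp g1
  obtain ⟨x2, hx2, e2, c2, he2, hc2, hxg2⟩ := h8O5_decomp g2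
  have hg1 : g1 = x1⁻¹ * h8T5 e1 1 c1 he1 one_ne_zero hc1 := by rw [← hxg1]; group
  have hg2 : g2 = x2⁻¹ * h8T5 e2 1 c2 he2 one_ne_zero hc2 := by rw [← hxg2]; group
  rw [← QuotientGroup.eq_one_iff, ← QuotientGroup.mk'_apply, map_commutatorElement, hg1, hg2,
    map_mul, map_mul]
  have q1 : QuotientGroup.mk' (h8E5 F) x1⁻¹ = 1 := by
    rw [QuotientGroup.mk'_apply, QuotientGroup.eq_one_iff]; exact Subgroup.inv_mem _ hx1
  have q2 : QuotientGroup.mk' (h8E5 F) x2⁻¹ = 1 := by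
    rw [QuotientGroup.mk'_apply, QuotientGroup.eq_one_iff]; exact Subgroup.inv_mem _ hx2
  rw [q1, q2, one_mul, one_mul, ← map_commutatorElement]
  have : ⁅h8T5 e1 1 c1 he1 one_ne_zero hc1, h8T5 e2 1 c2 he2 one_ne_zero hc2⁆ = 1 := by
    rw [commutatorElement_eq_one_iff_commute]
    exact h8T5_comm _ _ _ _ _ _ _ _ _ _ _ _
  rw [this, map_one]

theorem h8Omega5_eq (hF : ∃ a : F, a ≠ 0 ∧ a ≠ 1) :
    Cfsg.Omega F (Cfsg.quadFormOdd 2 F) = h8E5 F :=
  le_antisymm h8comm_le_E5 (h8E5_le_comm hF)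

/-- the homomorphism from the Steinberg cover onto Ω5 -/
noncomputable def h8psi5 (F : Type*) [Field F] : chevB2.SteinbergCover F →* ↥(H8O5 F) :=
  h8ucSigma chevB2 h8Y5 h8Y5_sys h8Y5_big

theorem h8psi5_gen (r : ℕ) (t : F) : h8psi5 F (chevB2.scGen F r t) = h8Y5 r t :=
  h8ucSigma_gen chevB2 h8Y5 h8Y5_sys h8Y5_big r t

theorem h8psi5_range : (h8psi5 F).range = h8E5 F := by
  apply le_antisymm
  · rintro _ ⟨s, rfl⟩
    induction s using PresentedGroup.induction_on with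
    | _ w =>
      induction w using FreeGroup.induction_on with
      | C1 => rw [map_one, map_one]; exact Subgroup.one_mem _
      | of p =>
        obtain ⟨⟨r, hr⟩, t⟩ := p
        have : PresentedGroup.mk (chevB2.steinbergRelsAB F) (FreeGroup.of (⟨r, hr⟩, t)) =
            chevB2.scGen F r t := by
          unfold ChevalleyDatum.scGen ChevalleyDatum.stX
          rw [dif_pos hr]
        rw [this, h8psi5_gen]
        exact h8Y5_mem_E5 r t
      | inv_of p ih =>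
        rw [map_inv, map_inv]
        exact Subgroup.inv_mem _ ih
      | mul x y ihx ihy =>
        rw [map_mul, map_mul]
        exact Subgroup.mul_mem _ ihx ihy
  · unfold h8E5
    rw [Subgroup.closure_le]
    rintro g ⟨r, t, rfl⟩
    exact ⟨chevB2.scGen F r t, h8psi5_gen r t⟩

theorem h8Y5_ne_one : h8Y5 4 (1 : F) ≠ 1 := by
  intro h
  have h1 : h8c5 (h8Y5 4 (1 : F)) *ᵥ h8v5 0 0 1 0 0 = h8v5 0 0 1 0 0 := by
    rw [h, map_one, Matrix.one_mulVec]
  rw [h8c5_Y, h8R5_mv4] at h1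
  have := (h8v5_inj h1).2.1
  simp at this

/-- the Chevalley group of type B2 is isomorphic to PΩ5 -/
theorem h8po_B2 (hF : ∃ a : F, a ≠ 0 ∧ a ≠ 1) :
    Nonempty (↥(chevB2.group F) ≃* Cfsg.POmega F (Cfsg.quadFormOdd 2 F)) := by
  obtain ⟨θ, hθ, hker, _⟩ := Cfsg.Agent.S2396.result (K := F) chevB2 (by simp) (fun _ => hF)
  have hS := Cfsg.Agent.S2395.result (K := F) chevB2 (by simp) (fun _ => hF)
  obtain ⟨hsimple, hnc⟩ := Cfsg.Agent.S1056.result hF
  let ψ : chevB2.SteinbergCover F →* ↥(Cfsg.Omega F (Cfsg.quadFormOdd 2 F)) :=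
    (h8psi5 F).codRestrict _ (fun s => by
      rw [h8Omega5_eq hF, ← h8psi5_range]; exact ⟨s, rfl⟩)
  have hψ : Function.Surjective ψ := by
    rintro ⟨y, hy⟩
    rw [h8Omega5_eq hF, ← h8psi5_range] at hy
    obtain ⟨s, rfl⟩ := hy
    exact ⟨s, Subtype.ext rfl⟩
  have hΩ : ∃ x : ↥(Cfsg.Omega F (Cfsg.quadFormOdd 2 F)), x ≠ 1 := by
    refine ⟨ψ (chevB2.scGen F 4 1), ?_⟩
    intro h
    have h2 : (ψ (chevB2.scGen F 4 1) : ↥(H8O5 F)) = 1 := by rw [h]; rfl
    have h3 : (ψ (chevB2.scGen F 4 1) : ↥(H8O5 F)) = h8Y5 4 1 := h8psi5_gen 4 1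
    rw [h3] at h2
    exact h8Y5_ne_one h2
  exact h8cov_iso hnc hS θ hθ hker ψ hψ hΩ

end Cfsg.Agent.Lib.helper8
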