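import Mathlib
import Cfsg.Prelude.Def_Classical
import Cfsg.Prelude.Def_ChevD4
import Cfsg.Prelude.Def_ChevStructure

/-! O8+: root matrices over the integers and the structure constants of `chevD4`. -/

namespace Cfsg.Agent.Lib.helper8

open Matrix Cfsg.Lie Cfsg.Lie.ChevalleyDatum

abbrev H8I8 : Type := Fin 4 ⊕ Fin 4

/-- the involution exchanging `e_i` and `f_i` -/
def h8st (a : H8I8) : H8I8 := Sum.swap a

/-- the Lie algebra element `E_ab - E_b*a*` -/
def h8N8 (R : Type*) [Ring R] (a b : H8I8) : Matrix H8I8 H8I8 R :=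
  Matrix.single a b 1 - Matrix.single (h8st b) (h8st a) 1

/-- the table (a, b, sign) of the 24 roots in the numbering of `chevD4` -/
def h8tab8 : List (H8I8 × H8I8 × ℤ) := [(Sum.inr 0, Sum.inl 1, 1), (Sum.inr 0, Sum.inl 2, 1), (Sum.inl 3, Sum.inl 0, 1), (Sum.inr 0, Sum.inl 3, 1), (Sum.inl 2, Sum.inl 0, -1), (Sum.inl 1, Sum.inl 0, 1), (Sum.inr 1, Sum.inl 2, -1), (Sum.inl 3, Sum.inl 1, -1), (Sum.inr 1, Sum.inl 3, -1), (Sum.inl 2, Sum.inl 1, 1), (Sum.inl 3, Sum.inl 2, 1), (Sum.inr 2, Sum.inl 3, 1), (Sum.inl 2, Sum.inr 3, -1), (Sum.inl 2, Sum.inl 3, 1), (Sum.inl 1, Sum.inl 2, 1), (Sum.inl 1, Sum.inr 3, 1), (Sum.inl 1, Sum.inl 3, -1), (Sum.inl 1, Sum.inr 2, 1), (Sum.inl 0, Sum.inl 1, 1), (Sum.inl 0, Sum.inl 2, -1), (Sum.inl 0, Sum.inr 3, -1), (Sum.inl 0, Sum.inl 3, 1), (Sum.inl 0, Sum.inr 2, -1), (Sum.inl 0, Sum.inr 1, -1)]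

/-- the root vectors over the integers -/
def h8X8z (r : ℕ) : Matrix H8I8 H8I8 ℤ :=
  match h8tab8[r]? with
  | some (a, b, σ) => σ • h8N8 ℤ a b
  | none => 0

def h8d4ChkSq : Bool := (List.range 24).all fun r => decide (h8X8z r * h8X8z r = 0)

theorem h8d4ChkSq_true : h8d4ChkSq = true := by decide +kernel

theorem h8X8z_sq (r : ℕ) : h8X8z r * h8X8z r = 0 := by
  by_cases hr : r < 24
  · have h := h8d4ChkSq_true
    unfold h8d4ChkSq at h
    rw [List.all_eq_true] at h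
    exact of_decide_eq_true (h r (List.mem_range.mpr hr))
  · have : h8X8z r = 0 := by
      unfold h8X8z
      have : h8tab8[r]? = none := by
        rw [List.getElem?_eq_none_iff]
        exact not_lt.mp hr
      rw [this]
    rw [this, Matrix.zero_mul]

def h8d4Chk1 (r : ℕ) : Bool := (List.range 24).all fun s =>
  (r == s) || (s == 23 - r) ||
   (decide (chevD4.commTerms r s = []) && decide (h8X8z r * h8X8z s = h8X8z s * h8X8z r)) ||
   ((List.range 24).any fun k => ([1, -1] : List ℤ).any fun C =>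
      decide (chevD4.commTerms r s = [(k, C, 1, 1)]) &&
      decide (h8X8z r * h8X8z s - h8X8z s * h8X8z r = C • h8X8z k) &&
      decide (h8X8z s * h8X8z k = 0) && decide (h8X8z r * h8X8z k = 0))

set_option maxRecDepth 100000

theorem h8d4Chk1_0 : h8d4Chk1 0 = true := by decide +kernel
theorem h8d4Chk1_1 : h8d4Chk1 1 = true := by decide +kernel
theorem h8d4Chk1_2 : h8d4Chk1 2 = true := by decide +kernel
theorem h8d4Chk1_3 : h8d4Chk1 3 = true := by decide +kernel
theorem h8d4Chk1_4 : h8d4Chk1 4 = true := by decide +kernel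
theorem h8d4Chk1_5 : h8d4Chk1 5 = true := by decide +kernel
theorem h8d4Chk1_6 : h8d4Chk1 6 = true := by decide +kernel
theorem h8d4Chk1_7 : h8d4Chk1 7 = true := by decide +kernel
theorem h8d4Chk1_8 : h8d4Chk1 8 = true := by decide +kernel
theorem h8d4Chk1_9 : h8d4Chk1 9 = true := by decide +kernel
theorem h8d4Chk1_10 : h8d4Chk1 10 = true := by decide +kernel
theorem h8d4Chk1_11 : h8d4Chk1 11 = true := by decide +kernel
theorem h8d4Chk1_12 : h8d4Chk1 12 = true := by decide +kernel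
theorem h8d4Chk1_13 : h8d4Chk1 13 = true := by decide +kernel
theorem h8d4Chk1_14 : h8d4Chk1 14 = true := by decide +kernel
theorem h8d4Chk1_15 : h8d4Chk1 15 = true := by decide +kernel
theorem h8d4Chk1_16 : h8d4Chk1 16 = true := by decide +kernel
theorem h8d4Chk1_17 : h8d4Chk1 17 = true := by decide +kernel
theorem h8d4Chk1_18 : h8d4Chk1 18 = true := by decide +kernel
theorem h8d4Chk1_19 : h8d4Chk1 19 = true := by decide +kernel
theorem h8d4Chk1_20 : h8d4Chk1 20 = true := by decide +kernel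
theorem h8d4Chk1_21 : h8d4Chk1 21 = true := by decide +kernel
theorem h8d4Chk1_22 : h8d4Chk1 22 = true := by decide +kernel
theorem h8d4Chk1_23 : h8d4Chk1 23 = true := by decide +kernel

theorem h8d4Chk1_all (r : ℕ) (hr : r < 24) : h8d4Chk1 r = true := by
  interval_cases r
  · exact h8d4Chk1_0
  · exact h8d4Chk1_1
  · exact h8d4Chk1_2
  · exact h8d4Chk1_3
  · exact h8d4Chk1_4
  · exact h8d4Chk1_5
  · exact h8d4Chk1_6
  · exact h8d4Chk1_7
  · exact h8d4Chk1_8
  · exact h8d4Chk1_9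
  · exact h8d4Chk1_10
  · exact h8d4Chk1_11
  · exact h8d4Chk1_12
  · exact h8d4Chk1_13
  · exact h8d4Chk1_14
  · exact h8d4Chk1_15
  · exact h8d4Chk1_16
  · exact h8d4Chk1_17
  · exact h8d4Chk1_18
  · exact h8d4Chk1_19
  · exact h8d4Chk1_20
  · exact h8d4Chk1_21
  · exact h8d4Chk1_22
  · exact h8d4Chk1_23

theorem h8d4_pair (r s : ℕ) (hr : r < 24) (hs : s < 24) (h1 : s ≠ r) (h2 : s ≠ 23 - r) :
    (chevD4.commTerms r s = [] ∧ h8X8z r * h8X8z s = h8X8z s * h8X8z r) ∨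
    (∃ (k : ℕ) (C : ℤ), k < 24 ∧ chevD4.commTerms r s = [(k, C, 1, 1)] ∧
      h8X8z r * h8X8z s - h8X8z s * h8X8z r = C • h8X8z k ∧
      h8X8z s * h8X8z k = 0 ∧ h8X8z r * h8X8z k = 0) := by
  have h := h8d4Chk1_all r hr
  unfold h8d4Chk1 at h
  rw [List.all_eq_true] at h
  have hs' := h s (List.mem_range.mpr hs)
  simp only [Bool.or_eq_true, Bool.and_eq_true, beq_iff_eq, decide_eq_true_eq,
    List.any_eq_true, List.mem_range] at hs'
  rcases hs' with ((h' | h') | h') | h'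
  · exact absurd h'.symm h1
  · exact absurd h' h2
  · left; exact h'
  · right
    obtain ⟨k, hk, C, _, hh⟩ := h'
    exact ⟨k, C, hk, hh.1.1.1, hh.1.1.2, hh.1.2, hh.2⟩

end Cfsg.Agent.Lib.helper8
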