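import Cfsg.Agent.Lib.helper8.PoD1
import Cfsg.Agent.Lib.helper8.ChevUC12

/-! O8+: root elements over a field, Steinberg relations of type D4. -/

namespace Cfsg.Agent.Lib.helper8

open Matrix Cfsg.Lie Cfsg.Lie.ChevalleyDatum

set_option linter.unusedSectionVars false
set_option linter.unusedVariables false

variable {F : Type*} [Field F]

/-- the root vectors over `F` -/
def h8X8 (F : Type*) [Field F] (r : ℕ) : Matrix H8I8 H8I8 F :=
  (Int.castRingHom F).mapMatrix (h8X8z r)

theorem h8X8_sq (r : ℕ) : h8X8 F r * h8X8 F r = 0 := by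
  unfold h8X8
  rw [← map_mul, h8X8z_sq, map_zero]

theorem h8X8_big (r : ℕ) (hr : 24 ≤ r) : h8X8 F r = 0 := by
  have : h8X8z r = 0 := by
    unfold h8X8z
    have : h8tab8[r]? = none := by
      rw [List.getElem?_eq_none_iff]
      exact hr
    rw [this]
  unfold h8X8
  rw [this, map_zero]

theorem h8X8_pair (r s : ℕ) (hr : r < 24) (hs : s < 24) (h1 : s ≠ r) (h2 : s ≠ 23 - r) :
    (chevD4.commTerms r s = [] ∧ h8X8 F r * h8X8 F s = h8X8 F s * h8X8 F r) ∨
    (∃ (k : ℕ) (C : ℤ), k < 24 ∧ chevD4.commTerms r s = [(k, C, 1, 1)] ∧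
      h8X8 F r * h8X8 F s - h8X8 F s * h8X8 F r = (C : F) • h8X8 F k ∧
      h8X8 F s * h8X8 F k = 0 ∧ h8X8 F r * h8X8 F k = 0) := by
  rcases h8d4_pair r s hr hs h1 h2 with ⟨h, hc⟩ | ⟨k, C, hk, h, hc, hz1, hz2⟩
  · left
    refine ⟨h, ?_⟩
    unfold h8X8
    rw [← map_mul, ← map_mul, hc]
  · right
    refine ⟨k, C, hk, h, ?_, ?_, ?_⟩
    · unfold h8X8
      rw [← map_mul, ← map_mul, ← map_sub, hc, map_zsmul, ← Int.cast_smul_eq_zsmul F]
    · unfold h8X8
      rw [← map_mul, hz1, map_zero]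
    · unfold h8X8
      rw [← map_mul, hz2, map_zero]

/-- the root elements as matrices -/
def h8R8 (r : ℕ) (t : F) : Matrix H8I8 H8I8 F := 1 + t • h8X8 F r

theorem h8R8_add (r : ℕ) (t u : F) : h8R8 r t * h8R8 r u = h8R8 r (t + u) := by
  unfold h8R8
  rw [add_mul, mul_add, mul_add, one_mul, mul_one, one_mul, smul_mul_smul_comm, h8X8_sq,
    smul_zero, add_zero, add_smul]
  abel

theorem h8R8_zero (r : ℕ) : h8R8 r (0 : F) = 1 := by
  unfold h8R8
  rw [zero_smul, add_zero]

theorem h8R8_big (r : ℕ) (hr : 24 ≤ r) (t : F) : h8R8 r t = 1 := by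
  unfold h8R8
  rw [h8X8_big r hr, smul_zero, add_zero]

theorem h8exp2 (A B : Matrix H8I8 H8I8 F) (a b : F) :
    (1 + a • A) * (1 + b • B) = 1 + a • A + b • B + (a * b) • (A * B) := by
  rw [add_mul, mul_add, mul_add, one_mul, mul_one, one_mul, smul_mul_smul_comm]
  abel

/-- the commutator relations at the level of matrices -/
theorem h8R8_comm (r s : ℕ) (hr : r < 24) (hs : s < 24) (h1 : s ≠ r) (h2 : s ≠ 23 - r) (t u : F) :
    h8R8 s u * h8R8 r t = h8R8 r t * h8R8 s u *
      ((chevD4.commWord F r s t u).map fun p => h8R8 p.1 p.2).prod := by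
  rcases h8X8_pair (F := F) r s hr hs h1 h2 with ⟨h, hc⟩ | ⟨k, C, hk, h, hc, hz1, hz2⟩
  · simp only [ChevalleyDatum.commWord, h, List.map_nil, List.prod_nil, mul_one]
    unfold h8R8
    rw [h8exp2, h8exp2, hc, mul_comm u t]
    abel
  · simp only [ChevalleyDatum.commWord, h, List.map_cons, List.map_nil, List.prod_cons,
      List.prod_nil, mul_one, pow_one]
    unfold h8R8
    have hAB : h8X8 F s * h8X8 F r = h8X8 F r * h8X8 F s - (C : F) • h8X8 F k := by
      rw [← hc]; abel
    set A := h8X8 F s with hA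
    set B := h8X8 F r with hB
    set K := h8X8 F k with hK
    have hBAK : B * A * K = 0 := by rw [mul_assoc, hz1, mul_zero]
    have e2 : (1 + t • B) * (1 + u • A) * (1 + ((C : F) * -t * u) • K) =
        1 + t • B + u • A + (t * u) • (B * A) + ((C : F) * -t * u) • K := by
      rw [h8exp2, mul_add, mul_one, add_mul, add_mul, add_mul, one_mul, smul_mul_smul_comm,
        smul_mul_smul_comm, smul_mul_smul_comm, hz2, hz1, hBAK, smul_zero,
        smul_zero, smul_zero]
      abel
    rw [h8exp2, e2, hAB]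
    module

end Cfsg.Agent.Lib.helper8
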