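import Cfsg.Agent.Lib.helper8.PoD2

/-! O8+: Siegel elements, isometry property, the subgroup they generate. -/

namespace Cfsg.Agent.Lib.helper8

open Matrix Cfsg.Lie Cfsg.Lie.ChevalleyDatum

set_option linter.unusedSectionVars false
set_option linter.unusedVariables false

variable {F : Type*} [Field F]

@[simp] theorem h8st_inl (i : Fin 4) : h8st (Sum.inl i) = Sum.inr i := rfl
@[simp] theorem h8st_inr (i : Fin 4) : h8st (Sum.inr i) = Sum.inl i := rfl
@[simp] theorem h8st_st (a : H8I8) : h8st (h8st a) = a := by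
  rcases a with a | a <;> rfl

theorem h8st_ne (a : H8I8) : h8st a ≠ a := by
  rcases a with a | a <;> simp

theorem h8st_inj {a b : H8I8} (h : h8st a = h8st b) : a = b := by
  have := congrArg h8st h
  simpa using this

/-- Siegel matrix `1 + t (E_ab - E_b*a*)` -/
def h8S8m (a b : H8I8) (t : F) : Matrix H8I8 H8I8 F := 1 + t • h8N8 F a b

theorem h8S8m_apply (a b : H8I8) (t : F) (v : H8I8 → F) (c : H8I8) :
    (h8S8m a b t *ᵥ v) c =
      v c + t * ((if c = a then v b else 0) - (if c = h8st b then v (h8st a) else 0)) := by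
  unfold h8S8m h8N8
  rw [Matrix.add_mulVec, Matrix.one_mulVec, Matrix.smul_mulVec, Matrix.sub_mulVec,
    Matrix.single_mulVec, Matrix.single_mulVec]
  simp only [Pi.add_apply, Pi.smul_apply, Pi.sub_apply, Function.update_apply, Pi.zero_apply,
    smul_eq_mul, one_mul]

theorem h8q8 (v : H8I8 → F) : Cfsg.quadFormPlus 4 F v =
    v (Sum.inl 0) * v (Sum.inr 0) + v (Sum.inl 1) * v (Sum.inr 1) +
      v (Sum.inl 2) * v (Sum.inr 2) + v (Sum.inl 3) * v (Sum.inr 3) := by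
  unfold Cfsg.quadFormPlus
  rw [Fin.sum_univ_four]

theorem h8S8m_isom (a b : H8I8) (hab : a ≠ b) (hab' : a ≠ h8st b) (t : F) (v : H8I8 → F) :
    Cfsg.quadFormPlus 4 F (h8S8m a b t *ᵥ v) = Cfsg.quadFormPlus 4 F v := by
  rw [h8q8, h8q8]
  simp only [h8S8m_apply]
  rcases a with a | a <;> rcases b with b | b <;> fin_cases a <;> fin_cases b <;>
    first
    | exact absurd rfl hab
    | exact absurd rfl hab'
    | (simp; ring)

/-! ### the table -/

theorem h8tab8_valid0 : ∀ r : Fin 24, ∃ a b : H8I8, ∃ σ ∈ ([1, -1] : List ℤ),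
    h8tab8[r.val]? = some (a, b, σ) ∧ a ≠ b ∧ a ≠ h8st b := by decide

theorem h8tab8_valid (r : Fin 24) : ∃ a b : H8I8, ∃ σ : ℤ, h8tab8[r.val]? = some (a, b, σ) ∧
    a ≠ b ∧ a ≠ h8st b ∧ (σ = 1 ∨ σ = -1) := by
  obtain ⟨a, b, σ, hσ, h1, h2, h3⟩ := h8tab8_valid0 r
  refine ⟨a, b, σ, h1, h2, h3, ?_⟩
  simpa using hσ

theorem h8tab8_complete0 : ∀ a b : H8I8, a ≠ b → a ≠ h8st b → ∃ r : Fin 24,
    ∃ σ ∈ ([1, -1] : List ℤ), (h8tab8[r.val]? = some (a, b, σ) ∨
      h8tab8[r.val]? = some (h8st b, h8st a, σ)) := by decide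

theorem h8tab8_complete (a b : H8I8) (hab : a ≠ b) (hab' : a ≠ h8st b) : ∃ r : Fin 24, ∃ σ : ℤ,
    (σ = 1 ∨ σ = -1) ∧ (h8tab8[r.val]? = some (a, b, σ) ∨
      h8tab8[r.val]? = some (h8st b, h8st a, σ)) := by
  obtain ⟨r, σ, hσ, h⟩ := h8tab8_complete0 a b hab hab'
  refine ⟨r, σ, ?_, h⟩
  simpa using hσ

theorem h8N8_map (a b : H8I8) :
    (Int.castRingHom F).mapMatrix (h8N8 ℤ a b) = h8N8 F a b := by
  unfold h8N8
  ext i j
  simp [Matrix.single_apply, Matrix.sub_apply]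

theorem h8N8_swap (a b : H8I8) : h8N8 F (h8st b) (h8st a) = - h8N8 F a b := by
  unfold h8N8
  rw [h8st_st, h8st_st]
  abel

theorem h8X8_tab (r : ℕ) (a b : H8I8) (σ : ℤ) (h : h8tab8[r]? = some (a, b, σ)) :
    h8X8 F r = (σ : F) • h8N8 F a b := by
  unfold h8X8 h8X8z
  rw [h]
  simp only []
  rw [map_zsmul, h8N8_map, ← Int.cast_smul_eq_zsmul F]

theorem h8R8_tab (r : ℕ) (a b : H8I8) (σ : ℤ) (h : h8tab8[r]? = some (a, b, σ)) (t : F) :
    h8R8 r t = h8S8m a b ((σ : F) * t) := by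
  unfold h8R8 h8S8m
  rw [h8X8_tab r a b σ h, smul_smul, mul_comm]

theorem h8R8_isom (r : ℕ) (t : F) (v : H8I8 → F) :
    Cfsg.quadFormPlus 4 F (h8R8 r t *ᵥ v) = Cfsg.quadFormPlus 4 F v := by
  by_cases hr : r < 24
  · obtain ⟨a, b, σ, h, hab, hab', _⟩ := h8tab8_valid ⟨r, hr⟩
    rw [h8R8_tab r a b σ h, h8S8m_isom a b hab hab']
  · rw [h8R8_big r (not_lt.mp hr), Matrix.one_mulVec]

/-- every Siegel element is a root element -/
theorem h8S8m_eq_R8 (a b : H8I8) (hab : a ≠ b) (hab' : a ≠ h8st b) (t : F) :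
    ∃ (r : ℕ) (u : F), r < 24 ∧ h8S8m a b t = h8R8 r u := by
  obtain ⟨r, σ, hσ, h | h⟩ := h8tab8_complete a b hab hab'
  · refine ⟨r.val, (σ : F) * t, r.isLt, ?_⟩
    rw [h8R8_tab r.val a b σ h, ← mul_assoc]
    rcases hσ with rfl | rfl <;> simp
  · refine ⟨r.val, -((σ : F) * t), r.isLt, ?_⟩
    rw [h8R8_tab r.val _ _ σ h]
    unfold h8S8m
    rw [h8N8_swap, smul_neg, ← neg_smul]
    congr 2
    rcases hσ with rfl | rfl <;> simp

/-- the root elements as invertible matrices -/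
def h8G8 (r : ℕ) (t : F) : GL H8I8 F :=
  ⟨h8R8 r t, h8R8 r (-t), by rw [h8R8_add, add_neg_cancel, h8R8_zero],
    by rw [h8R8_add, neg_add_cancel, h8R8_zero]⟩

/-- the orthogonal group of the eight-dimensional form -/
abbrev H8O8 (F : Type*) [Field F] : Subgroup (GL H8I8 F) :=
  Cfsg.isometryGroup F (Cfsg.quadFormPlus 4 F)

theorem h8O8_mem (g : GL H8I8 F) :
    g ∈ H8O8 F ↔ ∀ v : H8I8 → F,
      Cfsg.quadFormPlus 4 F ((g : Matrix H8I8 H8I8 F) *ᵥ v) = Cfsg.quadFormPlus 4 F v := by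
  constructor
  · intro h v
    exact h v v
  · intro h u v
    exact h u

/-- the root elements in the orthogonal group -/
def h8Y8 (r : ℕ) (t : F) : ↥(H8O8 F) :=
  ⟨h8G8 r t, (h8O8_mem _).2 (fun v => h8R8_isom r t v)⟩

/-- coercion to matrices -/
def h8c8 : ↥(H8O8 F) →* Matrix H8I8 H8I8 F :=
  (Units.coeHom _).comp (Subgroup.subtype _)

theorem h8c8_inj : Function.Injective (h8c8 (F := F)) := by
  intro a b h
  apply Subtype.ext
  apply Units.ext
  exact h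

theorem h8c8_Y (r : ℕ) (t : F) : h8c8 (h8Y8 r t) = h8R8 r t := rfl

theorem h8c8_word (w : List (ℕ × F)) :
    h8c8 (h8wX h8Y8 w) = (w.map fun p => h8R8 p.1 p.2).prod := by
  induction w with
  | nil => simp [h8wX_nil]
  | cons p w ih => rw [h8wX_cons, map_mul, ih, h8c8_Y, List.map_cons, List.prod_cons]

theorem h8Y8_sys : H8Sys chevD4 (h8Y8 (F := F)) := by
  refine ⟨?_, ?_⟩
  · intro r hr t u
    apply h8c8_inj
    rw [map_mul, h8c8_Y, h8c8_Y, h8c8_Y, h8R8_add]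
  · intro r hr s hs h1 h2 t u
    have hr' : r < 24 := hr
    have hs' : s < 24 := hs
    have h2' : s ≠ 23 - r := by
      intro h
      apply h2
      subst h
      interval_cases r <;> rfl
    apply h8c8_inj
    rw [map_mul, map_mul, map_mul, h8c8_word, h8c8_Y, h8c8_Y]
    exact h8R8_comm r s hr' hs' h1 h2' t u

theorem h8Y8_big (q : ℕ) (hq : chevD4.nroots ≤ q) (v : F) : h8Y8 q v = 1 := by
  apply h8c8_inj
  rw [h8c8_Y, map_one]
  exact h8R8_big q hq v

/-- the subgroup generated by the root elements -/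
def h8E8 (F : Type*) [Field F] : Subgroup ↥(H8O8 F) :=
  Subgroup.closure {g | ∃ (r : ℕ) (t : F), g = h8Y8 r t}

theorem h8Y8_mem_E8 (r : ℕ) (t : F) : h8Y8 r t ∈ h8E8 F :=
  Subgroup.subset_closure ⟨r, t, rfl⟩

/-- Siegel elements in the subgroup -/
theorem h8S8_exists (a b : H8I8) (hab : a ≠ b) (hab' : a ≠ h8st b) (t : F) :
    ∃ x ∈ h8E8 F, h8c8 x = h8S8m a b t := by
  obtain ⟨r, u, hr, h⟩ := h8S8m_eq_R8 a b hab hab' t
  exact ⟨h8Y8 r u, h8Y8_mem_E8 r u, by rw [h8c8_Y, h]⟩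

end Cfsg.Agent.Lib.helper8
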