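import Cfsg.Agent.Lib.helper8.PoD3
import Cfsg.Agent.Lib.helper8.PoGen
import Cfsg.Agent.Lib.helper7.Om.Defs
import Cfsg.Agent.S1054
import Cfsg.Agent.S2395
import Cfsg.Agent.S2396

/-! The Chevalley group of type D4 is isomorphic to PΩ8+, given that the commutator subgroup of
the orthogonal group is generated by the coordinate Siegel elements. -/

namespace Cfsg.Agent.Lib.helper8

open Matrix Cfsg.Lie Cfsg.Lie.ChevalleyDatum
open Cfsg.Agent.Lib.Helper26 Cfsg.Agent.Lib.helper7.Om

set_option linter.unusedSectionVars false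
set_option linter.unusedVariables false

variable {F : Type*} [Field F]

/-- the coordinate root elements `W` are the Siegel matrices `h8S8m` -/
theorem h8W_coe (a b : H8I8) (hab : a ≠ b) (hab' : a ≠ h8st b) (t : F) :
    h8c8 (W (h8st b) a t) = h8S8m a b t := by
  have hv : CValid (h8st b) a := by
    refine ⟨fun h => hab' h.symm, ?_⟩
    show a ≠ (Sum.swap b).swap
    rw [Sum.swap_swap]
    exact hab
  apply Matrix.mulVec_injective
  funext v c
  have h1 : h8c8 (W (h8st b) a t) *ᵥ v = (W (h8st b) a t).1.1 *ᵥ v := rfl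
  rw [h1, W_mulVec hv, h8S8m_apply]
  have h2 : (h8st b).swap = b := by show (Sum.swap b).swap = b; rw [Sum.swap_swap]
  rw [h2]
  simp only [Pi.add_apply, Pi.smul_apply, Pi.sub_apply, smul_eq_mul, Pi.single_apply]
  have h3 : a.swap = h8st a := rfl
  rw [h3]
  split_ifs <;> ring

theorem h8E8_eq_EO : h8E8 F = EO F := by
  apply le_antisymm
  · unfold h8E8
    rw [Subgroup.closure_le]
    rintro g ⟨r, t, rfl⟩
    by_cases hr : r < 24
    · obtain ⟨a, b, σ, htab, hab, hab', hσ⟩ := h8tab8_valid ⟨r, hr⟩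
      have hv : CValid (h8st b) a := by
        refine ⟨fun h => hab' h.symm, ?_⟩
        show a ≠ (Sum.swap b).swap
        rw [Sum.swap_swap]
        exact hab
      have : h8Y8 r t = W (h8st b) a ((σ : F) * t) := by
        apply h8c8_inj
        rw [h8c8_Y, h8R8_tab r a b σ htab, h8W_coe a b hab hab']
      rw [this]
      exact W_mem_EO hv _
    · rw [h8Y8_big r (by show 24 ≤ r; omega)]
      exact Subgroup.one_mem _
  · unfold EO
    rw [Subgroup.closure_le]
    rintro g ⟨k, l, c, hkl, rfl⟩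
    have hab : l ≠ h8st k := hkl.2
    have hab' : l ≠ h8st (h8st k) := by
      show l ≠ (Sum.swap k).swap
      rw [Sum.swap_swap]
      exact fun h => hkl.1 h.symm
    obtain ⟨x, hx, hxc⟩ := h8S8_exists l (h8st k) hab hab' c
    have h2 : h8st (h8st k) = k := by show (Sum.swap k).swap = k; rw [Sum.swap_swap]
    have : W k l c = x := by
      apply h8c8_inj
      rw [hxc, ← h8W_coe l (h8st k) hab hab', h2]
    rw [this]
    exact hx

/-- the homomorphism from the Steinberg cover onto the subgroup generated by root elements -/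
noncomputable def h8psi8 (F : Type*) [Field F] : chevD4.SteinbergCover F →* ↥(H8O8 F) :=
  h8ucSigma chevD4 h8Y8 h8Y8_sys h8Y8_big

theorem h8psi8_gen (r : ℕ) (t : F) : h8psi8 F (chevD4.scGen F r t) = h8Y8 r t :=
  h8ucSigma_gen chevD4 h8Y8 h8Y8_sys h8Y8_big r t

theorem h8psi8_range : (h8psi8 F).range = h8E8 F := by
  apply le_antisymm
  · rintro _ ⟨s, rfl⟩
    induction s using PresentedGroup.induction_on with
    | _ w =>
      induction w using FreeGroup.induction_on with
      | C1 => rw [map_one, map_one]; exact Subgroup.one_mem _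
      | of p =>
        obtain ⟨⟨r, hr⟩, t⟩ := p
        have : PresentedGroup.mk (chevD4.steinbergRelsAB F) (FreeGroup.of (⟨r, hr⟩, t)) =
            chevD4.scGen F r t := by
          unfold ChevalleyDatum.scGen ChevalleyDatum.stX
          rw [dif_pos hr]
        rw [this, h8psi8_gen]
        exact h8Y8_mem_E8 r t
      | inv_of p ih =>
        rw [map_inv, map_inv]
        exact Subgroup.inv_mem _ ih
      | mul x y ihx ihy =>
        rw [map_mul, map_mul]
        exact Subgroup.mul_mem _ ihx ihy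
  · unfold h8E8
    rw [Subgroup.closure_le]
    rintro g ⟨r, t, rfl⟩
    exact ⟨chevD4.scGen F r t, h8psi8_gen r t⟩

theorem h8Y8_ne_one : h8Y8 0 (1 : F) ≠ 1 := by
  intro h
  have h0 : h8c8 (h8Y8 0 (1 : F)) = 1 := by rw [h, map_one]
  rw [h8c8_Y, h8R8_tab 0 (Sum.inr 0) (Sum.inl 1) 1 (by rfl)] at h0
  have h1 : (h8S8m (Sum.inr 0) (Sum.inl 1) (((1 : ℤ) : F) * 1) *ᵥ
      (Pi.single (Sum.inl 1) (1 : F) : H8I8 → F)) (Sum.inr 0) =
      ((1 : Matrix H8I8 H8I8 F) *ᵥ (Pi.single (Sum.inl 1) (1 : F) : H8I8 → F)) (Sum.inr 0) := by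
    rw [h0]
  rw [h8S8m_apply, Matrix.one_mulVec] at h1
  simp [h8st] at h1

theorem h8D4_not_small (h : chevD4 ∈ [chevB2, chevG2]) : False := by
  simp only [List.mem_cons, List.not_mem_nil, or_false] at h
  rcases h with h | h
  · have := congrArg ChevalleyDatum.nroots h
    revert this
    decide
  · have := congrArg ChevalleyDatum.nroots h
    revert this
    decide

/-- the Chevalley group of type D4 is isomorphic to PΩ8+ if the commutator subgroup of the
orthogonal group is generated by the root elements -/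
theorem h8po_D4_of_comm (h : commutator ↥(H8O8 F) = h8E8 F) :
    Nonempty (↥(chevD4.group F) ≃* Cfsg.POmega F (Cfsg.quadFormPlus 4 F)) := by
  obtain ⟨θ, hθ, hker, _⟩ := Cfsg.Agent.S2396.result (K := F) chevD4 (by simp)
    (fun h => (h8D4_not_small h).elim)
  have hS := Cfsg.Agent.S2395.result (K := F) chevD4 (by simp) (fun h => (h8D4_not_small h).elim)
  obtain ⟨hsimple, hnc⟩ := Cfsg.Agent.S1054.result (F := F) chevD4 (by simp)
  have hΩeq : Cfsg.Omega F (Cfsg.quadFormPlus 4 F) = h8E8 F := h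
  let ψ : chevD4.SteinbergCover F →* ↥(Cfsg.Omega F (Cfsg.quadFormPlus 4 F)) :=
    (h8psi8 F).codRestrict _ (fun s => by
      rw [hΩeq, ← h8psi8_range]; exact ⟨s, rfl⟩)
  have hψ : Function.Surjective ψ := by
    rintro ⟨y, hy⟩
    rw [hΩeq, ← h8psi8_range] at hy
    obtain ⟨s, rfl⟩ := hy
    exact ⟨s, Subtype.ext rfl⟩
  have hΩ : ∃ x : ↥(Cfsg.Omega F (Cfsg.quadFormPlus 4 F)), x ≠ 1 := by
    refine ⟨ψ (chevD4.scGen F 0 1), ?_⟩
    intro h
    have h2 : (ψ (chevD4.scGen F 0 1) : ↥(H8O8 F)) = 1 := by rw [h]; rfl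
    have h3 : (ψ (chevD4.scGen F 0 1) : ↥(H8O8 F)) = h8Y8 0 1 := h8psi8_gen 0 1
    rw [h3] at h2
    exact h8Y8_ne_one h2
  exact h8cov_iso hnc hS θ hθ hker ψ hψ hΩ

/-- the same, in the notation of the project `Om` -/
theorem h8po_D4_of_EO (h : commutator ↥(ogG F 4) = EO F) :
    Nonempty (↥(chevD4.group F) ≃* Cfsg.POmega F (Cfsg.quadFormPlus 4 F)) :=
  h8po_D4_of_comm (h.trans h8E8_eq_EO.symm)

end Cfsg.Agent.Lib.helper8
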