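import Mathlib
import Cfsg.Agent.Lib.helper8.RSM.Defs
import Cfsg.Agent.Lib.Helper5.StemQ
import Cfsg.Agent.Lib.helper2.RSMC7
import Cfsg.Agent.Lib.helper15.RSMD1aux
import Cfsg.Agent.Lib.helper8.RSMD3core

/-! Project RSM, row D3 `bet_vv`, verbatim: `rsmd3_core` on helper15's own-name copy
`rsmd1_conic_kill` of B1 and C8 inlined from C7. -/

set_option autoImplicit false

namespace Cfsg.Agent.Lib.helper8.RSM

open Cfsg.Agent.Lib.Helper5.Stem
open scoped commutatorElement

universe u v w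

variable {G : Type u} [Group G] {K : Type v} [Field K] [Fintype K] {m : ℕ}
variable {Γ : Type w} [Group Γ] {σ : Γ →* G}

/-- D3 [M]. As D1 with A5 (`a * N a = s²`): `B (s² v) (s² v') = B v v'`; B1. -/
theorem bet_vv (RU : ReeU G K m) (hs : Function.Surjective σ) (hcen : σ.ker ≤ Subgroup.center Γ)
    (v v' : K) : bet hs (RU.x 0 0 v) (RU.x 0 0 v') = 1 :=
  rsmd3_core RU hs hcen (fun B hl hr hinv => rsmd1_conic_kill RU.hm RU.hK B hl hr hinv)
    (fun a ha => by
      obtain ⟨i, hi⟩ := RU.a0_gen a ha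
      refine ⟨i, hi, fun t u v => ?_⟩
      rw [h0_pow_conj RU i t u v, ← hi]) v v'

end Cfsg.Agent.Lib.helper8.RSM
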