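import Mathlib
import Cfsg.Agent.Lib.helper8.RSM.Defs
import Cfsg.Agent.Lib.Helper5.StemQ
import Cfsg.Agent.Lib.helper4.RSMC1
import Cfsg.Agent.Lib.helper2.RSMC7

/-! Project RSM, row E9 `D_kill`: core on the statements of B1, C4, D4, E3, E4, E6, E7, E8
(C1 `x_basic`, C7 `h0_pow_conj` are cited). -/

set_option autoImplicit false

namespace Cfsg.Agent.Lib.helper8.RSM

open Cfsg.Agent.Lib.Helper5.Stem
open scoped commutatorElement

universe u v w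

variable {G : Type u} [Group G] {K : Type v} [Field K] [Fintype K] {m : ℕ}
variable {Γ : Type w} [Group Γ] {σ : Γ →* G}

/-- pure group identities used below -/
theorem rsme9_comm_mul_left {Γ : Type*} [Group Γ] (a b c : Γ) :
    ⁅a * b, c⁆ = a * ⁅b, c⁆ * a⁻¹ * ⁅a, c⁆ := by
  simp only [commutatorElement_def]; group

theorem rsme9_comm_mul_right {Γ : Type*} [Group Γ] (a b c : Γ) :
    ⁅a, b * c⁆ = ⁅a, b⁆ * (b * ⁅a, c⁆ * b⁻¹) := by
  simp only [commutatorElement_def]; group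

theorem rsme9_conj_comm {Γ : Type*} [Group Γ] (h a b : Γ) :
    h * ⁅a, b⁆ * h⁻¹ = ⁅h * a * h⁻¹, h * b * h⁻¹⁆ := by
  simp only [commutatorElement_def]; group

theorem rsme9_conj_eq {Γ : Type*} [Group Γ] (g w : Γ) : g * w * g⁻¹ = ⁅g, w⁆ * w := by
  simp only [commutatorElement_def]; group

/-- E9, core on the statements of B1 `conic_kill` (at `A = Γ`), C4, D4, E3, E4, E6, E7, E8 -/
theorem rsme9_core (RU : ReeU G K m) (hcen : σ.ker ≤ Subgroup.center Γ)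
    (hs : Function.Surjective σ) (H0 : Γ) (hH0 : σ H0 = RU.h0)
    (hB1 : ∀ (B : K → K → Γ), (∀ u u' w, B (u + u') w = B u w * B u' w) →
      (∀ u w w', B u (w + w') = B u w * B u w') →
      (∀ s : K, s ≠ 0 → ∀ u w, B (s ^ 2 * u) (s ^ 2 * w) = B u w) → ∀ u w, B u w = 1)
    (hC4 : ∀ g g' : G, RU.InU g → RU.InU g' → RU.InU2 ⁅g, g'⁆ ∧ RU.InU (g * g') ∧ RU.InU g⁻¹)
    (hD4 : ∀ g g' : Γ, RU.InU2 (σ g) → RU.InU2 (σ g') → g * g' = g' * g)
    (hE3 : ∀ w : Γ, RU.InU2 (σ w) → proj H0 m w ∈ σ.ker)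
    (hE4 : ∀ w w' : Γ, RU.InU2 (σ w) → RU.InU2 (σ w') →
      proj H0 m (w * w') = proj H0 m w * proj H0 m w')
    (hE6 : ∀ (i : ℕ) (w : Γ), RU.InU2 (σ w) →
      proj H0 m (H0 ^ i * w * (H0 ^ i)⁻¹) = proj H0 m w)
    (hE7 : ∀ g w : Γ, RU.InU (σ g) → RU.InU2 (σ w) → proj H0 m ⁅g, w⁆ = 1)
    (hE8 : ∀ g w : Γ, RU.InU (σ g) → RU.InU2 (σ w) → proj H0 m (g * w * g⁻¹) = proj H0 m w)
    (g g' : Γ) (hg : RU.InU (σ g)) (hg' : RU.InU (σ g')) : proj H0 m ⁅g, g'⁆ = 1 := by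
  obtain ⟨hx0, hC1r, -, -, -, -, -⟩ := x_basic RU
  -- basic closure facts
  have f1 : ∀ w : Γ, RU.InU2 (σ w) → RU.InU (σ w) := by
    rintro w ⟨u, v, e⟩
    exact ⟨0, u, v, e⟩
  have f2 : ∀ a b : Γ, RU.InU (σ a) → RU.InU (σ b) → RU.InU2 (σ ⁅a, b⁆) := by
    intro a b ha hb
    rw [map_commutatorElement]
    exact (hC4 _ _ ha hb).1
  have f3 : ∀ a b : Γ, RU.InU2 (σ a) → RU.InU2 (σ b) → RU.InU2 (σ (a * b)) := by
    rintro a b ⟨u, v, e⟩ ⟨u', v', e'⟩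
    refine ⟨u + u', v + v', ?_⟩
    rw [map_mul, e, e', hC1r]
  have f4 : ∀ a b : Γ, RU.InU (σ a) → RU.InU2 (σ b) → RU.InU2 (σ (a * b * a⁻¹)) := by
    intro a b ha hb
    rw [rsme9_conj_eq]
    exact f3 _ _ (f2 a b ha (f1 b hb)) hb
  have f5 : RU.InU2 (σ (1 : Γ)) := ⟨0, 0, by rw [map_one, hx0]⟩
  have f6 : proj H0 m (1 : Γ) = 1 := by
    have h := hE4 1 1 f5 f5
    rw [mul_one] at h
    exact left_eq_mul.mp h
  have f7 : ∀ a : Γ, RU.InU2 (σ a) → RU.InU2 (σ a⁻¹) := by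
    rintro a ⟨u, v, e⟩
    refine ⟨-u, -v, ?_⟩
    rw [map_inv, e, inv_eq_iff_mul_eq_one, hC1r, add_neg_cancel, add_neg_cancel, hx0]
  have f8 : ∀ a : Γ, RU.InU2 (σ a) → proj H0 m a⁻¹ = (proj H0 m a)⁻¹ := by
    intro a ha
    have h := hE4 a a⁻¹ ha (f7 a ha)
    rw [mul_inv_cancel, f6] at h
    exact (inv_eq_of_mul_eq_one_right h.symm).symm
  have f9 : ∀ a : Γ, RU.InU2 (σ a) → ∀ y : Γ, y * proj H0 m a = proj H0 m a * y := by
    intro a ha y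
    exact Subgroup.mem_center_iff.mp (hcen (hE3 a ha)) y
  -- `proj ⁅X p, Y q⁆ = proj ⁅X, Y⁆`
  have L0 : ∀ X Y p q : Γ, RU.InU (σ X) → RU.InU (σ Y) → RU.InU2 (σ p) → RU.InU2 (σ q) →
      proj H0 m ⁅X * p, Y * q⁆ = proj H0 m ⁅X, Y⁆ := by
    intro X Y p q hX hY hp hq
    have hpq : ⁅p, q⁆ = 1 := commutatorElement_eq_one_iff_mul_comm.mpr (hD4 p q hp hq)
    have e1 : ⁅X * p, Y * q⁆ = X * ⁅p, Y⁆ * X⁻¹ * (⁅X, Y⁆ * (Y * ⁅X, q⁆ * Y⁻¹)) := by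
      rw [rsme9_comm_mul_left, rsme9_comm_mul_right p Y q, hpq, rsme9_comm_mul_right X Y q]
      group
    have hpY : RU.InU2 (σ ⁅p, Y⁆) := f2 p Y (f1 p hp) hY
    have hXq : RU.InU2 (σ ⁅X, q⁆) := f2 X q hX (f1 q hq)
    have hXY : RU.InU2 (σ ⁅X, Y⁆) := f2 X Y hX hY
    rw [e1, hE4 _ _ (f4 X _ hX hpY) (f3 _ _ hXY (f4 Y _ hY hXq)), hE8 X _ hX hpY,
      hE4 _ _ hXY (f4 Y _ hY hXq), hE8 Y _ hY hXq, hE7 X q hX hq, mul_one]
    have e2 : ⁅p, Y⁆ = ⁅Y, p⁆⁻¹ := (commutatorElement_inv Y p).symm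
    rw [e2, f8 _ (f2 Y p hY (f1 p hp)), hE7 Y p hY hp, inv_one, one_mul]
  -- the value depends only on the first coordinates
  have L1 : ∀ (a a' X Y : Γ) (t u v c d t' u' v' c' d' : K), σ a = RU.x t u v →
      σ X = RU.x t c d → σ a' = RU.x t' u' v' → σ Y = RU.x t' c' d' →
      proj H0 m ⁅a, a'⁆ = proj H0 m ⁅X, Y⁆ := by
    intro a a' X Y t u v c d t' u' v' c' d' ha hX ha' hY
    have hp : RU.InU2 (σ (X⁻¹ * a)) := by
      refine ⟨u - c, v - d, ?_⟩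
      rw [map_mul, map_inv, inv_mul_eq_iff_eq_mul, ha, hX, hC1r]
      apply rsmc1_congr RU <;> ring
    have hq : RU.InU2 (σ (Y⁻¹ * a')) := by
      refine ⟨u' - c', v' - d', ?_⟩
      rw [map_mul, map_inv, inv_mul_eq_iff_eq_mul, ha', hY, hC1r]
      apply rsmc1_congr RU <;> ring
    have h := L0 X Y (X⁻¹ * a) (Y⁻¹ * a') ⟨t, c, d, hX⟩ ⟨t', c', d', hY⟩ hp hq
    rw [mul_inv_cancel_left, mul_inv_cancel_left] at h
    exact h
  -- the lifts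
  have hlift : ∀ t : K, σ (Function.surjInv hs (RU.x t 0 0)) = RU.x t 0 0 :=
    fun t => Function.surjInv_eq hs _
  have hU : ∀ t : K, RU.InU (σ (Function.surjInv hs (RU.x t 0 0))) :=
    fun t => ⟨t, 0, 0, hlift t⟩
  -- the pairing
  have hD : ∀ t t' : K, proj H0 m ⁅Function.surjInv hs (RU.x t 0 0),
      Function.surjInv hs (RU.x t' 0 0)⁆ = 1 := by
    refine hB1 (fun t t' => proj H0 m ⁅Function.surjInv hs (RU.x t 0 0),
      Function.surjInv hs (RU.x t' 0 0)⁆) ?_ ?_ ?_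
    · intro t s t'
      show proj H0 m ⁅Function.surjInv hs (RU.x (t + s) 0 0), Function.surjInv hs (RU.x t' 0 0)⁆ =
        proj H0 m ⁅Function.surjInv hs (RU.x t 0 0), Function.surjInv hs (RU.x t' 0 0)⁆ *
        proj H0 m ⁅Function.surjInv hs (RU.x s 0 0), Function.surjInv hs (RU.x t' 0 0)⁆
      set X := Function.surjInv hs (RU.x t 0 0) with hXd
      set X' := Function.surjInv hs (RU.x s 0 0) with hX'd
      set X'' := Function.surjInv hs (RU.x (t + s) 0 0) with hX''d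
      set Y := Function.surjInv hs (RU.x t' 0 0) with hYd
      have hprod : σ (X * X') = RU.x (t + s) (0 + 0 - t * (s ^ 3 ^ m) ^ 3)
          (0 + 0 - s * 0 - t ^ 2 * (s ^ 3 ^ m) ^ 3 + t * s * (s ^ 3 ^ m) ^ 3) := by
        rw [map_mul, hlift, hlift, RU.x_mul]
      have h1 := L1 (X * X') Y X'' Y _ _ _ _ _ _ _ _ _ _ hprod (hlift (t + s)) (hlift t')
        (hlift t')
      rw [← h1, rsme9_comm_mul_left,
        hE4 _ _ (f4 X _ (hU t) (f2 X' Y (hU s) (hU t'))) (f2 X Y (hU t) (hU t')),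
        hE8 X _ (hU t) (f2 X' Y (hU s) (hU t'))]
      exact (f9 _ (f2 X' Y (hU s) (hU t')) _).symm
    · intro t t' s'
      show proj H0 m ⁅Function.surjInv hs (RU.x t 0 0), Function.surjInv hs (RU.x (t' + s') 0 0)⁆ =
        proj H0 m ⁅Function.surjInv hs (RU.x t 0 0), Function.surjInv hs (RU.x t' 0 0)⁆ *
        proj H0 m ⁅Function.surjInv hs (RU.x t 0 0), Function.surjInv hs (RU.x s' 0 0)⁆
      set X := Function.surjInv hs (RU.x t 0 0) with hXd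
      set Y := Function.surjInv hs (RU.x t' 0 0) with hYd
      set Y' := Function.surjInv hs (RU.x s' 0 0) with hY'd
      set Y'' := Function.surjInv hs (RU.x (t' + s') 0 0) with hY''d
      have hprod : σ (Y * Y') = RU.x (t' + s') (0 + 0 - t' * (s' ^ 3 ^ m) ^ 3)
          (0 + 0 - s' * 0 - t' ^ 2 * (s' ^ 3 ^ m) ^ 3 + t' * s' * (s' ^ 3 ^ m) ^ 3) := by
        rw [map_mul, hlift, hlift, RU.x_mul]
      have h1 := L1 X (Y * Y') X Y'' _ _ _ _ _ _ _ _ _ _ (hlift t) (hlift t) hprod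
        (hlift (t' + s'))
      rw [← h1, rsme9_comm_mul_right,
        hE4 _ _ (f2 X Y (hU t) (hU t')) (f4 Y _ (hU t') (f2 X Y' (hU t) (hU s'))),
        hE8 Y _ (hU t') (f2 X Y' (hU t) (hU s'))]
    · intro s hs0 t t'
      show proj H0 m ⁅Function.surjInv hs (RU.x (s ^ 2 * t) 0 0),
          Function.surjInv hs (RU.x (s ^ 2 * t') 0 0)⁆ =
        proj H0 m ⁅Function.surjInv hs (RU.x t 0 0), Function.surjInv hs (RU.x t' 0 0)⁆
      obtain ⟨i, hi⟩ := RU.a0_gen (s ^ 2) (pow_ne_zero _ hs0)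
      set X := Function.surjInv hs (RU.x t 0 0) with hXd
      set Y := Function.surjInv hs (RU.x t' 0 0) with hYd
      have hc : ∀ (Z : Γ) (r : K), σ Z = RU.x r 0 0 →
          σ (H0 ^ i * Z * (H0 ^ i)⁻¹) = RU.x (s ^ 2 * r) (nrm m (RU.a0 ^ i) * 0)
            (RU.a0 ^ i * nrm m (RU.a0 ^ i) * 0) := by
        intro Z r hZ
        rw [map_mul, map_mul, map_inv, map_pow, hH0, hZ, h0_pow_conj, hi]
      have h1 := L1 (H0 ^ i * X * (H0 ^ i)⁻¹) (H0 ^ i * Y * (H0 ^ i)⁻¹)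
        (Function.surjInv hs (RU.x (s ^ 2 * t) 0 0)) (Function.surjInv hs (RU.x (s ^ 2 * t') 0 0))
        _ _ _ _ _ _ _ _ _ _ (hc X t (hlift t)) (hlift _) (hc Y t' (hlift t')) (hlift _)
      rw [← h1, ← rsme9_conj_comm, hE6 i _ (f2 X Y (hU t) (hU t'))]
  obtain ⟨t, u, v, e⟩ := hg
  obtain ⟨t', u', v', e'⟩ := hg'
  rw [L1 g g' _ _ t u v 0 0 t' u' v' 0 0 e (hlift t) e' (hlift t')]
  exact hD t t'

end Cfsg.Agent.Lib.helper8.RSM
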