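import Mathlib
import Cfsg.Agent.Lib.helper8.RSM.Defs
import Cfsg.Agent.Lib.Helper5.StemQ
import Cfsg.Agent.Lib.helper8.RSME9core
import Cfsg.Agent.Lib.Helper22.RSMC234h22
import Cfsg.Agent.Lib.Helper11.RSMB1
import Cfsg.Agent.Lib.Helper29.RSMD4
import Cfsg.Agent.Lib.helper15.RSME3
import Cfsg.Agent.Lib.helper3.RSME4
import Cfsg.Agent.Lib.helper3.RSME6
import Cfsg.Agent.Lib.Helper18.RSME7
import Cfsg.Agent.Lib.helper17.RSME8

/-! Project RSM, row E9 `D_kill`, verbatim. -/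

set_option autoImplicit false

namespace Cfsg.Agent.Lib.helper8.RSM

open Cfsg.Agent.Lib.Helper5.Stem
open scoped commutatorElement

universe u v w

variable {G : Type u} [Group G] {K : Type v} [Field K] [Fintype K] {m : ℕ}
variable {Γ : Type w} [Group Γ] {σ : Γ →* G}

/-- E9 [M-L]. `D t t' := proj H0 m (bet hs (x t 0 0) (x t' 0 0))` is bi-additive:
`⁅X X', Y⁆ = X ⁅X', Y⁆ X⁻¹ ⁅X, Y⁆`, E8, E4 (C4: commutators lie over `U₂`), and
`⁅X'' P, Y⁆ = X'' ⁅P, Y⁆ X''⁻¹ ⁅X'', Y⁆` with `proj ⁅P, Y⁆ = (proj ⁅Y, P⁆)⁻¹ = 1` (E7).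
`D (a0^i t) (a0^i t') = D t t'` by E6 (conjugate with `H0 ^ i`, C7), and every non-zero square is a
power of `a0`; B1.  General `g, g'` as in E7. -/
theorem D_kill (RU : ReeU G K m) (hs : Function.Surjective σ) (hcen : σ.ker ≤ Subgroup.center Γ)
    (H0 : Γ) (hH0 : σ H0 = RU.h0) (hpow : H0 ^ (3 ^ (2 * m + 1) - 1) = 1) (g g' : Γ)
    (hg : RU.InU (σ g)) (hg' : RU.InU (σ g')) : proj H0 m ⁅g, g'⁆ = 1 :=
  rsme9_core RU hcen hs H0 hH0 (fun B hl hr hinv => conic_kill RU.hm RU.hK B hl hr hinv)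
    (rsmc4_h22 RU) (U2_abelian RU hs hcen) (proj_mem_ker RU H0 hH0)
    (proj_mul RU hs hcen H0 hH0) (fun i w hw => proj_conj RU hs hcen H0 hH0 hpow i w hw)
    (E_kill RU hs hcen H0 hH0 hpow) (proj_conj_U RU hs hcen H0 hH0 hpow) g g' hg hg'

end Cfsg.Agent.Lib.helper8.RSM
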