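import Mathlib
import Cfsg.Agent.Lib.Helper19.S5954.Defs

set_option autoImplicit false
set_option linter.unusedVariables false
set_option linter.unusedSectionVars false

/-!
# Project S5954, row TP2 (helper8): `pch_two` verbatim.
-/

namespace Cfsg.Agent.Lib.Helper19.S5954

/-- a multiset with parts in `{1, 2}` is `2^a 1^b` -/
theorem s5954tp2_shape (μ : Multiset ℕ) (hμ : ∀ a ∈ μ, 0 < a ∧ a ≤ 2) :
    ∃ a b : ℕ, μ = Multiset.replicate a 2 + Multiset.replicate b 1 := by
  classical
  refine ⟨Multiset.count 2 μ, Multiset.card (Multiset.filter (fun c => ¬ c = 2) μ), ?_⟩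
  have h1 : Multiset.filter (fun c => c = 2) μ = Multiset.replicate (Multiset.count 2 μ) 2 :=
    Multiset.filter_eq' μ 2
  have h2 : Multiset.filter (fun c => ¬ c = 2) μ =
      Multiset.replicate (Multiset.card (Multiset.filter (fun c => ¬ c = 2) μ)) 1 := by
    apply Multiset.eq_replicate_of_mem
    intro c hc
    rw [Multiset.mem_filter] at hc
    have := hμ c hc.1
    omega
  rw [← h1, ← h2, Multiset.filter_add_not]

theorem pch_two (n m : ℕ) (hmn : m ≤ n) : PCh 2 n m ↔ (Odd n ∨ Even m) := by
  constructor
  · intro h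
    by_contra hcon
    rw [not_or, Nat.not_odd_iff_even, Nat.not_even_iff_odd] at hcon
    obtain ⟨⟨k, hk⟩, hm⟩ := hcon
    obtain ⟨ν, hν, hsum⟩ := h (Multiset.replicate k 2) (by
      intro a ha
      rw [Multiset.eq_of_mem_replicate ha]; exact ⟨by norm_num, le_rfl⟩) (by
      rw [Multiset.sum_replicate, smul_eq_mul]; omega)
    obtain ⟨j, _, rfl⟩ := Multiset.le_replicate_iff.mp hν
    rw [Multiset.sum_replicate, smul_eq_mul] at hsum
    rcases hm with ⟨t, ht⟩
    omega
  · intro h μ hμ hsum
    obtain ⟨a, b, rfl⟩ := s5954tp2_shape μ hμ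
    rw [Multiset.sum_add, Multiset.sum_replicate, Multiset.sum_replicate, smul_eq_mul, smul_eq_mul] at hsum
    refine ⟨Multiset.replicate (min a (m / 2)) 2 + Multiset.replicate (m - 2 * min a (m / 2)) 1, ?_, ?_⟩
    · apply add_le_add
      · exact Multiset.replicate_le_replicate 2 |>.mpr (min_le_left _ _)
      · apply (Multiset.replicate_le_replicate 1).mpr
        rcases le_total a (m / 2) with h1 | h1
        · rw [min_eq_left h1]; omega
        · rw [min_eq_right h1]
          rcases h with h | h
          · rcases h with ⟨t, ht⟩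
            omega
          · rcases h with ⟨t, ht⟩
            omega
    · rw [Multiset.sum_add, Multiset.sum_replicate, Multiset.sum_replicate, smul_eq_mul, smul_eq_mul]
      have : 2 * min a (m / 2) ≤ m := by
        have := min_le_right a (m / 2)
        omega
      omega

end Cfsg.Agent.Lib.Helper19.S5954
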