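import Mathlib
import Cfsg.Prelude.Def_GeometricClasses
import Cfsg.Prelude.Def_LieClassical

set_option autoImplicit false

/-!
# S5984 row (C), part A: abstract "no invariant polar pair" lemma, the derangement wrapper,
and the arithmetic of the order of `q` modulo `r`.
-/

namespace Cfsg.Agent.Lib.helper8.S5984C

open Matrix
open scoped MatrixGroups

/-- An endomorphism `X` with `im (X - 1) ≤ K`, where `K` has no nonzero `X`-invariant totally
singular subspace, which leaves invariant two totally singular subspaces spanning everything, is `1`. -/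
theorem no_pair {F V : Type*} [Field F] [AddCommGroup V] [Module F V] (f : V → V → F)
    (X : Module.End F V) (K : Submodule F V) (hK : ∀ v, X v - v ∈ K)
    (hts : ∀ U' : Submodule F V, U' ≤ K → (∀ u ∈ U', X u ∈ U') →
      (∀ u ∈ U', ∀ v ∈ U', f u v = 0) → U' = ⊥)
    (U W : Submodule F V) (hUW : U ⊔ W = ⊤)
    (hU : ∀ u ∈ U, ∀ v ∈ U, f u v = 0) (hW : ∀ u ∈ W, ∀ v ∈ W, f u v = 0)
    (hXU : ∀ u ∈ U, X u ∈ U) (hXW : ∀ w ∈ W, X w ∈ W) : X = 1 := by
  have hKinv : ∀ k ∈ K, X k ∈ K := by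
    intro k hk
    have := K.add_mem (hK k) hk
    rwa [sub_add_cancel] at this
  have key : ∀ S : Submodule F V, (∀ u ∈ S, ∀ v ∈ S, f u v = 0) → (∀ u ∈ S, X u ∈ S) →
      ∀ u ∈ S, X u = u := by
    intro S hS hXS u hu
    have hbot := hts (S ⊓ K) inf_le_right
      (fun v hv => ⟨hXS v hv.1, hKinv v hv.2⟩)
      (fun a ha b hb => hS a ha.1 b hb.1)
    have hmem : X u - u ∈ S ⊓ K := ⟨S.sub_mem (hXS u hu) hu, hK u⟩
    rw [hbot, Submodule.mem_bot] at hmem
    exact sub_eq_zero.mp hmem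
  apply LinearMap.ext
  intro v
  have hv : v ∈ U ⊔ W := hUW ▸ Submodule.mem_top
  obtain ⟨u, hu, w, hw, rfl⟩ := Submodule.mem_sup.mp hv
  rw [map_add, key U hU hXU u hu, key W hW hXW w hw, Module.End.one_apply]

theorem toLin'_pow_eq {F : Type*} [Field F] {n : Type*} [Fintype n] [DecidableEq n]
    (A : Matrix n n F) (m : ℕ) : Matrix.toLin' (A ^ m) = (Matrix.toLin' A) ^ m := by
  induction m with
  | zero => rw [pow_zero, pow_zero, Matrix.toLin'_one]; rfl
  | succ m ih => rw [pow_succ, pow_succ, Matrix.toLin'_mul, ih]; rfl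

theorem swap_eq {F : Type*} [Field F] {V : Type*} [AddCommGroup V] [Module F V]
    (X : Module.End F V) (r : ℕ) (hodd : Odd r) (hXr : X ^ r = 1) (U W : Submodule F V)
    (h1 : U.map X = W) (h2 : W.map X = U) : U = W := by
  have key : ∀ n : ℕ, U.map (X ^ (2 * n)) = U := by
    intro n
    induction n with
    | zero =>
      rw [Nat.mul_zero, pow_zero, Module.End.one_eq_id, Submodule.map_id]
    | succ n ih =>
      have e : X ^ (2 * (n + 1)) = X ^ (2 * n) * (X * X) := by
        rw [← pow_two, ← pow_add, Nat.mul_succ]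
      rw [e, Module.End.mul_eq_comp, Module.End.mul_eq_comp, Submodule.map_comp,
        Submodule.map_comp, h1, h2, ih]
  obtain ⟨t, ht⟩ := hodd
  have e : X ^ (2 * (t + 1)) = X := by
    have : 2 * (t + 1) = r + 1 := by omega
    rw [this, pow_succ, hXr, one_mul]
  have := key (t + 1)
  rw [e, h1] at this
  exact this.symm

/-- the derangement wrapper: an element of odd order `r` of `GL_n` leaving invariant no pair of
totally singular subspaces spanning `F^n` is non-scalar and has no conjugate (by isometries)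
in the stabiliser of the polar pair `D`. -/
theorem derange_of_no_pair {F : Type*} [Field F] {q n : ℕ}
    (D : Fin 2 → Submodule F (Fin n → F)) (hc : D 0 ⊔ D 1 = ⊤)
    (hDs : ∀ i, Cfsg.Geo.IsTotallySingularFor (Cfsg.hermForm n F q) (D i))
    (x : GL (Fin n) F) (r : ℕ) (hr : Odd r) (hxr : x ^ r = 1)
    (hno : ∀ U W : Submodule F (Fin n → F), U ⊔ W = ⊤ →
      (∀ u ∈ U, ∀ v ∈ U, Cfsg.hermForm n F q u v = 0) →
      (∀ u ∈ W, ∀ v ∈ W, Cfsg.hermForm n F q u v = 0) →
      (∀ u ∈ U, (x : Matrix (Fin n) (Fin n) F) *ᵥ u ∈ U) →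
      (∀ w ∈ W, (x : Matrix (Fin n) (Fin n) F) *ᵥ w ∈ W) → False) :
    (∀ z : F, (x : Matrix (Fin n) (Fin n) F) ≠ z • (1 : Matrix (Fin n) (Fin n) F)) ∧
    ∀ g ∈ Cfsg.GU n F q ⊓ Cfsg.Geo.specialLinear (Fin n) F,
      g⁻¹ * x * g ∉ Cfsg.Geo.decompositionStabilizer D := by
  constructor
  · intro z hz
    apply hno (D 0) (D 1) hc (hDs 0) (hDs 1)
    · intro u hu
      rw [hz, Matrix.smul_mulVec, Matrix.one_mulVec]
      exact (D 0).smul_mem z hu
    · intro u hu
      rw [hz, Matrix.smul_mulVec, Matrix.one_mulVec]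
      exact (D 1).smul_mem z hu
  · rintro g ⟨hgU, -⟩ ⟨σ, hσ⟩
    let G : Module.End F (Fin n → F) := Matrix.toLin' (g : Matrix (Fin n) (Fin n) F)
    let X : Module.End F (Fin n → F) := Matrix.toLin' (x : Matrix (Fin n) (Fin n) F)
    have hXr : X ^ r = 1 := by
      show (Matrix.toLin' (x : Matrix (Fin n) (Fin n) F)) ^ r = 1
      rw [← toLin'_pow_eq, ← Units.val_pow_eq_pow_val, hxr, Units.val_one, Matrix.toLin'_one]
      rfl
    have hE : ∀ i, ((D i).map G).map X = (D (σ i)).map G := by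
      intro i
      rw [← hσ i, ← Submodule.map_comp, ← Submodule.map_comp]
      congr 1
      show Matrix.toLin' (x : Matrix (Fin n) (Fin n) F) ∘ₗ Matrix.toLin' (g : Matrix (Fin n) (Fin n) F) =
        Matrix.toLin' (g : Matrix (Fin n) (Fin n) F) ∘ₗ
          Matrix.toLin' ((g⁻¹ * x * g : GL (Fin n) F) : Matrix (Fin n) (Fin n) F)
      rw [← Matrix.toLin'_mul, ← Matrix.toLin'_mul, ← Units.val_mul, ← Units.val_mul]
      congr 2
      group
    have hGsurj : (⊤ : Submodule F (Fin n → F)).map G = ⊤ := by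
      rw [Submodule.map_top, LinearMap.range_eq_top]
      intro v
      refine ⟨((g⁻¹ : GL (Fin n) F) : Matrix (Fin n) (Fin n) F) *ᵥ v, ?_⟩
      show Matrix.toLin' (g : Matrix (Fin n) (Fin n) F) _ = v
      rw [Matrix.toLin'_apply, Matrix.mulVec_mulVec, ← Units.val_mul, mul_inv_cancel, Units.val_one,
        Matrix.one_mulVec]
    have hsup : (D 0).map G ⊔ (D 1).map G = ⊤ := by
      rw [← Submodule.map_sup, hc, hGsurj]
    have hts : ∀ i, ∀ u ∈ (D i).map G, ∀ v ∈ (D i).map G, Cfsg.hermForm n F q u v = 0 := by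
      rintro i _ ⟨u, hu, rfl⟩ _ ⟨v, hv, rfl⟩
      show Cfsg.hermForm n F q (Matrix.toLin' (g : Matrix (Fin n) (Fin n) F) u)
        (Matrix.toLin' (g : Matrix (Fin n) (Fin n) F) v) = 0
      rw [Matrix.toLin'_apply, Matrix.toLin'_apply]
      have := hgU u v
      rw [Units.coeHom_apply] at this
      rw [this]
      exact hDs i u hu v hv
    have hinv : ∀ S : Submodule F (Fin n → F), S.map X = S →
        ∀ u ∈ S, (x : Matrix (Fin n) (Fin n) F) *ᵥ u ∈ S := by
      intro S hS u hu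
      rw [← Matrix.toLin'_apply]
      have : X u ∈ S.map X := Submodule.mem_map_of_mem hu
      rw [hS] at this
      exact this
    have h01 : σ 0 ≠ σ 1 := fun h => by
      have := σ.injective h
      exact absurd this (by decide)
    have hcases : ∀ a : Fin 2, a = 0 ∨ a = 1 := by decide
    rcases hcases (σ 0) with h0 | h0 <;> rcases hcases (σ 1) with h1 | h1
    · exact h01 (h0.trans h1.symm)
    · have e0 := hE 0
      have e1 := hE 1
      rw [h0] at e0
      rw [h1] at e1
      exact hno _ _ hsup (hts 0) (hts 1) (hinv _ e0) (hinv _ e1)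
    · have e0 := hE 0
      have e1 := hE 1
      rw [h0] at e0
      rw [h1] at e1
      have heq := swap_eq X r hr hXr _ _ e0 e1
      rw [← heq] at e0 hsup
      exact hno _ _ hsup (hts 0) (hts 0) (hinv _ e0) (hinv _ e0)
    · exact h01 (h0.trans h1.symm)

/-- arithmetic: the order `i0` of `q^2` modulo `r` -/
theorem exists_i0 (q r j : ℕ) [hr : Fact r.Prime] (hr2 : r ≠ 2) (hj : Odd j) (hrj : r ∣ q ^ j + 1) :
    ∃ i0, Odd i0 ∧ i0 ≤ j ∧ r ∣ q ^ i0 + 1 ∧ ∀ m, 0 < m → m < i0 → ¬ r ∣ (q ^ 2) ^ m - 1 := by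
  have hq0 : 0 < q := by
    rcases Nat.eq_zero_or_pos q with h | h
    · exfalso
      subst h
      rw [zero_pow hj.pos.ne', zero_add] at hrj
      exact hr.out.one_lt.ne' (Nat.dvd_one.mp hrj)
    · exact h
  let a : ZMod r := (q : ZMod r)
  have ha : a ^ j = -1 := by
    have h := (ZMod.natCast_eq_zero_iff (q ^ j + 1) r).mpr hrj
    push_cast at h
    exact eq_neg_of_add_eq_zero_left h
  have h2 : (1 : ZMod r) ≠ -1 := by
    intro h
    have h' : ((2 : ℕ) : ZMod r) = 0 := by
      have : (1 : ZMod r) + 1 = 0 := by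
        nth_rewrite 2 [h]
        exact add_neg_cancel 1
      push_cast
      rw [← this]
      norm_num
    have hd := (ZMod.natCast_eq_zero_iff 2 r).mp h'
    exact hr2 ((Nat.prime_dvd_prime_iff_eq hr.out Nat.prime_two).mp hd)
  have hb : (a ^ 2) ^ j = 1 := by
    rw [← pow_mul, mul_comm, pow_mul, ha]
    norm_num
  have hdvd : orderOf (a ^ 2) ∣ j := orderOf_dvd_of_pow_eq_one hb
  refine ⟨orderOf (a ^ 2), Odd.of_dvd_nat hj hdvd, Nat.le_of_dvd hj.pos hdvd, ?_, ?_⟩
  · have hsq : a ^ orderOf (a ^ 2) * a ^ orderOf (a ^ 2) = 1 := by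
      rw [← pow_add, ← two_mul, pow_mul]
      exact pow_orderOf_eq_one (a ^ 2)
    rcases mul_self_eq_one_iff.mp hsq with h | h
    · exfalso
      obtain ⟨t, ht⟩ := hdvd
      apply h2
      rw [← ha, ht, pow_mul, h, one_pow]
    · rw [← ZMod.natCast_eq_zero_iff]
      push_cast
      show a ^ orderOf (a ^ 2) + 1 = 0
      rw [h]
      exact neg_add_cancel 1
  · intro m hm hm' hd
    have hge : 1 ≤ (q ^ 2) ^ m := Nat.one_le_pow _ _ (pow_pos hq0 2)
    have h := (ZMod.natCast_eq_zero_iff ((q ^ 2) ^ m - 1) r).mpr hd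
    rw [Nat.cast_sub hge] at h
    push_cast at h
    have h' : (a ^ 2) ^ m = 1 := sub_eq_zero.mp h
    exact pow_ne_one_of_lt_orderOf hm.ne' hm' h'

end Cfsg.Agent.Lib.helper8.S5984C
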