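import Mathlib
import Cfsg.Agent.Lib.helper8.S5984CA
import Cfsg.Agent.Lib.Lead.Unitary

set_option autoImplicit false

/-!
# S5984 row (C), part B: the block embedding `A ↦ A ⊕ 1` of `GU_i` into `GU_n` and the
derangement it produces.
-/

namespace Cfsg.Agent.Lib.helper8.S5984C

open Matrix
open scoped MatrixGroups

section emb
variable {F : Type*} [Field F] {i n : ℕ}

/-- the 0/1 matrix of a map of index sets -/
def JJ (F : Type*) [Field F] {i n : ℕ} (e : Fin i → Fin n) : Matrix (Fin n) (Fin i) F :=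
  Matrix.of fun t s => if t = e s then 1 else 0

theorem JJt_mul_JJ (e : Fin i → Fin n) (he : Function.Injective e) :
    (JJ F e)ᵀ * JJ F e = 1 := by
  ext s s'
  rw [Matrix.mul_apply]
  simp only [Matrix.transpose_apply, JJ, Matrix.of_apply, Matrix.one_apply]
  rw [Finset.sum_eq_single (e s)]
  · simp [he.eq_iff]
  · intro b _ hb
    simp [hb]
  · intro h
    exact absurd (Finset.mem_univ _) h

theorem JJ_map (e : Fin i → Fin n) (σ : F →+* F) :
    (JJ F e).map σ = JJ F e := by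
  ext t s
  simp only [Matrix.map_apply, JJ, Matrix.of_apply]
  split_ifs <;> simp

/-- `Y ↦ J Y Jᵀ` -/
def PP (e : Fin i → Fin n) (Y : Matrix (Fin i) (Fin i) F) : Matrix (Fin n) (Fin n) F :=
  JJ F e * Y * (JJ F e)ᵀ

theorem PP_mul (e : Fin i → Fin n) (he : Function.Injective e) (Y Z : Matrix (Fin i) (Fin i) F) :
    PP e Y * PP e Z = PP e (Y * Z) := by
  unfold PP
  have h : (JJ F e)ᵀ * (JJ F e * Z * (JJ F e)ᵀ) = Z * (JJ F e)ᵀ := by
    rw [Matrix.mul_assoc, ← Matrix.mul_assoc, JJt_mul_JJ e he, Matrix.one_mul]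
  rw [Matrix.mul_assoc, h, Matrix.mul_assoc (JJ F e) Y, Matrix.mul_assoc (JJ F e) (Y * Z),
    Matrix.mul_assoc Y Z]

theorem PP_add (e : Fin i → Fin n) (Y Z : Matrix (Fin i) (Fin i) F) :
    PP e (Y + Z) = PP e Y + PP e Z := by
  unfold PP
  rw [Matrix.mul_add, Matrix.add_mul]

theorem PP_zero (e : Fin i → Fin n) : PP e (0 : Matrix (Fin i) (Fin i) F) = 0 := by
  unfold PP
  rw [Matrix.mul_zero, Matrix.zero_mul]

/-- the block embedding `A ↦ A ⊕ 1` -/
def emb (e : Fin i → Fin n) (A : Matrix (Fin i) (Fin i) F) : Matrix (Fin n) (Fin n) F :=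
  1 + PP e (A - 1)

theorem emb_one (e : Fin i → Fin n) : emb e (1 : Matrix (Fin i) (Fin i) F) = 1 := by
  unfold emb
  rw [sub_self, PP_zero, add_zero]

theorem emb_mul (e : Fin i → Fin n) (he : Function.Injective e) (A B : Matrix (Fin i) (Fin i) F) :
    emb e A * emb e B = emb e (A * B) := by
  unfold emb
  have e1 : A * B - 1 = (A - 1) + (B - 1) + (A - 1) * (B - 1) := by noncomm_ring
  rw [e1, PP_add, PP_add, ← PP_mul e he]
  noncomm_ring

theorem emb_pow (e : Fin i → Fin n) (he : Function.Injective e) (A : Matrix (Fin i) (Fin i) F)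
    (m : ℕ) : emb e A ^ m = emb e (A ^ m) := by
  induction m with
  | zero => rw [pow_zero, pow_zero, emb_one]
  | succ m ih => rw [pow_succ, pow_succ, ih, emb_mul e he]

theorem emb_transpose (e : Fin i → Fin n) (A : Matrix (Fin i) (Fin i) F) :
    (emb e A)ᵀ = emb e Aᵀ := by
  unfold emb PP
  rw [Matrix.transpose_add, Matrix.transpose_one, Matrix.transpose_mul, Matrix.transpose_mul,
    Matrix.transpose_transpose, Matrix.transpose_sub, Matrix.transpose_one, Matrix.mul_assoc]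

theorem emb_map (e : Fin i → Fin n) (σ : F →+* F) (A : Matrix (Fin i) (Fin i) F) :
    (emb e A).map σ = emb e (A.map σ) := by
  unfold emb PP
  rw [Matrix.map_add σ (map_add σ), Matrix.map_one σ (map_zero σ) (map_one σ), Matrix.map_mul,
    Matrix.map_mul, Matrix.transpose_map, JJ_map, Matrix.map_sub σ (map_sub σ),
    Matrix.map_one σ (map_zero σ) (map_one σ)]

theorem emb_det (e : Fin i → Fin n) (he : Function.Injective e) (A : Matrix (Fin i) (Fin i) F) :
    (emb e A).det = A.det := by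
  unfold emb PP
  rw [Matrix.mul_assoc, Matrix.det_one_add_mul_comm, Matrix.mul_assoc, JJt_mul_JJ e he,
    Matrix.mul_one, add_sub_cancel]

theorem emb_unitary (e : Fin i → Fin n) (he : Function.Injective e) (σ : F →+* F)
    (A : Matrix (Fin i) (Fin i) F) (hA : Aᵀ * A.map σ = 1) :
    (emb e A)ᵀ * (emb e A).map σ = 1 := by
  rw [emb_transpose, emb_map, emb_mul e he, hA, emb_one]

theorem emb_mul_JJ (e : Fin i → Fin n) (he : Function.Injective e) (A : Matrix (Fin i) (Fin i) F) :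
    emb e A * JJ F e = JJ F e * A := by
  unfold emb PP
  rw [Matrix.add_mul, Matrix.one_mul, Matrix.mul_assoc, JJt_mul_JJ e he, Matrix.mul_one,
    Matrix.mul_sub, Matrix.mul_one]
  abel

theorem JJt_emb_JJ (e : Fin i → Fin n) (he : Function.Injective e) (A : Matrix (Fin i) (Fin i) F) :
    (JJ F e)ᵀ * (emb e A * JJ F e) = A := by
  rw [emb_mul_JJ e he, ← Matrix.mul_assoc, JJt_mul_JJ e he, Matrix.one_mul]

theorem emb_mulVec_sub (e : Fin i → Fin n) (A : Matrix (Fin i) (Fin i) F) (v : Fin n → F) :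
    emb e A *ᵥ v - v = JJ F e *ᵥ ((A - 1) *ᵥ ((JJ F e)ᵀ *ᵥ v)) := by
  unfold emb PP
  rw [Matrix.add_mulVec, Matrix.one_mulVec, add_sub_cancel_left, Matrix.mulVec_mulVec,
    Matrix.mulVec_mulVec, Matrix.mul_assoc]

theorem herm_JJ {q : ℕ} (e : Fin i → Fin n) (he : Function.Injective e) (σ : F →+* F)
    (hσ : ∀ x, σ x = x ^ q) (y y' : Fin i → F) :
    Cfsg.hermForm n F q (JJ F e *ᵥ y) (JJ F e *ᵥ y') = Cfsg.hermForm i F q y y' := by
  rw [Cfsg.Agent.Lib.Lead.hermForm_eq_dot σ hσ, Cfsg.Agent.Lib.Lead.hermForm_eq_dot σ hσ]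
  have h1 : σ ∘ (JJ F e *ᵥ y') = JJ F e *ᵥ (σ ∘ y') := by
    funext t
    have := RingHom.map_mulVec σ (JJ F e) y' t
    rw [JJ_map] at this
    exact this
  rw [h1, ← Matrix.vecMul_transpose (JJ F e) y, ← Matrix.dotProduct_mulVec, Matrix.mulVec_mulVec,
    JJt_mul_JJ e he, Matrix.one_mulVec]

end emb

end Cfsg.Agent.Lib.helper8.S5984C
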