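import Mathlib
import Cfsg.Agent.Lib.helper8.S5984CB

set_option autoImplicit false

/-!
# S5984 row (C), part C: a unitary block `A` of determinant 1 and odd order `r` without nonzero
invariant totally singular subspace gives a derangement `A ⊕ 1` on polar pairs.
-/

namespace Cfsg.Agent.Lib.helper8.S5984C

open Matrix
open scoped MatrixGroups

theorem derange_of_block {F : Type*} [Field F] {q n : ℕ}
    (D : Fin 2 → Submodule F (Fin n → F)) (hc : D 0 ⊔ D 1 = ⊤)
    (hDs : ∀ i, Cfsg.Geo.IsTotallySingularFor (Cfsg.hermForm n F q) (D i))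
    (r : ℕ) (hr : Odd r) (i : ℕ) (hin : i ≤ n) (σ : F →+* F) (hσ : ∀ x, σ x = x ^ q)
    (A : Matrix (Fin i) (Fin i) F) (hAu : Aᵀ * A.map σ = 1) (hAdet : A.det = 1)
    (hAr : A ^ r = 1) (hA1 : A ≠ 1)
    (hH : ∀ U'' : Submodule F (Fin i → F), (∀ u ∈ U'', A *ᵥ u ∈ U'') →
      (∀ u ∈ U'', ∀ v ∈ U'', Cfsg.hermForm i F q u v = 0) → U'' = ⊥) :
    ∃ x ∈ Cfsg.GU n F q ⊓ Cfsg.Geo.specialLinear (Fin n) F,
      (∃ z : F, ((x ^ r : GL (Fin n) F) : Matrix (Fin n) (Fin n) F) =
        z • (1 : Matrix (Fin n) (Fin n) F)) ∧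
      (∀ z : F, (x : Matrix (Fin n) (Fin n) F) ≠ z • (1 : Matrix (Fin n) (Fin n) F)) ∧
      ∀ g ∈ Cfsg.GU n F q ⊓ Cfsg.Geo.specialLinear (Fin n) F,
        g⁻¹ * x * g ∉ Cfsg.Geo.decompositionStabilizer D := by
  classical
  let e : Fin i → Fin n := Fin.castLE hin
  have he : Function.Injective e := Fin.castLE_injective hin
  obtain ⟨t, ht⟩ := hr
  have hinv1 : emb e A * emb e (A ^ (2 * t)) = 1 := by
    rw [emb_mul e he, ← pow_succ', ← ht, hAr, emb_one]
  have hinv2 : emb e (A ^ (2 * t)) * emb e A = 1 := by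
    rw [emb_mul e he, ← pow_succ, ← ht, hAr, emb_one]
  let x : GL (Fin n) F := ⟨emb e A, emb e (A ^ (2 * t)), hinv1, hinv2⟩
  have hxval : (x : Matrix (Fin n) (Fin n) F) = emb e A := rfl
  have hxr : x ^ r = 1 := by
    apply Units.ext
    rw [Units.val_pow_eq_pow_val, hxval, emb_pow e he, hAr, emb_one]
    rfl
  have hxU : x ∈ Cfsg.GU n F q := by
    intro u v
    exact (Cfsg.Agent.Lib.Lead.preserves_iff σ hσ (emb e A)).mpr (emb_unitary e he σ A hAu) u v
  have hxS : x ∈ Cfsg.Geo.specialLinear (Fin n) F := by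
    show x ∈ (Matrix.GeneralLinearGroup.det : GL (Fin n) F →* Fˣ).ker
    rw [MonoidHom.mem_ker]
    apply Units.ext
    show Matrix.det (x : Matrix (Fin n) (Fin n) F) = 1
    rw [hxval, emb_det e he, hAdet]
  have hno : ∀ U W : Submodule F (Fin n → F), U ⊔ W = ⊤ →
      (∀ u ∈ U, ∀ v ∈ U, Cfsg.hermForm n F q u v = 0) →
      (∀ u ∈ W, ∀ v ∈ W, Cfsg.hermForm n F q u v = 0) →
      (∀ u ∈ U, (x : Matrix (Fin n) (Fin n) F) *ᵥ u ∈ U) →
      (∀ w ∈ W, (x : Matrix (Fin n) (Fin n) F) *ᵥ w ∈ W) → False := by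
    intro U W hUW hU hW hxU' hxW'
    apply hA1
    let X : Module.End F (Fin n → F) := Matrix.toLin' (emb e A)
    let K : Submodule F (Fin n → F) := LinearMap.range (JJ F e).mulVecLin
    have hXJ : ∀ y : Fin i → F, X (JJ F e *ᵥ y) = JJ F e *ᵥ (A *ᵥ y) := by
      intro y
      show Matrix.toLin' (emb e A) (JJ F e *ᵥ y) = _
      rw [Matrix.toLin'_apply, Matrix.mulVec_mulVec, emb_mul_JJ e he, ← Matrix.mulVec_mulVec]
    have hX1 : X = 1 := by
      apply no_pair (Cfsg.hermForm n F q) X K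
      · intro v
        show Matrix.toLin' (emb e A) v - v ∈ K
        rw [Matrix.toLin'_apply, emb_mulVec_sub]
        exact ⟨_, rfl⟩
      · intro U' hU'K hU'X hU'ts
        have hbot := hH (U'.comap (JJ F e).mulVecLin)
          (fun u hu => by
            rw [Submodule.mem_comap, Matrix.mulVecLin_apply] at hu ⊢
            rw [← hXJ]
            exact hU'X _ hu)
          (fun u hu v hv => by
            rw [Submodule.mem_comap, Matrix.mulVecLin_apply] at hu hv
            rw [← herm_JJ e he σ hσ]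
            exact hU'ts _ hu _ hv)
        rw [eq_bot_iff]
        intro u hu
        obtain ⟨y, rfl⟩ := hU'K hu
        have hy : y ∈ U'.comap (JJ F e).mulVecLin := hu
        rw [hbot, Submodule.mem_bot] at hy
        rw [hy, map_zero]
        exact Submodule.zero_mem _
      · exact hUW
      · exact hU
      · exact hW
      · intro u hu
        show Matrix.toLin' (emb e A) u ∈ U
        rw [Matrix.toLin'_apply]
        exact hxU' u hu
      · intro u hu
        show Matrix.toLin' (emb e A) u ∈ W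
        rw [Matrix.toLin'_apply]
        exact hxW' u hu
    have hE1 : emb e A = 1 := by
      apply Matrix.toLin'.injective
      rw [Matrix.toLin'_one]
      exact hX1
    have := JJt_emb_JJ e he A
    rw [hE1, Matrix.one_mul, JJt_mul_JJ e he] at this
    exact this.symm
  obtain ⟨h1, h2⟩ := derange_of_no_pair D hc hDs x (2 * t + 1) ⟨t, rfl⟩ (ht ▸ hxr) hno
  refine ⟨x, ⟨hxU, hxS⟩, ⟨1, ?_⟩, h1, h2⟩
  rw [hxr, one_smul]
  rfl

end Cfsg.Agent.Lib.helper8.S5984C
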