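import Mathlib
import Cfsg.Agent.Lib.helper8.S5984CC
import Cfsg.Agent.Lib.helper14.PolA
import Cfsg.Agent.S0277

set_option autoImplicit false

/-!
# S5984 row (C), part D: the two kinds of blocks and the final statement `s5984h8_der_odd_spare` (spare copy; the row copy `s5984h18_der_odd` is Helper18/S5984DERg.lean).
-/

namespace Cfsg.Agent.Lib.helper8.S5984C

open Matrix
open scoped MatrixGroups

/-- the block `diag(c, c⁻¹)` for `r ∣ q + 1` -/
theorem block_one {F : Type*} [Field F] [Fintype F] {q : ℕ} (hq : Fintype.card F = q ^ 2)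
    (σ : F →+* F) (hσ : ∀ x, σ x = x ^ q)
    (r : ℕ) [hr : Fact r.Prime] (hr2 : r ≠ 2) (hrq : r ∣ q + 1) :
    ∃ A : Matrix (Fin 2) (Fin 2) F, Aᵀ * A.map σ = 1 ∧ A.det = 1 ∧ A ^ r = 1 ∧ A ≠ 1 ∧
      ∀ U'' : Submodule F (Fin 2 → F), (∀ u ∈ U'', A *ᵥ u ∈ U'') →
        (∀ u ∈ U'', ∀ v ∈ U'', Cfsg.hermForm 2 F q u v = 0) → U'' = ⊥ := by
  classical
  have hcardU : Nat.card Fˣ = q ^ 2 - 1 := by
    rw [Nat.card_eq_fintype_card, Fintype.card_units, hq]
  have hdvd : r ∣ Nat.card Fˣ := by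
    rw [hcardU]
    have : q ^ 2 - 1 = (q + 1) * (q - 1) := by
      have := Nat.sq_sub_sq q 1
      simpa using this
    rw [this]
    exact dvd_mul_of_dvd_left hrq _
  obtain ⟨c, hc⟩ := exists_prime_orderOf_dvd_card' r hdvd
  have hcr : (c : F) ^ r = 1 := by
    have := pow_orderOf_eq_one c
    rw [hc] at this
    have h2 := congrArg Units.val this
    simpa using h2
  have hc0 : (c : F) ≠ 0 := c.ne_zero
  have hcq : (c : F) ^ (q + 1) = 1 := by
    obtain ⟨t, ht⟩ := hrq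
    rw [ht, pow_mul, hcr, one_pow]
  have hc1 : (c : F) ≠ 1 := by
    intro h
    have : c = 1 := Units.ext h
    rw [this, orderOf_one] at hc
    exact hr.out.one_lt.ne hc
  have hc2 : (c : F) ^ 2 ≠ 1 := by
    intro h
    have h' : c ^ 2 = 1 := Units.ext (by simpa using h)
    have := orderOf_dvd_of_pow_eq_one h'
    rw [hc] at this
    exact hr2 ((Nat.prime_dvd_prime_iff_eq hr.out Nat.prime_two).mp this)
  have hcc : (c : F) - (c : F)⁻¹ ≠ 0 := by
    intro h
    apply hc2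
    have : (c : F) = (c : F)⁻¹ := sub_eq_zero.mp h
    rw [pow_two]
    nth_rewrite 2 [this]
    exact mul_inv_cancel₀ hc0
  let d : Fin 2 → F := ![(c : F), (c : F)⁻¹]
  have hd0 : d 0 = (c : F) := rfl
  have hd1 : d 1 = (c : F)⁻¹ := rfl
  have hdq : ∀ k, d k * σ (d k) = 1 := by
    intro k
    rw [hσ, ← pow_succ']
    fin_cases k
    · exact hcq
    · show ((c : F)⁻¹) ^ (q + 1) = 1
      rw [inv_pow, hcq, inv_one]
  have hself : ∀ a : F, a * a ^ q = 0 → a = 0 := by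
    intro a ha
    rw [← pow_succ'] at ha
    exact pow_eq_zero_iff (Nat.succ_ne_zero q) |>.mp ha
  refine ⟨Matrix.diagonal d, ?_, ?_, ?_, ?_, ?_⟩
  · rw [Matrix.diagonal_transpose, Matrix.diagonal_map (map_zero σ), Matrix.diagonal_mul_diagonal,
      ← Matrix.diagonal_one]
    congr 1
    funext k
    exact hdq k
  · rw [Matrix.det_diagonal, Fin.prod_univ_two, hd0, hd1, mul_inv_cancel₀ hc0]
  · rw [Matrix.diagonal_pow, ← Matrix.diagonal_one]
    congr 1
    funext k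
    fin_cases k
    · exact hcr
    · show ((c : F)⁻¹) ^ r = 1
      rw [inv_pow, hcr, inv_one]
  · intro h
    have := congrFun (congrFun h 0) 0
    rw [Matrix.diagonal_apply_eq, Matrix.one_apply_eq] at this
    exact hc1 this
  · intro U'' hinv hts
    rw [eq_bot_iff]
    intro u hu
    rw [Submodule.mem_bot]
    have hAu : Matrix.diagonal d *ᵥ u ∈ U'' := hinv u hu
    have hform : ∀ w : Fin 2 → F, Cfsg.hermForm 2 F q w w = w 0 * w 0 ^ q + w 1 * w 1 ^ q := by
      intro w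
      unfold Cfsg.hermForm
      rw [Fin.sum_univ_two]
    -- first coordinate
    have hw0 : Matrix.diagonal d *ᵥ u - (c : F)⁻¹ • u ∈ U'' :=
      U''.sub_mem hAu (U''.smul_mem _ hu)
    have hw1 : Matrix.diagonal d *ᵥ u - (c : F) • u ∈ U'' :=
      U''.sub_mem hAu (U''.smul_mem _ hu)
    have e00 : (Matrix.diagonal d *ᵥ u - (c : F)⁻¹ • u) 0 = ((c : F) - (c : F)⁻¹) * u 0 := by
      rw [Pi.sub_apply, Matrix.mulVec_diagonal, Pi.smul_apply, smul_eq_mul, hd0]
      ring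
    have e01 : (Matrix.diagonal d *ᵥ u - (c : F)⁻¹ • u) 1 = 0 := by
      rw [Pi.sub_apply, Matrix.mulVec_diagonal, Pi.smul_apply, smul_eq_mul, hd1]
      ring
    have e10 : (Matrix.diagonal d *ᵥ u - (c : F) • u) 0 = 0 := by
      rw [Pi.sub_apply, Matrix.mulVec_diagonal, Pi.smul_apply, smul_eq_mul, hd0]
      ring
    have e11 : (Matrix.diagonal d *ᵥ u - (c : F) • u) 1 = -(((c : F) - (c : F)⁻¹) * u 1) := by
      rw [Pi.sub_apply, Matrix.mulVec_diagonal, Pi.smul_apply, smul_eq_mul, hd1]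
      ring
    have h0 := hts _ hw0 _ hw0
    rw [hform, e00, e01, zero_mul, add_zero] at h0
    have h1 := hts _ hw1 _ hw1
    rw [hform, e10, e11, zero_mul, zero_add] at h1
    have hu0 : u 0 = 0 := by
      rcases mul_eq_zero.mp (hself _ h0) with h | h
      · exact absurd h hcc
      · exact h
    have hu1 : u 1 = 0 := by
      rcases mul_eq_zero.mp (neg_eq_zero.mp (hself _ h1)) with h | h
      · exact absurd h hcc
      · exact h
    funext k
    fin_cases k
    · exact hu0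
    · exact hu1

/-- the irreducible block of size `i0 > 1` from Cauchy's theorem in `GU_{i0}(q)` -/
theorem block_irr {F : Type*} [Field F] [Fintype F] {q : ℕ} (hq : Fintype.card F = q ^ 2)
    (σ : F →+* F) (hσ : ∀ x, σ x = x ^ q)
    (r : ℕ) [hr : Fact r.Prime] (i0 : ℕ) (hodd : Odd i0) (h1 : 1 < i0) (hdvd : r ∣ q ^ i0 + 1)
    (hnum : ∀ m, 0 < m → m < i0 → ¬ r ∣ (q ^ 2) ^ m - 1) :
    ∃ A : Matrix (Fin i0) (Fin i0) F, Aᵀ * A.map σ = 1 ∧ A.det = 1 ∧ A ^ r = 1 ∧ A ≠ 1 ∧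
      ∀ U'' : Submodule F (Fin i0 → F), (∀ u ∈ U'', A *ᵥ u ∈ U'') →
        (∀ u ∈ U'', ∀ v ∈ U'', Cfsg.hermForm i0 F q u v = 0) → U'' = ⊥ := by
  classical
  have hrq : ¬ r ∣ q := by
    intro h
    have h2 : r ∣ q ^ i0 := dvd_pow h (by omega)
    have h3 : r ∣ 1 := (Nat.dvd_add_right h2).mp hdvd
    exact hr.out.one_lt.ne' (Nat.dvd_one.mp h3)
  have hrq2 : ¬ r ∣ q ^ 2 := fun h => hrq (hr.out.dvd_of_dvd_pow h)
  have hcard : r ∣ Nat.card (Cfsg.GU i0 F q) := by
    rw [Cfsg.Agent.S0277.result hq i0]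
    apply dvd_mul_of_dvd_right
    apply dvd_trans _ (Finset.dvd_prod_of_mem _ (Finset.mem_range.mpr (show i0 - 1 < i0 by omega)))
    have heven : Even (i0 - 1) := by
      obtain ⟨t, ht⟩ := hodd
      exact ⟨t, by omega⟩
    rw [if_pos heven]
    have : i0 - 1 + 1 = i0 := by omega
    rw [this]
    exact hdvd
  obtain ⟨x₁, hx₁⟩ := exists_prime_orderOf_dvd_card' r hcard
  let A : Matrix (Fin i0) (Fin i0) F := ((x₁ : GL (Fin i0) F) : Matrix (Fin i0) (Fin i0) F)
  have hAr : A ^ r = 1 := by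
    have h1 : x₁ ^ r = 1 := hx₁ ▸ pow_orderOf_eq_one x₁
    have h2 : ((x₁ ^ r : Cfsg.GU i0 F q) : GL (Fin i0) F) = 1 := by rw [h1]; rfl
    rw [SubgroupClass.coe_pow] at h2
    have h3 := congrArg Units.val h2
    rw [Units.val_pow_eq_pow_val, Units.val_one] at h3
    exact h3
  have hA1 : A ≠ 1 := by
    intro h
    have h2 : (x₁ : GL (Fin i0) F) = 1 := Units.ext h
    have h3 : x₁ = 1 := Subtype.ext h2
    rw [h3, orderOf_one] at hx₁
    exact hr.out.one_lt.ne hx₁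
  have hAu : Aᵀ * A.map σ = 1 :=
    (Cfsg.Agent.Lib.Lead.preserves_iff σ hσ A).mp (fun u v => x₁.2 u v)
  have hdet_r : A.det ^ r = 1 := by rw [← Matrix.det_pow, hAr, Matrix.det_one]
  have hdet_q : A.det ^ (q + 1) = 1 := by
    have h := congrArg Matrix.det hAu
    rw [Matrix.det_mul, Matrix.det_transpose, Matrix.det_one] at h
    have h2 : (A.map σ).det = σ A.det := by
      rw [← RingHom.mapMatrix_apply, ← RingHom.map_det]
    rw [h2, hσ, ← pow_succ'] at h
    exact h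
  have hnot : ¬ r ∣ q + 1 := by
    intro h
    apply hnum 1 Nat.one_pos h1
    have : (q ^ 2) ^ 1 - 1 = (q + 1) * (q - 1) := by
      have := Nat.sq_sub_sq q 1
      simpa using this
    rw [this]
    exact dvd_mul_of_dvd_left h _
  have hcop : Nat.gcd r (q + 1) = 1 := (Nat.Prime.coprime_iff_not_dvd hr.out).mpr hnot
  have hdet : A.det = 1 := by
    have := pow_gcd_eq_one.mpr ⟨hdet_r, hdet_q⟩
    rw [hcop, pow_one] at this
    exact this
  refine ⟨A, hAu, hdet, hAr, hA1, ?_⟩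
  have hXr : (Matrix.toLin' A) ^ r = 1 := by
    rw [← toLin'_pow_eq, hAr, Matrix.toLin'_one]
    rfl
  have hX1 : Matrix.toLin' A ≠ 1 := by
    intro h
    apply hA1
    apply Matrix.toLin'.injective
    rw [Matrix.toLin'_one]
    exact h
  have hcardF : Nat.card F = q ^ 2 := by rw [Nat.card_eq_fintype_card, hq]
  have hfr : Module.finrank F (Fin i0 → F) = i0 := by
    rw [Module.finrank_fintype_fun_eq_card, Fintype.card_fin]
  obtain ⟨-, hirr⟩ := Cfsg.Agent.Lib.helper14.PolA.irr_of_order (Matrix.toLin' A) r hXr hX1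
    (q ^ 2) i0 hcardF hrq2 hfr hnum
  intro U'' hinv hts
  rcases hirr U'' (fun u hu => by rw [Matrix.toLin'_apply]; exact hinv u hu) with h | h
  · exact h
  · exfalso
    have hmem : (Pi.single (⟨0, by omega⟩ : Fin i0) (1 : F) : Fin i0 → F) ∈ U'' :=
      h ▸ Submodule.mem_top
    have := hts _ hmem _ hmem
    unfold Cfsg.hermForm at this
    rw [Finset.sum_eq_single (⟨0, by omega⟩ : Fin i0)] at this
    · simp at this
    · intro b _ hb
      simp [hb]
    · intro h'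
      exact absurd (Finset.mem_univ _) h'

/-- **S5984 row (C)**: for an odd prime `r` dividing `q^j + 1` with `j ≤ n - 1` odd there is an
element of `SU_n(q)` of order `r` stabilising no polar pair. -/
theorem s5984h8_der_odd_spare {F : Type*} [Field F] [Fintype F] {p : ℕ} [Fact p.Prime] [CharP F p]
    {q : ℕ} (hq : Fintype.card F = q ^ 2) (n : ℕ) (hn : 4 ≤ n) (he : Even n)
    (D : Fin 2 → Submodule F (Fin n → F)) (hD : Cfsg.Geo.IsMDecomposition (n / 2) D)
    (hDs : ∀ i, Cfsg.Geo.IsTotallySingularFor (Cfsg.hermForm n F q) (D i))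
    (r : ℕ) [Fact r.Prime] (hr2 : r ≠ 2) (hrp : r ≠ p) (j : ℕ) (hj : Odd j) (hjn : j ≤ n - 1)
    (hrj : r ∣ q ^ j + 1) :
    ∃ x ∈ Cfsg.GU n F q ⊓ Cfsg.Geo.specialLinear (Fin n) F,
      (∃ z : F, ((x ^ r : GL (Fin n) F) : Matrix (Fin n) (Fin n) F) =
        z • (1 : Matrix (Fin n) (Fin n) F)) ∧
      (∀ z : F, (x : Matrix (Fin n) (Fin n) F) ≠ z • (1 : Matrix (Fin n) (Fin n) F)) ∧
      ∀ g ∈ Cfsg.GU n F q ⊓ Cfsg.Geo.specialLinear (Fin n) F,
        g⁻¹ * x * g ∉ Cfsg.Geo.decompositionStabilizer D := by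
  classical
  obtain ⟨σ, hσ⟩ := Cfsg.Agent.Lib.Lead.exists_frob hq
  have hc : D 0 ⊔ D 1 = ⊤ := by
    rw [eq_top_iff, ← hD.iSup_eq_top]
    apply iSup_le
    intro i
    fin_cases i
    · exact le_sup_left
    · exact le_sup_right
  have hrodd : Odd r := (Fact.out : r.Prime).odd_of_ne_two hr2
  obtain ⟨i0, hi0odd, hi0j, hi0dvd, hnum⟩ := exists_i0 q r j hr2 hj hrj
  by_cases h1 : i0 = 1
  · subst h1
    rw [pow_one] at hi0dvd
    obtain ⟨A, hAu, hAdet, hAr, hA1, hH⟩ := block_one hq σ hσ r hr2 hi0dvd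
    exact derange_of_block D hc hDs r hrodd 2 (by omega) σ hσ A hAu hAdet hAr hA1 hH
  · have h1' : 1 < i0 := by
      obtain ⟨t, ht⟩ := hi0odd
      omega
    obtain ⟨A, hAu, hAdet, hAr, hA1, hH⟩ := block_irr hq σ hσ r i0 hi0odd h1' hi0dvd hnum
    exact derange_of_block D hc hDs r hrodd i0 (by omega) σ hσ A hAu hAdet hAr hA1 hH

end Cfsg.Agent.Lib.helper8.S5984C
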