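import Mathlib
import Cfsg.Agent.Lib.helper8.SylowBasic
import Cfsg.Agent.Lib.helper8.SimpleEmbed
import Cfsg.Agent.Lib.helper8.SubgroupCard
import Cfsg.Agent.Lib.helper8.Burnside
import Cfsg.Agent.Lib.Helper24.BrauerFowler
import Cfsg.Agent.S0985

set_option autoImplicit false

/-! Project S983 (S0983), row N5400, part a: generic tools.

* `s983n5400_card_dvd_of_free`: a free action of `H` on an invariant subset `S`: `|H| ∣ |S|`;
* `s983n5400_unique25`: a group of order 450 has only one subgroup of order 25. -/

namespace Cfsg.Agent.Lib.helper3.S983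

open Cfsg.Agent.Lib.helper8

/-- a group acting freely on (an invariant subset of) a finite set: its order divides the cardinality. -/
theorem s983n5400_card_dvd_of_free {H X : Type*} [Group H] [Finite H] [MulAction H X] [Finite X]
    (S : SubMulAction H X) (hfree : ∀ x ∈ S, MulAction.stabilizer H x = ⊥) :
    Nat.card H ∣ Nat.card S := by
  classical
  have : Fintype (MulAction.orbitRel.Quotient H S) := Fintype.ofFinite _
  rw [Nat.card_congr (MulAction.selfEquivSigmaOrbits' H S), Nat.card_sigma]
  apply Finset.dvd_sum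
  intro ω _
  induction ω using Quotient.inductionOn' with
  | h x =>
    rw [MulAction.orbitRel.Quotient.orbit_mk]
    have h2 : MulAction.stabilizer H x = ⊥ := by
      rw [SubMulAction.stabilizer_of_subMul]; exact hfree x x.2
    have h1 := MulAction.index_stabilizer H x
    rw [h2, Subgroup.index_bot] at h1
    rw [Nat.card_coe_set_eq, ← h1]

/-- a group of order 450 has only one subgroup of order 25. -/
theorem s983n5400_unique25 {H : Type*} [Group H] [Finite H] (hH : Nat.card H = 450)
    [Fact (Nat.Prime 5)] (T T' : Subgroup H) (hT : Nat.card T = 25) (hT' : Nat.card T' = 25) :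
    T = T' := by
  obtain ⟨K, hK⟩ := Cfsg.Agent.Lib.Helper24.bf_two_odd (G := H) 225 (by decide) (by rw [hH])
  have hKcard : Nat.card K = 225 := by
    have := K.card_mul_index
    rw [hK, hH] at this
    omega
  -- every element of order dividing 25 lies in K
  have hmemK : ∀ u : H, u ^ 25 = 1 → u ∈ K := by
    intro u hu
    have h1 : u ^ 2 ∈ K := Subgroup.sq_mem_of_index_two hK u
    have h2 : (u ^ 2) ^ 13 ∈ K := K.pow_mem h1 13
    have h3 : (u ^ 2) ^ 13 = u := by
      rw [← pow_mul]
      calc u ^ 26 = u ^ 25 * u := by rw [pow_succ]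
        _ = u := by rw [hu, one_mul]
    rwa [h3] at h2
  have hpow : ∀ (U : Subgroup H), Nat.card U = 25 → ∀ u ∈ U, u ^ 25 = 1 := by
    intro U hU u hu
    have := pow_card_eq_one' (G := U) (x := ⟨u, hu⟩)
    rw [hU] at this
    have := congrArg Subtype.val this
    simpa using this
  have hleK : ∀ (U : Subgroup H), Nat.card U = 25 → U ≤ K := fun U hU u hu =>
    hmemK u (hpow U hU u hu)
  -- unique Sylow 5-subgroup of K
  have hK' : Nat.card K = 5 ^ 2 * 9 := by rw [hKcard]; norm_num
  have hmem := h8_nsylow_mem (G := K) 5 2 9 hK' (by norm_num)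
  have hdiv : (Nat.divisors 9).filter (fun d => d % 5 = 1) = {1} := by decide
  rw [hdiv, Finset.mem_singleton] at hmem
  have : Subsingleton (Sylow 5 K) := (Nat.card_eq_one_iff_unique.mp hmem).1
  have hfac : (Nat.card K).factorization 5 = 2 :=
    h8_factorization_of_eq 5 2 9 _ (by norm_num) hK' (by norm_num)
  have c1 : Nat.card (T.subgroupOf K) = 5 ^ (Nat.card K).factorization 5 := by
    rw [hfac, ← Nat.card_congr (Subgroup.subgroupOfEquivOfLe (hleK T hT)).toEquiv.symm, hT]
    norm_num
  have c2 : Nat.card (T'.subgroupOf K) = 5 ^ (Nat.card K).factorization 5 := by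
    rw [hfac, ← Nat.card_congr (Subgroup.subgroupOfEquivOfLe (hleK T' hT')).toEquiv.symm, hT']
    norm_num
  have heq : Sylow.ofCard (T.subgroupOf K) c1 = Sylow.ofCard (T'.subgroupOf K) c2 :=
    Subsingleton.elim _ _
  have heq' : T.subgroupOf K = T'.subgroupOf K := by
    have := congrArg (fun S : Sylow 5 K => (S : Subgroup K)) heq
    simpa using this
  have := congrArg (Subgroup.map K.subtype) heq'
  rwa [Subgroup.subgroupOf_map_subtype, Subgroup.subgroupOf_map_subtype,
    inf_eq_left.mpr (hleK T hT), inf_eq_left.mpr (hleK T' hT')] at this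

/-- two Sylow 5-subgroups (of order 25) inside a subgroup of order 450 are equal. -/
theorem s983n5400_sylow_eq {G : Type*} [Group G] [Finite G] [Fact (Nat.Prime 5)] (M : Subgroup G)
    (hM : Nat.card M = 450) (P R : Sylow 5 G) (hP : Nat.card (P : Subgroup G) = 25)
    (hR : Nat.card (R : Subgroup G) = 25) (hPM : (P : Subgroup G) ≤ M) (hRM : (R : Subgroup G) ≤ M) :
    P = R := by
  have h1 : Nat.card ((P : Subgroup G).subgroupOf M) = 25 := by
    rw [← hP]; exact Nat.card_congr (Subgroup.subgroupOfEquivOfLe hPM).toEquiv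
  have h2 : Nat.card ((R : Subgroup G).subgroupOf M) = 25 := by
    rw [← hR]; exact Nat.card_congr (Subgroup.subgroupOfEquivOfLe hRM).toEquiv
  have h := s983n5400_unique25 hM _ _ h1 h2
  have := congrArg (Subgroup.map M.subtype) h
  rw [Subgroup.subgroupOf_map_subtype, Subgroup.subgroupOf_map_subtype,
    inf_eq_left.mpr hPM, inf_eq_left.mpr hRM] at this
  exact Sylow.ext this

end Cfsg.Agent.Lib.helper3.S983
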