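import Mathlib
import Cfsg.Agent.Lib.helper8.S983N5400a
import Cfsg.Agent.Lib.helper8.SylowConj

set_option autoImplicit false

/-! Project S983 (S0983), row N5400, part b: the Sylow 5-data of a simple group of order 5400 and the counting of the Sylow 5-subgroups meeting `P`. -/

namespace Cfsg.Agent.Lib.helper3.S983

open Cfsg.Agent.Lib.helper8

/-- `|P| = 25`, `n_5 = 36`, `|N(P)| = 150`. -/
theorem s983n5400_data {G : Type*} [Group G] [Finite G] [IsSimpleGroup G]
    (hG : Nat.card G = 5400) [Fact (Nat.Prime 5)] (P : Sylow 5 G) :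
    Nat.card (P : Subgroup G) = 25 ∧ Nat.card (Sylow 5 G) = 36 ∧
      Nat.card (Subgroup.normalizer ((P : Subgroup G) : Set G)) = 150 := by
  have hG' : Nat.card G = 5 ^ 2 * 216 := by rw [hG]; norm_num
  have hnd : ¬ 5 ∣ 216 := by norm_num
  have hnc : ¬ IsMulCommutative G := h8_not_comm_of_card (by rw [hG]; norm_num)
  have hP : Nat.card (P : Subgroup G) = 25 := by
    have := h8_sylow_card 5 2 216 hG' hnd P
    simpa using this
  have hNn := h8_card_normalizer_sylow 5 P
  have hmem := h8_nsylow_mem 5 2 216 hG' hnd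
  have hne1 := h8_simple_nsylow_ne_one 5 2 216 hG' hnd (by norm_num) (by norm_num)
  have hdiv : (Nat.divisors 216).filter (fun d => d % 5 = 1) = {1, 6, 36, 216} := by decide +kernel
  rw [hdiv] at hmem
  simp only [Finset.mem_insert, Finset.mem_singleton] at hmem
  rw [hG] at hNn
  rcases hmem with h | h | h | h
  · exact absurd h hne1
  · exfalso
    have hidx := h8_nsylow_eq_index_normalizer 5 P
    have hNtop : Subgroup.normalizer ((P : Subgroup G) : Set G) ≠ ⊤ := by
      intro htop
      rw [htop, Subgroup.index_top] at hidx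
      omega
    have := h8_simple_two_mul_card_dvd_factorial hnc _ hNtop
    rw [← hidx, h, hG] at this
    revert this
    decide
  · refine ⟨hP, h, ?_⟩
    rw [h] at hNn; omega
  · exfalso
    have hN : Nat.card (Subgroup.normalizer ((P : Subgroup G) : Set G)) = 25 := by
      rw [h] at hNn; omega
    have heq : (P : Subgroup G) = Subgroup.normalizer ((P : Subgroup G) : Set G) :=
      Subgroup.eq_of_le_of_card_ge Subgroup.le_normalizer (by rw [hN, hP])
    have hcomm := h8_comm_of_card_prime_sq 5 (P : Subgroup G) (by rw [hP]; norm_num)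
    apply h8_simple_not_normalizer_le_centralizer 5 2 216 hG' hnd (by norm_num) (by norm_num) P
    intro g hg
    rw [← heq] at hg
    rw [Subgroup.mem_centralizer_iff]
    intro x hx
    exact hcomm x hx g hg

/-- two subgroups meet non-trivially. -/
def s983n5400_Meet {G : Type*} [Group G] (P R : Subgroup G) : Prop :=
  ∃ x : G, x ≠ 1 ∧ x ∈ P ∧ x ∈ R

/-- the Sylow subgroups meeting `P` trivially, as a `P`-invariant subset. -/
def s983n5400_S1 {G : Type*} [Group G] [Finite G] (p : ℕ) [Fact p.Prime] (P : Sylow p G) :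
    SubMulAction ↥(P : Subgroup G) (Sylow p G) where
  carrier := {R | ¬ s983n5400_Meet (P : Subgroup G) (R : Subgroup G)}
  smul_mem' := by
    intro g R hR hM
    apply hR
    obtain ⟨x, hx1, hxP, hxR⟩ := hM
    rw [Subgroup.smul_def, h8_mem_smul_sylow] at hxR
    refine ⟨(g : G)⁻¹ * x * (g : G), ?_, ?_, hxR⟩
    · intro h
      apply hx1
      have : x = (g : G) * ((g : G)⁻¹ * x * (g : G)) * (g : G)⁻¹ := by group
      rw [this, h]; group
    · exact (P : Subgroup G).mul_mem ((P : Subgroup G).mul_mem ((P : Subgroup G).inv_mem g.2) hxP) g.2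

/-- the number of Sylow subgroups meeting `P` trivially is divisible by `|P|`. -/
theorem s983n5400_dvd_S1 {G : Type*} [Group G] [Finite G] (p : ℕ) [Fact p.Prime] (P : Sylow p G) :
    Nat.card (P : Subgroup G) ∣ Nat.card (s983n5400_S1 p P) := by
  apply s983n5400_card_dvd_of_free
  intro R hR
  rw [Cfsg.Agent.S0985.stabilizer_eq, Subgroup.eq_bot_iff_forall]
  intro g hg
  by_contra hg1
  apply hR
  refine ⟨(g : G), ?_, g.2, hg⟩
  intro h
  exact hg1 (Subtype.ext h)

/-- the number of Sylow 5-subgroups other than `P` meeting `P` non-trivially is `10` or `35`: not divisible by `3`. -/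
theorem s983n5400_count {G : Type*} [Group G] [Finite G] [Fact (Nat.Prime 5)] (P : Sylow 5 G)
    (hP : Nat.card (P : Subgroup G) = 25) (hn : Nat.card (Sylow 5 G) = 36) :
    Nat.card {R : Sylow 5 G // R ≠ P ∧ s983n5400_Meet (P : Subgroup G) (R : Subgroup G)} % 3 ≠ 0 := by
  classical
  have : Fintype (Sylow 5 G) := Fintype.ofFinite _
  have h25 := s983n5400_dvd_S1 5 P
  rw [hP] at h25
  have e1 : Nat.card (s983n5400_S1 5 P) =
      (Finset.univ.filter (fun R : Sylow 5 G => ¬ s983n5400_Meet (P : Subgroup G) (R : Subgroup G))).card := by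
    rw [← Fintype.card_subtype, ← Nat.card_eq_fintype_card]
    exact Nat.card_congr (Equiv.subtypeEquivRight (fun R => Iff.rfl))
  have e2 : Nat.card {R : Sylow 5 G // R ≠ P ∧ s983n5400_Meet (P : Subgroup G) (R : Subgroup G)} =
      (Finset.univ.filter (fun R : Sylow 5 G => R ≠ P ∧ s983n5400_Meet (P : Subgroup G) (R : Subgroup G))).card := by
    rw [← Fintype.card_subtype, ← Nat.card_eq_fintype_card]
  have hsum := Finset.card_filter_add_card_filter_not (s := (Finset.univ : Finset (Sylow 5 G)))
    (fun R : Sylow 5 G => s983n5400_Meet (P : Subgroup G) (R : Subgroup G))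
  rw [Finset.card_univ, ← Nat.card_eq_fintype_card, hn] at hsum
  have hPM : s983n5400_Meet (P : Subgroup G) (P : Subgroup G) := by
    have hne : (P : Subgroup G) ≠ ⊥ := by
      intro h
      rw [h, Subgroup.card_bot] at hP
      norm_num at hP
    obtain ⟨⟨x, hx⟩, hx1⟩ := (Subgroup.ne_bot_iff_exists_ne_one).mp hne
    exact ⟨x, fun h => hx1 (Subtype.ext h), hx, hx⟩
  have hins : Finset.univ.filter (fun R : Sylow 5 G => s983n5400_Meet (P : Subgroup G) (R : Subgroup G)) =
      insert P (Finset.univ.filter
        (fun R : Sylow 5 G => R ≠ P ∧ s983n5400_Meet (P : Subgroup G) (R : Subgroup G))) := by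
    ext R
    simp only [Finset.mem_filter, Finset.mem_univ, true_and, Finset.mem_insert]
    constructor
    · intro h
      by_cases hRP : R = P
      · exact Or.inl hRP
      · exact Or.inr ⟨hRP, h⟩
    · rintro (h | h)
      · rw [h]; exact hPM
      · exact h.2
  have hnot : P ∉ Finset.univ.filter
      (fun R : Sylow 5 G => R ≠ P ∧ s983n5400_Meet (P : Subgroup G) (R : Subgroup G)) := by
    simp
  rw [hins, Finset.card_insert_of_notMem hnot] at hsum
  rw [e2]
  rw [e1] at h25
  obtain ⟨c, hc⟩ := h25
  omega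

end Cfsg.Agent.Lib.helper3.S983
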