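import Mathlib
import Cfsg.Agent.Lib.helper8.S983N5400b

set_option autoImplicit false

/-! Project S983 (S0983), row N5400: there is no simple group of order `5400 = 2^3 * 3^3 * 5^2`.

`n_5 = 36`, `|N(P)| = 150`, `P` abelian of order 25.  `P` acts freely on the Sylow 5-subgroups meeting it trivially, so the number of `R ≠ P` with `P ∩ R ≠ 1`
is `10` or `35`; an element `s ∈ N(P)` of order 3 fixes one of them: `s` normalises `P`, `R`, `D = P ∩ R`.  `H = N(D)` contains `P`, `R`, `s`, `H ≠ G`,
`n_5(H) ≥ 6`, `75 ∣ |N_H(P)|`: `|H| ≥ 450`, index `≥ 10` (`2 |G| ∣ index!`), `25 ∣ |H|`: `|H| = 450`; a group of order 450 has one Sylow 5-subgroup: `P = R`. -/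

namespace Cfsg.Agent.Lib.helper3.S983

open Cfsg.Agent.Lib.helper8

/-- an element of order 3 normalising `P` fixes a Sylow subgroup `R ≠ P` meeting `P`, if their number is not divisible by 3. -/
theorem s983n5400_fixed {G : Type*} [Group G] [Finite G] [Fact (Nat.Prime 5)] (P : Sylow 5 G)
    (hcount : Nat.card {R : Sylow 5 G // R ≠ P ∧ s983n5400_Meet (P : Subgroup G) (R : Subgroup G)} % 3 ≠ 0)
    (s : G) (hs : orderOf s = 3) (hsN : s ∈ Subgroup.normalizer ((P : Subgroup G) : Set G)) :
    ∃ R : Sylow 5 G, R ≠ P ∧ s983n5400_Meet (P : Subgroup G) (R : Subgroup G) ∧ s • R = R := by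
  by_contra hcon
  simp only [not_exists, not_and] at hcon
  have hzN : Subgroup.zpowers s ≤ Subgroup.normalizer ((P : Subgroup G) : Set G) :=
    Subgroup.zpowers_le.mpr hsN
  let Y : SubMulAction ↥(Subgroup.zpowers s) (Sylow 5 G) :=
    { carrier := {R | R ≠ P ∧ s983n5400_Meet (P : Subgroup G) (R : Subgroup G)}
      smul_mem' := by
        intro g R hR
        have hgN : (g : G) ∈ Subgroup.normalizer ((P : Subgroup G) : Set G) := hzN g.2
        have hgP : (g : G) • P = P := Sylow.smul_eq_iff_mem_normalizer.mpr hgN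
        refine ⟨?_, ?_⟩
        · intro h
          apply hR.1
          rw [Subgroup.smul_def] at h
          rw [← hgP] at h
          exact smul_left_cancel _ h
        · obtain ⟨x, hx1, hxP, hxR⟩ := hR.2
          refine ⟨(g : G) * x * (g : G)⁻¹, ?_, ?_, ?_⟩
          · intro h
            apply hx1
            have : x = (g : G)⁻¹ * ((g : G) * x * (g : G)⁻¹) * (g : G) := by group
            rw [this, h]; group
          · exact (Subgroup.mem_normalizer_iff.mp hgN x).mp hxP
          · rw [Subgroup.smul_def, h8_mem_smul_sylow]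
            have : (g : G)⁻¹ * ((g : G) * x * (g : G)⁻¹) * (g : G) = x := by group
            rw [this]; exact hxR }
  have hcard3 : Nat.card ↥(Subgroup.zpowers s) = 3 := by rw [Nat.card_zpowers, hs]
  have hfree : ∀ R ∈ Y, MulAction.stabilizer ↥(Subgroup.zpowers s) R = ⊥ := by
    intro R hR
    have : Fact (Nat.card ↥(Subgroup.zpowers s)).Prime := ⟨by rw [hcard3]; norm_num⟩
    rcases Subgroup.eq_bot_or_eq_top_of_prime_card
      (MulAction.stabilizer ↥(Subgroup.zpowers s) R) with h | h
    · exact h
    · exfalso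
      have hmem : (⟨s, Subgroup.mem_zpowers s⟩ : ↥(Subgroup.zpowers s)) ∈
          MulAction.stabilizer ↥(Subgroup.zpowers s) R := by rw [h]; exact Subgroup.mem_top _
      rw [MulAction.mem_stabilizer_iff, Subgroup.smul_def] at hmem
      exact hcon R hR.1 hR.2 hmem
  have hdvd := s983n5400_card_dvd_of_free Y hfree
  rw [hcard3] at hdvd
  have e : Nat.card ↥Y =
      Nat.card {R : Sylow 5 G // R ≠ P ∧ s983n5400_Meet (P : Subgroup G) (R : Subgroup G)} :=
    Nat.card_congr (Equiv.subtypeEquivRight (fun R => Iff.rfl))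
  rw [e] at hdvd
  omega

/-- N5400 (spare second copy, elementary; the row copy `no_simple_5400` is `Helper10.S983N5400`): there is no simple group of order 5400. -/
theorem s983n5400_h8_main {G : Type*} [Group G] [Finite G] [IsSimpleGroup G] (hG : Nat.card G = 5400) : False := by
  have : Fact (Nat.Prime 5) := ⟨by norm_num⟩
  have : Fact (Nat.Prime 3) := ⟨by norm_num⟩
  have hnc : ¬ IsMulCommutative G := h8_not_comm_of_card (by rw [hG]; norm_num)
  obtain ⟨P⟩ : Nonempty (Sylow 5 G) := inferInstance
  obtain ⟨hP, hn, hN⟩ := s983n5400_data hG P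
  have hcount := s983n5400_count P hP hn
  -- `s` of order 3 in `N(P)`
  have h3N : 3 ∣ Nat.card (Subgroup.normalizer ((P : Subgroup G) : Set G)) := by rw [hN]; norm_num
  obtain ⟨s', hs'⟩ := exists_prime_orderOf_dvd_card' 3 h3N
  have hs : orderOf (s' : G) = 3 := by rw [Subgroup.orderOf_coe]; exact hs'
  have hsN : (s' : G) ∈ Subgroup.normalizer ((P : Subgroup G) : Set G) := s'.2
  obtain ⟨R, hRP, ⟨x, hx1, hxP, hxR⟩, hsR⟩ := s983n5400_fixed P hcount (s' : G) hs hsN
  have hsNR : (s' : G) ∈ Subgroup.normalizer ((R : Subgroup G) : Set G) :=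
    Sylow.smul_eq_iff_mem_normalizer.mp hsR
  have hR : Nat.card (R : Subgroup G) = 25 := by
    have := h8_sylow_card 5 2 216 (by rw [hG]; norm_num) (by norm_num) R
    simpa using this
  have hcommP := h8_comm_of_card_prime_sq 5 (P : Subgroup G) (by rw [hP]; norm_num)
  have hcommR := h8_comm_of_card_prime_sq 5 (R : Subgroup G) (by rw [hR]; norm_num)
  -- `H = N(P ⊓ R)`
  have hxD : x ∈ (P : Subgroup G) ⊓ (R : Subgroup G) := ⟨hxP, hxR⟩
  have hPH : (P : Subgroup G) ≤
      Subgroup.normalizer ((((P : Subgroup G) ⊓ (R : Subgroup G) : Subgroup G)) : Set G) := by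
    intro g hg
    rw [Subgroup.mem_normalizer_iff]
    intro y
    constructor
    · intro hy
      have : g * y * g⁻¹ = y := by
        rw [hcommP g hg y hy.1]; group
      rw [this]; exact hy
    · intro hy
      have h1 : g⁻¹ * (g * y * g⁻¹) * g = g * y * g⁻¹ := by
        rw [mul_assoc, hcommP (g * y * g⁻¹) hy.1 g hg]; group
      have h2 : g⁻¹ * (g * y * g⁻¹) * g = y := by group
      rw [← h2, h1]; exact hy
  have hRH : (R : Subgroup G) ≤
      Subgroup.normalizer ((((P : Subgroup G) ⊓ (R : Subgroup G) : Subgroup G)) : Set G) := by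
    intro g hg
    rw [Subgroup.mem_normalizer_iff]
    intro y
    constructor
    · intro hy
      have : g * y * g⁻¹ = y := by
        rw [hcommR g hg y hy.2]; group
      rw [this]; exact hy
    · intro hy
      have h1 : g⁻¹ * (g * y * g⁻¹) * g = g * y * g⁻¹ := by
        rw [mul_assoc, hcommR (g * y * g⁻¹) hy.2 g hg]; group
      have h2 : g⁻¹ * (g * y * g⁻¹) * g = y := by group
      rw [← h2, h1]; exact hy
  have hsH : (s' : G) ∈
      Subgroup.normalizer ((((P : Subgroup G) ⊓ (R : Subgroup G) : Subgroup G)) : Set G) := by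
    rw [Subgroup.mem_normalizer_iff]
    intro y
    rw [Subgroup.mem_inf, Subgroup.mem_inf, ← Subgroup.mem_normalizer_iff.mp hsN y,
      ← Subgroup.mem_normalizer_iff.mp hsNR y]
  have hHtop : Subgroup.normalizer ((((P : Subgroup G) ⊓ (R : Subgroup G) : Subgroup G)) : Set G) ≠ ⊤ := by
    intro htop
    have hnorm : ((P : Subgroup G) ⊓ (R : Subgroup G)).Normal := Subgroup.normalizer_eq_top_iff.mp htop
    rcases hnorm.eq_bot_or_eq_top with h | h
    · rw [h, Subgroup.mem_bot] at hxD
      exact hx1 hxD
    · have hPtop : (P : Subgroup G) = ⊤ := by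
        rw [eq_top_iff, ← h]; exact inf_le_left
      rw [hPtop, Subgroup.card_top, hG] at hP
      norm_num at hP
  set H : Subgroup G :=
    Subgroup.normalizer ((((P : Subgroup G) ⊓ (R : Subgroup G) : Subgroup G)) : Set G) with hH
  -- counting in `H`
  obtain ⟨h6, hdvd⟩ := h8_nsylow_subgroup_ge 5 P R (Ne.symm hRP) H hPH hRH
  have hN' := h8_card_normalizer_sylow 5 (P.subtype hPH)
  have hP'card : Nat.card ((P.subtype hPH : Sylow 5 H) : Subgroup H) = 25 := by
    rw [Sylow.coe_subtype, h8_card_subgroupOf hPH, hP]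
  have h25' : 25 ∣ Nat.card (Subgroup.normalizer (((P.subtype hPH : Sylow 5 H) : Subgroup H) : Set H)) := by
    have := Subgroup.card_dvd_of_le
      (Subgroup.le_normalizer (H := ((P.subtype hPH : Sylow 5 H) : Subgroup H)))
    rwa [hP'card] at this
  have hs''mem : (⟨(s' : G), hsH⟩ : H) ∈
      Subgroup.normalizer (((P.subtype hPH : Sylow 5 H) : Subgroup H) : Set H) := by
    rw [Subgroup.mem_normalizer_iff]
    intro h
    rw [Sylow.coe_subtype, Subgroup.mem_subgroupOf, Subgroup.mem_subgroupOf]
    exact Subgroup.mem_normalizer_iff.mp hsN (h : G)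
  have hs''ord : orderOf (⟨(s' : G), hsH⟩ : H) = 3 := by
    rw [← Subgroup.orderOf_coe]; exact hs
  have h3' : 3 ∣ Nat.card (Subgroup.normalizer (((P.subtype hPH : Sylow 5 H) : Subgroup H) : Set H)) := by
    have := Subgroup.orderOf_dvd_natCard _ hs''mem
    rwa [hs''ord] at this
  have h25H : 25 ∣ Nat.card H := by
    have := Subgroup.card_dvd_of_le hPH
    rwa [hP] at this
  have hidx := H.index_mul_card
  rw [hG] at hidx
  have hfact := h8_simple_two_mul_card_dvd_factorial hnc H hHtop
  rw [hG] at hfact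
  -- `|H| ≥ 450`
  have hge : 450 ≤ Nat.card H := by
    have h75 : 75 ≤ Nat.card (Subgroup.normalizer (((P.subtype hPH : Sylow 5 H) : Subgroup H) : Set H)) := by
      have hpos : 0 < Nat.card (Subgroup.normalizer (((P.subtype hPH : Sylow 5 H) : Subgroup H) : Set H)) :=
        Nat.card_pos
      omega
    calc 450 = 75 * 6 := by norm_num
      _ ≤ Nat.card (Subgroup.normalizer (((P.subtype hPH : Sylow 5 H) : Subgroup H) : Set H)) *
          Nat.card (Sylow 5 H) := Nat.mul_le_mul h75 h6
      _ = Nat.card H := hN'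
  obtain ⟨k, hk⟩ : ∃ k, H.index = k := ⟨_, rfl⟩
  rw [hk] at hidx hfact
  have hk12 : k ≤ 12 := by
    by_contra hlt
    have : 13 ≤ k := by omega
    have := Nat.mul_le_mul this hge
    omega
  have hc450 : Nat.card H = 450 := by
    interval_cases k
    · omega
    · exfalso; revert hfact; decide
    · exfalso; revert hfact; decide
    · exfalso; revert hfact; decide
    · exfalso; revert hfact; decide
    · exfalso; revert hfact; decide
    · exfalso; revert hfact; decide
    · exfalso; revert hfact; decide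
    · exfalso; revert hfact; decide
    · exfalso; revert hfact; decide
    · omega
    · omega
    · omega
  exact hRP (s983n5400_sylow_eq H hc450 P R hP hR hPH hRH).symm

end Cfsg.Agent.Lib.helper3.S983
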