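import Mathlib
import Cfsg.Agent.Lib.helper14.SubA
import Cfsg.Agent.Lib.helper14.SubB
import Cfsg.Agent.Lib.helper14.PolA

set_option autoImplicit false

/-!
# SFO rows CNT and BLK
-/

namespace Cfsg.Agent.Lib.helper8.SFO

open Matrix Polynomial
open scoped MatrixGroups
open Cfsg.Agent.Lib.helper14

theorem sfocnt_toLin'_pow {F : Type*} [Field F] {n : Type*} [Fintype n] [DecidableEq n]
    (A : Matrix n n F) (m : ℕ) : Matrix.toLin' (A ^ m) = (Matrix.toLin' A) ^ m := by
  induction m with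
  | zero => rw [pow_zero, pow_zero, Matrix.toLin'_one]; rfl
  | succ m ih => rw [pow_succ, pow_succ, Matrix.toLin'_mul, ih]; rfl

/-- CNT [M]: fixed-point counting over the small field. -/
theorem count_rat {K : Type*} [Field K] [Fintype K] (q₀ : ℕ) (hK : Fintype.card K = q₀) (r : ℕ)
    [Fact r.Prime] (hr : ¬ r ∣ q₀) {n : ℕ} (Y : Matrix (Fin n) (Fin n) K) (hY : Y ^ r = 1) :
    r ∣ q₀ ^ (Y - 1).rank - 1 := by
  classical
  have hXr : (Matrix.toLin' Y) ^ r = 1 := by
    rw [← sfocnt_toLin'_pow, hY, Matrix.toLin'_one]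
    rfl
  have h := PolA.card_inv_modEq (Matrix.toLin' Y) r hXr ⊤ (fun u _ => Submodule.mem_top)
  rw [top_inf_eq, finrank_top, Module.finrank_fintype_fun_eq_card, Fintype.card_fin,
    Nat.card_eq_fintype_card, hK] at h
  -- rank-nullity
  have hker : PolA.fixSp (Matrix.toLin' Y) = LinearMap.ker (Matrix.toLin' (Y - 1)) := by
    unfold PolA.fixSp
    rw [map_sub, Matrix.toLin'_one]
    rfl
  have hrk : (Y - 1).rank + Module.finrank K ↥(PolA.fixSp (Matrix.toLin' Y)) = n := by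
    rw [hker]
    have := LinearMap.finrank_range_add_finrank_ker (Matrix.toLin' (Y - 1))
    rw [Module.finrank_fintype_fun_eq_card, Fintype.card_fin] at this
    exact this
  set a := Module.finrank K ↥(PolA.fixSp (Matrix.toLin' Y)) with ha
  have hle : a ≤ n := by omega
  have hq0 : 0 < q₀ := by
    rcases Nat.eq_zero_or_pos q₀ with h0 | h0
    · exact absurd (h0 ▸ dvd_zero r) hr
    · exact h0
  have hcop : Nat.gcd r (q₀ ^ a) = 1 := by
    apply Nat.Coprime.pow_right
    exact (Nat.Prime.coprime_iff_not_dvd (Fact.out : r.Prime)).mpr hr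
  have e : q₀ ^ n = q₀ ^ a * q₀ ^ (Y - 1).rank := by
    rw [← pow_add]
    congr 1
    omega
  rw [e] at h
  have h1 : q₀ ^ a * q₀ ^ (Y - 1).rank ≡ q₀ ^ a * 1 [MOD r] := by rw [mul_one]; exact h
  have h2 := Nat.ModEq.cancel_left_of_coprime hcop h1
  exact (Nat.modEq_iff_dvd' (Nat.one_le_pow _ _ hq0)).mp h2.symm

/-- BLK [M]: Cauchy in `SL_e(F)`. -/
theorem big_block {F : Type*} [Field F] [Fintype F] {q : ℕ} (hq : Fintype.card F = q) (r : ℕ)
    [Fact r.Prime] (e : ℕ) (he2 : 2 ≤ e) (hre : r ∣ q ^ e - 1) :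
    ∃ A : Matrix (Fin e) (Fin e) F, A.det = 1 ∧ A ^ r = 1 ∧ A ≠ 1 := by
  classical
  have hrpr : r.Prime := Fact.out
  have hq2 : 2 ≤ q := by
    rw [← hq]
    exact Fintype.one_lt_card
  have hform := SubB.card_SL_formula (K := F) q hq e (by omega)
  -- split off the factor `i = 0`
  obtain ⟨e', rfl⟩ := Nat.exists_eq_add_of_le' (show 1 ≤ e by omega)
  rw [Finset.prod_range_succ' ] at hform
  simp only [zero_add, pow_one] at hform
  have hq1 : 0 < q - 1 := by omega
  have hcard : Nat.card (Matrix.SpecialLinearGroup (Fin (e' + 1)) F) =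
      q ^ (∑ i ∈ Finset.range (e' + 1), i) * ∏ i ∈ Finset.range e', (q ^ (i + 1 + 1) - 1) := by
    apply Nat.eq_of_mul_eq_mul_right hq1
    rw [hform]
    ring
  have hdvd : r ∣ Nat.card (Matrix.SpecialLinearGroup (Fin (e' + 1)) F) := by
    rw [hcard]
    apply dvd_mul_of_dvd_right
    apply dvd_trans _ (Finset.dvd_prod_of_mem _ (Finset.mem_range.mpr (show e' - 1 < e' by omega)))
    have : e' - 1 + 1 + 1 = e' + 1 := by omega
    rw [this]
    exact hre
  obtain ⟨x, hx⟩ := exists_prime_orderOf_dvd_card' r hdvd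
  refine ⟨(x : Matrix (Fin (e' + 1)) (Fin (e' + 1)) F), x.2, ?_, ?_⟩
  · have h1 : x ^ r = 1 := hx ▸ pow_orderOf_eq_one x
    have h2 := congrArg (fun y : Matrix.SpecialLinearGroup (Fin (e' + 1)) F =>
      (y : Matrix (Fin (e' + 1)) (Fin (e' + 1)) F)) h1
    simpa using h2
  · intro h
    have h2 : x = 1 := Subtype.ext h
    rw [h2, orderOf_one] at hx
    exact hrpr.one_lt.ne hx

end Cfsg.Agent.Lib.helper8.SFO
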