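import Mathlib
import Cfsg.Agent.Lib.helper14.SubA

set_option autoImplicit false

/-!
# SFO rows NEC and RANKMAP
-/

namespace Cfsg.Agent.Lib.helper8.SFO

open Matrix Polynomial
open scoped MatrixGroups
open Cfsg.Agent.Lib.helper14

/-- NEC [S]: restatement of `SubA.mem_HS`. -/
theorem nec_form {F : Type*} [Field F] {n : ℕ} (F₀ : Subfield F)
    (x P : Matrix.SpecialLinearGroup (Fin n) F) (h : P⁻¹ * x * P ∈ SubA.HS n F₀) :
    ∃ (c : F) (Y₀ : Matrix (Fin n) (Fin n) ↥F₀), c ≠ 0 ∧
      ((P⁻¹ * x * P : Matrix.SpecialLinearGroup (Fin n) F) : Matrix (Fin n) (Fin n) F) =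
        c • Y₀.map F₀.subtype := by
  rw [SubA.mem_HS] at h
  obtain ⟨c, hc, hmem⟩ := h
  refine ⟨c, fun i j => ⟨c⁻¹ * ((P⁻¹ * x * P : Matrix.SpecialLinearGroup (Fin n) F) :
    Matrix (Fin n) (Fin n) F) i j, hmem i j⟩, hc, ?_⟩
  ext i j
  show _ = c * (c⁻¹ * _)
  rw [← mul_assoc, mul_inv_cancel₀ hc, one_mul]

/-- RANKMAP [M]: the rank of a square matrix does not change under a homomorphism of fields. -/
theorem rank_map {K L : Type*} [Field K] [Field L] (f : K →+* L) {m : Type*} [Fintype m]
    [DecidableEq m] (M : Matrix m m K) : (M.map f).rank = M.rank := by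
  classical
  obtain ⟨V, U, e, hV, hU, h⟩ := Matrix.exists_rank_normal_form M
  have hVd : IsUnit V.det := (Matrix.isUnit_iff_isUnit_det V).mp hV
  have hUd : IsUnit U.det := (Matrix.isUnit_iff_isUnit_det U).mp hU
  have hVd' : IsUnit (V.map f).det := by
    rw [← RingHom.mapMatrix_apply, ← RingHom.map_det]
    exact hVd.map f
  have hUd' : IsUnit (U.map f).det := by
    rw [← RingHom.mapMatrix_apply, ← RingHom.map_det]
    exact hUd.map f
  -- the normal form as a diagonal matrix
  have hK : (fromBlocks (1 : Matrix (Fin M.rank) (Fin M.rank) K) 0 0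
      (0 : Matrix (Fin (Fintype.card m - M.rank)) (Fin (Fintype.card m - M.rank)) K)).submatrix e e =
      diagonal (fun i => Sum.elim (fun _ => (1 : K)) (fun _ => (0 : K)) (e i)) := by
    rw [← diagonal_one, ← diagonal_zero, fromBlocks_diagonal, submatrix_diagonal_equiv]
    rfl
  have h1 : M.rank = (V * M * U).rank := by
    rw [rank_mul_eq_left_of_isUnit_det U (V * M) hUd, rank_mul_eq_right_of_isUnit_det V M hVd]
  have h2 : (M.map f).rank = (V.map f * M.map f * U.map f).rank := by
    rw [rank_mul_eq_left_of_isUnit_det (U.map f) (V.map f * M.map f) hUd',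
      rank_mul_eq_right_of_isUnit_det (V.map f) (M.map f) hVd']
  have h3 : V.map f * M.map f * U.map f =
      diagonal (fun i => Sum.elim (fun _ => (1 : L)) (fun _ => (0 : L)) (e i)) := by
    rw [← Matrix.map_mul, ← Matrix.map_mul, h, hK, Matrix.diagonal_map (map_zero f)]
    congr 1
    funext i
    show f (Sum.elim (fun _ => (1 : K)) (fun _ => (0 : K)) (e i)) = _
    rcases e i with a | b
    · exact map_one f
    · exact map_zero f
  have hA : (M.map f).rank = Fintype.card
      {i // Sum.elim (fun _ => (1 : L)) (fun _ => (0 : L)) (e i) ≠ 0} := by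
    rw [h2, h3, rank_diagonal]
  have hB : M.rank = Fintype.card
      {i // Sum.elim (fun _ => (1 : K)) (fun _ => (0 : K)) (e i) ≠ 0} :=
    calc M.rank = (V * M * U).rank := h1
      _ = _ := by rw [h, hK, rank_diagonal]
  rw [hA]
  refine Eq.trans ?_ hB.symm
  apply Fintype.card_congr
  apply Equiv.subtypeEquivRight
  intro i
  rcases e i with a | b
  · simp
  · simp

end Cfsg.Agent.Lib.helper8.SFO
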