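import Mathlib
import Cfsg.Agent.Lib.helper8.SFONEC
import Cfsg.Agent.Lib.helper8.SFOCNT
import Cfsg.Agent.Lib.helper8.S5984CB
import Cfsg.Agent.Lib.Helper26.SFOFIXF0

set_option autoImplicit false

/-!
# SFO row DERBIG: the derangement `A ⊕ 1` for `e ≥ 2`.
-/

namespace Cfsg.Agent.Lib.helper8.SFO

open Matrix Polynomial
open scoped MatrixGroups
open Cfsg.Agent.Lib.helper14 Cfsg.Agent.Lib.helper8.S5984C

theorem sfoderbig_rank_zero {K : Type*} [Field K] {n : ℕ} (M : Matrix (Fin n) (Fin n) K)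
    (h : M.rank = 0) : M = 0 := by
  have h1 : LinearMap.range M.mulVecLin = ⊥ := by
    apply Submodule.finrank_eq_zero.mp
    exact h
  have h2 : M.mulVecLin = 0 := LinearMap.range_eq_bot.mp h1
  ext i j
  have h3 := congrFun (LinearMap.congr_fun h2 (Pi.single j 1)) i
  simpa using h3

/-- DERBIG [L]: the derangement for `e ≥ 2`. -/
theorem der_big {F : Type*} [Field F] [Fintype F] {q : ℕ} (hq : Fintype.card F = q) (n : ℕ)
    (F₀ : Subfield F) (q₀ k : ℕ) (hF₀ : Nat.card ↥F₀ = q₀) (hqk : q = q₀ ^ k)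
    (r : ℕ) [Fact r.Prime] (e : ℕ) (he2 : 2 ≤ e) (hen : e ≤ n) (hre : r ∣ q ^ e - 1)
    (hmin : ∀ m, 0 < m → m < e → ¬ r ∣ q ^ m - 1) (hr0 : ∀ j, 1 ≤ j → j ≤ e → ¬ r ∣ q₀ ^ j - 1) :
    ∃ x : Matrix.SpecialLinearGroup (Fin n) F,
      (∃ z : F, ((x ^ r : Matrix.SpecialLinearGroup (Fin n) F) : Matrix (Fin n) (Fin n) F) =
        z • (1 : Matrix (Fin n) (Fin n) F)) ∧
      (∀ z : F, (x : Matrix (Fin n) (Fin n) F) ≠ z • (1 : Matrix (Fin n) (Fin n) F)) ∧
      ∀ P : Matrix.SpecialLinearGroup (Fin n) F, P⁻¹ * x * P ∉ SubA.HS n F₀ := by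
  classical
  have hrpr : r.Prime := Fact.out
  have hq2 : 2 ≤ q := by
    rw [← hq]
    exact Fintype.one_lt_card
  have hk0 : k ≠ 0 := by
    rintro rfl
    rw [pow_zero] at hqk
    omega
  have hrq1 : ¬ r ∣ q - 1 := by
    have := hmin 1 Nat.one_pos (by omega)
    rwa [pow_one] at this
  have hrq : ¬ r ∣ q := by
    intro h
    have h2 : r ∣ q ^ e := dvd_pow h (by omega)
    have hq1 : 1 ≤ q ^ e := Nat.one_le_pow _ _ (by omega)
    have h3 : r ∣ q ^ e - (q ^ e - 1) := Nat.dvd_sub h2 hre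
    have h4 : q ^ e - (q ^ e - 1) = 1 := by omega
    rw [h4] at h3
    exact hrpr.one_lt.ne' (Nat.dvd_one.mp h3)
  have hrq0 : ¬ r ∣ q₀ := fun h => hrq (hqk ▸ dvd_pow h hk0)
  -- no element of order `r` in `F`
  have htors : ∀ u : F, u ^ r = 1 → u = 1 := by
    intro u hu
    have hu0 : u ≠ 0 := by
      rintro rfl
      rw [zero_pow hrpr.ne_zero] at hu
      exact zero_ne_one hu
    have h1 : u ^ (q - 1) = 1 := by
      rw [← hq]
      exact FiniteField.pow_card_sub_one_eq_one u hu0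
    have h2 := pow_gcd_eq_one.mpr ⟨hu, h1⟩
    have h3 : Nat.gcd r (q - 1) = 1 := (Nat.Prime.coprime_iff_not_dvd hrpr).mpr hrq1
    rwa [h3, pow_one] at h2
  obtain ⟨A, hAdet, hAr, hA1⟩ := big_block hq r e he2 hre
  let eJ : Fin e → Fin n := Fin.castLE hen
  have heJ : Function.Injective eJ := Fin.castLE_injective hen
  let X : Matrix (Fin n) (Fin n) F := emb eJ A
  have hXdet : X.det = 1 := by rw [emb_det eJ heJ, hAdet]
  have hXr : X ^ r = 1 := by rw [emb_pow eJ heJ, hAr, emb_one]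
  have hX1 : X ≠ 1 := by
    intro h
    apply hA1
    have := JJt_emb_JJ eJ heJ A
    rw [show emb eJ A = 1 from h, Matrix.one_mul, JJt_mul_JJ eJ heJ] at this
    exact this.symm
  have hn1 : 0 < n := by omega
  let x : Matrix.SpecialLinearGroup (Fin n) F := ⟨X, hXdet⟩
  have hxr : x ^ r = 1 := by
    apply Subtype.ext
    rw [Matrix.SpecialLinearGroup.coe_pow]
    exact hXr
  have hrank : (X - 1).rank ≤ e := by
    have h1 : X - 1 = JJ F eJ * (A - 1) * (JJ F eJ)ᵀ := by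
      show emb eJ A - 1 = _
      unfold emb PP
      rw [add_sub_cancel_left]
    rw [h1]
    calc (JJ F eJ * (A - 1) * (JJ F eJ)ᵀ).rank ≤ (JJ F eJ * (A - 1)).rank := Matrix.rank_mul_le_left _ _
      _ ≤ Fintype.card (Fin e) := Matrix.rank_le_card_width _
      _ = e := Fintype.card_fin e
  refine ⟨x, ⟨1, ?_⟩, ?_, ?_⟩
  · rw [hxr, one_smul]
    rfl
  · intro z hz
    have hz' : X = z • 1 := hz
    have h1 : z ^ r = 1 := by
      have h2 := hXr
      rw [hz', _root_.smul_pow, one_pow] at h2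
      have h3 := congrFun (congrFun h2 ⟨0, hn1⟩) ⟨0, hn1⟩
      simpa using h3
    apply hX1
    rw [hz', htors z h1, one_smul]
  · intro P hP
    obtain ⟨c, Y₀, hc, hxY⟩ := nec_form F₀ x P hP
    set X' : Matrix (Fin n) (Fin n) F :=
      ((P⁻¹ * x * P : Matrix.SpecialLinearGroup (Fin n) F) : Matrix (Fin n) (Fin n) F) with hX'
    have hX'r : X' ^ r = 1 := by
      have h1 : (P⁻¹ * x * P) ^ r = 1 := by
        have h0 : P⁻¹ * x * P = P⁻¹ * x * P⁻¹⁻¹ := by rw [inv_inv]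
        rw [h0, conj_pow, hxr, mul_one, mul_inv_cancel]
      rw [hX', ← Matrix.SpecialLinearGroup.coe_pow, h1]
      rfl
    -- `c ^ r ∈ F₀`
    have hpow : c ^ r • ((Y₀ ^ r).map F₀.subtype) = 1 := by
      have h1 : (Y₀ ^ r).map F₀.subtype = (Y₀.map F₀.subtype) ^ r := by
        rw [← RingHom.mapMatrix_apply, map_pow]
        rfl
      rw [h1, ← _root_.smul_pow, ← hxY]
      exact hX'r
    have hcr : c ^ r ∈ F₀ := by
      have h1 := congrFun (congrFun hpow ⟨0, hn1⟩) ⟨0, hn1⟩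
      rw [Matrix.smul_apply, Matrix.map_apply, Matrix.one_apply_eq, smul_eq_mul] at h1
      have h2 : c ^ r = (F₀.subtype ((Y₀ ^ r) ⟨0, hn1⟩ ⟨0, hn1⟩))⁻¹ := eq_inv_of_mul_eq_one_left h1
      rw [h2]
      exact F₀.inv_mem (Subtype.mem _)
    have hq01 : 1 ≤ q₀ := by
      rcases Nat.eq_zero_or_pos q₀ with h0 | h0
      · exact absurd (h0 ▸ dvd_zero r) hrq0
      · exact h0
    have hcF : c ∈ F₀ := by
      rw [mem_F0_iff F₀ q₀ hF₀]
      have h1 : (c ^ r) ^ q₀ = c ^ r := (mem_F0_iff F₀ q₀ hF₀ _).mp hcr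
      have h2 : (c ^ (q₀ - 1)) ^ r = 1 := by
        have h3 : (c ^ (q₀ - 1)) ^ r * c ^ r = 1 * c ^ r := by
          rw [one_mul, ← mul_pow, ← pow_succ, Nat.sub_add_cancel hq01, ← pow_mul, mul_comm, pow_mul]
          exact h1
        exact mul_right_cancel₀ (pow_ne_zero r hc) h3
      have h4 := htors _ h2
      calc c ^ q₀ = c ^ (q₀ - 1) * c := by rw [← pow_succ, Nat.sub_add_cancel hq01]
        _ = c := by rw [h4, one_mul]
    -- the matrix over `F₀`
    let Y : Matrix (Fin n) (Fin n) ↥F₀ := (⟨c, hcF⟩ : ↥F₀) • Y₀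
    have hYmap : Y.map F₀.subtype = X' := by
      rw [hxY]
      ext i j
      rfl
    have hYr : Y ^ r = 1 := by
      have hinj : Function.Injective (fun M : Matrix (Fin n) (Fin n) ↥F₀ => M.map F₀.subtype) :=
        Matrix.map_injective Subtype.val_injective
      apply hinj
      show (Y ^ r).map F₀.subtype = (1 : Matrix (Fin n) (Fin n) ↥F₀).map F₀.subtype
      have h1 : (Y ^ r).map F₀.subtype = (Y.map F₀.subtype) ^ r := by
        rw [← RingHom.mapMatrix_apply, map_pow]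
        rfl
      rw [h1, hYmap, hX'r, Matrix.map_one F₀.subtype (map_zero F₀.subtype) (map_one F₀.subtype)]
    let _ : Fintype ↥F₀ := Fintype.ofFinite _
    have hcard0 : Fintype.card ↥F₀ = q₀ := by rw [← hF₀, Nat.card_eq_fintype_card]
    have hcnt := count_rat q₀ hcard0 r hrq0 Y hYr
    have hρ1 : (Y - 1).rank = (X' - 1).rank := by
      rw [← rank_map F₀.subtype (Y - 1), Matrix.map_sub F₀.subtype (map_sub F₀.subtype), hYmap,
        Matrix.map_one F₀.subtype (map_zero F₀.subtype) (map_one F₀.subtype)]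
    have hρ2 : (X' - 1).rank = (X - 1).rank := by
      have hPP : ((P⁻¹ : Matrix.SpecialLinearGroup (Fin n) F) : Matrix (Fin n) (Fin n) F) *
          (P : Matrix (Fin n) (Fin n) F) = 1 := by
        rw [← Matrix.SpecialLinearGroup.coe_mul, inv_mul_cancel]
        rfl
      have h1 : X' - 1 = ((P⁻¹ : Matrix.SpecialLinearGroup (Fin n) F) : Matrix (Fin n) (Fin n) F) *
          (X - 1) * (P : Matrix (Fin n) (Fin n) F) := by
        rw [Matrix.mul_sub, Matrix.sub_mul, Matrix.mul_one, hPP, hX',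
          Matrix.SpecialLinearGroup.coe_mul, Matrix.SpecialLinearGroup.coe_mul]
      have hd1 : IsUnit (P : Matrix (Fin n) (Fin n) F).det := by
        rw [P.2]; exact isUnit_one
      have hd2 : IsUnit ((P⁻¹ : Matrix.SpecialLinearGroup (Fin n) F) :
          Matrix (Fin n) (Fin n) F).det := by
        rw [(P⁻¹).2]; exact isUnit_one
      rw [h1, Matrix.rank_mul_eq_left_of_isUnit_det _ _ hd1,
        Matrix.rank_mul_eq_right_of_isUnit_det _ _ hd2]
    have hρle : (Y - 1).rank ≤ e := by rw [hρ1, hρ2]; exact hrank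
    have hρpos : 1 ≤ (Y - 1).rank := by
      rcases Nat.eq_zero_or_pos (Y - 1).rank with h0 | h0
      · exfalso
        rw [hρ1, hρ2] at h0
        exact hX1 (sub_eq_zero.mp (sfoderbig_rank_zero _ h0))
      · exact h0
    exact hr0 _ hρpos hρle hcnt

end Cfsg.Agent.Lib.helper8.SFO
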