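import Mathlib
import Cfsg.Agent.Lib.helper14.SubA
import Cfsg.Agent.Lib.helper14.SubB

set_option autoImplicit false

/-!
# SFO row IDX
-/

namespace Cfsg.Agent.Lib.helper8.SFO

open Matrix Polynomial
open scoped MatrixGroups
open Cfsg.Agent.Lib.helper14

/-- IDX [M-L] -/
theorem idx {F : Type*} [Field F] [Fintype F] {p : ℕ} [Fact p.Prime] [CharP F p] {q : ℕ}
    (hq : Fintype.card F = q) (n : ℕ) (hn : 2 ≤ n) (F₀ : Subfield F) (k q₀ : ℕ) (hk : k.Prime)
    (hF₀ : Nat.card ↥F₀ = q₀) (hqk : q = q₀ ^ k) (r : ℕ) [Fact r.Prime] (hrp : r ≠ p) (hrk : r ≠ k)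
    (hΩ : r ∣ (SubA.HS n F₀).index) :
    ∃ i, 2 ≤ i ∧ i ≤ n ∧ r ∣ q ^ i - 1 ∧ ¬ r ∣ q₀ ^ i - 1 := by
  classical
  have hrpr : r.Prime := Fact.out
  let _ : Fintype ↥F₀ := Fintype.ofFinite ↥F₀
  have hq₀c : Fintype.card ↥F₀ = q₀ := by rw [← hF₀, Nat.card_eq_fintype_card]
  have hq₀2 : 2 ≤ q₀ := by
    rw [← hq₀c]
    exact Fintype.one_lt_card
  have hrq : ¬ r ∣ q := by
    intro h
    obtain ⟨f, hf⟩ := FiniteField.card F p
    rw [hq] at hf
    rw [hf.2] at h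
    have := hrpr.dvd_of_dvd_pow h
    exact hrp ((Nat.prime_dvd_prime_iff_eq hrpr (Fact.out : p.Prime)).mp this)
  set I := (SubA.HS n F₀).index with hI
  set S := Nat.card (Matrix.SpecialLinearGroup (Fin n) F) with hS
  set S₀ := Nat.card (Matrix.SpecialLinearGroup (Fin n) ↥F₀) with hS₀
  have hIh : I * Nat.card (SubA.HS n F₀) = S := Subgroup.index_mul_card _
  obtain ⟨t, ht⟩ := SubB.card_SL_dvd (n := n) F₀
  have hS₀pos : 0 < S₀ := Nat.card_pos
  have f1 := SubB.card_SL_formula q hq n (by omega)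
  have f2 := SubB.card_SL_formula q₀ hq₀c n (by omega)
  set C := ∑ i ∈ Finset.range n, i with hC
  have g1 : ∀ i, q ^ (i + 1) - 1 = (q₀ ^ (i + 1) - 1) * ∑ j ∈ Finset.range k, (q₀ ^ (i + 1)) ^ j := by
    intro i
    rw [hqk, ← pow_mul, mul_comm k, pow_mul]
    exact SubB.geom_nat _ _ (Nat.one_le_pow _ _ (by omega))
  have g0 : q - 1 = (q₀ - 1) * ∑ j ∈ Finset.range k, q₀ ^ j := by
    rw [hqk]
    exact SubB.geom_nat _ _ (by omega)
  set G := ∏ i ∈ Finset.range n, ∑ j ∈ Finset.range k, (q₀ ^ (i + 1)) ^ j with hG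
  set G₀ := ∑ j ∈ Finset.range k, q₀ ^ j with hG₀
  have hprod : ∏ i ∈ Finset.range n, (q ^ (i + 1) - 1) =
      (∏ i ∈ Finset.range n, (q₀ ^ (i + 1) - 1)) * G := by
    rw [hG, ← Finset.prod_mul_distrib]
    exact Finset.prod_congr rfl (fun i _ => g1 i)
  rw [hprod, g0] at f1
  rw [← hS] at f1
  rw [← hS₀] at f2
  have key : I * t * G₀ * q₀ ^ C = q ^ C * G := by
    have hpos : 0 < S₀ * (q₀ - 1) := Nat.mul_pos hS₀pos (by omega)
    apply Nat.eq_of_mul_eq_mul_left hpos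
    have e1 : S = I * (S₀ * t) := by rw [← hIh, ht]
    calc S₀ * (q₀ - 1) * (I * t * G₀ * q₀ ^ C)
        = (I * (S₀ * t)) * ((q₀ - 1) * G₀) * q₀ ^ C := by ring
      _ = S * ((q₀ - 1) * G₀) * q₀ ^ C := by rw [← e1]
      _ = q ^ C * ((∏ i ∈ Finset.range n, (q₀ ^ (i + 1) - 1)) * G) * q₀ ^ C := by rw [f1]
      _ = (q₀ ^ C * ∏ i ∈ Finset.range n, (q₀ ^ (i + 1) - 1)) * (q ^ C * G) := by ring
      _ = S₀ * (q₀ - 1) * (q ^ C * G) := by rw [← f2]
  -- split off the factor `i = 0` of `G`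
  obtain ⟨n', rfl⟩ := Nat.exists_eq_add_of_le' (show 1 ≤ n by omega)
  set G' := ∏ i ∈ Finset.range n', ∑ j ∈ Finset.range k, (q₀ ^ (i + 1 + 1)) ^ j with hG'
  have hGsplit : G = G' * G₀ := by
    rw [hG, Finset.prod_range_succ']
    simp only [zero_add, pow_one]
    rfl
  have hG₀pos : 0 < G₀ := by
    rw [hG₀]
    apply Finset.sum_pos
    · intro j _
      exact pow_pos (by omega) j
    · exact ⟨0, Finset.mem_range.mpr hk.pos⟩
  have key2 : I * t * q₀ ^ C = q ^ C * G' := by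
    apply Nat.eq_of_mul_eq_mul_right hG₀pos
    calc I * t * q₀ ^ C * G₀ = I * t * G₀ * q₀ ^ C := by ring
      _ = q ^ C * G := key
      _ = q ^ C * G' * G₀ := by rw [hGsplit]; ring
  have hdvd : r ∣ q ^ C * G' := by
    rw [← key2]
    exact Dvd.dvd.mul_right (Dvd.dvd.mul_right hΩ _) _
  rcases (Nat.Prime.dvd_mul hrpr).mp hdvd with h | h
  · exact absurd (hrpr.dvd_of_dvd_pow h) hrq
  · rw [hG', Prime.dvd_finsetProd_iff hrpr.prime] at h
    obtain ⟨i, hi, hdi⟩ := h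
    have hin : i < n' := Finset.mem_range.mp hi
    refine ⟨i + 1 + 1, by omega, by omega, ?_, ?_⟩
    · rw [g1 (i + 1)]
      exact Dvd.dvd.mul_left hdi _
    · intro hcon
      apply hrk
      have hq0pow : 1 ≤ q₀ ^ (i + 1 + 1) := Nat.one_le_pow _ _ (by omega)
      have hmod : q₀ ^ (i + 1 + 1) ≡ 1 [MOD r] :=
        ((Nat.modEq_iff_dvd' hq0pow).mpr hcon).symm
      have hsum : ∑ j ∈ Finset.range k, (q₀ ^ (i + 1 + 1)) ^ j ≡ k [MOD r] := by
        have h1 : ∀ j ∈ Finset.range k, (q₀ ^ (i + 1 + 1)) ^ j ≡ 1 [MOD r] := by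
          intro j _
          have := hmod.pow j
          rwa [one_pow] at this
        have h2 : ∑ j ∈ Finset.range k, (q₀ ^ (i + 1 + 1)) ^ j ≡ ∑ _j ∈ Finset.range k, 1 [MOD r] := by
          unfold Nat.ModEq
          rw [Finset.sum_nat_mod, Finset.sum_nat_mod (f := fun _ => 1)]
          congr 1
          apply Finset.sum_congr rfl
          intro j hj
          exact h1 j hj
        simpa using h2
      have hrk' : r ∣ k := by
        have := (Nat.modEq_zero_iff_dvd.mpr hdi).symm.trans hsum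
        exact (Nat.modEq_zero_iff_dvd.mp this.symm)
      exact (Nat.prime_dvd_prime_iff_eq hrpr hk).mp hrk'

end Cfsg.Agent.Lib.helper8.SFO
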