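import Mathlib
import Cfsg.Agent.Lib.helper8.SFONEC
import Cfsg.Agent.Lib.Helper26.SFOFIXF0
import Cfsg.Agent.Lib.Helper26.SFOFROB0

set_option autoImplicit false

/-!
# SFO rows NECCNT and DERDIAG
-/

namespace Cfsg.Agent.Lib.helper8.SFO

open Matrix Polynomial
open scoped MatrixGroups
open Cfsg.Agent.Lib.helper14

/-- NECCNT [M-L] -/
theorem nec_count {F : Type*} [Field F] [Fintype F] [DecidableEq F] {n : ℕ} (F₀ : Subfield F) (q₀ : ℕ)
    (hF₀ : Nat.card ↥F₀ = q₀) (x P : Matrix.SpecialLinearGroup (Fin n) F) (a : Fin n → F)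
    (hx : (x : Matrix (Fin n) (Fin n) F) = Matrix.diagonal a) (h : P⁻¹ * x * P ∈ SubA.HS n F₀) :
    ∃ ν : F, ν ≠ 0 ∧ ∀ b : F,
      (Finset.univ.filter (fun i => ν * a i = b)).card =
        (Finset.univ.filter (fun i => ν * a i = b ^ q₀)).card := by
  classical
  obtain ⟨c, Y₀, hc, hxY⟩ := nec_form F₀ x P h
  obtain ⟨φ, hφ⟩ := exists_frob0 F₀ q₀ hF₀
  refine ⟨c⁻¹, inv_ne_zero hc, ?_⟩
  set Pi : Matrix (Fin n) (Fin n) F :=
    ((P⁻¹ : Matrix.SpecialLinearGroup (Fin n) F) : Matrix (Fin n) (Fin n) F) with hPi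
  set Pm : Matrix (Fin n) (Fin n) F := (P : Matrix (Fin n) (Fin n) F) with hPm
  have hPP : Pi * Pm = 1 := by
    rw [hPi, hPm, ← Matrix.SpecialLinearGroup.coe_mul, inv_mul_cancel]
    rfl
  have hd1 : IsUnit Pm.det := by
    rw [hPm, P.2]; exact isUnit_one
  have hd2 : IsUnit Pi.det := by
    rw [hPi, (P⁻¹).2]; exact isUnit_one
  have hconj : Pi * (x : Matrix (Fin n) (Fin n) F) * Pm = c • Y₀.map F₀.subtype := by
    rw [← hxY, Matrix.SpecialLinearGroup.coe_mul, Matrix.SpecialLinearGroup.coe_mul]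
  -- the rank of `ν x - b`
  have hrank : ∀ b : F, (c⁻¹ • Matrix.diagonal a - b • (1 : Matrix (Fin n) (Fin n) F)).rank =
      (Y₀.map F₀.subtype - b • (1 : Matrix (Fin n) (Fin n) F)).rank := by
    intro b
    have h1 : Y₀.map F₀.subtype - b • (1 : Matrix (Fin n) (Fin n) F) =
        Pi * (c⁻¹ • Matrix.diagonal a - b • (1 : Matrix (Fin n) (Fin n) F)) * Pm := by
      rw [Matrix.mul_sub, Matrix.sub_mul, Matrix.mul_smul, Matrix.smul_mul, ← hx, hconj,
        smul_smul, inv_mul_cancel₀ hc, one_smul, Matrix.mul_smul, Matrix.mul_one, Matrix.smul_mul,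
        hPP]
    rw [h1, Matrix.rank_mul_eq_left_of_isUnit_det _ _ hd1,
      Matrix.rank_mul_eq_right_of_isUnit_det _ _ hd2]
  have hfrob : ∀ b : F, (Y₀.map F₀.subtype - b • (1 : Matrix (Fin n) (Fin n) F)).map φ =
      Y₀.map F₀.subtype - (b ^ q₀) • (1 : Matrix (Fin n) (Fin n) F) := by
    intro b
    ext i j
    rw [Matrix.map_apply, Matrix.sub_apply, Matrix.sub_apply, map_sub, Matrix.map_apply,
      Matrix.smul_apply, Matrix.smul_apply, smul_eq_mul, smul_eq_mul, map_mul, hφ b]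
    have e1 : φ (F₀.subtype (Y₀ i j)) = F₀.subtype (Y₀ i j) := by
      rw [hφ]
      exact (mem_F0_iff F₀ q₀ hF₀ _).mp (Y₀ i j).2
    have e2 : φ ((1 : Matrix (Fin n) (Fin n) F) i j) = (1 : Matrix (Fin n) (Fin n) F) i j := by
      by_cases hij : i = j
      · rw [hij, Matrix.one_apply_eq, map_one]
      · rw [Matrix.one_apply_ne hij, map_zero]
    rw [e1, e2]
  have hrank2 : ∀ b : F, (c⁻¹ • Matrix.diagonal a - b • (1 : Matrix (Fin n) (Fin n) F)).rank =
      (c⁻¹ • Matrix.diagonal a - (b ^ q₀) • (1 : Matrix (Fin n) (Fin n) F)).rank := by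
    intro b
    rw [hrank b, hrank (b ^ q₀), ← hfrob b, rank_map]
  -- ranks of diagonal matrices
  have hdiag : ∀ b : F, c⁻¹ • Matrix.diagonal a - b • (1 : Matrix (Fin n) (Fin n) F) =
      Matrix.diagonal (fun i => c⁻¹ * a i - b) := by
    intro b
    ext i j
    by_cases hij : i = j
    · subst hij
      simp
    · simp [Matrix.diagonal_apply_ne _ hij, Matrix.one_apply_ne hij]
  have hcount : ∀ b : F, (Finset.univ.filter (fun i => c⁻¹ * a i = b)).card +
      (c⁻¹ • Matrix.diagonal a - b • (1 : Matrix (Fin n) (Fin n) F)).rank = n := by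
    intro b
    rw [hdiag b, Matrix.rank_diagonal, Fintype.card_subtype]
    have h1 := Finset.card_filter_add_card_filter_not (s := (Finset.univ : Finset (Fin n)))
      (fun i => c⁻¹ * a i = b)
    rw [Finset.card_univ, Fintype.card_fin] at h1
    have h2 : (Finset.univ.filter (fun i => c⁻¹ * a i - b ≠ 0)) =
        (Finset.univ.filter (fun i => ¬ c⁻¹ * a i = b)) := by
      ext i
      simp only [Finset.mem_filter, Finset.mem_univ, true_and]
      exact sub_ne_zero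
    rw [h2]
    exact h1
  intro b
  have h1 := hcount b
  have h2 := hcount (b ^ q₀)
  rw [hrank2 b] at h1
  omega

/-- DERDIAG [M] -/
theorem der_diag {F : Type*} [Field F] [Fintype F] [DecidableEq F] {n : ℕ} (F₀ : Subfield F) (q₀ : ℕ)
    (hF₀ : Nat.card ↥F₀ = q₀) (r : ℕ) (a : Fin n → F) (z : F) (ha : ∀ i, a i ^ r = z)
    (hdet : ∏ i, a i = 1) (hne : ∃ i j, a i ≠ a j)
    (hno : ∀ ν : F, ν ≠ 0 → ¬ ∀ b : F,
      (Finset.univ.filter (fun i => ν * a i = b)).card =
        (Finset.univ.filter (fun i => ν * a i = b ^ q₀)).card) :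
    ∃ x : Matrix.SpecialLinearGroup (Fin n) F,
      (∃ z : F, ((x ^ r : Matrix.SpecialLinearGroup (Fin n) F) : Matrix (Fin n) (Fin n) F) =
        z • (1 : Matrix (Fin n) (Fin n) F)) ∧
      (∀ z : F, (x : Matrix (Fin n) (Fin n) F) ≠ z • (1 : Matrix (Fin n) (Fin n) F)) ∧
      ∀ P : Matrix.SpecialLinearGroup (Fin n) F, P⁻¹ * x * P ∉ SubA.HS n F₀ := by
  classical
  let x : Matrix.SpecialLinearGroup (Fin n) F :=
    ⟨Matrix.diagonal a, by rw [Matrix.det_diagonal, hdet]⟩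
  have hxv : (x : Matrix (Fin n) (Fin n) F) = Matrix.diagonal a := rfl
  refine ⟨x, ⟨z, ?_⟩, ?_, ?_⟩
  · rw [Matrix.SpecialLinearGroup.coe_pow, hxv, Matrix.diagonal_pow, Matrix.smul_one_eq_diagonal]
    congr 1
    funext i
    exact ha i
  · intro z' hz'
    obtain ⟨i, j, hij⟩ := hne
    apply hij
    rw [hxv] at hz'
    have hi := congrFun (congrFun hz' i) i
    have hj := congrFun (congrFun hz' j) j
    simp at hi hj
    rw [hi, hj]
  · intro P hP
    obtain ⟨ν, hν, hst⟩ := nec_count F₀ q₀ hF₀ x P a hxv hP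
    exact hno ν hν hst

end Cfsg.Agent.Lib.helper8.SFO
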