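import Mathlib
import Cfsg.Agent.Lib.helper14.SubA
import Cfsg.Agent.Lib.helper8.SFOTYPEB
import Cfsg.Agent.Lib.Helper26.SFOLAM
import Cfsg.Agent.Lib.Helper26.SFOEXCCOMB
import Cfsg.Agent.Lib.Helper26.SFOEXCRAT
import Cfsg.Agent.Lib.helper6.SFODIAG

set_option autoImplicit false
set_option linter.unusedVariables false
set_option linter.unusedSectionVars false

namespace Cfsg.Agent.Lib.helper8.SFO

open Matrix Polynomial
open scoped MatrixGroups
open Cfsg.Agent.Lib.helper14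

/-- arithmetic: `v_r(q₀+1) = 1`, `r` odd prime: `r ∣ q₀^2 - 1`, `q₀^2 - 1 = r * m` with `r ∤ m`. -/
theorem sfosufexc_h8_arith (q₀ r : ℕ) [Fact r.Prime] (hr2 : r ≠ 2) (hq0 : 2 ≤ q₀)
    (hv : padicValNat r (q₀ + 1) = 1) :
    r ∣ q₀ + 1 ∧ ∃ m, q₀ ^ 2 - 1 = r * m ∧ ¬ r ∣ m := by
  have hrp : r.Prime := Fact.out
  have hd : r ∣ q₀ + 1 := by
    by_contra h
    rw [padicValNat.eq_zero_of_not_dvd h] at hv
    exact absurd hv (by norm_num)
  have hnd : ¬ r ∣ q₀ - 1 := by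
    intro h
    have h2 : r ∣ (q₀ + 1) - (q₀ - 1) := Nat.dvd_sub hd h
    have : (q₀ + 1) - (q₀ - 1) = 2 := by omega
    rw [this] at h2
    exact hr2 ((Nat.prime_dvd_prime_iff_eq hrp Nat.prime_two).mp h2)
  have hfac : q₀ ^ 2 - 1 = (q₀ - 1) * (q₀ + 1) := by
    obtain ⟨t, rfl⟩ : ∃ t, q₀ = t + 1 := ⟨q₀ - 1, by omega⟩
    simp only [Nat.add_sub_cancel]
    have : (t + 1) ^ 2 = t * (t + 1 + 1) + 1 := by ring
    rw [this, Nat.add_sub_cancel]
  obtain ⟨m', hm'⟩ := hd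
  refine ⟨⟨m', hm'⟩, (q₀ - 1) * m', ?_, ?_⟩
  · rw [hfac, hm']; ring
  · intro h
    rcases (Nat.Prime.dvd_mul hrp).mp h with h | h
    · exact hnd h
    · -- r ∣ m' means r^2 ∣ q₀ + 1, so v ≥ 2
      obtain ⟨m'', hm''⟩ := h
      have h2 : r ^ 2 ∣ q₀ + 1 := ⟨m'', by rw [hm', hm'']; ring⟩
      have := (padicValNat_dvd_iff_le (p := r) (a := q₀ + 1) (by omega)).mp h2
      omega

theorem sfosufexc_h8_suff_exc {F : Type*} [Field F] [Fintype F] {p : ℕ} [Fact p.Prime] [CharP F p] {q : ℕ}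
    (hq : Fintype.card F = q) (n : ℕ) (F₀ : Subfield F) (q₀ r : ℕ) [Fact r.Prime]
    (hF₀ : Nat.card ↥F₀ = q₀) (hqk : q = q₀ ^ 2) (hrp : r ≠ p) (hrn : r = n) (hn35 : n = 3 ∨ n = 5)
    (hv : padicValNat r (q₀ + 1) = 1)
    (x : Matrix.SpecialLinearGroup (Fin n) F) (z : F)
    (hx : ((x ^ r : Matrix.SpecialLinearGroup (Fin n) F) : Matrix (Fin n) (Fin n) F) =
      z • (1 : Matrix (Fin n) (Fin n) F)) :
    ∃ (ν : F) (c₀ : Polynomial ↥F₀), ν ≠ 0 ∧ (ν • (x : Matrix (Fin n) (Fin n) F)) ^ r = 1 ∧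
      (ν • (x : Matrix (Fin n) (Fin n) F)).charpoly = c₀.map F₀.subtype := by
  classical
  subst hrn
  have hrP : r.Prime := Fact.out
  have hpP : p.Prime := Fact.out
  have hr2 : r ≠ 2 := by rcases hn35 with h | h <;> omega
  have hr0 : 0 < r := hrP.pos
  -- q₀ ≥ 2
  have hq0 : 2 ≤ q₀ := by
    rw [← hF₀]
    have : Finite ↥F₀ := Finite.of_injective _ F₀.subtype_injective
    have := Finite.one_lt_card (α := ↥F₀)
    omega
  obtain ⟨hd, m, hm, hrm⟩ := sfosufexc_h8_arith q₀ r hr2 hq0 hv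
  have hrq : r ∣ q - 1 := by rw [hqk, hm]; exact dvd_mul_right _ _
  -- (r : F) ≠ 0
  have hrF : (r : F) ≠ 0 := by
    intro h
    have := (CharP.cast_eq_zero_iff F p r).mp h
    exact hrp ((Nat.prime_dvd_prime_iff_eq hpP hrP).mp this).symm
  -- matrix facts
  set M : Matrix (Fin r) (Fin r) F := (x : Matrix (Fin r) (Fin r) F) with hMdef
  have hM : M ^ r = z • 1 := by
    rw [← hx, Matrix.SpecialLinearGroup.coe_pow]
  have hdetM : M.det = 1 := x.2
  have hzr : z ^ r = 1 := by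
    have := congrArg Matrix.det hM
    rw [Matrix.det_pow, hdetM, one_pow, Matrix.det_smul, Matrix.det_one, mul_one,
      Fintype.card_fin] at this
    exact this.symm
  have hz0 : z ≠ 0 := by
    intro h; rw [h, zero_pow hr0.ne'] at hzr; exact zero_ne_one hzr
  -- z is an r-th power
  obtain ⟨μ, hμ⟩ : ∃ μ : F, μ ^ r = z := by
    by_contra hcon
    have hz : ∀ b : F, b ^ r ≠ z := fun b hb => hcon ⟨b, hb⟩
    obtain ⟨_, h2⟩ := typeB r hr2 M hdetM z hM hz
    rw [Nat.div_self hr0, pow_one] at h2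
    exact hz 1 (by rw [one_pow, h2])
  have hμ0 : μ ≠ 0 := by
    intro h; rw [h, zero_pow hr0.ne'] at hμ; exact hz0 hμ.symm
  set y : Matrix (Fin r) (Fin r) F := μ⁻¹ • M with hydef
  have hy : y ^ r = 1 := by
    rw [hydef, _root_.smul_pow, hM, smul_smul, inv_pow, hμ, inv_mul_cancel₀ hz0, one_smul]
  obtain ⟨l, hl, hl1⟩ := exists_lambda hq r hrq
  have hl0 : l ≠ 0 := by
    intro h; rw [h, zero_pow hr0.ne'] at hl; exact zero_ne_one hl
  have hlq : l ^ q₀ = l⁻¹ := by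
    obtain ⟨t, ht⟩ := hd
    have h1 : l ^ (q₀ + 1) = 1 := by rw [ht, pow_mul, hl, one_pow]
    rw [pow_succ] at h1
    exact eq_inv_of_mul_eq_one_left h1
  obtain ⟨g, c, hg⟩ := diag_of_pow r hrF l hl hl1 y hy
  -- order of l
  have hord : orderOf l = r := by
    have h1 : orderOf l ∣ r := orderOf_dvd_of_pow_eq_one hl
    rcases (Nat.dvd_prime hrP).mp h1 with h | h
    · exact absurd (orderOf_eq_one_iff.mp h) hl1
    · exact h
  -- the sum of exponents vanishes
  have hsum : ∑ i, c i = 0 := by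
    set S : ℕ := ∑ i, (c i).val with hS
    have hdet : l ^ S = (μ⁻¹) ^ r := by
      have h1 := congrArg Matrix.det hg
      rw [Matrix.det_mul, Matrix.det_mul, Matrix.det_diagonal, mul_right_comm, ← Matrix.det_mul,
        ← Matrix.GeneralLinearGroup.coe_mul, mul_inv_cancel, Matrix.GeneralLinearGroup.coe_one,
        Matrix.det_one, one_mul, hydef, Matrix.det_smul, hdetM, mul_one, Fintype.card_fin,
        Finset.prod_pow_eq_pow_sum] at h1
      exact h1.symm
    have hq1 : (μ⁻¹) ^ (q - 1) = 1 := by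
      rw [← hq]; exact FiniteField.pow_card_sub_one_eq_one _ (inv_ne_zero hμ0)
    have h2 : l ^ (S * m) = 1 := by
      rw [pow_mul, hdet, ← pow_mul, ← hm, ← hqk]; exact hq1
    have h3 : r ∣ S * m := by rw [← hord]; exact orderOf_dvd_of_pow_eq_one h2
    have h4 : r ∣ S := by
      rcases (Nat.Prime.dvd_mul hrP).mp h3 with h | h
      · exact h
      · exact absurd h hrm
    have h5 : ((S : ℕ) : ZMod r) = 0 := (ZMod.natCast_eq_zero_iff _ _).mpr h4
    rw [hS, Nat.cast_sum] at h5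
    rw [← h5]
    refine Finset.sum_congr rfl (fun i _ => ?_)
    have : NeZero r := ⟨hr0.ne'⟩
    exact (ZMod.natCast_zmod_val (c i)).symm
  obtain ⟨s, hs⟩ := exc_comb r hn35 c hsum
  -- ν
  have : NeZero r := ⟨hr0.ne'⟩
  obtain ⟨c₀, hc₀⟩ := exc_rat F₀ q₀ hF₀ r l hl hlq (fun i => c i + s) hs
  refine ⟨l ^ s.val * μ⁻¹, c₀, mul_ne_zero (pow_ne_zero _ hl0) (inv_ne_zero hμ0), ?_, ?_⟩
  · rw [← smul_smul, ← hydef, _root_.smul_pow, hy, ← pow_mul, mul_comm, pow_mul, hl, one_pow, one_smul]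
  · rw [← hc₀, ← smul_smul, ← hydef]
    have hconj : (g : Matrix (Fin r) (Fin r) F) * (l ^ s.val • y) *
        ((g⁻¹ : GL (Fin r) F) : Matrix (Fin r) (Fin r) F) =
        Matrix.diagonal (fun i => l ^ (c i + s).val) := by
      rw [Matrix.mul_smul, Matrix.smul_mul, hg]
      ext i j
      by_cases hij : i = j
      · subst hij
        simp only [Matrix.smul_apply, Matrix.diagonal_apply_eq, smul_eq_mul]
        rw [← pow_add]
        -- l^(s.val + (c i).val) = l^((c i + s).val)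
        have hv : (c i + s).val = ((c i).val + s.val) % r := ZMod.val_add _ _
        rw [hv]
        conv_lhs => rw [show s.val + (c i).val = (c i).val + s.val from add_comm _ _,
          ← Nat.mod_add_div ((c i).val + s.val) r]
        rw [pow_add, pow_mul, hl, one_pow, mul_one]
      · simp [Matrix.diagonal_apply_ne _ hij]
    rw [← hconj, Matrix.coe_units_inv]
    exact (Matrix.charpoly_units_conj g (l ^ s.val • y)).symm

end Cfsg.Agent.Lib.helper8.SFO
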