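import Mathlib
import Cfsg.Agent.Lib.helper14.SubA
import Cfsg.Agent.Lib.helper8.SFOTYPEB
import Cfsg.Agent.Lib.Helper26.SFOPOWSURJ
import Cfsg.Agent.Lib.Helper26.SFOCYCARITH
import Cfsg.Agent.Lib.Helper26.SFOCHARRAT

set_option autoImplicit false
set_option linter.unusedVariables false
set_option linter.unusedSectionVars false

namespace Cfsg.Agent.Lib.helper8.SFO

open Matrix Polynomial
open scoped MatrixGroups
open Cfsg.Agent.Lib.helper14

/-- Fermat: `r ∣ q₀^r - 1 → r ∣ q₀ - 1`. -/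
theorem sfosufk_h8_fermat (q₀ r : ℕ) [Fact r.Prime] (hq0 : 1 ≤ q₀) (h : r ∣ q₀ ^ r - 1) :
    r ∣ q₀ - 1 := by
  have h1 : 1 ≤ q₀ ^ r := Nat.one_le_pow _ _ hq0
  have h2 : (1 : ℕ) ≡ q₀ ^ r [MOD r] := (Nat.modEq_iff_dvd' h1).mpr h
  have h3 : ((1 : ℕ) : ZMod r) = ((q₀ ^ r : ℕ) : ZMod r) :=
    (ZMod.natCast_eq_natCast_iff _ _ _).mpr h2
  rw [Nat.cast_pow, ZMod.pow_card] at h3
  have h4 : (1 : ℕ) ≡ q₀ [MOD r] := (ZMod.natCast_eq_natCast_iff _ _ _).mp h3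
  exact (Nat.modEq_iff_dvd' hq0).mp h4

theorem sfosufk_h8_suff_k {F : Type*} [Field F] [Fintype F] {p : ℕ} [Fact p.Prime] [CharP F p] {q : ℕ}
    (hq : Fintype.card F = q) (n : ℕ) (hn : 2 ≤ n) (F₀ : Subfield F) (q₀ r : ℕ) [Fact r.Prime]
    (hr2 : r ≠ 2) (hF₀ : Nat.card ↥F₀ = q₀) (hqk : q = q₀ ^ r)
    (hgapk : r ∣ q₀ - 1 → padicValNat r n ≤ padicValNat r (q - 1))
    (x : Matrix.SpecialLinearGroup (Fin n) F) (z : F)
    (hx : ((x ^ r : Matrix.SpecialLinearGroup (Fin n) F) : Matrix (Fin n) (Fin n) F) =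
      z • (1 : Matrix (Fin n) (Fin n) F)) :
    ∃ (ν : F) (c₀ : Polynomial ↥F₀), ν ≠ 0 ∧ (ν • (x : Matrix (Fin n) (Fin n) F)) ^ r = 1 ∧
      (ν • (x : Matrix (Fin n) (Fin n) F)).charpoly = c₀.map F₀.subtype := by
  classical
  have hrP : r.Prime := Fact.out
  have hr0 : 0 < r := hrP.pos
  have hq0 : 2 ≤ q₀ := by
    rw [← hF₀]
    have : Finite ↥F₀ := Finite.of_injective _ F₀.subtype_injective
    have := Finite.one_lt_card (α := ↥F₀)
    omega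
  set M : Matrix (Fin n) (Fin n) F := (x : Matrix (Fin n) (Fin n) F) with hMdef
  have hM : M ^ r = z • 1 := by
    rw [← hx, Matrix.SpecialLinearGroup.coe_pow]
  have hdetM : M.det = 1 := x.2
  have hzn : z ^ n = 1 := by
    have := congrArg Matrix.det hM
    rw [Matrix.det_pow, hdetM, one_pow, Matrix.det_smul, Matrix.det_one, mul_one,
      Fintype.card_fin] at this
    exact this.symm
  have hz0 : z ≠ 0 := by
    intro h; rw [h, zero_pow (by omega)] at hzn; exact zero_ne_one hzn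
  obtain ⟨μ, hμ⟩ : ∃ μ : F, μ ^ r = z := by
    by_cases h : r ∣ q - 1
    · have h' : r ∣ q₀ - 1 := by
        rw [hqk] at h
        exact sfosufk_h8_fermat q₀ r (by omega) h
      by_contra hcon
      have hz : ∀ b : F, b ^ r ≠ z := fun b hb => hcon ⟨b, hb⟩
      obtain ⟨h1, h2⟩ := typeB r hr2 M hdetM z hM hz
      exact hcon (cyc_arith hq n r (by omega) z hz0 h1 h2 (hgapk h'))
    · exact pow_surj hq r h z
  have hμ0 : μ ≠ 0 := by
    intro h; rw [h, zero_pow hr0.ne'] at hμ; exact hz0 hμ.symm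
  have hy : (μ⁻¹ • M) ^ r = 1 := by
    rw [_root_.smul_pow, hM, smul_smul, inv_pow, hμ, inv_mul_cancel₀ hz0, one_smul]
  obtain ⟨c₀, hc₀⟩ := charpoly_rat hq F₀ q₀ r hF₀ hqk (μ⁻¹ • M) hy
  exact ⟨μ⁻¹, c₀, inv_ne_zero hμ0, hy, hc₀⟩

end Cfsg.Agent.Lib.helper8.SFO
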