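import Mathlib
import Cfsg.Agent.Lib.helper17.SLP.Defs

/-!
# Project SLP (designer helper17), row B1 `baumslag`: second write (helper8) under the own name
`slpb1_h8_baumslag` (exact Skel statement).
-/

set_option autoImplicit false

namespace Cfsg.Agent.Lib.helper17.SLP

theorem slpb1h8_conjT {G : Type*} [Group G] (T u : G) (i j : ℤ) :
    T ^ i * cj T u j * (T ^ i)⁻¹ = cj T u (i + j) := by
  rw [← zpow_neg, conj_cj]

/-- the algebra step: `a b c d` with all pairs but `(a, d)` commuting and `b a`, `d c` commuting -/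
theorem slpb1h8_alg {G : Type*} [Group G] (a b c d : G) (hac : Commute a c)
    (hbc : Commute b c) (hbd : Commute b d) (hkey : Commute (b * a) (d * c)) : Commute a d := by
  have e : b * (a * d) * c = b * (d * a) * c := by
    calc b * (a * d) * c = (b * a) * (d * c) := by group
      _ = (d * c) * (b * a) := hkey.eq
      _ = d * (c * b) * a := by group
      _ = d * (b * c) * a := by rw [hbc.eq]
      _ = (d * b) * (c * a) := by group
      _ = (b * d) * (a * c) := by rw [hbd.eq, hac.eq]
      _ = b * (d * a) * c := by group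
  exact mul_left_cancel (mul_right_cancel e)

theorem slpb1h8_conj_comm {G : Type*} [Group G] (T u : G) (i a : ℤ) (h : Commute u (cj T u a)) :
    Commute (cj T u i) (cj T u (i + a)) := by
  have e1 : cj T u i = T ^ i * u * (T ^ i)⁻¹ := by rw [← zpow_neg]; rfl
  rw [e1, ← slpb1h8_conjT]
  exact (Commute.conj_iff (T ^ i)).mpr h

/-- B1, second write: exact Skel statement of `baumslag`. -/
theorem slpb1_h8_baumslag {G : Type*} [Group G] (u S T : G) (hST : Commute S T)
    (h1 : Commute u (cj T u 1)) (h2 : cj S u 1 = cj T u 1 * u) : ∀ j : ℤ, Commute u (cj T u j) := by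
  have hV0 : cj T u 0 = u := cj_zero T u
  have hSu : S * u * S⁻¹ = cj T u 1 * u := by rw [← cj_one, h2]
  -- conjugation by `S`
  have hS : ∀ j : ℤ, S * cj T u j * S⁻¹ = cj T u (j + 1) * cj T u j := by
    intro j
    have hc : Commute S (T ^ j) := hST.zpow_right j
    have e1 : cj T u (j + 1) = T ^ j * cj T u 1 * (T ^ j)⁻¹ := by rw [slpb1h8_conjT]
    have e2 : cj T u j = T ^ j * u * (T ^ j)⁻¹ := by rw [← zpow_neg]; rfl
    calc S * cj T u j * S⁻¹ = S * (T ^ j * u * (T ^ j)⁻¹) * S⁻¹ := by rw [← e2]
      _ = (S * T ^ j) * u * ((T ^ j)⁻¹ * S⁻¹) := by group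
      _ = (T ^ j * S) * u * (S⁻¹ * (T ^ j)⁻¹) := by
          rw [hc.eq, (hc.inv_inv).eq]
      _ = T ^ j * (S * u * S⁻¹) * (T ^ j)⁻¹ := by group
      _ = T ^ j * (cj T u 1 * u) * (T ^ j)⁻¹ := by rw [hSu]
      _ = (T ^ j * cj T u 1 * (T ^ j)⁻¹) * (T ^ j * u * (T ^ j)⁻¹) := by group
      _ = cj T u (j + 1) * cj T u j := by rw [← e1, ← e2]
  -- natural numbers
  have hnat : ∀ k : ℕ, 1 ≤ k → ∀ i : ℕ, i ≤ k → Commute u (cj T u (i : ℤ)) := by
    intro k hk
    induction k, hk using Nat.le_induction with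
    | base =>
      intro i hi
      rcases Nat.le_one_iff_eq_zero_or_eq_one.mp hi with rfl | rfl
      · simp only [Nat.cast_zero, hV0]; exact Commute.refl u
      · simpa using h1
    | succ k hk ih =>
      intro i hi
      rcases Nat.eq_or_lt_of_le hi with rfl | hlt
      · -- the new case `k + 1`
        have c0k : Commute u (cj T u (k : ℤ)) := ih k le_rfl
        have ck1 : Commute u (cj T u ((k - 1 : ℕ) : ℤ)) := ih (k - 1) (by omega)
        have c1k : Commute (cj T u 1) (cj T u (k : ℤ)) := by
          have := slpb1h8_conj_comm T u 1 _ ck1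
          have e : (1 : ℤ) + ((k - 1 : ℕ) : ℤ) = (k : ℤ) := by omega
          rwa [e] at this
        have c1k1 : Commute (cj T u 1) (cj T u ((k : ℤ) + 1)) := by
          have := slpb1h8_conj_comm T u 1 _ c0k
          rwa [add_comm] at this
        have hkey : Commute (cj T u 1 * u) (cj T u ((k : ℤ) + 1) * cj T u (k : ℤ)) := by
          have := (Commute.conj_iff S).mpr c0k
          rwa [hS, hSu] at this
        have := slpb1h8_alg u (cj T u 1) (cj T u (k : ℤ)) (cj T u ((k : ℤ) + 1)) c0k c1k c1k1 hkey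
        simpa using this
      · exact ih i (by omega)
  intro j
  rcases le_or_gt 0 j with hj | hj
  · obtain ⟨n, rfl⟩ := Int.eq_ofNat_of_zero_le hj
    exact hnat (n + 1) (by omega) n (by omega)
  · obtain ⟨n, hn⟩ := Int.eq_ofNat_of_zero_le (by omega : 0 ≤ -j)
    have hpos := hnat (n + 1) (by omega) n (by omega)
    have := slpb1h8_conj_comm T u j _ hpos
    have e : j + (n : ℤ) = 0 := by omega
    rw [e, hV0] at this
    exact this.symm

end Cfsg.Agent.Lib.helper17.SLP
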