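import Mathlib
import Cfsg.Agent.Lib.helper17.SLP.Defs
import Cfsg.Agent.Lib.helper8.SLPB1h8
import Cfsg.Agent.Lib.helper8.SLPB2h8
import Cfsg.Agent.Lib.helper8.SLPB5core

/-!
# Project SLP (designer helper17), row B5 `exists_x_R` under the own name `slpb5_h8_exists_x_R`
(exact Skel statement) on the spares `slpb1_h8_baumslag`, `slpb2_h8_exists_x_of_commute` (helper8).
-/

set_option autoImplicit false

namespace Cfsg.Agent.Lib.helper17.SLP

open Polynomial

/-- B5 (exact Skel statement of `exists_x_R`), on the helper8 spares of B1 and B2. -/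
theorem slpb5_h8_exists_x_R {G : Type*} [Group G] {F : Type*} [Field F] [Finite F] (p : ℕ) [Fact p.Prime]
    [Algebra (ZMod p) F] (u h : G) (k l : ℤ) (lam mu : F) (hlam : lam ≠ 0) (hmu : mu = lam ^ l)
    (hk : lam ^ k = mu + 1) (fl : (ZMod p)[X]) (hfl : aeval mu fl = lam)
    (hsurj : Function.Surjective (fun f : (ZMod p)[X] => aeval mu f))
    (a1 : u ^ p = 1) (a2 : Commute u (cj h u l)) (a3 : cj h u k = cj h u l * u)
    (a4 : pw p h u l (minpoly (ZMod p) mu) = 1) (a5 : cj h u 1 = pw p h u l fl) :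
    ∃ x : F → G, (∀ s t, x (s + t) = x s * x t) ∧ (∀ t, h * x t * h⁻¹ = x (lam * t)) ∧ x 1 = u ∧
      ∀ f : (ZMod p)[X], x (aeval mu f) = pw p h u l f := by
  have _ := hlam
  have _ := hmu
  have _ := hk
  have hST : Commute (h ^ k) (h ^ l) := (Commute.refl h).zpow_zpow k l
  have h1 : Commute u (cj (h ^ l) u 1) := by rw [cj_zpow, mul_one]; exact a2
  have h2 : cj (h ^ k) u 1 = cj (h ^ l) u 1 * u := by
    rw [cj_zpow, cj_zpow, mul_one, mul_one]; exact a3
  have hcomm := slpb1_h8_baumslag u (h ^ k) (h ^ l) hST h1 h2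
  have hmin : pw p (h ^ l) u 1 (minpoly (ZMod p) mu) = 1 := by rw [pw_zpow]; exact a4
  obtain ⟨x, hadd, hT, hpw⟩ := slpb2_h8_exists_x_of_commute p (h ^ l) u mu hsurj a1 hcomm hmin
  refine ⟨x, slpb5_core p u h l lam mu fl hfl hsurj a5 x hadd hT ?_⟩
  intro f
  rw [hpw, pw_zpow]

end Cfsg.Agent.Lib.helper17.SLP
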