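import Mathlib
import Cfsg.Agent.Lib.helper7.SPC.Defs

set_option autoImplicit false

/-!
# Project SPC (designer helper7), row G3 (writer helper8): orthogonal sums and the zero triple are good.
-/

namespace Cfsg.Agent.Lib.helper7.SPC

universe u

open Module

variable {F : Type u} [Field F]

theorem spcg3_prodMap_pow {V V' : Type u} [AddCommGroup V] [Module F V] [AddCommGroup V']
    [Module F V'] (N : V →ₗ[F] V) (N' : V' →ₗ[F] V') (k : ℕ) (x : V × V') :
    ((LinearMap.prodMap N N') ^ k) x = ((N ^ k) x.1, (N' ^ k) x.2) := by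
  induction k generalizing x with
  | zero => rfl
  | succ k ih =>
    rw [pow_succ, Module.End.mul_apply, ih, pow_succ, Module.End.mul_apply, pow_succ,
      Module.End.mul_apply]
    rfl

theorem spcg3_pow_eq_zero_of_le {V : Type u} [AddCommGroup V] [Module F V] (N : V →ₗ[F] V) {k l : ℕ}
    (h : N ^ k = 0) (hkl : k ≤ l) : N ^ l = 0 := by
  obtain ⟨d, rfl⟩ := Nat.exists_eq_add_of_le hkl
  rw [pow_add, h, zero_mul]

/-- G3 [S] -/
theorem TSum_good (T T' : Trip F) (hT : T.Good) (hT' : T'.Good) : (TSum T T').Good := by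
  refine ⟨?_, ?_, ?_, ?_⟩
  · intro x
    refine (TSum_B T T' x x).trans ?_
    rw [hT.alt, hT'.alt, add_zero]
  · intro x hx
    refine Prod.ext (hT.nd _ fun y => ?_) (hT'.nd _ fun y => ?_)
    · have h := (TSum_B T T' x (y, 0)).symm.trans (hx (y, 0))
      simpa using h
    · have h := (TSum_B T T' x (0, y)).symm.trans (hx (0, y))
      simpa using h
  · intro x y
    show T.B (T.N x.1) y.1 + T'.B (T'.N x.2) y.2 = -(T.B x.1 (T.N y.1) + T'.B x.2 (T'.N y.2))
    rw [hT.skew, hT'.skew]
    ring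
  · obtain ⟨k, hk⟩ := hT.nil
    obtain ⟨k', hk'⟩ := hT'.nil
    refine ⟨max k k', ?_⟩
    apply LinearMap.ext
    intro x
    refine (spcg3_prodMap_pow T.N T'.N (max k k') x).trans ?_
    rw [spcg3_pow_eq_zero_of_le T.N hk (le_max_left k k'),
      spcg3_pow_eq_zero_of_le T'.N hk' (le_max_right k k')]
    rfl

/-- G3 (second part) [S] -/
theorem TZero_good : (TZero F).Good := by
  refine ⟨fun _ => rfl, fun _ _ => rfl, fun _ _ => ?_, ⟨1, ?_⟩⟩
  · show (0 : F) = -0
    rw [neg_zero]
  · apply LinearMap.ext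
    intro x
    rfl

end Cfsg.Agent.Lib.helper7.SPC
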