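import Mathlib
import Cfsg.Prelude.Def_GeometricClasses
import Cfsg.Agent.Lib.Lead.SPU.Defs
import Cfsg.Agent.Lib.Helper11.SPUUNIV3

set_option autoImplicit false
set_option linter.unusedVariables false
set_option linter.unusedSectionVars false

/-!
# Project SPU (S5665, leader lead), row BASIC : the eleven basic identities (verbatim).
Six of them are one-line wrappers of helper11's landed extras (`spurefl_*`, `spuuniv3_*`).
-/

namespace Cfsg.Agent.Lib.Lead.SPU

open Matrix Cfsg.Agent.S5646 Cfsg.Agent.S5647 Cfsg.Agent.Lib.Helper28.SpPair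

variable {m : ℕ} {F : Type*} [Field F] {j j1 : Matrix (Fin m ⊕ Fin m) (Fin m ⊕ Fin m) F} {c0 : F}
  {M : Subgroup (Matrix.GeneralLinearGroup (Fin m ⊕ Fin m) F)}

/-- BASIC [S] -/
theorem js_c0_ne (hJ : JS j c0) : c0 ≠ 0 := by
  intro h
  apply hJ.nsq 0
  rw [h, mul_zero]

/-- BASIC [S] -/
theorem js_jj (hJ : JS j c0) (x : Fin m ⊕ Fin m → F) : j *ᵥ (j *ᵥ x) = c0 • x :=
  spurefl_jj hJ x

/-- BASIC [S] : `B` is symmetric. -/
theorem js_B_symm (hJ : JS j c0) (x y : Fin m ⊕ Fin m → F) :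
    Cfsg.sympForm m F x (j *ᵥ y) = Cfsg.sympForm m F y (j *ᵥ x) :=
  spurefl_B_symm hJ x y

/-- BASIC [S] -/
theorem js_fjj (hJ : JS j c0) (x y : Fin m ⊕ Fin m → F) :
    Cfsg.sympForm m F (j *ᵥ x) (j *ᵥ y) = - (c0 * Cfsg.sympForm m F x y) := by
  rw [hJ.adj x (j *ᵥ y), js_jj hJ, Cfsg.Agent.Lib.helper6.sympForm_smul_right]

/-- BASIC [S] : the norm form of `K` is anisotropic. -/
theorem js_norm_ne (hJ : JS j c0) (a b : F) (h : a ≠ 0 ∨ b ≠ 0) : a * a - c0 * b * b ≠ 0 := by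
  intro h0
  by_cases hb : b = 0
  · rw [hb] at h0
    have ha : a = 0 := by
      have : a * a = 0 := by linear_combination h0
      exact mul_self_eq_zero.mp this
    rcases h with h | h
    · exact h ha
    · exact h hb
  · apply hJ.nsq (a / b)
    field_simp
    linear_combination h0

/-- BASIC [S] : `x, j x` are linearly independent (`j` has no eigenvector). -/
theorem js_li (hJ : JS j c0) (x : Fin m ⊕ Fin m → F) (hx : x ≠ 0) (a b : F)
    (h : a • x + b • (j *ᵥ x) = 0) : a = 0 ∧ b = 0 := by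
  have h2 : a • (j *ᵥ x) + (b * c0) • x = 0 := by
    have := congrArg (fun y => j *ᵥ y) h
    simp only [Matrix.mulVec_add, Matrix.mulVec_smul, Matrix.mulVec_zero] at this
    rw [js_jj hJ, smul_smul] at this
    exact this
  have h3 : (a * a - c0 * b * b) • x = 0 := by
    have e : (a * a - c0 * b * b) • x =
        a • (a • x + b • (j *ᵥ x)) - b • (a • (j *ᵥ x) + (b * c0) • x) := by module
    rw [e, h, h2, smul_zero, smul_zero, sub_zero]
  have h4 : a * a - c0 * b * b = 0 := by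
    rcases smul_eq_zero.mp h3 with h4 | h4
    · exact h4
    · exact absurd h4 hx
  by_contra hcon
  have : a ≠ 0 ∨ b ≠ 0 := by
    by_contra hc
    push Not at hc
    exact hcon ⟨hc.1, hc.2⟩
  exact js_norm_ne hJ a b this h4

/-- BASIC [S] -/
theorem HOj_symm (hJ : JS j c0) (x y : Fin m ⊕ Fin m → F) (h : HOj j x y) : HOj j y x := by
  refine ⟨?_, ?_⟩
  · rw [Cfsg.Agent.Lib.helper6.sympForm_swap, h.1, neg_zero]
  · rw [js_B_symm hJ y x, h.2]

/-- BASIC [S] -/
theorem Qj_add (hJ : JS j c0) (x y : Fin m ⊕ Fin m → F) :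
    Qj j (x + y) = Qj j x + Qj j y + 2 * Cfsg.sympForm m F x (j *ᵥ y) :=
  spuuniv3_Qj_add hJ x y

/-- BASIC [S] -/
theorem Qj_smul (x : Fin m ⊕ Fin m → F) (a : F) : Qj j (a • x) = a * a * Qj j x :=
  spuuniv3_Qj_smul x a

/-- BASIC [S] : `Q (κ x) = N(κ) Q x` for `κ = a + b j`. -/
theorem Qj_K (hJ : JS j c0) (x : Fin m ⊕ Fin m → F) (a b : F) :
    Qj j (a • x + b • (j *ᵥ x)) = (a * a - c0 * b * b) * Qj j x :=
  spuuniv3_Qj_K hJ x a b

/-- BASIC [S-M] : the norm `K* → F*` is onto. -/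
theorem js_norm_surj [Fintype F] (hJ : JS j c0) (c : F) : ∃ a b : F, a * a - c0 * b * b = c :=
  spuuniv3_norm_surj hJ c

end Cfsg.Agent.Lib.Lead.SPU
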