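import Cfsg.Agent.Lib.helper15.SQM.Defs
import Cfsg.Agent.Lib.Helper16.SpinE3

set_option autoImplicit false

/-!
# Shared block SQM (designer helper15), row GEN (`sqm_gen`), helper8

The general relations for an isometry `x` of a quadratic form with `x * x = -1`:
`Q (x v) = Q v`, `B (x u) (x v) = B u v`, `B (x u) v = - B u (x v)`, and (if `2 ≠ 0`) `B v (x v) = 0`.
-/

namespace Cfsg.Agent.Lib.helper15.SQM

open Matrix Module

variable {ι : Type} [Fintype ι] [DecidableEq ι] {F : Type*} [Field F]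

/-- GEN [S-M]: the general relations.  (`mem isometryGroup ↔ ∀ v, Q (x v) = Q v`: `Cfsg.Agent.Lib.Helper29.S5981.s5981d11_mem_iff`; polarise.) -/
theorem sqm_gen (Q : QuadraticForm F (ι → F)) (x : Matrix.GeneralLinearGroup ι F)
    (hx : x ∈ Cfsg.isometryGroup F ⇑Q) (hx2 : (x : Matrix ι ι F) * (x : Matrix ι ι F) = -1) :
    (∀ v, Q ((x : Matrix ι ι F) *ᵥ v) = Q v) ∧
    (∀ u v, QuadraticMap.polar (⇑Q) ((x : Matrix ι ι F) *ᵥ u) ((x : Matrix ι ι F) *ᵥ v) = QuadraticMap.polar (⇑Q) u v) ∧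
    (∀ u v, QuadraticMap.polar (⇑Q) ((x : Matrix ι ι F) *ᵥ u) v = - QuadraticMap.polar (⇑Q) u ((x : Matrix ι ι F) *ᵥ v)) ∧
    (∀ v, (2 : F) ≠ 0 → QuadraticMap.polar (⇑Q) v ((x : Matrix ι ι F) *ᵥ v) = 0) := by
  have hq : ∀ v, Q ((x : Matrix ι ι F) *ᵥ v) = Q v := fun v => hx v v
  have hpol : ∀ u v, QuadraticMap.polar (⇑Q) ((x : Matrix ι ι F) *ᵥ u) ((x : Matrix ι ι F) *ᵥ v) =
      QuadraticMap.polar (⇑Q) u v := by
    intro u v
    unfold QuadraticMap.polar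
    rw [← Matrix.mulVec_add, hq, hq, hq]
  have hxx : ∀ u, (x : Matrix ι ι F) *ᵥ ((x : Matrix ι ι F) *ᵥ u) = -u := by
    intro u
    rw [Matrix.mulVec_mulVec, hx2, Matrix.neg_mulVec, Matrix.one_mulVec]
  have hskew : ∀ u v, QuadraticMap.polar (⇑Q) ((x : Matrix ι ι F) *ᵥ u) v =
      - QuadraticMap.polar (⇑Q) u ((x : Matrix ι ι F) *ᵥ v) := by
    intro u v
    have h1 := hpol ((x : Matrix ι ι F) *ᵥ u) v
    rw [hxx] at h1
    rw [← h1, QuadraticMap.polar_neg_left, QuadraticMap.polar_comm]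
  refine ⟨hq, hpol, hskew, ?_⟩
  intro v h2
  have h1 := hskew v v
  rw [QuadraticMap.polar_comm] at h1
  have h3 : (2 : F) * QuadraticMap.polar (⇑Q) v ((x : Matrix ι ι F) *ᵥ v) = 0 := by
    rw [two_mul]
    nth_rewrite 1 [h1]
    exact neg_add_cancel _
  exact (mul_eq_zero.mp h3).resolve_left h2

end Cfsg.Agent.Lib.helper15.SQM
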