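import Mathlib
import Cfsg.Agent.Lib.helper8.STDN6core
import Cfsg.Agent.Lib.Helper25.STDN5

/-!
# Project STD (designer lead), row N6 `Yj_Pg` (helper8), VERBATIM: `stdn6_core` on the landed row N5 (`Helper25.STDN5`).
-/

set_option autoImplicit false

namespace Cfsg.Agent.Lib.Lead.STD

open Cfsg.Agent.Lib.helper15.St2 Cfsg.Agent.Lib.helper7.St Cfsg.Agent.Lib.helper3.STC Matrix

universe v w

namespace SysD

variable {K : Type*} [Field K] {ι : Type*} {G : Type*} [Group G] (S : SysD K ι G)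

section N
variable (o : ι ⊕ ι)

/-- N6 [S-M]  moving `x o j s` across `y' ∈ Yj o j` (model STC N6, `Helper22.STCN6`). -/
theorem Yj_Pg {j : ι ⊕ ι} (hj : j ≠ o) (hj' : j ≠ ng o) :
    ∀ y' ∈ S.Yj o j, ∀ s : K, ∃ y₂ ∈ S.Yg o, ∃ p ∈ S.Pg o, S.x o j s * y' = y' * y₂ * p :=
  S.stdn6_core o hj hj' (S.Yj_cj_mem_Yg o hj hj')

end N

end SysD

end Cfsg.Agent.Lib.Lead.STD
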