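import Mathlib
import Cfsg.Agent.Lib.helper8.TDM.Defs
import Cfsg.Agent.Lib.helper8.TDMColl
import Cfsg.Agent.Lib.Helper26.TD4VN1
import Cfsg.Agent.Lib.Helper5.TD4VN2

/-!
# Project TDM (S2192), rows I4 I5 I6 I7 (verbatim): the conjugation formulas between the twisted root elements,
from the identities with independent parameters of `helper8.TDMColl` (machine collected).
-/

set_option autoImplicit false

namespace Cfsg.Agent.Lib.helper8.TDM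

open Cfsg.Lie Cfsg.Lie.ChevalleyDatum Matrix
open Cfsg.Agent.Lib.helper8 Cfsg.Agent.Lib.helper8.TD4
open Cfsg.Agent.Lib.helper23.TD4V

universe u

section I

variable {K : Type u} [Field K] [Fintype K] (q : ℕ)

/-- `(x + y) ^ (q ^ 2) = x ^ (q ^ 2) + y ^ (q ^ 2)` -/
theorem tdmi4_frob2_add (hq : IsPrimePow q) (hK : Fintype.card K = q ^ 3) (x y : K) :
    (x + y) ^ (q ^ 2) = x ^ (q ^ 2) + y ^ (q ^ 2) := by
  rw [pow_two, pow_mul, pow_mul, pow_mul, frob_add q hq hK, frob_add q hq hK]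

/-- `(-x) ^ (q ^ 2) = -(x ^ (q ^ 2))` -/
theorem tdmi4_frob2_neg (hq : IsPrimePow q) (hK : Fintype.card K = q ^ 3) (x : K) :
    (-x) ^ (q ^ 2) = -(x ^ (q ^ 2)) := by
  rw [pow_two, pow_mul, pow_mul, frob_neg q hq hK, frob_neg q hq hK]

/-- **I4** [H]. -/
theorem conj_a_14 (hq : IsPrimePow q) (hK : Fintype.card K = q ^ 3) (t u : K) (hu : u ^ q = u) :
    Xa q t * X 14 u * (Xa q t)⁻¹ =
      X 14 u * Xab q (-(t * u)) * X2ab q (-(t * t ^ (q ^ 2) * u)) * X 22 (-(Nm q t * u)) *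
        X 23 (-(Nm q t * u ^ 2)) := by
  have hu2 : u ^ (q ^ 2) = u := by rw [pow_two, pow_mul, hu, hu]
  have h3 : (t ^ (q ^ 2)) ^ q = t := pow_q_q2 q hK t
  have h4 : (t ^ (q ^ 2)) ^ (q ^ 2) = t ^ q := by
    rw [← pow_mul]
    have : q ^ 2 * q ^ 2 = q ^ 3 * q := by ring
    rw [this, pow_mul, pow_q3 q hK]
  have h5 : (t ^ q) ^ (q ^ 2) = t := by
    rw [← pow_mul]
    have : q * q ^ 2 = q ^ 3 := by ring
    rw [this, pow_q3 q hK]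
  rw [mul_inv_eq_iff_eq_mul]
  unfold Xa Xab X2ab Nm
  rw [tdmc_gen_a_14]
  have e1 : -(-(t * u)) ^ q = t ^ q * u := by
    rw [frob_neg q hq hK, mul_pow, hu, neg_neg]
  have e2 : -(-(t * u)) ^ (q ^ 2) = t ^ (q ^ 2) * u := by
    rw [tdmi4_frob2_neg q hq hK, mul_pow, hu2, neg_neg]
  have e3 : (-(t * t ^ (q ^ 2) * u)) ^ q = -(t ^ q * t * u) := by
    rw [frob_neg q hq hK, mul_pow, mul_pow, hu, h3]
  have e4 : -(-(t * t ^ (q ^ 2) * u)) ^ (q ^ 2) = t ^ (q ^ 2) * t ^ q * u := by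
    rw [tdmi4_frob2_neg q hq hK, mul_pow, mul_pow, hu2, h4, neg_neg]
  rw [e1, e2, e3, e4]
  have p1 : -(t * t ^ (q ^ 2) * u) = -(t * t ^ (q ^ 2) * u) := rfl
  have p2 : -(t * t ^ q * t ^ (q ^ 2) * u) = -(t * t ^ q * t ^ (q ^ 2) * u) := rfl
  have p3 : -(t * t ^ q * t ^ (q ^ 2) * u ^ 2) = -(t * t ^ q * t ^ (q ^ 2) * u ^ 2) := rfl
  have p4 : -(t * t ^ q * u) = -(t ^ q * t * u) := by ring
  have p5 : t ^ q * t ^ (q ^ 2) * u = t ^ (q ^ 2) * t ^ q * u := by ring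
  rw [p4, p5]

omit [Fintype K] in
theorem tdmi4_congr5 {A B : GG K} {p1 p2 p3 p4 p5 r1 r2 r3 r4 r5 : K} (h1 : p1 = r1) (h2 : p2 = r2)
    (h3 : p3 = r3) (h4 : p4 = r4) (h5 : p5 = r5) :
    A * X2AB p1 p2 p3 * X 22 p4 * X 23 p5 * B = A * X2AB r1 r2 r3 * X 22 r4 * X 23 r5 * B := by
  subst_vars; rfl

/-- **I5** [H]. -/
theorem conj_a1_ab (hq : IsPrimePow q) (hK : Fintype.card K = q ^ 3) (s : K) :
    Xa q 1 * Xab q s * (Xa q 1)⁻¹ =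
      Xab q s * X2ab q (s ^ (q ^ 2) + s) * X 22 (Tr3 q s) *
        X 23 (-(s ^ q * s ^ (q ^ 2) + s * s ^ (q ^ 2) + s * s ^ q)) := by
  have h3 : (s ^ (q ^ 2)) ^ q = s := pow_q_q2 q hK s
  have h4 : (s ^ (q ^ 2)) ^ (q ^ 2) = s ^ q := by
    rw [← pow_mul]
    have : q ^ 2 * q ^ 2 = q ^ 3 * q := by ring
    rw [this, pow_mul, pow_q3 q hK]
  rw [mul_inv_eq_iff_eq_mul]
  unfold Xa Xab X2ab Tr3
  rw [one_pow, one_pow, tdmc_gen_a_ab]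
  refine tdmi4_congr5 ?_ ?_ ?_ ?_ ?_
  · ring
  · rw [frob_add q hq hK, h3]; ring
  · rw [tdmi4_frob2_add q hq hK, h4]; ring
  · ring
  · ring

/-- **I6** [M]. -/
theorem conj_a_2ab (hq : IsPrimePow q) (hK : Fintype.card K = q ^ 3) (t s : K) :
    Xa q t * X2ab q s * (Xa q t)⁻¹ =
      X2ab q s * X 22 (t * s ^ (q ^ 2) + t ^ q * s + t ^ (q ^ 2) * s ^ q) := by
  rw [mul_inv_eq_iff_eq_mul]
  unfold Xa X2ab
  rw [tdmc_gen_a_2ab]
  have e : -(t * -s ^ (q ^ 2)) + t ^ q * s + t ^ (q ^ 2) * s ^ q =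
      t * s ^ (q ^ 2) + t ^ q * s + t ^ (q ^ 2) * s ^ q := by ring
  rw [e]

/-- **I7** [M]. -/
theorem conj_ab_2ab (hq : IsPrimePow q) (hK : Fintype.card K = q ^ 3) (t s : K) :
    Xab q t * X2ab q s * (Xab q t)⁻¹ =
      X2ab q s * X 23 (t * s ^ (q ^ 2) + t ^ q * s + t ^ (q ^ 2) * s ^ q) := by
  rw [mul_inv_eq_iff_eq_mul]
  unfold Xab X2ab
  rw [tdmc_gen_ab_2ab]
  have e : -(t * -s ^ (q ^ 2)) - -t ^ q * s - -t ^ (q ^ 2) * s ^ q =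
      t * s ^ (q ^ 2) + t ^ q * s + t ^ (q ^ 2) * s ^ q := by ring
  rw [e]

end I

end Cfsg.Agent.Lib.helper8.TDM
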