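import Mathlib
import Cfsg.Agent.Lib.helper8.TDM.Defs
import Cfsg.Agent.Lib.helper8.ChevFix1
import Cfsg.Agent.Lib.helper8.ChevFix2
import Cfsg.Agent.Lib.helper8.ChevTw8

/-!
# Project TDM (S2192), rows R1 R2 R3 R4 (verbatim): rational elements.

`Rat q g ↔ h8Psi chevD4 f g = g` for the Frobenius `f t = t ^ q` (`tdmr1_rat_iff`).
-/

set_option autoImplicit false

namespace Cfsg.Agent.Lib.helper8.TDM

open Cfsg.Lie Cfsg.Lie.ChevalleyDatum Matrix
open Cfsg.Agent.Lib.helper8 Cfsg.Agent.Lib.helper8.TD4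
open Cfsg.Agent.Lib.helper23.TD4V

universe u

section R

variable {K : Type u} [Field K] [Fintype K] (q : ℕ)

omit [Fintype K] in
/-- rational means fixed by the entrywise Frobenius -/
theorem tdmr1_rat_iff (f : K →+* K) (hf : ∀ t, f t = t ^ q) (g : GG K) :
    Rat q g ↔ h8Psi chevD4 f g = g := by
  constructor
  · intro h
    apply Units.ext
    rw [h8Psi_val]
    ext i j
    rw [Matrix.map_apply, hf]
    exact h i j
  · intro h i j
    have h1 := congrArg (fun g : GG K => (g : Matrix chevD4.Idx chevD4.Idx K) i j) h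
    simp only [h8Psi_val, Matrix.map_apply, hf] at h1
    exact h1

/-- the Frobenius as a ring homomorphism -/
theorem tdmr1_frob (hq : IsPrimePow q) (hK : Fintype.card K = q ^ 3) :
    ∃ f : K →+* K, ∀ t, f t = t ^ q := by
  obtain ⟨f, hf, -, -⟩ := h8frob_exists hq 3 (by norm_num) hK
  exact ⟨(f : K →+* K), fun t => hf t⟩

/-- **R1** [S-M]. -/
theorem rat_mul (hq : IsPrimePow q) (hK : Fintype.card K = q ^ 3) (g g' : GG K) (h : Rat q g)
    (h' : Rat q g') : Rat q (g * g') := by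
  obtain ⟨f, hf⟩ := tdmr1_frob q hq hK
  rw [tdmr1_rat_iff q f hf] at h h' ⊢
  rw [map_mul, h, h']

theorem rat_inv (hq : IsPrimePow q) (hK : Fintype.card K = q ^ 3) (g : GG K) (h : Rat q g) :
    Rat q g⁻¹ := by
  obtain ⟨f, hf⟩ := tdmr1_frob q hq hK
  rw [tdmr1_rat_iff q f hf] at h ⊢
  rw [map_inv, h]

omit [Fintype K] in
theorem rat_one (hq : IsPrimePow q) : Rat q (1 : GG K) := by
  intro i j
  show ((1 : Matrix chevD4.Idx chevD4.Idx K) i j) ^ q = (1 : Matrix chevD4.Idx chevD4.Idx K) i j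
  by_cases hij : i = j
  · rw [hij, Matrix.one_apply_eq, one_pow]
  · rw [Matrix.one_apply_ne hij]
    exact zero_pow hq.pos.ne'

/-- **R2** [S-M]. -/
theorem rat_X (hq : IsPrimePow q) (hK : Fintype.card K = q ^ 3) (r : ℕ) (hr : r < 24) (c : K)
    (hc : c ^ q = c) : Rat q (X r c) := by
  obtain ⟨f, hf⟩ := tdmr1_frob q hq hK
  rw [tdmr1_rat_iff q f hf]
  unfold X
  rw [h8Psi_xU chevD4 hB hB, hf, hc]

/-- **R3** [S]. -/
theorem rat_n (hq : IsPrimePow q) (hK : Fintype.card K = q ^ 3) :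
    Rat q (nb : GG K) ∧ Rat q (nJ : GG K) := by
  obtain ⟨f, hf⟩ := tdmr1_frob q hq hK
  rw [tdmr1_rat_iff q f hf, tdmr1_rat_iff q f hf]
  constructor
  · unfold nb
    rw [h8Psi_nU chevD4 hB hB, map_one]
  · unfold nJ
    rw [h8Psi_nWU chevD4 hB hB]

/-- **R4** [S]. -/
theorem rat_hh (hq : IsPrimePow q) (hK : Fintype.card K = q ^ 3) (r : ℕ) (hr : r < 24) (c : K)
    (hc0 : c ≠ 0) (hc : c ^ q = c) : Rat q (hh r c) := by
  obtain ⟨f, hf⟩ := tdmr1_frob q hq hK
  rw [tdmr1_rat_iff q f hf]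
  unfold hh
  rw [h8Psi_hU chevD4 hB hB, hf, hc]

end R

end Cfsg.Agent.Lib.helper8.TDM
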