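import Mathlib
import Cfsg.Agent.Lib.helper8.TDM.Defs
import Cfsg.Agent.Lib.helper8.TDMR1
import Cfsg.Agent.Lib.helper8.TDMU1

/-!
# Project TDM (S2192), row R5 (`Xa_not_rat`), verbatim: `Xa q t` is not rational for `t ∉ k`.
-/

set_option autoImplicit false

namespace Cfsg.Agent.Lib.helper8.TDM

open Cfsg.Lie Cfsg.Lie.ChevalleyDatum Matrix
open Cfsg.Agent.Lib.helper8 Cfsg.Agent.Lib.helper8.TD4
open Cfsg.Agent.Lib.helper23.TD4V

universe u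

section R

variable {K : Type u} [Field K] [Fintype K] (q : ℕ)

omit [Fintype K] in
theorem tdmr5_pad (a1 a2 a3 : K) :
    XA a1 a2 a3 = XA a1 a2 a3 * (X 14 0 * (XAB 0 0 0 * (X2AB 0 0 0 * (X 22 0 * X 23 0)))) := by
  have h : ∀ r : ℕ, (X r 0 : GG K) = 1 := fun r => h8xU_zero chevD4 hB r
  unfold XAB X2AB
  simp only [h, mul_one]

/-- **R5** [M]. -/
theorem Xa_not_rat (hq : IsPrimePow q) (hK : Fintype.card K = q ^ 3) (t : K) (ht : t ^ q ≠ t) :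
    ¬ Rat q (Xa q t) := by
  intro hr
  obtain ⟨f, hf⟩ := tdmr1_frob q hq hK
  rw [tdmr1_rat_iff q f hf] at hr
  unfold Xa XA at hr
  rw [map_mul, map_mul] at hr
  unfold X at hr
  rw [h8Psi_xU chevD4 hB hB, h8Psi_xU chevD4 hB hB, h8Psi_xU chevD4 hB hB] at hr
  have hr' : XA (f t) (f (t ^ q)) (f (t ^ (q ^ 2))) = XA t (t ^ q) (t ^ (q ^ 2)) := hr
  rw [tdmr5_pad (f t), tdmr5_pad t] at hr'
  have := (tdmu1_inj12 _ _ _ _ _ _ _ _ _ _ _ _ _ _ _ _ _ _ _ _ _ _ _ _ hr').1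
  rw [hf] at this
  exact ht this

end R

end Cfsg.Agent.Lib.helper8.TDM
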