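import Mathlib
import Cfsg.Agent.Lib.Helper19.TDMI13
import Cfsg.Agent.Lib.Helper19.TDMU3
import Cfsg.Agent.Lib.Helper19.TDMU4
import Cfsg.Agent.Lib.helper14.TDMN1
import Cfsg.Agent.Lib.helper14.TDMN4
import Cfsg.Agent.Lib.helper8.TDMR1
import Cfsg.Agent.Lib.helper8.TDMR5
import Cfsg.Agent.Lib.Helper22.TDMI1
import Cfsg.Agent.Lib.helper2.TDMI2
import Cfsg.Agent.Lib.helper4.TDMI8
import Cfsg.Agent.Lib.helper8.TDMI4
import Cfsg.Agent.Lib.Helper26.TDMI9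
import Cfsg.Agent.Lib.Helper22.TDMI10
import Cfsg.Agent.Lib.helper14.TDMI11
import Cfsg.Agent.Lib.helper14.TDMI14
import Cfsg.Agent.Lib.helper8.TDMU1
import Cfsg.Agent.Lib.Helper19.TDMU2
import Cfsg.Agent.Lib.helper15.TDMU5
import Cfsg.Agent.Lib.Helper26.TDMU6
import Cfsg.Agent.Lib.helper14.TDMU7
import Cfsg.Agent.Lib.Helper26.TDMU8
import Cfsg.Agent.Lib.helper8.TD4VE1
import Cfsg.Agent.Lib.Helper12.TD4VJD
import Cfsg.Agent.Lib.helper15.TD4VM1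
import Cfsg.Agent.Lib.Helper5.TD4VN2

/-!
# Project TDM = S2192 (`G₂(q)` is maximal in `³D₄(q)`): the assembly (helper8), on the 33 leaf rows of `helper8/TDM/Skel.lean.txt`
(landed by helper2 helper4 helper8 helper14 helper15 helper19 helper22 helper26).
-/

set_option autoImplicit false
set_option linter.unusedSectionVars false

namespace Cfsg.Agent.Lib.helper8.TDM

open Cfsg.Lie Cfsg.Lie.ChevalleyDatum Matrix
open Cfsg.Agent.Lib.helper8 Cfsg.Agent.Lib.helper8.TD4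
open Cfsg.Agent.Lib.helper23.TD4V

universe u

/-! ## moving an element across another -/

section Mv

variable {Γ : Type u} [Group Γ]

/-- `a * x = y * a` -/
def Mv (a x y : Γ) : Prop := a * x = y * a

theorem Mv.comp {a b x y z : Γ} (h1 : Mv b x y) (h2 : Mv a y z) : Mv (a * b) x z := by
  unfold Mv at *
  rw [mul_assoc, h1, ← mul_assoc, h2, mul_assoc]

theorem Mv.prod {a x1 x2 y1 y2 : Γ} (h1 : Mv a x1 y1) (h2 : Mv a x2 y2) :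
    Mv a (x1 * x2) (y1 * y2) := by
  unfold Mv at *
  rw [← mul_assoc, h1, mul_assoc, h2, mul_assoc]

theorem Mv.of_comm {a x : Γ} (h : Commute a x) : Mv a x x := h.eq

theorem Mv.conj {a x y : Γ} (h : Mv a x y) : a * x * a⁻¹ = y := by
  unfold Mv at h
  rw [h]; group

theorem Mv.of_conj {a x y : Γ} (h : a * x * a⁻¹ = y) : Mv a x y := by
  unfold Mv
  rw [← h]; group

theorem Mv.inv {a x y : Γ} (h : Mv a x y) : Mv a⁻¹ y x := by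
  unfold Mv at *
  have : y = a * x * a⁻¹ := by rw [h]; group
  rw [this]; group

theorem Mv.one (x : Γ) : Mv 1 x x := by unfold Mv; rw [one_mul, mul_one]

end Mv

section Asm

variable {K : Type u} [Field K] [Fintype K] {q : ℕ} {M H : Subgroup (GG K)}

/-! ## the subfield -/

theorem k_add (C : Ctx q M H) {x y : K} (hx : x ^ q = x) (hy : y ^ q = y) : (x + y) ^ q = x + y :=
  (kq_ops q C.hq C.hK).1 x y hx hy

theorem k_mul (C : Ctx q M H) {x y : K} (hx : x ^ q = x) (hy : y ^ q = y) : (x * y) ^ q = x * y :=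
  (kq_ops q C.hq C.hK).2.1 x y hx hy

theorem k_neg (C : Ctx q M H) {x : K} (hx : x ^ q = x) : (-x) ^ q = -x :=
  (kq_ops q C.hq C.hK).2.2.1 x hx

theorem k_inv (C : Ctx q M H) {x : K} (hx : x ^ q = x) : x⁻¹ ^ q = x⁻¹ :=
  (kq_ops q C.hq C.hK).2.2.2.1 x hx

theorem k_zero (C : Ctx q M H) : (0 : K) ^ q = 0 := (kq_ops q C.hq C.hK).2.2.2.2.1

theorem k_one (C : Ctx q M H) : (1 : K) ^ q = 1 := (kq_ops q C.hq C.hK).2.2.2.2.2.1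

theorem k_eps (C : Ctx q M H) {ε : K} (h : ε = 1 ∨ ε = -1) : ε ^ q = ε ∧ ε ≠ 0 ∧ ε * ε = 1 := by
  rcases h with rfl | rfl
  · exact ⟨k_one C, one_ne_zero, by ring⟩
  · exact ⟨(kq_ops q C.hq C.hK).2.2.2.2.2.2.1, by simp, by ring⟩

theorem k_q2 {x : K} (hx : x ^ q = x) : x ^ (q ^ 2) = x := by
  rw [pow_two, pow_mul, hx, hx]

/-- if `c * x` and `c ≠ 0` are rational then so is `x` -/
theorem k_of_mul (C : Ctx q M H) {c x : K} (hc : c ^ q = c) (hc0 : c ≠ 0) (h : (c * x) ^ q = c * x) :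
    x ^ q = x := by
  have h1 := k_mul C (k_inv C hc) h
  rwa [← mul_assoc, inv_mul_cancel₀ hc0, one_mul] at h1

/-! ## membership in `M` -/

theorem mem_M (C : Ctx q M H) {g : GG K} (hg : g ∈ twistedD4 K q) (hr : Rat q g) : g ∈ M :=
  (C.hM g).2 ⟨hg, hr⟩

theorem M_le_G (C : Ctx q M H) : M ≤ twistedD4 K q := fun g hg => ((C.hM g).1 hg).1

theorem Xl_mem_M (C : Ctx q M H) (r : ℕ) (hr : r ∈ [14, 22, 23, 9, 1, 0]) (c : K) (hc : c ^ q = c) :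
    X r c ∈ M := by
  have hG := mem_G q C.hq C.hK
  have hr24 : r < 24 := by
    simp only [List.mem_cons, List.mem_nil_iff, or_false] at hr
    rcases hr with rfl | rfl | rfl | rfl | rfl | rfl <;> norm_num
  refine mem_M C ?_ (rat_X q C.hq C.hK r hr24 c hc)
  simp only [List.mem_cons, List.mem_nil_iff, or_false] at hr
  rcases hr with rfl | rfl | rfl | rfl | rfl | rfl
  · exact (hG.2.1 14 (by simp) c hc).2
  · exact (hG.2.1 22 (by simp) c hc).2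
  · exact (hG.2.1 23 (by simp) c hc).2
  · exact hG.2.2.1 9 (by simp) c hc
  · exact hG.2.2.1 1 (by simp) c hc
  · exact hG.2.2.1 0 (by simp) c hc

theorem Xl_mem_H (C : Ctx q M H) (r : ℕ) (hr : r ∈ [14, 22, 23, 9, 1, 0]) (c : K) (hc : c ^ q = c) :
    X r c ∈ H := C.hMH (Xl_mem_M C r hr c hc)

theorem Xa_mem_M (C : Ctx q M H) (c : K) (hc : c ^ q = c) : Xa q c ∈ M := by
  refine mem_M C ((mem_G q C.hq C.hK).1 c).1.2 ?_
  unfold Xa XA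
  rw [hc, k_q2 hc]
  exact rat_mul q C.hq C.hK _ _ (rat_mul q C.hq C.hK _ _ (rat_X q C.hq C.hK 18 (by norm_num) c hc)
    (rat_X q C.hq C.hK 13 (by norm_num) c hc)) (rat_X q C.hq C.hK 12 (by norm_num) c hc)

theorem Xab_mem_M (C : Ctx q M H) (c : K) (hc : c ^ q = c) : Xab q c ∈ M := by
  refine mem_M C ((mem_G q C.hq C.hK).1 c).2.1.2 ?_
  unfold Xab XAB
  rw [hc, k_q2 hc]
  exact rat_mul q C.hq C.hK _ _ (rat_mul q C.hq C.hK _ _ (rat_X q C.hq C.hK 19 (by norm_num) c hc)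
    (rat_X q C.hq C.hK 16 (by norm_num) _ (k_neg C hc))) (rat_X q C.hq C.hK 15 (by norm_num) _ (k_neg C hc))

theorem X2ab_mem_M (C : Ctx q M H) (c : K) (hc : c ^ q = c) : X2ab q c ∈ M := by
  refine mem_M C ((mem_G q C.hq C.hK).1 c).2.2.1.2 ?_
  unfold X2ab X2AB
  rw [hc, k_q2 hc]
  exact rat_mul q C.hq C.hK _ _ (rat_mul q C.hq C.hK _ _ (rat_X q C.hq C.hK 20 (by norm_num) c hc)
    (rat_X q C.hq C.hK 21 (by norm_num) _ hc)) (rat_X q C.hq C.hK 17 (by norm_num) _ (k_neg C hc))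

theorem nb_mem_M (C : Ctx q M H) : (nb : GG K) ∈ M :=
  mem_M C (mem_G q C.hq C.hK).2.2.2.1 (rat_n q C.hq C.hK).1

theorem nJ_mem_M (C : Ctx q M H) : (nJ : GG K) ∈ M :=
  mem_M C (mem_G q C.hq C.hK).2.2.2.2.1 (rat_n q C.hq C.hK).2

/-! ## inverses of root elements -/

theorem X_neg (r : ℕ) (c : K) : (X r (-c) : GG K) = (X r c)⁻¹ := by
  rw [eq_inv_iff_mul_eq_one, ← X_add, neg_add_cancel, X_zero]

theorem Xa_neg (C : Ctx q M H) (t : K) : Xa q (-t) = (Xa q t)⁻¹ := by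
  rw [eq_inv_iff_mul_eq_one, ← Xa_add q C.hq C.hK, neg_add_cancel, (tw_zero q C.hq).1]

theorem Xab_neg (C : Ctx q M H) (t : K) : Xab q (-t) = (Xab q t)⁻¹ := by
  rw [eq_inv_iff_mul_eq_one, ← Xab_add q C.hq C.hK, neg_add_cancel, (tw_zero q C.hq).2.1]

theorem X2ab_neg (C : Ctx q M H) (t : K) : X2ab q (-t) = (X2ab q t)⁻¹ := by
  rw [eq_inv_iff_mul_eq_one, ← X2ab_add q C.hq C.hK, neg_add_cancel, (tw_zero q C.hq).2.2.1]

/-! ## the other short root groups -/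

theorem rootrat_ab (C : Ctx q M H) (hR : RootRat q H) (t : K) (ht : Xab q t ∈ H) : t ^ q = t := by
  obtain ⟨ε, hε, h⟩ := nb_Xa q C.hq C.hK
  obtain ⟨hεq, hε0, hεε⟩ := k_eps C hε
  have hnb : (nb : GG K) ∈ H := C.hMH (nb_mem_M C)
  have h1 : Xa q (ε * t) ∈ H := by
    have e : Xa q (ε * t) = nb⁻¹ * Xab q t * nb := by
      have := h (ε * t)
      rw [← mul_assoc, hεε, one_mul] at this
      rw [← this]; group
    rw [e]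
    exact H.mul_mem (H.mul_mem (H.inv_mem hnb) ht) hnb
  exact k_of_mul C hεq hε0 (hR _ h1)

theorem rootrat_2ab (C : Ctx q M H) (hR : RootRat q H) (t : K) (ht : X2ab q t ∈ H) : t ^ q = t := by
  obtain ⟨ε, hε, h⟩ := nJ_X2ab q C.hq C.hK
  obtain ⟨hεq, hε0, hεε⟩ := k_eps C hε
  have hnJ : (nJ : GG K) ∈ H := C.hMH (nJ_mem_M C)
  have h1 : Xab q (ε * t ^ (q ^ 2)) ∈ H := by
    rw [← h t]
    exact H.mul_mem (H.mul_mem hnJ ht) (H.inv_mem hnJ)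
  have h2 : (t ^ (q ^ 2)) ^ q = t ^ (q ^ 2) := k_of_mul C hεq hε0 (rootrat_ab C hR _ h1)
  have h3 : t ^ (q ^ 2) = t := by
    have := pow_q_q2 q C.hK t
    rw [h2] at this
    exact this
  rw [h3] at h2
  exact h2

/-! ## the abelian group `X_{2a+b} X_{3a+b} X_{3a+2b}` -/

/-- `x_{2a+b}(a) x_{3a+b}(b) x_{3a+2b}(c)` -/
def P3 (q : ℕ) (a b c : K) : GG K := X2ab q a * X 22 b * X 23 c

theorem P3_mul (C : Ctx q M H) (a b c a' b' c' : K) :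
    P3 q a b c * P3 q a' b' c' = P3 q (a + a') (b + b') (c + c') := by
  unfold P3
  rw [X2ab_add q C.hq C.hK, X_add, X_add]
  have h1 : Commute (X 22 b : GG K) (X2ab q a') := (comm_22 q b a').2.2.1
  have h2 : Commute (X 23 c : GG K) (X2ab q a') := (comm_23 q c a').2.2.1
  have h3 : Commute (X 22 b' : GG K) (X 23 c) := (comm_22 q b' c).2.2.2
  calc X2ab q a * X 22 b * X 23 c * (X2ab q a' * X 22 b' * X 23 c')
      = X2ab q a * X 22 b * (X 23 c * X2ab q a') * X 22 b' * X 23 c' := by group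
    _ = X2ab q a * (X 22 b * X2ab q a') * (X 23 c * X 22 b') * X 23 c' := by rw [h2.eq]; group
    _ = X2ab q a * X2ab q a' * (X 22 b * X 22 b') * (X 23 c * X 23 c') := by
        rw [h1.eq, ← h3.eq]; group

theorem P3_zero (C : Ctx q M H) : P3 q (0 : K) 0 0 = 1 := by
  unfold P3
  rw [(tw_zero q C.hq).2.2.1, X_zero, X_zero, one_mul, one_mul]

theorem P3_inv (C : Ctx q M H) (a b c : K) : (P3 q a b c)⁻¹ = P3 q (-a) (-b) (-c) := by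
  rw [inv_eq_iff_mul_eq_one, P3_mul C, add_neg_cancel, add_neg_cancel, add_neg_cancel, P3_zero C]

theorem NFU_P3 (t1 c1 t2 t3 c2 c3 : K) :
    NFU q t1 c1 t2 t3 c2 c3 = Xa q t1 * X 14 c1 * Xab q t2 * P3 q t3 c2 c3 := by
  unfold NFU P3; group

/-- the parameters of the long root factors of an element of `G` in normal form are rational -/
theorem nf_rat (C : Ctx q M H) (t1 c1 t2 t3 c2 c3 : K) (h : NFU q t1 c1 t2 t3 c2 c3 ∈ twistedD4 K q) :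
    c1 ^ q = c1 ∧ c2 ^ q = c2 ∧ c3 ^ q = c3 := by
  have hG := mem_G q C.hq C.hK
  have hU : NFU q t1 c1 t2 t3 c2 c3 ∈ U1 K q := by
    refine ⟨?_, h⟩
    unfold NFU
    have hp : ∀ r ∈ [14, 22, 23], ∀ c : K, X r c ∈ chevD4.posUnipotent K := by
      intro r hr c
      apply td4vm1_X_mem_U
      simp only [List.mem_cons, List.mem_nil_iff, or_false] at hr
      rcases hr with rfl | rfl | rfl <;> decide
    exact Subgroup.mul_mem _ (Subgroup.mul_mem _ (Subgroup.mul_mem _ (Subgroup.mul_mem _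
      (Subgroup.mul_mem _ (hG.1 t1).1.1 (hp 14 (by simp) c1)) (hG.1 t2).2.1.1) (hG.1 t3).2.2.1.1)
      (hp 22 (by simp) c2)) (hp 23 (by simp) c3)
  obtain ⟨s1, d1, s2, s3, d2, d3, hd1, hd2, hd3, e⟩ := U1_nf q C.hq C.hK _ hU
  obtain ⟨-, e1, -, -, e2, e3⟩ := NFU_inj q C.hq C.hK _ _ _ _ _ _ _ _ _ _ _ _ e
  rw [e1, e2, e3]
  exact ⟨hd1, hd2, hd3⟩

theorem NFU_mem_M (C : Ctx q M H) (t1 c1 t2 t3 c2 c3 : K) (h1 : t1 ^ q = t1) (hc1 : c1 ^ q = c1)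
    (h2 : t2 ^ q = t2) (h3 : t3 ^ q = t3) (hc2 : c2 ^ q = c2) (hc3 : c3 ^ q = c3) :
    NFU q t1 c1 t2 t3 c2 c3 ∈ M := by
  unfold NFU
  exact M.mul_mem (M.mul_mem (M.mul_mem (M.mul_mem (M.mul_mem (Xa_mem_M C t1 h1)
    (Xl_mem_M C 14 (by simp) c1 hc1)) (Xab_mem_M C t2 h2)) (X2ab_mem_M C t3 h3))
    (Xl_mem_M C 22 (by simp) c2 hc2)) (Xl_mem_M C 23 (by simp) c3 hc3)

/-- **UK, step C** -/
theorem uk_C (C : Ctx q M H) (hR : RootRat q H) (t3 c2 c3 : K) (h : P3 q t3 c2 c3 ∈ H) :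
    t3 ^ q = t3 ∧ c2 ^ q = c2 ∧ c3 ^ q = c3 := by
  have e : P3 q t3 c2 c3 = NFU q 0 0 0 t3 c2 c3 := by
    rw [NFU_P3, (tw_zero q C.hq).1, X_zero, (tw_zero q C.hq).2.1, one_mul, one_mul, one_mul]
  obtain ⟨-, hc2, hc3⟩ := nf_rat C 0 0 0 t3 c2 c3 (by rw [← e]; exact C.hHG h)
  refine ⟨?_, hc2, hc3⟩
  apply rootrat_2ab C hR
  have e2 : X2ab q t3 = P3 q t3 c2 c3 * (X 23 c3)⁻¹ * (X 22 c2)⁻¹ := by unfold P3; group
  rw [e2]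
  exact H.mul_mem (H.mul_mem h (H.inv_mem (Xl_mem_H C 23 (by simp) c3 hc3)))
    (H.inv_mem (Xl_mem_H C 22 (by simp) c2 hc2))

/-- **UK, step B** -/
theorem uk_B (C : Ctx q M H) (hR : RootRat q H) (t2 t3 c2 c3 : K)
    (h : Xab q t2 * P3 q t3 c2 c3 ∈ H) :
    t2 ^ q = t2 ∧ t3 ^ q = t3 ∧ c2 ^ q = c2 ∧ c3 ^ q = c3 := by
  have hXa1 : Xa q (1 : K) ∈ H := C.hMH (Xa_mem_M C 1 (k_one C))
  -- conjugate by `Xa 1`
  have m1 : Mv (Xa q (1 : K)) (Xab q t2) (Xab q t2 * P3 q (t2 ^ (q ^ 2) + t2) (Tr3 q t2)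
      (-(t2 ^ q * t2 ^ (q ^ 2) + t2 * t2 ^ (q ^ 2) + t2 * t2 ^ q))) := by
    apply Mv.of_conj
    rw [conj_a1_ab q C.hq C.hK t2]
    unfold P3; group
  have m2 : Mv (Xa q (1 : K)) (P3 q t3 c2 c3)
      (P3 q t3 c2 c3 * P3 q 0 (1 * t3 ^ (q ^ 2) + 1 ^ q * t3 + 1 ^ (q ^ 2) * t3 ^ q) 0) := by
    have a1 : Mv (Xa q (1 : K)) (X2ab q t3)
        (X2ab q t3 * X 22 (1 * t3 ^ (q ^ 2) + 1 ^ q * t3 + 1 ^ (q ^ 2) * t3 ^ q)) :=
      Mv.of_conj (conj_a_2ab q C.hq C.hK 1 t3)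
    have a2 : Mv (Xa q (1 : K)) (X 22 c2) (X 22 c2) := Mv.of_comm (comm_22 q c2 1).1.symm
    have a3 : Mv (Xa q (1 : K)) (X 23 c3) (X 23 c3) := Mv.of_comm (comm_23 q c3 1).1.symm
    have := (a1.prod a2).prod a3
    have e : X2ab q t3 * X 22 (1 * t3 ^ (q ^ 2) + 1 ^ q * t3 + 1 ^ (q ^ 2) * t3 ^ q) * X 22 c2 * X 23 c3
        = P3 q t3 c2 c3 * P3 q 0 (1 * t3 ^ (q ^ 2) + 1 ^ q * t3 + 1 ^ (q ^ 2) * t3 ^ q) 0 := by
      rw [P3_mul C]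
      unfold P3
      rw [mul_assoc (X2ab q t3), ← X_add, add_zero, add_zero, add_comm c2]
    rw [e] at this
    exact this
  have m := (m1.prod m2).conj
  -- the commutator
  set A := (1 : K) * t3 ^ (q ^ 2) + 1 ^ q * t3 + 1 ^ (q ^ 2) * t3 ^ q with hA
  set B := -(t2 ^ q * t2 ^ (q ^ 2) + t2 * t2 ^ (q ^ 2) + t2 * t2 ^ q) with hB'
  have hz : P3 q (t2 ^ (q ^ 2) + t2) (Tr3 q t2 + A) B ∈ H := by
    have e : P3 q (t2 ^ (q ^ 2) + t2) (Tr3 q t2 + A) B =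
        (Xab q t2 * P3 q t3 c2 c3)⁻¹ *
          (Xa q 1 * (Xab q t2 * P3 q t3 c2 c3) * (Xa q 1)⁻¹) := by
      rw [m]
      have e1 : (Xab q t2 * P3 q t3 c2 c3)⁻¹ * (Xab q t2 * P3 q (t2 ^ (q ^ 2) + t2) (Tr3 q t2) B *
          (P3 q t3 c2 c3 * P3 q 0 A 0)) = (P3 q t3 c2 c3)⁻¹ * (P3 q (t2 ^ (q ^ 2) + t2) (Tr3 q t2) B *
          (P3 q t3 c2 c3 * P3 q 0 A 0)) := by group
      rw [e1, P3_inv C, P3_mul C, P3_mul C, P3_mul C]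
      congr 1 <;> ring
    rw [e]
    exact H.mul_mem (H.inv_mem h) (H.mul_mem (H.mul_mem hXa1 h) (H.inv_mem hXa1))
  have h2 : t2 ^ q = t2 := by
    have := (uk_C C hR _ _ _ hz).1
    rw [add_comm] at this
    exact kq_of_add_q2 q C.hq C.hK t2 this
  refine ⟨h2, ?_⟩
  apply uk_C C hR
  have e : P3 q t3 c2 c3 = (Xab q t2)⁻¹ * (Xab q t2 * P3 q t3 c2 c3) := by group
  rw [e]
  exact H.mul_mem (H.inv_mem (C.hMH (Xab_mem_M C t2 h2))) h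

/-! ## conjugation by an element of `U¹` in normal form -/

theorem mv_22_14 (u c : K) : Mv (X 22 c : GG K) (X 14 u) (X 14 u * X 23 (-(u * c))) := by
  have h := conj_14_22 (K := K) u c
  have h23 : Commute (X 23 (u * c) : GG K) (X 14 u) := (comm_23 0 (u * c) u).2.2.2
  have h22 : Commute (X 22 c : GG K) (X 23 (u * c)) := (comm_22 0 c (u * c)).2.2.2
  unfold Mv
  rw [X_neg]
  have e : (X 14 u : GG K) * X 22 c = X 22 c * X 23 (u * c) * X 14 u := by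
    rw [← h]; group
  calc (X 22 c : GG K) * X 14 u = (X 23 (u * c))⁻¹ * (X 23 (u * c) * X 22 c) * X 14 u := by group
    _ = (X 23 (u * c))⁻¹ * (X 22 c * X 23 (u * c) * X 14 u) := by rw [← h22.eq]; group
    _ = (X 23 (u * c))⁻¹ * (X 14 u * X 22 c) := by rw [e]
    _ = X 14 u * (X 23 (u * c))⁻¹ * X 22 c := by
        rw [← mul_assoc]
        congr 1
        exact (h23.inv_left.eq)

/-- the part `v = x_b(c₁) x_{a+b}(t₂) x_{2a+b}(t₃) x_{3a+b}(c₂) x_{3a+2b}(c₃)` moves across `x_b(x)` -/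
theorem mv_v_14 (C : Ctx q M H) (c1 t2 t3 c2 c3 x : K) :
    Mv (X 14 c1 * Xab q t2 * X2ab q t3 * X 22 c2 * X 23 c3) (X 14 x : GG K)
      (X 14 x * X 23 (-(x * c2))) := by
  have s1 : Mv (X 23 c3 : GG K) (X 14 x) (X 14 x) := Mv.of_comm (comm_23 q c3 x).2.2.2
  have s2 : Mv (X 22 c2 : GG K) (X 14 x) (X 14 x * X 23 (-(x * c2))) := mv_22_14 x c2
  have s3 : Mv (X2ab q t3) (X 14 x * X 23 (-(x * c2)) : GG K) (X 14 x * X 23 (-(x * c2))) :=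
    (Mv.of_comm (comm_14 q x t3).2.symm).prod (Mv.of_comm (comm_23 q _ t3).2.2.1.symm)
  have s4 : Mv (Xab q t2) (X 14 x * X 23 (-(x * c2)) : GG K) (X 14 x * X 23 (-(x * c2))) :=
    (Mv.of_comm (comm_14 q x t2).1.symm).prod (Mv.of_comm (comm_23 q _ t2).2.1.symm)
  have s5 : Mv (X 14 c1 : GG K) (X 14 x * X 23 (-(x * c2)) : GG K) (X 14 x * X 23 (-(x * c2))) := by
    refine (Mv.of_comm ?_).prod (Mv.of_comm (comm_23 q _ c1).2.2.2.symm)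
    show (X 14 c1 : GG K) * X 14 x = X 14 x * X 14 c1
    rw [← X_add, ← X_add, add_comm]
  exact s1.comp (s2.comp (s3.comp (s4.comp s5)))

/-- `NFU … * x_b(x) = x_b(x) * x_{a+b}(-(t₁ x)) * … * NFU …` -/
theorem mv_nf_14 (C : Ctx q M H) (t1 c1 t2 t3 c2 c3 x : K) (hx : x ^ q = x) :
    ∃ s d e : K, Mv (NFU q t1 c1 t2 t3 c2 c3) (X 14 x : GG K)
      (X 14 x * (Xab q (-(t1 * x)) * P3 q s d e)) := by
  refine ⟨-(t1 * t1 ^ (q ^ 2) * x), -(Nm q t1 * x), -(Nm q t1 * x ^ 2) + -(x * c2), ?_⟩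
  have hv := mv_v_14 C c1 t2 t3 c2 c3 x
  have ha : Mv (Xa q t1) (X 14 x * X 23 (-(x * c2)) : GG K)
      (X 14 x * Xab q (-(t1 * x)) * X2ab q (-(t1 * t1 ^ (q ^ 2) * x)) * X 22 (-(Nm q t1 * x)) *
        X 23 (-(Nm q t1 * x ^ 2)) * X 23 (-(x * c2))) :=
    (Mv.of_conj (conj_a_14 q C.hq C.hK t1 x hx)).prod (Mv.of_comm (comm_23 q _ t1).1.symm)
  have e1 : NFU q t1 c1 t2 t3 c2 c3 = Xa q t1 * (X 14 c1 * Xab q t2 * X2ab q t3 * X 22 c2 * X 23 c3) := by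
    unfold NFU; group
  have e2 : (X 14 x : GG K) * (Xab q (-(t1 * x)) * P3 q (-(t1 * t1 ^ (q ^ 2) * x)) (-(Nm q t1 * x))
      (-(Nm q t1 * x ^ 2) + -(x * c2))) =
      X 14 x * Xab q (-(t1 * x)) * X2ab q (-(t1 * t1 ^ (q ^ 2) * x)) * X 22 (-(Nm q t1 * x)) *
        X 23 (-(Nm q t1 * x ^ 2)) * X 23 (-(x * c2)) := by
    unfold P3
    rw [X_add]; group
  rw [e1, e2]
  exact hv.comp ha

/-- **UK**: an element of `H ∩ U¹` in normal form has rational parameters -/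
theorem uk (C : Ctx q M H) (hR : RootRat q H) (t1 c1 t2 t3 c2 c3 : K)
    (h : NFU q t1 c1 t2 t3 c2 c3 ∈ H) :
    t1 ^ q = t1 ∧ c1 ^ q = c1 ∧ t2 ^ q = t2 ∧ t3 ^ q = t3 ∧ c2 ^ q = c2 ∧ c3 ^ q = c3 := by
  obtain ⟨hc1, hc2, hc3⟩ := nf_rat C _ _ _ _ _ _ (C.hHG h)
  obtain ⟨s, d, e, hm⟩ := mv_nf_14 C t1 c1 t2 t3 c2 c3 1 (k_one C)
  have h14 : (X 14 (1 : K) : GG K) ∈ H := Xl_mem_H C 14 (by simp) 1 (k_one C)
  have hy : Xab q (-(t1 * 1)) * P3 q s d e ∈ H := by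
    have e' : Xab q (-(t1 * 1)) * P3 q s d e = (X 14 (1 : K))⁻¹ *
        (NFU q t1 c1 t2 t3 c2 c3 * X 14 1 * (NFU q t1 c1 t2 t3 c2 c3)⁻¹) := by
      rw [hm.conj]; group
    rw [e']
    exact H.mul_mem (H.inv_mem h14) (H.mul_mem (H.mul_mem h h14) (H.inv_mem h))
  have h1 : t1 ^ q = t1 := by
    have := k_neg C (uk_B C hR _ _ _ _ hy).1
    rwa [neg_neg, mul_one] at this
  have hrest : Xab q t2 * P3 q t3 c2 c3 ∈ H := by
    have e' : Xab q t2 * P3 q t3 c2 c3 = (X 14 c1)⁻¹ * ((Xa q t1)⁻¹ * NFU q t1 c1 t2 t3 c2 c3) := by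
      rw [NFU_P3]; group
    rw [e']
    exact H.mul_mem (H.inv_mem (Xl_mem_H C 14 (by simp) c1 hc1))
      (H.mul_mem (H.inv_mem (C.hMH (Xa_mem_M C t1 h1))) h)
  obtain ⟨h2, h3, -, -⟩ := uk_B C hR _ _ _ _ hrest
  exact ⟨h1, hc1, h2, h3, hc2, hc3⟩

/-- `H ∩ U¹ ≤ M` -/
theorem uk_mem (C : Ctx q M H) (hR : RootRat q H) (u : GG K) (hu : u ∈ U1 K q) (hH : u ∈ H) : u ∈ M := by
  obtain ⟨t1, c1, t2, t3, c2, c3, -, -, -, rfl⟩ := U1_nf q C.hq C.hK u hu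
  obtain ⟨h1, hc1, h2, h3, hc2, hc3⟩ := uk C hR _ _ _ _ _ _ hH
  exact NFU_mem_M C _ _ _ _ _ _ h1 hc1 h2 h3 hc2 hc3

/-- **sigma14**: if `b x_b(x) b⁻¹ ∈ H` with `b = NFU … * h ∈ B¹`, `x ∈ kˣ`, then the `a`-coordinate of `b` is rational -/
theorem sigma14 (C : Ctx q M H) (hR : RootRat q H) (t1 c1 t2 t3 c2 c3 : K) (h : GG K) (hh' : h ∈ T1 K q)
    (x : K) (hx : x ^ q = x) (hx0 : x ≠ 0)
    (hH : (NFU q t1 c1 t2 t3 c2 c3 * h) * X 14 x * (NFU q t1 c1 t2 t3 c2 c3 * h)⁻¹ ∈ H) : t1 ^ q = t1 := by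
  obtain ⟨χ, hχ0, hχ, hc⟩ := T1_conj_long q C.hq C.hK h hh' 14 (by simp)
  have hy : (χ * x) ^ q = χ * x := k_mul C hχ hx
  obtain ⟨s, d, e, hm⟩ := mv_nf_14 C t1 c1 t2 t3 c2 c3 (χ * x) hy
  have hm2 := ((Mv.of_conj (hc x)).comp hm).conj
  rw [hm2] at hH
  have h14 : (X 14 (χ * x) : GG K) ∈ H := Xl_mem_H C 14 (by simp) _ hy
  have hy' : Xab q (-(t1 * (χ * x))) * P3 q s d e ∈ H := by
    have e' : Xab q (-(t1 * (χ * x))) * P3 q s d e = (X 14 (χ * x))⁻¹ *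
        (X 14 (χ * x) * (Xab q (-(t1 * (χ * x))) * P3 q s d e)) := by group
    rw [e']
    exact H.mul_mem (H.inv_mem h14) hH
  have h1 := k_neg C (uk_B C hR _ _ _ _ hy').1
  rw [neg_neg, mul_comm] at h1
  exact k_of_mul C hy (mul_ne_zero hχ0 hx0) h1

/-- `NFU … * x_{2a+b}(θ) = x_{2a+b}(θ) x_{3a+b}(A) x_{3a+2b}(B) * NFU …` -/
theorem mv_nf_2ab (C : Ctx q M H) (t1 c1 t2 t3 c2 c3 θ : K) :
    ∃ A B : K, Mv (NFU q t1 c1 t2 t3 c2 c3) (X2ab q θ) (P3 q θ A B) := by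
  refine ⟨t1 * θ ^ (q ^ 2) + t1 ^ q * θ + t1 ^ (q ^ 2) * θ ^ q,
    t2 * θ ^ (q ^ 2) + t2 ^ q * θ + t2 ^ (q ^ 2) * θ ^ q, ?_⟩
  set A := t1 * θ ^ (q ^ 2) + t1 ^ q * θ + t1 ^ (q ^ 2) * θ ^ q with hA
  set B := t2 * θ ^ (q ^ 2) + t2 ^ q * θ + t2 ^ (q ^ 2) * θ ^ q with hB'
  have s1 : Mv (X 23 c3 : GG K) (X2ab q θ) (X2ab q θ) := Mv.of_comm (comm_23 q c3 θ).2.2.1
  have s2 : Mv (X 22 c2 : GG K) (X2ab q θ) (X2ab q θ) := Mv.of_comm (comm_22 q c2 θ).2.2.1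
  have s3 : Mv (X2ab q t3) (X2ab q θ) (X2ab q θ) := by
    apply Mv.of_comm
    show X2ab q t3 * X2ab q θ = X2ab q θ * X2ab q t3
    rw [← X2ab_add q C.hq C.hK, ← X2ab_add q C.hq C.hK, add_comm]
  have s4 : Mv (Xab q t2) (X2ab q θ) (X2ab q θ * X 23 B) := Mv.of_conj (conj_ab_2ab q C.hq C.hK t2 θ)
  have s5 : Mv (X 14 c1 : GG K) (X2ab q θ * X 23 B) (X2ab q θ * X 23 B) :=
    (Mv.of_comm (comm_14 q c1 θ).2).prod (Mv.of_comm (comm_23 q B c1).2.2.2.symm)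
  have s6 : Mv (Xa q t1) (X2ab q θ * X 23 B) (X2ab q θ * X 22 A * X 23 B) :=
    (Mv.of_conj (conj_a_2ab q C.hq C.hK t1 θ)).prod (Mv.of_comm (comm_23 q B t1).1.symm)
  have := s1.comp (s2.comp (s3.comp (s4.comp (s5.comp s6))))
  unfold NFU P3
  exact this

/-- `NFU … * x_{3a+b}(y) = x_{3a+b}(y) x_{3a+2b}(c₁ y) * NFU …` -/
theorem mv_nf_22 (C : Ctx q M H) (t1 c1 t2 t3 c2 c3 y : K) :
    Mv (NFU q t1 c1 t2 t3 c2 c3) (X 22 y : GG K) (X 22 y * X 23 (c1 * y)) := by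
  have s1 : Mv (X 23 c3 : GG K) (X 22 y) (X 22 y) := Mv.of_comm (comm_22 q y c3).2.2.2.symm
  have s2 : Mv (X 22 c2 : GG K) (X 22 y) (X 22 y) := by
    apply Mv.of_comm
    show (X 22 c2 : GG K) * X 22 y = X 22 y * X 22 c2
    rw [← X_add, ← X_add, add_comm]
  have s3 : Mv (X2ab q t3) (X 22 y : GG K) (X 22 y) := Mv.of_comm (comm_22 q y t3).2.2.1.symm
  have s4 : Mv (Xab q t2) (X 22 y : GG K) (X 22 y) := Mv.of_comm (comm_22 q y t2).2.1.symm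
  have s5 : Mv (X 14 c1 : GG K) (X 22 y) (X 22 y * X 23 (c1 * y)) := Mv.of_conj (conj_14_22 c1 y)
  have s6 : Mv (Xa q t1) (X 22 y * X 23 (c1 * y) : GG K) (X 22 y * X 23 (c1 * y)) :=
    (Mv.of_comm (comm_22 q y t1).1.symm).prod (Mv.of_comm (comm_23 q _ t1).1.symm)
  have := s1.comp (s2.comp (s3.comp (s4.comp (s5.comp s6))))
  unfold NFU
  exact this

/-- elements of `B¹` normalise `X_ρ` -/
theorem mv_B1_23 (C : Ctx q M H) (b : GG K) (hb : b ∈ B1 K q) :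
    ∃ χ : K, χ ≠ 0 ∧ χ ^ q = χ ∧ ∀ c : K, Mv b (X 23 c) (X 23 (χ * c)) := by
  obtain ⟨u, hu, h, hh', rfl⟩ := B1_dec' q C.hq C.hK b hb
  obtain ⟨χ, hχ0, hχ, hc⟩ := T1_conj_long q C.hq C.hK h hh' 23 (by simp)
  refine ⟨χ, hχ0, hχ, fun c => ?_⟩
  exact (Mv.of_conj (hc c)).comp (Mv.of_comm (X23_central u hu.1 _))

/-- **BK**: `H ∩ B¹ ≤ M` -/
theorem bk (C : Ctx q M H) (hR : RootRat q H) (g : GG K) (hg : g ∈ B1 K q) (hH : g ∈ H) : g ∈ M := by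
  obtain ⟨u, hu, h, hh', rfl⟩ := B1_dec' q C.hq C.hK g hg
  obtain ⟨t1, c1, t2, t3, c2, c3, hc1, hc2, hc3, rfl⟩ := U1_nf q C.hq C.hK u hu
  obtain ⟨θ, hθ, hrat⟩ := T1_2ab q C.hq C.hK h hh'
  obtain ⟨A, B, hm⟩ := mv_nf_2ab C t1 c1 t2 t3 c2 c3 θ
  have hm2 := ((Mv.of_conj hθ).comp hm).conj
  have h1 : P3 q θ A B ∈ H := by
    rw [← hm2]
    have := C.hMH (X2ab_mem_M C 1 (k_one C))
    exact H.mul_mem (H.mul_mem hH this) (H.inv_mem hH)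
  have hθk := (uk_C C hR _ _ _ h1).1
  have hhM : h ∈ M := mem_M C hh'.2 (hrat hθk)
  have huH : NFU q t1 c1 t2 t3 c2 c3 ∈ H := by
    have e : NFU q t1 c1 t2 t3 c2 c3 = (NFU q t1 c1 t2 t3 c2 c3 * h) * h⁻¹ := by group
    rw [e]
    exact H.mul_mem hH (H.inv_mem (C.hMH hhM))
  exact M.mul_mem (uk_mem C hR _ hu huH) hhM

/-! ## the conjugates of the long root group `X_ρ(k)` -/

theorem rk_table : ∀ k < 12, h8sW chevD4 (h8odW k) 23 =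
    ([23, 22, 23, 22, 14, 9, 14, 9, 1, 0, 1, 0] : List ℕ).getD k 0 := by
  decide

theorem cj_of_bruhat (C : Ctx q M H) (g b1 b2 : GG K) (k : ℕ) (hk : k < 12) (hb2 : b2 ∈ B1 K q)
    (hg : g = b1 * h8nWU chevD4 hB (h8odW k) * b2) : Cj q g b1 (h8sW chevD4 (h8odW k) 23) := by
  obtain ⟨χ, hχ0, hχ, hc⟩ := mv_B1_23 C b2 hb2
  obtain ⟨ε, hε, hn⟩ := nk_X23 (K := K) k hk
  obtain ⟨hεq, hε0, -⟩ := k_eps C hε
  refine ⟨ε * χ, mul_ne_zero hε0 hχ0, k_mul C hεq hχ, fun c _ => ?_⟩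
  have m := ((hc c).comp (Mv.of_conj (hn (χ * c)))).conj
  rw [mul_assoc ε]
  rw [← m, hg]
  group

/-- reduction with `n_b` -/
theorem red_nb (C : Ctx q M H) (p : ℕ × ℕ) (hp : p ∈ [(22, 23), (23, 22), (9, 14), (0, 1), (14, 9), (1, 0)])
    (g b : GG K) (hg : g ∈ H) (hb : b ∈ B1 K q) (hC : Cj q g b p.1) :
    ∃ g' b' : GG K, g' ∈ H ∧ b' ∈ B1 K q ∧ Cj q g' b' p.2 ∧ (g' ∈ M → g ∈ M) := by
  obtain ⟨κ, hκ0, hκ, hc⟩ := hC
  obtain ⟨u, hu, h, hh', rfl⟩ := B1_dec' q C.hq C.hK b hb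
  obtain ⟨c0, hc0, u', hu', rfl, hnu⟩ := U1_split q C.hq C.hK u hu
  obtain ⟨ε, hε, hn⟩ := nb_X (K := K) p hp
  obtain ⟨hεq, hε0, -⟩ := k_eps C hε
  have hnbM := nb_mem_M C
  have hxM := Xl_mem_M C 14 (by simp) c0 hc0
  refine ⟨nb * (X 14 c0)⁻¹ * g, (nb * u' * nb⁻¹) * (nb * h * nb⁻¹),
    H.mul_mem (H.mul_mem (C.hMH hnbM) (H.inv_mem (C.hMH hxM))) hg,
    Subgroup.mul_mem _ ((B1_mem q C.hq C.hK).1 hnu) ((B1_mem q C.hq C.hK).2 (n_T1 q C.hq C.hK h hh').1),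
    ⟨ε * κ, mul_ne_zero hε0 hκ0, k_mul C hεq hκ, fun c hc' => ?_⟩, fun hM => ?_⟩
  · have e1 : nb * (X 14 c0)⁻¹ * g * X 23 c * (nb * (X 14 c0)⁻¹ * g)⁻¹ =
        nb * (X 14 c0)⁻¹ * (g * X 23 c * g⁻¹) * X 14 c0 * nb⁻¹ := by group
    rw [e1, hc c hc', mul_assoc ε, ← hn (κ * c)]
    group
  · have e : g = X 14 c0 * (nb⁻¹ * (nb * (X 14 c0)⁻¹ * g)) := by group
    rw [e]
    exact M.mul_mem hxM (M.mul_mem (M.inv_mem hnbM) hM)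

/-- reduction with `n_a`, when the `a`-coordinate of `b` is rational -/
theorem red_nJ (C : Ctx q M H) (p : ℕ × ℕ) (hp : p ∈ [(14, 22), (22, 14), (23, 23), (9, 1), (1, 9), (0, 0)])
    (g : GG K) (hg : g ∈ H) (t1 c1 t2 t3 c2 c3 : K) (hc1 : c1 ^ q = c1) (hc2 : c2 ^ q = c2)
    (hc3 : c3 ^ q = c3) (h : GG K) (hh' : h ∈ T1 K q)
    (hC : Cj q g (NFU q t1 c1 t2 t3 c2 c3 * h) p.1) (ht1 : t1 ^ q = t1) :
    ∃ g' b' : GG K, g' ∈ H ∧ b' ∈ B1 K q ∧ Cj q g' b' p.2 ∧ (g' ∈ M → g ∈ M) := by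
  obtain ⟨κ, hκ0, hκ, hc⟩ := hC
  obtain ⟨ε, hε, hn⟩ := nJ_X (K := K) p hp
  obtain ⟨hεq, hε0, -⟩ := k_eps C hε
  have hnJM := nJ_mem_M C
  have hxM := Xa_mem_M C t1 ht1
  set v := X 14 c1 * Xab q t2 * X2ab q t3 * X 22 c2 * X 23 c3 with hv
  have hnv := (nJ_conj_Qa q C.hq C.hK c1 t2 t3 c2 c3 hc1 hc2 hc3).2
  have eN : NFU q t1 c1 t2 t3 c2 c3 = Xa q t1 * v := by unfold NFU; rw [hv]; group
  refine ⟨nJ * (Xa q t1)⁻¹ * g, (nJ * v * nJ⁻¹) * (nJ * h * nJ⁻¹),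
    H.mul_mem (H.mul_mem (C.hMH hnJM) (H.inv_mem (C.hMH hxM))) hg,
    Subgroup.mul_mem _ ((B1_mem q C.hq C.hK).1 hnv) ((B1_mem q C.hq C.hK).2 (n_T1 q C.hq C.hK h hh').2.1),
    ⟨ε * κ, mul_ne_zero hε0 hκ0, k_mul C hεq hκ, fun c hc' => ?_⟩, fun hM => ?_⟩
  · have e1 : nJ * (Xa q t1)⁻¹ * g * X 23 c * (nJ * (Xa q t1)⁻¹ * g)⁻¹ =
        nJ * (Xa q t1)⁻¹ * (g * X 23 c * g⁻¹) * Xa q t1 * nJ⁻¹ := by group
    rw [e1, hc c hc', mul_assoc ε, ← hn (κ * c), eN]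
    group
  · have e : g = Xa q t1 * (nJ⁻¹ * (nJ * (Xa q t1)⁻¹ * g)) := by group
    rw [e]
    exact M.mul_mem hxM (M.mul_mem (M.inv_mem hnJM) hM)

/-- **L1**: an element of `H` normalising `X_ρ(k)` lies in `M` -/
theorem L1 (C : Ctx q M H) (hR : RootRat q H) (g b : GG K) (hg : g ∈ H) (hb : b ∈ B1 K q)
    (hC : Cj q g b 23) : g ∈ M := by
  obtain ⟨κ, hκ0, hκ, hc⟩ := hC
  obtain ⟨χ, hχ0, hχ, hmb⟩ := mv_B1_23 C b hb
  -- `g X_ρ(1) g⁻¹ = X_ρ(χ κ)`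
  have h1 : g * X 23 1 * g⁻¹ = X 23 (χ * (κ * 1)) := by
    rw [hc 1 (k_one C), (hmb (κ * 1)).conj]
  obtain ⟨k, hk, b1, hb1, b2, hb2, hgk⟩ := bruhat12 q C.hq C.hK g (C.hHG hg)
  have hb1' : b1 ∈ B1 K q := hb1
  have hb2' : b2 ∈ B1 K q := hb2
  obtain ⟨κ2, hκ20, hκ2, hc2⟩ := cj_of_bruhat C g b1 b2 k hk hb2' hgk
  obtain ⟨χ1, hχ10, hχ1, hmb1⟩ := mv_B1_23 C b1⁻¹ (Subgroup.inv_mem _ hb1')
  -- `X_{r_k}(κ₂) = X_ρ(…)`
  have h2 : (X (h8sW chevD4 (h8odW k) 23) (κ2 * 1) : GG K) = X 23 (χ1 * (χ * (κ * 1))) := by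
    have e : (X (h8sW chevD4 (h8odW k) 23) (κ2 * 1) : GG K) = b1⁻¹ * (g * X 23 1 * g⁻¹) * b1⁻¹⁻¹ := by
      rw [hc2 1 (k_one C)]; group
    rw [e, h1, (hmb1 _).conj]
  have hrk := rk_table k hk
  have hr23 : h8sW chevD4 (h8odW k) 23 = 23 := by
    refine X_eq_X23 (K := K) _ ?_ _ _ (mul_ne_zero hκ20 one_ne_zero) h2
    rw [hrk]
    interval_cases k <;> simp
  have hk02 : k = 0 ∨ k = 2 := by
    rw [hr23] at hrk
    interval_cases k <;> simp at hrk <;> simp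
  rcases hk02 with rfl | rfl
  · -- `g ∈ B¹`
    apply bk C hR g _ hg
    rw [hgk]
    have : (h8nWU chevD4 hB (h8odW 0) : GG K) = 1 := rfl
    rw [this, mul_one]
    exact Subgroup.mul_mem _ hb1' hb2'
  · -- `g = b₁ n_a b₂`
    have hn2 : (h8nWU chevD4 hB (h8odW 2) : GG K) = nJ := rfl
    rw [hn2] at hgk
    obtain ⟨u1, hu1, h1', hh1, rfl⟩ := B1_dec' q C.hq C.hK b1 hb1'
    obtain ⟨t1, c1, t2, t3, c2, c3, hc1, hc2', hc3, rfl⟩ := U1_nf q C.hq C.hK u1 hu1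
    set v := X 14 c1 * Xab q t2 * X2ab q t3 * X 22 c2 * X 23 c3 with hv
    have hnv := (nJ_conj_Qa q C.hq C.hK c1 t2 t3 c2 c3 hc1 hc2' hc3).1
    have eN : NFU q t1 c1 t2 t3 c2 c3 = Xa q t1 * v := by unfold NFU; rw [hv]; group
    set b2' := (nJ⁻¹ * v * nJ) * (nJ⁻¹ * h1' * nJ) * b2 with hb2'def
    have hb2'B : b2' ∈ B1 K q :=
      Subgroup.mul_mem _ (Subgroup.mul_mem _ ((B1_mem q C.hq C.hK).1 hnv)
        ((B1_mem q C.hq C.hK).2 (n_T1 q C.hq C.hK h1' hh1).2.2)) hb2'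
    have hg' : g = Xa q t1 * nJ * b2' := by
      rw [hgk, eN, hb2'def]; group
    -- conjugate `X 22 1`
    obtain ⟨u2, hu2, h2', hh2, hb2'e⟩ := B1_dec' q C.hq C.hK b2' hb2'B
    obtain ⟨s1, d1, s2, s3, d2, d3, hd1, hd2, hd3, rfl⟩ := U1_nf q C.hq C.hK u2 hu2
    obtain ⟨χ2, hχ20, hχ2, hc22⟩ := T1_conj_long q C.hq C.hK h2' hh2 22 (by simp)
    obtain ⟨ε1, hε1, hn1⟩ := nJ_X (K := K) (22, 14) (by simp)
    obtain ⟨ε2, hε2, hn2'⟩ := nJ_X (K := K) (23, 23) (by simp)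
    obtain ⟨hε1q, hε10, -⟩ := k_eps C hε1
    obtain ⟨hε2q, hε20, -⟩ := k_eps C hε2
    have hy : (χ2 * 1) ^ q = χ2 * 1 := k_mul C hχ2 (k_one C)
    have m1 : Mv b2' (X 22 1 : GG K) (X 22 (χ2 * 1) * X 23 (d1 * (χ2 * 1))) := by
      rw [hb2'e]
      exact (Mv.of_conj (hc22 1)).comp (mv_nf_22 C _ _ _ _ _ _ _)
    have m2 : Mv (nJ : GG K) (X 22 (χ2 * 1) * X 23 (d1 * (χ2 * 1)))
        (X 14 (ε1 * (χ2 * 1)) * X 23 (ε2 * (d1 * (χ2 * 1)))) :=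
      (Mv.of_conj (hn1 _)).prod (Mv.of_conj (hn2' _))
    have hu0 : (ε1 * (χ2 * 1)) ^ q = ε1 * (χ2 * 1) := k_mul C hε1q hy
    have hu00 : ε1 * (χ2 * 1) ≠ 0 := mul_ne_zero hε10 (mul_ne_zero hχ20 one_ne_zero)
    have m3 : Mv (Xa q t1) (X 14 (ε1 * (χ2 * 1)) * X 23 (ε2 * (d1 * (χ2 * 1))))
        (X 14 (ε1 * (χ2 * 1)) * Xab q (-(t1 * (ε1 * (χ2 * 1)))) *
          X2ab q (-(t1 * t1 ^ (q ^ 2) * (ε1 * (χ2 * 1)))) * X 22 (-(Nm q t1 * (ε1 * (χ2 * 1)))) *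
          X 23 (-(Nm q t1 * (ε1 * (χ2 * 1)) ^ 2)) * X 23 (ε2 * (d1 * (χ2 * 1)))) :=
      (Mv.of_conj (conj_a_14 q C.hq C.hK t1 _ hu0)).prod (Mv.of_comm (comm_23 q _ t1).1.symm)
    have m := (m1.comp (m2.comp m3)).conj
    have hmem : g * X 22 1 * g⁻¹ ∈ H :=
      H.mul_mem (H.mul_mem hg (Xl_mem_H C 22 (by simp) 1 (k_one C))) (H.inv_mem hg)
    rw [hg', m] at hmem
    have hy' : Xab q (-(t1 * (ε1 * (χ2 * 1)))) * P3 q (-(t1 * t1 ^ (q ^ 2) * (ε1 * (χ2 * 1))))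
        (-(Nm q t1 * (ε1 * (χ2 * 1)))) (-(Nm q t1 * (ε1 * (χ2 * 1)) ^ 2) + ε2 * (d1 * (χ2 * 1))) ∈ H := by
      have e' : Xab q (-(t1 * (ε1 * (χ2 * 1)))) * P3 q (-(t1 * t1 ^ (q ^ 2) * (ε1 * (χ2 * 1))))
          (-(Nm q t1 * (ε1 * (χ2 * 1)))) (-(Nm q t1 * (ε1 * (χ2 * 1)) ^ 2) + ε2 * (d1 * (χ2 * 1))) =
          (X 14 (ε1 * (χ2 * 1)))⁻¹ * (X 14 (ε1 * (χ2 * 1)) * Xab q (-(t1 * (ε1 * (χ2 * 1)))) *
          X2ab q (-(t1 * t1 ^ (q ^ 2) * (ε1 * (χ2 * 1)))) * X 22 (-(Nm q t1 * (ε1 * (χ2 * 1)))) *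
          X 23 (-(Nm q t1 * (ε1 * (χ2 * 1)) ^ 2)) * X 23 (ε2 * (d1 * (χ2 * 1)))) := by
        unfold P3
        rw [X_add]; group
      rw [e']
      exact H.mul_mem (H.inv_mem (Xl_mem_H C 14 (by simp) _ hu0)) hmem
    have ht1 : t1 ^ q = t1 := by
      have h1 := k_neg C (uk_B C hR _ _ _ _ hy').1
      rw [neg_neg, mul_comm] at h1
      exact k_of_mul C hu0 hu00 h1
    have hxM := Xa_mem_M C t1 ht1
    have hnJM := nJ_mem_M C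
    have hb2'H : b2' ∈ H := by
      have e : b2' = nJ⁻¹ * ((Xa q t1)⁻¹ * g) := by rw [hg']; group
      rw [e]
      exact H.mul_mem (H.inv_mem (C.hMH hnJM)) (H.mul_mem (H.inv_mem (C.hMH hxM)) hg)
    rw [hg']
    exact M.mul_mem (M.mul_mem hxM hnJM) (bk C hR b2' hb2'B hb2'H)

/-- **L2** -/
theorem L2 (C : Ctx q M H) (hR : RootRat q H) (g b : GG K) (hg : g ∈ H) (hb : b ∈ B1 K q)
    (hC : Cj q g b 22) : g ∈ M := by
  obtain ⟨g', b', hg', hb', hC', himp⟩ := red_nb C (22, 23) (by simp) g b hg hb hC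
  exact himp (L1 C hR g' b' hg' hb' hC')

/-- **L3** -/
theorem L3 (C : Ctx q M H) (hR : RootRat q H) (g b : GG K) (hg : g ∈ H) (hb : b ∈ B1 K q)
    (hC : Cj q g b 14) : g ∈ M := by
  obtain ⟨u, hu, h, hh', rfl⟩ := B1_dec' q C.hq C.hK b hb
  obtain ⟨t1, c1, t2, t3, c2, c3, hc1, hc2, hc3, rfl⟩ := U1_nf q C.hq C.hK u hu
  have ht1 : t1 ^ q = t1 := by
    obtain ⟨κ, hκ0, hκ, hc⟩ := hC
    have hy : (κ * 1) ^ q = κ * 1 := k_mul C hκ (k_one C)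
    refine sigma14 C hR t1 c1 t2 t3 c2 c3 h hh' (κ * 1) hy (mul_ne_zero hκ0 one_ne_zero) ?_
    rw [← hc 1 (k_one C)]
    exact H.mul_mem (H.mul_mem hg (Xl_mem_H C 23 (by simp) 1 (k_one C))) (H.inv_mem hg)
  obtain ⟨g', b', hg', hb', hC', himp⟩ :=
    red_nJ C (14, 22) (by simp) g hg t1 c1 t2 t3 c2 c3 hc1 hc2 hc3 h hh' hC ht1
  exact himp (L2 C hR g' b' hg' hb' hC')

/-- **L4** -/
theorem L4 (C : Ctx q M H) (hR : RootRat q H) (g b : GG K) (hg : g ∈ H) (hb : b ∈ B1 K q)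
    (hC : Cj q g b 9) : g ∈ M := by
  obtain ⟨g', b', hg', hb', hC', himp⟩ := red_nb C (9, 14) (by simp) g b hg hb hC
  exact himp (L3 C hR g' b' hg' hb' hC')

/-- **L5** -/
theorem L5 (C : Ctx q M H) (hR : RootRat q H) (g b : GG K) (hg : g ∈ H) (hb : b ∈ B1 K q)
    (hC : Cj q g b 1) : g ∈ M := by
  obtain ⟨χ, hχ0, hχ, hmb⟩ := mv_B1_23 C b hb
  obtain ⟨u, hu, h, hh', rfl⟩ := B1_dec' q C.hq C.hK b hb
  obtain ⟨t1, c1, t2, t3, c2, c3, hc1, hc2, hc3, rfl⟩ := U1_nf q C.hq C.hK u hu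
  have ht1 : t1 ^ q = t1 := by
    obtain ⟨κ, hκ0, hκ, hc⟩ := hC
    set b := NFU q t1 c1 t2 t3 c2 c3 * h with hbdef
    have hy : (1 * (κ * 1)) ^ q = 1 * (κ * 1) := k_mul C (k_one C) (k_mul C hκ (k_one C))
    refine sigma14 C hR t1 c1 t2 t3 c2 c3 h hh' (1 * (κ * 1)) hy
      (mul_ne_zero one_ne_zero (mul_ne_zero hκ0 one_ne_zero)) ?_
    rw [← hbdef]
    -- `y = b X_1(κ) b⁻¹ ∈ H`, `b X_ρ(1) b⁻¹ = X_ρ(χ) ∈ H`
    have hyH : b * X 1 (κ * 1) * b⁻¹ ∈ H := by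
      rw [← hc 1 (k_one C)]
      exact H.mul_mem (H.mul_mem hg (Xl_mem_H C 23 (by simp) 1 (k_one C))) (H.inv_mem hg)
    have hzH : b * X 23 1 * b⁻¹ ∈ H := by
      rw [(hmb 1).conj]
      exact Xl_mem_H C 23 (by simp) _ (k_mul C hχ (k_one C))
    have hD := ident_D (K := K) 1 (κ * 1)
    have e : b * X 14 (1 * (κ * 1)) * b⁻¹ =
        (b * X 1 (κ * 1) * b⁻¹)⁻¹ * (b * X 23 1 * b⁻¹) * (b * X 1 (κ * 1) * b⁻¹) * (b * X 23 1 * b⁻¹)⁻¹ := by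
      have : (X 14 (1 * (κ * 1)) : GG K) = (X 1 (κ * 1))⁻¹ * (X 23 1 * X 1 (κ * 1)) * (X 23 1)⁻¹ := by
        rw [hD]; group
      rw [this]; group
    rw [e]
    exact H.mul_mem (H.mul_mem (H.mul_mem (H.inv_mem hyH) hzH) hyH) (H.inv_mem hzH)
  obtain ⟨g', b', hg', hb', hC', himp⟩ :=
    red_nJ C (1, 9) (by simp) g hg t1 c1 t2 t3 c2 c3 hc1 hc2 hc3 h hh' hC ht1
  exact himp (L4 C hR g' b' hg' hb' hC')

/-- **L6** -/
theorem L6 (C : Ctx q M H) (hR : RootRat q H) (g b : GG K) (hg : g ∈ H) (hb : b ∈ B1 K q)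
    (hC : Cj q g b 0) : g ∈ M := by
  obtain ⟨g', b', hg', hb', hC', himp⟩ := red_nb C (0, 1) (by simp) g b hg hb hC
  exact himp (L5 C hR g' b' hg' hb' hC')

/-- **CORE**: if the short root elements of `H` are rational then `H ≤ M` -/
theorem core_main (C : Ctx q M H) (hR : RootRat q H) : H ≤ M := by
  intro g hg
  obtain ⟨k, hk, b1, hb1, b2, hb2, hgk⟩ := bruhat12 q C.hq C.hK g (C.hHG hg)
  have hb1' : b1 ∈ B1 K q := hb1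
  have hb2' : b2 ∈ B1 K q := hb2
  have hC := cj_of_bruhat C g b1 b2 k hk hb2' hgk
  have hrk := rk_table k hk
  rw [hrk] at hC
  interval_cases k
  · exact L1 C hR g b1 hg hb1' hC
  · exact L2 C hR g b1 hg hb1' hC
  · exact L1 C hR g b1 hg hb1' hC
  · exact L2 C hR g b1 hg hb1' hC
  · exact L3 C hR g b1 hg hb1' hC
  · exact L4 C hR g b1 hg hb1' hC
  · exact L3 C hR g b1 hg hb1' hC
  · exact L4 C hR g b1 hg hb1' hC
  · exact L5 C hR g b1 hg hb1' hC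
  · exact L6 C hR g b1 hg hb1' hC
  · exact L5 C hR g b1 hg hb1' hC
  · exact L6 C hR g b1 hg hb1' hC

/-! ## the field step -/

/-- the parameters of the short root elements `x_a(t)` of `H` -/
def AH (q : ℕ) (C : Ctx q M H) : AddSubgroup K where
  carrier := {t | Xa q t ∈ H}
  zero_mem' := by
    show Xa q 0 ∈ H
    rw [(tw_zero q C.hq).1]; exact H.one_mem
  add_mem' := by
    intro s t hs ht
    show Xa q (s + t) ∈ H
    rw [Xa_add q C.hq C.hK]; exact H.mul_mem hs ht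
  neg_mem' := by
    intro t ht
    show Xa q (-t) ∈ H
    rw [Xa_neg C]; exact H.inv_mem ht

theorem mem_AH (C : Ctx q M H) (t : K) : t ∈ AH q C ↔ Xa q t ∈ H := Iff.rfl

theorem AH_smul (C : Ctx q M H) (c t : K) (hc : c ^ q = c) (ht : t ∈ AH q C) : c * t ∈ AH q C := by
  by_cases hc0 : c = 0
  · rw [hc0, zero_mul]; exact (AH q C).zero_mem
  · have hci : c⁻¹ ^ q = c⁻¹ := k_inv C hc
    obtain ⟨hG, hcj⟩ := hh14_Xa q C.hq C.hK c⁻¹ (inv_ne_zero hc0) hci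
    have hM : hh 14 c⁻¹ ∈ M := mem_M C hG (rat_hh q C.hq C.hK 14 (by norm_num) _ (inv_ne_zero hc0) hci)
    rw [mem_AH] at ht ⊢
    have := hcj t
    rw [inv_inv] at this
    rw [← this]
    exact H.mul_mem (H.mul_mem (C.hMH hM) ht) (H.inv_mem (C.hMH hM))

theorem AH_inv (C : Ctx q M H) (t : K) (ht : t ∈ AH q C) (ht0 : t ≠ 0) : t⁻¹ ∈ AH q C := by
  have htH : Xa q t ∈ H := ht
  have h14 : (X 14 (1 : K) : GG K) ∈ H := Xl_mem_H C 14 (by simp) 1 (k_one C)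
  have hN : Nm q t ^ q = Nm q t := Nm_pow q C.hK t
  have hN0 : Nm q t ≠ 0 := Nm_ne_zero q t ht0
  -- `[x_a(t), x_b(1)]`
  have h1 : Xa q t * X 14 1 * (Xa q t)⁻¹ ∈ H := H.mul_mem (H.mul_mem htH h14) (H.inv_mem htH)
  rw [conj_a_14 q C.hq C.hK t 1 (k_one C)] at h1
  -- `x_{a+b}(-t) ∈ H`
  obtain ⟨ε, hε, hnb⟩ := nb_Xa q C.hq C.hK
  obtain ⟨hεq, hε0, hεε⟩ := k_eps C hε
  have hnbH : (nb : GG K) ∈ H := C.hMH (nb_mem_M C)
  have h2 : Xab q (-(t * 1)) ∈ H := by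
    have e : Xab q (-(t * 1)) = nb * Xa q (ε * -(t * 1)) * nb⁻¹ := by
      rw [hnb, ← mul_assoc, hεε, one_mul]
    rw [e]
    refine H.mul_mem (H.mul_mem hnbH ?_) (H.inv_mem hnbH)
    have : ε * -(t * 1) ∈ AH q C := AH_smul C ε _ hεq ((AH q C).neg_mem (by rwa [mul_one]))
    exact this
  -- `x_{2a+b}(-(t t^(q²))) ∈ H`
  have h3 : X2ab q (-(t * t ^ (q ^ 2) * 1)) ∈ H := by
    have e : X2ab q (-(t * t ^ (q ^ 2) * 1)) = (Xab q (-(t * 1)))⁻¹ * ((X 14 (1 : K))⁻¹ *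
        (X 14 1 * Xab q (-(t * 1)) * X2ab q (-(t * t ^ (q ^ 2) * 1)) * X 22 (-(Nm q t * 1)) *
          X 23 (-(Nm q t * 1 ^ 2)))) * (X 23 (-(Nm q t * 1 ^ 2)))⁻¹ * (X 22 (-(Nm q t * 1)))⁻¹ := by
      group
    rw [e]
    have hk1 : (-(Nm q t * 1)) ^ q = -(Nm q t * 1) := k_neg C (k_mul C hN (k_one C))
    have hk2 : (-(Nm q t * 1 ^ 2)) ^ q = -(Nm q t * 1 ^ 2) := by
      rw [one_pow]; exact hk1
    exact H.mul_mem (H.mul_mem (H.mul_mem (H.inv_mem h2) (H.mul_mem (H.inv_mem h14) h1))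
      (H.inv_mem (Xl_mem_H C 23 (by simp) _ hk2))) (H.inv_mem (Xl_mem_H C 22 (by simp) _ hk1))
  -- `x_{a+b}(± t^q t^(q²)) ∈ H`
  obtain ⟨ε', hε', hnJ⟩ := nJ_X2ab q C.hq C.hK
  obtain ⟨hε'q, hε'0, hε'ε'⟩ := k_eps C hε'
  have hnJH : (nJ : GG K) ∈ H := C.hMH (nJ_mem_M C)
  have h4 : Xab q (ε' * (-(t * t ^ (q ^ 2) * 1)) ^ (q ^ 2)) ∈ H := by
    rw [← hnJ]
    exact H.mul_mem (H.mul_mem hnJH h3) (H.inv_mem hnJH)
  -- back to `x_a`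
  have h5 : ε * (ε' * (-(t * t ^ (q ^ 2) * 1)) ^ (q ^ 2)) ∈ AH q C := by
    rw [mem_AH]
    have e : Xa q (ε * (ε' * (-(t * t ^ (q ^ 2) * 1)) ^ (q ^ 2))) =
        nb⁻¹ * Xab q (ε' * (-(t * t ^ (q ^ 2) * 1)) ^ (q ^ 2)) * nb := by
      have := hnb (ε * (ε' * (-(t * t ^ (q ^ 2) * 1)) ^ (q ^ 2)))
      have e2 : ε * (ε * (ε' * (-(t * t ^ (q ^ 2) * 1)) ^ (q ^ 2))) =
          ε' * (-(t * t ^ (q ^ 2) * 1)) ^ (q ^ 2) := by
        rw [← mul_assoc ε ε, hεε, one_mul]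
      rw [e2] at this
      rw [← this]; group
    rw [e]
    exact H.mul_mem (H.mul_mem (H.inv_mem hnbH) h4) hnbH
  -- `t⁻¹ = Nm(t)⁻¹ t^q t^(q²)`
  have h6 : (-(t * t ^ (q ^ 2) * 1)) ^ (q ^ 2) = (-1) ^ (q ^ 2) * (t ^ (q ^ 2) * t ^ q) := by
    have e4 : (t ^ (q ^ 2)) ^ (q ^ 2) = t ^ q := by
      rw [← pow_mul]
      have : q ^ 2 * q ^ 2 = q ^ 3 * q := by ring
      rw [this, pow_mul, pow_q3 q C.hK]
    rw [mul_one, neg_eq_neg_one_mul, mul_pow, mul_pow, e4]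
  have hm1 : ((-1 : K) ^ (q ^ 2)) ^ q = (-1) ^ (q ^ 2) := by
    rw [← pow_mul, mul_comm, pow_mul, (kq_ops q C.hq C.hK).2.2.2.2.2.2.1]
  have hm10 : ((-1 : K) ^ (q ^ 2)) ≠ 0 := pow_ne_zero _ (by simp)
  set δ := ε * (ε' * (-1) ^ (q ^ 2)) with hδ
  have hδq : δ ^ q = δ := k_mul C hεq (k_mul C hε'q hm1)
  have hδ0 : δ ≠ 0 := mul_ne_zero hε0 (mul_ne_zero hε'0 hm10)
  have h7 : δ * (t ^ (q ^ 2) * t ^ q) ∈ AH q C := by
    have e : δ * (t ^ (q ^ 2) * t ^ q) = ε * (ε' * (-(t * t ^ (q ^ 2) * 1)) ^ (q ^ 2)) := by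
      rw [h6, hδ]; ring
    rw [e]; exact h5
  have h8 : t⁻¹ = ((Nm q t)⁻¹ * δ⁻¹) * (δ * (t ^ (q ^ 2) * t ^ q)) := by
    unfold Nm
    field_simp
  rw [h8]
  exact AH_smul C _ _ (k_mul C (k_inv C hN) (k_inv C hδq)) h7

/-- **FLD**: a short root element of `H` with non-rational parameter forces `H = G` -/
theorem fld_main (C : Ctx q M H) (hR : ¬ RootRat q H) : twistedD4 K q ≤ H := by
  unfold RootRat at hR
  rw [not_forall] at hR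
  obtain ⟨t₀, ht₀⟩ := hR
  rw [Classical.not_imp] at ht₀
  have hall : ∀ t : K, t ∈ AH q C :=
    alg_main q C.hq C.hK (AH q C) (fun c t hc ht => AH_smul C c t hc ht)
      ((mem_AH C 1).2 (C.hMH (Xa_mem_M C 1 (k_one C)))) (fun t ht ht0 => AH_inv C t ht ht0) t₀ ht₀.1 ht₀.2
  obtain ⟨ε, hε, hnJ⟩ := nJ_Xa q C.hq C.hK
  obtain ⟨hεq, hε0, hεε⟩ := k_eps C hε
  have hnJH : (nJ : GG K) ∈ H := C.hMH (nJ_mem_M C)
  apply gen_le q H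
  · intro c hc
    exact ⟨Xl_mem_H C 14 (by simp) c hc, Xl_mem_H C 9 (by simp) c hc⟩
  · intro t
    refine ⟨hall t, ?_⟩
    have e : Xma q t = nJ * Xa q (ε * t) * nJ⁻¹ := by
      rw [hnJ, ← mul_assoc, hεε, one_mul]
    rw [e]
    exact H.mul_mem (H.mul_mem hnJH (hall _)) (H.inv_mem hnJH)

/-- **MAIN** -/
theorem tdm_main (C : Ctx q M H) : H = M ∨ H = twistedD4 K q := by
  by_cases hR : RootRat q H
  · left
    exact le_antisymm (core_main C hR) C.hMH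
  · right
    exact le_antisymm C.hHG (fld_main C hR)

/-- `M ≠ G` -/
theorem tdm_ne (hq : IsPrimePow q) (hK : Fintype.card K = q ^ 3)
    (hM : ∀ g : GG K, g ∈ M ↔ g ∈ twistedD4 K q ∧ Rat q g) : M ≠ twistedD4 K q := by
  intro h
  obtain ⟨t, ht⟩ := (kq_ops (K := K) q hq hK).2.2.2.2.2.2.2
  have h1 : Xa q t ∈ twistedD4 K q := ((mem_G q hq hK).1 t).1.2
  rw [← h] at h1
  exact Xa_not_rat q hq hK t ht ((hM _).1 h1).2

end Asm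

end Cfsg.Agent.Lib.helper8.TDM
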