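import Cfsg.Agent.Lib.helper8.TDMI4

/-!
# Project TDM (S2192): superseded.  The rows I4 I5 I6 I7 are in `helper8.TDMI4`; the rows I1 I2 I3 I8 are
`Helper22.TDMI1`, `helper2.TDMI2`, `helper4.TDMI8`.  (This file used to contain duplicates of them.)
-/
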