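import Cfsg.Agent.Lib.helper7.TO.Basic
import Cfsg.Agent.Lib.helper6.TOSYMP3
import Cfsg.Agent.Lib.Helper11.TOKISO

/-!
# TO G1 (core): all Siegel elements of `A`-type, with the statements of SGALG4 / SGALG7 / SGALG8 as
hypotheses
-/

set_option autoImplicit false

namespace Cfsg.Agent.Lib.helper7.TO

open Matrix Cfsg.Agent.Lib.helper7.TP Cfsg.Agent.Lib.Helper28.SympAbs
open scoped Kronecker

variable {a b : ℕ} {F : Type*} [Field F]

/-- two elements with the same Siegel action are equal. -/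
theorem tog1_unique (C : Ctx a b F) (t t' : Matrix.GeneralLinearGroup (Fin a × Fin b) F)
    (p v : Fin a × Fin b → F) (c : F) (h : C.IsSgV t p v c) (h' : C.IsSgV t' p v c) : t = t' := by
  apply Units.ext
  rw [Matrix.ext_iff_mulVec]
  intro x
  rw [h x, h' x]

/-- the action of `kA α * kB β` on a pure tensor. -/
theorem tog1_kAkB_ten (α : Matrix.GeneralLinearGroup (Fin a) F)
    (β : Matrix.GeneralLinearGroup (Fin b) F) (u : Fin a → F) (w : Fin b → F) :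
    ((kA a b F α * kB a b F β : Matrix.GeneralLinearGroup (Fin a × Fin b) F) :
      Matrix (Fin a × Fin b) (Fin a × Fin b) F) *ᵥ ten u w =
      ten ((α : Matrix (Fin a) (Fin a) F) *ᵥ u) ((β : Matrix (Fin b) (Fin b) F) *ᵥ w) := by
  rw [Units.val_mul, ← Matrix.mulVec_mulVec, kB_mulVec_ten, kA_mulVec_ten]

/-- G1 with SGALG4 (`hconj`), SGALG7 (`hsmul`), SGALG8 (`hone`) as hypotheses. -/
theorem tog1_core (C : Ctx a b F)
    (hconj : ∀ (k t : Matrix.GeneralLinearGroup (Fin a × Fin b) F), k ∈ C.G →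
      ∀ (p v : Fin a × Fin b → F) (c : F), C.IsSgV t p v c →
      C.IsSgV (k * t * k⁻¹) ((k : Matrix (Fin a × Fin b) (Fin a × Fin b) F) *ᵥ p)
        ((k : Matrix (Fin a × Fin b) (Fin a × Fin b) F) *ᵥ v) c)
    (hsmul : ∀ (t : Matrix.GeneralLinearGroup (Fin a × Fin b) F) (p v : Fin a × Fin b → F)
      (c l : F), C.IsSgV t (l • p) v c ↔ C.IsSgV t p v (l * c))
    (hone : ∀ (t : Matrix.GeneralLinearGroup (Fin a × Fin b) F) (p v : Fin a × Fin b → F) (c : F),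
      C.IsSgV t p v c → (c = 0 ∨ p = 0 ∨ ∃ l : F, v = l • p) → t = 1)
    (M : Subgroup (Matrix.GeneralLinearGroup (Fin a × Fin b) F)) (hT : C.T1 ≤ M) (h : C.SgA M)
    (u : Fin a → F) (w z : Fin b → F) (c : F) (hwz : C.f₂ w z = 0)
    (t : Matrix.GeneralLinearGroup (Fin a × Fin b) F)
    (ht : C.IsSgV t (ten u w) (ten u z) c) : t ∈ M := by
  by_cases hc : c = 0
  · rw [hone t _ _ c ht (Or.inl hc)]
    exact M.one_mem
  by_cases hu : u = 0
  · rw [hone t _ _ c ht (Or.inr (Or.inl (by rw [hu, ten_zero_left])))]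
    exact M.one_mem
  by_cases hw : w = 0
  · rw [hone t _ _ c ht (Or.inr (Or.inl (by rw [hw, ten_zero_right])))]
    exact M.one_mem
  by_cases hz : ∃ l : F, z = l • w
  · obtain ⟨l, hl⟩ := hz
    rw [hone t _ _ c ht (Or.inr (Or.inr ⟨l, by rw [hl, ten_smul_right]⟩))]
    exact M.one_mem
  rw [not_exists] at hz
  obtain ⟨t₀, u₀, w₀, z₀, c₀, ht₀M, hu₀, hc₀, hw₀, hz₀, hwz₀, hS₀⟩ := h
  -- `α u₀ = u`
  have hW : ∀ x ∈ (⊤ : Submodule F (Fin a → F)), x ≠ 0 →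
      ∃ y ∈ (⊤ : Submodule F (Fin a → F)), C.f₁ x y ≠ 0 := by
    intro x _ hx
    obtain ⟨y, hy⟩ := (C.hf₁.nondegenerate x hx).2
    exact ⟨y, Submodule.mem_top, hy⟩
  obtain ⟨α, hα, hαu, -, -⟩ :=
    trans_vec C.hf₁ ⊤ hW u₀ u Submodule.mem_top Submodule.mem_top hu₀ hu
  -- `β w₀ = (c / c₀) w`, `β z₀ = z`
  have hd : c / c₀ ≠ 0 := div_ne_zero hc hc₀
  have hw' : (c / c₀) • w ≠ 0 := smul_ne_zero hd hw
  have hz' : ∀ l : F, z ≠ l • ((c / c₀) • w) := by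
    intro l hl
    exact hz (l * (c / c₀)) (by rw [hl, smul_smul])
  have hwz' : C.f₂ ((c / c₀) • w) z = 0 := by
    rw [C.hf₂.bilinear.smul_left, hwz, mul_zero]
  obtain ⟨β, hβ, hβw, hβz⟩ :=
    trans_ti_pair C.hf₂ w₀ z₀ ((c / c₀) • w) z hw₀ hz₀ hwz₀ hw' hz' hwz'
  set k : Matrix.GeneralLinearGroup (Fin a × Fin b) F := kA a b F α * kB a b F β with hk
  have hkT : k ∈ C.T1 := Subgroup.mul_mem _ (C.kA_mem_T1 hα) (C.kB_mem_T1 hβ)
  have hkM : k ∈ M := hT hkT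
  have hkG : k ∈ C.G := T1_le_G C hkT
  have e1 : (k : Matrix (Fin a × Fin b) (Fin a × Fin b) F) *ᵥ ten u₀ w₀ = (c / c₀) • ten u w := by
    rw [hk, tog1_kAkB_ten, hαu, hβw, ten_smul_right]
  have e2 : (k : Matrix (Fin a × Fin b) (Fin a × Fin b) F) *ᵥ ten u₀ z₀ = ten u z := by
    rw [hk, tog1_kAkB_ten, hαu, hβz]
  have h1 := hconj k t₀ hkG _ _ c₀ hS₀
  rw [e1, e2] at h1
  have h2 := (hsmul _ _ _ _ _).mp h1
  rw [div_mul_cancel₀ c hc₀] at h2
  rw [tog1_unique C t _ _ _ c ht h2]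
  exact M.mul_mem (M.mul_mem hkM ht₀M) (M.inv_mem hkM)

end Cfsg.Agent.Lib.helper7.TO
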