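import Mathlib
import Cfsg.Prelude.Def_ChevStructure
import Cfsg.Prelude.Def_ChevF4
import Cfsg.Prelude.Def_LieTwisted
import Cfsg.Agent.Lib.helper8.TWIF4A
import Cfsg.Agent.Lib.helper8.ChevTF32

/-!
# Project TWIF4 (S2184), piece FUSE0: `n_{w₀}` is conjugate to `n_a` in `²F₄(q)`
-/

set_option autoImplicit false

namespace Cfsg.Agent.Lib.helper8.TWIF4

open Cfsg.Lie Cfsg.Lie.ChevalleyDatum Cfsg.Agent.Lib.helper8

universe u

variable {K : Type u} [Field K]

/-- a word in the root elements `x_r(1)` -/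
def xW (hB : H8Base.{u} chevF4) (l : List ℕ) : GL chevF4.Idx K :=
  (l.map fun r => h8xU chevF4 hB r (1 : K)).prod

theorem xW_nil (hB : H8Base.{u} chevF4) : (xW hB [] : GL chevF4.Idx K) = 1 := rfl

theorem xW_cons (hB : H8Base.{u} chevF4) (r : ℕ) (l : List ℕ) :
    (xW hB (r :: l) : GL chevF4.Idx K) = h8xU chevF4 hB r 1 * xW hB l := by
  unfold xW
  rw [List.map_cons, List.prod_cons]

theorem xW_append (hB : H8Base.{u} chevF4) (l l' : List ℕ) :
    (xW hB (l ++ l') : GL chevF4.Idx K) = xW hB l * xW hB l' := by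
  unfold xW
  rw [List.map_append, List.prod_append]

theorem xW_flatten_mem (hB : H8Base.{u} chevF4) (T : Subgroup (GL chevF4.Idx K))
    (cs : List (List ℕ)) (h : ∀ c ∈ cs, (xW hB c : GL chevF4.Idx K) ∈ T) :
    (xW hB cs.flatten : GL chevF4.Idx K) ∈ T := by
  induction cs with
  | nil =>
    rw [List.flatten_nil, xW_nil]
    exact T.one_mem
  | cons c cs ih =>
    rw [List.flatten_cons, xW_append]
    exact T.mul_mem (h c List.mem_cons_self) (ih fun c' hc' => h c' (List.mem_cons_of_mem _ hc'))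

/-- the eight generators at `t = 1` and the inverses of the two generators of order four -/
theorem xW_gen_mem [Fintype K] {m : ℕ} (hK : Fintype.card K = 2 ^ (2 * m + 1))
    (hB : H8Base.{u} chevF4) (c : List ℕ)
    (hc : c ∈ [[33, 24], [14, 23], [27, 25, 28], [20, 22, 19], [28, 25, 27], [19, 22, 20]]) :
    (xW hB c : GL chevF4.Idx K) ∈ twistedF4 K (2 ^ m) := by
  have := h8tf_char2 hK
  obtain ⟨R, hfe⟩ := h8tf_setup hK hB
  have ha1 : (xW hB [33, 24] : GL chevF4.Idx K) ∈ twistedF4 K (2 ^ m) := by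
    have := h8tfPair_mem R _ hfe 1
    unfold h8tfPair at this
    rw [map_one] at this
    rw [xW_cons, xW_cons, xW_nil, mul_one]
    exact this
  have hb1 : (xW hB [14, 23] : GL chevF4.Idx K) ∈ twistedF4 K (2 ^ m) := by
    have := h8tfPair_mem' R _ hfe 1
    unfold h8tfPair at this
    rw [map_one] at this
    rw [xW_cons, xW_cons, xW_nil, mul_one]
    exact this
  have ha2 : (xW hB [27, 25, 28] : GL chevF4.Idx K) ∈ twistedF4 K (2 ^ m) := by
    have := h8tfCls_mem R _ hfe 1 0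
    unfold h8tfCls at this
    rw [map_one, map_zero, one_mul, add_zero, zero_pow (by norm_num), h8xU_zero, mul_one] at this
    rw [xW_cons, xW_cons, xW_cons, xW_nil, mul_one, ← mul_assoc]
    exact this
  have hb2 : (xW hB [20, 22, 19] : GL chevF4.Idx K) ∈ twistedF4 K (2 ^ m) := by
    have := h8tfCls_mem' R _ hfe 1 0
    unfold h8tfCls at this
    rw [map_one, map_zero, one_mul, add_zero, zero_pow (by norm_num), h8xU_zero, mul_one] at this
    rw [xW_cons, xW_cons, xW_cons, xW_nil, mul_one, ← mul_assoc]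
    exact this
  have hinv : ∀ r : ℕ, (h8xU chevF4 hB r (1 : K))⁻¹ = h8xU chevF4 hB r 1 := by
    intro r
    rw [h8xU_inv, CharTwo.neg_eq]
  have hrev : ∀ p q r : ℕ, (xW hB [r, q, p] : GL chevF4.Idx K) = (xW hB [p, q, r])⁻¹ := by
    intro p q r
    rw [xW_cons, xW_cons, xW_cons, xW_nil, mul_one, xW_cons, xW_cons, xW_cons, xW_nil, mul_one,
      mul_inv_rev, mul_inv_rev, hinv, hinv, hinv, mul_assoc]
  simp only [List.mem_cons, List.not_mem_nil, or_false] at hc
  rcases hc with rfl | rfl | rfl | rfl | rfl | rfl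
  · exact ha1
  · exact hb1
  · exact ha2
  · exact hb2
  · rw [hrev 27 25 28]
    exact Subgroup.inv_mem _ ha2
  · rw [hrev 20 22 19]
    exact Subgroup.inv_mem _ hb2

/-- the conjugator, in chunks -/
def fuse0Chunks : List (List ℕ) :=
  [[27, 25, 28], [33, 24], [28, 25, 27], [33, 24], [27, 25, 28], [19, 22, 20], [14, 23],
    [20, 22, 19], [14, 23], [19, 22, 20], [27, 25, 28], [33, 24]]

theorem fuse0_chunks_mem : ∀ c ∈ fuse0Chunks,
    c ∈ [[33, 24], [14, 23], [27, 25, 28], [20, 22, 19], [28, 25, 27], [19, 22, 20]] := by decide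

theorem fuse0_mem : ∀ r ∈ fuse0Chunks.flatten, r ∈ h8tiRoots := by decide

theorem fuse0_chka : ∀ j < 13,
    h8tiAct (fuse0Chunks.flatten ++ nRoots (h8ofW 15) ++ fuse0Chunks.flatten.reverse) (2 ^ j) =
      h8tiAct (nRoots (h8ofW 1)) (2 ^ j) := by decide +kernel

theorem fuse0_chkb : ∀ j < 13,
    h8tiAct (fuse0Chunks.flatten ++ nRoots (h8ofW 15) ++ fuse0Chunks.flatten.reverse) (2 ^ (13 + j)) =
      h8tiAct (nRoots (h8ofW 1)) (2 ^ (13 + j)) := by decide +kernel

theorem fuse0_chkc : ∀ j < 13,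
    h8tiAct (fuse0Chunks.flatten ++ nRoots (h8ofW 15) ++ fuse0Chunks.flatten.reverse) (2 ^ (26 + j)) =
      h8tiAct (nRoots (h8ofW 1)) (2 ^ (26 + j)) := by decide +kernel

theorem fuse0_chkd : ∀ j < 13,
    h8tiAct (fuse0Chunks.flatten ++ nRoots (h8ofW 15) ++ fuse0Chunks.flatten.reverse) (2 ^ (39 + j)) =
      h8tiAct (nRoots (h8ofW 1)) (2 ^ (39 + j)) := by decide +kernel

theorem fuse0_chk : ∀ j < 52,
    h8tiAct (fuse0Chunks.flatten ++ nRoots (h8ofW 15) ++ fuse0Chunks.flatten.reverse) (2 ^ j) =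
      h8tiAct (nRoots (h8ofW 1)) (2 ^ j) := by
  intro j hj
  by_cases h1 : j < 13
  · exact fuse0_chka j h1
  by_cases h2 : j < 26
  · have := fuse0_chkb (j - 13) (by omega)
    rwa [show 13 + (j - 13) = j by omega] at this
  by_cases h3 : j < 39
  · have := fuse0_chkc (j - 26) (by omega)
    rwa [show 26 + (j - 26) = j by omega] at this
  · have := fuse0_chkd (j - 39) (by omega)
    rwa [show 39 + (j - 39) = j by omega] at this

/-- the fusion over the prime field -/
theorem fuse0_F2 (hB0 : H8Base.{0} chevF4) :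
    h8tiW hB0 fuse0Chunks.flatten * (h8nWU chevF4 hB0 (h8ofW 15) : GL chevF4.Idx (ZMod 2)) *
      (h8tiW hB0 fuse0Chunks.flatten)⁻¹ = h8nWU chevF4 hB0 (h8ofW 1) := by
  rw [nWU_tiW, nWU_tiW, h8tiW_inv, ← h8tiW_append, ← h8tiW_append]
  apply h8tiW_eq
  · intro r hr
    simp only [List.mem_append, List.mem_reverse] at hr
    rcases hr with (h | h) | h
    · exact fuse0_mem r h
    · exact nsq_mem 15 (by norm_num) r h
    · exact fuse0_mem r h
  · exact nsq_mem 1 (by norm_num)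
  · exact fuse0_chk

/-- FUSE0 : `n_{w₀}` is conjugate to `n_a` in `²F₄(q)` (explicit conjugator in `²F₄(2)`) -/
theorem f4_fuse0 [Fintype K] {m : ℕ} (hK : Fintype.card K = 2 ^ (2 * m + 1))
    (hB : H8Base.{u} chevF4) :
    ∃ g ∈ twistedF4 K (2 ^ m), g * (h8nWU chevF4 hB (h8ofW 15) : GL chevF4.Idx K) * g⁻¹ =
      h8nWU chevF4 hB (h8ofW 1) := by
  have hD : chevF4 ∈ [chevG2, chevB2, chevD4, chevF4, chevE6, chevE7, chevE8] := by simp
  have hB0 := h8base_all.{0} chevF4 hD
  have := h8tf_char2 hK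
  refine ⟨xW hB fuse0Chunks.flatten, ?_, ?_⟩
  · apply xW_flatten_mem
    intro c hc
    exact xW_gen_mem hK hB c (fuse0_chunks_mem c hc)
  · have h := congrArg (h8Psi chevF4 (f2hom K)) (fuse0_F2 hB0)
    rw [map_mul, map_mul, map_inv, Psi_nWU hB0 hB, Psi_nWU hB0 hB, Psi_tiW hB0 hB] at h
    exact h

end Cfsg.Agent.Lib.helper8.TWIF4
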