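import Mathlib
import Cfsg.Prelude.Def_ChevStructure
import Cfsg.Prelude.Def_ChevF4
import Cfsg.Prelude.Def_LieTwisted
import Cfsg.Agent.Lib.helper8.TWIF4A

/-!
# Project TWIF4 (S2184), piece TCENT: each of `n_a`, `n_b` commutes with an element of `²F₄(2)` outside the Tits group
-/

set_option autoImplicit false

namespace Cfsg.Agent.Lib.helper8.TWIF4

open Cfsg.Lie Cfsg.Lie.ChevalleyDatum Cfsg.Agent.Lib.helper8

/-- the colouring character of `²F₄(2)` -/
noncomputable def titsChi : ↥(twistedF4 (ZMod 2) 1) →* ℤˣ :=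
  (h8colHom h8tcAct h8tcAct_one h8tcAct_mul (h8tcSet false) (h8tcSet true) h8tcSet_ne).comp
    (Subgroup.inclusion h8tw_le_col)

theorem titsChi_col0 (z : ↥(twistedF4 (ZMod 2) 1))
    (hz : H8Col0 h8tcAct (h8tcSet false) (h8tcSet true) z.val) : titsChi z = 1 :=
  h8colSign_0 h8tcAct (h8tcSet false) (h8tcSet true) z.val hz

theorem titsChi_col1 (z : ↥(twistedF4 (ZMod 2) 1))
    (hz : H8Col1 h8tcAct (h8tcSet false) (h8tcSet true) z.val) : titsChi z = -1 :=
  h8colSign_1 h8tcAct h8tcAct_one h8tcAct_mul (h8tcSet false) (h8tcSet true) h8tcSet_ne z.val hz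

/-- an element of `²F₄(2)` on which the colouring character is `-1` does not lie in the commutator subgroup -/
theorem chi_not_comm (z : ↥(twistedF4 (ZMod 2) 1)) (hz : titsChi z = -1) :
    z ∉ commutator ↥(twistedF4 (ZMod 2) 1) := by
  intro hmem
  have hker : commutator ↥(twistedF4 (ZMod 2) 1) ≤ titsChi.ker :=
    Abelianization.commutator_subset_ker titsChi
  have h1 : titsChi z = 1 := hker hmem
  rw [hz] at h1
  exact absurd h1 (by decide)

def tcentZa : List ℕ := h8twa1 ++ h8twa2 ++ h8twa1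
def tcentZb : List ℕ := h8twb2.reverse ++ h8twa2 ++ h8twa2

theorem tcent_mem : (∀ r ∈ tcentZa, r ∈ h8tiRoots) ∧ (∀ r ∈ tcentZb, r ∈ h8tiRoots) := by decide

theorem tcent_chk : (∀ j < 52, h8tiAct (tcentZa ++ nRoots (h8ofW 1)) (2 ^ j) =
      h8tiAct (nRoots (h8ofW 1) ++ tcentZa) (2 ^ j)) ∧
    (∀ j < 52, h8tiAct (tcentZb ++ nRoots (h8ofW 2)) (2 ^ j) =
      h8tiAct (nRoots (h8ofW 2) ++ tcentZb) (2 ^ j)) := by decide +kernel

/-- TCENT : each of the two representatives commutes with an element of `²F₄(2)` outside the Tits group -/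
theorem tits_cent (hB : H8Base.{0} chevF4) (k : ℕ) (hk : k ∈ [1, 2]) :
    ∃ z : ↥(twistedF4 (ZMod 2) 1), z ∉ commutator ↥(twistedF4 (ZMod 2) 1) ∧
      z.val * (h8nWU chevF4 hB (h8ofW k) : GL chevF4.Idx (ZMod 2)) =
        (h8nWU chevF4 hB (h8ofW k) : GL chevF4.Idx (ZMod 2)) * z.val := by
  obtain ⟨R, hfe⟩ := h8tw_setup hB
  let A1 : ↥(twistedF4 (ZMod 2) 1) := ⟨h8tiW hB h8twa1, h8tw_a1_mem hB R hfe⟩
  let A2 : ↥(twistedF4 (ZMod 2) 1) := ⟨h8tiW hB h8twa2, h8tw_a2_mem hB R hfe⟩
  let B2 : ↥(twistedF4 (ZMod 2) 1) := ⟨h8tiW hB h8twb2, h8tw_b2_mem hB R hfe⟩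
  have c1 : titsChi A1 = 1 := titsChi_col0 A1 (h8tw_col_a1 hB)
  have c2 : titsChi A2 = -1 := titsChi_col1 A2 (h8tw_col_a2 hB)
  have c3 : titsChi B2 = -1 := titsChi_col1 B2 (h8tw_col_b2 hB)
  simp only [List.mem_cons, List.not_mem_nil, or_false] at hk
  rcases hk with rfl | rfl
  · refine ⟨A1 * A2 * A1, ?_, ?_⟩
    · apply chi_not_comm
      rw [map_mul, map_mul, c1, c2]
      decide
    · have hz : (A1 * A2 * A1).val = h8tiW hB tcentZa := by
        unfold tcentZa
        rw [h8tiW_append, h8tiW_append]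
        rfl
      rw [hz, nWU_tiW, ← h8tiW_append, ← h8tiW_append]
      apply h8tiW_eq
      · intro r hr
        rcases List.mem_append.mp hr with h | h
        · exact tcent_mem.1 r h
        · exact nsq_mem 1 (by norm_num) r h
      · intro r hr
        rcases List.mem_append.mp hr with h | h
        · exact nsq_mem 1 (by norm_num) r h
        · exact tcent_mem.1 r h
      · exact tcent_chk.1
  · refine ⟨B2⁻¹ * A2 * A2, ?_, ?_⟩
    · apply chi_not_comm
      rw [map_mul, map_mul, map_inv, c2, c3]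
      decide
    · have hz : (B2⁻¹ * A2 * A2).val = h8tiW hB tcentZb := by
        unfold tcentZb
        rw [h8tiW_append, h8tiW_append, ← h8tiW_inv]
        rfl
      rw [hz, nWU_tiW, ← h8tiW_append, ← h8tiW_append]
      apply h8tiW_eq
      · intro r hr
        rcases List.mem_append.mp hr with h | h
        · exact tcent_mem.2 r h
        · exact nsq_mem 2 (by norm_num) r h
      · intro r hr
        rcases List.mem_append.mp hr with h | h
        · exact nsq_mem 2 (by norm_num) r h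
        · exact tcent_mem.2 r h
      · exact tcent_chk.2

end Cfsg.Agent.Lib.helper8.TWIF4
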