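import Mathlib
import Cfsg.Prelude.Def_ChevStructure
import Cfsg.Prelude.Def_ChevF4
import Cfsg.Prelude.Def_LieTwisted
import Cfsg.Agent.Lib.helper14.INV.Defs
import Cfsg.Agent.Lib.helper8.ChevTF32
import Cfsg.Agent.Lib.helper3.BNPair

/-!
# Project TWIF4 (S2184), pieces NF and EQUI
-/

set_option autoImplicit false

namespace Cfsg.Agent.Lib.helper8.TWIF4

open Cfsg.Lie Cfsg.Lie.ChevalleyDatum Cfsg.Agent.Lib.helper8 Cfsg.Agent.Lib.helper14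
  Cfsg.Agent.Lib.helper14.INV

universe u

variable {K : Type u} [Field K]

/-- NF : the normal form `u₁ m u₂` in `²F₄(q)` -/
theorem f4_NF [Fintype K] {m : ℕ} (hK : Fintype.card K = 2 ^ (2 * m + 1))
    (g : GL chevF4.Idx K) (hg : g ∈ twistedF4 K (2 ^ m)) :
    ∃ u₁ ∈ chevF4.posUnipotent K ⊓ twistedF4 K (2 ^ m),
      ∃ mm ∈ chevF4.monomialSubgroup K ⊓ twistedF4 K (2 ^ m),
      ∃ u₂ ∈ chevF4.posUnipotent K ⊓ twistedF4 K (2 ^ m), g = u₁ * mm * u₂ := by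
  have hD : chevF4 ∈ [chevG2, chevB2, chevD4, chevF4, chevE6, chevE7, chevE8] := by simp
  have hB := h8base_all.{u} chevF4 hD
  set G1 := twistedF4 K (2 ^ m) with hG1
  obtain ⟨P, hPB, hPN, -⟩ := h8tf_bnpair hK hB
  obtain ⟨n, hn, hgn⟩ := Cfsg.Agent.Lib.helper3.bruhat (P := P) (⟨g, hg⟩ : ↥G1)
  obtain ⟨b1, hb1, b2, hb2, e⟩ := Cfsg.Agent.Lib.helper3.mem_dc.1 hgn
  rw [hPB, Subgroup.mem_subgroupOf] at hb1 hb2
  rw [hPN, Subgroup.mem_subgroupOf] at hn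
  have e' : g = b1.val * n.val * b2.val := congrArg Subtype.val e
  obtain ⟨u1, hu1, h1, hh1, eb1⟩ := h8tf_B1_UH hK b1.val hb1.1 hb1.2
  obtain ⟨u2, hu2, h2, hh2, eb2⟩ := h8tf_B1_UH hK b2.val hb2.1 hb2.2
  -- move `h2` to the left of `u2`
  have hnorm := h8_H_le_normalizer_U (F := K) chevF4 hB hh2.1
  have hu2' : h2⁻¹ * u2 * h2 ∈ chevF4.posUnipotent K ⊓ G1 := by
    refine ⟨?_, Subgroup.mul_mem _ (Subgroup.mul_mem _ (Subgroup.inv_mem _ hh2.2) hu2.2) hh2.2⟩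
    have := (Subgroup.mem_normalizer_iff.mp (Subgroup.inv_mem _ hnorm) u2).mp hu2.1
    rwa [inv_inv] at this
  refine ⟨u1, hu1, h1 * n.val * h2, ⟨?_, ?_⟩, h2⁻¹ * u2 * h2, hu2', ?_⟩
  · exact Subgroup.mul_mem _ (Subgroup.mul_mem _ (h8H_le_N chevF4 hh1.1) hn.1)
      (h8H_le_N chevF4 hh2.1)
  · exact Subgroup.mul_mem _ (Subgroup.mul_mem _ hh1.2 hn.2) hh2.2
  · rw [e', eb1, eb2]
    group

theorem equi_tab : ∀ k < 16, ∃ k' < 16, ∀ r < 48,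
    h8sW chevF4 (h8tfWd k) r = h8sW chevF4 (h8ofW k') r := by decide +kernel

/-- EQUI : an element `h n_w` of `²F₄(q)` acts on the roots as one of the sixteen words `h8ofW k` -/
theorem f4_equi [Fintype K] {m : ℕ} (hK : Fintype.card K = 2 ^ (2 * m + 1))
    (hB : H8Base.{u} chevF4) (w : List ℕ) (hw : ValidW chevF4 w) (h0 : GL chevF4.Idx K)
    (hh : h0 ∈ chevF4.diagonalSubgroup K)
    (hm : h0 * (h8nWU chevF4 hB w : GL chevF4.Idx K) ∈ twistedF4 K (2 ^ m)) :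
    ∃ k < 16, ∀ r < chevF4.nroots, h8sW chevF4 w r = h8sW chevF4 (h8ofW k) r := by
  have hD : chevF4 ∈ [chevG2, chevB2, chevD4, chevF4, chevE6, chevE7, chevE8] := by simp
  have hB0 := h8base_all.{0} chevF4 hD
  have hA := h8reflAll chevF4 hD
  have hC := h8commAll.{u} chevF4 hD
  have hBN := h8bn_all chevF4 hD
  have hW := h8bn2_all chevF4 hD
  obtain ⟨hO, hO2⟩ := h8ord_all chevF4 hD
  have := h8tf_char2 hK
  obtain ⟨R, hfe⟩ := h8tf_setup hK hB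
  have hnw : (h8nWU chevF4 hB w : GL chevF4.Idx K) ∈ chevF4.monomialSubgroup K :=
    h8nWU_mem_N chevF4 hB hA w hw
  have hmN : h0 * (h8nWU chevF4 hB w : GL chevF4.Idx K) ∈ chevF4.monomialSubgroup K :=
    Subgroup.mul_mem _ (h8H_le_N chevF4 hh) hnw
  set n : ↥(chevF4.monomialSubgroup K) := ⟨_, hmN⟩ with hn
  have hfix := (h8tf_G1_fix R hC (2 ^ m) hfe n.val hm).2
  have hPi : h8Pi chevF4 hB hA hBN hW hO2 n = h8wPerm chevF4 hA w := by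
    have e : n = (⟨h0, h8H_le_N chevF4 hh⟩ : ↥(chevF4.monomialSubgroup K)) * ⟨_, hnw⟩ := rfl
    rw [e, map_mul, h8Pi_H chevF4 hB hA hBN hW hO2 _ hh, one_mul,
      h8Pi_nWU chevF4 hB hA hBN hW hO2 w hw]
  have hcent : h8wPerm chevF4 hA w ∈ Subgroup.closure {h8tfW1 hA, h8tfW2 hA} := by
    rw [← hPi]
    refine h8tf_cent hB0 hA hBN hW hO2 _ _ (h8Pi_mem_W chevF4 hB hA hBN hW hO2 _) ?_ rfl
    intro r
    exact h8tf_Pi_comm R hA hBN hW hO2 n hfix r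
  obtain ⟨k, hk, ek⟩ := h8tf_cent_word hA _ hcent
  obtain ⟨k', hk', hkk⟩ := equi_tab k hk
  refine ⟨k', hk', fun r hr => ?_⟩
  have h1 := h8wPerm_val chevF4 hA w hw ⟨r, hr⟩
  have h2 := h8wPerm_val chevF4 hA (h8tfWd k) (h8tfWd_lt k) ⟨r, hr⟩
  rw [ek] at h1
  rw [← h1, h2]
  exact hkk r hr

end Cfsg.Agent.Lib.helper8.TWIF4
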