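import Mathlib
import Cfsg.Prelude.Def_ChevStructure
import Cfsg.Prelude.Def_ChevF4
import Cfsg.Prelude.Def_LieTwisted
import Cfsg.Agent.Lib.helper14.INV.Defs
import Cfsg.Agent.Lib.helper23.INVSAMEPERM
import Cfsg.Agent.Lib.helper8.ChevTF32
import Cfsg.Agent.Lib.helper8.TWIF4A

/-!
# Project TWIF4 (S2184), piece M1W: the jump to the big cell for the two long reflections
-/

set_option autoImplicit false

namespace Cfsg.Agent.Lib.helper8.TWIF4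

open Cfsg.Lie Cfsg.Lie.ChevalleyDatum Cfsg.Agent.Lib.helper8 Cfsg.Agent.Lib.helper14
  Cfsg.Agent.Lib.helper14.INV

universe u

variable {K : Type u} [Field K]

theorem top_tab : ∀ kj ∈ [(13, 1, [25, 27, 28, 30]), (14, 0, [24, 33])],
    (∀ r ∈ kj.2.2, h8sW chevF4 (h8ofJ kj.2.1 ++ h8ofW kj.1 ++ h8ofJ kj.2.1) r = r) ∧
    (∀ r < 48, h8sW chevF4 (h8ofJ kj.2.1 ++ h8ofW kj.1 ++ h8ofJ kj.2.1 ++ h8ofJ kj.2.1) r =
      h8sW chevF4 (h8ofW 15) r) := by decide +kernel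

/-- the generic form over the data of a twisted fundamental class -/
theorem f4_top_gen [Fintype K] {m : ℕ} (hK : Fintype.card K = 2 ^ (2 * m + 1))
    (hB : H8Base.{u} chevF4) {J : Set ℕ} {L Lm wJ : List ℕ} (C : H8TFC J L Lm wJ)
    (wk : List ℕ) (hwk : ValidW chevF4 wk)
    (hnJG : (h8nWU chevF4 hB wJ : GL chevF4.Idx K) ∈ twistedF4 K (2 ^ m))
    (hnJsq : (h8nWU chevF4 hB wJ : GL chevF4.Idx K) * h8nWU chevF4 hB wJ = 1)
    (htab1 : ∀ r ∈ L, h8sW chevF4 (wJ ++ wk ++ wJ) r = r)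
    (htab2 : ∀ r < 48, h8sW chevF4 (wJ ++ wk ++ wJ ++ wJ) r = h8sW chevF4 (h8ofW 15) r)
    (h0 u : GL chevF4.Idx K) (hh : h0 ∈ chevF4.diagonalSubgroup K)
    (hu : u ∈ Subgroup.closure (h8XLSet chevF4 K L)) (hu1 : u ≠ 1)
    (hmG : h0 * (h8nWU chevF4 hB wk : GL chevF4.Idx K) ∈ twistedF4 K (2 ^ m))
    (hyG : h0 * (h8nWU chevF4 hB wk : GL chevF4.Idx K) * u ∈ twistedF4 K (2 ^ m)) :
    InCell chevF4 hB ((h8nWU chevF4 hB wJ : GL chevF4.Idx K) *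
      (h0 * (h8nWU chevF4 hB wk : GL chevF4.Idx K) * u) *
      (h8nWU chevF4 hB wJ : GL chevF4.Idx K)⁻¹) (h8ofW 15) := by
  have hD : chevF4 ∈ [chevG2, chevB2, chevD4, chevF4, chevE6, chevE7, chevE8] := by simp
  have hB0 := h8base_all.{0} chevF4 hD
  have hA := h8reflAll chevF4 hD
  have hC := h8commAll.{u} chevF4 hD
  have hBN := h8bn_all chevF4 hD
  have hW := h8bn2_all chevF4 hD
  obtain ⟨hO, hO2⟩ := h8ord_all chevF4 hD
  have := h8tf_char2 hK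
  obtain ⟨R, hfe⟩ := h8tf_setup hK hB
  set G1 := twistedF4 K (2 ^ m) with hG1def
  have hG1 : ∀ g ∈ G1, g ∈ chevF4.group K ∧ h8tfS R g = g :=
    fun g hg => h8tf_G1_fix R hC (2 ^ m) hfe g hg
  have hwJ : ValidW chevF4 wJ := h8tfC_w_lt C
  set nJ : GL chevF4.Idx K := h8nWU chevF4 hB wJ with hnJ
  set nk : GL chevF4.Idx K := h8nWU chevF4 hB wk with hnk
  have hnJinv : nJ⁻¹ = nJ := inv_eq_of_mul_eq_one_left hnJsq
  have hnJN : nJ ∈ chevF4.monomialSubgroup K := h8nWU_mem_N chevF4 hB hA wJ hwJ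
  have hnkN : nk ∈ chevF4.monomialSubgroup K := h8nWU_mem_N chevF4 hB hA wk hwk
  -- `u ∈ G₁`
  have huG : u ∈ G1 := by
    have : u = (h0 * nk)⁻¹ * (h0 * nk * u) := by group
    rw [this]
    exact Subgroup.mul_mem _ (Subgroup.inv_mem _ hmG) hyG
  -- `v = n_J u n_J⁻¹`
  set v : GL chevF4.Idx K := nJ * u * nJ⁻¹ with hv
  have hvLm : v ∈ Subgroup.closure (h8XLSet chevF4 K Lm) := h8tfC_conj_s (hB := hB) C hA u hu
  have hvG : v ∈ G1 :=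
    Subgroup.mul_mem _ (Subgroup.mul_mem _ hnJG huG) (Subgroup.inv_mem _ hnJG)
  have hv1 : v ≠ 1 := by
    intro h
    apply hu1
    have : u = nJ⁻¹ * v * nJ := by rw [hv]; group
    rw [this, h]
    group
  obtain ⟨x₁, hx₁, mm, x₂, hx₂, -, -, -, hveq, hPi⟩ := h8tf_rank1 C.hJ R hB0 hA hC hBN hW hO
    hO2 wJ C.wJlt C.norm Lm C.hLm v hvLm (hG1 v hvG).2 hv1
  -- the element `n''`
  set n2 : GL chevF4.Idx K := nJ * (h0 * nk) * nJ with hn2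
  have hn2N : n2 ∈ chevF4.monomialSubgroup K :=
    Subgroup.mul_mem _ (Subgroup.mul_mem _ hnJN
      (Subgroup.mul_mem _ (h8H_le_N chevF4 hh) hnkN)) hnJN
  have hact2 : ∀ r < chevF4.nroots, H8Act chevF4 hB n2 r (h8sW chevF4 (wJ ++ wk ++ wJ) r) := by
    intro r hr
    have a1 := h8nWU_act (F := K) chevF4 hB hA wJ hwJ r hr
    have hr1 := h8sW_lt chevF4 hA wJ hwJ r hr
    have a2 := h8nWU_act (F := K) chevF4 hB hA wk hwk _ hr1
    have hr2 := h8sW_lt chevF4 hA wk hwk _ hr1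
    have a3 := h8perm_H_id chevF4 hB h0 hh _ hr2
    have a4 := h8nWU_act (F := K) chevF4 hB hA wJ hwJ _ hr2
    have b1 := h8act_mul chevF4 hB h0 nk _ _ _ a2 a3
    have b2 := h8act_mul chevF4 hB (h0 * nk) nJ _ _ _ a1 b1
    have b3 := h8act_mul chevF4 hB nJ ((h0 * nk) * nJ) _ _ _ b2 a4
    rw [h8sW_append, h8sW_append]
    have e : n2 = nJ * ((h0 * nk) * nJ) := by rw [hn2]; group
    rw [e]
    exact b3
  -- `n'' x₁ n''⁻¹ ∈ U`
  have hx₁U : n2 * x₁ * n2⁻¹ ∈ chevF4.posUnipotent K := by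
    apply h8conj_XL chevF4 hB n2 L _ _ x₁ hx₁
    intro r hr t
    obtain ⟨c, -, hc⟩ := hact2 r (h8tfC_L_lt C r hr)
    rw [hc, htab1 r hr]
    exact h8xU_mem_U chevF4 hB r (C.hJ.inJ r hr).1 _
  -- `n'' m` acts as `w₀`
  have hmact : ∀ r < chevF4.nroots, H8Act chevF4 hB mm.val r (h8sW chevF4 wJ r) := by
    intro r hr
    have := h8Pi_act chevF4 hB hA hBN hW hO2 mm ⟨r, hr⟩
    rw [hPi, h8wPerm_val chevF4 hA wJ hwJ] at this
    exact this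
  have hact3 : ∀ r < chevF4.nroots,
      H8Act chevF4 hB (n2 * mm.val) r (h8sW chevF4 (h8ofW 15) r) := by
    intro r hr
    have a1 := hmact r hr
    have hr1 := h8sW_lt chevF4 hA wJ hwJ r hr
    have a2 := hact2 _ hr1
    have b := h8act_mul chevF4 hB n2 mm.val _ _ _ a1 a2
    rw [← h8sW_append, htab2 r hr] at b
    exact b
  have hn15N : (h8nWU chevF4 hB (h8ofW 15) : GL chevF4.Idx K) ∈ chevF4.monomialSubgroup K :=
    h8nWU_mem_N chevF4 hB hA _ (h8of_F2 15)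
  have hH := N_same_perm chevF4 hB hA hBN hW hO2 (h8nWU chevF4 hB (h8ofW 15)) (n2 * mm.val)
    hn15N (Subgroup.mul_mem _ hn2N mm.2) (h8sW chevF4 (h8ofW 15))
    (fun r hr => h8nWU_act chevF4 hB hA _ (h8of_F2 15) r hr) hact3
  refine ⟨n2 * x₁ * n2⁻¹, h8U_le_B chevF4 hx₁U,
    ((h8nWU chevF4 hB (h8ofW 15) : GL chevF4.Idx K)⁻¹ * (n2 * mm.val)) * x₂,
    Subgroup.mul_mem _ (h8H_le_B chevF4 hH) (h8U_le_B chevF4 (h8tf_XL_le_U C.hJ hx₂)), ?_⟩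
  have e1 : nJ * (h0 * nk * u) * nJ⁻¹ = nJ * (h0 * nk) * nJ⁻¹ * v := by rw [hv]; group
  rw [e1, hveq, hnJinv, hn2]
  group

/-- M1W : the jump to the big cell for the two long reflections -/
theorem f4_top [Fintype K] {m : ℕ} (hK : Fintype.card K = 2 ^ (2 * m + 1))
    (hB : H8Base.{u} chevF4) (k j : ℕ) (L : List ℕ)
    (hkj : (k, j, L) ∈ [(13, 1, [25, 27, 28, 30]), (14, 0, [24, 33])])
    (h0 u : GL chevF4.Idx K) (hh : h0 ∈ chevF4.diagonalSubgroup K)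
    (hu : u ∈ Subgroup.closure (h8XLSet chevF4 K L)) (hu1 : u ≠ 1)
    (hmG : h0 * (h8nWU chevF4 hB (h8ofW k) : GL chevF4.Idx K) ∈ twistedF4 K (2 ^ m))
    (hyG : h0 * (h8nWU chevF4 hB (h8ofW k) : GL chevF4.Idx K) * u ∈ twistedF4 K (2 ^ m)) :
    InCell chevF4 hB ((h8nWU chevF4 hB (h8ofJ j) : GL chevF4.Idx K) *
      (h0 * (h8nWU chevF4 hB (h8ofW k) : GL chevF4.Idx K) * u) *
      (h8nWU chevF4 hB (h8ofJ j) : GL chevF4.Idx K)⁻¹) (h8ofW 15) := by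
  have := h8tf_char2 hK
  have hJ : h8ofJ 0 = h8ofW 1 ∧ h8ofJ 1 = h8ofW 2 := by decide
  have hJ' : h8ofJ 0 = [0, 3] ∧ h8ofJ 1 = [1, 2, 1, 2] := by decide
  have t := top_tab (k, j, L) hkj
  simp only [List.mem_cons, Prod.mk.injEq, List.not_mem_nil, or_false] at hkj
  rcases hkj with ⟨rfl, rfl, rfl⟩ | ⟨rfl, rfl, rfl⟩
  · have hG : (h8nWU chevF4 hB (h8ofJ 1) : GL chevF4.Idx K) ∈ twistedF4 K (2 ^ m) := by
      rw [hJ.2]; exact h8tf_nk_mem hK hB 2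
    have hsq : (h8nWU chevF4 hB (h8ofJ 1) : GL chevF4.Idx K) * h8nWU chevF4 hB (h8ofJ 1) = 1 := by
      rw [hJ.2]; exact f4_nsq hB 2 (by simp)
    rw [hJ'.2] at hG hsq t ⊢
    exact f4_top_gen hK hB h8tfC2 (h8ofW 13) (h8of_F2 13) hG hsq t.1 t.2 h0 u hh hu hu1 hmG hyG
  · have hG : (h8nWU chevF4 hB (h8ofJ 0) : GL chevF4.Idx K) ∈ twistedF4 K (2 ^ m) := by
      rw [hJ.1]; exact h8tf_nk_mem hK hB 1
    have hsq : (h8nWU chevF4 hB (h8ofJ 0) : GL chevF4.Idx K) * h8nWU chevF4 hB (h8ofJ 0) = 1 := by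
      rw [hJ.1]; exact f4_nsq hB 1 (by simp)
    rw [hJ'.1] at hG hsq t ⊢
    exact f4_top_gen hK hB h8tfC1 (h8ofW 14) (h8of_F2 14) hG hsq t.1 t.2 h0 u hh hu hu1 hmG hyG

end Cfsg.Agent.Lib.helper8.TWIF4
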