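import Mathlib
import Cfsg.Prelude.Def_ChevStructure
import Cfsg.Prelude.Def_ChevF4
import Cfsg.Prelude.Def_LieTwisted
import Cfsg.Agent.Lib.helper14.TWI.Defs
import Cfsg.Agent.Lib.helper14.INV.Gen
import Cfsg.Agent.Lib.Helper20.TWIMAXS
import Cfsg.Agent.Lib.Helper20.TWIMAXCS
import Cfsg.Agent.Lib.Helper20.TWINFS
import Cfsg.Agent.Lib.Helper1.TWITRIV
import Cfsg.Agent.Lib.helper8.ChevTF32
import Cfsg.Agent.Lib.helper8.ChevTwB7
import Cfsg.Agent.Lib.helper8.ChevIE7b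
import Cfsg.Agent.Lib.helper8.TWIF4A
import Cfsg.Agent.Lib.helper8.TWIF4B
import Cfsg.Agent.Lib.helper8.TWIF4D
import Cfsg.Agent.Lib.helper8.TWIF4E
import Cfsg.Agent.Lib.Helper10.TWIF4M2Wcore
import Cfsg.Agent.Lib.Helper10.TWIF4SUPPL
import Cfsg.Agent.Lib.Helper16.TWIF4SAME
import Cfsg.Agent.Lib.Helper19.TWIF4LEN
import Cfsg.Agent.Lib.Helper19.TWIF4REPW
import Cfsg.Agent.Lib.Helper22.TWIF4HODDcore

/-!
# Project TWIF4 (S2184): the assembly — every involution of `²F₄(q)` is conjugate to `n_a` or to `n_b`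
-/

set_option autoImplicit false

namespace Cfsg.Agent.Lib.helper8.TWIF4

open Cfsg.Lie Cfsg.Lie.ChevalleyDatum Cfsg.Agent.Lib.helper8 Cfsg.Agent.Lib.helper14
  Cfsg.Agent.Lib.helper14.INV Cfsg.Agent.Lib.helper14.TWI

universe u

variable {K : Type u} [Field K]

theorem asm_tab1 : ∀ kj ∈ [(1, 1), (6, 0), (9, 1), (2, 0), (5, 1), (10, 0)],
    lenC (h8ofW kj.1) < lenC (h8ofJ kj.2 ++ h8ofW kj.1 ++ h8ofJ kj.2) := by decide +kernel

theorem asm_tab2 : (List.range 16).map (fun k => lenC (h8ofW k)) =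
    [0, 2, 4, 6, 6, 8, 10, 12, 12, 14, 16, 18, 18, 20, 22, 24] := by decide +kernel

theorem asm_tab3 : ∀ k < 16, (∀ r < 48, h8sW chevF4 (h8ofW k) (h8sW chevF4 (h8ofW k) r) = r) →
    k ∈ [0, 1, 2, 5, 6, 9, 10, 13, 14, 15] := by decide +kernel

theorem asm_tab0 : ∀ r < 48, h8sW chevF4 (h8ofW 0) r = r := by decide +kernel

theorem asm_tab5 : h8ofW 14 = h8ofW 6 ++ h8ofW 1 ++ h8ofW 6 ∧
    h8ofW 13 = h8ofW 5 ++ h8ofW 2 ++ h8ofW 5 := by decide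

theorem asm_ofJ : h8ofJ 0 = h8ofW 1 ∧ h8ofJ 1 = h8ofW 2 := by decide

theorem asm_validJ : ∀ j < 2, ValidW chevF4 (h8ofJ j) := by
  intro j hj i hi
  exact h8of_F7 j hj i hi

theorem asm_XL_nil (u : GL chevF4.Idx K) (hu : u ∈ Subgroup.closure (h8XLSet chevF4 K [])) :
    u = 1 := by
  have : h8XLSet chevF4 K [] = ∅ := by
    ext g
    simp [h8XLSet]
  rw [this, Subgroup.closure_empty, Subgroup.mem_bot] at hu
  exact hu

theorem asm_lenk (hA : H8ReflAll chevF4) (k : ℕ) (hk : k < 16) :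
    len chevF4 hA (h8ofW k) =
      ([0, 2, 4, 6, 6, 8, 10, 12, 12, 14, 16, 18, 18, 20, 22, 24] : List ℕ).getD k 0 := by
  rw [f4_len hA _ (h8of_F2 k)]
  have h := asm_tab2
  have : lenC (h8ofW k) = ((List.range 16).map (fun k => lenC (h8ofW k))).getD k 0 := by
    rw [List.getD_eq_getElem _ _ (by simpa using hk)]
    simp
  rw [this, h]

theorem asm_njG [Fintype K] {m : ℕ} (hK : Fintype.card K = 2 ^ (2 * m + 1))
    (hB : H8Base.{u} chevF4) (j : ℕ) (hj : j < 2) :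
    (h8nWU chevF4 hB (h8ofJ j) : GL chevF4.Idx K) ∈ twistedF4 K (2 ^ m) := by
  have h1 := h8tf_nk_mem hK hB 1
  have h2 := h8tf_nk_mem hK hB 2
  interval_cases j
  · rw [asm_ofJ.1]; exact h1
  · rw [asm_ofJ.2]; exact h2

/-- M2W : the jump `w ↦ s w s` for the six short reflections -/
theorem f4_jump [CharP K 2] (hB : H8Base.{u} chevF4) (k j : ℕ)
    (hkj : (k, j) ∈ [(1, 1), (6, 0), (9, 1), (2, 0), (5, 1), (10, 0)])
    (h0 u : GL chevF4.Idx K) (hh : h0 ∈ chevF4.diagonalSubgroup K)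
    (hu : u ∈ chevF4.posUnipotent K)
    (hsq : (h0 * (h8nWU chevF4 hB (h8ofW k) : GL chevF4.Idx K) * u) *
      (h0 * (h8nWU chevF4 hB (h8ofW k) : GL chevF4.Idx K) * u) = 1) :
    InCell chevF4 hB ((h8nWU chevF4 hB (h8ofJ j) : GL chevF4.Idx K) *
      (h0 * (h8nWU chevF4 hB (h8ofW k) : GL chevF4.Idx K) * u) *
      (h8nWU chevF4 hB (h8ofJ j) : GL chevF4.Idx K)⁻¹) (h8ofJ j ++ h8ofW k ++ h8ofJ j) :=
  twif4m2w_core hB (fun k hk => f4_nsq hB k hk) k j hkj h0 u hh hu hsq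

/-- HODD : an involution `h n_w` of `²F₄(q)` is conjugate to `n_w` -/
theorem f4_hodd [Fintype K] {m : ℕ} (hK : Fintype.card K = 2 ^ (2 * m + 1))
    (hB : H8Base.{u} chevF4) (k : ℕ) (hk : k ∈ [13, 14, 15]) (h0 : GL chevF4.Idx K)
    (hh : h0 ∈ chevF4.diagonalSubgroup K)
    (hmG : h0 * (h8nWU chevF4 hB (h8ofW k) : GL chevF4.Idx K) ∈ twistedF4 K (2 ^ m))
    (hsq : (h0 * (h8nWU chevF4 hB (h8ofW k) : GL chevF4.Idx K)) *
      (h0 * (h8nWU chevF4 hB (h8ofW k) : GL chevF4.Idx K)) = 1) :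
    ∃ c ∈ twistedF4 K (2 ^ m), c * (h0 * (h8nWU chevF4 hB (h8ofW k) : GL chevF4.Idx K)) * c⁻¹ =
      h8nWU chevF4 hB (h8ofW k) := by
  have := h8tf_char2 hK
  refine twif4hodd_core hK hB k h0 hh (f4_nsq hB k ?_) hmG hsq
  simp only [List.mem_cons, List.not_mem_nil, or_false] at hk ⊢
  omega

/-- the jump contradiction -/
theorem asm_jump [Fintype K] {m : ℕ} (hK : Fintype.card K = 2 ^ (2 * m + 1))
    (hB : H8Base.{u} chevF4) (hA : H8ReflAll chevF4) (k j : ℕ)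
    (hkj : (k, j) ∈ [(1, 1), (6, 0), (9, 1), (2, 0), (5, 1), (10, 0)])
    (h0 u : GL chevF4.Idx K) (hh : h0 ∈ chevF4.diagonalSubgroup K)
    (hu : u ∈ chevF4.posUnipotent K)
    (hsq : (h0 * (h8nWU chevF4 hB (h8ofW k) : GL chevF4.Idx K) * u) *
      (h0 * (h8nWU chevF4 hB (h8ofW k) : GL chevF4.Idx K) * u) = 1)
    (hmax : IsMaxS chevF4 hB hA (twistedF4 K (2 ^ m))
      (h0 * (h8nWU chevF4 hB (h8ofW k) : GL chevF4.Idx K) * u) (h8ofW k)) : False := by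
  have := h8tf_char2 hK
  have hcell := f4_jump hB k j hkj h0 u hh hu hsq
  have hj2 : j < 2 := by
    simp only [List.mem_cons, Prod.mk.injEq, List.not_mem_nil, or_false] at hkj
    omega
  have hjG := asm_njG hK hB j hj2
  have hv : ValidW chevF4 (h8ofJ j ++ h8ofW k ++ h8ofJ j) := by
    intro i hi
    simp only [List.mem_append] at hi
    rcases hi with (hi | hi) | hi
    · exact asm_validJ j hj2 i hi
    · exact h8of_F2 k i hi
    · exact asm_validJ j hj2 i hi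
  have h1 := hmax _ hjG _ hv hcell
  rw [f4_len hA _ hv, f4_len hA _ (h8of_F2 k)] at h1
  have h2 := asm_tab1 (k, j) hkj
  simp only at h2
  omega

/-- conjugating `h0 n_k`, `k ∈ {13, 14, 15}`, into `n_1` or `n_2` -/
theorem asm_final [Fintype K] {m : ℕ} (hK : Fintype.card K = 2 ^ (2 * m + 1))
    (hB : H8Base.{u} chevF4) (k : ℕ) (hk : k ∈ [13, 14, 15]) (h0 : GL chevF4.Idx K)
    (hh : h0 ∈ chevF4.diagonalSubgroup K)
    (hmG : h0 * (h8nWU chevF4 hB (h8ofW k) : GL chevF4.Idx K) ∈ twistedF4 K (2 ^ m))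
    (hsq : (h0 * (h8nWU chevF4 hB (h8ofW k) : GL chevF4.Idx K)) *
      (h0 * (h8nWU chevF4 hB (h8ofW k) : GL chevF4.Idx K)) = 1) :
    ∃ g ∈ twistedF4 K (2 ^ m),
      g * (h0 * (h8nWU chevF4 hB (h8ofW k) : GL chevF4.Idx K)) * g⁻¹ = h8nWU chevF4 hB (h8ofW 1) ∨
      g * (h0 * (h8nWU chevF4 hB (h8ofW k) : GL chevF4.Idx K)) * g⁻¹ = h8nWU chevF4 hB (h8ofW 2) := by
  have := h8tf_char2 hK
  obtain ⟨c, hc, ec⟩ := f4_hodd hK hB k hk h0 hh hmG hsq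
  have hnk := fun k => h8tf_nk_mem hK hB k
  simp only [List.mem_cons, List.not_mem_nil, or_false] at hk
  rcases hk with rfl | rfl | rfl
  · -- 13 = 5 ++ 2 ++ 5
    refine ⟨(h8nWU chevF4 hB (h8ofW 5) : GL chevF4.Idx K)⁻¹ * c,
      Subgroup.mul_mem _ (Subgroup.inv_mem _ (hnk 5)) hc, Or.inr ?_⟩
    have e5 := f4_nsq (K := K) hB 5 (by simp)
    have h5 : (h8nWU chevF4 hB (h8ofW 5) : GL chevF4.Idx K)⁻¹ = h8nWU chevF4 hB (h8ofW 5) :=
      inv_eq_of_mul_eq_one_left e5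
    have e : (h8nWU chevF4 hB (h8ofW 13) : GL chevF4.Idx K) =
        h8nWU chevF4 hB (h8ofW 5) * h8nWU chevF4 hB (h8ofW 2) * h8nWU chevF4 hB (h8ofW 5) := by
      rw [asm_tab5.2, h8nWU_append, h8nWU_append]
    have : (h8nWU chevF4 hB (h8ofW 5) : GL chevF4.Idx K)⁻¹ * c *
        (h0 * (h8nWU chevF4 hB (h8ofW 13) : GL chevF4.Idx K)) *
        ((h8nWU chevF4 hB (h8ofW 5) : GL chevF4.Idx K)⁻¹ * c)⁻¹ =
        (h8nWU chevF4 hB (h8ofW 5) : GL chevF4.Idx K)⁻¹ *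
        (c * (h0 * (h8nWU chevF4 hB (h8ofW 13) : GL chevF4.Idx K)) * c⁻¹) *
        (h8nWU chevF4 hB (h8ofW 5) : GL chevF4.Idx K) := by group
    rw [this, ec, e]
    rw [h5]
    calc (h8nWU chevF4 hB (h8ofW 5) : GL chevF4.Idx K) * (h8nWU chevF4 hB (h8ofW 5) *
          h8nWU chevF4 hB (h8ofW 2) * h8nWU chevF4 hB (h8ofW 5)) * h8nWU chevF4 hB (h8ofW 5)
        = (h8nWU chevF4 hB (h8ofW 5) * h8nWU chevF4 hB (h8ofW 5)) * h8nWU chevF4 hB (h8ofW 2) *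
          (h8nWU chevF4 hB (h8ofW 5) * h8nWU chevF4 hB (h8ofW 5)) := by group
      _ = h8nWU chevF4 hB (h8ofW 2) := by rw [e5, one_mul, mul_one]
  · refine ⟨(h8nWU chevF4 hB (h8ofW 6) : GL chevF4.Idx K)⁻¹ * c,
      Subgroup.mul_mem _ (Subgroup.inv_mem _ (hnk 6)) hc, Or.inl ?_⟩
    have e6 := f4_nsq (K := K) hB 6 (by simp)
    have h6 : (h8nWU chevF4 hB (h8ofW 6) : GL chevF4.Idx K)⁻¹ = h8nWU chevF4 hB (h8ofW 6) :=
      inv_eq_of_mul_eq_one_left e6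
    have e : (h8nWU chevF4 hB (h8ofW 14) : GL chevF4.Idx K) =
        h8nWU chevF4 hB (h8ofW 6) * h8nWU chevF4 hB (h8ofW 1) * h8nWU chevF4 hB (h8ofW 6) := by
      rw [asm_tab5.1, h8nWU_append, h8nWU_append]
    have : (h8nWU chevF4 hB (h8ofW 6) : GL chevF4.Idx K)⁻¹ * c *
        (h0 * (h8nWU chevF4 hB (h8ofW 14) : GL chevF4.Idx K)) *
        ((h8nWU chevF4 hB (h8ofW 6) : GL chevF4.Idx K)⁻¹ * c)⁻¹ =
        (h8nWU chevF4 hB (h8ofW 6) : GL chevF4.Idx K)⁻¹ *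
        (c * (h0 * (h8nWU chevF4 hB (h8ofW 14) : GL chevF4.Idx K)) * c⁻¹) *
        (h8nWU chevF4 hB (h8ofW 6) : GL chevF4.Idx K) := by group
    rw [this, ec, e]
    rw [h6]
    calc (h8nWU chevF4 hB (h8ofW 6) : GL chevF4.Idx K) * (h8nWU chevF4 hB (h8ofW 6) *
          h8nWU chevF4 hB (h8ofW 1) * h8nWU chevF4 hB (h8ofW 6)) * h8nWU chevF4 hB (h8ofW 6)
        = (h8nWU chevF4 hB (h8ofW 6) * h8nWU chevF4 hB (h8ofW 6)) * h8nWU chevF4 hB (h8ofW 1) *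
          (h8nWU chevF4 hB (h8ofW 6) * h8nWU chevF4 hB (h8ofW 6)) := by group
      _ = h8nWU chevF4 hB (h8ofW 1) := by rw [e6, one_mul, mul_one]
  · obtain ⟨g, hg, eg⟩ := f4_fuse0 hK hB
    refine ⟨g * c, Subgroup.mul_mem _ hg hc, Or.inl ?_⟩
    have : g * c * (h0 * (h8nWU chevF4 hB (h8ofW 15) : GL chevF4.Idx K)) * (g * c)⁻¹ =
        g * (c * (h0 * (h8nWU chevF4 hB (h8ofW 15) : GL chevF4.Idx K)) * c⁻¹) * g⁻¹ := by group
    rw [this, ec, eg]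

/-- the top contradiction: for `k = 13, 14` the unipotent part vanishes -/
theorem asm_top [Fintype K] {m : ℕ} (hK : Fintype.card K = 2 ^ (2 * m + 1))
    (hB : H8Base.{u} chevF4) (hA : H8ReflAll chevF4) (k j : ℕ) (L : List ℕ)
    (hkj : (k, j, L) ∈ [(13, 1, [25, 27, 28, 30]), (14, 0, [24, 33])])
    (h0 u : GL chevF4.Idx K) (hh : h0 ∈ chevF4.diagonalSubgroup K)
    (hu : u ∈ chevF4.posUnipotent K)
    (hmG : h0 * (h8nWU chevF4 hB (h8ofW k) : GL chevF4.Idx K) ∈ twistedF4 K (2 ^ m))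
    (hyG : h0 * (h8nWU chevF4 hB (h8ofW k) : GL chevF4.Idx K) * u ∈ twistedF4 K (2 ^ m))
    (hsq : (h0 * (h8nWU chevF4 hB (h8ofW k) : GL chevF4.Idx K) * u) *
      (h0 * (h8nWU chevF4 hB (h8ofW k) : GL chevF4.Idx K) * u) = 1)
    (hmax : IsMaxS chevF4 hB hA (twistedF4 K (2 ^ m))
      (h0 * (h8nWU chevF4 hB (h8ofW k) : GL chevF4.Idx K) * u) (h8ofW k)) : u = 1 := by
  have := h8tf_char2 hK
  have hkL : (k, L) ∈ [(13, [25, 27, 28, 30]), (14, [24, 33]), (15, [])] := by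
    simp only [List.mem_cons, Prod.mk.injEq, List.not_mem_nil, or_false] at hkj ⊢
    rcases hkj with ⟨rfl, _, rfl⟩ | ⟨rfl, _, rfl⟩ <;> simp
  have hsupp := f4_supp hB k L hkL h0 u hh hu hsq
  by_contra hu1
  have hcell := f4_top hK hB k j L hkj h0 u hh hsupp hu1 hmG hyG
  have hj2 : j < 2 ∧ k < 15 ∧ 13 ≤ k := by
    simp only [List.mem_cons, Prod.mk.injEq, List.not_mem_nil, or_false] at hkj
    omega
  have hjG := asm_njG hK hB j hj2.1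
  have h1 := hmax _ hjG _ (h8of_F2 15) hcell
  rw [asm_lenk hA 15 (by norm_num), asm_lenk hA k (by omega)] at h1
  obtain ⟨-, hk1, hk2⟩ := hj2
  interval_cases k <;> simp at h1

/-- ASM : every involution of `²F₄(q)` is conjugate to `n_a` or to `n_b` -/
theorem f4_invol_conj [Fintype K] {m : ℕ} (hK : Fintype.card K = 2 ^ (2 * m + 1))
    (hB : H8Base.{u} chevF4) (t : GL chevF4.Idx K) (ht : t ∈ twistedF4 K (2 ^ m))
    (hsq : t * t = 1) (ht1 : t ≠ 1) :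
    ∃ g ∈ twistedF4 K (2 ^ m), g * t * g⁻¹ = h8nWU chevF4 hB (h8ofW 1) ∨
      g * t * g⁻¹ = h8nWU chevF4 hB (h8ofW 2) := by
  have hD : chevF4 ∈ [chevG2, chevB2, chevD4, chevF4, chevE6, chevE7, chevE8] := by simp
  have hB0 := h8base_all.{0} chevF4 hD
  have hA := h8reflAll chevF4 hD
  have hC := h8commAll.{u} chevF4 hD
  have hBN := h8bn_all chevF4 hD
  have hW := h8bn2_all chevF4 hD
  obtain ⟨hO, hO2⟩ := h8ord_all chevF4 hD
  have := h8tf_char2 hK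
  set G₁ := twistedF4 K (2 ^ m) with hG₁def
  have hG₁ : G₁ ≤ chevF4.group K := h8gen_le_group chevF4 hB _
  have hNF : ∀ g ∈ G₁, ∃ u₁ ∈ chevF4.posUnipotent K ⊓ G₁, ∃ mm ∈ chevF4.monomialSubgroup K ⊓ G₁,
      ∃ u₂ ∈ chevF4.posUnipotent K ⊓ G₁, g = u₁ * mm * u₂ := fun g hg => f4_NF hK g hg
  obtain ⟨g, hg, w, hw, hcell, hmax⟩ := exists_maxS chevF4 hB hA hC hBN hW G₁ hG₁ t ht
  have hyG : g * t * g⁻¹ ∈ G₁ := Subgroup.mul_mem _ (Subgroup.mul_mem _ hg ht) (Subgroup.inv_mem _ hg)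
  obtain ⟨b, hb, h0, hh, u, hu, hmG, e⟩ :=
    cell_normal_formS chevF4 hB hA hC hBN hW G₁ hNF _ hyG w hw hcell
  have hbG : b ∈ G₁ := hb.2
  have hbgG : b * g ∈ G₁ := Subgroup.mul_mem _ hbG hg
  have e' : (b * g) * t * (b * g)⁻¹ = h0 * (h8nWU chevF4 hB w : GL chevF4.Idx K) * u := by
    rw [← e]; group
  obtain ⟨k, hk, hkw⟩ := f4_equi hK hB w hw h0 hh hmG
  obtain ⟨h1, hh1, e1⟩ := f4_repw hB hA hBN hW hO2 w (h8ofW k) hw (h8of_F2 k) hkw h0 hh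
  rw [e1] at e' hmG
  have hlen : len chevF4 hA w = len chevF4 hA (h8ofW k) :=
    f4_len_congr hA w (h8ofW k) hw (h8of_F2 k) hkw
  have hmax1 : IsMaxS chevF4 hB hA G₁ t (h8ofW k) := by
    intro g' hg' w' hw' hc'
    rw [← hlen]
    exact hmax g' hg' w' hw' hc'
  have hmax' := isMaxS_conj chevF4 hB hA G₁ t (b * g) hbgG (h8ofW k) hmax1
  rw [e'] at hmax'
  have hsq' : (h1 * (h8nWU chevF4 hB (h8ofW k) : GL chevF4.Idx K) * u) *
      (h1 * (h8nWU chevF4 hB (h8ofW k) : GL chevF4.Idx K) * u) = 1 := by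
    rw [← e']
    exact conjN_sq _ _ hsq
  have hyG' : h1 * (h8nWU chevF4 hB (h8ofW k) : GL chevF4.Idx K) * u ∈ G₁ := by
    rw [← e']
    exact Subgroup.mul_mem _ (Subgroup.mul_mem _ hbgG ht) (Subgroup.inv_mem _ hbgG)
  have hinv := invol_sq chevF4 hB hA hC hBN hW hO2 (h8ofW k) (h8of_F2 k) h1 u hh1 hu hsq'
  have hkI := asm_tab3 k hk hinv
  -- the final step, once `u = 1`
  have hfin : ∀ k', k' = k → k' ∈ [13, 14, 15] → u = 1 →
      ∃ g ∈ G₁, g * t * g⁻¹ = h8nWU chevF4 hB (h8ofW 1) ∨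
        g * t * g⁻¹ = h8nWU chevF4 hB (h8ofW 2) := by
    intro k' hk' hk13 hu1
    subst hk'
    rw [hu1, mul_one] at e' hsq'
    obtain ⟨g2, hg2, e2⟩ := asm_final hK hB k' hk13 h1 hh1 hmG hsq'
    refine ⟨g2 * (b * g), Subgroup.mul_mem _ hg2 hbgG, ?_⟩
    have e3 : g2 * (b * g) * t * (g2 * (b * g))⁻¹ = g2 * ((b * g) * t * (b * g)⁻¹) * g2⁻¹ := by
      group
    rw [e3, e']
    exact e2
  simp only [List.mem_cons, List.not_mem_nil, or_false] at hkI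
  rcases hkI with rfl | rfl | rfl | rfl | rfl | rfl | rfl | rfl | rfl | rfl
  · -- k = 0 : all conjugates lie in `B`
    exfalso
    apply ht1
    apply h8tf_core hK
    intro g' hg'
    have hyG2 : g' * t * g'⁻¹ ∈ chevF4.group K :=
      hG₁ (Subgroup.mul_mem _ (Subgroup.mul_mem _ hg' ht) (Subgroup.inv_mem _ hg'))
    obtain ⟨w', hw', hc'⟩ := exists_cell chevF4 hB hA hC hBN hW _ hyG2
    have h1' := hmax1 g' hg' w' hw' hc'
    rw [len_of_id chevF4 hA (h8ofW 0) (h8of_F2 0) asm_tab0] at h1'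
    exact cell_len_zero chevF4 hB hB0 hA hBN hW hO2 w' hw' (by omega) _ hc'
  · exact (asm_jump hK hB hA 1 1 (by simp) h1 u hh1 hu hsq' hmax').elim
  · exact (asm_jump hK hB hA 2 0 (by simp) h1 u hh1 hu hsq' hmax').elim
  · exact (asm_jump hK hB hA 5 1 (by simp) h1 u hh1 hu hsq' hmax').elim
  · exact (asm_jump hK hB hA 6 0 (by simp) h1 u hh1 hu hsq' hmax').elim
  · exact (asm_jump hK hB hA 9 1 (by simp) h1 u hh1 hu hsq' hmax').elim
  · exact (asm_jump hK hB hA 10 0 (by simp) h1 u hh1 hu hsq' hmax').elim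
  · exact hfin 13 rfl (by simp)
      (asm_top hK hB hA 13 1 [25, 27, 28, 30] (by simp) h1 u hh1 hu hmG hyG' hsq' hmax')
  · exact hfin 14 rfl (by simp)
      (asm_top hK hB hA 14 0 [24, 33] (by simp) h1 u hh1 hu hmG hyG' hsq' hmax')
  · refine hfin 15 rfl (by simp) ?_
    exact asm_XL_nil u (f4_supp hB 15 [] (by simp) h1 u hh1 hu hsq')

end Cfsg.Agent.Lib.helper8.TWIF4
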