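import Mathlib
import Cfsg.Prelude.Def_ChevStructure
import Cfsg.Prelude.Def_ChevF4
import Cfsg.Prelude.Def_LieTwisted
import Cfsg.Agent.Lib.helper8.ChevTF32
import Cfsg.Agent.Lib.helper8.ChevTI13
import Cfsg.Agent.Lib.helper8.ChevTJ7
import Cfsg.Agent.Lib.helper8.TWIF4A
import Cfsg.Agent.Lib.helper8.TWIF4C
import Cfsg.Agent.Lib.helper8.TWIF4F
import Cfsg.Agent.Lib.Helper22.TWIF4RANK
import Cfsg.Agent.Lib.Helper26.TWIF4COUNTgen

/-!
# Project TWIF4 (S2184): the two counts
-/

set_option autoImplicit false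

namespace Cfsg.Agent.Lib.helper8.TWIF4

open Cfsg.Lie Cfsg.Lie.ChevalleyDatum Cfsg.Agent.Lib.helper8 Cfsg.Agent.Lib.helper14
  Cfsg.Agent.Lib.helper14.INV Cfsg.Agent.Lib.helper14.TWI

universe u

/-- `²F₄(q)` has exactly two classes of involutions -/
theorem asm_f4_count {K : Type u} [Field K] [Fintype K] (m : ℕ)
    (hK : Fintype.card K = 2 ^ (2 * m + 1)) :
    (ConjClasses.mk '' {g : ↥(twistedF4 K (2 ^ m)) | orderOf g = 2}).ncard = 2 := by
  have hD : chevF4 ∈ [chevG2, chevB2, chevD4, chevF4, chevE6, chevE7, chevE8] := by simp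
  have hB := h8base_all.{u} chevF4 hD
  have := h8tf_char2 hK
  exact twif4count_sub (twistedF4 K (2 ^ m)) (h8nWU chevF4 hB (h8ofW 1) : GL chevF4.Idx K)
    (h8nWU chevF4 hB (h8ofW 2) : GL chevF4.Idx K)
    (h8tf_nk_mem hK hB 1) (h8tf_nk_mem hK hB 2)
    (f4_nsq hB 1 (by simp)) (f4_nne hB 1 (by simp))
    (f4_nsq hB 2 (by simp)) (f4_nne hB 2 (by simp))
    (f4_nonconj hB)
    (fun t ht h2 h1 => f4_invol_conj hK hB t ht h2 h1)

/-- the Tits group has exactly two classes of involutions -/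
theorem asm_tits_count :
    (ConjClasses.mk '' {g : TitsGroup | orderOf g = 2}).ncard = 2 := by
  have hD : chevF4 ∈ [chevG2, chevB2, chevD4, chevF4, chevE6, chevE7, chevE8] := by simp
  have hB := h8base_all.{0} chevF4 hD
  have hK : Fintype.card (ZMod 2) = 2 ^ (2 * 0 + 1) := by rw [ZMod.card]; rfl
  have hm1 : ∀ k, (h8nWU chevF4 hB (h8ofW k) : GL chevF4.Idx (ZMod 2)) ∈ twistedF4 (ZMod 2) 1 := by
    intro k
    have := h8tf_nk_mem hK hB k
    simpa using this
  let a : ↥(twistedF4 (ZMod 2) 1) := ⟨_, hm1 1⟩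
  let b : ↥(twistedF4 (ZMod 2) 1) := ⟨_, hm1 2⟩
  have ha : orderOf a = 2 :=
    twif4count_order a (Subtype.ext (by simpa [a] using f4_nsq hB 1 (by simp)))
      (fun h => f4_nne hB 1 (by simp) (by simpa [a] using congrArg Subtype.val h))
  have hb : orderOf b = 2 :=
    twif4count_order b (Subtype.ext (by simpa [b] using f4_nsq hB 2 (by simp)))
      (fun h => f4_nne hB 2 (by simp) (by simpa [b] using congrArg Subtype.val h))
  have hnc : ¬ IsConj a b := by
    intro h
    obtain ⟨c, hc⟩ := isConj_iff.mp h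
    exact f4_nonconj hB ⟨c.val, by simpa [a, b] using congrArg Subtype.val hc⟩
  have hall : ∀ t : ↥(twistedF4 (ZMod 2) 1), orderOf t = 2 → IsConj t a ∨ IsConj t b := by
    intro t ht
    have ht2 : t.val * t.val = 1 := by
      have h0 : t ^ orderOf t = 1 := pow_orderOf_eq_one t
      rw [ht, pow_two] at h0
      simpa using congrArg Subtype.val h0
    have ht1 : t.val ≠ 1 := by
      intro h
      have : t = 1 := Subtype.ext (by simpa using h)
      rw [this, orderOf_one] at ht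
      omega
    have htm : t.val ∈ twistedF4 (ZMod 2) (2 ^ 0) := by simp
    obtain ⟨g, hg, e | e⟩ := f4_invol_conj hK hB t.val htm ht2 ht1
    · left
      refine isConj_iff.mpr ⟨⟨g, by simpa using hg⟩, Subtype.ext ?_⟩
      simpa [a] using e
    · right
      refine isConj_iff.mpr ⟨⟨g, by simpa using hg⟩, Subtype.ext ?_⟩
      simpa [b] using e
  have hza : ∃ z : ↥(twistedF4 (ZMod 2) 1), z ∉ commutator ↥(twistedF4 (ZMod 2) 1) ∧
      z * a = a * z := by
    obtain ⟨z, hz, e⟩ := tits_cent hB 1 (by simp)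
    exact ⟨z, hz, Subtype.ext (by simpa [a] using e)⟩
  have hzb : ∃ z : ↥(twistedF4 (ZMod 2) 1), z ∉ commutator ↥(twistedF4 (ZMod 2) 1) ∧
      z * b = b * z := by
    obtain ⟨z, hz, e⟩ := tits_cent hB 2 (by simp)
    exact ⟨z, hz, Subtype.ext (by simpa [b] using e)⟩
  exact twif4count_idx2 (commutator ↥(twistedF4 (ZMod 2) 1)) h8tw_index_two a b ha hb
    h8tw_invol_mem hnc hall hza hzb

end Cfsg.Agent.Lib.helper8.TWIF4
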